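import Groth.Statements.S6480
import Groth.Agent.MilnorKLambda.Key.DimOne

set_option autoImplicit false
universe u
open CycAlg

namespace Groth.Agent.S6480

/-- Let A be a Noetherian local ring of dimension 1, a, b ∈ A nonzerodivisors, A without embedded
primes, M a finite A-module without embedded associated primes and with Supp(M) = Spec(A). Put I =
{x ∈ A | x·(a/b) ∈ A}, and write 𝔮_1, …, 𝔮_t for the minimal prime ideals of A. The conclusion is
that M contains (a/b)IM, and that the difference length_A(M/(a/b)IM) minus length_A(M/IM) equals the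
sum over i of length_{A_{𝔮_i}}(M_{𝔮_i}) multiplied by ord_{A/𝔮_i}(a/b). Encoding: I is the ideal
quotient (bA : aA); '(a/b)IM ⊂ M' is aIM ⊆ bM; (a/b)IM is the submodule of m with bm ∈ aIM (b acts
injectively on M); ord_{A/𝔮}(a/b) is CycAlg.ordFrac on κ(𝔮) = Frac(A/𝔮); lengths are truncated to ℕ
(they are finite here). -/
theorem result {A : Type u} [CommRing A] [IsNoetherianRing A] [IsLocalRing A] (hA : ringKrullDim A = 1) {M : Type u} [AddCommGroup M] [Module A M] [Module.Finite A M] (a b : A) (ha : a ∈ nonZeroDivisors A) (hb : b ∈ nonZeroDivisors A) (hAemb : ∀ p ∈ associatedPrimes A A, p ∈ minimalPrimes A) (hMemb : ∀ p ∈ associatedPrimes A M, p ∈ minimalPrimes A) (hsupp : Module.support A M = Set.univ) (I : Ideal A) (hI : I = (Ideal.span {b}).colon (Ideal.span {a})) (P : Submodule A M) (hP : P = Submodule.comap (LinearMap.lsmul A M b) ((Ideal.span {a} * I) • (⊤ : Submodule A M))) : (Ideal.span {a} * I) • (⊤ : Submodule A M) ≤ LinearMap.range (LinearMap.lsmul A M b) ∧ ((Module.length A (M ⧸ P)).toNat : ℤ) - ((Module.length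 A (M ⧸ I • (⊤ : Submodule A M))).toNat : ℤ) = ∑ᶠ (q : PrimeSpectrum A) (_ : q.asIdeal ∈ minimalPrimes A), ((Module.length (Localization.AtPrime q.asIdeal) (LocalizedModule q.asIdeal.primeCompl M)).toNat : ℤ) * CycAlg.ordFrac (A ⧸ q.asIdeal) q.asIdeal.ResidueField (algebraMap A q.asIdeal.ResidueField a / algebraMap A q.asIdeal.ResidueField b) := by
  open Pointwise in
    classical
    have : Ring.KrullDimLE 1 A := (Ring.krullDimLE_iff).2 hA.le
    have hmem : ∀ x : A, x ∈ I ↔ a * x ∈ Ideal.span {b} := fun x => by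
      subst hI
      rw [Submodule.mem_colon]
      constructor
      · intro h
        have := h a (Ideal.mem_span_singleton_self a)
        rwa [smul_eq_mul, mul_comm] at this
      · intro h z hz
        obtain ⟨c, rfl⟩ := Ideal.mem_span_singleton'.1 hz
        rw [smul_eq_mul, show x * (c * a) = c * (a * x) by ring]
        exact Ideal.mul_mem_left _ c h
    have hle : (Ideal.span {a} * I) • (⊤ : Submodule A M) ≤ LinearMap.range (LinearMap.lsmul A M b) := by
      rw [Submodule.smul_le]
      intro r hr m _
      obtain ⟨x, hx, rfl⟩ := Ideal.mem_span_singleton_mul.1 hr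
      obtain ⟨c, hc⟩ := Ideal.mem_span_singleton'.1 ((hmem x).1 hx)
      exact ⟨c • m, by rw [LinearMap.lsmul_apply, smul_smul, mul_comm, hc]⟩
    refine ⟨hle, ?_⟩
    set J : Submodule A M := I • (⊤ : Submodule A M)
    set fa := LinearMap.lsmul A M a
    set fb := LinearMap.lsmul A M b
    have hfa : Function.Injective fa := (injective_iff_map_eq_zero fa).2 fun m hm =>
      Groth.MilnorKLambda.Key.smul_injective hMemb ha hm
    have hfb : Function.Injective fb := (injective_iff_map_eq_zero fb).2 fun m hm =>
      Groth.MilnorKLambda.Key.smul_injective hMemb hb hm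
    have hPb : P.map fb = J.map fa := by
      rw [hP, Submodule.map_comap_eq, inf_eq_right.2 hle, ← smul_smul, Submodule.ideal_span_singleton_smul,
        Submodule.pointwise_smul_def]
      rfl
    -- lengths
    have ea : Module.length A (M ⧸ J.map fa) = Module.length A (M ⧸ J) + Module.length A (M ⧸ a • (⊤ : Submodule A M)) := by
      rw [← Groth.MilnorKLambda.Per.rl_top, ← Groth.MilnorKLambda.Per.rl_top, ← Groth.MilnorKLambda.Per.rl_top,
        Groth.MilnorKLambda.Per.rl_add (B := (⊤ : Submodule A M).map fa) (Submodule.map_mono le_top) le_top,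
        Groth.MilnorKLambda.Per.rl_map_of_injective fa hfa le_top]
      congr 2
    have eb : Module.length A (M ⧸ J.map fa) = Module.length A (M ⧸ P) + Module.length A (M ⧸ b • (⊤ : Submodule A M)) := by
      rw [← hPb, ← Groth.MilnorKLambda.Per.rl_top, ← Groth.MilnorKLambda.Per.rl_top, ← Groth.MilnorKLambda.Per.rl_top,
        Groth.MilnorKLambda.Per.rl_add (B := (⊤ : Submodule A M).map fb) (Submodule.map_mono le_top) le_top,
        Groth.MilnorKLambda.Per.rl_map_of_injective fb hfb le_top]
      congr 2
    have hmin := Groth.MilnorKLambda.Key.minimal_iff_ne_maximal hA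
    set s := ((minimalPrimes.finite_of_isNoetherianRing A).preimage
      (Function.Injective.injOn fun p q h => PrimeSpectrum.ext h : Set.InjOn PrimeSpectrum.asIdeal _)).toFinset
    have hs : ∀ p : PrimeSpectrum A, p ∈ s ↔ p.asIdeal ∈ minimalPrimes A := fun p => Set.Finite.mem_toFinset _
    obtain ⟨hta, sa⟩ := Groth.MilnorKLambda.Key.length_smul_quot hA hsupp hMemb ha s hs
    obtain ⟨htb, sb⟩ := Groth.MilnorKLambda.Key.length_smul_quot hA hsupp hMemb hb s hs
    have hbI : b • (⊤ : Submodule A M) ≤ J := by
      intro z hz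
      obtain ⟨m, -, rfl⟩ := Submodule.mem_smul_pointwise_iff_exists _ _ _ |>.1 hz
      exact Submodule.smul_mem_smul ((hmem b).2 (Ideal.mul_mem_left _ _ (Ideal.mem_span_singleton_self b))) Submodule.mem_top
    have htJ : Module.length A (M ⧸ J) ≠ ⊤ := ne_top_of_le_ne_top htb
      (Module.length_le_of_surjective (Submodule.factor hbI) (Submodule.factor_surjective hbI))
    have htP : Module.length A (M ⧸ P) ≠ ⊤ := fun h => by
      rw [eb, h, top_add] at ea
      exact (Groth.MilnorKLambda.Per.add_ne_top_iff'.2 ⟨htJ, hta⟩) ea.symm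
    have e := congrArg (fun n : ℕ∞ => (n.toNat : ℤ)) (ea.symm.trans eb)
    simp only [Groth.MilnorKLambda.Per.toNat_add_int htJ hta, Groth.MilnorKLambda.Per.toNat_add_int htP htb] at e
    rw [finsum_cond_eq_sum_of_cond_iff _ fun {p} _ => (hs p).symm]
    rw [show ((Module.length A (M ⧸ P)).toNat : ℤ) - (Module.length A (M ⧸ J)).toNat =
      (Module.length A (M ⧸ a • (⊤ : Submodule A M))).toNat - (Module.length A (M ⧸ b • (⊤ : Submodule A M))).toNat by linarith,
      sa, sb, ← Finset.sum_sub_distrib]
    refine Finset.sum_congr rfl fun p hp => ?_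
    have : Ring.KrullDimLE 1 (A ⧸ p.asIdeal) := (Ring.krullDimLE_iff).2
      ((ringKrullDim_le_of_surjective _ Ideal.Quotient.mk_surjective).trans hA.le)
    have hne : ∀ {x : A}, x ∈ nonZeroDivisors A → Ideal.Quotient.mk p.asIdeal x ≠ 0 := fun hx h =>
      notMem_nonZeroDivisors_of_mem_mem_minimalPrimes (Ideal.Quotient.eq_zero_iff_mem.1 h) ((hs p).1 hp) hx
    rw [← Ideal.algebraMap_quotient_residueField_mk, ← Ideal.algebraMap_quotient_residueField_mk,
      Groth.RefRank.ordFrac_div' (hne ha) (hne hb), mul_sub]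

end Groth.Agent.S6480
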