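import Groth.Statements.S6483
import Groth.Agent.CycInter.Envelope

set_option autoImplicit false
universe u
open CategoryTheory AlgebraicGeometry
open CategoryTheory.Limits
open Cyc

namespace Groth.Agent.S6483

/-- Let f : Y → X be an envelope and p, q : Y ×_X Y → Y the two projections. If a k-cycle β on Y has
f_*β ∼_rat 0 on X, then β ∼_rat p_*γ − q_*γ for some k-cycle γ on Y ×_X Y. Together with
surjectivity of f_* and f_* p_* = f_* q_*, this is the exact sequence CH_k(Y ×_X Y) → CH_k(Y) →
CH_k(X) → 0. An envelope is a proper, completely decomposed morphism (every point of the target has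
a point over it with trivial residue field extension; this prelude's Cyc.IsCompletelyDecomposed).
Here a pair (X, δ) with Cyc.IsSetup plays the role of a scheme locally of finite type over the base
(S, δ) (X locally Noetherian with universally catenary local rings, δ a dimension function), and
Cyc.DeltaCompat records that the dimension function upstairs is the induced one. -/
theorem result (X Y : Scheme.{u}) (δ : X → ℤ) (δY : Y → ℤ) (hX : Cyc.IsSetup X δ) (hY : Cyc.IsSetup Y δY) (f : Y ⟶ X) [IsProper f] (hcd : Cyc.IsCompletelyDecomposed f) (hδ : Cyc.DeltaCompat f δY δ) (δ2 : ↥(pullback f f) → ℤ) (h2 : Cyc.IsSetup (pullback f f) δ2) (hδ2 : Cyc.DeltaCompat (pullback.fst f f) δ2 δY) (k : ℤ) (β : AlgebraicCycle Y ℤ) (hβ : β ∈ Cyc.Zk Y δY k) (h0 : Cyc.RatEquivZero δ k (AlgebraicCycle.map f δY δ β)) : ∃ γ : AlgebraicCycle (pullback f f) ℤ, γ ∈ Cyc.Zk (pullback f f) δ2 k ∧ Cyc.RatEquiv δY k β (AlgebraicCycle.map (pullback.fst f f) δ2 δY γ - AlgebraicCycle.map (pullback.snd f f) δ2 δY γ) := by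
  exact Groth.CycInter.Env.exists_ratEquiv_map_sub_map hX hY f hcd hδ hδ2 k β hβ h0

end Groth.Agent.S6483
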