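import Groth.Statements.S6485
import Mathlib

set_option autoImplicit false
universe u
open IntMult

namespace Groth.Agent.S6485

open MvPolynomial

theorem det_notMem_vars {R : Type u} [CommRing R] {τ : Type} {m : ℕ} (M : Matrix (Fin m) (Fin m) τ) (v : τ)
    (h : ∀ i j, M i j ≠ v) : v ∉ (M.map (fun w => (X w : MvPolynomial τ R))).det.vars := by
  classical
  have : (M.map (fun w => (X w : MvPolynomial τ R))).det ∈ supported R {w | w ≠ v} := by
    rw [Matrix.det_apply]
    refine Subalgebra.sum_mem _ fun σ _ => ?_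
    refine zsmul_mem (Subalgebra.prod_mem _ fun i _ => ?_) _
    exact Algebra.subset_adjoin ⟨_, h _ _, rfl⟩
  exact fun hv => (mem_supported.mp this hv) rfl

theorem irreducible_generic (k : Type u) [Field k] : ∀ (m : ℕ) (τ : Type) (ι : Fin (m+1) → Fin (m+1) → τ)
    (_ : Function.Injective fun p : Fin (m+1) × Fin (m+1) => ι p.1 p.2),
    Irreducible ((Matrix.of fun i j => ι i j).map (fun w => (X w : MvPolynomial τ k))).det := by
  intro m
  induction m with
  | zero =>
    intro τ ι _
    rw [Matrix.det_fin_one, Matrix.map_apply, Matrix.of_apply]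
    exact (X_prime).irreducible
  | succ m ih =>
    intro τ ι hι
    classical
    set v := ι 0 0 with hv
    set A := (Matrix.of fun i j => ι i j).map (fun w => (X w : MvPolynomial τ k)) with hA
    have hsub : ∀ j : Fin (m+2), A.submatrix Fin.succ j.succAbove =
        (Matrix.of fun a b => ι a.succ (j.succAbove b)).map (fun w => (X w : MvPolynomial τ k)) := fun j => rfl
    have hfree : ∀ j : Fin (m+2), v ∉ (A.submatrix Fin.succ j.succAbove).det.vars := fun j => by
      rw [hsub]
      exact det_notMem_vars _ _ fun a b h => Fin.succ_ne_zero a (congrArg Prod.fst (@hι (a.succ, j.succAbove b) (0, 0) h))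
    set N := (A.submatrix Fin.succ (0 : Fin (m+2)).succAbove).det with hN
    have hNirr : Irreducible N := by
      rw [hN, hsub]
      refine ih τ _ fun p q h => ?_
      have h2 := @hι (p.1.succ, (0 : Fin (m+2)).succAbove p.2) (q.1.succ, (0 : Fin (m+2)).succAbove q.2) h
      exact Prod.ext (Fin.succ_injective _ (congrArg Prod.fst h2)) (Fin.succAbove_right_injective (p := (0 : Fin (m+2))) (congrArg Prod.snd h2))
    have hdet : A.det = X v * N + ∑ j : Fin (m+1), (-1) ^ (j.succ : ℕ) * A 0 j.succ * (A.submatrix Fin.succ j.succ.succAbove).det := by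
      rw [Matrix.det_succ_row_zero, Fin.sum_univ_succ]
      congr 1
      simp [hA, hv, hN]
    have hrest : pderiv v (∑ j : Fin (m+1), (-1) ^ (j.succ : ℕ) * A 0 j.succ * (A.submatrix Fin.succ j.succ.succAbove).det) = 0 := by
      rw [map_sum]
      refine Finset.sum_eq_zero fun j _ => ?_
      have hne : ι 0 j.succ ≠ v := fun h => Fin.succ_ne_zero j (congrArg Prod.snd (@hι (0, j.succ) (0, 0) h))
      rw [show A 0 j.succ = X (ι 0 j.succ) from rfl, pderiv_mul, pderiv_mul, pderiv_eq_zero_of_notMem_vars (hfree j.succ)]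
      simp [pderiv_X_of_ne hne, Derivation.leibniz_pow]
    have hpd : pderiv v A.det = N := by
      rw [hdet, map_add, hrest, add_zero, pderiv_mul, pderiv_X_self, pderiv_eq_zero_of_notMem_vars (hfree 0)]
      ring
    -- specialisation
    let ρ : τ → k := fun w => if ∃ i, w = ι i (Equiv.swap (0 : Fin (m+2)) 1 i) then 1 else 0
    have hρ : A.map (eval ρ) = (Equiv.swap (0 : Fin (m+2)) 1).permMatrix k := by
      ext i j
      simp only [hA, Matrix.map_apply, Matrix.of_apply, eval_X, ρ, Equiv.Perm.permMatrix, PEquiv.toMatrix_apply,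
        Equiv.toPEquiv_apply, Option.mem_some_iff]
      refine if_congr ⟨fun ⟨i', h⟩ => ?_, fun h => ⟨i, by rw [h]⟩⟩ rfl rfl
      have := @hι (i, j) (i', Equiv.swap (0 : Fin (m+2)) 1 i') h
      obtain ⟨h1, h2⟩ := Prod.ext_iff.mp this
      exact (h2.trans (by rw [show i = i' from h1])).symm
    have hdet0 : eval ρ A.det ≠ 0 := by
      rw [RingHom.map_det, RingHom.mapMatrix_apply, hρ, Matrix.det_permutation]
      exact ((Units.isUnit _).map (Int.castRingHom k)).ne_zero
    have hN0 : eval ρ N = 0 := by
      rw [hN, RingHom.map_det, RingHom.mapMatrix_apply, ← Matrix.submatrix_map, hρ]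
      -- the row of `1` has its only entry in column `0`
      refine Matrix.det_eq_zero_of_row_eq_zero 0 fun j => ?_
      simp [Equiv.Perm.permMatrix, PEquiv.toMatrix_apply, Equiv.toPEquiv_apply, (Fin.succ_ne_zero j).symm]
    have hnd : ¬ N ∣ A.det := fun ⟨c, hc⟩ => hdet0 (by rw [hc, map_mul, hN0, zero_mul])
    have hne : A.det ≠ 0 := fun h => hdet0 (by rw [h, map_zero])
    have hNne : N ≠ 0 := hNirr.ne_zero
    have hdeg : degreeOf v A.det ≤ 1 := by
      rw [hdet]
      refine (degreeOf_add_le _ _ _).trans (max_le ((degreeOf_mul_le _ _ _).trans ?_) ((degreeOf_sum_le _ _ _).trans (Finset.sup_le fun j _ => ?_)))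
      · have : degreeOf v N = 0 := by_contra fun h => hfree 0 (mem_vars_iff_degreeOf_ne_zero.mpr h)
        rw [this, add_zero, degreeOf_X]
        split_ifs <;> simp
      · have hz : degreeOf v (A.submatrix Fin.succ j.succ.succAbove).det = 0 :=
          by_contra fun h => hfree _ (mem_vars_iff_degreeOf_ne_zero.mpr h)
        have hne : v ≠ ι 0 j.succ := fun h => Fin.succ_ne_zero j (congrArg Prod.snd (@hι (0, j.succ) (0, 0) h.symm))
        refine (degreeOf_mul_le _ _ _).trans ?_
        rw [hz, add_zero, show A 0 j.succ = X (ι 0 j.succ) from rfl]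
        refine (degreeOf_mul_le _ _ _).trans ?_
        rw [degreeOf_X, if_neg hne, add_zero]
        refine (degreeOf_pow_le _ _ _).trans ?_
        rw [show (-1 : MvPolynomial τ k) = C (-1) by rw [map_neg, map_one], degreeOf_C, mul_zero]
        exact Nat.zero_le _
    refine ⟨fun hu => ?_, fun f g hfg => ?_⟩
    · obtain ⟨r, hr, hru⟩ := MvPolynomial.isUnit_iff_eq_C_of_isReduced.mp hu
      rw [hru, pderiv_C] at hpd
      exact hNne hpd.symm
    have key : ∀ f g, A.det = f * g → degreeOf v f = 0 → IsUnit f := by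
      intro f g hfg hf
      have hfv : v ∉ f.vars := fun h => by
        exact mem_vars_iff_degreeOf_ne_zero.mp h hf
      have : N = f * pderiv v g := by
        rw [← hpd, hfg, pderiv_mul, pderiv_eq_zero_of_notMem_vars hfv]; ring
      rcases hNirr.isUnit_or_isUnit this with h | h
      · exact h
      · exfalso
        obtain ⟨c, hc⟩ := h.exists_left_inv
        refine hnd ⟨c * g, ?_⟩
        rw [hfg, this, mul_assoc, ← mul_assoc (pderiv v g) c g, mul_comm (pderiv v g) c, hc, one_mul]
    have hf0 : f ≠ 0 := fun h => hne (by rw [hfg, h, zero_mul])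
    have hg0 : g ≠ 0 := fun h => hne (by rw [hfg, h, mul_zero])
    rw [hfg, degreeOf_mul_eq hf0 hg0] at hdeg
    rcases Nat.eq_zero_or_pos (degreeOf v f) with h | h
    · exact Or.inl (key f g hfg h)
    · exact Or.inr (key g f (by rw [hfg, mul_comm]) (by omega))


/-- Let k be a field and n ≥ 1. Then the determinant of the generic matrix (x_{ij})_{1 ≤ i, j ≤ n} is an
irreducible element of the polynomial ring k[x_{ij}] (Mathlib's Matrix.mvPolynomialX is the generic
matrix over MvPolynomial (Fin n × Fin n) k). -/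
theorem result (k : Type u) [Field k] (n : ℕ) (hn : 1 ≤ n) : Irreducible (Matrix.mvPolynomialX (Fin n) (Fin n) k).det := by
  obtain ⟨m, rfl⟩ : ∃ m, n = m + 1 := ⟨n - 1, by omega⟩
  exact irreducible_generic k m (Fin (m+1) × Fin (m+1)) (fun i j => (i, j)) fun p q h => h
end Groth.Agent.S6485
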