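import Groth.Statements.S6487
import Groth.Agent.CurveBridge.RationalTwist
import Groth.Agent.CurveBridge.BaseChange
import Groth.Agent.HilbStab.BC.Euler

set_option autoImplicit false
universe u
open CategoryTheory CategoryTheory.Limits AlgebraicGeometry
open scoped Groth.CurveBridge
open PicF

namespace Groth.Agent.S6487

/-- Let k be a separably closed field, X a smooth projective curve over k, K/k a field extension and L
an invertible sheaf on X_K. Then there is an invertible sheaf L_0 on X with dim_K H^0(X_K, L ⊗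
L_0|_{X_K}) = 1 and H^1(X_K, L ⊗ L_0|_{X_K}) = 0. The base change X_K is given as any pullback
square over Spec K → Spec k with its K-structure; L_0|_{X_K} is the pullback module and ⊗ is
CohB1.tensorMod; proper replaces projective (equivalent for curves over a field). -/
theorem result (k : Type u) [Field k] [IsSepClosed k] (X : Scheme.{u}) [X.Over (Spec (CommRingCat.of k))] (hX : Curve.IsSmoothProperCurve k X (X ↘ Spec (CommRingCat.of k))) (K : Type u) [Field K] [Algebra k K] (XK : Scheme.{u}) [XK.Over (Spec (CommRingCat.of K))] (g : XK ⟶ X) (hpb : IsPullback g (XK ↘ Spec (CommRingCat.of K)) (X ↘ Spec (CommRingCat.of k)) (Spec.map (CommRingCat.ofHom (algebraMap k K)))) (L : XK.Modules) (hL : PicF.IsInvertible L) : ∃ L₀ : X.Modules, PicF.IsInvertible L₀ ∧ Module.finrank K (Coh.HH XK (CohB1.tensorMod L ((Scheme.Modules.pullback g).obj L₀)) 0) = 1 ∧ Subsingleton (Coh.HH XK (CohB1.tensorMod L ((Scheme.Modules.pullback g).obj L₀)) 1) := by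
  classical
  obtain ⟨hpr, hsm, hint, hdim⟩ := hX
  haveI := hpr
  haveI := hsm
  haveI := hint
  have h : Groth.CurveBridge.IsRegCurve X := Groth.CurveBridge.isRegCurve_of_smooth k X hdim
  obtain ⟨hinf, s₀, hs₀⟩ := Groth.CurveBridge.RationalTwist.infinite_rational k X h
  have h0 := Groth.CurveBridge.finrank_h0_of_section k s₀ hs₀
  have hK := Groth.CurveBridge.isFunctionField_field k X hdim h0
  haveI := Groth.AlgGrp1.geometricallyConnected_of_point (X ↘ Spec (CommRingCat.of k)) s₀ hs₀
  haveI : IsProper (XK ↘ Spec (CommRingCat.of K)) := MorphismProperty.of_isPullback hpb inferInstance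
  haveI : Smooth (XK ↘ Spec (CommRingCat.of K)) := MorphismProperty.of_isPullback hpb inferInstance
  haveI : ConnectedSpace XK :=
    GeometricallyConnected.geometrically_connectedSpace (f := X ↘ Spec (CommRingCat.of k))
      (Spec.map (CommRingCat.ofHom (algebraMap k K))) _ _ hpb
  haveI : IsIntegral XK := Groth.CurveBridge.isIntegral_of_smooth K XK
  have hdimK : topologicalKrullDim XK = 1 := by
    rw [← hdim, ← Groth.FBaseGeom.dim_bc (X ↘ Spec (CommRingCat.of k)) K]
    exact IsHomeomorph.topologicalKrullDim_eq _ hpb.isoPullback.hom.homeomorph.isHomeomorph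
  have hY : Groth.CurveBridge.IsRegCurve XK := Groth.CurveBridge.isRegCurve_of_smooth K XK hdimK
  haveI : CompactSpace X := QuasiCompact.compactSpace_of_compactSpace (X ↘ Spec (CommRingCat.of k))
  haveI := Groth.HilbStab.BC.isSeparated_of_proper k X
  have hfr : ∀ (M : X.Modules), PicF.IsInvertible M → ∀ p : ℕ,
      Module.finrank K (Coh.HH XK ((Scheme.Modules.pullback g).obj M) p) =
        Module.finrank k (Coh.HH X M p) := fun M hM p => by
    haveI := (Groth.EulerDeg.isCoh_of_isInvertible hM).1
    exact Groth.HilbStab.BC.finrank_HH_baseChange hpb M p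
  have h0K : Module.finrank K (Coh.HH XK (Coh.structureModule XK) 0) = 1 := by
    rw [← h0, ← hfr _ (Groth.EulerDeg.isInvertible_structureModule X) 0]
    exact (Groth.EulerDeg.finrank_congr (Groth.PicAux.pullback_structure_iso g).some 0).symm
  have hKY := Groth.CurveBridge.isFunctionField_field K XK hdimK h0K
  obtain ⟨φ, A₀, hφ, -, -, -⟩ := Groth.CurveBridge.exists_divEmb hY hKY hL
  obtain ⟨L₀, A, ψ, hL₀, hψ, hd, hl⟩ := Groth.CurveBridge.RationalTwist.exists_twist h hK g hY hKY hfr
    A₀ hinf fun hg P hP => by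
      obtain ⟨M, χ, hM, hχ⟩ := Groth.CurveBridge.RationalTwist.exists_line h hK (Finsupp.single P 1)
      obtain ⟨m0, md, -⟩ := Groth.CurveBridge.numerics_of_divEmb h hK hM hχ
      rw [Groth.FunFld1.deg_single, hP] at md
      have hle := Groth.CurveBridge.finrank_h0_le_deg_field k X hdim h0 hM hg (by omega)
      omega
  have hgK := Groth.PicAux.isInvertible_pullback g hL₀
  obtain ⟨χ, hχ⟩ := Groth.CurveBridge.exists_divEmb_tensor hY hL hgK hφ hψ
  have hT := Groth.PicAux.isInvertible_tensorMod hL hgK
  obtain ⟨n0, nd, n1⟩ := Groth.CurveBridge.numerics_of_divEmb hY hKY hT hχ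
  rw [hl] at n0 n1
  rw [hd, ← Groth.CurveBridge.genus_eq hY hKY] at n1
  refine ⟨L₀, hL₀, n0, ?_⟩
  haveI : IsNoetherian XK := Groth.EulerDeg.isNoetherian_of_proper K XK
  haveI := Groth.EulerDeg.finite_HH K XK (Groth.EulerDeg.isCoh_of_isInvertible hT) 1
  refine Module.finrank_zero_iff.1 (?_ : Module.finrank K _ = 0)
  omega

end Groth.Agent.S6487
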