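import Groth.Statements.S6489
import Groth.Agent.CycInter.PbRows

set_option autoImplicit false
universe u
open CategoryTheory CategoryTheory.Limits AlgebraicGeometry TopologicalSpace Opposite
open scoped HomogeneousIdeal
open Cyc

namespace Groth.Agent.S6489

/-- Let ℰ be finite locally free of rank r on X and (π : P → X, O_P(1)) the associated projective
bundle. For α ∈ CH_k(X), the class π_*(c_1(O_P(1))^s ∩ π^*α) ∈ CH_{k+r−1−s}(X) is 0 for s < r − 1
and equals α for s = r − 1. Projective bundle data: ℰ quasi-coherent, finite locally free of rank r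
≥ 1; 𝒮 = Sym(ℰ) as a graded quasi-coherent algebra (RelProj.IsGrSymAlg); (P, p, chart) its relative
Proj (RelProj.IsRelProj); (O1, lam) its O_P(1) (RelProj.IsRelTwist with n = 1); O_P(1) invertible
and p proper, which hold for projective bundles, are carried as hypotheses; δP is the induced
dimension function (Cyc.IsSetup, Cyc.DeltaCompat). π^* is Cyc.pullFun with relative dimension r − 1,
π_* is Mathlib's pushforward of cycles, and c_1(O_P(1))^s ∩ − is the s-fold iterate of Cyc.c1CapFun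
with any nonzero rational sections. Here a pair (X, δ) with Cyc.IsSetup plays the role of a scheme
locally of finite type over the base (S, δ) (X locally Noetherian with universally catenary local
rings, δ a dimension function), and Cyc.DeltaCompat records that the dimension function upstairs is
the induced one. -/
theorem result (X : Scheme.{u}) (δ : X → ℤ) (hX : Cyc.IsSetup X δ) (E : X.Modules) (hq : Coh.IsQCoh E) (r : ℕ) (hr : 1 ≤ r) (hE : FlatMod.IsFinLocFreeOfRank r E) (𝒮 : RelProj.QCGrAlg X) (j : E ⟶ 𝒮.toModule) (hS : RelProj.IsGrSymAlg E 𝒮 j) (P : Scheme.{u}) (p : P ⟶ X) (chart : ∀ (U : X.Opens) (hU : IsAffineOpen U), (((p ⁻¹ᵁ U : P.Opens) : Scheme.{u}) ≅ Proj (𝒮.deg U hU))) (hP : RelProj.IsRelProj 𝒮 p chart) (O1 : P.Modules) (lam : ∀ (U : X.Opens) (hU : IsAffineOpen U), O1 ⟶ (Scheme.Modules.pushforward (RelProj.emb p chart U hU)).obj (GrTwist.twist (𝒮.deg U hU) 1)) (hO1 : RelProj.IsRelTwist 𝒮 p chart 1 O1 lam) (hinv : PicF.IsInvertible O1) [IsProper p]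 (δP : P → ℤ) (hPs : Cyc.IsSetup P δP) (hδ : Cyc.DeltaCompat p δP δ) (k : ℤ) (α : AlgebraicCycle X ℤ) (hα : α ∈ Cyc.Zk X δ k) (t : ℕ → (ξ : P) → Cyc.secFibre O1 ξ) (ht : ∀ i ξ, t i ξ ≠ 0) (γ : ℕ → P → ℤ) (hγ0 : γ 0 = Cyc.pullFun p δP δ ((r : ℤ) - 1) ⇑α) (hγs : ∀ i : ℕ, γ (i + 1) = Cyc.c1CapFun δP O1 (γ i) (t i)) (s : ℕ) (β : AlgebraicCycle P ℤ) (hβ : ⇑β = γ s) : (s + 1 < r → Cyc.RatEquivZero δ (k + r - 1 - s) (AlgebraicCycle.map p δP δ β)) ∧ (s + 1 = r → Cyc.RatEquiv δ k (AlgebraicCycle.map p δP δ β) α) := by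
  obtain ⟨q, hPB⟩ := Groth.CycInter.PB.exists_isProjBundle hq hS hP hO1 hinv
  let B : Groth.CycInter.PB.Bun X δ := ⟨P, p, E, O1, q, hPB, r, hr, hE, δP, hX, hPs, hδ, inferInstance⟩
  obtain ⟨c, hc, hcγ, hct⟩ := B.exists_chain hα t ht γ hγ0 hγs s
  have e : β = c := DFunLike.coe_injective (hβ.trans hcγ.symm)
  subst e
  have hm := Bivar.cycMap_mem_Zk p δP δ _ hc
  have key : Groth.CycInter.PB.tcl (AlgebraicCycle.map p δP δ β) hm =
      B.push (B.Hpow s (B.pull (Groth.CycInter.PB.tcl α hα))) := by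
    rw [← hct]
    exact (Groth.CycInter.PB.pushT_tcl hX hPs p hδ β hc hm rfl).symm
  refine ⟨fun hs => ?_, fun hs => ?_⟩
  · refine Groth.CycInter.PB.ratEquivZero_of_tcl_eq_zero hX (hα := hm) (key.trans ?_)
    have h0 := DFunLike.congr_fun (B.push_Hpow_pull s (show s < r by omega)) (Groth.CycInter.PB.tcl α hα)
    rwa [if_neg (show ¬ s + 1 = r by omega)] at h0
  · have hm' : AlgebraicCycle.map p δP δ β ∈ Cyc.Zk X δ k := by
      have hk : k + (r : ℤ) - 1 - s = k := by omega
      simp only [show B.r = r from rfl] at hm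
      rwa [hk] at hm
    refine Groth.CycInter.PB.ratEquiv_of_tcl_eq hX (hα := hm') (hβ := hα)
      ((Groth.CycInter.PB.tcl_congr (by simp only [show B.r = r from rfl]; omega) rfl hm' hm).trans
        (key.trans ?_))
    have h0 := DFunLike.congr_fun (B.push_Hpow_pull s (show s < r by omega)) (Groth.CycInter.PB.tcl α hα)
    rwa [if_pos (show s + 1 = r from hs)] at h0

end Groth.Agent.S6489
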