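import Groth.Statements.S6491
import Groth.Agent.CycInter.PbRows
import Groth.Agent.CycInter.PbSpan

set_option autoImplicit false
universe u
open CategoryTheory CategoryTheory.Limits AlgebraicGeometry TopologicalSpace Opposite
open scoped HomogeneousIdeal
open Cyc

namespace Groth.Agent.S6491

/-- Every class in CH_{k+r−1}(P) is of the form π^*α_0 + c_1(O_P(1)) ∩ π^*α_1 + … + c_1(O_P(1))^{r−1} ∩
π^*α_{r−1} with α_i ∈ CH_{k+i}(X): for every (k + r − 1)-cycle β on P and any prescribed nonzero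
rational sections for the caps there are cycles α_i ∈ Z_{k+i}(X) with β ∼_rat Σ_i c_1(O_P(1))^i ∩
π^*α_i. Projective bundle data: ℰ quasi-coherent, finite locally free of rank r ≥ 1; 𝒮 = Sym(ℰ) as a
graded quasi-coherent algebra (RelProj.IsGrSymAlg); (P, p, chart) its relative Proj
(RelProj.IsRelProj); (O1, lam) its O_P(1) (RelProj.IsRelTwist with n = 1); O_P(1) invertible and p
proper, which hold for projective bundles, are carried as hypotheses; δP is the induced dimension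
function (Cyc.IsSetup, Cyc.DeltaCompat). π^* is Cyc.pullFun with relative dimension r − 1, π_* is
Mathlib's pushforward of cycles, and c_1(O_P(1))^s ∩ − is the s-fold iterate of Cyc.c1CapFun with
any nonzero rational sections. Here a pair (X, δ) with Cyc.IsSetup plays the role of a scheme
locally of finite type over the base (S, δ) (X locally Noetherian with universally catenary local
rings, δ a dimension function), and Cyc.DeltaCompat records that the dimension function upstairs is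
the induced one. -/
theorem result (X : Scheme.{u}) (δ : X → ℤ) (hX : Cyc.IsSetup X δ) (E : X.Modules) (hq : Coh.IsQCoh E) (r : ℕ) (hr : 1 ≤ r) (hE : FlatMod.IsFinLocFreeOfRank r E) (𝒮 : RelProj.QCGrAlg X) (j : E ⟶ 𝒮.toModule) (hS : RelProj.IsGrSymAlg E 𝒮 j) (P : Scheme.{u}) (p : P ⟶ X) (chart : ∀ (U : X.Opens) (hU : IsAffineOpen U), (((p ⁻¹ᵁ U : P.Opens) : Scheme.{u}) ≅ Proj (𝒮.deg U hU))) (hP : RelProj.IsRelProj 𝒮 p chart) (O1 : P.Modules) (lam : ∀ (U : X.Opens) (hU : IsAffineOpen U), O1 ⟶ (Scheme.Modules.pushforward (RelProj.emb p chart U hU)).obj (GrTwist.twist (𝒮.deg U hU) 1)) (hO1 : RelProj.IsRelTwist 𝒮 p chart 1 O1 lam) (hinv : PicF.IsInvertible O1) [IsProper p] (δP : P → ℤ) (hPs : Cyc.IsSetup P δP) (hδ : Cyc.DeltaCompat p δP δ) (k : ℤ) (t : Fin r → ℕ → (ξ : P) → Cyc.secFibre O1 ξ) (ht : ∀ i m ξ, t i m ξ ≠ 0) (β : AlgebraicCycle P ℤ) (hβ : β ∈ Cyc.Zk P δP (k + r - 1)) : ∃ (α : Fin r → AlgebraicCycle X ℤ) (γ : Fin r → ℕ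 → P → ℤ) (β' : AlgebraicCycle P ℤ), (∀ i : Fin r, α i ∈ Cyc.Zk X δ (k + ((i : ℕ) : ℤ))) ∧ (∀ i : Fin r, γ i 0 = Cyc.pullFun p δP δ ((r : ℤ) - 1) ⇑(α i)) ∧ (∀ (i : Fin r) (m : ℕ), γ i (m + 1) = Cyc.c1CapFun δP O1 (γ i m) (t i m)) ∧ (∀ x, β' x = ∑ i : Fin r, γ i (i : ℕ) x) ∧ Cyc.RatEquiv δP (k + r - 1) β β' := by
  obtain ⟨q, hPB⟩ := Groth.CycInter.PB.exists_isProjBundle hq hS hP hO1 hinv
  let B : Groth.CycInter.PB.Bun X δ := ⟨P, p, E, O1, q, hPB, r, hr, hE, δP, hX, hPs, hδ, inferInstance⟩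
  have hk : k + (r : ℤ) - 1 = k + ((B.r - 1 : ℕ) : ℤ) := by simp only [show B.r = r from rfl]; omega
  have hβ' : β ∈ Cyc.Zk P δP (k + ((B.r - 1 : ℕ) : ℤ)) := hk ▸ hβ
  obtain ⟨α, hα, hspan⟩ := B.span β hβ'
  let γ : Fin r → ℕ → P → ℤ := fun i m => Nat.rec (Cyc.pullFun p δP δ ((r : ℤ) - 1) ⇑(α i))
    (fun n prev => Cyc.c1CapFun δP O1 prev (t i n)) m
  have key := fun i : Fin r => B.exists_chain (hα i) (t i) (ht i) (γ i) rfl (fun _ => rfl) i
  choose c hc hcγ hct using key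
  have hc' : ∀ i, c i ∈ Cyc.Zk P δP (k + ((B.r - 1 : ℕ) : ℤ)) := fun i y hy => hc i y fun h => hy (by
    simp only [show B.r = r from rfl, show B.δP = δP from rfl] at h ⊢; push_cast at h; omega)
  have hm := Groth.CycInter.PB.sum_mem_Zk Finset.univ c hc'
  refine ⟨α, γ, ∑ i, c i, hα, fun i => rfl, fun i m => rfl, fun x => ?_, ?_⟩
  · rw [Function.locallyFinsuppWithin.coe_sum, Finset.sum_apply]
    exact Finset.sum_congr rfl fun i _ => congrFun (hcγ i) x
  · rw [hk]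
    refine Groth.CycInter.PB.ratEquiv_of_tcl_eq hPs (hα := hβ') (hβ := hm) ?_
    rw [Groth.CycInter.PB.tcl_sum _ c hc', hspan]
    exact Finset.sum_congr rfl fun i _ => (hct i).symm.trans
      (Groth.CycInter.PB.tcl_congr (by simp only [show B.r = r from rfl]; push_cast; omega) rfl _ _)

end Groth.Agent.S6491
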