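import Groth.Statements.S6494
import Groth.Agent.CycInter.FibreProd
import Groth.Agent.CycInter.ProdGen
import Groth.Agent.Misc1.RatMap.RatFunBasic
import Groth.Agent.S6450

set_option autoImplicit false
universe u
open CategoryTheory CategoryTheory.Limits AlgebraicGeometry
attribute [local instance] HasDerivedCategory.standard
open IntMult

namespace Groth.Agent.S6494

/-- Let X → P be a closed immersion of nonsingular varieties and C' ⊂ P × P^1 a closed subvariety of
dimension r + 1 with (1) the fibre C = C'_0 of dimension r (C' → P^1 dominant), (2) C' and X × P^1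
intersecting properly, (3) [C]_r and X intersecting properly. Then, with α = [C]_r · X and β = C' ·
(X × P^1), one has α = pr_{X,*}(β · (X × 0)). Stated on P × P^1: α = pr_*((C' · (X × P^1)) · (P ×
0)) as cycles on P. (The published statement takes the product of β with X × 0 on X × P^1 and pushes
it forward along X × P^1 → X; this row takes the product of C′ · (X × P^1) with P × 0 on P × P^1 and
pushes it forward along P × P^1 → P, which is the same cycle on P.) Encoding: P × P^1 =
CohB1.ProjSpaceOver 1 P with projection pr and zero section P1.sect P 0; dimension functions δP, δ'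
(transcendence degree); C'_0 is the pullback of C' along the zero section and [C]_r its r-cycle
(Cyc.subschemeFun); X × P^1 and P × 0 enter as the prime cycles of their generic points; products
are IntMult.interProd on P (dim N_P) and on P × P^1 (dim N_P + 1). Here P and X are nonsingular
varieties over the algebraically closed field K (smooth, separated, quasi-compact, integral), δP is
the dimension function on P (transcendence degree over K, recorded by Cyc.DeltaCompat to Spec K with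
value 0, together with Cyc.IsSetup), N_P = δP of the generic point of P and n = δP of the generic
point of X; proper intersection is IntMult.IntersectProperly / IntMult.ProperInt and products are
IntMult.interProd. -/
theorem result (K : Type u) [Field K] [IsAlgClosed K] (P : Scheme.{u}) (fP : P ⟶ Spec (CommRingCat.of K)) [Smooth fP] [IsSeparated fP] [QuasiCompact fP] [IsIntegral P] (δP : P → ℤ) (hP : Cyc.IsSetup P δP) (hδP : Cyc.DeltaCompat fP δP (fun _ => 0)) (NP : ℕ) (hNP : δP (genericPoint P) = NP) (δ' : ↥(CohB1.ProjSpaceOver 1 P) → ℤ) (hP' : Cyc.IsSetup (CohB1.ProjSpaceOver 1 P) δ') (hδ' : Cyc.DeltaCompat (CohB1.ProjSpaceOver.toBase 1 P) δ' δP) [QuasiCompact (CohB1.ProjSpaceOver.toBase 1 P)] (X : Scheme.{u}) (fX : X ⟶ Spec (CommRingCat.of K)) [Smooth fX] [IsSeparated fX] [QuasiCompact fX] [IsIntegral X] (ι : X ⟶ P) [IsClosedImmersion ι] (hι : ι ≫ fP = fX) (n : ℕ) (hn : δP (ι (genericPoint X)) = n) (ζX : ↥(CohB1.ProjSpaceOver 1 P)) (hζ1 : CohB1.ProjSpaceOver.toBase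 1 P ζX = ι (genericPoint X)) (hζ2 : δ' ζX = n + 1) (C' : Scheme.{u}) [IsIntegral C'] (ι' : C' ⟶ CohB1.ProjSpaceOver 1 P) [IsClosedImmersion ι'] (r : ℕ) (hr : δ' (ι' (genericPoint C')) = r + 1) (hC0 : ∀ w : ↥(pullback ι' (P1.sect P 0)), δP (pullback.snd ι' (P1.sect P 0) w) ≤ r) (hC0ne : Nonempty ↥(pullback ι' (P1.sect P 0))) (h2 : IntMult.ProperInt (closure {ι' (genericPoint C')}) (⇑(CohB1.ProjSpaceOver.toBase 1 P) ⁻¹' Set.range ⇑ι) (NP + 1) (r + 1) (n + 1)) (h3 : IntMult.IntersectProperly δP NP (Cyc.subschemeFun δP r (pullback.snd ι' (P1.sect P 0))) (Set.indicator {ι (genericPoint X)} 1)) (B : AlgebraicCycle (CohB1.ProjSpaceOver 1 P) ℤ) (hB : ⇑B = IntMult.interProd δ' (NP + 1) (IntMult.interProd δ' (NP + 1) (Set.indicator {ι' (genericPoint C')} 1) (Set.indicator {ζX} 1)) (Set.indicator {P1.sect P 0 (genericPoint P)} 1)) : ⇑(AlgebraicCycle.map (CohB1.ProjSpaceOver.toBase 1 P) δ' δP B) = IntMult.interProd δP NP (Cyc.subschemeFun δP r (pullback.snd ι' (P1.sect P 0))) (Set.indicator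 {ι (genericPoint X)} 1) := by
  have hPI := h2
  have h3i := h3
  classical
  let π := CohB1.ProjSpaceOver.toBase 1 P
  let fQ := π ≫ fP
  haveI := Groth.Variety2.isProper_projSpaceOver_toBase 1 P
  haveI : Smooth π := Groth.Misc13.ProjFactor.smooth_projSpaceOver_toBase 1 P
  haveI : IsIntegral (CohB1.ProjSpaceOver 1 P) := Groth.CycInter.FibreProd.isIntegral_P1
  haveI : IsIntegral (CohB1.ProjSpaceOver 1 X) := Groth.CycInter.FibreProd.isIntegral_P1
  haveI := hP'.1
  haveI := hP.1
  have hδQ : Cyc.DeltaCompat fQ δ' (fun _ => 0) := Groth.CycInter.Ext.deltaCompat_comp _ _ hδ' hδP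
  have hgQ : δ' (genericPoint (CohB1.ProjSpaceOver 1 P)) = ((NP + 1 : ℕ) : ℤ) := by
    rw [Groth.CycInter.FibreProd.delta_genericPoint hP hδ', hNP]; rfl
  set c := ι' (genericPoint C') with hcdef
  set g := genericPoint P with hgdef
  set η₀ := P1.sect P 0 g with hη₀
  have hη₀d : δ' η₀ = NP := by rw [hη₀, Groth.CycInter.SectProd.delta_sect hδ', hNP]
  have hzX : ζX = P1.toP1 ι (genericPoint (CohB1.ProjSpaceOver 1 X)) := by
    obtain ⟨q, hq⟩ := (Groth.CycInter.FibreProd.mem_range_toP1 ι ζX).2 ⟨_, hζ1.symm⟩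
    have hd : δ' (P1.toP1 ι (genericPoint (CohB1.ProjSpaceOver 1 X))) = n + 1 := by
      rw [← hn]
      exact Groth.CycInter.FibreProd.delta_genericPoint (δP := fun q => δ' (P1.toP1 ι q)) (δ := fun v => δP (ι v))
        (Groth.Cycles.isSetup_closedImmersion ι hP)
        (Groth.Cycles.deltaCompat_restrict _ hδ' (P1.toP1 ι) ι (CohB1.ProjSpaceOver.toBase 1 X)
          (Groth.CycInter.P1C.toP1_toBase ι).symm)
    by_contra hne
    have := (hP'.2.2 _ _ (hq ▸ (genericPoint_specializes q).map (P1.toP1 ι).continuous)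
      fun e => hne e.symm).1
    omega
  have hfib : ∀ y : P, c ⤳ P1.sect P 0 y →
      ∃ q : ↥(pullback ι' (P1.sect P 0)), pullback.snd ι' (P1.sect P 0) q = y := fun y hy => by
    obtain ⟨w, hw⟩ := hy.mem_closed ι'.isClosedEmbedding.isClosed_range ⟨_, rfl⟩
    obtain ⟨q, -, hq⟩ := Scheme.Pullback.exists_preimage_pullback (f := ι') (g := P1.sect P 0) w y hw
    exact ⟨q, hq⟩
  have hfib' : ∀ q : ↥(pullback ι' (P1.sect P 0)),
      c ⤳ P1.sect P 0 (pullback.snd ι' (P1.sect P 0) q) := fun q => by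
    rw [← Scheme.Hom.comp_apply, ← pullback.condition, Scheme.Hom.comp_apply]
    exact (genericPoint_specializes _).map ι'.continuous
  have hcC : c ∈ Groth.CycInter.P1C.C P (Groth.CycInter.P1C.oth 0) := by
    by_contra hh
    obtain ⟨y, hy⟩ := (Groth.CycInter.P1C.range_sect P 0).ge hh
    obtain ⟨q, hq⟩ := hfib y (specializes_of_eq hy.symm)
    have := hC0 q
    rw [hq, ← Groth.CycInter.SectProd.delta_sect hδ' 0 y, hy, hr] at this
    omega
  have hsect : ∀ {z : CohB1.ProjSpaceOver 1 P}, η₀ ⤳ z → ∃ y, P1.sect P 0 y = z := fun {z} h =>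
    (Groth.CycInter.P1C.range_sect P 0).ge ((Groth.CycInter.SectProd.sect_specializes_iff 0 z).1 h)
  have hone : ∀ {Y : Type u} {a b : Y}, Set.indicator ({a} : Set Y) (1 : Y → ℤ) b ≠ 0 → b = a := fun {Y a b} h =>
    Set.mem_singleton_iff.1 (Set.mem_of_indicator_ne_zero h)
  have hprojX : ∀ y, ζX ⤳ P1.sect P 0 y → ι (genericPoint X) ⤳ y := fun y h => by
    have := h.map π.continuous
    rwa [hζ1, Groth.CycInter.FibreProd.sect_apply_toBase] at this
  -- the pairs
  have hVW : IntMult.IntersectProperly δ' ((NP + 1 : ℕ) : ℤ) (Set.indicator {c} 1) (Set.indicator {η₀} 1) := by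
    intro ξ η z hξ hη h1 h2
    rw [hone hξ] at h1 ⊢
    rw [hone hη] at h2 ⊢
    obtain ⟨y, rfl⟩ := hsect h2
    obtain ⟨q, hq⟩ := hfib y h1
    have := hC0 q
    rw [hq] at this
    rw [Groth.CycInter.SectProd.delta_sect hδ' 0 y, hr, hη₀d]
    omega
  have hUW : IntMult.IntersectProperly δ' ((NP + 1 : ℕ) : ℤ) (Set.indicator {ζX} 1) (Set.indicator {η₀} 1) := by
    intro ξ η z hξ hη h1 h2
    rw [hone hξ] at h1 ⊢
    rw [hone hη] at h2 ⊢
    obtain ⟨y, rfl⟩ := hsect h2
    have := Groth.Cycles.delta_le_of_specializes hP.2.2 (hprojX y h1)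
    rw [Groth.CycInter.SectProd.delta_sect hδ' 0 y, hζ2, hη₀d]
    omega
  have hUV : IntMult.IntersectProperly δ' ((NP + 1 : ℕ) : ℤ) (Set.indicator {ζX} 1) (Set.indicator {c} 1) := by
    intro ξ η z hξ hη h1 h2
    rw [hone hξ] at h1 ⊢
    rw [hone hη] at h2 ⊢
    set S := closure {c} ∩ (⇑π ⁻¹' Set.range ⇑ι)
    have hSc : IsClosed S := isClosed_closure.inter (ι.isClosedEmbedding.isClosed_range.preimage π.continuous)
    have hzS : z ∈ S := ⟨specializes_iff_mem_closure.1 h2,
      h1.mem_closed (ι.isClosedEmbedding.isClosed_range.preimage π.continuous) (by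
        show π ζX ∈ Set.range ι
        exact ⟨_, hζ1.symm⟩)⟩
    obtain ⟨hle, hdim⟩ := hPI ⟨z, hzS⟩
    obtain ⟨h, hh, hhδ⟩ := Groth.Agent.S6470.delta_eq_height fQ δ' hδQ z
    have h3 : ((h : ℕ∞) : WithBot ℕ∞) ≤ topologicalKrullDim S := by
      rw [← hh, Order.height_eq_krullDim_Iic]
      have hmem : ∀ x : Set.Iic z, (x : CohB1.ProjSpaceOver 1 P) ∈ S := fun x =>
        (x.2 : z ⤳ x.1).mem_closed hSc hzS
      refine Order.krullDim_le_of_strictMono (fun x => (⟨closure {(⟨x.1, hmem x⟩ : S)},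
        isIrreducible_singleton.closure, isClosed_closure⟩ : TopologicalSpace.IrreducibleCloseds S)) ?_
      intro x x' hx
      have h1 : (⟨x'.1, hmem x'⟩ : S) ⤳ ⟨x.1, hmem x⟩ := (subtype_specializes_iff _ _).2 hx.le
      refine lt_of_le_not_ge (specializes_iff_closure_subset.1 h1) fun h2 => hx.not_ge ?_
      exact (subtype_specializes_iff (⟨x.1, hmem x⟩ : S) ⟨x'.1, hmem x'⟩).1 (specializes_iff_closure_subset.2 h2)
    have h4 : h ≤ r + 1 + (n + 1) - (NP + 1) := ENat.natCast_le_natCast.1 (WithBot.coe_le_coe.1 (h3.trans hdim))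
    rw [hhδ, hζ2, hr]
    omega
  have hmax : ∀ y, c ⤳ P1.sect P 0 y → ∃ x, x ⤳ y ∧ c ⤳ P1.sect P 0 x ∧ δP x = r := fun y hy => by
    obtain ⟨w, h1, h2, h3, h4⟩ := Groth.CycInter.FibreProd.exists_fibre_pt hP' 0 hy
      ((Groth.CycInter.P1C.range_sect P 0).le ⟨y, rfl⟩) hcC
    obtain ⟨x, rfl⟩ := (Groth.CycInter.P1C.range_sect P 0).ge h3
    rw [Groth.CycInter.SectProd.delta_sect hδ', hr] at h4
    exact ⟨x, (P1.sect P 0).isEmbedding.isInducing.specializes_iff.1 h2, h1, by omega⟩
  have hUVW : ∀ z, ζX ⤳ z → c ⤳ z → η₀ ⤳ z → δ' z ≤ δ' ζX + δ' c + δ' η₀ - 2 * ((NP + 1 : ℕ) : ℤ) := by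
    intro z h1 h2 h3
    obtain ⟨y, rfl⟩ := hsect h3
    obtain ⟨x, hxy, hcx, hxd⟩ := hmax y h2
    have hne : Cyc.subschemeFun δP r (pullback.snd ι' (P1.sect P 0)) x ≠ 0 := by
      obtain ⟨q, rfl⟩ := hfib x hcx
      haveI : IsLocallyNoetherian (pullback ι' (P1.sect P 0)) :=
        LocallyOfFiniteType.isLocallyNoetherian (pullback.snd ι' (P1.sect P 0))
      haveI := Groth.Misc1.RatFun.isArtinianRing_stalk_of_isMaxPt (x := q) fun q' hq' =>
        (pullback.snd ι' (P1.sect P 0)).isClosedEmbedding.injective (by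
          refine Groth.Cycles.eq_of_specializes_of_delta_le hP.2.2
            (hq'.map (pullback.snd ι' (P1.sect P 0)).continuous) ?_
          have := hC0 q'
          omega)
      rw [Groth.Calg6.ClosedImmStalk.subschemeFun_eq, if_pos hxd]
      have hfin : Module.length ((pullback ι' (P1.sect P 0)).presheaf.stalk q)
          ((pullback ι' (P1.sect P 0)).presheaf.stalk q) ≠ ⊤ :=
        Module.length_ne_top_iff.mpr (isFiniteLength_iff_isNoetherian_isArtinian.mpr ⟨inferInstance, inferInstance⟩)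
      exact_mod_cast fun h0 => (Module.length_pos (R := (pullback ι' (P1.sect P 0)).presheaf.stalk q)
        (M := (pullback ι' (P1.sect P 0)).presheaf.stalk q)).ne'
        ((ENat.toNat_eq_zero.1 h0).resolve_right hfin)
    have := h3i x (ι (genericPoint X)) y hne
      (by rw [Set.indicator_of_mem (Set.mem_singleton _)]; exact one_ne_zero) hxy (hprojX y h1)
    rw [Groth.CycInter.SectProd.delta_sect hδ' 0 y, hζ2, hr, hη₀d]
    omega
  -- associativity
  set β := IntMult.interProd δ' ((NP + 1 : ℕ) : ℤ) (Set.indicator {c} 1) (Set.indicator {η₀} 1) with hβdef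
  have hB' : ⇑B = IntMult.interProd δ' ((NP + 1 : ℕ) : ℤ) (Set.indicator {ζX} 1) β := by
    rw [hB, Groth.Agent.S6450.result K (CohB1.ProjSpaceOver 1 P) fQ δ' hP' hδQ _ hgQ ζX c η₀ hUV hVW hUW hUVW,
      Groth.CycInter.Assoc.interProd_comm δ' _ (Set.indicator {ζX} 1) (Set.indicator {c} 1), Nat.cast_succ]
  have hβ : ∀ p, p ∈ Groth.CycInter.P1C.C P (Groth.CycInter.P1C.oth 0) → β p = 0 := fun p hp => by
    rw [hβdef, Groth.CycInter.Assoc.interProd_single_single, if_neg]
    exact fun hh => (Groth.CycInter.SectProd.sect_specializes_iff 0 p).1 hh.2.1 hp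
  have hβs : (fun x => β (P1.sect P 0 x)) = Cyc.subschemeFun δP r (pullback.snd ι' (P1.sect P 0)) := by
    funext y
    rw [hβdef, Groth.CycInter.Assoc.interProd_single_single]
    split_ifs with hh
    · have hk := hh.2.2
      rw [hr, hη₀d, Groth.CycInter.SectProd.delta_sect hδ'] at hk
      exact Groth.CycInter.FibreProd.mult_fibre hP' hδ' ι' 0 hcC y hh.1 r (by omega)
    · by_contra hne
      obtain ⟨hk, q, rfl⟩ := Groth.Calg6.ClosedImmStalk.exists_of_subschemeFun_ne_zero δP r _ y (Ne.symm hne)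
      refine hh ⟨hfib' q, (Groth.CycInter.SectProd.sect_specializes_iff 0 _).2
        ((Groth.CycInter.P1C.range_sect P 0).le ⟨_, rfl⟩), ?_⟩
      rw [hr, hη₀d, Groth.CycInter.SectProd.delta_sect hδ', hk]
      omega
  obtain ⟨hL, hL0⟩ := Groth.CycInter.FibreProd.interProd_lift ι hP hδ' 0 (NP : ℤ) β hβ
  have hBz : ∀ p, p ∈ Groth.CycInter.P1C.C P (Groth.CycInter.P1C.oth 0) → B p = 0 := fun p hp => by
    rw [hB', hzX, Nat.cast_succ]
    exact hL0 p hp
  funext y
  rw [Groth.CycInter.FibreProd.map_sect_supported hδ' 0 B hBz y, hB', hzX, Nat.cast_succ, hL y, hβs,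
    Groth.CycInter.Assoc.interProd_comm]


end Groth.Agent.S6494
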