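import Groth.Statements.S6495
import Groth.Agent.CycleLimits.Generic
import Groth.Agent.CycleLimits.Stages

set_option autoImplicit false
universe u
open CategoryTheory AlgebraicGeometry
open Cyc

namespace Groth.Agent.S6495

/-- Surjectivity of colim Z_k(X_i) → Z_k(X'): every k-cycle α' on the limit X' is g_i^*α for some i and
some k-cycle α on X_i, where g_i : X' → X_i is the projection and g_i^* the shift-0 base-change
pullback on coefficient functions. Setting: a directed inverse system (X_i) of quasi-compact schemes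
with affine flat transition morphisms and limit X' (a limit cone), each X_i and X' carrying a
dimension function with Cyc.IsSetup, and every transition map and every projection X' → X_i shifting
the dimension functions by c = 0 at generic points of fibres, so that the base-change pullbacks g^*
are Cyc.pullFun with shift 0. (The published statement takes X_i and X′ to be the base changes of
one quasi-compact scheme of finite type over a base S along S_i → S and lim S_i → S; this row allows
any such inverse system.) -/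
theorem result (I : Type u) [Preorder I] [IsDirected I (fun a b => a ≤ b)] [Nonempty I] (D : Iᵒᵖ ⥤ Scheme.{u}) (c : Limits.Cone D) (hc : Limits.IsLimit c) (haff : ∀ (i j : Iᵒᵖ) (f : i ⟶ j), IsAffineHom (D.map f)) (hflat : ∀ (i j : Iᵒᵖ) (f : i ⟶ j), Flat (D.map f)) (hqc : ∀ i, CompactSpace ↥(D.obj i)) (δ : (i : Iᵒᵖ) → ↥(D.obj i) → ℤ) (δ' : ↥c.pt → ℤ) (hset : ∀ i, Cyc.IsSetup (D.obj i) (δ i)) (hset' : Cyc.IsSetup c.pt δ') (hshift : ∀ (i j : Iᵒᵖ) (f : i ⟶ j) (x : ↥(D.obj i)), (∀ y, D.map f y = D.map f x → y ⤳ x → y = x) → δ i x = δ j (D.map f x)) (hflat' : ∀ i, Flat (c.π.app i)) (hshift' : ∀ (i : Iᵒᵖ) (x : ↥c.pt), (∀ y, c.π.app i y = c.π.app i x → y ⤳ x → y = x) → δ' x = δ i (c.π.app i x)) (k : ℤ) (α' : AlgebraicCycle c.pt ℤ) (hα' : α' ∈ Cyc.Zk c.pt δ' k) : ∃ (i : Iᵒᵖ) (α : AlgebraicCycle (D.obj i) ℤ), α ∈ Cyc.Zk (D.obj i) (δ i) k ∧ Cyc.pullFun (c.π.app i) δ' (δ i) 0 ⇑α = ⇑α' := by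
  classical
  have : IsFiltered I := isFiltered_of_directed_le_nonempty I
  have : ∀ {i j : Iᵒᵖ} (f : i ⟶ j), IsAffineHom (D.map f) := fun f => haff _ _ f
  have : IsLocallyNoetherian c.pt := hset'.1
  have : ∀ j, IsLocallyNoetherian (((CategoryTheory.Functor.const Iᵒᵖ).obj c.pt).obj j) := fun _ => hset'.1
  have := hqc
  have : CompactSpace ↥c.pt := Scheme.compactSpace_of_isLimit D c hc
  have hfin : (Function.support ⇑α').Finite := by
    have := (Function.locallyFinsupp.locallyFiniteSupport α').finite_inter_support_of_isCompact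
      (isCompact_univ (X := ↥c.pt))
    rwa [Set.univ_inter] at this
  let Good : Iᵒᵖ → ↥c.pt → Prop := fun j z =>
    (∀ y, c.π.app j y = c.π.app j z → z ⤳ y) ∧
      Groth.CycleLimits.fibreIdeal (c.π.app j) z = IsLocalRing.maximalIdeal (c.pt.presheaf.stalk z)
  have hmono : ∀ {k j : Iᵒᵖ} (g : k ⟶ j) (z), Good j z → Good k z := by
    intro k j g z hz
    refine ⟨fun y hy => hz.1 y ?_, le_antisymm
      (IsLocalRing.le_maximalIdeal (Groth.CycleLimits.fibreIdeal_ne_top _ _)) ?_⟩
    · rw [← c.w g, Scheme.Hom.comp_apply, Scheme.Hom.comp_apply, hy]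
    · have key : ∀ p : c.pt ⟶ D.obj j, p = c.π.app k ≫ D.map g →
          Groth.CycleLimits.fibreIdeal p z ≤ Groth.CycleLimits.fibreIdeal (c.π.app k) z := by
        rintro p rfl
        rw [Groth.CycleLimits.fibreIdeal, Scheme.Hom.stalkMap_comp]
        erw [CommRingCat.hom_comp, ← Ideal.map_map]
        refine Ideal.map_mono ?_
        exact IsLocalRing.le_maximalIdeal (Groth.CycleLimits.fibreIdeal_ne_top (D.map g) _)
      exact hz.2.symm.le.trans (key _ (c.w g).symm)
  obtain ⟨i, hi⟩ : ∃ i, ∀ z ∈ hfin.toFinset, Good i z := by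
    generalize hfin.toFinset = F
    induction F using Finset.induction_on with
    | empty => exact ⟨Classical.arbitrary _, fun z hz => absurd hz (Finset.notMem_empty z)⟩
    | insert z F _ ih =>
      obtain ⟨i₁, h₁⟩ := ih
      obtain ⟨i₂, f, h₂⟩ := Groth.CycleLimits.exists_stage_cut_out (i := i₁) hc z
      refine ⟨i₂, fun y hy => ?_⟩
      rcases Finset.mem_insert.mp hy with rfl | hy'
      · exact h₂
      · exact hmono f y (h₁ y hy')
  have hgood : ∀ z, α' z ≠ 0 → Good i z := fun z hz => hi z (hfin.mem_toFinset.mpr hz)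
  let g : ↥(D.obj i) → ℤ := fun x =>
    if h : ∃ z, α' z ≠ 0 ∧ c.π.app i z = x then α' h.choose else 0
  have hg : ∀ z, α' z ≠ 0 → g (c.π.app i z) = α' z := by
    intro z hz
    have h : ∃ w, α' w ≠ 0 ∧ c.π.app i w = c.π.app i z := ⟨z, hz, rfl⟩
    have e : h.choose = z := ((hgood _ h.choose_spec.1).1 z h.choose_spec.2.symm).antisymm
      ((hgood z hz).1 _ h.choose_spec.2) |>.eq
    simp only [g, dif_pos h, e]
  have hgsupp : Function.support g ⊆ c.π.app i '' Function.support ⇑α' := by
    intro x hx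
    by_contra hne
    refine hx (dif_neg ?_)
    rintro ⟨z, hz, rfl⟩
    exact hne ⟨z, hz, rfl⟩
  let α : AlgebraicCycle (D.obj i) ℤ :=
    ⟨g, Set.subset_univ _, fun z _ => ⟨Set.univ, Filter.univ_mem, ((hfin.image _).subset hgsupp).inter_of_right _⟩⟩
  have hδ : ∀ z, α' z ≠ 0 → δ' z = δ i (c.π.app i z) := fun z hz =>
    hshift' i z fun y hy hs => (hs.antisymm ((hgood z hz).1 y hy)).eq
  refine ⟨i, α, fun x hx => ?_, funext fun y => ?_⟩
  · show g x = 0
    by_contra hne
    obtain ⟨z, hz, rfl⟩ := hgsupp hne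
    exact hx ((hδ z hz).symm.trans (by by_contra h; exact hz (hα' z h)))
  · show (if δ' y = δ i (c.π.app i y) + 0 then g (c.π.app i y) * _ else 0) = α' y
    by_cases hy : α' y ≠ 0
    · rw [if_pos (by rw [add_zero]; exact hδ y hy), hg y hy]
      have := Groth.CycleLimits.length_toNat_eq_one (c.π.app i) y (hgood y hy).2
      rw [this, Nat.cast_one, mul_one]
    · push Not at hy
      rw [hy]
      split_ifs with h
      · by_cases hg0 : g (c.π.app i y) = 0
        · rw [hg0, zero_mul]
        · obtain ⟨z, hz, he⟩ := hgsupp hg0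
          have hne : y ≠ z := fun e => hz (e ▸ hy)
          have := Groth.CycleLimits.length_toNat_eq_zero_of_not (c.π.app i) y
            fun hgen => hne (hgen z he ((hgood z hz).1 y he.symm)).symm
          rw [this, Nat.cast_zero, mul_zero]
      · rfl


end Groth.Agent.S6495
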