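import Groth.Statements.S6498
import Groth.Agent.IntMult.CohDTensor
-- import your own Groth.Agent.* helpers here

set_option autoImplicit false
universe u
open CategoryTheory CategoryTheory.Limits AlgebraicGeometry
attribute [local instance] HasDerivedCategory.standard
open IntMult

namespace Groth.Agent.S6498

/-- Let X be a locally Noetherian scheme. If L and K lie in D^-_Coh(O_X) (bounded above with coherent
cohomology sheaves) then so does L ⊗^L_{O_X} K. Here K is presented by a cochain complex E and − ⊗^L
E is the prelude's total left derived functor DCoh.LTensorCx E, under its existence hypothesis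
DCoh.HasLTensorCx E. (Part (1), coherence of the Tor sheaves of two coherent modules, is not
stated.) -/
theorem result (X : Scheme.{u}) [IsLocallyNoetherian X] (E : CochainComplex X.Modules ℤ) [DCoh.HasLTensorCx E] (L : DCoh.D X) (hL : DCoh.IsCohD L) (hLb : ∃ a : ℤ, ∀ i, a < i → IsZero (DCoh.HD L i)) (hE : DCoh.IsCohD (DCoh.toD X E)) (hEb : ∃ b : ℤ, ∀ i, b < i → IsZero (DCoh.HD (DCoh.toD X E) i)) : DCoh.IsCohD ((DCoh.LTensorCx E).obj L) ∧ ∃ n : ℤ, ∀ i, n < i → IsZero (DCoh.HD ((DCoh.LTensorCx E).obj L) i) := by
  obtain ⟨a, ha⟩ := hLb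
  obtain ⟨b, hb⟩ := hEb
  have h := Groth.IntMult.CohDTensor.isCohD_LTensorCx E hL ha hE hb
  exact ⟨h.1, _, h.2⟩

end Groth.Agent.S6498
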