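import Groth.Statements.S6500
import Groth.Agent.VarietyBC.SmoothChart
import Groth.Agent.Flatmor4.FlatDedekind
import Groth.Agent.KoszulLCI.RegularTorDim
import Groth.Agent.S0563

set_option autoImplicit false
universe u
open CategoryTheory CategoryTheory.Limits AlgebraicGeometry
attribute [local instance] HasDerivedCategory.standard
open IntMult

namespace Groth.Agent.S6500

/-- Let X be a nonsingular variety of dimension n and F, G coherent O_X-modules. The Tor sheaves
Tor_p^{O_X}(F, G), whose stalks are Tor_p^{O_{X,x}}(F_x, G_x), are nonzero only for p ∈ {0, …, n}: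
for every point x and every p > n, Tor_p^{O_{X,x}}(F_x, G_x) = 0. (Coherence of the Tor sheaves and
the support statement are not restated.) Nonsingular variety: X → Spec K smooth, separated,
quasi-compact, X integral, K algebraically closed; n = dim X. -/
theorem result (K : Type u) [Field K] [IsAlgClosed K] (X : Scheme.{u}) (f : X ⟶ Spec (CommRingCat.of K)) [Smooth f] [IsSeparated f] [QuasiCompact f] [IsIntegral X] (n : ℕ) (hn : topologicalKrullDim X = n) (F G : X.Modules) (hF : Coh.IsCoh F) (hG : Coh.IsCoh G) (x : X) (p : ℕ) (hp : n < p) : Subsingleton (DRing.Tor ↑(X.presheaf.stalk x) p ↑(F.presheaf.stalk x) ↑(G.presheaf.stalk x)) := by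
  letI : X.Over (Spec (CommRingCat.of K)) := ⟨f⟩
  have : Smooth (X ↘ Spec (CommRingCat.of K)) := inferInstanceAs (Smooth f)
  have : IsRegularLocalRing (X.presheaf.stalk x) := Groth.VarietyBC.isRegularLocalRing_of_mem_smoothLocus (k := K) (by
    rw [Scheme.Hom.smoothLocus_eq_top]; trivial)
  letI := HasDerivedCategory.standard.{u} (ModuleCat.{u} ↑(X.presheaf.stalk x))
  have hd : ringKrullDim (X.presheaf.stalk x) ≤ (n : WithBot ℕ∞) := hn ▸ Groth.Flatmor4.ringKrullDim_stalk_le x
  obtain ⟨k, hk⟩ : ∃ k : ℕ, ringKrullDim (X.presheaf.stalk x) = k :=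
    ⟨_, (IsRegularLocalRing.spanFinrank_maximalIdeal (R := X.presheaf.stalk x)).symm⟩
  have hkn : k ≤ n := by rw [hk] at hd; exact_mod_cast hd
  have hpd : HasProjectiveDimensionLT (ModuleCat.of ↑(X.presheaf.stalk x) ↑(F.presheaf.stalk x)) (n + 1) :=
    @hasProjectiveDimensionLT_of_ge _ _ _ _ (k + 1) (n + 1) (by omega) (Groth.Agent.S0563.result _ k hk _)
  exact ((Groth.DAlg.hasTorDimLE_iff (R := ↑(X.presheaf.stalk x)) ↑(F.presheaf.stalk x) n).2
    (Groth.DAlg.torAmp_of_projectiveDimension n _ hpd)) _ p hp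

end Groth.Agent.S6500
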