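import Groth.Statements.S6502
import Groth.Agent.S2168
import Groth.Agent.CI.Locus

set_option autoImplicit false
universe u
open LCI

namespace Groth.Agent.S6502

/-- A Noetherian ring A is a local complete intersection (every localization A_p at a prime is a
complete intersection, that is, its completion is a regular complete local ring modulo a regular
sequence) exactly when, for each maximal ideal m of A, the localization A_m is itself a complete
intersection. -/
theorem result {A : Type u} [CommRing A] [IsNoetherianRing A] :
    (∀ (p : Ideal A) [p.IsPrime], Pi1.IsCompleteIntersection (Localization.AtPrime p)) ↔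
    (∀ (m : Ideal A) [m.IsMaximal], Pi1.IsCompleteIntersection (Localization.AtPrime m)) := by
  refine ⟨fun h m _ => h m, fun h p hp => ?_⟩
  obtain ⟨m, hm, hpm⟩ := Ideal.exists_le_maximal p hp.ne_top
  let S := Localization.AtPrime m
  have hd : Disjoint (m.primeCompl : Set A) (p : Set A) :=
    Set.disjoint_left.mpr fun x hx hxp => hx (hpm hxp)
  let q : Ideal S := p.map (algebraMap A S)
  have : q.IsPrime := IsLocalization.isPrime_of_isPrime_disjoint m.primeCompl S p hp hd
  have hq : q.comap (algebraMap A S) = p := IsLocalization.comap_map_of_isPrime_disjoint m.primeCompl S hp hd
  have hCI := Groth.Agent.S2168.result (h m) q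
  have : IsLocalization p.primeCompl (Localization.AtPrime q) := by
    have h' := IsLocalization.isLocalization_isLocalization_atPrime_isLocalization m.primeCompl
      (Localization.AtPrime q) q
    have e : (q.comap (algebraMap A S)).primeCompl = p.primeCompl := by simp_rw [hq]
    exact e ▸ h'
  exact Groth.CI.isCompleteIntersection_of_ringEquiv
    (IsLocalization.algEquiv p.primeCompl (Localization.AtPrime q) (Localization.AtPrime p)).toRingEquiv hCI

end Groth.Agent.S6502
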