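import Groth.Statements.S6503
import Groth.Agent.FrobLCI.Diag.SmoothLocal

set_option autoImplicit false
universe u
open TensorProduct
open LCI

namespace Groth.Agent.S6503

/-- Suppose A and B are Noetherian local rings and A → B is a local homomorphism making B a flat
A-algebra that is essentially of finite type, and regard B as an algebra over B ⊗_A B via the
multiplication map. If B has finite Tor-dimension over B ⊗_A B (the diagonal is a perfect ring map),
then there are a smooth A-algebra C and a prime ideal q of C such that B is an A-algebra
localization of C at q. -/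
theorem result {A B : Type u} [CommRing A] [CommRing B]
    [Algebra A B] [IsNoetherianRing A] [IsNoetherianRing B] [IsLocalRing A] [IsLocalRing B]
    [IsLocalHom (algebraMap A B)] [Module.Flat A B] [Algebra.EssFiniteType A B]
    [Algebra (B ⊗[A] B) B]
    (hmul : ∀ x y : B, algebraMap (B ⊗[A] B) B (x ⊗ₜ[A] y) = x * y)
    (h : DRing.HasFiniteTorDim (B ⊗[A] B) B) :
    ∃ (C : Type u) (_ : CommRing C) (_ : Algebra A C) (_ : Algebra C B) (_ : IsScalarTower A C B)
      (q : Ideal C) (_ : q.IsPrime), Algebra.Smooth A C ∧ IsLocalization.AtPrime B q := by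
  let D := Algebra.EssFiniteType.subalgebra A B
  let q : Ideal D := (IsLocalRing.maximalIdeal B).comap (algebraMap D B)
  have hu : ∀ x : D, x ∈ q.primeCompl ↔ IsUnit (algebraMap D B x) := fun x => by
    simp [q, Ideal.primeCompl, IsLocalRing.mem_maximalIdeal, mem_nonunits_iff]
  have : IsLocalization.AtPrime B q :=
    IsLocalization.of_le (Algebra.EssFiniteType.submonoid A B) q.primeCompl
      (fun x hx => (hu x).mpr (IsLocalization.map_units B ⟨x, hx⟩)) (fun x hx => (hu x).mp hx)
  have := Groth.FrobLCI.Diag.isSmoothAt_of_diagonal A B D hmul h
  have : Algebra.FinitePresentation A D := Algebra.FinitePresentation.of_finiteType.mp inferInstance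
  obtain ⟨f, hf, hsm⟩ := Algebra.IsSmoothAt.exists_notMem_smooth (R := A) q
  let φ : Localization.Away f →ₐ[D] B := IsLocalization.liftAlgHom (M := Submonoid.powers f)
    (f := Algebra.ofId D B) fun y => by
      obtain ⟨_, m, rfl⟩ := y
      simpa using ((hu f).mp hf).pow m
  letI : Algebra (Localization.Away f) B := φ.toRingHom.toAlgebra
  have : IsScalarTower D (Localization.Away f) B := IsScalarTower.of_algebraMap_eq fun d => (φ.commutes d).symm
  have : IsScalarTower A (Localization.Away f) B := IsScalarTower.to₁₃₄ A D (Localization.Away f) B
  have := IsLocalization.isLocalization_of_submonoid_le (Localization.Away f) B (Submonoid.powers f) q.primeCompl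
    (Submonoid.powers_le.mpr hf)
  refine ⟨Localization.Away f, inferInstance, inferInstance, inferInstance, inferInstance,
    (IsLocalRing.maximalIdeal B).comap (algebraMap (Localization.Away f) B), inferInstance, hsm,
    IsLocalization.of_le (q.primeCompl.map (algebraMap D (Localization.Away f))) _ ?_ ?_⟩
  · rintro _ ⟨x, hx, rfl⟩ hmem
    rw [SetLike.mem_coe, Ideal.mem_comap, ← IsScalarTower.algebraMap_apply] at hmem
    exact hx hmem
  · intro x hx
    by_contra hn
    exact hx ((IsLocalRing.mem_maximalIdeal _).mpr hn)

end Groth.Agent.S6503
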