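import Groth.Statements.S6507
import Groth.Agent.HTopHyper.Hyper.Existence

set_option autoImplicit false
universe u
open CategoryTheory
open Hyper

namespace Groth.Agent.S6507

open Opposite CategoryTheory.Limits in
/-- With presheaves taken on the localized site C/X: let C be a small site with fibre products, X an
object, K a hypercovering of X and n ≥ 0. Let u : P → F(K_n) be a morphism of presheaves of sets on
C/X, where F(K_n) is the coproduct of the presheaves represented by the members of the family K_n,
and assume u is locally surjective. Then there exist a hypercovering L of X and a morphism f : L → K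
such that F(f_n) : F(L_n) → F(K_n) factors through u. -/
theorem result {C : Type u} [SmallCategory C] [HasPullbacks C]
    (J : GrothendieckTopology C) (X : C)
    [∀ (n : ℕ) (F : (SimplexCategory.Truncated n)ᵒᵖ ⥤ Limits.FormalCoproduct.{u} (Over X)),
      (SimplexCategory.Truncated.inclusion n).op.HasRightKanExtension F]
    (K : SimplicialObject (FormalCoproduct.{u} (Over X))) (hK : Hyper.IsHypercovering J X K) (n : ℕ)
    (P : (Over X)ᵒᵖ ⥤ Type u) (u : P ⟶ FormalCoproduct.yoneda.obj (K.obj (op (SimplexCategory.mk n))))
    (hu : Presheaf.IsLocallySurjective (J.over X) u) :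
    ∃ (L : SimplicialObject (FormalCoproduct.{u} (Over X))) (f : L ⟶ K)
      (g : FormalCoproduct.yoneda.obj (L.obj (op (SimplexCategory.mk n))) ⟶ P),
      Hyper.IsHypercovering J X L ∧ g ≫ u = FormalCoproduct.yoneda.map (f.app (op (SimplexCategory.mk n))) := by
  let e := Groth.HyperLib.ptFunIso (K.obj (op (SimplexCategory.mk n)))
  have hw : Presheaf.IsLocallySurjective (J.over X) (u ≫ e.inv) := inferInstance
  obtain ⟨L, f, g, hL, hg⟩ := Groth.HyperLib.exists_refinement n
    (Groth.HyperLib.isFillable_of_hypercovering hK) (u ≫ e.inv) hw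
  refine ⟨L, f, Sigma.desc fun i => yonedaEquiv.symm (g i), hL.isHypercovering, ?_⟩
  apply Sigma.hom_ext
  intro i
  refine (Sigma.ι_desc_assoc _ _ _).trans ?_
  apply yonedaEquiv.injective
  have h := congrArg (e.hom.app _) (hg i)
  refine Eq.trans ?_ (h.trans ?_)
  · rw [yonedaEquiv_comp]
    refine Eq.trans (congrArg (u.app _) (yonedaEquiv.apply_symm_apply (g i))) ?_
    exact (ConcreteCategory.congr_hom (congr_app e.inv_hom_id _) _).symm
  · refine ((Groth.HyperLib.ptElem_map _ _ _).symm.trans ?_)
    rfl

end Groth.Agent.S6507
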