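import Groth.Statements.S6510
import Groth.Agent.Misc4.MVTriangle

set_option autoImplicit false
universe u
open CategoryTheory
attribute [local instance] HasDerivedCategory.standard
open DCoh

namespace Groth.Agent.S6510

open AlgebraicGeometry CategoryTheory.Limits in
/-- If a scheme X is the union of two opens U and V, then for every E ∈ D(O_X) there is a distinguished
triangle E → Rj_{U,*}(E|_U) ⊕ Rj_{V,*}(E|_V) → Rj_{U∩V,*}(E|_{U∩V}) → E[1] in D(O_X). The objects
are the stated ones; the morphisms of the triangle are only asserted to exist. (The published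
statement is for ringed spaces; this row is for schemes.) -/
theorem result {X : Scheme.{u}} (U V : X.Opens) (hUV : U ⊔ V = ⊤)
    [DCoh.HasRpush U.ι] [DCoh.HasRpush V.ι] [DCoh.HasRpush (U ⊓ V).ι]
    [PreservesFiniteLimits (Scheme.Modules.restrictFunctor U.ι)]
    [PreservesFiniteLimits (Scheme.Modules.restrictFunctor V.ι)]
    [PreservesFiniteLimits (Scheme.Modules.restrictFunctor (U ⊓ V).ι)] (E : DCoh.D X) :
    ∃ (a : E ⟶ ((DCoh.Rpush U.ι).obj ((DCoh.restrictD U.ι).obj E) ⊞ (DCoh.Rpush V.ι).obj ((DCoh.restrictD V.ι).obj E))) (b : ((DCoh.Rpush U.ι).obj ((DCoh.restrictD U.ι).obj E) ⊞ (DCoh.Rpush V.ι).obj ((DCoh.restrictD V.ι).obj E)) ⟶ (DCoh.Rpush (U ⊓ V).ι).obj ((DCoh.restrictD (U ⊓ V).ι).obj E)) (c : (DCoh.Rpush (U ⊓ V).ι).obj ((DCoh.restrictD (U ⊓ V).ι).obj E) ⟶ (E)⟦(1 : ℤ)⟧),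
      Pretriangulated.Triangle.mk a b c ∈ Pretriangulated.distinguishedTriangles := by
  exact Groth.Misc4.MVTriangle.exists_triangle_open U V hUV E

end Groth.Agent.S6510
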