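import Groth.Statements.S6524
import Groth.Agent.SiteCohomology.BaerCriterion

set_option autoImplicit false
universe u
open CategoryTheory
open CohSite

namespace Groth.Agent.S6524

/-- Let (C, J) be a small site and I an abelian sheaf. Suppose that for every object X of C, every
abelian subsheaf S of the free abelian sheaf Z_X^# on X (given as a monomorphism S → Z_X^#) and
every morphism S → I, the morphism extends to Z_X^# → I. Then I is an injective abelian sheaf. -/
theorem result {C : Type u} [SmallCategory C]
    (J : GrothendieckTopology C) (I : Sheaf J AddCommGrpCat.{u})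
    (h : ∀ (X : C) (S : Sheaf J AddCommGrpCat.{u}) (i : S ⟶ CohCx.freeSheaf J X) [Mono i] (φ : S ⟶ I),
      ∃ ψ : CohCx.freeSheaf J X ⟶ I, i ≫ ψ = φ) :
    Injective I := by
  exact Groth.SiteCohomology.injective_of_extends J I h

end Groth.Agent.S6524
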