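import Groth.Statements.S6526
import Groth.Agent.Misc7.GSS.HyperCech

set_option autoImplicit false
universe u
open CategoryTheory
open Hyper

namespace Groth.Agent.S6526

open Opposite CategoryTheory.Limits in
/-- Existence form, for a hypercovering K of the final object of the topos in Verdier's sense, on a
small site with equalizers, fibre products and binary products: for an abelian sheaf F there is a
bounded E_2 spectral sequence of abelian groups with E_2^{p,q} isomorphic to the Čech cohomology
group Ȟ^p(K, H^q(F)) of the presheaf U ↦ H^q(U, F), for p, q ≥ 0 and zero otherwise, together with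
abutment data whose filtrations are finite on the global cohomology groups H^n(F) (zero for n < 0).
The E_2 identifications and the abutment isomorphisms are asserted to exist only, not pinned to the
maps of the construction, so edge maps are not part of this statement. -/
theorem result {C : Type u} [SmallCategory C]
    [HasEqualizers C] [HasPullbacks C] [HasBinaryProducts C]
    (J : GrothendieckTopology C) (K : SimplicialObject (FormalCoproduct.{u} C))
    [∀ (n : ℕ) (F : (SimplexCategory.Truncated n)ᵒᵖ ⥤ Limits.FormalCoproduct.{u} C),
      (SimplexCategory.Truncated.inclusion n).op.HasRightKanExtension F]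
    (hK : Hyper.IsHypercoveringSite J K) (F : Sheaf J AddCommGrpCat.{u}) :
    ∃ (E : E₂CohomologicalSpectralSequence AddCommGrpCat.{u})
      (a : SpSeq.Abutment E (fun n : ℤ => if 0 ≤ n then AddCommGrpCat.of (Sheaf.H F n.toNat) else AddCommGrpCat.of PUnit.{u + 1})),
      (∀ n, a.IsFinite n) ∧ SpSeq.IsBounded E ∧
      ∀ p q : ℤ, Nonempty ((E.page 2 le_rfl).X (p, q) ≅
        (if 0 ≤ p ∧ 0 ≤ q then (Hyper.cechCxSite K (Sheaf.cohomologyPresheaf F q.toNat)).homology p.toNat
         else AddCommGrpCat.of PUnit.{u + 1})) := by
  refine Groth.Misc7.GSS.HyperCech.exists_hyperCechSS J K hK F _ (fun n => ?_) (fun n hn => ?_) _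
    (fun p q => ?_) (fun p q h => ?_)
  · exact ⟨eqToIso (by rw [if_pos (Int.natCast_nonneg n), Int.toNat_natCast])⟩
  · rw [if_neg (by omega)]
    exact AddCommGrpCat.isZero_of_subsingleton _
  · exact ⟨eqToIso (by simp)⟩
  · rw [if_neg h]
    exact AddCommGrpCat.isZero_of_subsingleton _

end Groth.Agent.S6526
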