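import Groth.Statements.S6527
import Groth.Agent.DerivedCoh.ExtZero.Basic

set_option autoImplicit false
universe u
open CategoryTheory
attribute [local instance] HasDerivedCategory.standard
open DCoh

namespace Groth.Agent.S6527

open AlgebraicGeometry CategoryTheory.Limits in
/-- For an open subscheme j : U → X, the extension by zero functor j_! : D(O_U) → D(O_X) is left adjoint
to the restriction functor D(O_X) → D(O_U). Both functors are the ones induced on derived categories
by the exact functors j_! and j^*; the assertion is the existence of an adjunction. (The published
statement is for ringed spaces; this row is for schemes.) -/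
theorem result {X : Scheme.{u}} (U : X.Opens)
    [PreservesFiniteLimits (CxOX.extZero U.ι)] :
    Nonempty (CxOX.extZeroD U.ι ⊣ DCoh.restrictD U.ι) := by
  exact ⟨Groth.DerivedCoh.ExtZero.extZeroDAdj U.ι⟩


end Groth.Agent.S6527
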