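import Groth.Statements.S6530
import Mathlib.RingTheory.AdicCompletion.Algebra
import Mathlib.RingTheory.DividedPowers.DPMorphism

set_option autoImplicit false
universe u
open DPow

namespace Groth.Agent.S6530

/-- Let (A, I, γ) be a divided power ring and p a prime number with p^t A ⊆ I for some t ≥ 0, so that p
is nilpotent in A/I. Let A^∧ be the p-adic completion of A and π : A^∧ → A/I the composite of the
evaluation A^∧ → A/p^tA with the projection A/p^tA → A/I. Then π is surjective, and there is a
divided power structure on Ker(π) (this kernel is the p-adic completion of I) such that the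
canonical map A → A^∧ is a homomorphism of divided power rings. -/
theorem result {A : Type u} [CommRing A] {I : Ideal A}
    (γ : DividedPowers I) (p : ℕ) [Fact p.Prime] (t : ℕ) (ht : Ideal.span {(p : A)} ^ t ≤ I) :
    Function.Surjective ((Ideal.Quotient.factor ht).comp
      (AdicCompletion.evalₐ (Ideal.span {(p : A)}) t).toRingHom) ∧
    ∃ δ : DividedPowers (RingHom.ker ((Ideal.Quotient.factor ht).comp
      (AdicCompletion.evalₐ (Ideal.span {(p : A)}) t).toRingHom)),
      γ.IsDPMorphism δ (algebraMap A (AdicCompletion (Ideal.span {(p : A)}) A)) := by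
  classical
  set P : Ideal A := Ideal.span {(p : A)} with hP
  let π : AdicCompletion P A →+* A ⧸ I := (Ideal.Quotient.factor ht).comp (AdicCompletion.evalₐ P t).toRingHom
  refine ⟨(Ideal.Quotient.factor_surjective ht).comp (AdicCompletion.surjective_evalₐ P t), ?_⟩
  -- representatives
  have hev : ∀ n (s : AdicCompletion.AdicCauchySequence P A),
      AdicCompletion.evalₐ P n (AdicCompletion.mk P A s) = Ideal.Quotient.mk (P ^ n) (s.val n) :=
    fun n s => AdicCompletion.evalₐ_mk P n s
  have hcau : ∀ (s : AdicCompletion.AdicCauchySequence P A) {m n : ℕ}, m ≤ n → s.val n - s.val m ∈ P ^ m := by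
    intro s m n h
    have := SModEq.sub_mem.mp (s.property h)
    rw [smul_eq_mul, Ideal.mul_top] at this
    rw [← neg_sub]; exact neg_mem this
  let σ : AdicCompletion P A → AdicCompletion.AdicCauchySequence P A :=
    Function.surjInv (AdicCompletion.mk_surjective P A)
  have hσ : ∀ x, AdicCompletion.mk P A (σ x) = x := Function.surjInv_eq _
  have hmemI : ∀ x, π x = 0 → ∀ n, t ≤ n → (σ x).val n ∈ I := fun x hx n hn => by
    have h1 : (σ x).val t ∈ I := by
      rw [← Ideal.Quotient.eq_zero_iff_mem, ← hx]
      show _ = Ideal.Quotient.factor ht (AdicCompletion.evalₐ P t x)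
      conv_rhs => rw [← hσ x, hev, Ideal.Quotient.factor_mk]
    simpa using I.add_mem (ht (hcau (σ x) hn)) h1
  -- continuity of the divided powers
  have hcont : ∀ (m n : ℕ) (a a' : A), a ∈ I → a' ∈ I → a - a' ∈ P ^ (n + t) →
      γ.dpow m a - γ.dpow m a' ∈ P ^ n := by
    intro m n a a' ha ha' h
    rw [hP, Ideal.span_singleton_pow, Ideal.mem_span_singleton'] at h
    obtain ⟨y, hy⟩ := h
    have hw : (p : A) ^ t * y ∈ I := by
      refine ht ?_
      rw [Ideal.span_singleton_pow]
      exact Ideal.mul_mem_right _ _ (Ideal.subset_span rfl)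
    rw [show a = (p : A) ^ n * ((p : A) ^ t * y) + a' by rw [← mul_assoc, ← pow_add, mul_comm, hy, sub_add_cancel],
      γ.dpow_add (I.mul_mem_left _ hw) ha', ← Finset.sum_erase_add _ _ (Finset.mem_antidiagonal.mpr (zero_add m) : (0, m) ∈ _),
      γ.dpow_zero (I.mul_mem_left _ hw), one_mul, add_sub_cancel_right]
    refine Submodule.sum_mem _ fun k hk => Ideal.mul_mem_right _ _ ?_
    obtain ⟨hk1, hk2⟩ := Finset.mem_erase.mp hk
    have hk0 : k.1 ≠ 0 := fun h0 => hk1 (Prod.ext h0 (by simpa [h0] using Finset.mem_antidiagonal.mp hk2))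
    rw [γ.dpow_mul hw, ← pow_mul, hP, Ideal.span_singleton_pow]
    exact Ideal.mul_mem_right _ _ (Ideal.mem_span_singleton.mpr (pow_dvd_pow _ (Nat.le_mul_of_pos_right n (Nat.pos_of_ne_zero hk0))))
  let d : ℕ → AdicCompletion P A → AdicCompletion P A := fun m x => if hx : π x = 0 then
    AdicCompletion.mk P A (AdicCompletion.AdicCauchySequence.mk P A (fun n => γ.dpow m ((σ x).val (n + t)))
      (fun n => by
        rw [SModEq.sub_mem, smul_eq_mul, Ideal.mul_top]
        exact hcont m n _ _ (hmemI x hx _ (by omega)) (hmemI x hx _ (by omega)) (by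
          rw [← neg_sub]; exact neg_mem (hcau (σ x) (by omega))))) else 0
  have key : ∀ m n x a, π x = 0 → a ∈ I → AdicCompletion.evalₐ P (n + t) x = Ideal.Quotient.mk _ a →
      AdicCompletion.evalₐ P n (d m x) = Ideal.Quotient.mk _ (γ.dpow m a) := by
    intro m n x a hx ha he
    simp only [d, dif_pos hx]
    rw [hev]
    refine Ideal.Quotient.eq.mpr (hcont m n _ _ (hmemI x hx _ (by omega)) ha (Ideal.Quotient.eq.mp ?_))
    rw [← hev, hσ]; exact he
  have rep : ∀ n x, π x = 0 → ∃ a ∈ I, AdicCompletion.evalₐ P (n + t) x = Ideal.Quotient.mk _ a :=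
    fun n x hx => ⟨(σ x).val (n + t), hmemI x hx _ (by omega), by conv_lhs => rw [← hσ x, hev]⟩
  have repAny : ∀ n x, ∃ a, AdicCompletion.evalₐ P n x = Ideal.Quotient.mk _ a :=
    fun n x => ⟨(σ x).val n, by conv_lhs => rw [← hσ x, hev]⟩
  have hπmem : ∀ m x, m ≠ 0 → π x = 0 → π (d m x) = 0 := fun m x hm hx => by
    obtain ⟨a, ha, he⟩ := rep t x hx
    show Ideal.Quotient.factor ht (AdicCompletion.evalₐ P t (d m x)) = 0
    rw [key m t x a hx ha he, Ideal.Quotient.factor_mk, Ideal.Quotient.eq_zero_iff_mem]
    exact γ.dpow_mem hm ha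
  let δ : DividedPowers (RingHom.ker π) :=
    { dpow := d
      dpow_null := fun {m x} hx => dif_neg hx
      dpow_zero := fun {x} hx => AdicCompletion.ext_evalₐ fun n => by
        obtain ⟨a, ha, he⟩ := rep n x hx
        rw [key 0 n x a hx ha he, γ.dpow_zero ha, map_one, map_one]
      dpow_one := fun {x} hx => AdicCompletion.ext_evalₐ fun n => by
        obtain ⟨a, ha, he⟩ := rep n x hx
        rw [key 1 n x a hx ha he, γ.dpow_one ha]
        have hh : Ideal.Quotient.mk (P ^ n) a = Ideal.Quotient.mk (P ^ n) ((σ x).val n) := by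
          refine Ideal.Quotient.eq.mpr ?_
          rw [← hσ x, hev] at he
          have := Ideal.add_mem _ (Ideal.pow_le_pow_right (Nat.le_add_right n t) (Ideal.Quotient.eq.mp he.symm))
            (hcau (σ x) (Nat.le_add_right n t))
          simpa using this
        conv_rhs => rw [← hσ x, hev]
        exact hh
      dpow_mem := fun {m x} hm hx => hπmem m x hm hx
      dpow_add := fun {m x y} hx hy => AdicCompletion.ext_evalₐ fun n => by
        obtain ⟨a, ha, he⟩ := rep n x hx
        obtain ⟨b, hb, he'⟩ := rep n y hy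
        rw [key m n (x + y) (a + b) (Ideal.add_mem _ hx hy) (I.add_mem ha hb) (by rw [map_add, he, he', map_add]),
          γ.dpow_add ha hb, map_sum, map_sum]
        refine Finset.sum_congr rfl fun k _ => ?_
        rw [map_mul, map_mul, key _ n x a hx ha he, key _ n y b hy hb he']
      dpow_mul := fun {m c x} hx => AdicCompletion.ext_evalₐ fun n => by
        obtain ⟨a, ha, he⟩ := rep n x hx
        obtain ⟨e, hce⟩ := repAny (n + t) c
        rw [key m n (c * x) (e * a) (Ideal.mul_mem_left _ c hx) (I.mul_mem_left e ha) (by rw [map_mul, hce, he, map_mul]),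
          γ.dpow_mul ha, map_mul, map_mul, map_pow, map_pow, key m n x a hx ha he]
        congr 2
        obtain ⟨e', he'⟩ := repAny n c
        rw [he']
        refine Ideal.Quotient.eq.mpr ?_
        rw [← hσ c, hev] at hce he'
        have h1 := Ideal.pow_le_pow_right (Nat.le_add_right n t) (Ideal.Quotient.eq.mp hce.symm)
        have h2 := Ideal.Quotient.eq.mp he'
        have := Ideal.add_mem _ (Ideal.add_mem _ h1 (hcau (σ c) (Nat.le_add_right n t))) h2
        simpa using this
      mul_dpow := fun {m k x} hx => AdicCompletion.ext_evalₐ fun n => by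
        obtain ⟨a, ha, he⟩ := rep n x hx
        rw [map_mul, map_mul, map_natCast, key m n x a hx ha he, key k n x a hx ha he, key _ n x a hx ha he,
          ← map_mul, γ.mul_dpow ha, map_mul, map_natCast]
      dpow_comp := fun {m k x} hk hx => AdicCompletion.ext_evalₐ fun n => by
        obtain ⟨a, ha, he⟩ := rep (n + t) x hx
        rw [key m n (d k x) (γ.dpow k a) (hπmem k x hk hx) (γ.dpow_mem hk ha) (key k (n + t) x a hx ha he),
          γ.dpow_comp hk ha, map_mul, map_mul, map_natCast, map_natCast]
        congr 1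
        refine (key _ n x a hx ha ?_).symm
        rw [← hσ x, hev] at he ⊢
        refine Ideal.Quotient.eq.mpr ?_
        have h1 := Ideal.pow_le_pow_right (Nat.le_add_right (n + t) t) (Ideal.Quotient.eq.mp he)
        rw [← sub_sub_sub_cancel_left _ _ ((σ x).val (n + t + t))]
        exact Ideal.sub_mem _ h1 (hcau (σ x) (Nat.le_add_right _ t)) }
  have hof : ∀ n a, AdicCompletion.evalₐ P n (algebraMap A (AdicCompletion P A) a) = Ideal.Quotient.mk _ a :=
    fun n a => by rw [AlgHom.commutes]; rfl
  refine ⟨δ, ?_, fun {m} a ha => AdicCompletion.ext_evalₐ fun n => ?_⟩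
  · refine Ideal.map_le_iff_le_comap.mpr fun a ha => ?_
    show Ideal.Quotient.factor ht (AdicCompletion.evalₐ P t (algebraMap A _ a)) = 0
    rw [hof, Ideal.Quotient.factor_mk, Ideal.Quotient.eq_zero_iff_mem]
    exact ha
  · rw [hof]
    refine key m n _ a ?_ ha (hof _ a)
    show Ideal.Quotient.factor ht (AdicCompletion.evalₐ P t (algebraMap A _ a)) = 0
    rw [hof, Ideal.Quotient.factor_mk, Ideal.Quotient.eq_zero_iff_mem]
    exact ha

end Groth.Agent.S6530
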