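import Groth.Statements.S6533
import Groth.Agent.Misc7.FilKInj.Embedding

set_option autoImplicit false
universe v u
open CategoryTheory
open CohDer

namespace Groth.Agent.S6533

open CategoryTheory.Limits in
/-- Let A be a Grothendieck abelian category and K a filtered complex of A. There exist a filtered
complex J and a morphism of filtered complexes j : K → J such that (1) the objects J^n, F^pJ^n,
J^n/F^pJ^n and F^pJ^n/F^{p'}J^n (p ≤ p') are injective, (2) the complexes J, F^pJ, J/F^pJ and
F^pJ/F^{p'}J are K-injective, and (3) j is a quasi-isomorphism and so are the maps it induces on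
F^p, on the quotients by F^p and on F^p/F^{p'} (each induced map is characterised by its
compatibility with the inclusion, respectively the projection). -/
theorem result {A : Type u} [Category.{v} A] [Abelian A]
    [IsGrothendieckAbelian.{v} A] (K : SpSeq.FilCx A) :
    ∃ (J : SpSeq.FilCx A) (j : K ⟶ J),
      (∀ n p : ℤ, Injective (J.obj.X n) ∧ Injective ((J.XFil n).step p) ∧ Injective ((J.XFil n).quot p) ∧
        ∀ (p' : ℤ) (h : p ≤ p'), Injective (cokernel ((J.XFil n).stepLE h))) ∧
      (CochainComplex.IsKInjective J.obj ∧ ∀ p : ℤ, CochainComplex.IsKInjective (J.step p) ∧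
        CochainComplex.IsKInjective (J.quot p) ∧
        ∀ (p' : ℤ) (h : p ≤ p'), CochainComplex.IsKInjective (cokernel (J.stepLE h))) ∧
      QuasiIso j.hom ∧
      (∀ p : ℤ, ∃ jp : K.step p ⟶ J.step p, jp ≫ (J.fil p).arrow = (K.fil p).arrow ≫ j.hom ∧ QuasiIso jp ∧
        (∀ (p' : ℤ) (h : p ≤ p'), ∃ (jp' : K.step p' ⟶ J.step p') (jg : cokernel (K.stepLE h) ⟶ cokernel (J.stepLE h)),
          jp' ≫ (J.fil p').arrow = (K.fil p').arrow ≫ j.hom ∧ jp' ≫ J.stepLE h = K.stepLE h ≫ jp ∧
          cokernel.π (K.stepLE h) ≫ jg = jp ≫ cokernel.π (J.stepLE h) ∧ QuasiIso jg)) ∧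
      (∀ p : ℤ, ∃ jq : K.quot p ⟶ J.quot p,
        cokernel.π (K.fil p).arrow ≫ jq = j.hom ≫ cokernel.π (J.fil p).arrow ∧ QuasiIso jq) := by
  exact Groth.Misc7.FilKInj.exists_filtered_embedding K

end Groth.Agent.S6533
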