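import Groth.Statements.S6535
import Groth.Agent.HTopHyper.Hyper.Basic
-- import your own Groth.Agent.* helpers here

set_option autoImplicit false
universe u
open CategoryTheory
open Hyper

namespace Groth.Agent.S6535

open Opposite CategoryTheory.Limits in
/-- Let C be a small site with fibre products, X an object, K, L, M simplicial semi-representable
objects over X with morphisms a : K → L and b : M → L, and P = K ×_L M a fibre product (a pullback
square of simplicial objects). Assume (1) K is a hypercovering of X, (2) M_0 → L_0 is a covering,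
and (3) for every n ≥ 0 the canonical morphism γ : M_{n+1} → L_{n+1} ×_{(cosk_n sk_n L)_{n+1}}
(cosk_n sk_n M)_{n+1} is a covering (stated for every fibre product of that cospan and the induced
γ). Then P is a hypercovering of X. -/
theorem result {C : Type u} [SmallCategory C] [HasPullbacks C]
    (J : GrothendieckTopology C) (X : C)
    [∀ (n : ℕ) (F : (SimplexCategory.Truncated n)ᵒᵖ ⥤ Limits.FormalCoproduct.{u} (Over X)),
      (SimplexCategory.Truncated.inclusion n).op.HasRightKanExtension F]
    {K L M P : SimplicialObject (FormalCoproduct.{u} (Over X))} (a : K ⟶ L) (b : M ⟶ L)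
    (p1 : P ⟶ K) (p2 : P ⟶ M) (hP : IsPullback p1 p2 a b)
    (hK : Hyper.IsHypercovering J X K)
    (h0 : Hyper.IsSRCovering (J.over X) (b.app (op (SimplexCategory.mk 0))))
    (hγ : ∀ (n : ℕ) (Q : FormalCoproduct.{u} (Over X))
      (q1 : Q ⟶ L.obj (op (SimplexCategory.mk (n + 1))))
      (q2 : Q ⟶ ((SimplicialObject.truncation n ⋙ SimplicialObject.Truncated.cosk n).obj M).obj
        (op (SimplexCategory.mk (n + 1))))
      (γ : M.obj (op (SimplexCategory.mk (n + 1))) ⟶ Q),
      IsPullback q1 q2 (((SimplicialObject.coskAdj n).unit.app L).app (op (SimplexCategory.mk (n + 1))))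
        (((SimplicialObject.truncation n ⋙ SimplicialObject.Truncated.cosk n).map b).app
          (op (SimplexCategory.mk (n + 1)))) →
      γ ≫ q1 = b.app (op (SimplexCategory.mk (n + 1))) →
      γ ≫ q2 = ((SimplicialObject.coskAdj n).unit.app M).app (op (SimplexCategory.mk (n + 1))) →
      Hyper.IsSRCovering (J.over X) γ) :
    Hyper.IsHypercovering J X P := by
  exact Groth.HyperLib.isHypercovering_pullback J X a b p1 p2 hP hK h0 hγ
end Groth.Agent.S6535
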