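import Groth.Statements.S6537
import Groth.Agent.Limits.CurveMult
import Groth.Agent.FibreVA.NormalGen
import Groth.Agent.PnCoh.OverAffine
import Groth.Agent.Ega2Proj.AmpleBasic

set_option autoImplicit false
universe u
open CategoryTheory CategoryTheory.Limits AlgebraicGeometry
open Curves

namespace Groth.Agent.S6537

theorem tensorMap_comp' {X : Scheme.{u}} {A A' A'' B B' B'' : X.Modules} (f : A ⟶ A') (g : A' ⟶ A'')
    (f' : B ⟶ B') (g' : B' ⟶ B'') :
    KoszTw.tensorMap f f' ≫ KoszTw.tensorMap g g' = KoszTw.tensorMap (f ≫ g) (f' ≫ g') :=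
  Groth.PicAux.tensor_hom_ext fun W a b => by
    simp only [Scheme.Modules.Hom.comp_app, ConcreteCategory.comp_apply,
      Groth.PicAux.tensorMap_app_tmulSec]

theorem tensorMap_id' {X : Scheme.{u}} (A B : X.Modules) :
    KoszTw.tensorMap (𝟙 A) (𝟙 B) = 𝟙 _ :=
  Groth.PicAux.tensor_hom_ext fun W a b => Groth.PicAux.tensorMap_app_tmulSec _ _ _ _ _

/-- The tensor product of isomorphisms. -/
noncomputable def tIso {X : Scheme.{u}} {A A' B B' : X.Modules} (e : A ≅ A') (e' : B ≅ B') :
    CohB1.tensorMod A B ≅ CohB1.tensorMod A' B' :=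
  ⟨KoszTw.tensorMap e.hom e'.hom, KoszTw.tensorMap e.inv e'.inv,
    by rw [tensorMap_comp', e.hom_inv_id, e'.hom_inv_id, tensorMap_id'],
    by rw [tensorMap_comp', e.inv_hom_id, e'.inv_hom_id, tensorMap_id']⟩

/-- Let X be proper over the field k, of dimension one, with H^0(X, O_X) = k, and let L be an invertible
O_X-module generated by its global sections, with H^1(X, L) = 0 and L ample. Then the tensor square
L^{⊗2} is very ample on X over k: some closed immersion i : X → P^n_k over k has i^* O(1) ≅ L^{⊗2}. -/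
theorem result (k : Type u) [Field k] (X : Scheme.{u}) [X.Over (Spec (CommRingCat.of k))]
    [IsProper (X ↘ (Spec (CommRingCat.of k)))] (hdim : topologicalKrullDim X = 1)
    (h0 : Module.finrank k (Coh.HH X (Coh.structureModule X) 0) = 1) (L : X.Modules) (hL : PicF.IsInvertible L)
    (hgg : Curv2.IsGloballyGenerated L) (h1 : Subsingleton (Coh.HH X L 1)) (hample : CohB1.IsAmple L) :
    ∃ (n : ℕ) (i : X ⟶ CohB1.ProjSpace n k), IsClosedImmersion i ∧ i ≫ CohB1.ProjSpace.toSpec n k = X ↘ (Spec (CommRingCat.of k)) ∧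
      Nonempty ((Scheme.Modules.pullback i).obj (Twist.twistProjSpace n k 1) ≅ CohB1.tensorPow L 2) := by
  classical
  open Groth.PicAux in
  have hL2 : PicF.IsInvertible (CohB1.tensorPow L 2) := isInvertible_tensorPow hL 2
  obtain ⟨u, -⟩ := Groth.PicAux.exists_leftUnitor L
  let L' := CohB1.tensorPow L 1
  have hL' : PicF.IsInvertible L' := Groth.PicAux.isInvertible_tensorPow hL 1
  haveI hL'1 : Subsingleton (Coh.HH X L' 1) :=
    (Groth.EulerDeg.hEquiv k u 1).injective.subsingleton
  have key : ∀ n : ℕ, Subsingleton (Coh.HH X (CohB1.tensorPow (CohB1.tensorPow L 2) (n + 1)) 1) ∧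
      ∃ M : X.Modules, PicF.IsInvertible M ∧ Subsingleton (Coh.HH X M 1) ∧
        Nonempty (CohB1.tensorMod M L ≅ CohB1.tensorPow (CohB1.tensorPow L 2) (n + 1)) := by
    intro n
    induction n with
    | zero =>
      obtain ⟨v, -⟩ := Groth.PicAux.exists_leftUnitor (CohB1.tensorPow L 2)
      have h2 := (Groth.LimCurveMult.h1_and_span k hdim.le hL' hL hgg hL'1).1
      haveI : Subsingleton (Coh.HH X (CohB1.tensorPow L 2) 1) := h2
      exact ⟨(Groth.EulerDeg.hEquiv k v 1).injective.subsingleton, L', hL', hL'1, ⟨v.symm⟩⟩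
    | succ n ih =>
      let N := CohB1.tensorPow (CohB1.tensorPow L 2) (n + 1)
      have hN : PicF.IsInvertible N := Groth.PicAux.isInvertible_tensorPow hL2 (n + 1)
      have hNL := (Groth.LimCurveMult.h1_and_span k hdim.le hN hL hgg ih.1).1
      have hNLL := (Groth.LimCurveMult.h1_and_span k hdim.le
        (Groth.PicAux.isInvertible_tensorMod hN hL) hL hgg hNL).1
      obtain ⟨a, -⟩ := Groth.PicAux.exists_associator N L L
      obtain ⟨a', -⟩ := Groth.PicAux.exists_associator N L' L
      let e : CohB1.tensorMod (CohB1.tensorMod N L) L ≅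
          CohB1.tensorPow (CohB1.tensorPow L 2) (n + 2) :=
        tIso (tIso (Iso.refl N) u.symm) (Iso.refl L) ≪≫ a'
      exact ⟨(Groth.EulerDeg.hEquiv k e 1).symm.injective.subsingleton,
        CohB1.tensorMod N L, Groth.PicAux.isInvertible_tensorMod hN hL, hNL, ⟨e⟩⟩
  have hng : Groth.FibreVA.NormalGen.IsNormGen (CohB1.tensorPow L 2) := by
    intro n hn
    obtain ⟨m, rfl⟩ : ∃ m, n = m + 1 := ⟨n - 1, by omega⟩
    obtain ⟨h1N, M, hM, hM1, ⟨eM⟩⟩ := key m
    let N := CohB1.tensorPow (CohB1.tensorPow L 2) (m + 1)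
    have hN : PicF.IsInvertible N := Groth.PicAux.isInvertible_tensorPow hL2 (m + 1)
    have s1 : Groth.LimCurveMult.MulSpans N L :=
      ((Groth.LimCurveMult.h1_and_span k hdim.le hM hL hgg hM1).2).of_iso eM
    have s2 : Groth.LimCurveMult.MulSpans (CohB1.tensorMod N L) L :=
      (Groth.LimCurveMult.h1_and_span k hdim.le hN hL hgg h1N).2
    obtain ⟨a, ha⟩ := Groth.PicAux.exists_associator N L L
    let Φ : CohB1.tensorMod (CohB1.tensorMod N L) L ⟶ CohB1.tensorMod N (CohB1.tensorPow L 2) :=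
      a.hom ≫ KoszTw.tensorMap (𝟙 N) (KoszTw.tensorMap u.inv (𝟙 L))
    let Ψ : CohB1.tensorMod N (CohB1.tensorPow L 2) ⟶ CohB1.tensorMod (CohB1.tensorMod N L) L :=
      KoszTw.tensorMap (𝟙 N) (KoszTw.tensorMap u.hom (𝟙 L)) ≫ a.inv
    have hΦ : Ψ ≫ Φ = 𝟙 _ := by
      simp only [Φ, Ψ, Category.assoc, Iso.inv_hom_id_assoc]
      refine Groth.PicAux.tensor_hom_ext fun W p q => ?_
      simp only [Scheme.Modules.Hom.comp_app, ConcreteCategory.comp_apply,
        Groth.PicAux.tensorMap_app_tmulSec]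
      have h3 : KoszTw.tensorMap u.hom (𝟙 L) ≫ KoszTw.tensorMap u.inv (𝟙 L) = 𝟙 _ :=
        Groth.PicAux.tensor_hom_ext fun W a b => by
          simp only [Scheme.Modules.Hom.comp_app, ConcreteCategory.comp_apply,
            Groth.PicAux.tensorMap_app_tmulSec]
          exact congrArg (fun r => Groth.PicAux.tmulSec r b) congr($(u.hom_inv_id).app W a)
      exact congrArg (Groth.PicAux.tmulSec p) congr($(h3).app W q)
    refine eq_top_iff.mpr fun z _ => ?_
    rw [show z = Φ.app ⊤ (Ψ.app ⊤ z) from congr($(hΦ.symm).app ⊤ z)]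
    have hmem : Ψ.app ⊤ z ∈ AddSubgroup.closure _ := s2.ge (AddSubgroup.mem_top _)
    generalize Ψ.app ⊤ z = w at hmem ⊢
    induction hmem using AddSubgroup.closure_induction with
    | mem v hv =>
      obtain ⟨q, t, rfl⟩ := hv
      have hq : q ∈ AddSubgroup.closure _ := s1.ge (AddSubgroup.mem_top _)
      induction hq using AddSubgroup.closure_induction with
      | mem v hv =>
        obtain ⟨b, s, rfl⟩ := hv
        refine AddSubgroup.subset_closure ⟨b, Groth.PicAux.tmulSec (u.inv.app ⊤ s) t, ?_⟩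
        simp only [Φ, Scheme.Modules.Hom.comp_app, ConcreteCategory.comp_apply, ha,
          Groth.PicAux.tensorMap_app_tmulSec]
        exact congrArg (Groth.PicAux.tmulSec b)
          (Groth.PicAux.tensorMap_app_tmulSec u.inv (𝟙 L) ⊤ s t)
      | zero => rw [Groth.PicAux.tmulSec_zero_left, map_zero]; exact zero_mem _
      | add a c _ _ ha hc => rw [Groth.PicAux.tmulSec_add_left, map_add]; exact add_mem ha hc
      | neg a _ ha =>
        rw [show Groth.PicAux.tmulSec (-a) t = -Groth.PicAux.tmulSec a t from by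
          refine eq_neg_of_add_eq_zero_left ?_
          rw [← Groth.PicAux.tmulSec_add_left, neg_add_cancel, Groth.PicAux.tmulSec_zero_left],
          map_neg]
        exact neg_mem ha
    | zero => rw [map_zero]; exact zero_mem _
    | add a c _ _ ha hc => rw [map_add]; exact add_mem ha hc
    | neg a _ ha => rw [map_neg]; exact neg_mem ha
  haveI : CompactSpace X := hample.2.1
  have hA2 : CohB1.IsAmple (CohB1.tensorPow L 2) :=
    (Groth.Ega2Proj.isAmple_tensorPow_iff hL 2 (by omega)).1 hample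
  obtain ⟨n, i, hi, hif, ⟨e⟩⟩ :=
    Groth.FibreVA.NormalGen.isRelVeryAmplePn (X ↘ Spec (CommRingCat.of k)) hA2 hng
  have hi2 : IsClosedImmersion i := by
    haveI := hi
    haveI : IsProper (i ≫ CohB1.ProjSpaceOver.toBase n (Spec (CommRingCat.of k))) := by
      rw [show i ≫ CohB1.ProjSpaceOver.toBase n _ = _ from hif]; infer_instance
    haveI : IsProper i := IsProper.of_comp i (CohB1.ProjSpaceOver.toBase n (Spec (CommRingCat.of k)))
    exact IsClosedImmersion.of_isPreimmersion i i.isClosedMap.isClosed_range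
  refine ⟨n, i ≫ (Groth.PnCoh.overIso n k).inv, inferInstance, ?_, ?_⟩
  · rw [Category.assoc, ← Groth.PnCoh.overIso_hom_toBase, Iso.inv_hom_id_assoc]
    exact hif
  · obtain ⟨t⟩ := Groth.PnCoh.nonempty_pullback_overIso_twist n k 1
    exact ⟨(Scheme.Modules.pullback _).mapIso t.symm ≪≫ (Scheme.Modules.pullbackComp _ _).app _ ≪≫
      (Scheme.Modules.pullbackCongr (by rw [Category.assoc, Iso.inv_hom_id, Category.comp_id])).app _ ≪≫
        e.symm⟩

end Groth.Agent.S6537
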