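import Groth.Statements.S6536
import Groth.Agent.S6537
import Groth.Agent.Limits.CurveGGVanish
import Groth.Agent.PicAux.Powers
import Groth.Agent.VarietyBC.ZeroConnected
import Groth.Agent.Ega4Algebra2.SchemeFibre
import Groth.Agent.Chow.AmpleTwist

set_option autoImplicit false
universe u
open CategoryTheory CategoryTheory.Limits AlgebraicGeometry
open Curves

namespace Groth.Agent.S6536

/-- Let X be proper over the field k, of dimension one, with H^0(X, O_X) = k, and let L be an invertible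
O_X-module which has a regular global section (a monomorphism O_X → L), satisfies H^1(X, L) = 0 and
is ample. Then L^{⊗6} is very ample on X over k: there is a closed immersion i : X → P^n_k over k
with i^* O(1) ≅ L^{⊗6}. -/
theorem result (k : Type u) [Field k] (X : Scheme.{u}) [X.Over (Spec (CommRingCat.of k))]
    [IsProper (X ↘ (Spec (CommRingCat.of k)))] (hdim : topologicalKrullDim X = 1)
    (h0 : Module.finrank k (Coh.HH X (Coh.structureModule X) 0) = 1) (L : X.Modules) (hL : PicF.IsInvertible L)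
    (hs : ∃ s : Coh.structureModule X ⟶ L, Mono s) (h1 : Subsingleton (Coh.HH X L 1)) (hample : CohB1.IsAmple L) :
    ∃ (n : ℕ) (i : X ⟶ CohB1.ProjSpace n k), IsClosedImmersion i ∧ i ≫ CohB1.ProjSpace.toSpec n k = X ↘ (Spec (CommRingCat.of k)) ∧
      Nonempty ((Scheme.Modules.pullback i).obj (Twist.twistProjSpace n k 1) ≅ CohB1.tensorPow L 6) := by
  obtain ⟨s, hsm⟩ := hs
  haveI := hsm
  haveI : CompactSpace X := hample.2.1
  haveI : TopologicalSpace.NoetherianSpace X := Groth.EulerDeg.noetherianSpace_of_proper k X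
  have hB : ∀ x : X, x ∉ Groth.PropsBasic.Ample.gloc (Groth.PicAux.gsec s) → IsClosed ({x} : Set X) := by
    intro x hx
    by_contra hc
    refine hx (Groth.VarietyBC.ZeroConnected.mem_gloc_of_mono hL s ?_)
    haveI : T0Space X.toTopCat := inferInstanceAs (T0Space X)
    haveI : QuasiSober X.toTopCat := inferInstanceAs (QuasiSober X)
    have h0' := Groth.Ega4b.ringKrullDim_stalk_eq_zero_of_maximal (z := x) fun w hw =>
      Groth.EulerDeg.eq_of_specializes_of_not_isClosed (X := X.toTopCat) hdim.le hc hw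
    haveI : Ring.KrullDimLE 0 (X.presheaf.stalk x) :=
      Ring.krullDimLE_iff.mpr h0'.le
    refine (Groth.Divisors.isWeakAssPoint_iff).2 ⟨Groth.RefRank.oneEquiv x 1, fun a ha hu => ?_,
      fun a ha => ?_⟩
    · rw [← map_smul, LinearEquiv.map_eq_zero_iff, smul_eq_mul, mul_one] at ha
      exact not_isUnit_zero (ha ▸ hu)
    · obtain ⟨n, hn⟩ := (Ring.KrullDimLE.isNilpotent_iff_mem_nonunits).2 ha
      exact ⟨n, by rw [hn, zero_smul]⟩
  obtain ⟨u⟩ := Groth.PicAux.tensorPow_one L
  haveI hh1 : Subsingleton (Coh.HH X (CohB1.tensorPow L 1) 1) :=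
    (Groth.EulerDeg.hEquiv k u 1).injective.subsingleton
  obtain ⟨h2, -⟩ := Groth.LimCurveGG.gg_succ_of_vanishing k hdim.le hL (Groth.PicAux.gsec s) hB 1 hh1
  obtain ⟨h3, hg3⟩ := Groth.LimCurveGG.gg_succ_of_vanishing k hdim.le hL (Groth.PicAux.gsec s) hB 2 h2
  choose t ht using hg3
  have hgg : Curv2.IsGloballyGenerated (CohB1.tensorPow L 3) :=
    Groth.Chow.isGloballyGenerated_of_cover t
      (top_le_iff.1 fun x _ => TopologicalSpace.Opens.mem_iSup.2 ⟨x, ht x⟩)
  obtain ⟨n, i, hi, hik, ⟨e⟩⟩ := Groth.Agent.S6537.result k X hdim h0 (CohB1.tensorPow L 3)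
    (Groth.PicAux.isInvertible_tensorPow hL 3) hgg h3
    ((Groth.Ega2Proj.isAmple_tensorPow_iff hL 3 (by omega)).1 hample)
  obtain ⟨e'⟩ := Groth.PicAux.tensorPow_mul L 3 2
  exact ⟨n, i, hi, hik, ⟨e ≪≫ e'.symm⟩⟩

end Groth.Agent.S6536
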