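import Groth.Statements.S6538
import Groth.Agent.Duality.ShriekBridge.Nonvanish
import Groth.Agent.VarietyBC.NegTwistH1
import Groth.Agent.VarietyBC.GGen
import Groth.Agent.Limits.GGKoszul

set_option backward.isDefEq.respectTransparency false
set_option linter.style.haveILetI false
set_option maxHeartbeats 1000000
set_option synthInstance.maxHeartbeats 400000

set_option autoImplicit false
universe u
open CategoryTheory CategoryTheory.Limits AlgebraicGeometry
attribute [local instance] HasDerivedCategory.standard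
open Curves

namespace Groth.Agent.S6538

section

open Groth Groth.PicAux Groth.PropsBasic.Ample TopologicalSpace

variable {k : Type u} [Field k] {X : Scheme.{u}} [X.Over (Spec (CommRingCat.of k))]

theorem scalar {ω : X.Modules} {tr : Coh.HH X ω 1 →ₗ[k] k} (htr : Canon.IsRDualOver k X 1 ω tr)
    (hinj : Function.Injective tr) (e : ω ⟶ ω) : ∃ c : k, e = Formal.smulMod k ω c := by
  have hc : ∃ c : k, ∀ y, tr (Canon.HHlin k e 1 y) = c * tr y := by
    by_cases hz : ∀ z, tr z = 0
    · refine ⟨0, fun y => ?_⟩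
      rw [hz, zero_mul]
    · obtain ⟨z, hz⟩ := not_forall.1 hz
      refine ⟨tr (Canon.HHlin k e 1 z) / tr z, fun y => ?_⟩
      have hy : y = (tr y / tr z) • z := hinj (by rw [map_smul, smul_eq_mul, div_mul_cancel₀ _ hz])
      conv_lhs => rw [hy]
      rw [map_smul, map_smul, smul_eq_mul]
      field_simp
  obtain ⟨c, hc⟩ := hc
  refine ⟨c, (htr.2 _ htr.1).1 (LinearMap.ext fun y => (hc y).trans ?_)⟩
  change _ = tr (Canon.HHlin k (Formal.smulMod k ω c) 1 y)
  rw [show Canon.HHlin k (Formal.smulMod k ω c) 1 y = c • y from CohC3.hmap_smulMod (A := k) ω c 1 y,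
    map_smul, smul_eq_mul]

theorem aux [IsProper (X ↘ Spec (CommRingCat.of k))] (hdim : topologicalKrullDim X = 1)
    (h0 : Module.finrank k (Coh.HH X (Coh.structureModule X) 0) = 1)
    {ω : X.Modules} {tr : Coh.HH X ω 1 →ₗ[k] k} (htr : Canon.IsRDualOver k X 1 ω tr)
    (hinj : Function.Injective tr) {L : X.Modules} (hL : PicF.IsInvertible L)
    (hgg : Curv2.IsGloballyGenerated L) (hnt : IsEmpty (L ≅ Coh.structureModule X)) :
    Subsingleton (Coh.HH X (CohB1.tensorMod ω L) 1) := by
  haveI := PicAux.isQCoh_of_isInvertible hL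
  haveI : ω.IsQuasicoherent := htr.1
  have hq : Coh.IsQCoh (CohB1.tensorMod ω L) := QCohMod.isQCoh_tensorMod (M := ω) (N := L)
  by_contra hns
  obtain ⟨φ, hφ⟩ : ∃ φ : CohB1.tensorMod ω L ⟶ ω, φ ≠ 0 := by
    by_contra hc
    refine hns ((subsingleton_iff_forall_eq 0).2 fun y => by_contra fun hy => ?_)
    obtain ⟨l, hl⟩ := Duality.ShriekBridge.exists_dual_ne (K := k) hy
    obtain ⟨φ, hφ⟩ := (htr.2 _ hq).2 l
    refine hl ?_
    rw [← hφ, not_not.1 (not_exists.1 hc φ)]
    change tr (Canon.HHlin k (0 : _ ⟶ _) 1 y) = 0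
    rw [show Canon.HHlin k (0 : CohB1.tensorMod ω L ⟶ ω) 1 y = 0 from
      CohC3.hmap_zero (A := k) _ _ 1 y, map_zero]
  choose M hM using fun t : Γ(L, ⊤) => VarietyBC.NegTwistH1.exists_twistHom ω t
  choose c hc using fun t : Γ(L, ⊤) => scalar htr hinj (M t ≫ φ)
  have hkill : ∀ (t : Γ(L, ⊤)) (x : X), x ∈ gloc t → c t = 0 →
      (QCohMod.stalk x).map φ = 0 := by
    intro t x hx hct
    refine AddCommGrpCat.ext fun b => ?_
    obtain ⟨a, rfl⟩ := (LimKoszul.bijective_stalk_mulHom (M t) t (hM t) x hx).2 b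
    change ((QCohMod.stalk x).map (M t) ≫ (QCohMod.stalk x).map φ) a = _
    rw [← Functor.map_comp, hc, hct, CohC3.smulMod_zero, Functor.map_zero]
    rfl
  obtain ⟨s, hs⟩ : ∃ s, c s ≠ 0 := by
    by_contra hc0
    refine hφ (Scheme.Modules.hom_ext _ _ fun U => ?_)
    ext a
    refine RefRank.mod_section_ext ω fun x hx => ?_
    obtain ⟨t, ht⟩ := VarietyBC.GGen.exists_mem_gloc hL hgg x
    rw [← QCohMod.stalk_map_germ φ x hx,
      hkill t x ht (not_not.1 (not_exists.1 hc0 t))]
    exact (map_zero _).symm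
  have hsx : ∃ x, x ∉ gloc s := by
    by_contra hall
    refine hnt.false (((nonempty_iso_structure_iff (M := L)).2 ⟨s, ?_⟩).some)
    have := gen_gloc s (V := ⊤) fun x _ => not_not.1 (not_exists.1 hall x)
    rwa [res_self] at this
  obtain ⟨x, hxs⟩ := hsx
  obtain ⟨t, hxt⟩ := VarietyBC.GGen.exists_mem_gloc hL hgg x
  let a := c t / c s
  let r : Γ(X, ⊤) := Coh.toGlobal (X ↘ Spec (CommRingCat.of k)) a
  let t' : Γ(L, ⊤) := t - r • s
  have hres : ∀ (W : X.Opens) (h : W ≤ ⊤), res L h t' = res L h t - resX X h r • res L h s :=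
    fun W h => ((L.presheaf.map (homOfLE h).op).hom.map_sub t (r • s)).trans
      (congrArg _ (res_smul _ _ _))
  have hMt' : M t' = M t - M s ≫ Formal.smulMod k (CohB1.tensorMod ω L) a := by
    refine Scheme.Modules.hom_ext _ _ fun W => ?_
    ext v
    change (M t').app W v = (M t).app W v -
      (Formal.smulMod k (CohB1.tensorMod ω L) a).app W ((M s).app W v)
    rw [hM, hM, hM, CohC3.smulMod_app, ← tmulSec_smul_right, eq_sub_iff_add_eq,
      ← tmulSec_add_right, hres]
    exact congrArg _ (sub_add_cancel _ _)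
  have hct' : c t' = 0 := by
    by_contra hne
    have h1 : Formal.smulMod k ω (c t') = 0 := by
      rw [← hc, hMt', Preadditive.sub_comp, Category.assoc,
        ← CohC3.smulMod_naturality φ a, ← Category.assoc, hc, hc, ← CohC3.smulMod_mul]
      simp only [a, div_mul_cancel₀ _ hs, sub_self]
    have h2 : 𝟙 ω = 0 := by
      rw [← CohC3.smulMod_one (A := k) ω, ← inv_mul_cancel₀ hne, CohC3.smulMod_mul, h1, zero_comp]
    exact hφ (by rw [← Category.comp_id φ, h2, comp_zero])
  have hxt' : x ∈ gloc t' := by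
    obtain ⟨U, e, hxU, he⟩ := (isInvertible_iff_exists_gen L).1 hL x
    obtain ⟨cs, hcs⟩ := he.exists_coeff le_rfl (res L (le_top : U ≤ ⊤) s)
    obtain ⟨ct, hct⟩ := he.exists_coeff le_rfl (res L (le_top : U ≤ ⊤) t)
    rw [res_self] at hcs hct
    have h1 : x ∈ X.basicOpen ct := (gloc_inf_eq_basicOpen he hct).le ⟨hxt, hxU⟩
    have h2 : x ∉ X.basicOpen cs := fun hh => hxs ((gloc_inf_eq_basicOpen he hcs).ge hh).1
    let d := resX X (le_top : U ≤ ⊤) (Coh.toGlobal (X ↘ Spec (CommRingCat.of k)) a)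
    have hct' : res L (le_top : U ≤ ⊤) t' = (ct - d * cs) • e := by
      rw [sub_smul, mul_smul, ← hct, ← hcs]
      exact hres U le_top
    refine ((gloc_inf_eq_basicOpen he hct').ge ?_).1
    rw [X.mem_basicOpen _ x hxU] at h1 h2 ⊢
    rw [map_sub, map_mul]
    by_contra hn
    refine (IsLocalRing.mem_maximalIdeal _).1 ?_ h1
    have := (IsLocalRing.maximalIdeal (X.presheaf.stalk x)).add_mem
      ((IsLocalRing.mem_maximalIdeal _).2 hn)
      (Ideal.mul_mem_left _ (X.presheaf.germ U x hxU d) ((IsLocalRing.mem_maximalIdeal _).2 h2))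
    rwa [sub_add_cancel] at this
  have hφx := hkill t' x hxt' hct'
  haveI : AlgebraicGeometry.IsNoetherian X :=
    Lichtenbaum.isNoetherian_of_field (X ↘ Spec (CommRingCat.of k))
  obtain ⟨η, hηx, hη⟩ := Duality.ShriekBridge.exists_specializes_not_isClosed
    (fun C hC => Duality.ShriekBridge.eq_empty_or_univ_of_isClopen h0 hC) hdim x
  refine Duality.ShriekBridge.nontrivial_stalk_of_isRDualOver hdim.le htr hηx hη
    (subsingleton_of_forall_eq 0 fun v => ?_)
  have h1 : (QCohMod.stalk x).map (M s ≫ φ) = 0 := by rw [Functor.map_comp, hφx, comp_zero]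
  have h2 : (QCohMod.stalk x).map (𝟙 ω) = 0 := by
    rw [← CohC3.smulMod_one (A := k) ω, ← inv_mul_cancel₀ hs, CohC3.smulMod_mul, ← hc,
      Functor.map_comp, h1, zero_comp]
  rw [CategoryTheory.Functor.map_id] at h2
  exact ConcreteCategory.congr_hom h2 v

end

/-- Let X be proper over the field k, of dimension one, with H^0(X, O_X) = k, and let ω_X be its
dualizing module (the degree -1 cohomology sheaf of f^! O for the structure morphism f, assuming
Rf_* on D_QCoh and its right adjoint exist). If L is an invertible O_X-module generated by its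
global sections and L is not isomorphic to O_X, then ω_X ⊗ L has no first cohomology: H^1(X, ω_X ⊗
L) = 0. -/
theorem result (k : Type u) [Field k] (X : Scheme.{u}) [X.Over (Spec (CommRingCat.of k))] [IsProper (X ↘ (Spec (CommRingCat.of k)))] (hdim : topologicalKrullDim X = 1)
    (h0 : Module.finrank k (Coh.HH X (Coh.structureModule X) 0) = 1)
    [DCoh.HasRpush (X ↘ (Spec (CommRingCat.of k)))] (h : DCoh.RpushPreservesQCoh (X ↘ (Spec (CommRingCat.of k)))) [DCoh.HasShriek (X ↘ (Spec (CommRingCat.of k))) h]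
    (OY : DCoh.DQCoh (Spec (CommRingCat.of k))) (hOY : Nonempty (OY.obj ≅ DCoh.inD (Spec (CommRingCat.of k)) (Coh.structureModule (Spec (CommRingCat.of k)))))
    (L : X.Modules) (hL : PicF.IsInvertible L) (hgg : Curv2.IsGloballyGenerated L) (hnt : IsEmpty (L ≅ Coh.structureModule X)) :
    Subsingleton (Coh.HH X (CohB1.tensorMod (DCoh.dualizingMod (X ↘ (Spec (CommRingCat.of k))) h OY 1) L) 1) := by
  obtain ⟨tr, htr, hinj⟩ :=
    Groth.Duality.ShriekBridge.exists_isRDualOver_injective hdim.le h0 h OY hOY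
  exact aux hdim h0 htr hinj hL hgg hnt

end Groth.Agent.S6538
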