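import Groth.Statements.S6539
import Groth.Agent.Duality.ShriekBridge.VeryAmpleGG
import Groth.Agent.Duality.ShriekBridge.EmbedBC
import Groth.Agent.Duality.FlatBCPair.Main
import Groth.Agent.CurveBridge.BaseChange
import Groth.Agent.CohTwo.GGNhd
import Groth.Agent.PicAux.PullTensor

set_option backward.isDefEq.respectTransparency false
set_option linter.style.haveILetI false
set_option maxHeartbeats 1000000
set_option synthInstance.maxHeartbeats 400000

set_option autoImplicit false
universe u
open CategoryTheory CategoryTheory.Limits AlgebraicGeometry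
attribute [local instance] HasDerivedCategory.standard
open Curves

namespace Groth.Agent.S6539

open Groth TopologicalSpace

theorem injective_of_finrank_le_one {K : Type u} {V : Type*} [Field K] [AddCommGroup V] [Module K V]
    [Module.Finite K V] (tr : V →ₗ[K] K) (h1 : Module.finrank K V ≤ 1)
    (hne : (∃ v : V, v ≠ 0) → tr ≠ 0) : Function.Injective tr := by
  refine (injective_iff_map_eq_zero tr).2 fun v hv => by_contra fun hv0 => ?_
  haveI : Nontrivial V := ⟨⟨v, 0, hv0⟩⟩
  obtain ⟨c, hc⟩ : ∃ c, ∀ w : V, ∃ a : K, a • c = w := by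
    obtain ⟨c, -, hc⟩ := finrank_eq_one_iff'.1 (le_antisymm h1 Module.finrank_pos)
    exact ⟨c, hc⟩
  obtain ⟨a, ha⟩ := hc v
  refine hne ⟨v, hv0⟩ (LinearMap.ext fun w => ?_)
  obtain ⟨b, rfl⟩ := hc w
  have hc0 : tr c = 0 := by
    have := hv
    rw [← ha, map_smul, smul_eq_mul] at this
    exact (mul_eq_zero.1 this).resolve_left fun h => hv0 (by rw [← ha, h, zero_smul])
  rw [map_smul, hc0, smul_zero]
  rfl

theorem gg_of_pullback {X S X' S' : Scheme.{u}} {f : X ⟶ S} {g : S' ⟶ S} {p : X' ⟶ X}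
    {f' : X' ⟶ S'} (sq : IsPullback p f' f g) [IsAffine S] [IsAffine S'] [QuasiCompact f]
    [QuasiSeparated f] [Flat g] [Surjective p] (M : X.Modules) [M.IsQuasicoherent]
    (h : Curv2.IsGloballyGenerated ((Scheme.Modules.pullback p).obj M)) :
    Curv2.IsGloballyGenerated M := by
  refine ⟨_, QCohMod.freeHom M (id : Γ(M, (⊤ : X.Opens)) → _),
    QCohMod.epi_freeHom M _ fun x => ?_⟩
  obtain ⟨y, rfl⟩ := p.surjective x
  exact CohTwo.GGNhd.span_at sq M y
    (eq_top_iff.2 ((VarietyBC.GGen.spansStalks h y).ge))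

open scoped Groth.CurveBridge in
theorem aux {k : Type u} [Field k] {X : Scheme.{u}} [X.Over (Spec (CommRingCat.of k))]
    [IsProper (X ↘ Spec (CommRingCat.of k))] (hdim : topologicalKrullDim X = 1)
    (h0 : Module.finrank k (Coh.HH X (Coh.structureModule X) 0) = 1)
    {ω : X.Modules} {tr : Coh.HH X ω 1 →ₗ[k] k} (htr : Canon.IsRDualOver k X 1 ω tr)
    (hinj : Function.Injective tr) {L : X.Modules} (hL : PicF.IsInvertible L) {n : ℕ}
    (ι : X ⟶ CohB1.ProjSpace n k) [IsClosedImmersion ι]
    (hι : ι ≫ CohB1.ProjSpace.toSpec n k = X ↘ Spec (CommRingCat.of k))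
    (e : (Scheme.Modules.pullback ι).obj (Twist.twistProjSpace n k 1) ≅ L)
    (hdeg : 2 ≤ Curv2.deg k X L 1) :
    Curv2.IsGloballyGenerated (CohB1.tensorMod ω L) := by
  haveI : ω.IsQuasicoherent := htr.1
  haveI := (EulerDeg.isCoh_of_isInvertible hL).1
  let K := AlgebraicClosure k
  let X' := CurveBridge.Xb k X
  let p := CurveBridge.proj k X
  have sq : IsPullback p (X' ↘ Spec (CommRingCat.of K)) (X ↘ Spec (CommRingCat.of k))
      (Spec.map (CommRingCat.ofHom (algebraMap k K))) := IsPullback.of_hasPullback _ _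
  obtain ⟨tr', htr'⟩ := Groth.Duality.FlatBCPair.exists_isRDualOver_pullback sq (d := 1)
    (fun P => ((X ↘ Spec (CommRingCat.of k)).fiberι P).isEmbedding.isInducing.topologicalKrullDim_le.trans
      hdim.le) htr
  haveI : Module.Finite k (Coh.HH X ω 1) := Module.Finite.of_injective tr hinj
  have hrk : Module.finrank K (Coh.HH X' ((Scheme.Modules.pullback p).obj ω) 1) ≤ 1 := by
    rw [CurveBridge.finrank_bc]
    exact (LinearMap.finrank_le_finrank_of_injective hinj).trans (Module.finrank_self k).le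
  haveI : ((Scheme.Modules.pullback p).obj ω).IsQuasicoherent := htr'.1
  haveI : Module.Finite K (Coh.HH X' ((Scheme.Modules.pullback p).obj ω) 1) := by
    haveI : X'.IsSeparated := CohFin.isSeparated_of_proper (X' ↘ Spec (CommRingCat.of K))
    haveI := EulerDeg.isNoetherian_of_proper K X'
    have hpair : Groth.DualMod.IsDualPair K ((Scheme.Modules.pullback p).obj ω) tr' := ⟨htr'.1, fun F hF ψ => by
      obtain ⟨φ, hφ, hu⟩ := (Function.bijective_iff_existsUnique _).1 (htr'.2 F hF) ψ
      exact ⟨φ, fun x => (LinearMap.congr_fun hφ x).symm,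
        fun φ' hφ' => hu φ' (LinearMap.ext fun x => (hφ' x).symm)⟩⟩
    exact EulerDeg.finite_HH K X' (Groth.DualMod.isCoh_dualPair
      (show topologicalKrullDim X' ≤ ((1 : ℕ) : WithBot ℕ∞) from
        ((FBaseGeom.dim_bc (X ↘ Spec (CommRingCat.of k)) K).trans hdim).le) hpair) 1
  have hinj' : Function.Injective tr' := injective_of_finrank_le_one tr' hrk fun ⟨v, hv⟩ h => by
    obtain ⟨l, hl⟩ := Groth.Duality.ShriekBridge.exists_dual_ne (K := K) hv
    obtain ⟨φ, hφ⟩ := (htr'.2 _ htr'.1).2 l
    refine hl ?_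
    rw [← hφ]
    change tr' _ = 0
    rw [h]
    rfl
  have hdim' : topologicalKrullDim X' = 1 :=
    (FBaseGeom.dim_bc (X ↘ Spec (CommRingCat.of k)) K).trans hdim
  have h0' : Module.finrank K (Coh.HH X' (Coh.structureModule X') 0) = 1 :=
    (CurveBridge.finrank_structure_bc k X 0).trans h0
  obtain ⟨ι', hι', ⟨e'⟩⟩ := Groth.Duality.ShriekBridge.exists_embedding_bc sq ι hι e
  haveI := hι'
  have hdeg' : 2 ≤ Curv2.deg K X' ((Scheme.Modules.pullback p).obj L) 1 := by
    rw [CurveBridge.deg_bc]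
    exact hdeg
  have hgg := Groth.Duality.ShriekBridge.genQuot hdim' h0' htr' hinj'
    (PicAux.isInvertible_pullback p hL) ι' e' hdeg'
  obtain ⟨eT, -⟩ := PicAux.exists_pullback_tensorMod p ω L
  haveI : (CohB1.tensorMod ω L).IsQuasicoherent := QCohMod.isQCoh_tensorMod (M := ω) (N := L)
  haveI : Flat (Spec.map (CommRingCat.ofHom (algebraMap k K))) := by
    rw [HasRingHomProperty.Spec_iff (P := @Flat)]
    exact RingHom.flat_algebraMap_iff.mpr inferInstance
  exact gg_of_pullback sq _ (CohTwo.GGNhd.gg_of_iso eT.symm hgg)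

/-- Let X be proper over the field k, of dimension one, with H^0(X, O_X) = k, and let ω_X be its
dualizing module (the degree -1 cohomology sheaf of f^! O for the structure morphism f, assuming
Rf_* on D_QCoh and its right adjoint exist). If L is a very ample invertible O_X-module (there is a
closed immersion i : X → P^n_k over k with i^* O(1) ≅ L) of degree at least 2, then ω_X ⊗ L is
globally generated. -/
theorem result (k : Type u) [Field k] (X : Scheme.{u}) [X.Over (Spec (CommRingCat.of k))] [IsProper (X ↘ (Spec (CommRingCat.of k)))] (hdim : topologicalKrullDim X = 1)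
    (h0 : Module.finrank k (Coh.HH X (Coh.structureModule X) 0) = 1)
    [DCoh.HasRpush (X ↘ (Spec (CommRingCat.of k)))] (h : DCoh.RpushPreservesQCoh (X ↘ (Spec (CommRingCat.of k)))) [DCoh.HasShriek (X ↘ (Spec (CommRingCat.of k))) h]
    (OY : DCoh.DQCoh (Spec (CommRingCat.of k))) (hOY : Nonempty (OY.obj ≅ DCoh.inD (Spec (CommRingCat.of k)) (Coh.structureModule (Spec (CommRingCat.of k)))))
    (L : X.Modules) (hL : PicF.IsInvertible L)
    (hva : ∃ (n : ℕ) (i : X ⟶ CohB1.ProjSpace n k), IsClosedImmersion i ∧ i ≫ CohB1.ProjSpace.toSpec n k = X ↘ (Spec (CommRingCat.of k)) ∧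
      Nonempty ((Scheme.Modules.pullback i).obj (Twist.twistProjSpace n k 1) ≅ L))
    (hdeg : 2 ≤ Curv2.deg k X L 1) :
    Curv2.IsGloballyGenerated (CohB1.tensorMod (DCoh.dualizingMod (X ↘ (Spec (CommRingCat.of k))) h OY 1) L) := by
  obtain ⟨tr, htr, hinj⟩ :=
    Groth.Duality.ShriekBridge.exists_isRDualOver_injective hdim.le h0 h OY hOY
  obtain ⟨n, ι, hι, hιk, ⟨e⟩⟩ := hva
  haveI := hι
  exact aux hdim h0 htr hinj hL ι hιk e hdeg

end Groth.Agent.S6539
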