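import Groth.Statements.S6540
import Groth.Agent.EulerDeg.LineBundle
-- import your own Groth.Agent.* helpers here

set_option autoImplicit false
universe u
open CategoryTheory CategoryTheory.Limits AlgebraicGeometry
open Curves

namespace Groth.Agent.S6540

/-- Let X be a proper curve over the field k (proper, integral, of dimension one) with H^0(X, O_X) = k
and genus 0. Then every invertible O_X-module of degree 0 is trivial, i.e. isomorphic to O_X. -/
theorem result (k : Type u) [Field k] (X : Scheme.{u}) [X.Over (Spec (CommRingCat.of k))]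
    [IsIntegral X] [IsProper (X ↘ (Spec (CommRingCat.of k)))] (hdim : topologicalKrullDim X = 1)
    (h0 : Module.finrank k (Coh.HH X (Coh.structureModule X) 0) = 1) (hg : Curv2.genus k X = 0)
    (L : X.Modules) (hL : PicF.IsInvertible L) (hdeg : Curv2.deg k X L 1 = 0) :
    Nonempty (L ≅ Coh.structureModule X) := by
  have hrr := Groth.EulerDeg.riemannRoch k X hdim.le L
  rw [h0, hg, hdeg] at hrr
  have hnt : Nontrivial (Coh.HH X L 0) := by
    rw [← not_subsingleton_iff_nontrivial]
    intro hss
    have := Groth.EulerDeg.finrank_eq_zero_of_subsingleton (k := k) hss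
    omega
  obtain ⟨a, ha⟩ := exists_ne (0 : Coh.HH X L 0)
  let e := Sheaf.H.equiv₀ (Coh.toAb L)
    (isTerminalTop : IsTerminal (⊤ : TopologicalSpace.Opens X))
  have hs : Groth.PicAux.homOfSection (M := L) (e a) ≠ 0 := by
    intro h
    have := Groth.PicAux.homOfSection_one (M := L) (e a)
    rw [h] at this
    exact ha (e.injective (this.symm.trans e.map_zero.symm))
  have h2 := (Groth.EulerDeg.deg_le_and_isIso (Groth.EulerDeg.isInvertible_structureModule X) hL hs
    k hdim.le).2
  rw [Groth.EulerDeg.deg_structure] at h2
  have := h2 hdeg.le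
  exact ⟨(asIso (Groth.PicAux.homOfSection (M := L) (e a))).symm⟩

end Groth.Agent.S6540
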