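import Groth.Statements.S6542
import Groth.Agent.Curves1.RR.GenusZeroP1
import Groth.Agent.Curves1.RR.PointDiv

set_option autoImplicit false
universe u
open CategoryTheory CategoryTheory.Limits AlgebraicGeometry
attribute [local instance] Curv2.resAlgebra
open Curves

namespace Groth.Agent.S6542

/-- Let X be a proper curve over the field k (proper, integral, of dimension one). If H^1(X, O_X) = 0
and there are closed points x_1, ..., x_n of X whose local rings are normal and whose residue-field
degrees over k have greatest common divisor 1, then X is isomorphic to P^1_k over k. -/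
theorem result (k : Type u) [Field k] (X : Scheme.{u}) [X.Over (Spec (CommRingCat.of k))]
    [IsIntegral X] [IsProper (X ↘ (Spec (CommRingCat.of k)))] (hdim : topologicalKrullDim X = 1)
    (h1 : Subsingleton (Coh.HH X (Coh.structureModule X) 1))
    (s : Finset X) (hcl : ∀ x ∈ s, IsClosed ({x} : Set X)) (hn : ∀ x ∈ s, IsIntegrallyClosed (X.presheaf.stalk x))
    (hgcd : s.gcd (fun x => Module.finrank k (X.residueField x)) = 1) :
    ∃ e : X ≅ CohB1.ProjSpace 1 k, e.hom ≫ CohB1.ProjSpace.toSpec 1 k = X ↘ (Spec (CommRingCat.of k)) := by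
  open Groth.EulerDeg Groth.PicAux in
  let H : AddSubgroup ℤ :=
    { carrier := {n | ∃ L : X.Modules, PicF.IsInvertible L ∧ Curv2.deg k X L 1 = n}
      zero_mem' := ⟨Coh.structureModule X, isInvertible_structureModule X, by simp [Curv2.deg]⟩
      add_mem' := by
        rintro a b ⟨L, hL, rfl⟩ ⟨M, hM, rfl⟩
        exact ⟨_, isInvertible_tensorMod hL hM, deg_tensor_invertible k hdim.le hL hM⟩
      neg_mem' := by
        rintro a ⟨L, hL, rfl⟩
        obtain ⟨M, hM, ⟨e⟩⟩ := exists_isInverseOf hL
        refine ⟨M, hM, ?_⟩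
        have h2 := deg_tensor_invertible k hdim.le hL hM
        rw [deg_congr (k := k) e 1, show Curv2.deg k X (Coh.structureModule X) 1 = 0 by
          simp [Curv2.deg]] at h2
        omega }
  obtain ⟨n, hn0⟩ := Int.subgroup_cyclic H
  rw [← AddSubgroup.zmultiples_eq_closure] at hn0
  have hdvd : ∀ x ∈ s, n.natAbs ∣ Module.finrank k (X.residueField x) := by
    intro x hx
    have hm : ((Module.finrank k (X.residueField x) : ℕ) : ℤ) ∈ H :=
      Groth.Curves1.RR.exists_invertible_deg_residueField k hdim x (hcl x hx) (hn x hx)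
    rw [hn0, Int.mem_zmultiples_iff] at hm
    exact Int.natAbs_dvd_natAbs.2 hm
  have h1' : (1 : ℤ) ∈ H := by
    rw [hn0, Int.mem_zmultiples_iff]
    have h2 := Finset.dvd_gcd hdvd
    rw [hgcd, Nat.dvd_one] at h2
    exact Int.natAbs_dvd.1 (by rw [h2]; simp)
  obtain ⟨L, hL, hdeg⟩ := h1'
  exact Groth.Curves1.RR.iso_projectiveLine k hdim
    (Groth.Curves1.RR.h0_eq_one_of_deg_eq_one k hdim.le L hdeg)
    (Groth.EulerDeg.finrank_eq_zero_of_subsingleton h1) L hL hdeg

end Groth.Agent.S6542
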