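import Groth.Statements.S6551
import Groth.Agent.Curves1.Node.NodalMax
import Groth.Agent.Limits.FlatDescent
import Groth.Agent.Limits.DescentSetup
import Groth.Agent.Limits.Topology

set_option autoImplicit false
universe u
open CategoryTheory AlgebraicGeometry
open Curves

namespace Groth.Agent.S6551

set_option backward.isDefEq.respectTransparency.types false

/-- Let S = lim S_i be the limit of a cofiltered system of schemes with affine transition morphisms, i₀
an index with S_{i₀} quasi-compact and quasi-separated, and f₀ : X₀ → Y₀ a morphism of quasi-compact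
quasi-separated schemes over S_{i₀} which is locally of finite presentation. Write f : X → Y for the
pullback of f₀ along S → S_{i₀}. Assuming f to be at-worst-nodal, with relative dimension 1, there
exists an index i mapping to i₀ for which the pullback f_i : X_i → Y_i of f₀ to S_i is likewise
at-worst-nodal of relative dimension 1. -/
theorem result {I : Type u} [SmallCategory I] [IsCofiltered I]
    (D : I ⥤ Scheme.{u}) (c : Limits.Cone D) (hc : Limits.IsLimit c)
    [∀ (i j : I) (f : i ⟶ j), IsAffineHom (D.map f)] (i₀ : I) [CompactSpace (D.obj i₀)]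
    [QuasiSeparatedSpace (D.obj i₀)] {X₀ Y₀ : Scheme.{u}} (f₀ : X₀ ⟶ Y₀) (g₀ : Y₀ ⟶ D.obj i₀)
    [CompactSpace X₀] [QuasiSeparatedSpace X₀] [CompactSpace Y₀] [QuasiSeparatedSpace Y₀]
    {X Y : Scheme.{u}} (f : X ⟶ Y) (g : Y ⟶ c.pt) (qY : Y ⟶ Y₀) (qX : X ⟶ X₀)
    (hY : IsPullback qY g g₀ (c.π.app i₀)) (hX : IsPullback qX f f₀ qY) [LocallyOfFinitePresentation f₀]
    (hf : Curv2.IsNodalFamily f) :
    ∃ (i : I) (φ : i ⟶ i₀) (Xi Yi : Scheme.{u}) (fi : Xi ⟶ Yi) (gi : Yi ⟶ D.obj i) (pY : Yi ⟶ Y₀)
      (pX : Xi ⟶ X₀), IsPullback pY gi g₀ (D.map φ) ∧ IsPullback pX fi f₀ pY ∧ Curv2.IsNodalFamily fi := by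
  have : Flat f := hf.1
  obtain ⟨j, hflat⟩ := Groth.Limits.exists_prop_stage @Flat Groth.Limits.ringDescends_flat
    (fun _ _ _ h ↦ have : IsOpenImmersion _ := h; inferInstance) hc hY hX inferInstance
  let DY := Groth.Limits.pullbackDiagram D i₀ g₀
  let t : DY ⟶ (Functor.const (Over i₀)).obj Y₀ :=
    { app := fun k => Limits.pullback.snd (D.map k.hom) g₀
      naturality := fun k l m => by
        show DY.map m ≫ Limits.pullback.snd (D.map l.hom) g₀ = Limits.pullback.snd (D.map k.hom) g₀ ≫ 𝟙 _
        rw [Category.comp_id]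
        exact Over.w ((Over.pullback g₀).map ((Over.post D).map m)) }
  let cY := Groth.Limits.pullbackCone D i₀ g₀ c
  let τ : cY.pt ⟶ Y₀ := Limits.pullback.snd (c.π.app i₀) g₀
  have hτ : ∀ k, cY.π.app k ≫ t.app k = τ := fun k =>
    Over.w ((Over.pullback g₀).map (((Over.conePost D i₀).obj c).π.app k))
  have : ∀ (k l : Over i₀) (m : k ⟶ l), IsAffineHom (DY.map m) := fun k l m =>
    Groth.Limits.isAffineHom_pullbackDiagram_map D i₀ g₀ k l m
  let DX := Groth.Limits.bcDiagram t f₀
  let cX := Groth.Limits.bcCone t f₀ cY τ hτ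
  have hcX : Limits.IsLimit cX :=
    Groth.Limits.isLimitBcCone t f₀ cY τ hτ (Groth.Limits.isLimitPullbackCone D i₀ g₀ hc)
  -- the limit morphism is a nodal family
  let f' : Limits.pullback f₀ τ ⟶ cY.pt := Limits.pullback.snd f₀ τ
  let e : Y ≅ cY.pt := hY.flip.isoPullback
  have he : e.hom ≫ τ = qY := hY.flip.isoPullback_hom_snd
  let v : X ⟶ Limits.pullback f₀ τ := Limits.pullback.lift qX (f ≫ e.hom) (hX.w.trans ((congrArg (f ≫ ·) he.symm).trans (Category.assoc _ _ _).symm))
  have hv : IsPullback v f f' e.hom := by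
    refine IsPullback.of_right ?_ (Limits.pullback.lift_snd _ _ _) (IsPullback.of_hasPullback f₀ τ)
    rw [Limits.pullback.lift_fst]
    exact he.symm ▸ hX
  have : Flat f' := by
    have : IsIso v := hv.isIso_fst_of_isIso
    have h1 : inv v ≫ f ≫ e.hom = f' := by rw [← hv.w, IsIso.inv_hom_id_assoc]
    rw [← h1]
    infer_instance
  have : LocallyOfFinitePresentation f' := MorphismProperty.pullback_snd (P := (@LocallyOfFinitePresentation : MorphismProperty Scheme.{u})) _ _ inferInstance
  have : LocallyOfFinitePresentation f := hf.2.1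
  have hall : ∀ x, x ∈ Groth.Curves1.Node.nodalSet f' := by
    intro x
    have : IsIso v := hv.isIso_fst_of_isIso
    obtain ⟨y, rfl⟩ := v.surjective x
    exact (Groth.Curves1.Node.mem_nodalSet_baseChange f' e.hom f v hv y).1
      ((Groth.Curves1.Node.isNodalFamily_iff_nodalSet f).1 hf y)
  -- the bad set at stage `j` misses the limit
  let fj : DX.obj j ⟶ DY.obj j := Limits.pullback.snd f₀ (t.app j)
  have : Flat fj := hflat
  have : LocallyOfFinitePresentation fj :=
    MorphismProperty.pullback_snd (P := (@LocallyOfFinitePresentation : MorphismProperty Scheme.{u})) _ _ inferInstance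
  have : CompactSpace (DX.obj j) := by
    have : IsAffineHom (D.map j.hom) := inferInstance
    have : IsAffineHom (t.app j) :=
      MorphismProperty.pullback_snd (P := (@IsAffineHom : MorphismProperty Scheme.{u})) (D.map j.hom) g₀ inferInstance
    have hqc : QuasiCompact (Limits.pullback.fst f₀ (t.app j)) :=
      MorphismProperty.pullback_fst (P := (@QuasiCompact : MorphismProperty Scheme.{u})) f₀ (t.app j) inferInstance
    show CompactSpace (Limits.pullback f₀ (t.app j) : Scheme.{u})
    exact @QuasiCompact.compactSpace_of_compactSpace _ _ (Limits.pullback.fst f₀ (t.app j)) hqc inferInstance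
  let E : Set (DX.obj j) := (Groth.Curves1.Node.nodalOpen fj : Set (DX.obj j))ᶜ
  have hE : Groth.Limits.QCImage E := by
    have h1 := Groth.Limits.pc_of_isClosed (E := E) (Groth.Curves1.Node.nodalOpen fj).2.isClosed_compl
    have h2 := (Groth.Limits.qcImage_range (𝟙 (DX.obj j))).inter_pc h1
    simpa using h2
  have hempty : ⇑(cX.π.app j) ⁻¹' E = ∅ := by
    have hsq : IsPullback (cX.π.app j) f' fj (cY.π.app j) := by
      refine IsPullback.of_right ?_ (Limits.pullback.lift_snd _ _ _)
        (IsPullback.of_hasPullback f₀ (t.app j))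
      have hfst : cX.π.app j ≫ Limits.pullback.fst f₀ (t.app j) = Limits.pullback.fst f₀ τ :=
        Limits.pullback.lift_fst _ _ _
      rw [hfst]
      exact (hτ j).symm ▸ IsPullback.of_hasPullback f₀ τ
    ext x
    simp only [Set.mem_preimage, Set.mem_empty_iff_false, iff_false]
    exact fun h => h ((Groth.Curves1.Node.mem_nodalSet_baseChange fj (cY.π.app j) f' (cX.π.app j) hsq x).1
      (hall x))
  obtain ⟨k, m, hk⟩ := Groth.Limits.exists_preimage_eq_empty DX cX hcX hE hempty
  refine Groth.Limits.exists_isPullback_of_stage D f₀ g₀ (fun _ _ h => Curv2.IsNodalFamily h) k ?_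
  show Curv2.IsNodalFamily (Limits.pullback.snd f₀ (t.app k))
  have hsq : IsPullback (DX.map m) ((Groth.Limits.bcTrans t f₀).app k) fj (DY.map m) :=
    Groth.Limits.isPullback_bcTrans t f₀ m
  have : Flat ((Groth.Limits.bcTrans t f₀).app k) := MorphismProperty.of_isPullback hsq inferInstance
  have : LocallyOfFinitePresentation ((Groth.Limits.bcTrans t f₀).app k) :=
    MorphismProperty.of_isPullback hsq inferInstance
  refine (Groth.Curves1.Node.isNodalFamily_iff_nodalSet ((Groth.Limits.bcTrans t f₀).app k)).2 fun y => ?_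
  refine (Groth.Curves1.Node.mem_nodalSet_baseChange fj (DY.map m) _ (DX.map m) hsq y).2 ?_
  by_contra hy
  exact Set.notMem_empty y (hk ▸ hy)

end Groth.Agent.S6551
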