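import Groth.Statements.S6553
import Mathlib
import Groth.Agent.Curves1.Node.NodeChar

set_option autoImplicit false
universe u
open CategoryTheory CategoryTheory.Limits AlgebraicGeometry
open Curves

namespace Groth.Agent.S6553

/-- Let k'/k be a finite separable extension of fields, X a scheme locally of finite type over k' of
dimension 1, and x ∈ X a closed point. Then x is a node of the k'-scheme X if and only if x is a
node of X viewed as a k-scheme via Spec k' → Spec k. -/
theorem result (k : Type u) [Field k] (k' : Type u) [Field k'] [Algebra k k']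
    [FiniteDimensional k k'] [Algebra.IsSeparable k k']
    (X : Scheme.{u}) [X.Over (Spec (CommRingCat.of k'))] [LocallyOfFiniteType (X ↘ (Spec (CommRingCat.of k')))] (hdim : topologicalKrullDim X = 1)
    (x : X) (hx : IsClosed ({x} : Set X)) :
    Curv2.IsNode k' X x ↔
      @Curv2.IsNode k _ X ⟨(X ↘ (Spec (CommRingCat.of k'))) ≫ Spec.map (CommRingCat.ofHom (algebraMap k k'))⟩ x := by
  let f := X ↘ (Spec (CommRingCat.of k'))
  let σ := Spec.map (CommRingCat.ofHom (algebraMap k k'))
  let O : X.Over (Spec (CommRingCat.of k)) := ⟨f ≫ σ⟩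
  have : LocallyOfFiniteType σ :=
    (HasRingHomProperty.Spec_iff (P := @LocallyOfFiniteType)).2
      (RingHom.finiteType_algebraMap.mpr inferInstance)
  have : LocallyOfFiniteType (X ↘ (Spec (CommRingCat.of k))) :=
    inferInstanceAs (LocallyOfFiniteType (f ≫ σ))
  rw [Groth.Curves1.Node.isNode_iff_isNodeStalk x, Groth.Curves1.Node.isNode_iff_isNodeStalk x]
  let := Curv2.resAlgebra k' X x
  let := @Curv2.resAlgebra k _ X O x
  have : IsScalarTower k k' (X.residueField x) := IsScalarTower.of_algebraMap_eq' (by
    show Curv2.resMap k X x = (Curv2.resMap k' X x).comp (algebraMap k k')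
    have h : Coh.toGlobal (f ≫ σ) = (Coh.toGlobal f).comp (algebraMap k k') := by
      simp only [Coh.toGlobal, Scheme.Hom.comp_appTop, CommRingCat.hom_comp, RingHom.comp_assoc]
      refine (congrArg (fun g => f.appTop.hom.comp g) ?_).trans (RingHom.comp_assoc _ _ _).symm
      exact congrArg CommRingCat.Hom.hom
        (Scheme.ΓSpecIso_inv_naturality (CommRingCat.ofHom (algebraMap k k'))).symm
    simp only [Curv2.resMap, Curv2.stalkMap, RingHom.comp_assoc]
    exact congrArg (fun g => (X.residue x).hom.comp ((X.presheaf.germ ⊤ x trivial).hom.comp g)) h)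
  constructor
  · rintro ⟨hsep, h⟩
    exact ⟨Algebra.IsSeparable.trans k k' (X.residueField x), h⟩
  · rintro ⟨hsep, h⟩
    exact ⟨Algebra.isSeparable_tower_top_of_isSeparable k k' (X.residueField x), h⟩

end Groth.Agent.S6553
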