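import Groth.Statements.S6554
import Groth.Agent.Curves1.CurveMor.Flat
import Groth.Agent.Variety2.EtaleLocus
import Groth.Agent.VarietyBC.SmoothChart
import Groth.Agent.Ega4Algebra1.RegularNormal
import Mathlib

set_option autoImplicit false
universe u
open CategoryTheory CategoryTheory.Limits AlgebraicGeometry
open Curves

namespace Groth.Agent.S6554

/-- (3) ⇔ (4) ⇔ (5): let k be a field and f : X → Y a morphism over k of smooth curves over k (integral,
separated, of finite type and smooth over k, of dimension one) which is nonconstant: f(ξ_X) = ξ_Y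
for the generic points ξ_X of X and ξ_Y of Y (hypothesis e), so that the function field k(Y) maps
into k(X). Then: some nonempty open U ⊆ X has f|_U unramified if and only if some nonempty open U ⊆
X has f|_U étale; and the latter holds if and only if k(X)/k(Y) is a finite separable extension.
(The published statement also lists two further equivalent conditions, that df : f^*Ω_{Y/k} →
Ω_{X/k} is nonzero and that Ω_{X/Y} is supported on a proper closed subset; this row omits them. For
a constant f every condition stated here fails, so assuming f nonconstant loses nothing.) -/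
theorem result (k : Type u) [Field k]
    (X Y : Scheme.{u}) [X.Over (Spec (CommRingCat.of k))] [Y.Over (Spec (CommRingCat.of k))]
    [IsIntegral X] [IsSeparated (X ↘ (Spec (CommRingCat.of k)))] [LocallyOfFiniteType (X ↘ (Spec (CommRingCat.of k)))] [QuasiCompact (X ↘ (Spec (CommRingCat.of k)))] (hdX : topologicalKrullDim X = 1) [Smooth (X ↘ (Spec (CommRingCat.of k)))]
    [IsIntegral Y] [IsSeparated (Y ↘ (Spec (CommRingCat.of k)))] [LocallyOfFiniteType (Y ↘ (Spec (CommRingCat.of k)))] [QuasiCompact (Y ↘ (Spec (CommRingCat.of k)))] (hdY : topologicalKrullDim Y = 1) [Smooth (Y ↘ (Spec (CommRingCat.of k)))]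
    (f : X ⟶ Y) (hf : f ≫ (Y ↘ (Spec (CommRingCat.of k))) = X ↘ (Spec (CommRingCat.of k))) (e : f (genericPoint X) = genericPoint Y) :
    letI := ((Y.presheaf.stalkSpecializes (specializes_of_eq e) ≫ f.stalkMap (genericPoint X)).hom).toAlgebra
    ((∃ U : X.Opens, (U : Set X).Nonempty ∧ FormallyUnramified (U.ι ≫ f)) ↔
      (∃ U : X.Opens, (U : Set X).Nonempty ∧ Etale (U.ι ≫ f))) ∧
    ((∃ U : X.Opens, (U : Set X).Nonempty ∧ Etale (U.ι ≫ f)) ↔
      (FiniteDimensional Y.functionField X.functionField ∧ Algebra.IsSeparable Y.functionField X.functionField)) := by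
  let := ((Y.presheaf.stalkSpecializes (specializes_of_eq e) ≫ f.stalkMap (genericPoint X)).hom).toAlgebra
  have : IsLocallyNoetherian Y := LocallyOfFiniteType.isLocallyNoetherian (Y ↘ (Spec (CommRingCat.of k)))
  have : LocallyOfFiniteType (f ≫ (Y ↘ (Spec (CommRingCat.of k)))) := hf ▸ inferInstance
  have : LocallyOfFiniteType f := locallyOfFiniteType_of_comp f (Y ↘ (Spec (CommRingCat.of k)))
  have : LocallyOfFinitePresentation f := inferInstance
  have : Flat f := by
    refine Groth.Curves1.CurveMor.flat_of_dominant f e (fun y => ?_) hdY.le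
    have := Groth.VarietyBC.isRegularLocalRing_of_mem_smoothLocus (k := k) (x := y)
      (by rw [Scheme.Hom.smoothLocus_eq_top]; trivial)
    exact Groth.Ega4Algebra1.isIntegrallyClosed_of_isRegularLocalRing (Y.presheaf.stalk y)
  have h1 : IsIso (Y.presheaf.stalkSpecializes (specializes_of_eq e)) :=
    (TopCat.Presheaf.stalkCongr Y.presheaf (Inseparable.of_eq e.symm)).isIso_hom
  have hess : Algebra.EssFiniteType Y.functionField X.functionField := by
    rw [← RingHom.essFiniteType_algebraMap]
    exact (RingHom.EssFiniteType.respectsIso.cancel_left_isIso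
      (Y.presheaf.stalkSpecializes (specializes_of_eq e)) (f.stalkMap (genericPoint X))).2
      (LocallyOfFiniteType.stalkMap f _)
  have key : (∃ U : X.Opens, (U : Set X).Nonempty ∧ Etale (U.ι ≫ f)) ↔
      Algebra.FormallyEtale Y.functionField X.functionField := by
    rw [← RingHom.formallyEtale_algebraMap]
    refine Iff.trans ?_ (Groth.Variety2.formallyEtale_respectsIso.cancel_left_isIso
      (Y.presheaf.stalkSpecializes (specializes_of_eq e)) (f.stalkMap (genericPoint X))).symm
    constructor
    · rintro ⟨U, hU, hUf⟩
      have hξ : genericPoint X ∈ U :=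
        ((genericPoint_spec X).mem_open_set_iff U.isOpen).2 (by simpa using hU)
      have h2 : ((U.ι ≫ f).stalkMap ⟨genericPoint X, hξ⟩).hom.FormallyEtale := by
        have := hUf
        let := ((U.ι ≫ f).stalkMap ⟨genericPoint X, hξ⟩).hom.toAlgebra
        have hsm : ((U.ι ≫ f).stalkMap ⟨genericPoint X, hξ⟩).hom.FormallySmooth := by
          rw [← Scheme.Hom.mem_smoothLocus, Scheme.Hom.smoothLocus_eq_top]; trivial
        have hun := FormallyUnramified.stalkMap (U.ι ≫ f) ⟨genericPoint X, hξ⟩
        exact Algebra.FormallyEtale.iff_formallyUnramified_and_formallySmooth.2 ⟨hun, hsm⟩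
      rw [Scheme.Hom.stalkMap_comp] at h2
      have hiso : IsIso (U.ι.stalkMap ⟨genericPoint X, hξ⟩) :=
        (IsOpenImmersion.iff_isIso_stalkMap.mp (inferInstance : IsOpenImmersion U.ι)).2 _
      exact (@RingHom.RespectsIso.cancel_right_isIso _ Groth.Variety2.formallyEtale_respectsIso _ _ _
        (f.stalkMap (genericPoint X)) (U.ι.stalkMap ⟨genericPoint X, hξ⟩) hiso).1 h2
    · intro h
      obtain ⟨W, hW, hWf⟩ := Groth.Variety2.exists_etale_of_formallyEtale_stalk f (genericPoint X) h
      exact ⟨W, ⟨_, hW⟩, hWf⟩
  constructor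
  · constructor
    · rintro ⟨U, hU, hUf⟩
      exact ⟨U, hU, Etale.of_formallyUnramified_of_flat (U.ι ≫ f)⟩
    · rintro ⟨U, hU, hUf⟩
      exact ⟨U, hU, inferInstance⟩
  · rw [key]
    constructor
    · intro h
      refine ⟨?_, (Algebra.FormallyEtale.iff_isSeparable Y.functionField X.functionField).1 h⟩
      exact Algebra.FormallyUnramified.finite_of_free Y.functionField X.functionField
    · rintro ⟨-, h⟩
      exact (Algebra.FormallyEtale.iff_isSeparable Y.functionField X.functionField).2 h

end Groth.Agent.S6554
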