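import Groth.Statements.S6555
import Groth.Agent.Curves1.CurveMor.Uniformizer
import Groth.Agent.Ega4Algebra1.RegularLocal
import Mathlib

set_option autoImplicit false
universe u
open CategoryTheory CategoryTheory.Limits AlgebraicGeometry
attribute [local instance] Curv2.resAlgebra Curv2.stalkAlgebra
open Curves

namespace Groth.Agent.S6555

/-- Let X be a scheme over the field k and x ∈ X a closed point near which X → Spec k is smooth of
relative dimension 1 (on some open neighbourhood of x), with κ(x)/k separable. If s is an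
irreducible element of the local ring O_{X,x} (a discrete valuation ring, so s generates its maximal
ideal), then Ω_{O_{X,x}/k}, which is the stalk of Ω_{X/k} at x, is free of rank one with basis d s:
the map a ↦ a · d s from O_{X,x} to Ω_{O_{X,x}/k} is bijective. -/
theorem result (k : Type u) [Field k] (X : Scheme.{u}) [X.Over (Spec (CommRingCat.of k))]
    (x : X) (hx : IsClosed ({x} : Set X))
    (hsm : ∃ U : X.Opens, x ∈ U ∧ SmoothOfRelativeDimension 1 (U.ι ≫ (X ↘ (Spec (CommRingCat.of k)))))
    (hsep : Algebra.IsSeparable k (X.residueField x))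
    (s : X.presheaf.stalk x) (hs : Irreducible s) :
    Function.Bijective (fun a : X.presheaf.stalk x => a • KaehlerDifferential.D k (X.presheaf.stalk x) s) := by
  obtain ⟨U, hxU, hU⟩ := hsm
  let p := X ↘ (Spec (CommRingCat.of k))
  have hdim := Groth.Curves1.CurveMor.ringKrullDim_stalk_le_one_of_smooth p U hxU
  obtain ⟨_, ⟨W : X.Opens, hW, rfl⟩, hxW, hWU⟩ := X.isBasis_affineOpens.exists_subset_of_mem_open hxU U.2
  -- the stalk is formally smooth and essentially of finite type
  have hsm' : Smooth (W.ι ≫ p) := by
    rw [← X.homOfLE_ι hWU, Category.assoc]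
    have : Smooth (U.ι ≫ p) := SmoothOfRelativeDimension.smooth 1 _
    infer_instance
  have : IsAffine W := hW
  letI := (Groth.VarietyBC.openMap (k := k) hW).toAlgebra
  have hft : Algebra.FiniteType k Γ(X, W) := by
    have h : LocallyOfFiniteType (W.ι ≫ p) := inferInstance
    have h' : LocallyOfFiniteType (hW.fromSpec ≫ p) := by
      rw [← IsAffineOpen.isoSpec_inv_ι, Category.assoc]
      infer_instance
    rw [Groth.VarietyBC.fromSpec_str] at h'
    exact (HasRingHomProperty.Spec_iff (P := @LocallyOfFiniteType)).1 h'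
  obtain ⟨e⟩ := Groth.VarietyBC.nonempty_stalkAlgEquiv (k := k) hW hxW
  have : Algebra.Smooth k Γ(X, W) := by
    have h' : Smooth (hW.fromSpec ≫ p) := by
      rw [← IsAffineOpen.isoSpec_inv_ι, Category.assoc]
      infer_instance
    rw [Groth.VarietyBC.fromSpec_str] at h'
    exact RingHom.smooth_algebraMap.mp ((HasRingHomProperty.Spec_iff (P := @Smooth)).1 h')
  have : Algebra.FormallySmooth k (Localization.AtPrime (hW.primeIdealOf ⟨x, hxW⟩).asIdeal) :=
    Algebra.FormallySmooth.comp k Γ(X, W) _
  have : Algebra.FormallySmooth k (X.presheaf.stalk x) := Algebra.FormallySmooth.of_equiv e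
  have : Algebra.EssFiniteType k (X.presheaf.stalk x) :=
    Algebra.EssFiniteType.of_surjective e.toAlgHom e.surjective
  have : IsNoetherianRing Γ(X, W) := Algebra.FiniteType.isNoetherianRing k _
  have : IsRegularLocalRing (X.presheaf.stalk x) := by
    have : Algebra.IsSmoothAt k (hW.primeIdealOf ⟨x, hxW⟩).asIdeal := ‹_›
    exact (Groth.VarietyBC.isRegularLocalRing_stalk_iff hW hxW).1
      (Groth.Calg4.isRegularLocalRing_of_isSmoothAt (k := k) _)
  have := Groth.Ega4Algebra1.isDomain_of_isRegularLocalRing (X.presheaf.stalk x)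
  have hrank : ((IsLocalRing.maximalIdeal (X.presheaf.stalk x)).spanFinrank : WithBot ℕ∞) ≤ 1 :=
    IsRegularLocalRing.spanFinrank_maximalIdeal.le.trans hdim
  have hprin : (IsLocalRing.maximalIdeal (X.presheaf.stalk x)).IsPrincipal := by
    obtain ⟨t, ht, hspan⟩ := Submodule.FG.exists_span_finset_card_eq_spanFinrank
      (IsNoetherian.noetherian (IsLocalRing.maximalIdeal (X.presheaf.stalk x)))
    have hc : t.card ≤ 1 := by
      have : (IsLocalRing.maximalIdeal (X.presheaf.stalk x)).spanFinrank ≤ 1 := by exact_mod_cast hrank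
      omega
    rcases Finset.eq_empty_or_nonempty t with rfl | ⟨z, hz⟩
    · exact ⟨0, by rw [← hspan]; simp⟩
    · refine ⟨z, ?_⟩
      rw [← hspan, Finset.eq_singleton_iff_unique_mem.mpr
        ⟨hz, fun w hw => Finset.card_le_one.mp hc w hw z hz⟩, Finset.coe_singleton]
  obtain ⟨π, hπ⟩ := hprin
  have hspan : IsLocalRing.maximalIdeal (X.presheaf.stalk x) = Ideal.span {s} := by
    have hsm : s ∈ IsLocalRing.maximalIdeal (X.presheaf.stalk x) := hs.not_isUnit
    rw [hπ, Ideal.submodule_span_eq] at hsm ⊢
    obtain ⟨c, hc⟩ := Ideal.mem_span_singleton'.1 hsm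
    have hπu : ¬ IsUnit π := by
      intro hu
      have h1 : π ∈ IsLocalRing.maximalIdeal (X.presheaf.stalk x) := by
        rw [hπ, Ideal.submodule_span_eq]; exact Ideal.mem_span_singleton_self π
      exact h1 hu
    rcases hs.isUnit_or_isUnit hc.symm with hcu | hπ'
    · rw [← hc]
      exact (Ideal.span_singleton_mul_left_unit hcu π).symm
    · exact absurd hπ' hπu
  have : Algebra.IsSeparable k (IsLocalRing.ResidueField (X.presheaf.stalk x)) := hsep
  exact Groth.Curves1.CurveMor.bijective_D_uniformizer hspan hs.ne_zero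

end Groth.Agent.S6555
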