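import Groth.Statements.S6557
import Groth.Agent.Curves1.CurveMor.Smooth
import Mathlib

set_option autoImplicit false
universe u
open CategoryTheory CategoryTheory.Limits AlgebraicGeometry
open Curves

namespace Groth.Agent.S6557

/-- Let k be a field and f : X → Y a surjective morphism over k of curves over k (integral, separated,
of finite type over k, of dimension one). If X is smooth over k and every local ring of Y is an
integrally closed domain, then Y is also smooth over k. -/
theorem result (k : Type u) [Field k]
    (X Y : Scheme.{u}) [X.Over (Spec (CommRingCat.of k))] [Y.Over (Spec (CommRingCat.of k))]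
    [IsIntegral X] [IsSeparated (X ↘ (Spec (CommRingCat.of k)))] [LocallyOfFiniteType (X ↘ (Spec (CommRingCat.of k)))] [QuasiCompact (X ↘ (Spec (CommRingCat.of k)))] (hdX : topologicalKrullDim X = 1) [IsIntegral Y] [IsSeparated (Y ↘ (Spec (CommRingCat.of k)))] [LocallyOfFiniteType (Y ↘ (Spec (CommRingCat.of k)))] [QuasiCompact (Y ↘ (Spec (CommRingCat.of k)))] (hdY : topologicalKrullDim Y = 1)
    (f : X ⟶ Y) (hf : f ≫ (Y ↘ (Spec (CommRingCat.of k))) = X ↘ (Spec (CommRingCat.of k))) [Surjective f]
    [Smooth (X ↘ (Spec (CommRingCat.of k)))] (hY : Pi1.IsNormalScheme Y) :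
    Smooth (Y ↘ (Spec (CommRingCat.of k))) := by
  have hgen : f (genericPoint X) = genericPoint Y := by
    refine Groth.Curves1.CurveMor.map_genericPoint (Y ↘ (Spec (CommRingCat.of k))) f hdY.le ?_
    rw [f.surjective.range_eq]
    have hnc := Groth.Curves1.CurveMor.not_isClosed_genericPoint hdY
    by_contra hs
    rw [Set.not_nontrivial_iff] at hs
    refine hnc ?_
    rw [show ({genericPoint Y} : Set Y) = Set.univ from
      Set.eq_univ_of_forall fun y => hs trivial trivial]
    exact isClosed_univ
  have : IsLocallyNoetherian Y := LocallyOfFiniteType.isLocallyNoetherian (Y ↘ (Spec (CommRingCat.of k)))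
  have := Groth.Curves1.CurveMor.flat_of_dominant f hgen (fun y => (hY y).2) hdY.le
  exact Groth.Curves1.CurveMor.smooth_of_flat_surjective f hf

end Groth.Agent.S6557
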