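import Groth.Statements.S6558
import Groth.Agent.S7826
import Groth.Agent.CurveBridge.FrobFactor
import Groth.Agent.Curves1.RR.BaseChange
import Groth.Agent.Ega4Algebra1.RegularNormal

set_option autoImplicit false
set_option backward.isDefEq.respectTransparency.types false
universe u
open CategoryTheory CategoryTheory.Limits AlgebraicGeometry
open Curves

namespace Groth.Agent.S6558

open scoped Groth.CurveBridge
open Groth.Curves1.FrobTwist

/-- Let p be a prime number, k a field of characteristic p, and f : X → Y a nonconstant morphism over k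
of proper nonsingular curves over k (proper, integral, of dimension one, all local rings regular),
nonconstant meaning f(ξ_X) = ξ_Y for the generic points (hypothesis e), so that k(Y) maps into k(X).
Assume X is smooth over k with H^0(X, O_X) = k and k(X)/k(Y) purely inseparable. Then Y is smooth
over k, its global functions are the constants k, and Y and X have the same genus. -/
theorem result (k : Type u) [Field k] (p : ℕ) [Fact p.Prime] [CharP k p]
    (X Y : Scheme.{u}) [X.Over (Spec (CommRingCat.of k))] [Y.Over (Spec (CommRingCat.of k))]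
    [IsIntegral X] [IsProper (X ↘ (Spec (CommRingCat.of k)))] (hdX : topologicalKrullDim X = 1) (hregX : ∀ x : X, IsRegularLocalRing (X.presheaf.stalk x))
    [IsIntegral Y] [IsProper (Y ↘ (Spec (CommRingCat.of k)))] (hdY : topologicalKrullDim Y = 1) (hregY : ∀ y : Y, IsRegularLocalRing (Y.presheaf.stalk y))
    (f : X ⟶ Y) (hf : f ≫ (Y ↘ (Spec (CommRingCat.of k))) = X ↘ (Spec (CommRingCat.of k))) (e : f (genericPoint X) = genericPoint Y)
    [Smooth (X ↘ (Spec (CommRingCat.of k)))] (h0 : Module.finrank k (Coh.HH X (Coh.structureModule X) 0) = 1)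
    (hpi : letI := ((Y.presheaf.stalkSpecializes (specializes_of_eq e) ≫ f.stalkMap (genericPoint X)).hom).toAlgebra
      IsPurelyInseparable Y.functionField X.functionField) :
    Smooth (Y ↘ (Spec (CommRingCat.of k))) ∧ Module.finrank k (Coh.HH Y (Coh.structureModule Y) 0) = 1 ∧
      Curv2.genus k Y = Curv2.genus k X := by
  classical
  have hp : p.Prime := Fact.out
  haveI : ExpChar k p := ExpChar.prime hp
  have hgen : f (genericPoint X) = genericPoint Y := e
  haveI : IsProper (f ≫ (Y ↘ Spec (CommRingCat.of k))) := hf ▸ inferInstance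
  haveI : IsProper f := IsProper.of_comp f (Y ↘ Spec (CommRingCat.of k))
  haveI : LocallyQuasiFinite f := by
    exact Groth.Curves1.CurveMor.locallyQuasiFinite _ (Y ↘ Spec (CommRingCat.of k)) f hf hdX.le fun x hx hc => by
      rw [Groth.CurveBridge.isClosed_singleton_iff X hdX, not_not] at hx
      subst hx
      rw [e] at hc
      exact (Groth.CurveBridge.isClosed_singleton_iff Y hdY _).mp hc rfl
  haveI : IsFinite f := IsFinite.of_isProper_of_locallyQuasiFinite f
  obtain ⟨r, Z, sZ, F, g, q, hZ, eg, hZp, hZs, hdZ, hFs, hFg, hg, hpb, hsep⟩ :=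
    Groth.CurveBridge.FrobFactor.exists_separable_factor p (X ↘ Spec (CommRingCat.of k))
      (Y ↘ Spec (CommRingCat.of k)) hdX f hf e
  letI : Z.Over (Spec (CommRingCat.of k)) := ⟨sZ⟩
  haveI := hZ
  haveI := hFs
  haveI : IsProper (Z ↘ Spec (CommRingCat.of k)) := hZp
  haveI : Smooth (Z ↘ Spec (CommRingCat.of k)) := hZs
  have hnY : Pi1.IsNormalScheme Y := fun y => by
    haveI := hregY y
    exact ⟨Groth.Ega4Algebra1.isDomain_of_isRegularLocalRing _,
      Groth.Ega4Algebra1.isIntegrallyClosed_of_isRegularLocalRing _⟩
  have hnZ : Pi1.IsNormalScheme Z := Groth.NeronArea.isNormalScheme_of_smooth sZ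
    (Groth.Calg4.NormChar.isNormalScheme_specField _ (Field.toIsField k))
  have eF : F (genericPoint X) = genericPoint Z := by
    have h := (genericPoint_spec X).image F.continuous
    rw [Set.image_univ, F.surjective.range_eq, closure_univ] at h
    exact h.eq (genericPoint_spec Z)
  letI aYZ : Algebra Y.functionField Z.functionField := (fieldMap g eg).toAlgebra
  letI aYX : Algebra Y.functionField X.functionField := (fieldMap f e).toAlgebra
  letI aZX : Algebra Z.functionField X.functionField := (fieldMap F eF).toAlgebra
  haveI : IsScalarTower Y.functionField Z.functionField X.functionField := by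
    refine IsScalarTower.of_algebraMap_eq' ?_
    change fieldMap f e = (fieldMap F eF).comp (fieldMap g eg)
    subst hFg
    exact fieldMap_comp F g eF eg e
  haveI : IsPurelyInseparable Y.functionField X.functionField := hpi
  haveI : IsPurelyInseparable Y.functionField Z.functionField :=
    IsPurelyInseparable.tower_bot Y.functionField Z.functionField X.functionField
  haveI : Algebra.IsSeparable Y.functionField Z.functionField := hsep
  have hsurj : Function.Surjective (fieldMap g eg) :=
    IsPurelyInseparable.surjective_algebraMap_of_isSeparable Y.functionField Z.functionField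
  have hbm : ∀ (W : Scheme.{u}) [W.Over (Spec (CommRingCat.of k))] [IsIntegral W] (c : k),
      baseMap (W ↘ Spec (CommRingCat.of k)) c = algebraMap k W.functionField c := fun W _ _ c => by
    have h : Spec.map (CommRingCat.ofHom (baseMap (W ↘ Spec (CommRingCat.of k)))) =
        Spec.map (CommRingCat.ofHom (algebraMap k W.functionField)) :=
      (specMap_baseMap _).trans (Groth.CurveBridge.fromSpecStalk_over k (genericPoint W))
    exact congr($(Spec.map_injective h).hom c)
  let φ : Y.functionField ≃ₐ[k] Z.functionField :=
    AlgEquiv.ofRingEquiv (f := RingEquiv.ofBijective (fieldMap g eg) ⟨(fieldMap g eg).injective, hsurj⟩)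
      fun c => by
        rw [← hbm Y c, ← hbm Z c]
        exact congr($(fieldMap_baseMap (Z ↘ Spec (CommRingCat.of k)) (Y ↘ Spec (CommRingCat.of k)) g hg eg) c)
  obtain ⟨u, hu⟩ := Groth.Agent.S7826.exists_iso_of_algEquiv k hnZ hnY hdZ.le hdY.le φ
  have hu' : u.inv ≫ (Z ↘ Spec (CommRingCat.of k)) = Y ↘ Spec (CommRingCat.of k) := by
    rw [← hu, Iso.inv_hom_id_assoc]
  have hid : IsPullback u.inv (Y ↘ Spec (CommRingCat.of k)) (Z ↘ Spec (CommRingCat.of k))
      (Spec.map (CommRingCat.ofHom (algebraMap k k))) := by
    rw [show CommRingCat.ofHom (algebraMap k k) = 𝟙 _ from rfl, Spec.map_id]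
    exact IsPullback.of_horiz_isIso ⟨by rw [hu', Category.comp_id]⟩
  have hfin : ∀ n : ℕ, Module.finrank k (Coh.HH Y (Coh.structureModule Y) n) =
      Module.finrank k (Coh.HH X (Coh.structureModule X) n) := fun n =>
    (Groth.Curves1.RR.finrank_structure hid n).trans
      (@Groth.Curves1.RR.finrank_structure k k _ _ (iterateFrobenius k p r).toAlgebra X Z _ _ _ q hpb n)
  refine ⟨?_, (hfin 0).trans h0, hfin 1⟩
  rw [← hu']
  infer_instance

end Groth.Agent.S6558
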