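import Groth.Statements.S6559
import Groth.Agent.Ega2Proj.ExtendCodimOne
import Mathlib

set_option autoImplicit false
universe u
open CategoryTheory CategoryTheory.Limits AlgebraicGeometry
open Curves

namespace Groth.Agent.S6559

/-- Let k be a field, X a curve over k (integral, separated and of finite type over k, of dimension
one), Y a proper variety over k (integral, proper over k), U ⊆ X a nonempty open and f : U → Y a
morphism over k. If the local ring of X at a closed point x is a discrete valuation ring, then f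
extends to a k-morphism U' → Y on some open U' ⊇ U of X containing x. -/
theorem result (k : Type u) [Field k]
    (X Y : Scheme.{u}) [X.Over (Spec (CommRingCat.of k))] [Y.Over (Spec (CommRingCat.of k))]
    [IsIntegral X] [IsSeparated (X ↘ (Spec (CommRingCat.of k)))] [LocallyOfFiniteType (X ↘ (Spec (CommRingCat.of k)))] [QuasiCompact (X ↘ (Spec (CommRingCat.of k)))] (hdX : topologicalKrullDim X = 1)
    [IsIntegral Y] [IsProper (Y ↘ (Spec (CommRingCat.of k)))]
    (U : X.Opens) (hU : (U : Set X).Nonempty) (f : (U : Scheme.{u}) ⟶ Y) (hf : f ≫ (Y ↘ (Spec (CommRingCat.of k))) = U.ι ≫ (X ↘ (Spec (CommRingCat.of k))))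
    (x : X) (hx : IsClosed ({x} : Set X)) (hdvr : IsDiscreteValuationRing (X.presheaf.stalk x)) :
    ∃ (U' : X.Opens) (hUU' : U ≤ U') (f' : (U' : Scheme.{u}) ⟶ Y), x ∈ U' ∧
      f' ≫ (Y ↘ (Spec (CommRingCat.of k))) = U'.ι ≫ (X ↘ (Spec (CommRingCat.of k))) ∧ X.homOfLE hUU' ≫ f' = f := by
  let p := Y ↘ (Spec (CommRingCat.of k))
  let q := X ↘ (Spec (CommRingCat.of k))
  have : IsLocallyNoetherian X := LocallyOfFiniteType.isLocallyNoetherian q
  have hUd : Dense (U : Set X) := U.isOpen.dense hU
  obtain ⟨U', hUU', f', h1, h2, h3⟩ := Groth.Ega2Proj.exists_extension_of_local p q U hUd f hf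
    (fun y => y = x) fun y hy => by
    subst hy
    refine Groth.Ega2Proj.exists_local_extension p q U hUd f hf y fun x0 hx0 => ?_
    haveI : UniversallyClosed (pullback.snd p q) := inferInstance
    obtain ⟨φ, h1, h2⟩ := Groth.Ega2Proj.exists_lift_of_isClosedMap_of_valuationRing (pullback.snd p q)
      (pullback.snd p q).isClosedMap y (pullback.lift x0 (Spec.map (CommRingCat.ofHom
        (algebraMap (X.presheaf.stalk y) (FractionRing (X.presheaf.stalk y)))) ≫ X.fromSpecStalk y)
        (by rw [hx0, Category.assoc])) (pullback.lift_snd _ _ _)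
    refine ⟨φ ≫ pullback.fst p q, ?_, ?_⟩
    · rw [Category.assoc, pullback.condition, ← Category.assoc, h1]
    · exact (Category.assoc _ _ _).symm.trans ((congrArg (· ≫ pullback.fst p q) h2).trans (pullback.lift_fst _ _ _))
  exact ⟨U', hUU', f', h3 x rfl, h1, h2⟩

end Groth.Agent.S6559
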