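import Groth.Statements.S6563
import Mathlib.AlgebraicGeometry.ZariskisMainTheorem
import Groth.Agent.NagComp.DenseComp
import Groth.Agent.VarietyBC.CurveProj
-- import your own Groth.Agent.* helpers here

set_option autoImplicit false
universe u
open CategoryTheory CategoryTheory.Limits AlgebraicGeometry
open Curves

namespace Groth.Agent.S6563

/-- Let k be a field and f : X → Y a morphism over k of varieties over k, with X a curve (integral,
separated and of finite type over k, of dimension one) and Y proper over k (and integral). Then f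
extends over a projective completion of X: there are a projective curve X̄ over k (integral, of
dimension one, admitting a closed immersion over k into some P^n_k), an open immersion j : X → X̄
over k and a k-morphism g : X̄ → Y with g ∘ j = f. -/
theorem result (k : Type u) [Field k]
    (X Y : Scheme.{u}) [X.Over (Spec (CommRingCat.of k))] [Y.Over (Spec (CommRingCat.of k))]
    [IsIntegral X] [IsSeparated (X ↘ (Spec (CommRingCat.of k)))] [LocallyOfFiniteType (X ↘ (Spec (CommRingCat.of k)))] [QuasiCompact (X ↘ (Spec (CommRingCat.of k)))] (hdX : topologicalKrullDim X = 1)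
    [IsIntegral Y] [IsProper (Y ↘ (Spec (CommRingCat.of k)))]
    (f : X ⟶ Y) (hf : f ≫ (Y ↘ (Spec (CommRingCat.of k))) = X ↘ (Spec (CommRingCat.of k))) :
    ∃ (Xb : Scheme.{u}) (_ : Xb.Over (Spec (CommRingCat.of k))) (j : X ⟶ Xb) (g : Xb ⟶ Y),
      IsOpenImmersion j ∧ j ≫ g = f ∧ j ≫ (Xb ↘ (Spec (CommRingCat.of k))) = X ↘ (Spec (CommRingCat.of k)) ∧ g ≫ (Y ↘ (Spec (CommRingCat.of k))) = Xb ↘ (Spec (CommRingCat.of k)) ∧
      IsIntegral Xb ∧ topologicalKrullDim Xb = 1 ∧
      ∃ (n : ℕ) (i : Xb ⟶ CohB1.ProjSpace n k), IsClosedImmersion i ∧ i ≫ CohB1.ProjSpace.toSpec n k = Xb ↘ (Spec (CommRingCat.of k)) := by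
  classical
  obtain ⟨Cb, j, g, φ, hj, hjq, hsd, hd, hg, hjg, hφ, hjφ⟩ :=
    Groth.NagComp.exists_compactification_over (X ↘ (Spec (CommRingCat.of k)))
      (Y ↘ (Spec (CommRingCat.of k))) f hf
  haveI : IrreducibleSpace Cb := by
    rw [irreducibleSpace_def]
    show IsIrreducible (Set.univ : Set Cb)
    rw [← hd.denseRange.closure_range, ← Set.image_univ]
    exact ((IrreducibleSpace.isIrreducible_univ X).image _ j.continuous.continuousOn).closure
  haveI : IsReduced Cb := IsSchemeTheoreticallyDominant.isReduced j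
  haveI : IsIntegral Cb := isIntegral_of_irreducibleSpace_of_isReduced Cb
  haveI : CompactSpace Cb := QuasiCompact.compactSpace_of_compactSpace g
  haveI : IsLocallyNoetherian Cb := LocallyOfFiniteType.isLocallyNoetherian g
  have hdim : topologicalKrullDim Cb = 1 := by
    rw [← Groth.Variety2.Dim.dim_opens g j.opensRange ⟨_, genericPoint X, rfl⟩]
    exact (j.isoOpensRange.hom.homeomorph.isHomeomorph.topologicalKrullDim_eq _).symm.trans hdX
  obtain ⟨n, i, hi, -, hif⟩ := Groth.VarietyBC.CurveProj.exists_immersion k g hdim.le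
  haveI : IsProper (i ≫ CohB1.ProjSpace.toSpec n k) := hif.symm ▸ hg
  haveI : IsProper (CohB1.ProjSpace.toSpec n k) := Groth.Variety2.isProper_projSpace_toSpec n k
  haveI : IsProper i := IsProper.of_comp i (CohB1.ProjSpace.toSpec n k)
  exact ⟨Cb, ⟨g⟩, j, φ, hj, hjφ, hjg, hφ, inferInstance, hdim, n, i,
    (IsClosedImmersion.iff_isProper_and_mono i).mpr ⟨inferInstance, inferInstance⟩, hif⟩

end Groth.Agent.S6563
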