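import Groth.Statements.S6564
import Mathlib.Data.Fintype.BigOperators

set_option autoImplicit false
universe u
open CategoryTheory CategoryTheory.Limits AlgebraicGeometry
open Curves

namespace Groth.Agent.S6564

/-- Let X be proper over the field k of dimension at most 1. If X has a g^r_d (an invertible module L of
degree d with an ordered family of r + 1 global sections linearly independent over k), then X has a
g^s_d for every 0 ≤ s ≤ r. -/
theorem result (k : Type u) [Field k] (X : Scheme.{u}) [X.Over (Spec (CommRingCat.of k))] [IsProper (X ↘ (Spec (CommRingCat.of k)))] (hdim : topologicalKrullDim X ≤ 1)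
    (d r : ℕ) (L : X.Modules) (σ : Fin (r + 1) → LinSer.Sect X L) (hL : LinSer.IsLinSer k X L d r σ)
    (s : ℕ) (hs : s ≤ r) :
    ∃ (L' : X.Modules) (τ : Fin (s + 1) → LinSer.Sect X L'), LinSer.IsLinSer k X L' d s τ := by
  classical
  obtain ⟨hinv, hdeg, hind⟩ := hL
  refine ⟨L, fun i => σ (Fin.castLE (Nat.succ_le_succ hs) i), hinv, hdeg, fun c hc => ?_⟩
  let e : Fin (s + 1) → Fin (r + 1) := Fin.castLE (Nat.succ_le_succ hs)
  have he : Function.Injective e := fun _ _ h => Fin.castLE_injective (Nat.succ_le_succ hs) h
  have h0 := hind (Function.extend e c 0) (by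
    rw [← Finset.sum_subset (Finset.subset_univ (Finset.univ.image e)), Finset.sum_image he.injOn]
    · refine Eq.trans (Finset.sum_congr rfl fun i _ => ?_) hc
      rw [he.extend_apply]
    · intro j _ hj
      rw [Function.extend_apply' _ _ _ fun ⟨i, hi⟩ => hj (Finset.mem_image.2 ⟨i, Finset.mem_univ i, hi⟩),
        Pi.zero_apply, map_zero, zero_smul])
  funext i
  have h1 := congrFun h0 (e i)
  rwa [he.extend_apply] at h1

end Groth.Agent.S6564
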