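import Groth.Statements.S6566
import Groth.Agent.Duality.ShriekBridge.Curve
import Groth.Agent.Duality.RDualPairs

set_option backward.isDefEq.respectTransparency false
set_option maxHeartbeats 1000000
set_option synthInstance.maxHeartbeats 400000

set_option autoImplicit false
universe u
open CategoryTheory CategoryTheory.Limits AlgebraicGeometry
attribute [local instance] HasDerivedCategory.standard
open Curves

namespace Groth.Agent.S6566

theorem eq_zero_of_dual {K : Type u} {V : Type*} [Field K] [AddCommGroup V] [Module K V] (v : V)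
    (h : ∀ l : V →ₗ[K] K, l v = 0) : v = 0 :=
  (Module.forall_dual_apply_eq_zero_iff K v).1 h

theorem aux {k : Type u} [Field k] {X : Scheme.{u}} [X.Over (Spec (CommRingCat.of k))]
    {ω F Q : X.Modules} {tr : Coh.HH X ω 1 →ₗ[k] k} (htr : Canon.IsRDualOver k X 1 ω tr)
    (hinj : Function.Injective tr) (hF : Coh.IsCoh F) (f : ω ⟶ F) (g : F ⟶ Q) [Epi g]
    (w : f ≫ g = 0) (hex : (ShortComplex.mk f g w).Exact) (hQ1 : Subsingleton (Coh.HH X Q 1)) :
    Subsingleton (Coh.HH X F 1) ∨ ∃ r : F ⟶ ω, f ≫ r = 𝟙 ω := by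
  classical
  have hFq : Coh.IsQCoh F := hF.1
  have hω := htr.1
  by_cases hall : ∀ φ : F ⟶ ω, f ≫ φ = 0
  · refine Or.inl ((subsingleton_iff_forall_eq 0).2 fun x => ?_)
    refine eq_zero_of_dual (K := k) x fun l => ?_
    obtain ⟨φ, hφ⟩ := (htr.2 F hFq).2 l
    haveI : Epi (ShortComplex.mk f g w).g := ‹Epi g›
    obtain ⟨χ, rfl⟩ : ∃ χ, g ≫ χ = φ := ⟨hex.desc φ (hall φ), hex.g_desc φ (hall φ)⟩
    rw [← hφ, Groth.Duality.RDual.dualityMap_comp]
    change tr.comp (Canon.HHlin k χ 1) (Canon.HHlin k g 1 x) = 0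
    rw [Subsingleton.elim (Canon.HHlin k g 1 x) 0, map_zero]
  · obtain ⟨φ, hφ⟩ := not_forall.1 hall
    refine Or.inr ?_
    let e := f ≫ φ
    have hD : tr.comp (Canon.HHlin k e 1) ≠ 0 := fun h0' => hφ ((htr.2 _ hω).1 (h0'.trans
      (LinearMap.ext fun y => by
        change (0 : k) = tr (Canon.HHlin k (0 : _ ⟶ _) 1 y)
        rw [show Canon.HHlin k (0 : ω ⟶ ω) 1 y = 0 from CohC3.hmap_zero (A := k) ω ω 1 y,
          map_zero])))
    obtain ⟨z, hz⟩ : ∃ z, tr (Canon.HHlin k e 1 z) ≠ 0 := by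
      by_contra hc
      exact hD (LinearMap.ext fun y => not_not.1 fun hy => hc ⟨y, hy⟩)
    have hz0 : tr z ≠ 0 := fun h0' => hz (by
      rw [show z = 0 from hinj (h0'.trans (map_zero tr).symm), map_zero, map_zero])
    let c := tr (Canon.HHlin k e 1 z) / tr z
    have hc : ∀ y, tr (Canon.HHlin k e 1 y) = c * tr y := fun y => by
      have hy : y = (tr y / tr z) • z := hinj (by rw [map_smul, smul_eq_mul, div_mul_cancel₀ _ hz0])
      conv_lhs => rw [hy]
      rw [map_smul, map_smul, smul_eq_mul]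
      simp only [c]
      field_simp
    obtain ⟨ψ, hψ⟩ := (htr.2 _ hω).2 (c⁻¹ • tr)
    refine ⟨φ ≫ ψ, (htr.2 _ hω).1 ?_⟩
    rw [← Category.assoc, Groth.Duality.RDual.dualityMap_comp]
    have hψ' : tr.comp (Canon.HHlin k ψ 1) = c⁻¹ • tr := hψ
    rw [hψ']
    refine LinearMap.ext fun y => ?_
    change c⁻¹ * tr (Canon.HHlin k e 1 y) = tr (Canon.HHlin k (𝟙 _) 1 y)
    rw [hc, Groth.Duality.RDual.HHlin_id, inv_mul_cancel_left₀ (div_ne_zero hz hz0)]


/-- Let X be proper over the field k, of dimension one, with H^0(X, O_X) = k, and ω_X its dualizing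
module (the degree -1 cohomology sheaf of f^! O for the structure morphism f, assuming Rf_* on
D_QCoh and its right adjoint exist). For coherent O_X-modules F and Q and an exact sequence ω_X → F
→ Q → 0 in which Q has no first cohomology, F has no first cohomology unless the map ω_X → F admits
a retraction (so that F splits as ω_X ⊕ Q): that is, H^1(X, F) = 0 or ω_X → F has a left inverse. -/
theorem result (k : Type u) [Field k] (X : Scheme.{u}) [X.Over (Spec (CommRingCat.of k))] [IsProper (X ↘ (Spec (CommRingCat.of k)))] (hdim : topologicalKrullDim X = 1)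
    (h0 : Module.finrank k (Coh.HH X (Coh.structureModule X) 0) = 1)
    [DCoh.HasRpush (X ↘ (Spec (CommRingCat.of k)))] (h : DCoh.RpushPreservesQCoh (X ↘ (Spec (CommRingCat.of k)))) [DCoh.HasShriek (X ↘ (Spec (CommRingCat.of k))) h]
    (OY : DCoh.DQCoh (Spec (CommRingCat.of k))) (hOY : Nonempty (OY.obj ≅ DCoh.inD (Spec (CommRingCat.of k)) (Coh.structureModule (Spec (CommRingCat.of k)))))
    (F Q : X.Modules) (hF : Coh.IsCoh F) (hQ : Coh.IsCoh Q)
    (f : DCoh.dualizingMod (X ↘ (Spec (CommRingCat.of k))) h OY 1 ⟶ F) (g : F ⟶ Q) [Epi g] (w : f ≫ g = 0) (hex : (ShortComplex.mk f g w).Exact)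
    (hQ1 : Subsingleton (Coh.HH X Q 1)) :
    Subsingleton (Coh.HH X F 1) ∨ ∃ r : F ⟶ DCoh.dualizingMod (X ↘ (Spec (CommRingCat.of k))) h OY 1, f ≫ r = 𝟙 (DCoh.dualizingMod (X ↘ (Spec (CommRingCat.of k))) h OY 1) := by
  obtain ⟨tr, htr, hinj⟩ :=
    Groth.Duality.ShriekBridge.exists_isRDualOver_injective hdim.le h0 h OY hOY
  exact aux htr hinj hF f g w hex hQ1

end Groth.Agent.S6566
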