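import Groth.Statements.S6567
import Groth.Agent.Duality.ShriekBridge.Generate

set_option backward.isDefEq.respectTransparency false
set_option maxHeartbeats 1000000
set_option synthInstance.maxHeartbeats 400000

set_option autoImplicit false
universe u
open CategoryTheory CategoryTheory.Limits AlgebraicGeometry
attribute [local instance] HasDerivedCategory.standard
open Curves

namespace Groth.Agent.S6567

/-- Let X be proper over the field k, of dimension one, with H^0(X, O_X) = k, and ω_X its dualizing
module (the degree -1 cohomology sheaf of f^! O for the structure morphism f, assuming Rf_* on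
D_QCoh and its right adjoint exist). Suppose ω_X → F → Q → 0 is exact, with F and Q coherent
O_X-modules, where Q has zero-dimensional support and dim_k H^0(X, Q) ≥ 2, and suppose no nonzero
submodule Q' ⊆ F maps injectively into Q. Then the global sections of F together map onto Q: for
some index type ι and some map p from the free module O_X^{(ι)} to F, the composite O_X^{(ι)} → F →
Q is an epimorphism. -/
theorem result (k : Type u) [Field k] (X : Scheme.{u}) [X.Over (Spec (CommRingCat.of k))] [IsProper (X ↘ (Spec (CommRingCat.of k)))] (hdim : topologicalKrullDim X = 1)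
    (h0 : Module.finrank k (Coh.HH X (Coh.structureModule X) 0) = 1)
    [DCoh.HasRpush (X ↘ (Spec (CommRingCat.of k)))] (h : DCoh.RpushPreservesQCoh (X ↘ (Spec (CommRingCat.of k)))) [DCoh.HasShriek (X ↘ (Spec (CommRingCat.of k))) h]
    (OY : DCoh.DQCoh (Spec (CommRingCat.of k))) (hOY : Nonempty (OY.obj ≅ DCoh.inD (Spec (CommRingCat.of k)) (Coh.structureModule (Spec (CommRingCat.of k)))))
    (F Q : X.Modules) (hF : Coh.IsCoh F) (hQ : Coh.IsCoh Q)
    (f : DCoh.dualizingMod (X ↘ (Spec (CommRingCat.of k))) h OY 1 ⟶ F) (g : F ⟶ Q) [Epi g] (w : f ≫ g = 0) (hex : (ShortComplex.mk f g w).Exact)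
    (hQ0 : topologicalKrullDim (CohB1.support Q) ≤ 0) (hQ2 : 2 ≤ Module.finrank k (Coh.HH X Q 0))
    (hno : ∀ (Q' : X.Modules) (i : Q' ⟶ F), Mono i → Mono (i ≫ g) → IsZero Q') :
    ∃ (ι : Type u) (p : (SheafOfModules.free ι : X.Modules) ⟶ F), Epi (p ≫ g) := by
  obtain ⟨tr, htr, hinj⟩ :=
    Groth.Duality.ShriekBridge.exists_isRDualOver_injective hdim.le h0 h OY hOY
  haveI := hQ.1
  exact ⟨_, _, Groth.Duality.ShriekBridge.exists_epi_comp hdim.le htr hinj hF hQ f g w hex
    (Groth.EulerDeg.supportedAtClosed_of_dim_le_zero hQ0) hQ2 fun Q' i _ => hno Q' i⟩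

end Groth.Agent.S6567
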