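import Groth.Statements.S6568
import Groth.Agent.Duality.ShriekBridge.Generate
import Groth.Agent.Duality.ShriekBridge.TwistDual
import Groth.Agent.Duality.ShriekBridge.Nonvanish
import Groth.Agent.DecShCurve.TorsFree
import Groth.Agent.VarietyBC.CurveProj

set_option backward.isDefEq.respectTransparency false
set_option linter.style.haveILetI false
set_option maxHeartbeats 1000000
set_option synthInstance.maxHeartbeats 400000

set_option autoImplicit false
universe u
open CategoryTheory CategoryTheory.Limits AlgebraicGeometry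
attribute [local instance] HasDerivedCategory.standard
open Curves

namespace Groth.Agent.S6568

open Groth Groth.EulerDeg

variable {k : Type u} [Field k] {X : Scheme.{u}} [X.Over (Spec (CommRingCat.of k))]
  [IsProper (X ↘ Spec (CommRingCat.of k))] [IsIntegral X]

include k in
theorem not_isOpen (hdim : topologicalKrullDim X = 1) (x : X) : ¬ IsOpen ({x} : Set X) := by
  intro ho
  haveI : JacobsonSpace X :=
    LocallyOfFiniteType.jacobsonSpace (X ↘ Spec (CommRingCat.of k))
  obtain ⟨z, hz, hzc⟩ := nonempty_inter_closedPoints (X := X) (Set.singleton_nonempty x)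
    ho.isLocallyClosed
  obtain rfl : z = x := hz
  have hc : IsClosed ({z} : Set X) := hzc
  have huniv : ({z} : Set X) = Set.univ :=
    (isClopen_iff.1 ⟨hc, ho⟩).resolve_left (Set.singleton_ne_empty z)
  haveI : Subsingleton X := ⟨fun a b => by
    have ha : a ∈ ({z} : Set X) := huniv ▸ Set.mem_univ a
    have hb : b ∈ ({z} : Set X) := huniv ▸ Set.mem_univ b
    exact (Set.mem_singleton_iff.1 ha).trans (Set.mem_singleton_iff.1 hb).symm⟩
  haveI : DiscreteTopology X := Subsingleton.discreteTopology
  have := hdim ▸ topologicalKrullDim_zero_of_discreteTopology (X := X)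
  exact absurd this (not_le.2 zero_lt_one)

theorem supportedAtClosed_of_generic (hdim : topologicalKrullDim X ≤ 1) {M : X.Modules}
    (h : Subsingleton (M.presheaf.stalk (genericPoint X))) : SupportedAtClosed M := by
  intro x hx
  by_contra hc
  obtain rfl := eq_genericPoint_of_not_isClosed hdim hc
  exact hx h

theorem aux (hdim : topologicalKrullDim X = 1) {ω F Q : X.Modules} {tr : Coh.HH X ω 1 →ₗ[k] k}
    (htr : Canon.IsRDualOver k X 1 ω tr) (hinj : Function.Injective tr) (hF : Coh.IsCoh F)
    (hQ : Coh.IsCoh Q) (f : ω ⟶ F) (g : F ⟶ Q) (w : f ≫ g = 0)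
    (hex : (ShortComplex.mk f g w).ShortExact) (hT : TorSh.IsTorsionFree F)
    (hQ0 : SupportedAtClosed Q) (hQ2 : 2 ≤ Module.finrank k (Coh.HH X Q 0)) :
    Curv2.IsGloballyGenerated F := by
  classical
  haveI := isNoetherian_of_proper k X
  haveI := noetherianSpace_of_proper k X
  haveI : Mono f := hex.mono_f
  haveI : Epi g := hex.epi_g
  haveI := hF.1
  haveI := hQ.1
  haveI : ω.IsQuasicoherent := htr.1
  have hω : Coh.IsCoh ω := QCohMod.isCoh_of_mono f hF
  let η := genericPoint X
  let _ : Field (X.presheaf.stalk η) := inferInstanceAs (Field X.functionField)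
  have hηc : ¬ IsClosed ({η} : Set X) := fun hc => by
    refine not_isOpen (k := k) hdim η ?_
    have : ({η} : Set X) = Set.univ := hc.closure_eq.symm.trans (genericPoint_spec X)
    exact this ▸ isOpen_univ
  have htfz : ∀ {A : X.Modules} (i : A ⟶ F) [Mono i], Coh.IsCoh A → SupportedAtClosed A → IsZero A :=
    fun {A} i _ hA h => DecShCurve.isZero_of_supportedAtClosed (not_isOpen (k := k) hdim) hT i hA h
  have hep := Groth.Duality.ShriekBridge.exists_epi_comp hdim.le htr hinj hF hQ f g w hex.exact hQ0 hQ2
    fun Q' i hc _ hm => htfz i hc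
      (haveI := hm; Groth.Duality.ShriekBridge.supportedAtClosed_of_mono (i ≫ g) hQ0)
  set p := QCohMod.freeHom F (id : Γ(F, (⊤ : X.Opens)) → _) with hp
  refine ⟨_, p, ?_⟩
  -- no first cohomology
  have hH1 : Subsingleton (Coh.HH X F 1) := by
    rcases Groth.Agent.S6566.aux htr hinj hF f g w hex.exact
      (subsingleton_HH_of_supportedAtClosed hQ0 1 le_rfl) with h | ⟨r, hr⟩
    · exact h
    · exfalso
      have hm : Mono (kernel.ι r ≫ g) := by
        refine Preadditive.mono_of_cancel_zero _ fun {T} t ht => ?_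
        rw [← Category.assoc] at ht
        obtain ⟨A', π, hπ, y, hy⟩ := hex.exact.exact_up_to_refinements _ ht
        dsimp at hy
        have hy0 : y = 0 := by
          have := congrArg (· ≫ r) hy
          simpa [hr] using this.symm
        rw [hy0, zero_comp, ← Category.assoc] at hy
        exact (cancel_epi π).1 ((cancel_mono (kernel.ι r)).1 (by simpa using hy))
      have hz := htfz (kernel.ι r) (QCohMod.isCoh_kernel r hF)
        (Groth.Duality.ShriekBridge.supportedAtClosed_of_mono (kernel.ι r ≫ g) hQ0)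
      haveI : Mono r := Preadditive.mono_of_kernel_zero (hz.eq_of_src _ _)
      have hrf : r ≫ f = 𝟙 F := (cancel_mono r).1 (by
        rw [Category.assoc, hr, Category.comp_id, Category.id_comp])
      have hg0 : g = 0 := by rw [← Category.id_comp g, ← hrf, Category.assoc, w, comp_zero]
      have hQz : IsZero Q := (IsZero.iff_id_eq_zero Q).2 (by
        rw [← cancel_epi g, hg0, zero_comp, zero_comp])
      haveI := Groth.Duality.ExtTwist.subsingleton_HH_of_isZero hQz 0
      rw [Module.finrank_zero_of_subsingleton] at hQ2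
      omega
  -- the generic rank
  haveI : X.IsSeparated := CohFin.isSeparated_of_proper (X ↘ Spec (CommRingCat.of k))
  obtain ⟨L, hL⟩ := VarietyBC.CurveProj.exists_ample X hdim.le
  have hrk := Groth.Duality.ShriekBridge.finrank_genericPoint_le_one hdim.le htr hω hL.1
    ((VarietyBC.CurveDeg.isAmple_iff_deg_pos k hdim hL.1).1 hL)
  haveI := QCohMod.finite_stalk ω hω.2 η
  have hfs : Function.Surjective (RefHull.stalkMapₗ f η) := fun v => by
    haveI : Subsingleton (Q.presheaf.stalk η) := not_not.1 fun h => hηc (hQ0 η h)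
    have h := (QCohMod.exact_iff_stalk _).mp hex.exact η
    rw [ShortComplex.ab_exact_iff_function_exact] at h
    exact (h v).1 (Subsingleton.elim (α := Q.presheaf.stalk η) _ _)
  haveI : Module.Finite (X.presheaf.stalk η) (F.presheaf.stalk η) := Module.Finite.of_surjective _ hfs
  have hF1 : Module.finrank (X.presheaf.stalk η) (F.presheaf.stalk η) ≤ 1 :=
    (LinearMap.finrank_le_finrank_of_surjective hfs).trans hrk
  -- the kernel of the cokernel
  let c := cokernel.π p
  haveI : (cokernel p).IsQuasicoherent := QCohMod.isQCoh_cokernel _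
  have hKc : Coh.IsCoh (kernel c) := QCohMod.isCoh_kernel c hF
  haveI := QCohMod.finite_stalk (kernel c) hKc.2 η
  have hιη : Function.Injective (RefHull.stalkMapₗ (kernel.ι c) η) :=
    (QCohMod.mono_iff_stalk _).1 inferInstance η
  have hKn : ¬ Subsingleton ((kernel c).presheaf.stalk η) := fun hs => by
    have hz := htfz (kernel.ι c) hKc (supportedAtClosed_of_generic hdim.le hs)
    have hp0 : p = 0 := by
      rw [← kernel.lift_ι c p (cokernel.condition p), hz.eq_of_src (kernel.ι c) 0, comp_zero]
    rw [hp0, zero_comp] at hep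
    have hQz : IsZero Q := by
      haveI := hep
      exact (IsZero.iff_id_eq_zero Q).2
        ((cancel_epi (0 : (∐ fun _ : Γ(F, (⊤ : X.Opens)) => Coh.structureModule X) ⟶ Q)).1 (by simp))
    haveI := Groth.Duality.ExtTwist.subsingleton_HH_of_isZero hQz 0
    rw [Module.finrank_zero_of_subsingleton] at hQ2
    omega
  haveI : Nontrivial ((kernel c).presheaf.stalk η) := not_subsingleton_iff_nontrivial.1 hKn
  have hK1 : Module.finrank (X.presheaf.stalk η) ((kernel c).presheaf.stalk η) = 1 :=
    le_antisymm ((LinearMap.finrank_le_finrank_of_injective hιη).trans hF1) Module.finrank_pos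
  have hιs : Function.Surjective (RefHull.stalkMapₗ (kernel.ι c) η) :=
    (LinearMap.injective_iff_surjective_of_finrank_eq_finrank
      (le_antisymm (LinearMap.finrank_le_finrank_of_injective hιη) (hK1 ▸ hF1))).1 hιη
  have hCs : SupportedAtClosed (cokernel p) := supportedAtClosed_of_generic hdim.le <| by
    refine (subsingleton_iff_forall_eq 0).2 fun v => ?_
    obtain ⟨t, rfl⟩ := (QCohMod.epi_iff_stalk c).1 inferInstance η v
    obtain ⟨s, rfl⟩ := hιs t
    change ((QCohMod.stalk η).map (kernel.ι c) ≫ (QCohMod.stalk η).map c) s = 0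
    rw [← Functor.map_comp, kernel.condition, Functor.map_zero]
    rfl
  have hS : (ShortComplex.mk (kernel.ι c) c (kernel.condition c)).ShortExact :=
    { exact := ShortComplex.exact_of_f_is_kernel _ (kernelIsKernel _) }
  have hc0 : ∀ v, hMap k c 0 v = 0 := Groth.Duality.ShriekBridge.hMap_zero_eq_zero c fun s => by
    rw [show QCohMod.secHom F s = Sigma.ι (fun _ : Γ(F, (⊤ : X.Opens)) => Coh.structureModule X) s ≫ p
      from (QCohMod.ι_freeHom F id s).symm, Category.assoc, cokernel.condition, comp_zero]
  suffices hK0 : Subsingleton (Coh.HH X (kernel c) 1) by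
    refine Preadditive.epi_of_cokernel_zero
      ((isZero_of_subsingleton_H0 hCs ((subsingleton_iff_forall_eq 0).2 fun x => ?_)).eq_of_tgt _ _)
    obtain ⟨v, hv⟩ := (exact_right k hS 0 x).1 (Subsingleton.elim _ _)
    rw [← hv]
    exact hc0 v
  by_contra hne
  obtain ⟨y, hy⟩ : ∃ y : Coh.HH X (kernel c) 1, y ≠ 0 := by
    by_contra! hall
    exact hne ((subsingleton_iff_forall_eq 0).2 hall)
  obtain ⟨l, hl⟩ := Groth.Duality.ShriekBridge.exists_dual_ne (K := k) hy
  obtain ⟨ψ, hψ⟩ := (htr.2 (kernel c) hKc.1).2 l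
  have hψ0 : ψ ≠ 0 := fun h0 => hl (by
    rw [← hψ, h0]
    change tr (Canon.HHlin k (0 : kernel c ⟶ ω) 1 y) = 0
    rw [show Canon.HHlin k (0 : kernel c ⟶ ω) 1 y = 0 from CohC3.hmap_zero (A := k) _ ω 1 y, map_zero])
  have hψη : RefHull.stalkMapₗ ψ η ≠ 0 := fun h0 => hψ0 (by
    haveI : (Abelian.image ψ).IsQuasicoherent := QCohMod.isQCoh_image ψ
    have hIc : Coh.IsCoh (Abelian.image ψ) := QCohMod.isCoh_of_mono (Abelian.image.ι ψ) hω
    have hs : Subsingleton ((Abelian.image ψ).presheaf.stalk η) := (subsingleton_iff_forall_eq 0).2 fun v => by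
      obtain ⟨t, rfl⟩ := (QCohMod.epi_iff_stalk (Abelian.factorThruImage ψ)).1 inferInstance η v
      apply (QCohMod.mono_iff_stalk (Abelian.image.ι ψ)).1 inferInstance η
      rw [map_zero, ← ConcreteCategory.comp_apply, ← Functor.map_comp, Abelian.image.fac]
      exact LinearMap.congr_fun h0 t
    have hz := htfz (Abelian.image.ι ψ ≫ f) hIc (supportedAtClosed_of_generic hdim.le hs)
    rw [← Abelian.image.fac ψ, hz.eq_of_src (Abelian.image.ι ψ) 0, comp_zero])
  have hψi : Function.Injective (RefHull.stalkMapₗ ψ η) := by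
    obtain ⟨v, hv, hspan⟩ := finrank_eq_one_iff'.1 hK1
    refine (injective_iff_map_eq_zero _).2 fun t ht => ?_
    obtain ⟨a, rfl⟩ := hspan t
    rcases eq_or_ne a 0 with rfl | ha
    · exact zero_smul _ _
    · exfalso
      refine hψη (LinearMap.ext fun t' => ?_)
      obtain ⟨b, rfl⟩ := hspan t'
      rw [map_smul, smul_eq_zero, or_iff_right ha] at ht
      rw [map_smul, ht, smul_zero]
      rfl
  haveI : Mono ψ := by
    have hs : Subsingleton ((kernel ψ).presheaf.stalk η) := (subsingleton_iff_forall_eq 0).2 fun v => by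
      apply (QCohMod.mono_iff_stalk (kernel.ι ψ)).1 inferInstance η
      rw [map_zero]
      apply hψi
      rw [map_zero]
      change ((QCohMod.stalk η).map (kernel.ι ψ) ≫ (QCohMod.stalk η).map ψ) v = 0
      rw [← Functor.map_comp, kernel.condition, Functor.map_zero]
      rfl
    exact Preadditive.mono_of_kernel_zero
      ((htfz (kernel.ι ψ ≫ kernel.ι c) (QCohMod.isCoh_kernel ψ hKc)
        (supportedAtClosed_of_generic hdim.le hs)).eq_of_src _ _)
  haveI := finite_HH k X hω 0
  haveI := finite_HH k X hω 1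
  haveI := finite_HH k X hF 0
  haveI := finite_HH k X hQ 0
  haveI := finite_HH k X hKc 0
  have h1 : Module.finrank k (Coh.HH X (kernel c) 0) ≤ Module.finrank k (Coh.HH X ω 0) :=
    LinearMap.finrank_le_finrank_of_injective (Groth.Curves1.RR.hMap_injective_zero_of_mono k ψ)
  have h2 : Module.finrank k (Coh.HH X F 0) ≤ Module.finrank k (Coh.HH X (kernel c) 0) :=
    LinearMap.finrank_le_finrank_of_surjective (f := hMap k (kernel.ι c) 0)
      fun v => (exact_mid k hS 0 v).1 (hc0 v)
  have h3 := euler_add hex (finCoh k X hω) (finCoh k X hQ)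
  dsimp only at h3
  rw [euler_eq_h0_sub_h1 k X hdim.le F, euler_eq_h0_sub_h1 k X hdim.le ω,
    euler_eq_h0 k hQ0, Module.finrank_zero_of_subsingleton (M := Coh.HH X F 1)] at h3
  have h4 : Module.finrank k (Coh.HH X ω 1) ≤ 1 :=
    (LinearMap.finrank_le_finrank_of_injective hinj).trans (Module.finrank_self k).le
  omega

/-- Let X be proper and integral over the field k, of dimension one, with H^0(X, O_X) = k, and ω_X its
dualizing module (the degree -1 cohomology sheaf of f^! O for the structure morphism f, assuming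
Rf_* on D_QCoh and its right adjoint exist). Suppose F is a torsion-free coherent O_X-module
(stalkwise: a · m = 0 forces a = 0 or m = 0) containing ω_X as a submodule, with coherent quotient Q
= F/ω_X supported in dimension zero and with dim_k H^0(X, Q) ≥ 2 (so 0 → ω_X → F → Q → 0 is short
exact). Then F is generated by its global sections. -/
theorem result (k : Type u) [Field k] (X : Scheme.{u}) [X.Over (Spec (CommRingCat.of k))] [IsIntegral X] [IsProper (X ↘ (Spec (CommRingCat.of k)))] (hdim : topologicalKrullDim X = 1)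
    (h0 : Module.finrank k (Coh.HH X (Coh.structureModule X) 0) = 1)
    [DCoh.HasRpush (X ↘ (Spec (CommRingCat.of k)))] (h : DCoh.RpushPreservesQCoh (X ↘ (Spec (CommRingCat.of k)))) [DCoh.HasShriek (X ↘ (Spec (CommRingCat.of k))) h]
    (OY : DCoh.DQCoh (Spec (CommRingCat.of k))) (hOY : Nonempty (OY.obj ≅ DCoh.inD (Spec (CommRingCat.of k)) (Coh.structureModule (Spec (CommRingCat.of k)))))
    (F Q : X.Modules) (hF : Coh.IsCoh F) (hQ : Coh.IsCoh Q)
    (f : DCoh.dualizingMod (X ↘ (Spec (CommRingCat.of k))) h OY 1 ⟶ F) (g : F ⟶ Q) (w : f ≫ g = 0) (hex : (ShortComplex.mk f g w).ShortExact)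
    (htf : ∀ (x : X) (a : X.presheaf.stalk x) (m : F.presheaf.stalk x), a • m = 0 → a = 0 ∨ m = 0)
    (hQ0 : topologicalKrullDim (CohB1.support Q) ≤ 0) (hQ2 : 2 ≤ Module.finrank k (Coh.HH X Q 0)) :
    Curv2.IsGloballyGenerated F := by
  obtain ⟨tr, htr, hinj⟩ :=
    Groth.Duality.ShriekBridge.exists_isRDualOver_injective hdim.le h0 h OY hOY
  haveI := hQ.1
  refine aux hdim htr hinj hF hQ f g w hex (fun x => ⟨fun a ha m m' hm => ?_⟩)
    (Groth.EulerDeg.supportedAtClosed_of_dim_le_zero hQ0) hQ2
  have h1 : a • (m - m') = 0 := by rw [smul_sub, sub_eq_zero]; exact hm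
  exact sub_eq_zero.1 ((htf x a (m - m') h1).resolve_left ha.ne_zero)

end Groth.Agent.S6568
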