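import Groth.Statements.S6569
import Groth.Agent.Curves1.Node.NodalSyntomic
import Groth.Agent.OmegaSheaf.Universal

set_option autoImplicit false
universe u
open CategoryTheory CategoryTheory.Limits AlgebraicGeometry
attribute [local instance] HasDerivedCategory.standard
open Curves

namespace Groth.Agent.S6569

/-- Let k be a field and X a scheme locally of finite type over k, equidimensional of dimension 1; the
structure morphism is also assumed quasi-separated (automatic here, X being locally Noetherian), so
that the sheaf of differentials Ω_{X/k} can be taken as the conormal sheaf of the diagonal. Two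
conditions on X are then equivalent: (1) X has at worst nodal singularities; (2) X → Spec k is a
local complete intersection morphism, and Z → Spec k is unramified, where Z ⊆ X denotes the closed
subscheme whose ideal sheaf is the first Fitting ideal of Ω_{X/k}. -/
theorem result (k : Type u) [Field k] (X : Scheme.{u}) [X.Over (Spec (CommRingCat.of k))] [LocallyOfFiniteType (X ↘ (Spec (CommRingCat.of k)))] [QuasiSeparated (X ↘ (Spec (CommRingCat.of k)))]
    (hequi : ∀ Z ∈ irreducibleComponents (X : Type u), topologicalKrullDim Z = 1) :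
    Curv2.AtWorstNodal k X ↔
      (Dual3.IsLCIMor (X ↘ (Spec (CommRingCat.of k))) ∧
        FormallyUnramified ((Fitt.sheafIdeal (Omega.sheaf (X ↘ (Spec (CommRingCat.of k)))) 1).subschemeι ≫ (X ↘ (Spec (CommRingCat.of k))))) := by
  set g := X ↘ (Spec (CommRingCat.of k))
  have key := Groth.Curves1.Node.isNodalFamily_iff_syntomic g (Groth.OmegaSheaf.isUniversal_dOmega g)
  rw [Groth.Curves1.Node.isNodalFamily_iff_field X] at key
  have hlci : Dual3.IsLCIMor g ↔ Groth.KoszulLCI.MorLCI g := by
    rw [Groth.KoszulLCI.morLCI_iff_exists]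
    exact forall_congr' fun x => ⟨fun ⟨U, V, e, hx, h⟩ => ⟨V, U, hx, e, h⟩,
      fun ⟨V, U, hx, e, h⟩ => ⟨U, V, e, hx, h⟩⟩
  have hsyn : Synt.IsSyntomicMor g ↔ Dual3.IsLCIMor g := by
    rw [Groth.Syntomic.isSyntomicMor_iff, hlci, and_iff_right (inferInstance : Flat g)]
  constructor
  · intro h
    obtain ⟨h1, -, h2⟩ := key.1 ⟨hequi, h⟩
    exact ⟨hsyn.1 h1, h2⟩
  · rintro ⟨h1, h2⟩
    refine (key.2 ⟨hsyn.2 h1, fun x => ?_, h2⟩).2
    rw [Groth.Curves1.Node.localFibreDim_eq]
    have h3 := (Groth.FibreDim.forall_component_dim_eq_iff g 1).1 (by rw [Nat.cast_one]; exact hequi) x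
    rw [Nat.cast_one] at h3
    refine (Groth.FibreDim.fibreDimAt_eq_of_range g (g x) (e := id) Topology.IsEmbedding.id ?_ x).trans h3
    have : Subsingleton (Spec (CommRingCat.of k)) := inferInstanceAs (Subsingleton (PrimeSpectrum k))
    ext z
    simpa using Subsingleton.elim (g z) (g x)

end Groth.Agent.S6569
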