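import Groth.Statements.S6574
import Groth.Agent.PlaneCurve.SeriesNode.Depth

set_option autoImplicit false
universe u
open Curves Groth.PlaneCurve.SeriesNode Groth.SGA7.PS Groth.Curves1.Node

namespace Groth.Agent.S6574

/-- Let k be a field, A = k[[x_1, …, x_n]], and I = (f_1, …, f_m) ⊆ m_A. The following are equivalent:
(1) A/I is a node in the algebraic sense: A/I ≅ k[[u, v]]/(a u^2 + b uv + c v^2) as k-algebras for a
nondegenerate quadratic form (A/I is complete with residue field k, so this is the completion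
criterion for nodes); (2) the quotient A/I has no nonzero nilpotents, and m_A is generated by I
together with every (n−1)-by-(n−1) minor taken from the Jacobian (∂f_j/∂x_i) (that is, these
elements generate I + m_A = m_A); (3) depth(A/I) = 1 and the same condition on minors. Stated as (1)
⇔ (2) and (2) ⇔ (3). -/
theorem result (k : Type u) [Field k] (n m : ℕ)
    (f : Fin m → MvPowerSeries (Fin n) k) (hf : ∀ j, f j ∈ IsLocalRing.maximalIdeal (MvPowerSeries (Fin n) k)) :
    ((∃ a b c : k, 4 * a * c - b ^ 2 ≠ 0 ∧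
        Nonempty ((MvPowerSeries (Fin n) k ⧸ Ideal.span (Set.range f)) ≃ₐ[k]
          (MvPowerSeries (Fin 2) k ⧸ Ideal.span
            {(MvPowerSeries.C a * MvPowerSeries.X 0 ^ 2 + MvPowerSeries.C b * MvPowerSeries.X 0 * MvPowerSeries.X 1 +
              MvPowerSeries.C c * MvPowerSeries.X 1 ^ 2 : MvPowerSeries (Fin 2) k)}))) ↔
      (IsReduced (MvPowerSeries (Fin n) k ⧸ Ideal.span (Set.range f)) ∧
        Ideal.span {d : MvPowerSeries (Fin n) k | ∃ (ρ : Fin (n - 1) → Fin m) (γ : Fin (n - 1) → Fin n), Function.Injective ρ ∧ Function.Injective γ ∧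
          d = ((Matrix.of fun (j : Fin m) (i : Fin n) => MvPowerSeries.pderiv k i (f j)).submatrix ρ γ).det} ⊔ Ideal.span (Set.range f) = IsLocalRing.maximalIdeal (MvPowerSeries (Fin n) k))) ∧
    ((IsReduced (MvPowerSeries (Fin n) k ⧸ Ideal.span (Set.range f)) ∧
        Ideal.span {d : MvPowerSeries (Fin n) k | ∃ (ρ : Fin (n - 1) → Fin m) (γ : Fin (n - 1) → Fin n), Function.Injective ρ ∧ Function.Injective γ ∧
          d = ((Matrix.of fun (j : Fin m) (i : Fin n) => MvPowerSeries.pderiv k i (f j)).submatrix ρ γ).det} ⊔ Ideal.span (Set.range f) = IsLocalRing.maximalIdeal (MvPowerSeries (Fin n) k)) ↔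
      (LocCoh.depth (MvPowerSeries (Fin n) k) (MvPowerSeries (Fin n) k ⧸ Ideal.span (Set.range f)) = 1 ∧
        Ideal.span {d : MvPowerSeries (Fin n) k | ∃ (ρ : Fin (n - 1) → Fin m) (γ : Fin (n - 1) → Fin n), Function.Injective ρ ∧ Function.Injective γ ∧
          d = ((Matrix.of fun (j : Fin m) (i : Fin n) => MvPowerSeries.pderiv k i (f j)).submatrix ρ γ).det} ⊔ Ideal.span (Set.range f) = IsLocalRing.maximalIdeal (MvPowerSeries (Fin n) k))) := by
  classical
  have hf' : ∀ j, f j ∈ varIdeal (Fin n) k := fun j => by rw [← maximalIdeal_eq]; exact hf j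
  obtain ⟨s, r, ⟨D⟩⟩ := exists_red f hf'
  let I := Ideal.span (Set.range f)
  haveI : Nontrivial (MvPowerSeries (Fin n) k ⧸ I) := Ideal.Quotient.nontrivial_iff.mpr
    (ne_top_of_le_ne_top (IsLocalRing.maximalIdeal.isMaximal _).ne_top
      (Ideal.span_le.2 (by rintro _ ⟨j, rfl⟩; exact hf j)))
  haveI : IsLocalRing (MvPowerSeries (Fin n) k ⧸ I) :=
    .of_surjective' (Ideal.Quotient.mk I) Ideal.Quotient.mk_surjective
  have hdep : LocCoh.depth (MvPowerSeries (Fin n) k) (MvPowerSeries (Fin n) k ⧸ I) =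
      LocCoh.depth (MvPowerSeries (Fin n) k ⧸ I) (MvPowerSeries (Fin n) k ⧸ I) :=
    Groth.Smt.depth_eq_of_surjective _ _ Ideal.Quotient.mk_surjective
  have hcrit : Ideal.span {d : MvPowerSeries (Fin n) k | ∃ (ρ : Fin (n - 1) → Fin m) (γ : Fin (n - 1) → Fin n), Function.Injective ρ ∧ Function.Injective γ ∧
          d = ((Matrix.of fun (j : Fin m) (i : Fin n) => MvPowerSeries.pderiv k i (f j)).submatrix ρ γ).det} ⊔ Ideal.span (Set.range f) = sing f (n - 1) := rfl
  rw [hcrit, maximalIdeal_eq]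
  -- a node satisfies everything
  have h13 : (∃ a b c : k, 4 * a * c - b ^ 2 ≠ 0 ∧
        Nonempty ((MvPowerSeries (Fin n) k ⧸ I) ≃ₐ[k] Quadric a b c)) →
      IsReduced (MvPowerSeries (Fin n) k ⧸ I) ∧ LocCoh.depth (MvPowerSeries (Fin n) k) (MvPowerSeries (Fin n) k ⧸ I) = 1 ∧
        sing f (n - 1) = varIdeal (Fin n) k := by
    rintro ⟨a, b, c, hD, ⟨e⟩⟩
    have hred : IsReduced (MvPowerSeries (Fin n) k ⧸ I) := by
      haveI := quadric_isReduced' hD
      exact isReduced_of_injective e.toAlgHom.toRingHom e.injective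
    refine ⟨hred, ?_, ?_⟩
    · rw [hdep, Groth.Ega4b.depth_eq_of_ringEquiv e.toRingEquiv]
      obtain ⟨t, ht, ht'⟩ := exists_nonZeroDivisor_quadric hD
      refine le_antisymm ?_ (one_le_depth_of_regular ht ht')
      exact depth_quadric_le hD
    · obtain ⟨E⟩ := D.nonempty_equiv
      have e2 := E.symm.trans e
      have hgK : Ideal.span (Set.range D.g) ≤ varIdeal (Fin s) k ^ 2 :=
        Ideal.span_le.2 (by rintro _ ⟨j, rfl⟩; exact D.g_mem_pow j)
      have hq : Ideal.span {quad a b c} ≤ varIdeal (Fin 2) k ^ 2 := (Ideal.span_singleton_le_iff_mem _).2 (quad_mem_sq a b c)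
      have h1 : s ≤ 2 := le_of_surjective _ hgK ((e2.symm.toAlgHom).comp (Ideal.Quotient.mkₐ k _))
        (e2.symm.surjective.comp Ideal.Quotient.mk_surjective)
      have h2 : 2 ≤ s := le_of_surjective _ hq ((e2.toAlgHom).comp (Ideal.Quotient.mkₐ k _))
        (e2.surjective.comp Ideal.Quotient.mk_surjective)
      obtain rfl : s = 2 := le_antisymm h1 h2
      exact D.sing_iff.2 (sing_one_eq_of_equiv D.g D.g_mem_pow hD e2)
  -- the criterion and a regular element give a node
  have h31 : sing f (n - 1) = varIdeal (Fin n) k →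
      (∃ t ∈ IsLocalRing.maximalIdeal (MvPowerSeries (Fin n) k ⧸ I), t ∈ nonZeroDivisors _) →
      ∃ a b c : k, 4 * a * c - b ^ 2 ≠ 0 ∧
        Nonempty ((MvPowerSeries (Fin n) k ⧸ I) ≃ₐ[k] Quadric a b c) := by
    rintro hS ⟨t, ht, ht'⟩
    obtain rfl := D.s_eq_two hS
    obtain ⟨E⟩ := D.nonempty_equiv
    obtain ⟨t', ht''⟩ := Ideal.Quotient.mk_surjective (E t)
    have htm : t' ∈ varIdeal (Fin 2) k := by
      rw [← maximalIdeal_eq, IsLocalRing.mem_maximalIdeal, mem_nonunits_iff]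
      intro hu
      have h1 := (hu.map (Ideal.Quotient.mk (Ideal.span (Set.range D.g)))).map E.symm
      rw [ht'', E.symm_apply_apply] at h1
      exact (IsLocalRing.mem_maximalIdeal _).1 ht h1
    have htr : Ideal.Quotient.mk (Ideal.span (Set.range D.g)) t' ∈ nonZeroDivisors _ := by
      rw [ht'', mem_nonZeroDivisors_iff_left]
      intro x hx
      have h1 := congrArg E.symm hx
      rw [map_mul, E.symm_apply_apply, map_zero] at h1
      simpa using congrArg E (mem_nonZeroDivisors_iff_left.1 ht' _ h1)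
    obtain ⟨a, b, c, hD, ⟨e⟩⟩ := nonempty_equiv_of_sing_one D.g D.g_mem_pow (D.sing_iff.1 hS) ⟨t', htm, htr⟩
    exact ⟨a, b, c, hD, ⟨E.trans e⟩⟩
  have hred1 : sing f (n - 1) = varIdeal (Fin n) k → IsReduced (MvPowerSeries (Fin n) k ⧸ I) →
      ∃ t ∈ IsLocalRing.maximalIdeal (MvPowerSeries (Fin n) k ⧸ I), t ∈ nonZeroDivisors _ := by
    intro hS hred
    refine exists_nonZeroDivisor_of_isReduced fun h0 => ?_
    rw [Submodule.spanFinrank_eq_zero_iff_eq_bot (IsNoetherian.noetherian _)] at h0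
    obtain rfl := D.s_eq_two hS
    obtain ⟨E⟩ := D.nonempty_equiv
    have hgK : Ideal.span (Set.range D.g) ≤ varIdeal (Fin 2) k ^ 2 :=
      Ideal.span_le.2 (by rintro _ ⟨j, rfl⟩; exact D.g_mem_pow j)
    have hx : E.symm (Ideal.Quotient.mk _ (MvPowerSeries.X 0)) ∈ IsLocalRing.maximalIdeal (MvPowerSeries (Fin n) k ⧸ I) := by
      rw [IsLocalRing.mem_maximalIdeal, mem_nonunits_iff]
      intro hu
      have h1 := hu.map E
      rw [E.apply_symm_apply] at h1
      obtain ⟨w, hw⟩ := h1.exists_right_inv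
      obtain ⟨w, rfl⟩ := Ideal.Quotient.mk_surjective w
      rw [← map_mul, ← map_one (Ideal.Quotient.mk (Ideal.span (Set.range D.g))), Ideal.Quotient.eq] at hw
      have h2 := (mem_varIdeal_iff _).1 (Ideal.pow_le_self two_ne_zero (hgK hw))
      simp at h2
    rw [h0, Ideal.mem_bot] at hx
    have h3 := congrArg E hx
    rw [E.apply_symm_apply, map_zero, Ideal.Quotient.eq_zero_iff_mem] at h3
    have h4 := coeff_one_of_mem_sq (hgK h3) 0
    simp [MvPowerSeries.coeff_X] at h4
  refine ⟨⟨fun h => ⟨(h13 h).1, (h13 h).2.2⟩, fun h => h31 h.2 (hred1 h.2 h.1)⟩, ⟨fun h => ?_, fun h => ?_⟩⟩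
  · exact (h13 (h31 h.2 (hred1 h.2 h.1))).2
  · refine ⟨(h13 (h31 h.2 ?_)).1, h.2⟩
    exact exists_regular_of_one_le_depth (by rw [← hdep, h.1])

end Groth.Agent.S6574
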