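import Groth.Statements.S6575
import Mathlib

set_option autoImplicit false
universe u
open Curves

namespace Groth.Agent.S6575

open Matrix in
theorem minors_le {A : Type*} [CommRing A] {ι : Type*} (D : ι → A → A)
    (hadd : ∀ i a b, D i (a + b) = D i a + D i b)
    (hmul : ∀ i a b, D i (a * b) = a * D i b + b * D i a)
    {m l r : ℕ} (f : Fin m → A) (g : Fin l → A)
    (hfg : ∀ s, g s ∈ Ideal.span (Set.range f)) :
    Ideal.span {d : A | ∃ (ρ : Fin r → Fin l) (γ : Fin r → ι), Function.Injective ρ ∧ Function.Injective γ ∧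
          d = ((Matrix.of fun (j : Fin l) (i : ι) => D i (g j)).submatrix ρ γ).det} ≤
      Ideal.span {d : A | ∃ (ρ : Fin r → Fin m) (γ : Fin r → ι), Function.Injective ρ ∧ Function.Injective γ ∧
          d = ((Matrix.of fun (j : Fin m) (i : ι) => D i (f j)).submatrix ρ γ).det} ⊔ Ideal.span (Set.range f) := by
  classical
  set I := Ideal.span (Set.range f)
  set S := Ideal.span {d : A | ∃ (ρ : Fin r → Fin m) (γ : Fin r → ι), Function.Injective ρ ∧ Function.Injective γ ∧
          d = ((Matrix.of fun (j : Fin m) (i : ι) => D i (f j)).submatrix ρ γ).det}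
  rw [Ideal.span_le]
  rintro _ ⟨ρ, γ, -, hγ, rfl⟩
  choose c hc using fun s => Ideal.mem_span_range_iff_exists_fun.mp (hfg s)
  let q := Ideal.Quotient.mk I
  have hDsum : ∀ i (v : Fin m → A), D i (∑ j, v j) = ∑ j, D i (v j) := fun i v =>
    map_sum (AddMonoidHom.mk' (D i) (hadd i)) v Finset.univ
  have hq : ∀ i s, q (D i (g s)) = ∑ j, q (c s j) * q (D i (f j)) := by
    intro i s
    rw [← hc s, hDsum, map_sum]
    refine Finset.sum_congr rfl fun j _ => ?_
    rw [hmul, map_add, map_mul, map_mul]
    have : q (f j) = 0 := Ideal.Quotient.eq_zero_iff_mem.mpr (Ideal.subset_span ⟨j, rfl⟩)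
    rw [this, zero_mul, add_zero]
  have key : q (((Matrix.of fun (j : Fin l) (i : ι) => D i (g j)).submatrix ρ γ).det) ∈ S.map q := by
    rw [RingHom.map_det]
    have hrow : q.mapMatrix ((Matrix.of fun (j : Fin l) (i : ι) => D i (g j)).submatrix ρ γ) =
        fun a => ∑ j : Fin m, q (c (ρ a) j) • (fun b => q (D (γ b) (f j))) := by
      funext a b
      simp [hq]
    have hdet : (q.mapMatrix ((Matrix.of fun (j : Fin l) (i : ι) => D i (g j)).submatrix ρ γ)).det =
        Matrix.detRowAlternating.toMultilinearMap
          (fun a => ∑ j : Fin m, q (c (ρ a) j) • (fun b => q (D (γ b) (f j)))) :=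
      congrArg Matrix.det hrow
    rw [hdet, MultilinearMap.map_sum]
    refine Submodule.sum_mem _ fun σ _ => ?_
    rw [MultilinearMap.map_smul_univ, smul_eq_mul]
    refine Ideal.mul_mem_left _ _ ?_
    by_cases hσ : Function.Injective σ
    · have : q (((Matrix.of fun (j : Fin m) (i : ι) => D i (f j)).submatrix σ γ).det) ∈ S.map q :=
        Ideal.mem_map_of_mem q (Ideal.subset_span ⟨σ, γ, hσ, hγ, rfl⟩)
      rw [RingHom.map_det] at this
      exact this
    · rw [Function.not_injective_iff] at hσ
      obtain ⟨a, a', ha, hne⟩ := hσ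
      have h0 : Matrix.detRowAlternating (fun i => (fun b => q (D (γ b) (f (σ i))))) = 0 :=
        AlternatingMap.map_eq_zero_of_eq _ _ (by simp only [ha]) hne
      exact (congrArg (· ∈ S.map q) h0).mpr (Ideal.zero_mem _)
  have := (Ideal.mem_map_iff_of_surjective q Ideal.Quotient.mk_surjective).mp key
  obtain ⟨x, hx, hxe⟩ := this
  have hsub := Ideal.Quotient.eq.mp hxe.symm
  have := Ideal.add_mem (S ⊔ I) (Ideal.mem_sup_left hx) (Ideal.mem_sup_right hsub)
  simpa using this

/-- Let k be a field, A = k[[x_1, …, x_n]] and I ⊆ A an ideal generated by f_1, …, f_m and also by g_1,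
…, g_l. Then for every r ≥ 0 the ideal of A/I generated by the r × r minors of (∂f_j/∂x_i) equals
the one generated by the r × r minors of (∂g_s/∂x_i); stated in A as equality of the ideals
generated by the minors together with I. (The published result also asserts independence of the
regular system of parameters x_1, …, x_n, which is not stated here.) -/
theorem result (k : Type u) [Field k] (n m l r : ℕ)
    (f : Fin m → MvPowerSeries (Fin n) k) (g : Fin l → MvPowerSeries (Fin n) k)
    (hfg : Ideal.span (Set.range f) = Ideal.span (Set.range g)) :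
    Ideal.span {d : MvPowerSeries (Fin n) k | ∃ (ρ : Fin r → Fin m) (γ : Fin r → Fin n), Function.Injective ρ ∧ Function.Injective γ ∧
          d = ((Matrix.of fun (j : Fin m) (i : Fin n) => MvPowerSeries.pderiv k i (f j)).submatrix ρ γ).det} ⊔ Ideal.span (Set.range f) =
      Ideal.span {d : MvPowerSeries (Fin n) k | ∃ (ρ : Fin r → Fin l) (γ : Fin r → Fin n), Function.Injective ρ ∧ Function.Injective γ ∧
          d = ((Matrix.of fun (j : Fin l) (i : Fin n) => MvPowerSeries.pderiv k i (g j)).submatrix ρ γ).det} ⊔ Ideal.span (Set.range g) := by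
  apply le_antisymm
  · refine sup_le ?_ (hfg ▸ le_sup_right)
    exact (minors_le (fun i a => MvPowerSeries.pderiv k i a) (fun i a b => map_add _ a b)
      (fun i a b => by simp) g f (fun j => hfg ▸ Ideal.subset_span ⟨j, rfl⟩))
  · refine sup_le ?_ (hfg.symm ▸ le_sup_right)
    exact (minors_le (fun i a => MvPowerSeries.pderiv k i a) (fun i a b => map_add _ a b)
      (fun i a b => by simp) f g (fun j => hfg.symm ▸ Ideal.subset_span ⟨j, rfl⟩))

end Groth.Agent.S6575
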