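import Groth.Statements.S6576
import Groth.Agent.Duality.FlatBCPair.Main
import Groth.Agent.Duality.ShriekBridge.Main

set_option backward.isDefEq.respectTransparency false
set_option linter.style.haveILetI false
set_option maxHeartbeats 1000000
set_option synthInstance.maxHeartbeats 400000

set_option autoImplicit false
universe u
open CategoryTheory CategoryTheory.Limits AlgebraicGeometry
attribute [local instance] HasDerivedCategory.standard
open Curves

namespace Groth.Agent.S6576

/-- Let X be proper over the field k of dimension ≤ 1, ω_X its dualizing module (degree -1 cohomology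
sheaf of f^! O for the structure morphism f, assuming Rf_* on D_QCoh and its right adjoint exist),
and K/k a field extension. Then the pullback of ω_X along X_K → X is a dualizing module for X_K →
Spec K: it is isomorphic to the degree -1 cohomology sheaf of the corresponding object for X_K over
K. (Existence of an isomorphism only; the statement for the dualizing complex is not included.) -/
theorem result (k : Type u) [Field k] (X : Scheme.{u}) [X.Over (Spec (CommRingCat.of k))] [IsProper (X ↘ (Spec (CommRingCat.of k)))] (hdim : topologicalKrullDim X ≤ 1)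
    [DCoh.HasRpush (X ↘ (Spec (CommRingCat.of k)))] (h : DCoh.RpushPreservesQCoh (X ↘ (Spec (CommRingCat.of k)))) [DCoh.HasShriek (X ↘ (Spec (CommRingCat.of k))) h]
    (OY : DCoh.DQCoh (Spec (CommRingCat.of k))) (hOY : Nonempty (OY.obj ≅ DCoh.inD (Spec (CommRingCat.of k)) (Coh.structureModule (Spec (CommRingCat.of k)))))
    (K : Type u) [Field K] [Algebra k K]
    [DCoh.HasRpush (Curv2.bcSnd k X K)] (hK : DCoh.RpushPreservesQCoh (Curv2.bcSnd k X K)) [DCoh.HasShriek (Curv2.bcSnd k X K) hK]
    (OK : DCoh.DQCoh (Spec (CommRingCat.of K))) (hOK : Nonempty (OK.obj ≅ DCoh.inD (Spec (CommRingCat.of K)) (Coh.structureModule (Spec (CommRingCat.of K))))) :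
    Nonempty ((Scheme.Modules.pullback (Curv2.bcFst k X K)).obj (DCoh.dualizingMod (X ↘ (Spec (CommRingCat.of k))) h OY 1) ≅ DCoh.dualizingMod (Curv2.bcSnd k X K) hK OK 1) := by
  letI : (Curv2.bc k X K).Over (Spec (CommRingCat.of K)) := ⟨Curv2.bcSnd k X K⟩
  haveI : IsProper ((Curv2.bc k X K) ↘ (Spec (CommRingCat.of K))) :=
    MorphismProperty.of_isPullback (IsPullback.of_hasPullback (X ↘ (Spec (CommRingCat.of k))) _)
      ‹IsProper (X ↘ (Spec (CommRingCat.of k)))›
  have hfib : ∀ P, topologicalKrullDim ↥((X ↘ (Spec (CommRingCat.of k))).fiber P) ≤ ((1 : ℕ) : WithBot ℕ∞) :=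
    fun P => ((X ↘ (Spec (CommRingCat.of k))).fiberι P).isEmbedding.isInducing.topologicalKrullDim_le.trans hdim
  have hfibK : ∀ P, topologicalKrullDim ↥(((Curv2.bc k X K) ↘ (Spec (CommRingCat.of K))).fiber P) ≤
      ((1 : ℕ) : WithBot ℕ∞) := fun P => by
    exact (Groth.FibreDim.dim_fiber_baseChange (X ↘ (Spec (CommRingCat.of k)))
      (Spec.map (CommRingCat.ofHom (algebraMap k K))) (Curv2.bcSnd k X K) (Curv2.bcFst k X K)
      (IsPullback.of_hasPullback _ _) P).le.trans (hfib _)
  obtain ⟨tr, htr⟩ := Groth.Duality.ShriekBridge.exists_isRDualOver_dualizingMod hfib h OY hOY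
  haveI : DCoh.HasRpush ((Curv2.bc k X K) ↘ (Spec (CommRingCat.of K))) :=
    ‹DCoh.HasRpush (Curv2.bcSnd k X K)›
  haveI : DCoh.HasShriek ((Curv2.bc k X K) ↘ (Spec (CommRingCat.of K))) hK := ‹DCoh.HasShriek _ hK›
  obtain ⟨trK, htrK⟩ := Groth.Duality.ShriekBridge.exists_isRDualOver_dualizingMod
    (X := Curv2.bc k X K) hfibK hK OK hOK
  obtain ⟨tr', htr'⟩ := Groth.Duality.FlatBCPair.exists_isRDualOver_pullback
    (p := Curv2.bcFst k X K) (IsPullback.of_hasPullback (X ↘ (Spec (CommRingCat.of k))) _) hfib htr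
  obtain ⟨⟨ρ, hρ, -⟩, hiso⟩ := Groth.Duality.RDual.existsUnique_iso htrK htr'
  haveI := hiso ρ hρ
  exact ⟨asIso ρ⟩

end Groth.Agent.S6576
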