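import Groth.Statements.S6577
import Groth.Agent.Duality.ShriekBridge.Main
import Groth.Agent.Duality.RDualPairs
import Groth.Agent.Duality.PnDualizing
import Groth.Agent.PropsBasic.FPSections
import Groth.Agent.LocFree.Hom
import Groth.Agent.FlatStrata.FlatModel

set_option backward.isDefEq.respectTransparency false
set_option linter.style.haveILetI false
set_option maxHeartbeats 1000000
set_option synthInstance.maxHeartbeats 400000

set_option autoImplicit false
universe u
open CategoryTheory CategoryTheory.Limits AlgebraicGeometry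
attribute [local instance] HasDerivedCategory.standard
open Curves

namespace Groth.Agent.S6577

theorem aux {k : Type u} [Field k] {X Y : Scheme.{u}} [X.Over (Spec (CommRingCat.of k))]
    [AlgebraicGeometry.IsNoetherian X] (i : Y ⟶ X) [IsClosedImmersion i]
    [DCoh.HasSheafHom ((Coh.push i).obj (Coh.structureModule Y))]
    {ωX : X.Modules} {ωY : Y.Modules} {trX : Coh.HH X ωX 1 →ₗ[k] k}
    (htrX : Canon.IsRDualOver k X 1 ωX trX) :
    letI : Y.Over (Spec (CommRingCat.of k)) := ⟨i ≫ (X ↘ (Spec (CommRingCat.of k)))⟩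
    ∀ {trY : Coh.HH Y ωY 1 →ₗ[k] k} (_ : Canon.IsRDualOver k Y 1 ωY trY),
    Nonempty ((Coh.push i).obj ωY ≅
      (DCoh.sheafHom ((Coh.push i).obj (Coh.structureModule Y))).obj ωX) := by
  letI : Y.Over (Spec (CommRingCat.of k)) := ⟨i ≫ (X ↘ (Spec (CommRingCat.of k)))⟩
  intro trY htrY
  let P := (Scheme.Modules.pushforward i).obj (Coh.structureModule Y)
  haveI : IsLocallyNoetherian Y := LocallyOfFiniteType.isLocallyNoetherian i
  haveI hMS : ModSite.HasSheafHom (O := X.sheaf) P :=
    Groth.SitesTopoi.ModH.hasSheafHom (O := X.sheaf) P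
  have hP : Coh.IsCoh P :=
    Groth.CohTwo.isCoh_push i (Groth.KTheory.LocFree.isCoh (Groth.LocFree.isFinLocFree_unit Y))
  let T := Groth.Misc7.ClosedImm.shriek i (Coh.structureModule Y)
  let adj := Groth.Duality.Pn.pushShriekAdj i
  haveI := hP.1
  haveI : ωX.IsQuasicoherent := htrX.1
  haveI : DCoh.HasSheafHom P := ‹DCoh.HasSheafHom ((Coh.push i).obj (Coh.structureModule Y))›
  let eH : (Groth.Misc7.ClosedImm.homPush i (Coh.structureModule Y)).obj ωX ≅
      (DCoh.sheafHom P).obj ωX := (Groth.CohTwo.LocFreeExt.msIso P).app ωX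
  have hH : ((Groth.Misc7.ClosedImm.homPush i (Coh.structureModule Y)).obj ωX).IsQuasicoherent := by
    haveI := Groth.LocFree.isQCoh_homSh (F := P) (G := ωX) fun U hU =>
      Groth.PropsBasic.FPSections.finitePresentation_sections P (Groth.FlatStrata.isFP_of_isCoh hP) hU
    exact (Groth.QCohMod.isQCoh_iff_of_iso (eH ≪≫ Groth.CohTwo.SheafHomIso.iso P ωX)).2 inferInstance
  have hT : (T.obj ωX).IsQuasicoherent := Groth.QCohMod.isQCoh_pullback_obj i _
  let τ := adj.counit.app ωX
  let e := Groth.Duality.PushHLin.pushLin (A := k) i rfl (T.obj ωX) 1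
  let trX' : Coh.HH Y (T.obj ωX) 1 →ₗ[k] k := trX ∘ₗ Canon.HHlin k τ 1 ∘ₗ e.symm.toLinearMap
  have hT' : Canon.IsRDualOver k Y 1 (T.obj ωX) trX' := by
    refine ⟨hT, fun F hF => ?_⟩
    haveI : F.IsQuasicoherent := hF
    let eF := Groth.Duality.PushHLin.pushLin (A := k) i rfl F 1
    have h1 := htrX.2 ((Scheme.Modules.pushforward i).obj F)
      (Groth.QCohMod.isQCoh_pushforward (Y := X) F i)
    have h2 : Function.Bijective
        (fun g : Coh.HH X ((Scheme.Modules.pushforward i).obj F) 1 →ₗ[k] k => g ∘ₗ eF.symm.toLinearMap) :=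
      ⟨fun a b hab => LinearMap.ext fun x => by
        simpa using LinearMap.congr_fun hab (eF x),
        fun g => ⟨g ∘ₗ eF.toLinearMap, LinearMap.ext fun x => congrArg g (eF.apply_symm_apply x)⟩⟩
    have h3 : Function.Bijective fun φ : F ⟶ T.obj ωX =>
        (Scheme.Modules.pushforward i).map φ ≫ τ := by
      have : (fun φ : F ⟶ T.obj ωX => (Scheme.Modules.pushforward i).map φ ≫ τ) =
          (adj.homEquiv F ωX).symm := funext fun φ => (adj.homEquiv_counit _ _ φ).symm
      rw [this]
      exact (adj.homEquiv F ωX).symm.bijective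
    have e1 : Canon.dualityMap k Y 1 (T.obj ωX) trX' F =
        (fun g => g ∘ₗ eF.symm.toLinearMap) ∘
          Canon.dualityMap k X 1 ωX trX ((Scheme.Modules.pushforward i).obj F) ∘
          fun φ => (Scheme.Modules.pushforward i).map φ ≫ τ := by
      funext φ
      refine LinearMap.ext fun x => ?_
      refine (congrArg (fun z => trX (Canon.HHlin k τ 1 z))
        (Groth.Duality.PushHLin.pushLin_natural i rfl φ 1 x)).trans ?_
      exact (congrArg trX (LinearMap.congr_fun
        (Groth.Duality.RDual.HHlin_comp ((Scheme.Modules.pushforward i).map φ) τ) (eF.symm x))).symm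
    rw [e1]
    exact h2.comp (h1.comp h3)
  obtain ⟨⟨ρ, hρ, -⟩, hiso⟩ := Groth.Duality.RDual.existsUnique_iso hT' htrY
  haveI := hiso ρ hρ
  exact ⟨(Scheme.Modules.pushforward i).mapIso (asIso ρ) ≪≫
    (Groth.Misc7.ClosedImm.shriekPushIso i (Coh.structureModule Y)).app ωX ≪≫ eH⟩

/-- Let X be proper over the field k of dimension ≤ 1, i : Y → X a closed immersion, and ω_X, ω_Y the
dualizing modules of X and of Y over k (degree -1 cohomology sheaves of the shriek of O for the
structure morphisms, assuming the derived pushforwards on D_QCoh and their right adjoints exist).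
Then i_*ω_Y ≅ Hom_{O_X}(i_*O_Y, ω_X), where the sheaf Hom is taken as the right adjoint of i_*O_Y ⊗
− (assumed to exist). (Existence of an isomorphism only.) -/
theorem result (k : Type u) [Field k] (X : Scheme.{u}) [X.Over (Spec (CommRingCat.of k))] [IsProper (X ↘ (Spec (CommRingCat.of k)))] (hdim : topologicalKrullDim X ≤ 1)
    [DCoh.HasRpush (X ↘ (Spec (CommRingCat.of k)))] (h : DCoh.RpushPreservesQCoh (X ↘ (Spec (CommRingCat.of k)))) [DCoh.HasShriek (X ↘ (Spec (CommRingCat.of k))) h]
    (OY : DCoh.DQCoh (Spec (CommRingCat.of k))) (hOY : Nonempty (OY.obj ≅ DCoh.inD (Spec (CommRingCat.of k)) (Coh.structureModule (Spec (CommRingCat.of k)))))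
    {Y : Scheme.{u}} (i : Y ⟶ X) [IsClosedImmersion i]
    [DCoh.HasRpush (i ≫ (X ↘ (Spec (CommRingCat.of k))))] (hY : DCoh.RpushPreservesQCoh (i ≫ (X ↘ (Spec (CommRingCat.of k))))) [DCoh.HasShriek (i ≫ (X ↘ (Spec (CommRingCat.of k)))) hY]
    [DCoh.HasSheafHom ((Coh.push i).obj (Coh.structureModule Y))] :
    Nonempty ((Coh.push i).obj (DCoh.dualizingMod (i ≫ (X ↘ (Spec (CommRingCat.of k)))) hY OY 1) ≅
      (DCoh.sheafHom ((Coh.push i).obj (Coh.structureModule Y))).obj (DCoh.dualizingMod (X ↘ (Spec (CommRingCat.of k))) h OY 1)) := by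
  haveI : AlgebraicGeometry.IsNoetherian X :=
    Groth.Lichtenbaum.isNoetherian_of_field (X ↘ (Spec (CommRingCat.of k)))
  letI : Y.Over (Spec (CommRingCat.of k)) := ⟨i ≫ (X ↘ (Spec (CommRingCat.of k)))⟩
  haveI : IsProper (Y ↘ (Spec (CommRingCat.of k))) :=
    inferInstanceAs (IsProper (i ≫ (X ↘ (Spec (CommRingCat.of k)))))
  haveI : AlgebraicGeometry.IsNoetherian Y :=
    Groth.Lichtenbaum.isNoetherian_of_field (Y ↘ (Spec (CommRingCat.of k)))
  obtain ⟨trX, htrX⟩ := Groth.Duality.ShriekBridge.exists_isRDualOver_dualizingMod (d := 1)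
    (fun P => ((X ↘ (Spec (CommRingCat.of k))).fiberι P).isEmbedding.isInducing.topologicalKrullDim_le.trans
      hdim) h OY hOY
  haveI : DCoh.HasRpush (Y ↘ (Spec (CommRingCat.of k))) :=
    ‹DCoh.HasRpush (i ≫ (X ↘ (Spec (CommRingCat.of k))))›
  haveI : DCoh.HasShriek (Y ↘ (Spec (CommRingCat.of k))) hY := ‹DCoh.HasShriek _ hY›
  obtain ⟨trY, htrY⟩ := Groth.Duality.ShriekBridge.exists_isRDualOver_dualizingMod (X := Y) (d := 1)
    (fun P => (((Y ↘ (Spec (CommRingCat.of k))).fiberι P).isEmbedding.isInducing.topologicalKrullDim_le.trans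
      i.isEmbedding.isInducing.topologicalKrullDim_le).trans hdim) hY OY hOY
  exact aux i htrX htrY

end Groth.Agent.S6577
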