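import Groth.Statements.S6578
import Groth.Agent.PlaneCurve.SeriesMap

set_option autoImplicit false
universe u
open CategoryTheory CategoryTheory.Limits AlgebraicGeometry
open Curves

namespace Groth.Agent.S6578

/-- Let k be a field and X a proper curve over k all of whose local rings are regular (X integral,
proper, of dimension one), and let (L, V) be a g^r_d on X, given by an invertible module L of degree
d and an ordered basis s_0, …, s_r of V ⊆ Γ(X, L) (k-linearly independent global sections). Then
there exist a morphism φ : X → P^r_k = Proj k[T_0, …, T_r] over k and a map α : φ^*O(1) → L sending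
φ^*T_i to s_i for each i (so φ^*T_0, …, φ^*T_r go to a basis of V). -/
theorem result (k : Type u) [Field k] (X : Scheme.{u}) [X.Over (Spec (CommRingCat.of k))]
    [IsIntegral X] [IsProper (X ↘ (Spec (CommRingCat.of k)))] (hdim : topologicalKrullDim X = 1) (hreg : ∀ x : X, IsRegularLocalRing (X.presheaf.stalk x))
    (d r : ℕ) (L : X.Modules) (s : Fin (r + 1) → LinSer.Sect X L) (hL : LinSer.IsLinSer k X L d r s) :
    ∃ (φ : X ⟶ CohB1.ProjSpace r k) (α : (Scheme.Modules.pullback φ).obj (Twist.twistProjSpace r k 1) ⟶ L),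
      φ ≫ CohB1.ProjSpace.toSpec r k = X ↘ (Spec (CommRingCat.of k)) ∧
        ∀ i : Fin (r + 1), (α.val.app (Opposite.op ⊤)).hom (OmegaSh.pullSect φ (Twist.twistProjSpace r k 1) ⊤ (Twist.globalOf (CohB1.polyGrading r k) (⟨MvPolynomial.X i, MvPolynomial.isHomogeneous_X k i⟩ : (CohB1.polyGrading r k) 1))) = s i := by
  obtain ⟨f, α, hf, hα⟩ := Groth.PlaneCurve.SeriesMap.exists_map
    (Groth.CurveBridge.IsRegCurve.mk hdim hreg) hL.1 s hL.2.2
  exact ⟨f, α, hf, fun i => hα i⟩

end Groth.Agent.S6578
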