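import Groth.Statements.S6579
import Groth.Agent.PlaneCurve.SeriesDegree

set_option autoImplicit false
universe u
open CategoryTheory CategoryTheory.Limits AlgebraicGeometry
open Curves

namespace Groth.Agent.S6579

/-- Let k be a field and X a proper curve over k all of whose local rings are regular (X integral,
proper, of dimension one), (L, V) a g^1_d on X with ordered basis s_0, s_1 of V, and φ : X → P^1_k a
morphism over k together with α : φ^*O(1) → L sending φ^*T_i to s_i (the morphism attached to the
linear series). Then either (1) φ is nonconstant and has degree at most d — here: φ does not factor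
through a closed point, and k(X) has dimension at most d over the local ring of P^1_k at the image
of the generic point of X (that image is then the generic point, so this is [k(X) : k(P^1_k)] ≤ d) —
or (2) φ maps X (set-theoretically) to a single closed point of P^1_k, and in that case H^0(X, O_X)
is bigger than k. -/
theorem result (k : Type u) [Field k] (X : Scheme.{u}) [X.Over (Spec (CommRingCat.of k))]
    [IsIntegral X] [IsProper (X ↘ (Spec (CommRingCat.of k)))] (hdim : topologicalKrullDim X = 1) (hreg : ∀ x : X, IsRegularLocalRing (X.presheaf.stalk x))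
    (d : ℕ) (L : X.Modules) (s : Fin (1 + 1) → LinSer.Sect X L) (hL : LinSer.IsLinSer k X L d 1 s)
    (φ : X ⟶ CohB1.ProjSpace 1 k) (α : (Scheme.Modules.pullback φ).obj (Twist.twistProjSpace 1 k 1) ⟶ L)
    (hφ : φ ≫ CohB1.ProjSpace.toSpec 1 k = X ↘ (Spec (CommRingCat.of k)) ∧
        ∀ i : Fin (1 + 1), (α.val.app (Opposite.op ⊤)).hom (OmegaSh.pullSect φ (Twist.twistProjSpace 1 k 1) ⊤ (Twist.globalOf (CohB1.polyGrading 1 k) (⟨MvPolynomial.X i, MvPolynomial.isHomogeneous_X k i⟩ : (CohB1.polyGrading 1 k) 1))) = s i) :
    ((¬ ∃ p : CohB1.ProjSpace 1 k, IsClosed ({p} : Set (CohB1.ProjSpace 1 k)) ∧ Set.range φ ⊆ {p}) ∧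
      (letI := (φ.stalkMap (genericPoint X)).hom.toAlgebra
       Module.finrank ((CohB1.ProjSpace 1 k).presheaf.stalk (φ (genericPoint X))) X.functionField ≤ d)) ∨
    ((∃ p : CohB1.ProjSpace 1 k, IsClosed ({p} : Set (CohB1.ProjSpace 1 k)) ∧ Set.range φ ⊆ {p}) ∧
      Module.finrank k (Coh.HH X (Coh.structureModule X) 0) ≠ 1) := by
  exact Groth.PlaneCurve.SeriesDegree.degree_dichotomy
    (Groth.CurveBridge.IsRegCurve.mk hdim hreg) hL.1 hL.2.1 s hL.2.2 φ α hφ.1 fun i => hφ.2 i

end Groth.Agent.S6579
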