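import Groth.Statements.S6580


set_option autoImplicit false
universe v u
open CategoryTheory CategoryTheory.Limits
open CohDer

namespace Groth.Agent.S6580

open CategoryTheory.Pretriangulated in
/-- Let (X, Y, Z, f, g, h) be a distinguished triangle of a pretriangulated category, and let a : X ⟶ X
and c : Z ⟶ Z be idempotents with h ≫ a⟦1⟧ = c ≫ h. Then there is an idempotent b : Y ⟶ Y such that
(a, b, c) is an endomorphism of the triangle. -/
theorem result {D : Type u} [Category.{v} D] [Preadditive D] [HasZeroObject D] [HasShift D ℤ]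
    [∀ n : ℤ, (shiftFunctor D n).Additive] [Pretriangulated D]
    (T : Triangle D) (hT : T ∈ distinguishedTriangles) (a : T.obj₁ ⟶ T.obj₁) (c : T.obj₃ ⟶ T.obj₃)
    (ha : a ≫ a = a) (hc : c ≫ c = c) (comm : T.mor₃ ≫ (shiftFunctor D (1 : ℤ)).map a = c ≫ T.mor₃) :
    ∃ b : T.obj₂ ⟶ T.obj₂, b ≫ b = b ∧ T.mor₁ ≫ b = a ≫ T.mor₁ ∧ T.mor₂ ≫ c = b ≫ T.mor₂ := by
  obtain ⟨b₀, h1, h2⟩ := complete_distinguished_triangle_morphism₂ T T hT hT a c comm
  have hk : (b₀ ≫ b₀ - b₀) ≫ (b₀ ≫ b₀ - b₀) = 0 := by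
    have e1 : T.mor₁ ≫ (b₀ ≫ b₀ - b₀) = 0 := by
      rw [Preadditive.comp_sub, ← Category.assoc, h1, Category.assoc, h1, ← Category.assoc, ha, sub_self]
    have e2 : (b₀ ≫ b₀ - b₀) ≫ T.mor₂ = 0 := by
      rw [Preadditive.sub_comp, Category.assoc, ← h2, ← Category.assoc, ← h2, Category.assoc, hc, sub_self]
    obtain ⟨w, hw⟩ := Triangle.coyoneda_exact₂ T hT _ e2
    nth_rw 1 [hw]
    rw [Category.assoc, e1, comp_zero]
  let d : T.obj₂ ⟶ T.obj₂ := b₀ ≫ b₀ - b₀
  have hb2 : b₀ ≫ b₀ = b₀ + d := by simp [d]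
  have hdb : d ≫ b₀ = b₀ ≫ d := by simp only [d, Preadditive.sub_comp, Preadditive.comp_sub, Category.assoc]
  have hbd : T.mor₁ ≫ d = 0 := by
    simp only [d, Preadditive.comp_sub, ← Category.assoc, h1]
    rw [Category.assoc a, h1, ← Category.assoc, ha, sub_self]
  have hd2 : d ≫ T.mor₂ = 0 := by
    simp only [d, Preadditive.sub_comp, Category.assoc, ← h2]
    rw [← Category.assoc b₀ T.mor₂, ← h2, Category.assoc, hc, sub_self]
  refine ⟨b₀ + d - (2 : ℕ) • (b₀ ≫ d), ?_, ?_, ?_⟩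
  · have r1 : ∀ {Q : D} (x : T.obj₂ ⟶ Q), b₀ ≫ b₀ ≫ x = b₀ ≫ x + d ≫ x := fun x => by
      rw [← Category.assoc, hb2, Preadditive.add_comp]
    have r2 : ∀ {Q : D} (x : T.obj₂ ⟶ Q), d ≫ b₀ ≫ x = b₀ ≫ d ≫ x := fun x => by
      rw [← Category.assoc, hdb, Category.assoc]
    have r3 : ∀ {Q : D} (x : T.obj₂ ⟶ Q), d ≫ d ≫ x = 0 := fun x => by rw [← Category.assoc, hk, zero_comp]
    simp only [Preadditive.add_comp, Preadditive.comp_add, Preadditive.sub_comp, Preadditive.comp_sub,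
      Preadditive.nsmul_comp, Preadditive.comp_nsmul, Category.assoc, hb2, hdb, r1, r2, r3, show d ≫ d = 0 from hk, comp_zero,
      add_zero, zero_add, smul_zero, sub_zero]
    abel
  · rw [Preadditive.comp_sub, Preadditive.comp_add, Preadditive.comp_nsmul, h1, hbd, ← Category.assoc, h1,
      Category.assoc, hbd, comp_zero, smul_zero, add_zero, sub_zero]
  · rw [Preadditive.sub_comp, Preadditive.add_comp, Preadditive.nsmul_comp, Category.assoc, hd2, comp_zero,
      smul_zero, add_zero, sub_zero, ← h2]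

end Groth.Agent.S6580
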