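import Groth.Statements.S6581


set_option autoImplicit false
universe v u
open CategoryTheory CategoryTheory.Limits
open CohDer

namespace Groth.Agent.S6581

open CategoryTheory.Pretriangulated in
/-- Let T = (X, Y, Z, f, g, h) and T' = (X', Y', Z', f', g', h') be triangles in a pretriangulated
category. The direct sum triangle (X ⊞ X', Y ⊞ Y', Z ⊞ Z', f ⊕ f', g ⊕ g', h ⊕ h') (whose third map
Z ⊞ Z' ⟶ (X ⊞ X')⟦1⟧ has components h ≫ inl⟦1⟧ and h' ≫ inr⟦1⟧) is distinguished if and only if T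
and T' are both distinguished. -/
theorem result {D : Type u} [Category.{v} D] [Preadditive D] [HasZeroObject D] [HasShift D ℤ]
    [∀ n : ℤ, (shiftFunctor D n).Additive] [Pretriangulated D]
    (T T' : Triangle D) :
    Triangle.mk (biprod.map T.mor₁ T'.mor₁) (biprod.map T.mor₂ T'.mor₂)
        (biprod.desc (T.mor₃ ≫ (shiftFunctor D (1 : ℤ)).map biprod.inl) (T'.mor₃ ≫ (shiftFunctor D (1 : ℤ)).map biprod.inr)) ∈ distinguishedTriangles ↔
      (T ∈ distinguishedTriangles ∧ T' ∈ distinguishedTriangles) := by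
  have hfst : ∀ {A B X Y : D} (a : A ⟶ (shiftFunctor D (1 : ℤ)).obj X) (b : B ⟶ (shiftFunctor D (1 : ℤ)).obj Y),
      biprod.desc (a ≫ (shiftFunctor D (1 : ℤ)).map biprod.inl) (b ≫ (shiftFunctor D (1 : ℤ)).map biprod.inr) ≫
        (shiftFunctor D (1 : ℤ)).map biprod.fst = biprod.fst ≫ a := fun a b => by
    ext <;> simp [← Functor.map_comp]
  have hsnd : ∀ {A B X Y : D} (a : A ⟶ (shiftFunctor D (1 : ℤ)).obj X) (b : B ⟶ (shiftFunctor D (1 : ℤ)).obj Y),
      biprod.desc (a ≫ (shiftFunctor D (1 : ℤ)).map biprod.inl) (b ≫ (shiftFunctor D (1 : ℤ)).map biprod.inr) ≫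
        (shiftFunctor D (1 : ℤ)).map biprod.snd = biprod.snd ≫ b := fun a b => by
    ext <;> simp [← Functor.map_comp]
  constructor
  · intro hS
    have key : ∀ {S : Triangle D}, S ∈ distTriang D → ∀ (U : Triangle D) (i : U ⟶ S) (p : S ⟶ U),
        i.hom₁ ≫ p.hom₁ = 𝟙 _ → i.hom₂ ≫ p.hom₂ = 𝟙 _ → i.hom₃ ≫ p.hom₃ = 𝟙 _ → U ∈ distTriang D := by
      intro S hS U i p h1 h2 h3
      obtain ⟨Z, g, h, hU⟩ := distinguished_cocone_triangle U.mor₁
      obtain ⟨c, hc2, hc3⟩ := complete_distinguished_triangle_morphism _ _ hU hS i.hom₁ i.hom₂ i.comm₁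
      obtain ⟨c', hc2', hc3'⟩ := complete_distinguished_triangle_morphism _ _ hS hU p.hom₁ p.hom₂ p.comm₁
      let ψ : Triangle.mk U.mor₁ g h ⟶ U :=
        Triangle.homMk _ _ (𝟙 _) (𝟙 _) (c ≫ p.hom₃) ((Category.comp_id _).trans (Category.id_comp _).symm)
          ((Category.assoc _ _ _).symm.trans ((congrArg (· ≫ p.hom₃) hc2).trans ((Category.assoc _ _ _).trans
            ((congrArg (i.hom₂ ≫ ·) p.comm₂).trans ((Category.assoc _ _ _).symm.trans (congrArg (· ≫ U.mor₂) h2)))))) (by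
            rw [Category.assoc, ← p.comm₃, ← Category.assoc]
            refine Eq.trans ?_ (congrArg (· ≫ (shiftFunctor D (1 : ℤ)).map p.hom₁) hc3)
            rw [Category.assoc, ← Functor.map_comp]
            exact congrArg (h ≫ (shiftFunctor D (1 : ℤ)).map ·) h1.symm)
      let χ : U ⟶ Triangle.mk U.mor₁ g h :=
        Triangle.homMk _ _ (𝟙 _) (𝟙 _) (i.hom₃ ≫ c') ((Category.comp_id _).trans (Category.id_comp _).symm)
          ((Category.assoc _ _ _).symm.trans ((congrArg (· ≫ c') i.comm₂).trans ((Category.assoc _ _ _).trans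
            ((congrArg (i.hom₂ ≫ ·) hc2').trans ((Category.assoc _ _ _).symm.trans (congrArg (· ≫ g) h2)))))) (by
            refine Eq.trans ?_ ((congrArg (i.hom₃ ≫ ·) hc3').trans (Category.assoc _ _ _).symm)
            rw [← Category.assoc, ← i.comm₃, Category.assoc, ← Functor.map_comp]
            exact congrArg (U.mor₃ ≫ (shiftFunctor D (1 : ℤ)).map ·) h1.symm)
      have hψχ : IsIso (ψ ≫ χ).hom₃ :=
        isIso₃_of_isIso₁₂ (ψ ≫ χ) hU hU (inferInstanceAs (IsIso (𝟙 U.obj₁ ≫ 𝟙 U.obj₁))) (inferInstanceAs (IsIso (𝟙 U.obj₂ ≫ 𝟙 U.obj₂)))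
      have hχψ : IsIso (χ ≫ ψ).hom₃ := by
        let δ : U.obj₃ ⟶ U.obj₃ := (χ ≫ ψ).hom₃ - 𝟙 _
        have hd2 : U.mor₂ ≫ δ = 0 := by
          simp only [δ, Preadditive.comp_sub, Category.comp_id, (χ ≫ ψ).comm₂, sub_eq_zero]
          change (𝟙 U.obj₂ ≫ 𝟙 U.obj₂) ≫ U.mor₂ = U.mor₂
          simp
        have hd3 : δ ≫ U.mor₃ = 0 := by
          simp only [δ, Preadditive.sub_comp, Category.id_comp, ← (χ ≫ ψ).comm₃, sub_eq_zero]
          change U.mor₃ ≫ (shiftFunctor D (1 : ℤ)).map (𝟙 U.obj₁ ≫ 𝟙 U.obj₁) = U.mor₃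
          simp
        obtain ⟨w, hw⟩ := Triangle.coyoneda_exact₃ _ hS (δ ≫ i.hom₃) (by
          rw [Category.assoc, ← i.comm₃, ← Category.assoc, hd3, zero_comp])
        have hd : δ = w ≫ p.hom₂ ≫ U.mor₂ := by
          rw [← p.comm₂, ← Category.assoc, ← hw, Category.assoc, h3, Category.comp_id]
        have hdd : δ ≫ δ = 0 := by
          nth_rw 1 [hd]
          rw [Category.assoc, Category.assoc, hd2, comp_zero, comp_zero]
        have he : (χ ≫ ψ).hom₃ = 𝟙 _ + δ := by simp only [δ]; abel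
        rw [he]
        exact ⟨𝟙 _ - δ, by simp [Preadditive.comp_sub, Preadditive.add_comp, hdd],
          by simp [Preadditive.sub_comp, Preadditive.comp_add, hdd]⟩
      have hiso : IsIso ψ.hom₃ := by
        have h4 : IsSplitEpi ψ.hom₃ :=
          IsSplitEpi.mk' ⟨inv (χ ≫ ψ).hom₃ ≫ χ.hom₃, (Category.assoc _ _ _).trans (IsIso.inv_hom_id _)⟩
        have h5 : IsSplitMono ψ.hom₃ :=
          IsSplitMono.mk' ⟨χ.hom₃ ≫ @inv _ _ _ _ (ψ ≫ χ).hom₃ hψχ,
            (Category.assoc _ _ _).symm.trans (@IsIso.hom_inv_id _ _ _ _ _ hψχ)⟩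
        exact isIso_of_mono_of_isSplitEpi _
      have : IsIso ψ := Triangle.isIso_of_isIsos ψ (inferInstanceAs (IsIso (𝟙 _))) (inferInstanceAs (IsIso (𝟙 _))) hiso
      exact isomorphic_distinguished _ hU _ (asIso ψ).symm
    constructor
    · exact key hS T (Triangle.homMk _ _ biprod.inl biprod.inl biprod.inl (biprod.inl_map _ _).symm (biprod.inl_map _ _).symm (biprod.inl_desc _ _).symm)
        (Triangle.homMk _ _ biprod.fst biprod.fst biprod.fst (biprod.map_fst _ _) (biprod.map_fst _ _) (hfst T.mor₃ T'.mor₃))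
        biprod.inl_fst biprod.inl_fst biprod.inl_fst
    · exact key hS T' (Triangle.homMk _ _ biprod.inr biprod.inr biprod.inr (biprod.inr_map _ _).symm (biprod.inr_map _ _).symm (biprod.inr_desc _ _).symm)
        (Triangle.homMk _ _ biprod.snd biprod.snd biprod.snd (biprod.map_snd _ _) (biprod.map_snd _ _) (hsnd T.mor₃ T'.mor₃))
        biprod.inr_snd biprod.inr_snd biprod.inr_snd
  · rintro ⟨hT, hT'⟩
    let F : WalkingPair → Triangle D := pairFunction T T'
    let S := Triangle.mk (biprod.map T.mor₁ T'.mor₁) (biprod.map T.mor₂ T'.mor₂)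
        (biprod.desc (T.mor₃ ≫ (shiftFunctor D (1 : ℤ)).map biprod.inl) (T'.mor₃ ≫ (shiftFunctor D (1 : ℤ)).map biprod.inr))
    let φ : ∀ j, S ⟶ F j
      | .left => Triangle.homMk _ _ biprod.fst biprod.fst biprod.fst (biprod.map_fst _ _) (biprod.map_fst _ _) (hfst T.mor₃ T'.mor₃)
      | .right => Triangle.homMk _ _ biprod.snd biprod.snd biprod.snd (biprod.map_snd _ _) (biprod.map_snd _ _) (hsnd T.mor₃ T'.mor₃)
    have hiso : ∀ (X : WalkingPair → D) (f : X WalkingPair.left ⊞ X WalkingPair.right ⟶ ∏ᶜ X),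
        f ≫ Pi.π X .left = biprod.fst → f ≫ Pi.π X .right = biprod.snd → IsIso f := fun X f hl hr =>
      ⟨biprod.lift (Pi.π X .left) (Pi.π X .right), by ext <;> simp [hl, hr], Pi.hom_ext _ _ fun j => by
        cases j <;> simp [hl, hr]⟩
    have : IsIso (productTriangle.lift F φ) := Triangle.isIso_of_isIsos _
      (hiso (fun j => (F j).obj₁) _ (Pi.lift_π _ _) (Pi.lift_π _ _))
      (hiso (fun j => (F j).obj₂) _ (Pi.lift_π _ _) (Pi.lift_π _ _))
      (hiso (fun j => (F j).obj₃) _ (Pi.lift_π _ _) (Pi.lift_π _ _))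
    exact isomorphic_distinguished _ (productTriangle_distinguished F (fun j => by cases j <;> assumption)) _
      (asIso (productTriangle.lift F φ))

end Groth.Agent.S6581
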