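import Groth.Statements.S6583
import Groth.Agent.DerivedCoh.TriBasic

set_option autoImplicit false
universe v u v' u'
open CategoryTheory CategoryTheory.Limits
open CohDer

namespace Groth.Agent.S6583

open CategoryTheory.Limits CategoryTheory.Pretriangulated ZeroObject

open CategoryTheory.Pretriangulated in
/-- Let H : D ⥤ A be a homological functor from a pretriangulated category to an abelian category. The
full subcategory of D on the objects X with H(X⟦n⟧) = 0 for all n ≪ 0 is a strictly full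
pretriangulated subcategory (zero object, stable under shifts and isomorphisms, closed under
extensions) and is saturated: if X ⊞ Y belongs to it then so do X and Y. -/
theorem result {D : Type u} [Category.{v} D] [Preadditive D] [HasZeroObject D] [HasShift D ℤ]
    [∀ n : ℤ, (shiftFunctor D n).Additive] [Pretriangulated D]
    {A : Type u'} [Category.{v'} A] [Abelian A] (H : D ⥤ A) [H.IsHomological] :
    (ObjectProperty.IsTriangulated (fun X : D => ∃ N : ℤ, ∀ n : ℤ, n ≤ N → IsZero (H.obj ((shiftFunctor D n).obj X)))) ∧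
    (ObjectProperty.IsClosedUnderIsomorphisms (fun X : D => ∃ N : ℤ, ∀ n : ℤ, n ≤ N → IsZero (H.obj ((shiftFunctor D n).obj X)))) ∧
    (∀ X Y : D, (∃ N : ℤ, ∀ n : ℤ, n ≤ N → IsZero (H.obj ((shiftFunctor D n).obj (X ⊞ Y)))) →
      (∃ N : ℤ, ∀ n : ℤ, n ≤ N → IsZero (H.obj ((shiftFunctor D n).obj X))) ∧
      (∃ N : ℤ, ∀ n : ℤ, n ≤ N → IsZero (H.obj ((shiftFunctor D n).obj Y)))) := by
  let P : ObjectProperty D := fun X => ∃ N : ℤ, ∀ n : ℤ, n ≤ N → IsZero (H.obj ((shiftFunctor D n).obj X))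
  have hiso : P.IsClosedUnderIsomorphisms :=
    ⟨fun e ⟨N, h⟩ => ⟨N, fun n hn => (h n hn).of_iso (H.mapIso ((shiftFunctor D n).mapIso e.symm))⟩⟩
  have hP : P.IsTriangulated :=
    { exists_zero := ⟨0, isZero_zero D, 0, fun n _ => H.map_isZero ((shiftFunctor D n).map_isZero (isZero_zero D))⟩
      isStableUnderShiftBy := fun a => ⟨fun X ⟨N, h⟩ => ⟨N - a, fun n hn => (h (a + n) (by lia)).of_iso
        (H.mapIso ((shiftFunctorAdd' D a n (a + n) rfl).symm.app X))⟩⟩
      ext₂' := fun T hT ⟨N₁, h₁⟩ ⟨N₃, h₃⟩ => P.le_isoClosure _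
        ⟨min N₁ N₃, fun n hn => by
          exact ShortComplex.Exact.isZero_of_both_zeros
            (H.map_distinguished_exact _ (Triangle.shift_distinguished _ hT n))
            ((h₁ n (by omega)).eq_of_src _ _) ((h₃ n (by omega)).eq_of_tgt _ _)⟩ }
  refine ⟨hP, hiso, fun X Y ⟨N, h⟩ => ⟨⟨N, fun n hn => ?_⟩, ⟨N, fun n hn => ?_⟩⟩⟩
  · exact IsZero.of_mono (H.map ((shiftFunctor D n).map (biprod.inl : X ⟶ X ⊞ Y))) (h n hn)
  · exact IsZero.of_mono (H.map ((shiftFunctor D n).map (biprod.inr : Y ⟶ X ⊞ Y))) (h n hn)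

end Groth.Agent.S6583
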