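import Groth.Statements.S6588
import Groth.Agent.KTheory.ProSystems

set_option autoImplicit false
universe w v u
open CategoryTheory CategoryTheory.Limits Opposite
open CohDer

namespace Groth.Agent.S6588

/-- Let A be an abelian category and let (X_n) → (Y_n) be an ℕ-indexed inverse system of maps of D(A).
Assume (1) there are a ≤ b with Hⁱ(X_n) = 0 and Hⁱ(Y_n) = 0 for all n and all i outside [a, b], and
(2) for every i the maps Hⁱ(X_n) → Hⁱ(Y_n) form a pro-isomorphism of inverse systems of A. Then
(X_n) → (Y_n) is a pro-isomorphism of inverse systems of D(A). -/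
theorem result {A : Type u} [Category.{v} A] [Abelian A] [HasDerivedCategory.{w} A]
    (X Y : ARSys.PS (DerivedCategory A)) (f : X ⟶ Y) (a b : ℤ) (hab : a ≤ b)
    (hX : ∀ (n : ℕ) (i : ℤ), i < a ∨ b < i → IsZero ((DerivedCategory.homologyFunctor A i).obj (X.obj (op n))))
    (hY : ∀ (n : ℕ) (i : ℤ), i < a ∨ b < i → IsZero ((DerivedCategory.homologyFunctor A i).obj (Y.obj (op n))))
    (hH : ∀ i : ℤ, DerCA.IsProIso (Functor.whiskerRight f (DerivedCategory.homologyFunctor A i))) :
    DerCA.IsProIso f :=
  Groth.Agent.ProSystems.isProIso_of_homology X Y f a b hab hX hY hH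

end Groth.Agent.S6588
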