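import Groth.Statements.S6590
import Groth.Agent.Calg8.RightResolution

set_option autoImplicit false
universe v u
open CategoryTheory
open CohDer

namespace Groth.Agent.S6590

/-- Let I be a class of objects in an abelian category containing a zero object and such that every
object is a subobject of an object in I. For a cochain complex K vanishing in degrees below a there
is a quasi-isomorphism K ⟶ L, a monomorphism in each degree, where L has all terms in I and also
vanishes below degree a. -/
theorem result {A : Type u} [Category.{v} A] [Abelian A] (I : A → Prop)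
    (hI0 : ∃ Z : A, Limits.IsZero Z ∧ I Z) (hI : ∀ X : A, ∃ (Y : A) (ι : X ⟶ Y), I Y ∧ Mono ι)
    (K : CochainComplex A ℤ) (a : ℤ) [K.IsStrictlyGE a] :
    ∃ (L : CochainComplex A ℤ) (α : K ⟶ L), L.IsStrictlyGE a ∧ (∀ n, I (L.X n)) ∧ (∀ n, Mono (α.f n)) ∧ QuasiIso α := by
  obtain ⟨L, α, h₁, h₂, h₃, h₄⟩ := Groth.Calg8.RightRes.exists_resolution hI hI0 K a
  refine ⟨L, K.πTruncGE a ≫ α, h₁, h₂, fun n => ?_, inferInstance⟩
  have := h₃ n
  have : IsIso ((K.πTruncGE a).f n) := inferInstanceAs (IsIso ((HomologicalComplex.eval A _ n).map (K.πTruncGE a)))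
  rw [HomologicalComplex.comp_f]
  infer_instance

end Groth.Agent.S6590
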