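import Groth.Statements.S6593
import Groth.Agent.DerivedCoh.CoprodTriangle

set_option autoImplicit false
universe w v u
open CategoryTheory CategoryTheory.Limits
open CohDer

namespace Groth.Agent.S6593

open CategoryTheory.Pretriangulated in
/-- Let D be a pretriangulated category and (X_i → Y_i → Z_i → X_i⟦1⟧)_{i ∈ I} a family of distinguished
triangles. If the direct sums ⨁ X_i, ⨁ Y_i, ⨁ Z_i exist, then ⨁ X_i → ⨁ Y_i → ⨁ Z_i → (⨁ X_i)⟦1⟧ is
a distinguished triangle (the last map is induced by the composites Z_i → X_i⟦1⟧ → (⨁ X_i)⟦1⟧). -/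
theorem result {D : Type u} [Category.{v} D] [Preadditive D] [HasZeroObject D] [HasShift D ℤ]
    [∀ n : ℤ, (shiftFunctor D n).Additive] [Pretriangulated D]
    {J : Type w} (T : J → Triangle D) (hT : ∀ j, T j ∈ distinguishedTriangles)
    [HasCoproduct (fun j => (T j).obj₁)] [HasCoproduct (fun j => (T j).obj₂)] [HasCoproduct (fun j => (T j).obj₃)] :
    Triangle.mk (Limits.Sigma.map (fun j => (T j).mor₁)) (Limits.Sigma.map (fun j => (T j).mor₂))
      (Sigma.desc (fun j => (T j).mor₃ ≫ (shiftFunctor D (1 : ℤ)).map (Sigma.ι (fun j => (T j).obj₁) j))) ∈ distinguishedTriangles := by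
  obtain ⟨W, g, h, hW⟩ := distinguished_cocone_triangle (Limits.Sigma.map (fun j => (T j).mor₁))
  have hexc : ∀ j, ∃ c : (T j).obj₃ ⟶ W, (T j).mor₂ ≫ c = Sigma.ι (fun j => (T j).obj₂) j ≫ g ∧
      (T j).mor₃ ≫ (shiftFunctor D (1 : ℤ)).map (Sigma.ι (fun j => (T j).obj₁) j) = c ≫ h := fun j =>
    complete_distinguished_triangle_morphism (T j) _ (hT j) hW
      (Sigma.ι (fun j => (T j).obj₁) j) (Sigma.ι (fun j => (T j).obj₂) j) (Limits.Sigma.ι_map (fun j => (T j).mor₁) j).symm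
  choose c hc₂ hc₃ using hexc
  let ψ : (∐ fun j => (T j).obj₃) ⟶ W := Sigma.desc c
  have hsh : ∀ (j : J) {Q : D} (f : (T j).obj₁ ⟶ Q), (T j).mor₃ ≫ (shiftFunctor D (1 : ℤ)).map f = 0 →
      ∃ k, f = (T j).mor₁ ≫ k := fun j {Q} f hf => Groth.DerivedCoh.exists_of_mor₃_comp_shift (T j) (hT j) f hf
  have hinj : ∀ (Q : D) (f : W ⟶ (shiftFunctor D (1 : ℤ)).obj Q), ψ ≫ f = 0 → f = 0 := by
    intro Q f hf
    have hj : ∀ j, c j ≫ f = 0 := fun j => by
      rw [show c j = Sigma.ι (fun j => (T j).obj₃) j ≫ ψ from (Sigma.ι_desc c j).symm, Category.assoc, hf, comp_zero]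
    have hgf : g ≫ f = 0 := Limits.Sigma.hom_ext _ _ fun j => by
      rw [← Category.assoc, ← hc₂, Category.assoc, hj, comp_zero, comp_zero]
    obtain ⟨w, hw⟩ := Triangle.yoneda_exact₃ _ hW f hgf
    obtain ⟨u, rfl⟩ : ∃ u : (∐ fun j => (T j).obj₁) ⟶ Q, (shiftFunctor D (1 : ℤ)).map u = w :=
      (shiftFunctor D (1 : ℤ)).map_surjective w
    replace hw : f = h ≫ (shiftFunctor D (1 : ℤ)).map u := hw
    choose k hk using fun j => hsh j (Sigma.ι (fun j => (T j).obj₁) j ≫ u) (by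
      rw [Functor.map_comp, ← Category.assoc, hc₃, Category.assoc, ← hw, hj])
    have hu : u = Limits.Sigma.map (fun j => (T j).mor₁) ≫ Sigma.desc k := Limits.Sigma.hom_ext _ _ fun j => by
      rw [hk, Limits.Sigma.ι_map_assoc, Sigma.ι_desc]
    have h0 : h ≫ (shiftFunctor D (1 : ℤ)).map (Limits.Sigma.map (fun j => (T j).mor₁)) = 0 :=
      comp_distTriang_mor_zero₃₁ _ hW
    rw [hw, hu, Functor.map_comp, ← Category.assoc, h0, zero_comp]
  have hsurj : ∀ (Q : D) (b : (∐ fun j => (T j).obj₃) ⟶ (shiftFunctor D (1 : ℤ)).obj Q), ∃ f, ψ ≫ f = b := by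
    intro Q b
    let y : (∐ fun j => (T j).obj₂) ⟶ (shiftFunctor D (1 : ℤ)).obj Q :=
      Limits.Sigma.map (fun j => (T j).mor₂) ≫ b
    have hy : Limits.Sigma.map (fun j => (T j).mor₁) ≫ y = 0 := Limits.Sigma.hom_ext _ _ fun j => by
      simp only [y, Limits.Sigma.ι_map_assoc, comp_zero]
      rw [← Category.assoc, comp_distTriang_mor_zero₁₂ _ (hT j), zero_comp]
    obtain ⟨f₀, hf₀⟩ : ∃ f₀ : W ⟶ (shiftFunctor D (1 : ℤ)).obj Q, y = g ≫ f₀ := Triangle.yoneda_exact₂ _ hW y hy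
    have hex : ∀ j, ∃ u : (T j).obj₁ ⟶ Q, Sigma.ι (fun j => (T j).obj₃) j ≫ b - c j ≫ f₀ =
        (T j).mor₃ ≫ (shiftFunctor D (1 : ℤ)).map u := fun j => by
      obtain ⟨w, hw⟩ := Triangle.yoneda_exact₃ _ (hT j) (Sigma.ι (fun j => (T j).obj₃) j ≫ b - c j ≫ f₀) (by
        rw [Preadditive.comp_sub, ← Category.assoc (T j).mor₂ (c j), hc₂, Category.assoc, ← hf₀, sub_eq_zero]
        simp [y])
      obtain ⟨u, rfl⟩ := (shiftFunctor D (1 : ℤ)).map_surjective w
      exact ⟨u, hw⟩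
    choose u hu using hex
    refine ⟨f₀ + h ≫ (shiftFunctor D (1 : ℤ)).map (Sigma.desc u), Limits.Sigma.hom_ext _ _ fun j => ?_⟩
    rw [← Category.assoc, show Sigma.ι (fun j => (T j).obj₃) j ≫ ψ = c j from Sigma.ι_desc c j,
      Preadditive.comp_add, ← Category.assoc (c j) h, ← hc₃, Category.assoc, ← Functor.map_comp, Sigma.ι_desc, ← hu]
    abel
  have hiso : IsIso ψ := isIso_of_coyoneda_map_bijective _ fun Q => by
    let e : (shiftFunctor D (1 : ℤ)).obj ((shiftFunctor D (1 : ℤ)).objPreimage Q) ≅ Q := (shiftFunctor D (1 : ℤ)).objObjPreimageIso Q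
    refine ⟨fun f f' hf => ?_, fun b => ?_⟩
    · have := hinj _ ((f - f') ≫ e.inv) (by
        rw [← Category.assoc, Preadditive.comp_sub ψ f f', show ψ ≫ f = ψ ≫ f' from hf, sub_self, zero_comp])
      rw [← sub_eq_zero, ← cancel_mono e.inv, this, zero_comp]
    · obtain ⟨f, hf⟩ := hsurj _ (b ≫ e.inv)
      exact ⟨f ≫ e.hom, by
        change ψ ≫ f ≫ e.hom = b
        rw [← Category.assoc, hf, Category.assoc, Iso.inv_hom_id, Category.comp_id]⟩
  refine isomorphic_distinguished _ hW _ (Triangle.isoMk _ _ (Iso.refl _) (Iso.refl _) (@asIso _ _ _ _ ψ hiso) ?_ ?_ ?_)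
  · exact (Category.comp_id _).trans (Category.id_comp _).symm
  · refine Eq.trans ?_ (Category.id_comp _).symm
    refine Limits.Sigma.hom_ext _ _ fun j => ?_
    exact ((Limits.Sigma.ι_map_assoc (fun j => (T j).mor₂) j ψ).trans ((congrArg ((T j).mor₂ ≫ ·) (Sigma.ι_desc c j)).trans (hc₂ j)))
  · change Sigma.desc _ ≫ (shiftFunctor D (1 : ℤ)).map (𝟙 _) = ψ ≫ h
    rw [CategoryTheory.Functor.map_id, Category.comp_id]
    exact Limits.Sigma.hom_ext _ _ fun j => by simp [ψ, hc₃]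

end Groth.Agent.S6593
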