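import Groth.Statements.S6594
-- import your own Groth.Agent.* helpers here

set_option autoImplicit false
universe v u
open CategoryTheory CategoryTheory.Limits
open CohDer

namespace Groth.Agent.S6594

open CategoryTheory.Pretriangulated in
theorem exists_split_of_mono {D : Type u} [Category.{v} D] [Preadditive D] [HasZeroObject D] [HasShift D ℤ]
    [∀ n : ℤ, (shiftFunctor D n).Additive] [Pretriangulated D] {A B : D} (m : A ⟶ B) [Mono m] :
    ∃ (Z : D) (e : B ≅ A ⊞ Z), m ≫ e.hom = biprod.inl := by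
  obtain ⟨Z, g, h, hT⟩ := distinguished_cocone_triangle m
  obtain ⟨e, he, -⟩ := exists_iso_binaryBiproduct_of_distTriang _ hT
    (Triangle.mor₃_eq_zero_of_mono₁ _ hT (inferInstanceAs (Mono m)))
  exact ⟨Z, e, he⟩

open CategoryTheory.Pretriangulated in
/-- (1) ⇔ (3): let D be a pretriangulated category and f : X ⟶ Y a morphism. Then f has a kernel if and
only if f is isomorphic to a composite K ⊞ Z → Z → Z ⊞ Q of a projection and a coprojection for some
objects K, Z, Q. -/
theorem result {D : Type u} [Category.{v} D] [Preadditive D] [HasZeroObject D] [HasShift D ℤ]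
    [∀ n : ℤ, (shiftFunctor D n).Additive] [Pretriangulated D]
    {X Y : D} (f : X ⟶ Y) :
    HasKernel f ↔ ∃ (K Z Q : D) (e₁ : X ≅ K ⊞ Z) (e₂ : Y ≅ Z ⊞ Q),
      f = e₁.hom ≫ biprod.snd ≫ biprod.inl ≫ e₂.inv := by
  constructor
  · intro hk
    obtain ⟨Z, e₁, he₁⟩ := exists_split_of_mono (kernel.ι f)
    let h : Z ⟶ Y := biprod.inr ≫ e₁.inv ≫ f
    have hinl : biprod.inl ≫ e₁.inv = kernel.ι f := by
      rw [← he₁, Category.assoc, Iso.hom_inv_id, Category.comp_id]
    have hf : e₁.hom ≫ biprod.snd ≫ h = f := by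
      rw [← Iso.eq_inv_comp]
      apply biprod.hom_ext'
      · rw [biprod.inl_snd_assoc, zero_comp, ← Category.assoc, hinl, kernel.condition]
      · rw [biprod.inr_snd_assoc]
    have : Mono h := Preadditive.mono_of_cancel_zero _ fun {W} a ha => by
      have ha' : (a ≫ biprod.inr ≫ e₁.inv) ≫ f = 0 := by simpa [h] using ha
      have h2 := kernel.lift_ι f _ ha'
      rw [← hinl] at h2
      have h3 := congrArg (fun z => z ≫ e₁.hom ≫ biprod.snd) h2
      simpa using h3.symm
    obtain ⟨Q, e₂, he₂⟩ := exists_split_of_mono h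
    refine ⟨_, Z, Q, e₁, e₂, ?_⟩
    rw [← he₂, Category.assoc, Iso.hom_inv_id, Category.comp_id, hf]
  · rintro ⟨K, Z, Q, e₁, e₂, rfl⟩
    refine HasLimit.mk ⟨KernelFork.ofι (biprod.inl ≫ e₁.inv) (by simp),
      KernelFork.IsLimit.ofι' _ _ fun {W} a ha => ⟨a ≫ e₁.hom ≫ biprod.fst, ?_⟩⟩
    have ha' : a ≫ e₁.hom ≫ biprod.snd = 0 := by
      have h2 := congrArg (fun z => z ≫ e₂.hom ≫ biprod.fst) ha
      simpa using h2
    rw [← cancel_mono e₁.hom]
    apply biprod.hom_ext
    · simp
    · simpa using ha'.symm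

end Groth.Agent.S6594
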