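import Groth.Statements.S6598
import Groth.Agent.CohDerCyl.Split

set_option autoImplicit false
universe v u
open CategoryTheory CategoryTheory.Limits
open CohDer

namespace Groth.Agent.S6598

/-- Let α : K ⟶ L be a morphism of cochain complexes over an additive category. There is a factorization
K ⟶ L' ⟶ L of α such that (1) K ⟶ L' is a termwise split injection (in each degree isomorphic to the
inclusion of a direct summand) and (2) L' ⟶ L admits a section s : L ⟶ L' (s followed by L' ⟶ L is
the identity) such that L' ⟶ L followed by s is homotopic to the identity of L'. Moreover if K and L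
are both bounded below, resp. both bounded above, then L' may be chosen bounded below, resp. bounded
above. -/
theorem result {V : Type u} [Category.{v} V] [Preadditive V] [HasBinaryBiproducts V] [HasZeroObject V]
    (K L : CochainComplex V ℤ) (α : K ⟶ L) :
    ∃ (L' : CochainComplex V ℤ) (α' : K ⟶ L') (π : L' ⟶ L) (s : L ⟶ L'),
      α' ≫ π = α ∧ s ≫ π = 𝟙 L ∧ Nonempty (Homotopy (π ≫ s) (𝟙 L')) ∧
      (∀ n : ℤ, ∃ (C : V) (e : L'.X n ≅ K.X n ⊞ C), α'.f n ≫ e.hom = biprod.inl) ∧
      (∀ a : ℤ, K.IsStrictlyGE a → L.IsStrictlyGE a → ∃ a' : ℤ, L'.IsStrictlyGE a') ∧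
      (∀ a : ℤ, K.IsStrictlyLE a → L.IsStrictlyLE a → ∃ a' : ℤ, L'.IsStrictlyLE a') := by
  exact Groth.CohDerCyl.exists_split_injective K L α

end Groth.Agent.S6598
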