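import Groth.Statements.S6600
import Groth.Agent.DerivedCoh.TriBasic

set_option autoImplicit false
universe v u
open CategoryTheory CategoryTheory.Limits
open CohDer

namespace Groth.Agent.S6600

open CategoryTheory.Limits CategoryTheory.Pretriangulated ZeroObject

open CategoryTheory.Pretriangulated in
/-- Let D be a triangulated category, A ⊂ D a full subcategory invariant under all shifts, and X → Y → Z
→ X⟦1⟧ a distinguished triangle. Then Z lies in the right orthogonal A^⊥ if and only if Hom(A, X) →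
Hom(A, Y) is bijective for every object A of A. -/
theorem result {D : Type u} [Category.{v} D] [Preadditive D] [HasZeroObject D] [HasShift D ℤ]
    [∀ n : ℤ, (shiftFunctor D n).Additive] [Pretriangulated D] [IsTriangulated D]
    (P : ObjectProperty D) [P.IsStableUnderShift ℤ] (T : Triangle D) (hT : T ∈ distinguishedTriangles) :
    P.rightOrthogonal T.obj₃ ↔ ∀ A : D, P A → Function.Bijective (fun u : A ⟶ T.obj₁ => u ≫ T.mor₁) := by
  constructor
  · intro h A hA
    refine ⟨fun u₁ u₂ hu => ?_, fun v => ?_⟩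
    · have h0 : (u₁ - u₂) ≫ T.mor₁ = 0 := by simpa [sub_eq_zero] using hu
      obtain ⟨w, hw⟩ := Groth.DerivedCoh.coyoneda_exact₁' T hT (u₁ - u₂) h0
      exact sub_eq_zero.1 (hw.trans ((congrArg (· ≫ _) ((P.rightOrthogonal.le_shift (-1 : ℤ) _ h) w hA)).trans zero_comp))
    · obtain ⟨u, hu⟩ := Triangle.coyoneda_exact₂ T hT v (h (v ≫ T.mor₂) hA)
      exact ⟨u, hu.symm⟩
  · intro h A w hA
    obtain ⟨k, hk⟩ := (Groth.DerivedCoh.shiftTranspose' (1 : ℤ) A T.obj₁).surjective (w ≫ T.mor₃)
    have h1 : k ≫ T.mor₁ = 0 := by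
      apply (Groth.DerivedCoh.shiftTranspose' (1 : ℤ) A T.obj₂).injective
      rw [Groth.DerivedCoh.shiftTranspose'_comp, hk, Category.assoc, comp_distTriang_mor_zero₃₁ T hT,
        comp_zero, Groth.DerivedCoh.shiftTranspose'_zero]
    obtain rfl : k = 0 := (h _ (P.le_shift (-1 : ℤ) _ hA)).1 (h1.trans zero_comp.symm)
    rw [Groth.DerivedCoh.shiftTranspose'_zero] at hk
    obtain ⟨u, rfl⟩ := Triangle.coyoneda_exact₃ T hT w hk.symm
    obtain ⟨v, rfl⟩ := (h A hA).2 u
    simp [comp_distTriang_mor_zero₁₂ T hT]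

end Groth.Agent.S6600
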