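import Groth.Statements.S6601
import Groth.Agent.DerivedCoh.TriBasic

set_option autoImplicit false
universe v u
open CategoryTheory CategoryTheory.Limits
open CohDer

namespace Groth.Agent.S6601

open CategoryTheory.Limits CategoryTheory.Pretriangulated ZeroObject

open CategoryTheory.Pretriangulated in
/-- Let D be a triangulated category, B ⊂ D a full subcategory invariant under all shifts, and X → Y → Z
→ X⟦1⟧ a distinguished triangle. Then X lies in the left orthogonal ^⊥B if and only if Hom(Z, B) →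
Hom(Y, B) is bijective for every object B of B. -/
theorem result {D : Type u} [Category.{v} D] [Preadditive D] [HasZeroObject D] [HasShift D ℤ]
    [∀ n : ℤ, (shiftFunctor D n).Additive] [Pretriangulated D] [IsTriangulated D]
    (P : ObjectProperty D) [P.IsStableUnderShift ℤ] (T : Triangle D) (hT : T ∈ distinguishedTriangles) :
    P.leftOrthogonal T.obj₁ ↔ ∀ B : D, P B → Function.Bijective (fun u : T.obj₃ ⟶ B => T.mor₂ ≫ u) := by
  constructor
  · intro h B hB
    refine ⟨fun u₁ u₂ hu => ?_, fun v => ?_⟩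
    · have h0 : T.mor₂ ≫ (u₁ - u₂) = 0 := by simpa [sub_eq_zero] using hu
      obtain ⟨w, hw⟩ := Triangle.yoneda_exact₃ T hT (u₁ - u₂) h0
      rw [Groth.DerivedCoh.shift_hom_eq_zero (fun u => h u (P.le_shift (-1 : ℤ) _ hB)) w, comp_zero] at hw
      exact sub_eq_zero.1 hw
    · obtain ⟨u, hu⟩ := Triangle.yoneda_exact₂ T hT v (h (T.mor₁ ≫ v) hB)
      exact ⟨u, hu.symm⟩
  · intro h B w hB
    have h1 : T.mor₃ ≫ w⟦(1 : ℤ)⟧' = 0 := (h _ (P.le_shift (1 : ℤ) _ hB)).1
      (show T.mor₂ ≫ (T.mor₃ ≫ w⟦(1 : ℤ)⟧') = T.mor₂ ≫ 0 by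
        rw [← Category.assoc, comp_distTriang_mor_zero₂₃ T hT, zero_comp, comp_zero])
    obtain ⟨z, hz⟩ : ∃ z : T.obj₂⟦(1 : ℤ)⟧ ⟶ B⟦(1 : ℤ)⟧, w⟦(1 : ℤ)⟧' = (-T.mor₁⟦(1 : ℤ)⟧') ≫ z :=
      Triangle.yoneda_exact₃ T.rotate (rot_of_distTriang _ hT) (w⟦(1 : ℤ)⟧') h1
    obtain ⟨z', rfl⟩ := (shiftFunctor D (1 : ℤ)).map_surjective z
    obtain ⟨v, rfl⟩ := (h B hB).2 z'
    apply (shiftFunctor D (1 : ℤ)).map_injective
    rw [hz, Preadditive.neg_comp, ← Functor.map_comp, ← Category.assoc, comp_distTriang_mor_zero₁₂ T hT,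
      zero_comp, Functor.map_zero, neg_zero]

end Groth.Agent.S6601
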