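import Groth.Statements.S6606
import Groth.Agent.KTheory.ProjHom

set_option autoImplicit false
universe v u
open CategoryTheory CategoryTheory.Limits
open CohDer

namespace Groth.Agent.S6606

/-- Let A be an abelian category, β : P ⟶ L and α : E ⟶ L morphisms of cochain complexes and n an
integer. Assume P is a bounded complex of projective objects with Pⁱ = 0 for i < n, and that Hⁱ(α)
is an isomorphism for i > n and an epimorphism for i = n. Then there is γ : P ⟶ E such that γ ≫ α is
homotopic to β. -/
theorem result {A : Type u} [Category.{v} A] [Abelian A]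
    (P E L : CochainComplex A ℤ) (β : P ⟶ L) (α : E ⟶ L) (n b : ℤ) [P.IsStrictlyGE n] [P.IsStrictlyLE b]
    (hP : ∀ i : ℤ, Projective (P.X i))
    (hiso : ∀ i : ℤ, n < i → IsIso (HomologicalComplex.homologyMap α i)) (hepi : Epi (HomologicalComplex.homologyMap α n)) :
    ∃ γ : P ⟶ E, Nonempty (Homotopy (γ ≫ α) β) := by
  open Groth.Agent.ProjHom CategoryTheory.Pretriangulated in
  let _ := HasDerivedCategory.standard A
  have := CochainComplex.isKProjective_of_projective P b
  obtain ⟨Z, g, h, hT⟩ := distinguished_cocone_triangle (DerivedCategory.Q.map α)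
  have e : ∀ i, Arrow.mk ((DerivedCategory.homologyFunctor A i).map (DerivedCategory.Q.map α)) ≅
      Arrow.mk (HomologicalComplex.homologyMap α i) := fun i =>
    Arrow.isoMk ((DerivedCategory.homologyFunctorFactors A i).app E) ((DerivedCategory.homologyFunctorFactors A i).app L)
      ((DerivedCategory.homologyFunctorFactors A i).hom.naturality α).symm
  have hepi' : ∀ i, n ≤ i → Epi ((DerivedCategory.homologyFunctor A i).map (DerivedCategory.Q.map α)) := fun i hi => by
    refine ((MorphismProperty.epimorphisms A).arrow_mk_iso_iff (e i)).2 ?_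
    rcases eq_or_lt_of_le hi with rfl | hlt
    · exact hepi
    · have := hiso i hlt
      exact inferInstanceAs (Epi (HomologicalComplex.homologyMap α i))
  have hmono' : ∀ i, n < i → Mono ((DerivedCategory.homologyFunctor A i).map (DerivedCategory.Q.map α)) := fun i hi => by
    refine ((MorphismProperty.monomorphisms A).arrow_mk_iso_iff (e i)).2 ?_
    have := hiso i hi
    exact inferInstanceAs (Mono (HomologicalComplex.homologyMap α i))
  have hZ : ∀ i, n ≤ i → IsZero ((DerivedCategory.homologyFunctor A i).obj Z) := fun i hi =>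
    isZero_homology_obj₃ hT i (hepi' i hi) (hmono' (i + 1) (by omega))
  obtain ⟨ψ, hψ⟩ := Triangle.coyoneda_exact₂ _ hT (DerivedCategory.Q.map β)
    (hom_eq_zero P (DerivedCategory.Q.objPreimage Z) n b hP (DerivedCategory.Q.objObjPreimageIso Z) hZ _)
  obtain ⟨γ, hγ⟩ := Q_map_surjective P E ψ
  refine ⟨γ, ⟨HomotopyCategory.homotopyOfEq _ _ (quotient_map_eq _ _ ?_)⟩⟩
  rw [Functor.map_comp, hγ]
  exact hψ.symm

end Groth.Agent.S6606
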