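import Groth.Statements.S6610
import Groth.Agent.KTheory.ProjResSES

set_option autoImplicit false
universe v u
open CategoryTheory CategoryTheory.Limits
open CohDer

namespace Groth.Agent.S6610

/-- Let A be an abelian category with enough projectives and S : 0 → A• → B• → C• → 0 a short exact
sequence of cochain complexes all vanishing above degree n. Then there are a short exact sequence T
: 0 → P₁ → P₂ → P₃ → 0 of complexes of projective objects vanishing above degree n and a morphism of
short exact sequences T ⟶ S whose three components are quasi-isomorphisms (projective resolutions).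
(The published statement is phrased for bounded below complexes; projective resolutions are bounded
above by definition and exist only for complexes with cohomology bounded above, so the statement is
given here for bounded above complexes, the case dual to the injective one.) -/
theorem result {A : Type u} [Category.{v} A] [Abelian A] [EnoughProjectives A]
    (S : ShortComplex (CochainComplex A ℤ)) (hS : S.ShortExact) (n : ℤ)
    [S.X₁.IsStrictlyLE n] [S.X₂.IsStrictlyLE n] [S.X₃.IsStrictlyLE n] :
    ∃ (T : ShortComplex (CochainComplex A ℤ)) (φ : T ⟶ S), T.ShortExact ∧
      T.X₁.IsStrictlyLE n ∧ T.X₂.IsStrictlyLE n ∧ T.X₃.IsStrictlyLE n ∧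
      (∀ k : ℤ, Projective (T.X₁.X k) ∧ Projective (T.X₂.X k) ∧ Projective (T.X₃.X k)) ∧
      QuasiIso φ.τ₁ ∧ QuasiIso φ.τ₂ ∧ QuasiIso φ.τ₃ :=
  Groth.Agent.InjResSES.exists_proj_resolution S hS n

end Groth.Agent.S6610
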