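import Groth.Statements.S6611
import Mathlib

set_option autoImplicit false
universe v u
open CategoryTheory CategoryTheory.Limits
open CohDer

namespace Groth.Agent.S6611

/-- Let A be an abelian category, α : K ⟶ L a quasi-isomorphism of cochain complexes which is injective
in every degree, I a bounded below complex of injective objects and γ : K ⟶ I a morphism. Then there
is a morphism β : L ⟶ I with α ≫ β = γ. -/
theorem result {A : Type u} [Category.{v} A] [Abelian A]
    (K L I : CochainComplex A ℤ) (α : K ⟶ L) [QuasiIso α] (hα : ∀ n : ℤ, Mono (α.f n))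
    (a : ℤ) [I.IsStrictlyGE a] (hI : ∀ n : ℤ, Injective (I.X n)) (γ : K ⟶ I) :
    ∃ β : L ⟶ I, α ≫ β = γ := by
  have hmono : Mono α := HomologicalComplex.mono_of_mono_f α hα
  let S := ShortComplex.mk α (cokernel.π α) (cokernel.condition α)
  have hS : S.ShortExact := ⟨S.exact_of_g_is_cokernel (cokernelIsCokernel α)⟩
  have hSd : ∀ n, (S.map (HomologicalComplex.eval A (ComplexShape.up ℤ) n)).ShortExact :=
    (HomologicalComplex.shortExact_iff_degreewise_shortExact S).1 hS
  let Q := cokernel α
  let p : L ⟶ Q := cokernel.π α
  have hpepi : ∀ n, Epi (p.f n) := fun n => (hSd n).epi_g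
  have hQ : Q.Acyclic := fun n => by
    rw [HomologicalComplex.exactAt_iff_isZero_homology]
    have h1 : hS.δ n (n + 1) (by simp) = 0 := by
      have := hS.δ_comp n (n + 1) (by simp)
      exact (cancel_mono (HomologicalComplex.homologyMap α (n + 1))).1 (this.trans zero_comp.symm)
    have h2 : HomologicalComplex.homologyMap p n = 0 := by
      have h := (HomologicalComplex.homologyMap_comp α p n).symm.trans
        ((congrArg (fun φ => HomologicalComplex.homologyMap φ n) (cokernel.condition α)).trans (HomologicalComplex.homologyMap_zero K Q n))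
      exact (cancel_epi (HomologicalComplex.homologyMap α n)).1 (h.trans comp_zero.symm)
    exact (hS.homology_exact₃ n (n + 1) (by simp)).isZero_of_both_zeros h2 h1
  have hKI : I.IsKInjective := CochainComplex.isKInjective_of_injective I a
  let β₀ : CochainComplex.HomComplex.Cochain L I 0 := CochainComplex.HomComplex.Cochain.ofHoms
    fun n => have := hα n; Injective.factorThru (γ.f n) (α.f n)
  have hβ₀ : (CochainComplex.HomComplex.Cochain.ofHom α).comp β₀ (zero_add 0) = CochainComplex.HomComplex.Cochain.ofHom γ := by
    refine CochainComplex.HomComplex.Cochain.ext₀ _ _ fun n => ?_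
    have := hα n
    simp [β₀, Injective.comp_factorThru]
  let z := CochainComplex.HomComplex.δ 0 1 β₀
  have hαz : (CochainComplex.HomComplex.Cochain.ofHom α).comp z (zero_add 1) = 0 := by
    rw [← CochainComplex.HomComplex.δ_ofHom_comp, hβ₀, CochainComplex.HomComplex.δ_ofHom]
  have hz : ∀ i j hij, α.f i ≫ z.v i j hij = 0 := fun i j hij => by
    have := congrArg (fun w => CochainComplex.HomComplex.Cochain.v w i j hij) hαz
    simpa using this
  let c₀ : CochainComplex.HomComplex.Cochain Q I 1 := CochainComplex.HomComplex.Cochain.mk fun i j hij =>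
    have := (hSd i).epi_g
    (hSd i).exact.desc (z.v i j hij) (hz i j hij)
  have hc₀ : (CochainComplex.HomComplex.Cochain.ofHom p).comp c₀ (zero_add 1) = z := by
    refine CochainComplex.HomComplex.Cochain.ext _ _ fun i j hij => ?_
    rw [CochainComplex.HomComplex.Cochain.zero_cochain_comp_v, CochainComplex.HomComplex.Cochain.ofHom_v]
    have := (hSd i).epi_g
    exact (hSd i).exact.g_desc _ _
  have hcanc : ∀ {m : ℤ} (w : CochainComplex.HomComplex.Cochain Q I m),
      (CochainComplex.HomComplex.Cochain.ofHom p).comp w (zero_add m) = 0 → w = 0 := fun {m} w hw =>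
    CochainComplex.HomComplex.Cochain.ext _ _ fun i j hij => by
      have h := congrArg (fun w => CochainComplex.HomComplex.Cochain.v w i j hij) hw
      simp only [CochainComplex.HomComplex.Cochain.zero_cochain_comp_v, CochainComplex.HomComplex.Cochain.ofHom_v,
        CochainComplex.HomComplex.Cochain.zero_v] at h
      have := hpepi i
      exact (cancel_epi (p.f i)).1 (h.trans comp_zero.symm)
  have hδc₀ : CochainComplex.HomComplex.δ 1 2 c₀ = 0 := hcanc _ (by
    rw [← CochainComplex.HomComplex.δ_ofHom_comp, hc₀, CochainComplex.HomComplex.δ_δ])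
  obtain ⟨c, hc⟩ := CochainComplex.IsKInjective.eq_δ_of_cocycle
    (CochainComplex.HomComplex.Cocycle.mk c₀ 2 rfl hδc₀) hQ 0 (zero_add 1)
  let b := β₀ - (CochainComplex.HomComplex.Cochain.ofHom p).comp c (zero_add 0)
  have hb : CochainComplex.HomComplex.δ 0 1 b = 0 := by
    show CochainComplex.HomComplex.δ 0 1 (_ - _) = 0
    rw [CochainComplex.HomComplex.δ_sub, CochainComplex.HomComplex.δ_ofHom_comp, hc]
    exact sub_eq_zero.2 hc₀.symm
  refine ⟨(CochainComplex.HomComplex.Cocycle.mk b 1 rfl hb).homOf, HomologicalComplex.hom_ext _ _ fun n => ?_⟩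
  have h0 : α.f n ≫ p.f n = 0 := by
    rw [← HomologicalComplex.comp_f, cokernel.condition α, HomologicalComplex.zero_f]
  have := hα n
  simp [b, β₀, CochainComplex.HomComplex.Cocycle.homOf_f, reassoc_of% h0, Injective.comp_factorThru]

end Groth.Agent.S6611
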