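import Groth.Statements.S6612


set_option autoImplicit false
universe v u
open CategoryTheory CategoryTheory.Limits
open CohDer

namespace Groth.Agent.S6612

/-- Let A be an additive category and 0 → A₂ → B₂ → C₂ → 0 a termwise split exact sequence of complexes.
Given a chain map b from a complex B₁ into B₂ and a chain map b' from B₂ into a complex B₃, suppose
that both composites b ≫ (B₂ → C₂) and (A₂ → B₂) ≫ b' are null-homotopic. Then b ≫ b' is homotopic
to zero. (The published statement has three termwise split sequences Aᵢ → Bᵢ → Cᵢ and asks both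
squares of each diagram to commute up to homotopy; this row keeps only the middle sequence and the
two conditions at B₂ that the argument uses, so it is more general.) -/
theorem result {V : Type u} [Category.{v} V] [Preadditive V] [HasBinaryBiproducts V]
    (S : ShortComplex (CochainComplex V ℤ))
    (σ : ∀ n : ℤ, (S.map (HomologicalComplex.eval V (ComplexShape.up ℤ) n)).Splitting)
    {B₁ B₃ : CochainComplex V ℤ} (b : B₁ ⟶ S.X₂) (b' : S.X₂ ⟶ B₃)
    (hb : Nonempty (Homotopy (b ≫ S.g) 0)) (hb' : Nonempty (Homotopy (S.f ≫ b') 0)) :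
    Nonempty (Homotopy (b ≫ b') 0) := by
  obtain ⟨h⟩ := hb
  obtain ⟨h'⟩ := hb'
  let r := fun n : ℤ => show S.X₂.X n ⟶ S.X₁.X n from (σ n).r
  let s := fun n : ℤ => show S.X₃.X n ⟶ S.X₂.X n from (σ n).s
  have hsg : ∀ n, s n ≫ S.g.f n = 𝟙 _ := fun n => (σ n).s_g
  have hfr : ∀ n, S.f.f n ≫ r n = 𝟙 _ := fun n => (σ n).f_r
  have hid : ∀ n, r n ≫ S.f.f n + S.g.f n ≫ s n = 𝟙 _ := fun n => (σ n).id
  let H : ∀ i j, B₁.X i ⟶ S.X₂.X j := fun i j => h.hom i j ≫ s j
  have hH : ∀ i j, ¬ (ComplexShape.up ℤ).Rel j i → H i j = 0 := fun i j hij => by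
    simp [H, h.zero i j hij]
  let N := Homotopy.nullHomotopicMap H
  have hN : N ≫ S.g = b ≫ S.g := by
    have : (fun i j => H i j ≫ S.g.f j) = h.hom := by
      funext i j
      simp [H, hsg]
    rw [Homotopy.nullHomotopicMap_comp, this]
    ext i
    rw [h.comm i]
    simp [Homotopy.nullHomotopicMap]
  let c := b - N
  have hc : ∀ n, c.f n ≫ S.g.f n = 0 := fun n => by
    have : c ≫ S.g = 0 := by rw [Preadditive.sub_comp, hN, sub_self]
    rw [← HomologicalComplex.comp_f, this, HomologicalComplex.zero_f]
  have hcr : ∀ n, (c.f n ≫ r n) ≫ S.f.f n = c.f n := fun n => by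
    have := congrArg (c.f n ≫ ·) (hid n)
    rwa [Preadditive.comp_add, reassoc_of% (hc n), zero_comp, add_zero, Category.comp_id,
      ← Category.assoc] at this
  have hmono : ∀ n, Mono (S.f.f n) := fun n =>
    ⟨fun u v huv => by simpa [hfr] using congrArg (· ≫ r n) huv⟩
  let a : B₁ ⟶ S.X₁ :=
    { f := fun n => c.f n ≫ r n
      comm' := fun i j _ => by
        have := hmono j
        rw [← cancel_mono (S.f.f j), Category.assoc (B₁.d i j), hcr, Category.assoc, ← S.f.comm i j,
          ← Category.assoc, hcr, c.comm] }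
  have ha : a ≫ S.f = c := by ext n; exact hcr n
  have e : Homotopy b c := (Homotopy.equivSubZero.symm
    ((Homotopy.ofEq (show b - c = N by simp [c])).trans (Homotopy.nullHomotopy H hH)))
  exact ⟨(e.compRight b').trans ((Homotopy.ofEq (by rw [← ha, Category.assoc])).trans
    ((h'.compLeft a).trans (Homotopy.ofEq (comp_zero))))⟩

end Groth.Agent.S6612
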