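import Groth.Statements.S6613
import Mathlib.CategoryTheory.Localization.CalculusOfFractions
import Mathlib.CategoryTheory.ObjectProperty.FullSubcategory
-- import your own Groth.Agent.* helpers here

set_option autoImplicit false
universe v u v' u'
open CategoryTheory CategoryTheory.Limits
open CohDer

namespace Groth.Agent.S6613

section Helpers

variable {D : Type u} [Category.{v} D] (P : ObjectProperty D) (S : MorphismProperty D)

theorem hasRightCalculus [S.HasRightCalculusOfFractions]
    (hP : ∀ X : D, ∃ (X' : D) (s : X' ⟶ X), P X' ∧ S s) :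
    (S.inverseImage P.ι).HasRightCalculusOfFractions where
  id_mem X := S.id_mem X.1
  comp_mem f g hf hg := S.comp_mem f.hom g.hom hf hg
  exists_rightFraction {X Y} φ := by
    obtain ⟨ψ, hψ⟩ := (MorphismProperty.LeftFraction.mk φ.f.hom φ.s.hom φ.hs :
      S.LeftFraction X.1 Y.1).exists_rightFraction
    obtain ⟨W, t, hW, ht⟩ := hP ψ.X'
    let s₁ : (⟨W, hW⟩ : P.FullSubcategory) ⟶ X := ObjectProperty.homMk (t ≫ ψ.s)
    refine ⟨.mk s₁ (S.comp_mem t ψ.s ht ψ.hs) (ObjectProperty.homMk (t ≫ ψ.f)),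
      ObjectProperty.hom_ext _ ?_⟩
    change (t ≫ ψ.s) ≫ φ.f.hom = (t ≫ ψ.f) ≫ φ.s.hom
    simp only [Category.assoc]
    rw [hψ]
  ext {X Y Y'} f₁ f₂ s hs h := by
    obtain ⟨Z, t, ht, h'⟩ := MorphismProperty.HasRightCalculusOfFractions.ext f₁.hom f₂.hom s.hom hs
      (congrArg InducedCategory.Hom.hom h)
    obtain ⟨W, t', hW, ht'⟩ := hP Z
    refine ⟨⟨W, hW⟩, ObjectProperty.homMk (t' ≫ t), S.comp_mem t' t ht' ht,
      ObjectProperty.hom_ext _ ?_⟩
    change (t' ≫ t) ≫ f₁.hom = (t' ≫ t) ≫ f₂.hom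
    simp only [Category.assoc, h']

theorem inverts {E : Type u'} [Category.{v'} E] (Q : D ⥤ E) [Q.IsLocalization S] :
    (S.inverseImage P.ι).IsInvertedBy (P.ι ⋙ Q) :=
  fun _ _ f hf => Localization.inverts Q S f.hom hf

theorem isLocalization {E : Type u'} [Category.{v'} E] (Q : D ⥤ E) [Q.IsLocalization S]
    [S.HasRightCalculusOfFractions]
    (hP : ∀ X : D, ∃ (X' : D) (s : X' ⟶ X), P X' ∧ S s) :
    (P.ι ⋙ Q).IsLocalization (S.inverseImage P.ι) := by
  have := hasRightCalculus P S hP
  set W := S.inverseImage P.ι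
  let L := W.Q
  let Φ := Localization.lift (P.ι ⋙ Q) (inverts P S Q) L
  let e : L ⋙ Φ ≅ P.ι ⋙ Q := Localization.fac _ _ _
  have hess : ∀ Z : E, ∃ X : P.FullSubcategory, Nonempty ((P.ι ⋙ Q).obj X ≅ Z) := fun Z => by
    have := Localization.essSurj Q S
    obtain ⟨X', s, hX', hs⟩ := hP (Q.objPreimage Z)
    have := Localization.inverts Q S s hs
    exact ⟨⟨X', hX'⟩, ⟨asIso (Q.map s) ≪≫ Q.objObjPreimageIso Z⟩⟩
  have hessL := Localization.essSurj L W
  have : Φ.Faithful := by
    have hkey : ∀ {X Y : P.FullSubcategory} (a b : L.obj X ⟶ L.obj Y), Φ.map a = Φ.map b → a = b := by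
      intro X Y a b hab
      obtain ⟨φ, rfl⟩ := Localization.exists_rightFraction L W a
      have := Localization.inverts L W φ.s φ.hs
      obtain ⟨ψ, hψ⟩ := Localization.exists_rightFraction L W (L.map φ.s ≫ b)
      have := Localization.inverts L W ψ.s ψ.hs
      have h1 : Φ.map (L.map (ψ.s ≫ φ.f)) = Φ.map (L.map ψ.f) := by
        have ha : L.map (ψ.s ≫ φ.f) = L.map ψ.s ≫ L.map φ.s ≫
            φ.map L (Localization.inverts L W) := by
          rw [MorphismProperty.RightFraction.map_s_comp_map, Functor.map_comp]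
        have hb : L.map ψ.f = L.map ψ.s ≫ L.map φ.s ≫ b := by
          rw [hψ, MorphismProperty.RightFraction.map_s_comp_map]
        rw [ha, hb, Functor.map_comp, Functor.map_comp, hab, ← Functor.map_comp, ← Functor.map_comp]
      have h2 : Q.map (ψ.s ≫ φ.f).hom = Q.map ψ.f.hom := by
        have e1 := e.hom.naturality (ψ.s ≫ φ.f)
        have e2 := e.hom.naturality ψ.f
        simp only [Functor.comp_map] at e1 e2
        rw [h1, e2] at e1
        exact ((cancel_epi (e.hom.app _)).mp e1).symm
      obtain ⟨Z, t, ht, h3⟩ := (MorphismProperty.map_eq_iff_precomp Q S _ _).mp h2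
      obtain ⟨V, t', hV, ht'⟩ := hP Z
      let r : (⟨V, hV⟩ : P.FullSubcategory) ⟶ ψ.X' := ObjectProperty.homMk (t' ≫ t)
      have := Localization.inverts L W r (S.comp_mem t' t ht' ht)
      have h4 : L.map (ψ.s ≫ φ.f) = L.map ψ.f := by
        rw [← cancel_epi (L.map r), ← Functor.map_comp, ← Functor.map_comp]
        congr 1
        apply ObjectProperty.hom_ext
        change (t' ≫ t) ≫ (ψ.s ≫ φ.f).hom = (t' ≫ t) ≫ ψ.f.hom
        simp only [Category.assoc, h3]
      rw [← cancel_epi (L.map φ.s), ← cancel_epi (L.map ψ.s),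
        MorphismProperty.RightFraction.map_s_comp_map, ← Functor.map_comp, h4, hψ,
        MorphismProperty.RightFraction.map_s_comp_map]
    refine ⟨fun {A B} a b hab => ?_⟩
    have := hkey ((L.objObjPreimageIso A).hom ≫ a ≫ (L.objObjPreimageIso B).inv)
      ((L.objObjPreimageIso A).hom ≫ b ≫ (L.objObjPreimageIso B).inv) (by simp [hab])
    simpa using this
  have : Φ.Full := by
    have hkey : ∀ {X Y : P.FullSubcategory} (g : Φ.obj (L.obj X) ⟶ Φ.obj (L.obj Y)),
        ∃ a, Φ.map a = g := by
      intro X Y g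
      obtain ⟨φ, hφ⟩ := Localization.exists_rightFraction Q S (e.inv.app X ≫ g ≫ e.hom.app Y)
      obtain ⟨V, t, hV, ht⟩ := hP φ.X'
      let s' : (⟨V, hV⟩ : P.FullSubcategory) ⟶ X := ObjectProperty.homMk (t ≫ φ.s)
      let f' : (⟨V, hV⟩ : P.FullSubcategory) ⟶ Y := ObjectProperty.homMk (t ≫ φ.f)
      have := Localization.inverts L W s' (S.comp_mem t φ.s ht φ.hs)
      refine ⟨inv (L.map s') ≫ L.map f', ?_⟩
      have key : Q.map (t ≫ φ.s) ≫ (e.inv.app X ≫ g ≫ e.hom.app Y) = Q.map (t ≫ φ.f) := by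
        rw [hφ, Functor.map_comp, Category.assoc, MorphismProperty.RightFraction.map_s_comp_map,
          ← Functor.map_comp]
      have e1 : Φ.map (L.map s') ≫ e.hom.app X = e.hom.app _ ≫ Q.map (t ≫ φ.s) :=
        e.hom.naturality s'
      have e2 : Φ.map (L.map f') ≫ e.hom.app Y = e.hom.app _ ≫ Q.map (t ≫ φ.f) :=
        e.hom.naturality f'
      rw [Functor.map_comp, Functor.map_inv, IsIso.inv_comp_eq, ← cancel_mono (e.hom.app Y), e2, ← key,
        ← Category.assoc, ← e1]
      simp
    refine ⟨fun {A B} g => ?_⟩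
    obtain ⟨a, ha⟩ := hkey (Φ.map (L.objObjPreimageIso A).hom ≫ g ≫ Φ.map (L.objObjPreimageIso B).inv)
    refine ⟨(L.objObjPreimageIso A).inv ≫ a ≫ (L.objObjPreimageIso B).hom, ?_⟩
    simp [ha]
  have : Φ.EssSurj := ⟨fun Z => by
    obtain ⟨X, ⟨i⟩⟩ := hess Z
    exact ⟨L.obj X, ⟨e.app X ≪≫ i⟩⟩⟩
  have : Φ.IsEquivalence := {}
  exact Functor.IsLocalization.of_equivalence_target L W _ Φ.asEquivalence e

end Helpers

/-- Let D be a pretriangulated category, D' ⊂ D a full pretriangulated subcategory, S a saturated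
multiplicative system of D compatible with the triangulated structure and Q : D → S⁻¹D the
localization. Assume every X in D admits some s : X' ⟶ X in S with X' in D'. Then, with S' = S ∩
Arrows(D'), the functor (S')⁻¹D' → S⁻¹D is an equivalence; equivalently the composite D' → D → S⁻¹D
is a localization of D' at S'. (The published result additionally claims that the intersection S' =
S ∩ Arrows(D') forms a multiplicative system on D' which is saturated and respects the triangulated
structure of D'; this row asserts only the localization property.) -/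
theorem result {D : Type u} [Category.{v} D] [Preadditive D] [HasZeroObject D] [HasShift D ℤ]
    [∀ n : ℤ, (shiftFunctor D n).Additive] [Pretriangulated D]
    (P : ObjectProperty D) [P.IsTriangulated]
    (S : MorphismProperty D) [S.HasLeftCalculusOfFractions] [S.HasRightCalculusOfFractions] [S.IsCompatibleWithTriangulation]
    {E : Type u'} [Category.{v'} E] (Q : D ⥤ E) [Q.IsLocalization S]
    (hsat : ∀ {X Y : D} (f : X ⟶ Y), IsIso (Q.map f) → S f)
    (hP : ∀ X : D, ∃ (X' : D) (s : X' ⟶ X), P X' ∧ S s) :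
    (P.ι ⋙ Q).IsLocalization (S.inverseImage P.ι) := by

  exact isLocalization P S Q hP

end Groth.Agent.S6613
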