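import Groth.Statements.S6616
import Groth.Agent.Calg8.RightResolution
-- import your own Groth.Agent.* helpers here

set_option autoImplicit false
universe v u
open CategoryTheory CategoryTheory.Limits
open CohDer

namespace Groth.Agent.S6616

section Helpers

open HomologicalComplex CochainComplex

variable {A : Type u} [Category.{v} A] [Abelian A]

theorem quasiIso_pushout_inr {T L Q : CochainComplex A ℤ} (r : T ⟶ L) (h : T ⟶ Q) [Mono r]
    [QuasiIso r] : QuasiIso (pushout.inr r h) := by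
  have sq : IsPushout r h (pushout.inl r h) (pushout.inr r h) := IsPushout.of_hasPushout r h
  have h1 : (ShortComplex.mk r (cokernel.π r) (cokernel.condition r)).ShortExact :=
    { exact := ShortComplex.exact_of_g_is_cokernel _ (cokernelIsCokernel r)
      mono_f := by show Mono r; infer_instance
      epi_g := by show Epi (cokernel.π r); infer_instance }
  haveI := isIso_cokernel_map_of_isPushout sq
  have hac : (cokernel r).Acyclic := h1.acyclic_X₃ ‹QuasiIso r›
  have hac' : (cokernel (pushout.inr r h)).Acyclic := fun i => by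
    have := hac i
    rw [exactAt_iff_isZero_homology] at this ⊢
    exact this.of_iso ((HomologicalComplex.homologyFunctor A _ i).mapIso
      (asIso (cokernel.map _ _ _ _ sq.w))).symm
  haveI : Mono (pushout.inr r h) := inferInstance
  have h2 : (ShortComplex.mk (pushout.inr r h) (cokernel.π _) (cokernel.condition _)).ShortExact :=
    { exact := ShortComplex.exact_of_g_is_cokernel _ (cokernelIsCokernel _)
      mono_f := by show Mono (pushout.inr r h); infer_instance
      epi_g := by show Epi (cokernel.π (pushout.inr r h)); infer_instance }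
  refine ⟨fun i => ?_⟩
  rw [quasiIsoAt_iff_isIso_homologyMap]
  haveI : Mono (homologyMap (pushout.inr r h) i) :=
    (h2.homology_exact₁ (i - 1) i (by simp)).mono_g
      (((exactAt_iff_isZero_homology _ _).mp (hac' (i - 1))).eq_of_src _ _)
  haveI : Epi (homologyMap (pushout.inr r h) i) :=
    (h2.homology_exact₂ i).epi_f (((exactAt_iff_isZero_homology _ _).mp (hac' i)).eq_of_tgt _ _)
  exact isIso_of_mono_of_epi _

theorem isZero_pushout_X {T L Q : CochainComplex A ℤ} (r : T ⟶ L) (h : T ⟶ Q) (i : ℤ)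
    (hL : IsZero (L.X i)) (hQ : IsZero (Q.X i)) : IsZero ((pushout r h).X i) := by
  have sq := (IsPushout.of_hasPushout r h).map (HomologicalComplex.eval A (ComplexShape.up ℤ) i)
  rw [IsZero.iff_id_eq_zero]
  exact sq.hom_ext (hL.eq_of_src _ _) (hQ.eq_of_src _ _)

attribute [local instance] HasDerivedCategory.standard in
theorem quasiIso_cocone_fst {L Q W : CochainComplex A ℤ} (g : L ⟶ W) (s : Q ⟶ W) [QuasiIso s] :
    QuasiIso (mappingCocone.fst (biprod.desc g (-s)) ≫ (biprod.fst : L ⊞ Q ⟶ L)) := by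
  have hT := DerivedCategory.mappingCocone_triangle_distinguished (biprod.desc g (-s))
  have hepi : ∀ i, Epi (homologyMap (biprod.desc g (-s)) i) := fun i => by
    have e : homologyMap (biprod.inr : Q ⟶ L ⊞ Q) i ≫ homologyMap (biprod.desc g (-s)) i =
        -homologyMap s i := by
      rw [← homologyMap_comp, biprod.inr_desc, homologyMap_neg]
    haveI : Epi (-homologyMap s i) :=
      ⟨fun a b hab => by simpa [cancel_epi] using hab⟩
    exact @epi_of_epi _ _ _ _ _ (homologyMap (biprod.inr : Q ⟶ L ⊞ Q) i) _ (e ▸ ‹Epi _›)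
  refine ⟨fun i => ?_⟩
  rw [quasiIsoAt_iff_isIso_homologyMap, homologyMap_comp]
  have hz : homologyMap (mappingCocone.fst (biprod.desc g (-s))) i ≫
      homologyMap (biprod.desc g (-s)) i = 0 :=
    CochainComplex.homologyMap_comp_eq_zero_of_distTriang _ hT i
  have hd : homologyMap (biprod.fst : L ⊞ Q ⟶ L) i ≫ homologyMap (biprod.inl : L ⟶ L ⊞ Q) i +
      homologyMap (biprod.snd : L ⊞ Q ⟶ Q) i ≫ homologyMap (biprod.inr : Q ⟶ L ⊞ Q) i = 𝟙 _ := by
    rw [← homologyMap_comp, ← homologyMap_comp, ← homologyMap_add, biprod.total, homologyMap_id]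
  have e := CochainComplex.homologyMap_exact₃_of_distTriang _ hT (i - 1) i (by lia)
  have e₁ := CochainComplex.homologyMap_exact₁_of_distTriang _ hT (i - 1) i (by lia)
  have hmono : Mono (homologyMap (mappingCocone.fst (biprod.desc g (-s))) i) := by
    refine e₁.mono_g ?_
    haveI := hepi (i - 1)
    refine (cancel_epi (homologyMap (biprod.desc g (-s)) (i - 1))).mp ?_
    exact (CochainComplex.homologyMap_homologyδOfTriangle _ hT (i - 1) i (by lia)).trans
      comp_zero.symm
  have e₂ : (ShortComplex.mk _ _ hz).Exact :=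
    CochainComplex.homologyMap_exact₂_of_distTriang _ hT i
  haveI : Mono (ShortComplex.mk _ _ hz).f := hmono
  let k : L.homology i ⟶ (L ⊞ Q).homology i := homologyMap (biprod.inl : L ⟶ L ⊞ Q) i +
    (homologyMap g i ≫ inv (homologyMap s i)) ≫ homologyMap (biprod.inr : Q ⟶ L ⊞ Q) i
  have hk : k ≫ homologyMap (biprod.desc g (-s)) i = 0 := by
    simp only [k, Preadditive.add_comp, Category.assoc, ← homologyMap_comp, biprod.inl_desc,
      biprod.inr_desc, homologyMap_neg, Preadditive.comp_neg, IsIso.inv_hom_id, Category.comp_id,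
      add_neg_cancel]
  have hkf : k ≫ homologyMap (biprod.fst : L ⊞ Q ⟶ L) i = 𝟙 _ := by
    simp only [k, Preadditive.add_comp, Category.assoc, ← homologyMap_comp, biprod.inl_fst,
      biprod.inr_fst, homologyMap_zero, comp_zero, add_zero, homologyMap_id]
  haveI := hmono
  refine ⟨e₂.lift k hk, ?_, ?_⟩
  · haveI : Mono (homologyMap (mappingCocone.fst (biprod.desc g (-s))) i ≫
        homologyMap (biprod.fst : L ⊞ Q ⟶ L) i) := by
      refine Preadditive.mono_of_cancel_zero _ fun z hz' => ?_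
      refine (cancel_mono (homologyMap (mappingCocone.fst (biprod.desc g (-s))) i)).mp ?_
      rw [zero_comp]
      set y := z ≫ homologyMap (mappingCocone.fst (biprod.desc g (-s))) i with hy
      have h1 : y ≫ homologyMap (biprod.fst : L ⊞ Q ⟶ L) i = 0 := by rw [hy, Category.assoc, hz']
      have h2 : y = (y ≫ homologyMap (biprod.snd : L ⊞ Q ⟶ Q) i) ≫
          homologyMap (biprod.inr : Q ⟶ L ⊞ Q) i := by
        conv_lhs => rw [← Category.comp_id y, ← hd]
        rw [Preadditive.comp_add, ← Category.assoc, ← Category.assoc, h1, zero_comp, zero_add]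
      have h3 : (y ≫ homologyMap (biprod.snd : L ⊞ Q ⟶ Q) i) ≫ homologyMap s i = 0 := by
        have h4 : y ≫ homologyMap (biprod.desc g (-s)) i = 0 := by
          rw [hy, Category.assoc, hz, comp_zero]
        rw [h2, Category.assoc, ← homologyMap_comp, biprod.inr_desc, homologyMap_neg,
          Preadditive.comp_neg, neg_eq_zero] at h4
        exact h4
      rw [h2, (cancel_mono (homologyMap s i)).mp (h3.trans zero_comp.symm), zero_comp]
    refine (cancel_mono (homologyMap (mappingCocone.fst (biprod.desc g (-s))) i ≫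
      homologyMap (biprod.fst : L ⊞ Q ⟶ L) i)).mp ?_
    have := e₂.lift_f k hk
    dsimp at this
    rw [Category.assoc, reassoc_of% this, hkf, Category.comp_id, Category.id_comp]
  · have := e₂.lift_f k hk
    dsimp at this
    rw [reassoc_of% this, hkf]


section
variable {A : Type u} [Category.{v} A] [Abelian A] {L Q : CochainComplex A ℤ} (i : ℤ)

@[reassoc] theorem bf1 : (biprod.inl : L ⟶ L ⊞ Q).f i ≫ (biprod.fst : L ⊞ Q ⟶ L).f i = 𝟙 _ := by
  rw [← HomologicalComplex.comp_f, biprod.inl_fst]; rfl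
@[reassoc] theorem bf2 : (biprod.inl : L ⟶ L ⊞ Q).f i ≫ (biprod.snd : L ⊞ Q ⟶ Q).f i = 0 := by
  rw [← HomologicalComplex.comp_f, biprod.inl_snd]; rfl
@[reassoc] theorem bf3 : (biprod.inr : Q ⟶ L ⊞ Q).f i ≫ (biprod.fst : L ⊞ Q ⟶ L).f i = 0 := by
  rw [← HomologicalComplex.comp_f, biprod.inr_fst]; rfl
@[reassoc] theorem bf4 : (biprod.inr : Q ⟶ L ⊞ Q).f i ≫ (biprod.snd : L ⊞ Q ⟶ Q).f i = 𝟙 _ := by
  rw [← HomologicalComplex.comp_f, biprod.inr_snd]; rfl
end

open HomologicalComplex CochainComplex in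
noncomputable def coneIso {A : Type u} [Category.{v} A] [Abelian A] {L Q W : CochainComplex A ℤ}
    (φ : L ⊞ Q ⟶ W) (i : ℤ) : (mappingCocone φ).X i ≅ (L ⊞ Q).X i ⊞ W.X (i - 1) where
  hom := biprod.lift ((mappingCocone.fst φ).f i) ((mappingCocone.snd φ).v i (i - 1) (by lia))
  inv := biprod.desc ((mappingCocone.inl φ).v i i (add_zero i))
    ((mappingCocone.inr φ).1.v (i - 1) i (by lia))
  hom_inv_id := by rw [biprod.lift_desc, mappingCocone.id_X]
  inv_hom_id := by
    apply biprod.hom_ext' <;> apply biprod.hom_ext <;> simp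

open HomologicalComplex CochainComplex in
noncomputable def kerIso {A : Type u} [Category.{v} A] [Abelian A] {L Q W : CochainComplex A ℤ}
    (φ : L ⊞ Q ⟶ W) (i : ℤ) :
    kernel ((mappingCocone.fst φ ≫ biprod.snd).f i) ≅ L.X i ⊞ W.X (i - 1) where
  hom := biprod.lift (kernel.ι _ ≫ (mappingCocone.fst φ ≫ biprod.fst).f i)
    (kernel.ι _ ≫ (mappingCocone.snd φ).v i (i - 1) (by lia))
  inv := kernel.lift _ (biprod.desc
    ((biprod.inl : L ⟶ L ⊞ Q).f i ≫ (mappingCocone.inl φ).v i i (add_zero i))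
    ((mappingCocone.inr φ).1.v (i - 1) i (by lia))) (by
      apply biprod.hom_ext'
      · simp [bf2]
      · simp)
  hom_inv_id := by
    have hd : (biprod.fst : L ⊞ Q ⟶ L).f i ≫ (biprod.inl : L ⟶ L ⊞ Q).f i +
        (biprod.snd : L ⊞ Q ⟶ Q).f i ≫ (biprod.inr : Q ⟶ L ⊞ Q).f i = 𝟙 _ := by
      rw [← HomologicalComplex.comp_f, ← HomologicalComplex.comp_f,
        ← HomologicalComplex.add_f_apply, biprod.total, HomologicalComplex.id_f]
    have h0 : kernel.ι ((mappingCocone.fst φ ≫ biprod.snd).f i) ≫ (mappingCocone.fst φ).f i ≫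
        (biprod.snd : L ⊞ Q ⟶ Q).f i = 0 := kernel.condition _
    apply (cancel_mono (kernel.ι _)).mp
    rw [Category.assoc, kernel.lift_ι, biprod.lift_desc, Category.id_comp]
    conv_rhs => rw [← Category.comp_id (kernel.ι _), ← mappingCocone.id_X φ i (i - 1) (by lia),
      ← Category.comp_id ((mappingCocone.fst φ).f i), ← hd]
    simp only [HomologicalComplex.comp_f] at h0 ⊢
    simp only [Preadditive.comp_add, Preadditive.add_comp, Category.assoc,
      reassoc_of% h0, zero_comp, add_zero]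
    erw [zero_comp, add_zero]
    rfl
  inv_hom_id := by
    apply biprod.hom_ext' <;> apply biprod.hom_ext <;>
      simp [bf1, bf2, bf3, bf4]

/-- One step of the construction. -/
theorem exists_step (I : ObjectProperty A) [I.IsClosedUnderIsomorphisms]
    (hI0 : ∃ Z : A, IsZero Z ∧ I Z) (hIprod : ∀ X Y : A, I X → I Y → I (X ⊞ Y))
    (hI : ∀ X : A, ∃ (Y : A) (ι : X ⟶ Y), I Y ∧ Mono ι)
    (K : CochainComplex A ℤ) (m a : ℤ) (Q : CochainComplex A ℤ) (hQ : Q.IsStrictlyGE a)
    (hIQ : ∀ i, I (Q.X i)) (h : K.truncGE m ⟶ Q) :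
    ∃ (Q' : CochainComplex A ℤ) (p : Q' ⟶ Q) (π : K.truncGE m ⟶ Q'),
      QuasiIso π ∧ (∀ i, Mono (π.f i)) ∧ (∃ b : ℤ, Q'.IsStrictlyGE b) ∧ (∀ i, I (Q'.X i)) ∧
      (∀ i, (∃ s : Q.X i ⟶ Q'.X i, s ≫ p.f i = 𝟙 _) ∧ I (kernel (p.f i))) ∧ π ≫ p = h := by
  obtain ⟨L, r₀, hL, hIL, hmono, hr₀⟩ :=
    Groth.Calg8.RightRes.exists_resolution (I := I) hI hI0 (K.truncGE m) m
  let r : K.truncGE m ⟶ L := (K.truncGE m).πTruncGE m ≫ r₀
  haveI : QuasiIso r₀ := hr₀
  haveI : QuasiIso r := inferInstanceAs (QuasiIso ((K.truncGE m).πTruncGE m ≫ r₀))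
  haveI : ∀ i, Mono (r.f i) := fun i => by
    have := hmono i
    haveI : IsIso (((K.truncGE m).πTruncGE m).f i) :=
      inferInstanceAs (IsIso ((HomologicalComplex.eval A _ i).map ((K.truncGE m).πTruncGE m)))
    show Mono (((K.truncGE m).πTruncGE m).f i ≫ r₀.f i)
    infer_instance
  haveI : Mono r := mono_of_mono_f r inferInstance
  haveI := quasiIso_pushout_inr r h
  let b := min m a
  haveI : (pushout r h).IsStrictlyGE b :=
    ⟨fun i hi => by
      have hi' : i < b := by
        by_contra hcon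
        exact hi (i - b).toNat (by
          show b + ((i - b).toNat : ℤ) = i
          omega)
      exact isZero_pushout_X r h i (L.isZero_of_isStrictlyGE m i (by omega))
        (Q.isZero_of_isStrictlyGE a i (by omega))⟩
  obtain ⟨W, w₀, hW, hIW, -, hw₀⟩ :=
    Groth.Calg8.RightRes.exists_resolution (I := I) hI hI0 (pushout r h) b
  haveI : QuasiIso w₀ := hw₀
  let w : pushout r h ⟶ W := (pushout r h).πTruncGE b ≫ w₀
  haveI : QuasiIso w := inferInstanceAs (QuasiIso ((pushout r h).πTruncGE b ≫ w₀))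
  let g : L ⟶ W := pushout.inl r h ≫ w
  let s : Q ⟶ W := pushout.inr r h ≫ w
  haveI : QuasiIso s := inferInstanceAs (QuasiIso (pushout.inr r h ≫ w))
  let φ : L ⊞ Q ⟶ W := biprod.desc g (-s)
  have hα : biprod.lift r h ≫ φ = 0 := by
    rw [biprod.lift_desc, Preadditive.comp_neg]
    simp [g, s, pushout.condition_assoc]
  let π : K.truncGE m ⟶ mappingCocone φ :=
    mappingCocone.lift φ (biprod.lift r h) 0 (by simp [hα])
  have hπr : π ≫ mappingCocone.fst φ ≫ biprod.fst = r := by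
    simp [π, mappingCocone.lift_fst_assoc]
  refine ⟨mappingCocone φ, mappingCocone.fst φ ≫ biprod.snd, π, ?_, fun i => ?_, ⟨b, ?_⟩,
    fun i => ?_, fun i => ⟨⟨?_, ?_⟩, ?_⟩, by simp [π, mappingCocone.lift_fst_assoc]⟩
  · haveI := quasiIso_cocone_fst g s
    haveI : QuasiIso (π ≫ (mappingCocone.fst φ ≫ biprod.fst)) := by rw [hπr]; infer_instance
    exact quasiIso_of_comp_right π (mappingCocone.fst φ ≫ biprod.fst)
  · haveI : Mono (π.f i ≫ (mappingCocone.fst φ ≫ biprod.fst).f i) := by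
      rw [← HomologicalComplex.comp_f, hπr]; infer_instance
    exact mono_of_mono (π.f i) ((mappingCocone.fst φ ≫ biprod.fst).f i)
  · refine ⟨fun i hi => ?_⟩
    have hi' : i < b := by
      by_contra hcon
      exact hi (i - b).toNat (by
        show b + ((i - b).toNat : ℤ) = i
        omega)
    have z1 : IsZero ((L ⊞ Q).X i) := by
      refine IsZero.of_iso ?_ ((HomologicalComplex.eval A _ i).mapBiprod L Q)
      exact (biprod_isZero_iff _ _).mpr ⟨L.isZero_of_isStrictlyGE m i (by omega),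
        Q.isZero_of_isStrictlyGE a i (by omega)⟩
    have z2 : IsZero (W.X (i - 1)) := W.isZero_of_isStrictlyGE b (i - 1) (by omega)
    rw [IsZero.iff_id_eq_zero, ← mappingCocone.id_X φ i (i - 1) (by omega),
      z1.eq_of_tgt ((mappingCocone.fst φ).f i) 0, z2.eq_of_tgt ((mappingCocone.snd φ).v i (i - 1) _) 0]
    simp
  · refine I.prop_of_iso (coneIso φ i).symm (hIprod _ _ ?_ (hIW _))
    exact I.prop_of_iso ((HomologicalComplex.eval A _ i).mapBiprod L Q).symm
      (hIprod _ _ (hIL i) (hIQ i))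
  · exact (biprod.inr : Q ⟶ L ⊞ Q).f i ≫ (mappingCocone.inl φ).v i i (add_zero i)
  · simp [bf4]
  · exact I.prop_of_iso (kerIso φ i).symm (hIprod _ _ (hIL i) (hIW _))

theorem exists_trans (K : CochainComplex A ℤ) (m n : ℤ) (hmn : m < n) :
    ∃ c : K.truncGE m ⟶ K.truncGE n, K.πTruncGE m ≫ c = K.πTruncGE n := by
  haveI : Epi (K.πTruncGE m) := inferInstanceAs (Epi (HomologicalComplex.πTruncGE K _))
  have h : kernel.ι (K.πTruncGE m) ≫ K.πTruncGE n = 0 := by
    ext i
    simp only [HomologicalComplex.comp_f, HomologicalComplex.zero_f]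
    rcases lt_or_ge i n with hi | hi
    · exact ((K.truncGE n).isZero_of_isStrictlyGE n i hi).eq_of_tgt _ _
    · haveI : IsIso ((K.πTruncGE m).f i) := by
        have hi' : (ComplexShape.embeddingUpIntGE m).f (i - m).toNat = i := by
          show m + ((i - m).toNat : ℤ) = i
          omega
        refine ((ComplexShape.embeddingUpIntGE m).isIso_liftExtend_f_iff
          (K.restrictionToTruncGE' _) (K.restrictionToTruncGE'_hasLift _) hi').mpr ?_
        exact K.isIso_restrictionToTruncGE' _ _ (by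
          rw [ComplexShape.boundaryGE_embeddingUpIntGE_iff]; omega)
      have h0 : (kernel.ι (K.πTruncGE m)).f i ≫ (K.πTruncGE m).f i = 0 := by
        rw [← HomologicalComplex.comp_f, kernel.condition]; rfl
      rw [(cancel_mono ((K.πTruncGE m).f i)).mp (h0.trans zero_comp.symm), zero_comp]
  exact ⟨Abelian.epiDesc (K.πTruncGE m) (K.πTruncGE n) h, Abelian.comp_epiDesc _ _ h⟩

end Helpers

/-- Let I be a class of objects of an abelian category, closed under isomorphisms, containing 0, closed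
under binary products, and such that every object is a subobject of an object of I. For any cochain
complex K there are bounded below complexes Iₙ (n ≥ 0) with terms in I, termwise injective
quasi-isomorphisms πₙ : τ_{≥ -n}K ⟶ Iₙ and termwise split surjections pₙ : Iₙ₊₁ ⟶ Iₙ with termwise
kernels in I, such that K ⟶ τ_{≥ -(n+1)}K ⟶ Iₙ₊₁ ⟶ Iₙ equals K ⟶ τ_{≥ -n}K ⟶ Iₙ. (The published
system starts at τ_{≥ -1}K; this row starts at n = 0 with τ_{≥ 0}K. Closure of I under isomorphisms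
is assumed so that closure under binary products has a meaning for a class of objects.) -/
theorem result {A : Type u} [Category.{v} A] [Abelian A] (I : ObjectProperty A) [I.IsClosedUnderIsomorphisms]
    (hI0 : ∃ Z : A, IsZero Z ∧ I Z) (hIprod : ∀ X Y : A, I X → I Y → I (X ⊞ Y))
    (hI : ∀ X : A, ∃ (Y : A) (ι : X ⟶ Y), I Y ∧ Mono ι) (K : CochainComplex A ℤ) :
    ∃ (Q : ℕ → CochainComplex A ℤ) (p : ∀ n, Q (n + 1) ⟶ Q n) (π : ∀ n : ℕ, K.truncGE (-(n : ℤ)) ⟶ Q n),
      (∀ n, QuasiIso (π n) ∧ ∀ i, Mono ((π n).f i)) ∧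
      (∀ n, ∃ a : ℤ, (Q n).IsStrictlyGE a) ∧ (∀ n i, I ((Q n).X i)) ∧
      (∀ n i, (∃ s : (Q n).X i ⟶ (Q (n + 1)).X i, s ≫ (p n).f i = 𝟙 _) ∧ I (kernel ((p n).f i))) ∧
      (∀ n : ℕ, K.πTruncGE (-((n + 1 : ℕ) : ℤ)) ≫ π (n + 1) ≫ p n = K.πTruncGE (-(n : ℤ)) ≫ π n) := by
  let St : ℕ → Type (max u v) := fun n =>
    { D : (Q : CochainComplex A ℤ) × (K.truncGE (-(n : ℤ)) ⟶ Q) //
      QuasiIso D.2 ∧ (∀ i, Mono (D.2.f i)) ∧ (∃ a : ℤ, D.1.IsStrictlyGE a) ∧ ∀ i, I (D.1.X i) }
  have base : Nonempty (St 0) := by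
    obtain ⟨L, α, hL, hIL, hm, hq⟩ :=
      Groth.Calg8.RightRes.exists_resolution (I := I) hI hI0 (K.truncGE (-((0 : ℕ) : ℤ))) (-((0 : ℕ) : ℤ))
    haveI := hq
    refine ⟨⟨⟨L, (K.truncGE _).πTruncGE _ ≫ α⟩,
      inferInstanceAs (QuasiIso ((K.truncGE (-((0 : ℕ) : ℤ))).πTruncGE _ ≫ α)), fun i => ?_,
      ⟨_, hL⟩, hIL⟩⟩
    have := hm i
    haveI : IsIso (((K.truncGE (-((0 : ℕ) : ℤ))).πTruncGE (-((0 : ℕ) : ℤ))).f i) :=
      inferInstanceAs (IsIso ((HomologicalComplex.eval A _ i).map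
        ((K.truncGE (-((0 : ℕ) : ℤ))).πTruncGE (-((0 : ℕ) : ℤ)))))
    show Mono (_ ≫ α.f i)
    infer_instance
  have step : ∀ (n : ℕ) (D : St n), ∃ (D' : St (n + 1)) (p : D'.1.1 ⟶ D.1.1),
      (∀ i, (∃ s : D.1.1.X i ⟶ D'.1.1.X i, s ≫ p.f i = 𝟙 _) ∧ I (kernel (p.f i))) ∧
      K.πTruncGE (-((n + 1 : ℕ) : ℤ)) ≫ D'.1.2 ≫ p = K.πTruncGE (-(n : ℤ)) ≫ D.1.2 := by
    intro n D
    obtain ⟨⟨Q, π⟩, hπ, hm, ⟨a, ha⟩, hIQ⟩ := D
    obtain ⟨c, hc⟩ := exists_trans K (-((n + 1 : ℕ) : ℤ)) (-(n : ℤ)) (by omega)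
    obtain ⟨Q', p, π', h1, h2, h3, h4, h5, h6⟩ :=
      exists_step I hI0 hIprod hI K _ a Q ha hIQ (c ≫ π)
    exact ⟨⟨⟨Q', π'⟩, h1, h2, h3, h4⟩, p, h5, by rw [h6, reassoc_of% hc]⟩
  choose nxt p hp hcomm using step
  let S : ∀ n, St n := fun n => Nat.rec base.some (fun n D => nxt n D) n
  exact ⟨fun n => (S n).1.1, fun n => p n (S n), fun n => (S n).1.2,
    fun n => ⟨(S n).2.1, (S n).2.2.1⟩, fun n => (S n).2.2.2.1, fun n => (S n).2.2.2.2,
    fun n i => hp n (S n) i, fun n => hcomm n (S n)⟩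

end Groth.Agent.S6616
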