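import Groth.Statements.S6617
import Mathlib.Algebra.Homology.HomotopyCategory.MappingCone
-- import your own Groth.Agent.* helpers here

set_option autoImplicit false
universe v u
open CategoryTheory CategoryTheory.Limits
open CohDer

namespace Groth.Agent.S6617

section Helpers

open HomologicalComplex CochainComplex

variable {V : Type u} [Category.{v} V] [Preadditive V] [HasBinaryBiproducts V] [HasZeroObject V]

/-- The cone of the identity is contractible. -/
noncomputable def contract (B : CochainComplex V ℤ) :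
    Homotopy (𝟙 (mappingCone (𝟙 B))) 0 :=
  mappingCone.descHomotopy (𝟙 B) _ _ 0 (mappingCone.inl (𝟙 B))
    (by simp) (by simp [mappingCone.δ_inl])

theorem isZero_cone (B : CochainComplex V ℤ) (j : ℤ) (h₂ : IsZero (B.X j))
    (h₃ : IsZero (B.X (j + 1))) : IsZero ((mappingCone (𝟙 B)).X j) := by
  rw [IsZero.iff_id_eq_zero]
  exact mappingCone.ext_from (𝟙 B) (j + 1) j rfl (h₃.eq_of_src _ _) (h₂.eq_of_src _ _)

section
variable (X B : CochainComplex V ℤ) (f : B ⟶ X)

/-- The enlarged complex. -/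
noncomputable abbrev Cyl : CochainComplex V ℤ := X ⊞ mappingCone (𝟙 B)

noncomputable def cylEquiv : HomotopyEquiv (Cyl X B) X where
  hom := biprod.fst
  inv := biprod.inl
  homotopyHomInvId := by
    refine (Homotopy.ofEq ?_).trans (((((contract B).compLeft (biprod.snd : Cyl X B ⟶ _)).compRight
      (biprod.inr : _ ⟶ Cyl X B)).add (Homotopy.refl
        ((biprod.fst : Cyl X B ⟶ X) ≫ biprod.inl))).symm.trans (Homotopy.ofEq ?_))
    · simp
    · simp [add_comm, ← biprod.total]
  homotopyInvHomId := Homotopy.ofEq biprod.inl_fst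

theorem split (n : ℤ) : ∃ (C : V) (ε : (Cyl X B).X n ≅ B.X n ⊞ C),
    (biprod.lift f (mappingCone.inr (𝟙 B))).f n ≫ ε.hom = biprod.inl := by
  refine ⟨X.X n ⊞ B.X (n + 1),
    { hom := biprod.lift
        ((biprod.snd : Cyl X B ⟶ _).f n ≫ (mappingCone.snd (𝟙 B)).v n n (add_zero n))
        (biprod.lift
          ((biprod.fst : Cyl X B ⟶ X).f n - ((biprod.snd : Cyl X B ⟶ _).f n ≫
            (mappingCone.snd (𝟙 B)).v n n (add_zero n)) ≫ f.f n)
          ((biprod.snd : Cyl X B ⟶ _).f n ≫ (mappingCone.fst (𝟙 B)).1.v n (n + 1) rfl))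
      inv := biprod.desc ((biprod.lift f (mappingCone.inr (𝟙 B))).f n)
        (biprod.desc ((biprod.inl : X ⟶ Cyl X B).f n)
          ((mappingCone.inl (𝟙 B)).v (n + 1) n (by lia) ≫ (biprod.inr : _ ⟶ Cyl X B).f n))
      hom_inv_id := ?_
      inv_hom_id := ?_ }, ?_⟩
  · have hl : biprod.lift f (mappingCone.inr (𝟙 B)) =
        f ≫ (biprod.inl : X ⟶ Cyl X B) + mappingCone.inr (𝟙 B) ≫ biprod.inr := by
      apply biprod.hom_ext <;> simp
    have hd : (biprod.fst : Cyl X B ⟶ X).f n ≫ (biprod.inl : X ⟶ Cyl X B).f n +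
        (biprod.snd : Cyl X B ⟶ _).f n ≫ (biprod.inr : _ ⟶ Cyl X B).f n = 𝟙 _ := by
      rw [← HomologicalComplex.comp_f, ← HomologicalComplex.comp_f,
        ← HomologicalComplex.add_f_apply, biprod.total, HomologicalComplex.id_f]
    have hi := mappingCone.id_X (𝟙 B) n (n + 1) rfl
    rw [biprod.lift_desc, biprod.lift_desc, hl, HomologicalComplex.add_f_apply,
      HomologicalComplex.comp_f, HomologicalComplex.comp_f]
    conv_rhs => rw [← hd, ← Category.id_comp ((biprod.inr : _ ⟶ Cyl X B).f n), ← hi]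
    simp only [Preadditive.comp_add, Preadditive.add_comp, Preadditive.sub_comp, Category.assoc]
    abel
  · apply biprod.hom_ext' <;> [skip; apply biprod.hom_ext'] <;>
      apply biprod.hom_ext <;> [skip; apply biprod.hom_ext; skip; apply biprod.hom_ext; skip;
        apply biprod.hom_ext] <;>
      simp [← HomologicalComplex.comp_f_assoc, ← HomologicalComplex.comp_f]
  · apply biprod.hom_ext <;> [skip; apply biprod.hom_ext] <;>
      simp [← HomologicalComplex.comp_f_assoc, ← HomologicalComplex.comp_f]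

end

end Helpers

/-- Let A be an additive category and A₀ → A₁ → A₂ → … a sequence of composable morphisms of complexes.
There are complexes Bᵢ, homotopy equivalences Bᵢ ⟶ Aᵢ and termwise split injections Bᵢ ⟶ Bᵢ₊₁
forming a commutative ladder over the given sequence. Moreover if all Aᵢ are bounded below, resp.
bounded above, then the Bᵢ may be chosen bounded below, resp. bounded above. (The published
statement is for finite sequences A₁ → … → A_n; this row takes a sequence indexed by ℕ, built by the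
same step-by-step construction.) -/
theorem result {V : Type u} [Category.{v} V] [Preadditive V] [HasBinaryBiproducts V] [HasZeroObject V]
    (X : ℕ → CochainComplex V ℤ) (a : ∀ i, X i ⟶ X (i + 1)) :
    ∃ (B : ℕ → CochainComplex V ℤ) (b : ∀ i, B i ⟶ B (i + 1)) (e : ∀ i, HomotopyEquiv (B i) (X i)),
      (∀ i, b i ≫ (e (i + 1)).hom = (e i).hom ≫ a i) ∧
      (∀ (i : ℕ) (n : ℤ), ∃ (C : V) (ε : (B (i + 1)).X n ≅ (B i).X n ⊞ C), (b i).f n ≫ ε.hom = biprod.inl) ∧
      ((∀ i, ∃ m : ℤ, (X i).IsStrictlyGE m) → ∀ i, ∃ m : ℤ, (B i).IsStrictlyGE m) ∧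
      ((∀ i, ∃ m : ℤ, (X i).IsStrictlyLE m) → ∀ i, ∃ m : ℤ, (B i).IsStrictlyLE m) := by
  classical
  let St : ℕ → Type (max u v) := fun i => (B : CochainComplex V ℤ) × HomotopyEquiv B (X i)
  let S : ∀ i, St i := fun i => Nat.rec ⟨X 0, HomotopyEquiv.refl _⟩
    (fun i D => ⟨Cyl (X (i + 1)) D.1, cylEquiv _ _⟩) i
  refine ⟨fun i => (S i).1, fun i => biprod.lift ((S i).2.hom ≫ a i)
    (CochainComplex.mappingCone.inr _), fun i => (S i).2, fun i => ?_, fun i n => ?_, ?_, ?_⟩
  · exact biprod.lift_fst _ _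
  · exact split (X (i + 1)) (S i).1 _ n
  · intro hX i
    induction i with
    | zero => exact hX 0
    | succ i ih =>
      obtain ⟨m₁, h₁⟩ := hX (i + 1)
      obtain ⟨m₂, h₂⟩ := ih
      refine ⟨min m₁ (m₂ - 1), (CochainComplex.isStrictlyGE_iff _ _).mpr fun j hj => ?_⟩
      have z1 := (X (i + 1)).isZero_of_isStrictlyGE m₁ j (by omega)
      have z2 : IsZero ((S i).1.X j) := CochainComplex.isZero_of_isStrictlyGE _ m₂ j (by omega)
      have z3 : IsZero ((S i).1.X (j + 1)) :=
        CochainComplex.isZero_of_isStrictlyGE _ m₂ (j + 1) (by omega)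
      refine IsZero.of_iso ?_ ((HomologicalComplex.eval V _ j).mapBiprod (X (i + 1))
        (CochainComplex.mappingCone (𝟙 (S i).1)))
      refine (biprod_isZero_iff _ _).mpr ⟨z1, ?_⟩
      exact isZero_cone _ j z2 z3
  · intro hX i
    induction i with
    | zero => exact hX 0
    | succ i ih =>
      obtain ⟨m₁, h₁⟩ := hX (i + 1)
      obtain ⟨m₂, h₂⟩ := ih
      refine ⟨max m₁ m₂, (CochainComplex.isStrictlyLE_iff _ _).mpr fun j hj => ?_⟩
      have z1 := (X (i + 1)).isZero_of_isStrictlyLE m₁ j (by omega)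
      have z2 : IsZero ((S i).1.X j) := CochainComplex.isZero_of_isStrictlyLE _ m₂ j (by omega)
      have z3 : IsZero ((S i).1.X (j + 1)) :=
        CochainComplex.isZero_of_isStrictlyLE _ m₂ (j + 1) (by omega)
      refine IsZero.of_iso ?_ ((HomologicalComplex.eval V _ j).mapBiprod (X (i + 1))
        (CochainComplex.mappingCone (𝟙 (S i).1)))
      refine (biprod_isZero_iff _ _).mpr ⟨z1, ?_⟩
      exact isZero_cone _ j z2 z3

end Groth.Agent.S6617
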