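import Groth.Statements.S6619
import Groth.Agent.RDerLib.LES
import Mathlib.Algebra.Homology.ShortComplex.ExactFunctor

set_option autoImplicit false
universe v v' u u'
open CategoryTheory CategoryTheory.Limits
open CohDer

namespace Groth.Agent.S6619

/-- In the case where A has enough injectives (an object X is right acyclic for the left exact functor F
when RⁱF(X) = 0 for all i > 0): suppose A and B are abelian categories, A has enough injectives, F :
A ⥤ B is left exact, and 0 → X₁ → X₂ → X₃ → 0 is a short exact sequence of A. (1) If X₁, X₃ are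
right acyclic so is X₂; (2) if X₁, X₂ are right acyclic so is X₃; (3) if X₂, X₃ are right acyclic
and F(X₂) ⟶ F(X₃) is surjective then X₁ is right acyclic. In each of the three cases 0 → F(X₁) →
F(X₂) → F(X₃) → 0 is short exact. -/
theorem result {A : Type u} [Category.{v} A] [Abelian A] [EnoughInjectives A]
    {B : Type u'} [Category.{v'} B] [Abelian B] (F : A ⥤ B) [F.Additive] [PreservesFiniteLimits F]
    (S : ShortComplex A) (hS : S.ShortExact) :
    ((∀ i : ℕ, 0 < i → IsZero ((F.rightDerived i).obj S.X₁)) → (∀ i : ℕ, 0 < i → IsZero ((F.rightDerived i).obj S.X₃)) →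
      (∀ i : ℕ, 0 < i → IsZero ((F.rightDerived i).obj S.X₂)) ∧ (S.map F).ShortExact) ∧
    ((∀ i : ℕ, 0 < i → IsZero ((F.rightDerived i).obj S.X₁)) → (∀ i : ℕ, 0 < i → IsZero ((F.rightDerived i).obj S.X₂)) →
      (∀ i : ℕ, 0 < i → IsZero ((F.rightDerived i).obj S.X₃)) ∧ (S.map F).ShortExact) ∧
    ((∀ i : ℕ, 0 < i → IsZero ((F.rightDerived i).obj S.X₂)) → (∀ i : ℕ, 0 < i → IsZero ((F.rightDerived i).obj S.X₃)) →
      Epi (F.map S.g) → (∀ i : ℕ, 0 < i → IsZero ((F.rightDerived i).obj S.X₁)) ∧ (S.map F).ShortExact) := by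
  obtain ⟨L⟩ := Groth.RDerLib.exists_derivedLES F
  have hf := (Functor.preservesFiniteLimits_iff_forall_exact_map_and_mono F).1 inferInstance S hS
  have hg : IsZero ((F.rightDerived 1).obj S.X₁) → (S.map F).ShortExact := fun h =>
    { exact := hf.1
      mono_f := hf.2
      epi_g := by
        have h0 : Epi ((F.rightDerived 0).map S.g) :=
          (L.exact₃ S hS 0 1 rfl).epi_f (h.eq_of_tgt _ _)
        have h1 : Epi (F.map S.g ≫ F.toRightDerivedZero.app S.X₃) := by
          rw [F.toRightDerivedZero.naturality]; infer_instance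
        change Epi (F.map S.g)
        have e : F.map S.g = (F.map S.g ≫ F.toRightDerivedZero.app S.X₃) ≫
            inv (F.toRightDerivedZero.app S.X₃) := by simp
        rw [e]; infer_instance }
  refine ⟨fun a c => ⟨fun i hi => ?_, hg (a 1 one_pos)⟩, fun a b => ⟨fun i hi => ?_, hg (a 1 one_pos)⟩,
    fun b c he => ?_⟩
  · exact (L.exact₂ S hS i).isZero_X₂ ((a i hi).eq_of_src _ _) ((c i hi).eq_of_tgt _ _)
  · exact (L.exact₃ S hS i (i + 1) rfl).isZero_X₂ ((b i hi).eq_of_src _ _)
      ((a (i + 1) (Nat.succ_pos i)).eq_of_tgt _ _)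
  · have hall : ∀ i : ℕ, 0 < i → IsZero ((F.rightDerived i).obj S.X₁) := by
      intro i hi
      obtain ⟨j, rfl⟩ := Nat.exists_eq_succ_of_ne_zero hi.ne'
      refine (L.exact₁ S hS j (j + 1) rfl).isZero_X₂ ?_ ((b (j + 1) hi).eq_of_tgt _ _)
      rcases Nat.eq_zero_or_pos j with rfl | hj
      · change L.δ S hS 0 1 rfl = 0
        have : Epi ((F.rightDerived 0).map S.g) := by
          have : Epi (F.toRightDerivedZero.app S.X₂ ≫ (F.rightDerived 0).map S.g) := by
            rw [← F.toRightDerivedZero.naturality]; infer_instance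
          exact epi_of_epi (F.toRightDerivedZero.app S.X₂) _
        rw [← cancel_epi ((F.rightDerived 0).map S.g), comp_zero]
        exact L.comp_δ S hS 0 1 rfl
      · exact (c j hj).eq_of_src _ _
    exact ⟨hall, hg (hall 1 one_pos)⟩

end Groth.Agent.S6619
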