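import Groth.Statements.S6621
import Groth.Agent.DerivedCoh.LocKernel

set_option autoImplicit false
universe v u v' u'
open CategoryTheory CategoryTheory.Limits
open CohDer

namespace Groth.Agent.S6621
open CategoryTheory.Limits CategoryTheory.Pretriangulated ZeroObject

/-- Let D be a triangulated category, S a multiplicative system compatible with the triangulated
structure, Q : D → S⁻¹D the localization and B(S) = Ker(Q) the full subcategory of objects Z with
Q(Z) = 0. Then the multiplicative system S(B(S)) attached to B(S) (morphisms whose cone lies in B(S)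
up to isomorphism) consists exactly of the morphisms f such that Q(f) is an isomorphism, i.e. it is
the saturation of S. -/
theorem result {D : Type u} [Category.{v} D] [Preadditive D] [HasZeroObject D] [HasShift D ℤ]
    [∀ n : ℤ, (shiftFunctor D n).Additive] [Pretriangulated D] [IsTriangulated D]
    (S : MorphismProperty D) [S.HasLeftCalculusOfFractions] [S.HasRightCalculusOfFractions] [S.IsCompatibleWithTriangulation]
    {E : Type u'} [Category.{v'} E] (Q : D ⥤ E) [Q.IsLocalization S] {X Y : D} (f : X ⟶ Y) :
    ObjectProperty.trW (fun Z : D => IsZero (Q.obj Z)) f ↔ IsIso (Q.map f) := by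
  have hQ := fun Z : D => Groth.DerivedCoh.LocKernel.isZero_iff S Q Z
  rw [Groth.DerivedCoh.LocKernel.isIso_iff S Q f]
  constructor
  · intro h
    obtain ⟨C, g, k, hT, hC⟩ := (ObjectProperty.trW_iff _ f).1 h
    exact (Groth.DerivedCoh.LocKernel.isIso_iff_isZero S _ hT).2 ((hQ C).1 hC)
  · intro h
    obtain ⟨C, g, k, hT⟩ := distinguished_cocone_triangle f
    exact ObjectProperty.trW.mk _ hT
      ((hQ C).2 ((Groth.DerivedCoh.LocKernel.isIso_iff_isZero S _ hT).1 h))

end Groth.Agent.S6621
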