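import Groth.Statements.S6622
import Groth.Agent.KTheory.HomotopyMinus

set_option autoImplicit false
universe v u
open CategoryTheory CategoryTheory.Limits
open CohDer

namespace Groth.Agent.S6622

/-- Let A be an additive category. The full subcategories K⁻(A) (complexes K with Kⁿ = 0 for n ≫ 0) and
Kᵇ(A) (Kⁿ = 0 for |n| ≫ 0) of the homotopy category K(A) are full triangulated subcategories. -/
theorem result {V : Type u} [Category.{v} V] [Preadditive V] [HasZeroObject V] [HasBinaryBiproducts V] :
    (ObjectProperty.IsTriangulated (fun K : HomotopyCategory V (ComplexShape.up ℤ) => ∃ n : ℤ, CochainComplex.IsStrictlyLE K.as n)) ∧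
    (ObjectProperty.IsTriangulated (fun K : HomotopyCategory V (ComplexShape.up ℤ) =>
      ∃ a b : ℤ, CochainComplex.IsStrictlyGE K.as a ∧ CochainComplex.IsStrictlyLE K.as b)) := ⟨Groth.Agent.HomotopyMinus.minus, Groth.Agent.HomotopyMinus.bounded⟩

end Groth.Agent.S6622
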