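import Groth.Statements.S6625
import Groth.Agent.KTheory.RPlusBase
import Groth.Agent.KTheory.RPlusAdapted

set_option autoImplicit false
universe w w' v v' u u'
open CategoryTheory CategoryTheory.Limits
open CohDer

namespace Groth.Agent.S6625

/-- In the case where A has enough injectives: let F : A ⥤ B be an additive functor between abelian
categories, A with enough injectives, and I a class of objects of A such that (1) each object of A
embeds by a monomorphism into some object of I, and (2) whenever 0 → P → Q → R → 0 is a short exact
sequence whose terms P and Q lie in I, the third term R also lies in I, and applying F to the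
sequence yields a short exact sequence in B. Under these assumptions, each X belonging to I is right
acyclic for F, meaning the map F(X)[0] ⟶ RF(X[0]) is an isomorphism. -/
theorem result {A : Type u} [Category.{v} A] [Abelian A] [HasDerivedCategory.{w} A] [EnoughInjectives A]
    {B : Type u'} [Category.{v'} B] [Abelian B] [HasDerivedCategory.{w'} B]
    (F : A ⥤ B) [F.Additive] (I : ObjectProperty A)
    (h1 : ∀ X : A, ∃ (Y : A) (ι : X ⟶ Y), I Y ∧ Mono ι)
    (h2 : ∀ S : ShortComplex A, S.ShortExact → I S.X₁ → I S.X₂ → I S.X₃ ∧ (S.map F).ShortExact)
    (X : A) (hX : I X) :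
    IsIso (F.rightDerivedFunctorPlusUnit.app ((HomotopyCategory.Plus.singleFunctor A 0).obj X)) := by
  refine (Groth.Agent.RPlusBase.isIso_unit_single_iff F X).2
    ⟨Groth.Agent.RPlusAdapted.isIso_toRightDerivedZero F I h1 h2 X hX, fun i hi => ?_⟩
  obtain ⟨n, rfl⟩ := Nat.exists_eq_succ_of_ne_zero hi.ne'
  exact Groth.Agent.RPlusAdapted.isZero_rightDerived F I h1 h2 n X hX

end Groth.Agent.S6625
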