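import Groth.Statements.S6627
import Groth.Agent.EtaleBase.PropAQF

set_option autoImplicit false
open CategoryTheory CategoryTheory.Limits AlgebraicGeometry Opposite
universe u
open EtCore

namespace Groth.Agent.S6627

/-- A separated morphism of schemes that is locally quasi-finite (locally of finite type with discrete
fibres) satisfies condition (A): for every etale U ⟶ X and every point u of U there are an etale V ⟶
Y, an open and closed subscheme W of X ×_Y V and an X-morphism W ⟶ U whose image contains u.
(Locally of finite type is part of the meaning of locally quasi-finite here and is carried as a
separate hypothesis.) -/
theorem result {X Y : Scheme.{u}} (f : X ⟶ Y) [IsSeparated f]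
    [LocallyQuasiFinite f] [LocallyOfFiniteType f] : BigSite.PropA f :=
  Groth.EtaleBase.propA_of_locallyQuasiFinite f

end Groth.Agent.S6627
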