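import Groth.Statements.S6628
import Groth.Agent.EtaleBase.IntegralCond

set_option autoImplicit false
open CategoryTheory CategoryTheory.Limits AlgebraicGeometry Opposite
universe u
open EtCore

namespace Groth.Agent.S6628

/-- An integral morphism of schemes satisfies condition (A): for every etale U ⟶ X and every point u of
U there are an etale V ⟶ Y, an open and closed subscheme W of X ×_Y V and an X-morphism W ⟶ U whose
image contains u. -/
theorem result {X Y : Scheme.{u}} (f : X ⟶ Y) [IsIntegralHom f] : BigSite.PropA f :=
  Groth.EtaleBase.propA_of_isIntegralHom f

end Groth.Agent.S6628
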