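import Groth.Statements.S6632
import Groth.Agent.EtaleBase.Stalks
import Mathlib.CategoryTheory.Limits.Shapes.Pullback.Pasting

set_option autoImplicit false
open CategoryTheory CategoryTheory.Limits AlgebraicGeometry Opposite
universe u
open EtCore

namespace Groth.Agent.S6632

/-- Let f : X ⟶ Y be a morphism of schemes such that, for every etale V ⟶ Y, the base change X ×_Y V ⟶ V
satisfies condition (C) (for every etale U ⟶ X ×_Y V there are an etale V' ⟶ V and a surjective
morphism from the base change of V' to U over X ×_Y V) and is closed as a map of topological spaces.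
Then the base change functor V ↦ X ×_Y V from the small etale site of Y to that of X is almost
cocontinuous: every covering sieve of X ×_Y V contains the images of the members of some covering
sieve of V, except for members V' for which X ×_Y V' is covered by the empty sieve. -/
theorem result {X Y : Scheme.{u}} (f : X ⟶ Y)
    (hC : ∀ (V : Scheme.{u}) (v : V ⟶ Y) [Etale v], BigSite.PropC (pullback.snd f v))
    (hcl : ∀ (V : Scheme.{u}) (v : V ⟶ Y) [Etale v], IsClosedMap (pullback.snd f v).base) :
    BigSite.IsAlmostCocontinuous (EtCoh.bc f) Y.smallEtaleTopology X.smallEtaleTopology := by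
  intro U R hR
  let R' : Sieve U :=
    { arrows := fun V g => (⊥ : Sieve ((EtCoh.bc f).obj V)) ∈ X.smallEtaleTopology ((EtCoh.bc f).obj V) ∨
        R ((EtCoh.bc f).map g)
      downward_closed := fun {V W g} hg k => by
        rcases hg with hg | hg
        · left
          have := X.smallEtaleTopology.pullback_stable ((EtCoh.bc f).map k) hg
          exact X.smallEtaleTopology.superset_covering (fun Z t ht => ht) this
        · exact Or.inr (by rw [Functor.map_comp]; exact R.downward_closed hg _) }
  refine ⟨R', ?_, fun V g hg => hg⟩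
  rw [Groth.EtaleBase.mem_topology_iff] at hR ⊢
  intro x
  let fU : pullback f U.hom ⟶ U.left := pullback.snd f U.hom
  by_cases hx : x ∈ Set.range fU.base
  · obtain ⟨p, rfl⟩ := hx
    let σ := pullbackSymmetry U.hom f
    obtain ⟨W, g, w, hg, hw⟩ := hR (σ.inv.base p)
    let gl : W.left ⟶ pullback U.hom f := g.left
    have : Etale gl := inferInstanceAs (Etale g.left)
    obtain ⟨V', v', hv', h, hh, hs⟩ := hC U.left U.hom W.left (gl ≫ σ.hom)
    let V : Y.Etale := Scheme.Etale.mk (v' ≫ U.hom)
    let g' : V ⟶ U := MorphismProperty.Over.homMk v' rfl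
    let e : pullback (v' ≫ U.hom) f ⟶ pullback fU v' :=
      (pullbackSymmetry _ _).hom ≫ (pullbackLeftPullbackSndIso f U.hom v').inv
    let k : pullback (v' ≫ U.hom) f ⟶ W.left := e ≫ h
    have hk : k ≫ gl = ((EtCoh.bc f).map g').left := by
      have h1 : k ≫ gl = e ≫ pullback.fst fU v' ≫ σ.inv := by
        rw [← cancel_mono σ.hom]
        show ((e ≫ h) ≫ gl) ≫ σ.hom = _
        simp only [Category.assoc]
        erw [hh]
        simp [fU]
      rw [h1]
      apply pullback.hom_ext
      · refine Eq.trans ?_ (pullback.lift_fst _ _ _).symm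
        simp only [σ, Category.assoc, pullbackSymmetry_inv_comp_fst, pullback.condition, fU]
        simp [e]
        rfl
      · refine Eq.trans ?_ (pullback.lift_snd _ _ _).symm
        simp only [σ, fU, Category.assoc, pullbackSymmetry_inv_comp_snd, e,
          pullbackLeftPullbackSndIso_inv_fst, pullbackSymmetry_hom_comp_fst]
        rfl
    have hg' : R ((EtCoh.bc f).map g') := by
      have hgw : gl ≫ pullback.snd U.hom f = W.hom := CategoryTheory.Over.w g.toCommaMorphism
      have hkw : k ≫ W.hom = pullback.snd (v' ≫ U.hom) f := by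
        rw [← hgw, ← Category.assoc, hk]
        exact pullback.lift_snd _ _ _
      let k' : (EtCoh.bc f).obj V ⟶ W := MorphismProperty.Over.homMk k hkw
      have : k' ≫ g = (EtCoh.bc f).map g' := MorphismProperty.Over.Hom.ext hk
      rw [← this]
      exact R.downward_closed hg k'
    obtain ⟨z, hz⟩ := h.surjective w
    refine ⟨V, g', (pullback.snd fU v').base z, Or.inr hg', ?_⟩
    show v'.base _ = _
    rw [← Scheme.Hom.comp_apply, ← pullback.condition, Scheme.Hom.comp_apply, ← hh,
      Scheme.Hom.comp_apply, hz, Scheme.Hom.comp_apply]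
    erw [hw]
    show fU.base (σ.hom.base (σ.inv.base p)) = fU.base p
    congr 1
    rw [← Scheme.Hom.comp_apply, Iso.inv_hom_id]
    rfl
  · let O : U.left.Opens := ⟨(Set.range fU.base)ᶜ, (hcl U.left U.hom).isClosed_range.isOpen_compl⟩
    refine ⟨Scheme.Etale.mk (O.ι ≫ U.hom), MorphismProperty.Over.homMk O.ι rfl, ⟨x, hx⟩, Or.inl ?_, rfl⟩
    rw [Groth.EtaleBase.mem_topology_iff]
    intro (z : ↥(pullback (O.ι ≫ U.hom) f))
    let t : pullback (O.ι ≫ U.hom) f ⟶ pullback f U.hom :=
      pullback.lift (pullback.snd _ _) (pullback.fst _ _ ≫ O.ι)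
        (by rw [Category.assoc]; exact pullback.condition.symm)
    refine (((pullback.fst (O.ι ≫ U.hom) f).base z).2 ⟨t.base z, ?_⟩).elim
    show fU.base _ = O.ι.base _
    rw [← Scheme.Hom.comp_apply, ← Scheme.Hom.comp_apply, pullback.lift_snd]

end Groth.Agent.S6632
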