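import Groth.Statements.S6636
import Groth.Agent.SiteCohomology.ClosedImmCocont
import Groth.Agent.SiteCohomology.AlmostCocontExact
import Mathlib.CategoryTheory.Limits.Shapes.Pullback.Connected

set_option autoImplicit false
open CategoryTheory CategoryTheory.Limits AlgebraicGeometry Opposite
universe u
open BigSite

namespace Groth.Agent.S6636

/-- For the etale and the smooth topologies: for a closed immersion of schemes f : X ⟶ Y the big direct
image along f preserves coequalizers and pushouts of sheaves of sets, and preserves finite colimits
of abelian sheaves (so it is exact there, being a right adjoint). (The published statement also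
covers the syntomic topology; this row treats the etale and smooth topologies only.) -/
theorem result {X Y : Scheme.{u}} (f : X ⟶ Y) [IsClosedImmersion f]
    (K : Precoverage Scheme.{u}) (hK : K = Scheme.etalePrecoverage ∨ K = Scheme.precoverage @Smooth) :
    PreservesColimitsOfShape WalkingParallelPair (BigSite.pushBig K f (Type (u + 1))) ∧
      PreservesColimitsOfShape WalkingSpan (BigSite.pushBig K f (Type (u + 1))) ∧
      PreservesFiniteColimits (BigSite.pushBig K f AddCommGrpCat.{u + 1}) := by
  have hu := Groth.SiteCohomology.ClosedImmCocont.isAlmostCocontinuous_etale_smooth f K hK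
  refine ⟨Groth.SiteCohomology.AlmostCocontExact.preservesColimitsOfShape hu _,
    Groth.SiteCohomology.AlmostCocontExact.preservesColimitsOfShape hu _, ?_⟩
  have : PreservesFiniteLimits (BigSite.pushBig K f AddCommGrpCat.{u + 1}) :=
    (BigSite.bigAdj K f AddCommGrpCat.{u + 1}).rightAdjoint_preservesLimits.{0, 0}.preservesFiniteLimits
  exact Groth.SiteCohomology.AlmostCocontExact.preservesFiniteColimits_ab hu

end Groth.Agent.S6636
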