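import Groth.Statements.S6637
import Groth.Prelude.Def_BigSite

set_option autoImplicit false
open CategoryTheory CategoryTheory.Limits AlgebraicGeometry Opposite
universe u
open BigSite

namespace Groth.Agent.S6637

/-- For the Zariski, etale, smooth and fppf topologies: for a monomorphism of schemes f : X ⟶ Y the
counit f_big⁻¹ f_big,* F ⟶ F is an isomorphism for every sheaf of sets F on the big site of X, and
for every abelian sheaf. (The published statement also covers the syntomic topology; this row treats
the Zariski, etale, smooth and fppf topologies only.) -/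
theorem result {X Y : Scheme.{u}} (f : X ⟶ Y) [Mono f]
    (K : Precoverage Scheme.{u}) (hK : K = Scheme.zariskiPrecoverage ∨ K = Scheme.etalePrecoverage ∨
      K = Scheme.precoverage @Smooth ∨ K = Scheme.fppfPrecoverage) :
    (∀ F : QuotSh.Sh K X, IsIso ((BigSite.bigAdj K f (Type (u + 1))).counit.app F)) ∧
      (∀ F : BigSite.Ab K X, IsIso ((BigSite.bigAdj K f AddCommGrpCat.{u + 1}).counit.app F)) := by
  haveI : (Over.map f).Full := ⟨fun {a b} g => ⟨Over.homMk g.left (by
    have h := Over.w g
    simp only [Over.map_obj_hom] at h
    rw [← cancel_mono f]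
    exact (Category.assoc _ _ _).trans h), Over.OverMorphism.ext rfl⟩⟩
  haveI : (Over.map f).Faithful := ⟨fun {a b g g'} h => Over.OverMorphism.ext (congrArg CommaMorphism.left h :)⟩
  have hu : ∀ U, IsIso ((Over.mapPullbackAdj f).unit.app U) := fun U => inferInstance
  constructor <;> intro F <;>
  · refine @isIso_of_reflects_iso _ _ _ _ _ _ _ (sheafToPresheaf _ _) ?_ _
    refine @NatIso.isIso_of_isIso_app _ _ _ _ _ _ _ fun U => ?_
    change IsIso (F.obj.map ((Over.mapPullbackAdj f).unit.app U.unop).op)
    haveI := hu U.unop
    infer_instance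

end Groth.Agent.S6637
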