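import Groth.Statements.S6647
import Groth.Agent.EtaleBase.LocConstOps

set_option autoImplicit false
open CategoryTheory CategoryTheory.Limits AlgebraicGeometry Opposite
universe u
open EtCore

namespace Groth.Agent.S6647

/-- Let φ : F ⟶ G be a map of locally constant abelian sheaves on the small etale site of a scheme X,
with F finite locally constant. Then on the members of some etale covering of X the restriction of φ
is, up to isomorphisms with constant sheaves on both sides, the map of constant sheaves induced by a
homomorphism of abelian groups. -/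
theorem result {X : Scheme.{u}} (F G : EtCoh.Ab X) (φ : F ⟶ G)
    (hF : EtCoh.IsFiniteLocallyConstant F) (hG : EtRest.IsLocallyConstant G) :
    ∃ (ι : Type u) (U : ι → X.Etale), EtCoh.Covers U ∧ ∀ i, ∃ (M N : Type (u + 1)) (_ : AddCommGroup M) (_ : AddCommGroup N)
      (h : M →+ N)
      (α : EtCoh.restr F (U i) ≅ (constantSheaf (X.smallEtaleTopology.over (U i)) AddCommGrpCat.{u + 1}).obj (AddCommGrpCat.of M))
      (β : EtCoh.restr G (U i) ≅ (constantSheaf (X.smallEtaleTopology.over (U i)) AddCommGrpCat.{u + 1}).obj (AddCommGrpCat.of N)),
      (X.smallEtaleTopology.overPullback AddCommGrpCat.{u + 1} (U i)).map φ ≫ β.hom = α.hom ≫ (constantSheaf (X.smallEtaleTopology.over (U i)) AddCommGrpCat.{u + 1}).map (AddCommGrpCat.ofHom h) :=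
  Groth.EtaleBase.LocConst.exists_local_groupHom F G φ hF hG

end Groth.Agent.S6647
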