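import Groth.Statements.S6648
import Groth.Agent.EtaleBase.Support
-- import your own Groth.Agent.* helpers here

set_option autoImplicit false
open CategoryTheory CategoryTheory.Limits AlgebraicGeometry Opposite
universe u
open EtCore

namespace Groth.Agent.S6648

/-- For a sheaf of (commutative) rings O on the small etale site of a scheme S, the set of points s of S
over which some geometric stalk of O is a nonzero ring is closed in S. (Rings are taken in the
universe of the schemes, as for the structure presheaf of the prelude.) -/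
theorem result {S : Scheme.{u}} (O : Sheaf S.smallEtaleTopology CommRingCat.{u}) :
    IsClosed {s : ↥S | ∃ (Ω : Type u) (_ : Field Ω) (_ : IsSepClosed Ω) (ξ : Spec (CommRingCat.of Ω) ⟶ S),
      ξ.base default = s ∧ Nontrivial ↑((Scheme.pointSmallEtale ξ).presheafFiber.obj O.obj)} := by
  rw [← isOpen_compl_iff, isOpen_iff_forall_mem_open]
  intro s hs
  simp only [Set.mem_compl_iff, Set.mem_setOf_eq, not_exists, not_and] at hs
  have h1 := hs _ inferInstance inferInstance (Groth.EtaleBase.geomPoint s)
    (Groth.EtaleBase.geomPoint_apply s _)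
  let Φ := Scheme.pointSmallEtale (Groth.EtaleBase.geomPoint s)
  let t : Φ.fiber.obj (EtCoh.top S) :=
    Over.homMk (Groth.EtaleBase.geomPoint s) (Category.comp_id _)
  rw [not_nontrivial_iff_subsingleton] at h1
  have h2 : Φ.toPresheafFiber (EtCoh.top S) t O.obj 1 = Φ.toPresheafFiber (EtCoh.top S) t O.obj 0 :=
    h1.elim _ _
  obtain ⟨V, g, v, hv, heq⟩ := (Φ.toPresheafFiber_eq_iff' _ t 1 0).1 h2
  refine ⟨Set.range V.hom.base, ?_, (Groth.EtaleBase.isOpenMap_hom V).isOpen_range, ?_⟩
  · rintro _ ⟨w, rfl⟩ ⟨Ω, _, _, ξ, hξ, hnt⟩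
    obtain ⟨u, -⟩ := Groth.EtaleBase.exists_fiber_of_point ξ V w hξ.symm
    have hVO : (1 : O.obj.obj (op V)) = 0 := by
      rw [← map_one (O.obj.map g.op).hom, ← map_zero (O.obj.map g.op).hom]
      exact heq
    have h3 := congrArg ((Scheme.pointSmallEtale ξ).toPresheafFiber V u O.obj).hom hVO
    rw [map_one, map_zero] at h3
    exact one_ne_zero h3
  · exact ⟨Groth.EtaleBase.fiberPoint _ v, (Groth.EtaleBase.hom_fiberPoint _ v).trans
      (Groth.EtaleBase.geomPoint_apply s _)⟩

end Groth.Agent.S6648
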