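import Groth.Statements.S6649
import Mathlib
import Groth.Agent.CiFields.Brauer
import Groth.Agent.Variety2.DimTrdeg
import Groth.Agent.Variety2.DimScheme

set_option autoImplicit false
open CategoryTheory CategoryTheory.Limits AlgebraicGeometry Opposite
universe u
open Curves

namespace Groth.Agent.S6649

/-- For a curve C over an algebraically closed field k (C integral of dimension one, separated and of
finite type over k) the Brauer group of the function field of C is zero: every finite-dimensional
central division algebra over the function field has dimension one. -/
theorem result (k : Type u) [Field k] [IsAlgClosed k] (C : Scheme.{u})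
    (f : C ⟶ Spec (CommRingCat.of k)) [IsSeparated f] [LocallyOfFiniteType f] [QuasiCompact f] [IsIntegral C]
    (hdim : topologicalKrullDim ↥C = 1)
    (D : Type u) [DivisionRing D] [Algebra ↑C.functionField D] [Algebra.IsCentral ↑C.functionField D]
    [FiniteDimensional ↑C.functionField D] : Module.finrank ↑C.functionField D = 1 := by
  obtain ⟨n, htr, hh⟩ := Groth.Variety2.Dim.exists_trdegAt_eq_height f (genericPoint C)
  have hn : n = 1 := by
    rw [Groth.Variety2.Dim.dim_eq_height_genericPoint, hh] at hdim
    exact_mod_cast hdim
  subst hn
  letI : Algebra k (C.residueField (genericPoint C)) :=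
    (Groth.Variety2.Dim.resHom f (genericPoint C)).toAlgebra
  have hCi := Groth.CiFields.tsen_lang k (C.residueField (genericPoint C)) 1 htr
  have hfield : IsField (C.presheaf.stalk (genericPoint C)) :=
    Field.toIsField C.functionField
  have hbij : Function.Bijective (IsLocalRing.residue (C.presheaf.stalk (genericPoint C))) := by
    refine ⟨?_, IsLocalRing.residue_surjective⟩
    rw [RingHom.injective_iff_ker_eq_bot, IsLocalRing.ker_residue]
    exact IsLocalRing.isField_iff_maximalIdeal_eq.mp hfield
  have hCi' : Curves.IsCi C.functionField 1 :=
    Groth.CiFields.isCi_of_ringEquiv (RingEquiv.ofBijective _ hbij).symm hCi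
  exact Groth.CiFields.finrank_eq_one_of_isCr_one (Groth.CiFields.isCr_of_isCi hCi') D

end Groth.Agent.S6649
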