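import Groth.Statements.S6654
import Groth.Agent.EtaleSGA5.RestrStalk
import Groth.Agent.EtaleDeep.Cons.Noetherian

set_option autoImplicit false
set_option backward.isDefEq.respectTransparency.types false
open CategoryTheory CategoryTheory.Limits AlgebraicGeometry Opposite
universe u
open EtModW

namespace Groth.Agent.S6654

/-- Let X be an irreducible scheme, ξ a geometric point over its generic point, Λ a commutative ring, M'
a submodule of a Λ-module M, and G a sheaf of Λ-modules on the small etale site of X with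
monomorphisms a : const M' ⟶ G and b : G ⟶ const M whose composite is the map of constant sheaves
induced by the inclusion. If the stalk of a at ξ is an isomorphism, then a is an isomorphism. -/
theorem result (Λ : Type (u + 1)) [CommRing Λ] {X : Scheme.{u}} [IrreducibleSpace ↥X]
    {Ω : Type u} [Field Ω] [IsSepClosed Ω] (ξ : Spec (CommRingCat.of Ω) ⟶ X)
    (hξ : ξ.base default = genericPoint ↥X)
    (M : Type (u + 1)) [AddCommGroup M] [Module Λ M] (M' : Submodule Λ M) (G : EtModW.Mod Λ X)
    (a : EtModW.constMod Λ X ↥M' ⟶ G) (b : G ⟶ EtModW.constMod Λ X M) [Mono a] [Mono b]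
    (hab : a ≫ b = (constantSheaf X.smallEtaleTopology (ModuleCat.{u + 1} Λ)).map (ModuleCat.ofHom M'.subtype))
    (hst : IsIso ((EtModW.stalk Λ ξ).map a)) : IsIso a := by
  let C := fun (N : Type (u + 1)) [AddCommGroup N] [Module Λ N] => EtModW.constMod Λ X N
  refine Groth.EtaleDeep.Cons.isIso_of_stalk a fun x => ?_
  let ξx := Groth.EtaleBase.geomPoint x
  obtain ⟨θ⟩ := Groth.EtaleDeep.Cons.nonempty_pointHom ξ ξx (by
    rw [hξ, Groth.EtaleBase.geomPoint_apply]; exact (genericPoint_spec X).specializes trivial)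
  -- specialization maps of constant sheaves are injective
  have hinj : Function.Injective ((Groth.EtaleDeep.Cons.cospec θ).app (EtModW.constMod Λ X M)).hom := by
    obtain ⟨t, -⟩ := Groth.EtaleBase.exists_fiber_of_point ξx (EtCoh.top X) (ξx.base default) rfl
    have h := Groth.EtaleSGA5.Restr.stalkBijM_constSect (Λ := Λ) M (Y := X)
    have hx := (Groth.EtaleSGA5.Restr.bijective_germM_iff M _ ξx t).2 (h _ _ _ ξx t)
    have hη := (Groth.EtaleSGA5.Restr.bijective_germM_iff M _ ξ (θ.hom.app _ t)).2 (h _ _ _ ξ _)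
    intro z₁ z₂ e
    obtain ⟨m₁, rfl⟩ := hx.2 z₁
    obtain ⟨m₂, rfl⟩ := hx.2 z₂
    simp only [Groth.EtaleDeep.Cons.cospec_germ] at e
    rw [hη.1 e]
  have hsurj : Function.Surjective ((Groth.EtaleDeep.Cons.cospec θ).app (EtModW.constMod Λ X M')).hom := by
    obtain ⟨t, -⟩ := Groth.EtaleBase.exists_fiber_of_point ξx (EtCoh.top X) (ξx.base default) rfl
    have h := Groth.EtaleSGA5.Restr.stalkBijM_constSect (Λ := Λ) M' (Y := X)
    have hη := (Groth.EtaleSGA5.Restr.bijective_germM_iff M' _ ξ (θ.hom.app _ t)).2 (h _ _ _ ξ _)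
    intro z
    obtain ⟨m, rfl⟩ := hη.2 z
    exact ⟨_, Groth.EtaleDeep.Cons.cospec_germ _ θ _ t _⟩
  refine ⟨Groth.EtaleDeep.Cons.injective_stalk a ξx, fun g => ?_⟩
  obtain ⟨w, hw⟩ := ((ConcreteCategory.isIso_iff_bijective _).1 hst).2
    (((Groth.EtaleDeep.Cons.cospec θ).app G).hom g)
  obtain ⟨v, hv⟩ := hsurj w
  refine ⟨v, Groth.EtaleDeep.Cons.injective_stalk b ξx (hinj ?_)⟩
  rw [Groth.EtaleDeep.Cons.cospec_naturality, Groth.EtaleDeep.Cons.cospec_naturality,
    Groth.EtaleDeep.Cons.cospec_naturality, hv]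
  exact congrArg ((EtModW.stalk Λ ξ).map b).hom hw

end Groth.Agent.S6654
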