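import Groth.Statements.S6658
import Groth.Agent.EtaleBase.SuppSequence
-- import your own Groth.Agent.* helpers here

set_option autoImplicit false
set_option backward.isDefEq.respectTransparency.types false
universe u
open CategoryTheory CategoryTheory.Limits AlgebraicGeometry Opposite
open EtDual

namespace Groth.Agent.S6658

/-- The exact sequence and the isomorphisms: let j : U → X be an open immersion of schemes with closed
complement Z and F an abelian sheaf on the small etale site of X. Write H^q_Z(F) for the q-th local
cohomology sheaf of F with support in Z, kept as a sheaf on X (the q-th right derived functor of G ↦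
ker(G → j_* j⁻¹ G)). Then the cokernel of the unit F → j_* j⁻¹ F is isomorphic to H^1_Z(F), and for
every p ≥ 1 the higher direct image R^p j_* (j⁻¹ F) is isomorphic to H^{p+1}_Z(F). (The published
statement also gives the distinguished triangle behind these isomorphisms and identifies them with
its connecting maps; this row asserts only that isomorphisms exist.) -/
theorem result {X U : Scheme.{u}} (j : U ⟶ X) [IsOpenImmersion j]
    (F : EtCoh.Ab X) :
    Nonempty (cokernel (EtDual.unitApp j F) ≅ (EtDual.locCoh j 1).obj F) ∧
      ∀ p : ℕ, 1 ≤ p →
        Nonempty ((EtCoh.Rpush j p).obj ((EtCoh.pull j).obj F) ≅ (EtDual.locCoh j (p + 1)).obj F) := by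
  exact ⟨Groth.EtaleBase.Supp.nonempty_cokernel_iso_locCoh j F,
    fun p hp => Groth.EtaleBase.Supp.nonempty_rpush_iso_locCoh j F p hp⟩

end Groth.Agent.S6658
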