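import Groth.Statements.S6659
import Groth.Agent.EtaleSGA5.ExactAdjDerived
import Groth.Agent.EtaleSGA5.ImmersionPushAb


set_option autoImplicit false
universe u
open CategoryTheory CategoryTheory.Limits AlgebraicGeometry Opposite
attribute [local instance] HasDerivedCategory.standard
open EtDual

namespace Groth.Agent.S6659

/-- Let i : Z → X be a closed immersion of schemes with open complement j : U → X. The direct image i_*
of abelian etale sheaves is exact (its right exactness is carried as an instance hypothesis), and
the induced functor D(Z_et) → D(X_et) is fully faithful; an object K of D(X_et) lies in its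
essential image if and only if every cohomology sheaf of K has zero restriction to U, i.e. K has
cohomology sheaves supported on Z. (The identification of the quasi-inverse with the derived functor
of sections supported on Z is not part of this row.) -/
theorem result {Z X U : Scheme.{u}} (i : Z ⟶ X)
    [IsClosedImmersion i] (j : U ⟶ X) [IsOpenImmersion j] (hZU : Set.range j = (Set.range i)ᶜ)
    [PreservesFiniteColimits (EtCoh.push i)] :
    ((EtCoh.push i).mapDerivedCategory.Full ∧ (EtCoh.push i).mapDerivedCategory.Faithful) ∧
      ∀ K : DCoh.DEt X,
        (EtCoh.push i).mapDerivedCategory.essImage K ↔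
          ∀ n : ℤ, IsZero ((EtCoh.pull j).obj (DCoh.HDEt K n)) := by
  have : (EtCoh.push i).Additive := (EtCoh.pullPushAdj i).right_adjoint_additive
  have : (EtCoh.pull i).Additive := (EtCoh.pullPushAdj i).left_adjoint_additive
  have : PreservesFiniteColimits (EtCoh.pull i) :=
    have : PreservesColimitsOfSize.{0, 0} (EtCoh.pull i) := (EtCoh.pullPushAdj i).leftAdjoint_preservesColimits
    PreservesColimitsOfSize.preservesFiniteColimits _
  have : PreservesFiniteLimits (EtCoh.push i) :=
    have : PreservesLimitsOfSize.{0, 0} (EtCoh.push i) := (EtCoh.pullPushAdj i).rightAdjoint_preservesLimits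
    PreservesLimitsOfSize.preservesFiniteLimits _
  have : IsIso (EtCoh.pullPushAdj i).counit :=
    have := fun G => Groth.EtaleSGA5.ImmPush.isIso_counit_ab i G
    NatIso.isIso_of_isIso_app _
  refine ⟨Groth.EtaleSGA5.ExactAdj.fullyFaithful_mapDerived (EtCoh.pullPushAdj i), fun K => ?_⟩
  rw [Groth.EtaleSGA5.ExactAdj.essImage_iff (EtCoh.pullPushAdj i)]
  exact forall_congr' fun n => Groth.EtaleSGA5.ImmPush.isIso_unit_ab_iff i j hZU _

end Groth.Agent.S6659
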