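import Groth.Statements.S6672
import Groth.Agent.DescentBase.ModSquareHom

set_option autoImplicit false
universe u
open CategoryTheory CategoryTheory.Limits AlgebraicGeometry Opposite
open EtDesc

namespace Groth.Agent.S6672

/-- Let f : X' → X be a proper morphism of schemes, i : Z → X a closed immersion with open complement u
: U → X such that the base change of f to U is an isomorphism, and E = X' ×_X Z with projections j :
E → X' and g : E → Z. Consider the functor sending a sheaf of sets F on the small etale site of X to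
the triple (f⁻¹F, i⁻¹F, the canonical isomorphism j⁻¹ f⁻¹ F ≅ g⁻¹ i⁻¹ F). It is an equivalence onto
the 2-fibre product category: (a) for sheaves F₁, F₂ on X, every pair of morphisms a : f⁻¹F₁ →
f⁻¹F₂, b : i⁻¹F₁ → i⁻¹F₂ whose pullbacks to E agree under the canonical isomorphisms comes from
exactly one morphism F₁ → F₂; (b) for every sheaf F' on X', sheaf G on Z and isomorphism α : j⁻¹F' ≅
g⁻¹G there are a sheaf F on X and isomorphisms f⁻¹F ≅ F', i⁻¹F ≅ G compatible with α. -/
theorem result {X X' Z E U : Scheme.{u}} (f : X' ⟶ X) [IsProper f]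
    (i : Z ⟶ X) [IsClosedImmersion i] (u : U ⟶ X) [IsOpenImmersion u] (hU : Set.range u = (Set.range i)ᶜ)
    (hf : IsIso (pullback.snd f u)) (j : E ⟶ X') (g : E ⟶ Z) (c : IsPullback j g f i) :
    (∀ (F₁ F₂ : EtDesc.Sh X) (a : (EtDesc.pullSh f).obj F₁ ⟶ (EtDesc.pullSh f).obj F₂)
        (b : (EtDesc.pullSh i).obj F₁ ⟶ (EtDesc.pullSh i).obj F₂),
        (EtDesc.pullSh j).map a ≫ (EtDesc.pullVia j f (j ≫ f) rfl F₂ ≪≫ (EtDesc.pullVia g i (j ≫ f) c.w.symm F₂).symm).hom = (EtDesc.pullVia j f (j ≫ f) rfl F₁ ≪≫ (EtDesc.pullVia g i (j ≫ f) c.w.symm F₁).symm).hom ≫ (EtDesc.pullSh g).map b →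
        ∃! φ : F₁ ⟶ F₂, (EtDesc.pullSh f).map φ = a ∧ (EtDesc.pullSh i).map φ = b) ∧
    (∀ (F' : EtDesc.Sh X') (G : EtDesc.Sh Z) (α : (EtDesc.pullSh j).obj F' ≅ (EtDesc.pullSh g).obj G),
        ∃ (F : EtDesc.Sh X) (β : (EtDesc.pullSh f).obj F ≅ F') (γ : (EtDesc.pullSh i).obj F ≅ G),
          (EtDesc.pullSh j).map β.hom ≫ α.hom = (EtDesc.pullVia j f (j ≫ f) rfl F ≪≫ (EtDesc.pullVia g i (j ≫ f) c.w.symm F).symm).hom ≫ (EtDesc.pullSh g).map γ.hom) := by
  exact ⟨fun F₁ F₂ a b hab => Groth.DescentBase.ModSquare.existsUnique_hom f i u hU hf j g c a b hab,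
    fun F' G α => Groth.DescentBase.ModSquare.exists_object f i u hU hf j g c F' G α⟩

end Groth.Agent.S6672
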