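import Groth.Statements.S6680
import Groth.Agent.DescentBase.BigCart.PushProper

set_option autoImplicit false
universe u
open CategoryTheory CategoryTheory.Limits AlgebraicGeometry Opposite
open HTop

namespace Groth.Agent.S6680

/-- For an abelian sheaf: let f : X → Y be a proper morphism of schemes and F an abelian sheaf on the
small etale site of X. Then a_Y⁻¹ (f_* F) and f_{big,h,*} (a_X⁻¹ F) are isomorphic abelian sheaves
on the big h site of Y, where a⁻¹ denotes pullback from the small etale site to the big h site.
(Existence of an isomorphism only; the published statement asserts that the canonical base change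
map is an isomorphism. Continuity of the comparison functors is carried as instance hypotheses.) -/
theorem result {X Y : Scheme.{u}} (f : X ⟶ Y) [IsProper f] [HTop.AHCont X]
    [HTop.AHCont Y] [HTop.PullHCont f] (F : EtCoh.Ab X) :
    Nonempty ((HTop.aHPull Y).obj ((EtCoh.push f).obj F) ≅
      (HTop.pushBigH f).obj ((HTop.aHPull X).obj F)) := by
  exact Groth.DescentBase.BigCart.AnyTop.nonempty_pull_push_iso_proper f (HTop.Jh Y) (HTop.Jh X)
    (Groth.DescentBase.BigCart.AnyTop.le_Jh Y) (Groth.DescentBase.BigCart.AnyTop.le_Jh X)
    (fun hG => Groth.DescentBase.BigCart.isSheaf_mono (Groth.DescentBase.BigCart.VTop.Jh_le Y) _ hG.isSheaf_V)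
    (fun hG => Groth.DescentBase.BigCart.isSheaf_mono (Groth.DescentBase.BigCart.VTop.Jh_le X) _ hG.isSheaf_V) F

end Groth.Agent.S6680
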