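import Groth.Statements.S6691
import Groth.Agent.EtaleShriek.EtaleLocalBC

set_option autoImplicit false
universe u
open CategoryTheory CategoryTheory.Limits AlgebraicGeometry Opposite
open EtBC

namespace Groth.Agent.S6691

/-- Let Y = X ×_S T be a cartesian square of schemes with f : X → S, g : T → S, h : Y → X, e : Y → T,
and F a sheaf of sets on the small etale site of T. Let (U_i → X) be a jointly surjective family of
etale X-schemes such that every U_i → S factors as a_i : U_i → V_i followed by an etale V_i → S, and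
let T_i = V_i ×_S T (projections g_i, t_i) and Y_i = U_i ×_{V_i} T_i (projections h_i, e_i). If for
every i the base change map a_i⁻¹ g_i,_* (t_i⁻¹ F) → h_i,_* e_i⁻¹ (t_i⁻¹ F) is an isomorphism, then
the base change map f⁻¹ g_* F → h_* e⁻¹ F is an isomorphism. -/
theorem result {X S Y T : Scheme.{u}} (f : X ⟶ S) (g : T ⟶ S) (h : Y ⟶ X) (e : Y ⟶ T)
    (c : IsPullback e h g f) (F : EtDesc.Sh T)
    {ι : Type u} (U : ι → X.Etale) (hU : EtCoh.Covers U) (V : ι → S.Etale)
    (a : ∀ i, (U i).left ⟶ (V i).left) (ha : ∀ i, a i ≫ (V i).hom = (U i).hom ≫ f)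
    (Ti Yi : ι → Scheme.{u}) (gi : ∀ i, Ti i ⟶ (V i).left) (ti : ∀ i, Ti i ⟶ T)
    (cT : ∀ i, IsPullback (ti i) (gi i) g (V i).hom)
    (hi : ∀ i, Yi i ⟶ (U i).left) (ei : ∀ i, Yi i ⟶ Ti i) (cY : ∀ i, IsPullback (ei i) (hi i) (gi i) (a i))
    (hloc : ∀ i, IsIso (EtBC.baseChange0Sh (gi i) (a i) (hi i) (ei i) (cY i).w ((EtDesc.pullSh (ti i)).obj F))) :
    IsIso (EtBC.baseChange0Sh g f h e c.w F) := by
  refine Groth.DescentBase.isIso_of_acPoints _ fun y => ?_
  obtain ⟨i, z, hz⟩ := hU ((Groth.DescentBase.acPoint y) default)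
  have : Etale (U i).hom := (U i).prop
  obtain ⟨l, hl, -⟩ := Scheme.exists_fac_of_etale_of_isSepClosed (U i).hom (Groth.DescentBase.acPoint y) z hz
  exact Groth.EtaleShriek.FlatConnBC.bijective_stalk_of_local c F (ha i) (cT i) (cY i) l hl (hloc i)

end Groth.Agent.S6691
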