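import Groth.Statements.S6697
import Groth.Agent.SiteCohomology.BigEtale

set_option autoImplicit false
universe u
open CategoryTheory CategoryTheory.Limits AlgebraicGeometry Opposite
open BigSite

namespace Groth.Agent.S6697

/-- Let S be a scheme, I a K-injective complex of abelian sheaves on the big etale site of S (every
morphism from an acyclic complex to I is null-homotopic) and f : T → S a scheme over S. Then (b) the
termwise restriction I|_{S_et} to the small etale site of S is K-injective, and (a) the termwise
restriction i_f⁻¹ I to the small etale site of T is K-injective. -/
theorem result (S : Scheme.{u})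
    (I : CochainComplex (BigSite.Ab Scheme.etalePrecoverage S) ℤ) [I.IsKInjective] {T : Scheme.{u}} (f : T ⟶ S) :
    CochainComplex.IsKInjective (((BigSite.resEt Scheme.etalePrecoverage S).mapHomologicalComplex (ComplexShape.up ℤ)).obj I) ∧
      CochainComplex.IsKInjective (((BigSite.resEtAlong Scheme.etalePrecoverage f).mapHomologicalComplex (ComplexShape.up ℤ)).obj I) := by
  refine ⟨Groth.SiteCohomology.isKInjective_resEt _ I inferInstance, ?_⟩
  exact Groth.SiteCohomology.isKInjective_resEt _ _
    (Groth.SiteCohomology.isKInjective_pullBig Scheme.etalePrecoverage f I inferInstance)

end Groth.Agent.S6697
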