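import Groth.Statements.S6702
import Groth.Agent.EtaleBase.BCD.LimitMain
import Groth.Agent.EtaleBase.Limit.Slice

set_option autoImplicit false
universe u
open CategoryTheory CategoryTheory.Limits AlgebraicGeometry Opposite
attribute [local instance] HasDerivedCategory.standard
open EtBC

namespace Groth.Agent.S6702

/-- Let ι be a nonempty directed preordered set and consider an inverse system, indexed by ι, of
cartesian squares of schemes Y_i = X_i ×_{S_i} T_i (f_i : X_i → S_i, g_i : T_i → S_i quasi-compact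
and quasi-separated, h_i : Y_i → X_i, e_i : Y_i → T_i) with affine transition morphisms, and let X,
S, T, Y be limits with induced morphisms f, g, h, e forming a cartesian square compatible with the
projections. Let 0 be an index and K₀ a bounded below object of D(T_0,et); for i ≥ 0 let K_i be its
pullback to T_i and K its pullback to T. If for every i ≥ 0 the base change morphism f_i⁻¹ Rg_i,_*
K_i → Rh_i,_* e_i⁻¹ K_i is an isomorphism, then the base change morphism f⁻¹ Rg_* K → Rh_* e⁻¹ K is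
an isomorphism. (Unbounded derived direct images exist under the stated binders; the base change
morphisms are transposes under adjunctions between inverse image and derived direct image, supplied
as data; left exactness of the inverse image functors is carried as instance hypotheses.) -/
theorem result {ι : Type u} [Preorder ι] [Nonempty ι] [IsDirected ι (· ≤ ·)]
    (Xs Ss Ts Ys : ιᵒᵖ ⥤ Scheme.{u}) (fN : Xs ⟶ Ss) (gN : Ts ⟶ Ss) (hN : Ys ⟶ Xs) (eN : Ys ⟶ Ts)
    (sq : ∀ a : ιᵒᵖ, IsPullback (eN.app a) (hN.app a) (gN.app a) (fN.app a))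
    [∀ a : ιᵒᵖ, QuasiCompact (gN.app a)] [∀ a : ιᵒᵖ, QuasiSeparated (gN.app a)]
    (haff : ∀ ⦃a b : ιᵒᵖ⦄ (m : a ⟶ b),
      IsAffineHom (Xs.map m) ∧ IsAffineHom (Ss.map m) ∧ IsAffineHom (Ts.map m) ∧ IsAffineHom (Ys.map m))
    (cX : Cone Xs) (hcX : IsLimit cX) (cS : Cone Ss) (hcS : IsLimit cS)
    (cT : Cone Ts) (hcT : IsLimit cT) (cY : Cone Ys) (hcY : IsLimit cY)
    (f : cX.pt ⟶ cS.pt) (g : cT.pt ⟶ cS.pt) (h : cY.pt ⟶ cX.pt) (e : cY.pt ⟶ cT.pt)
    (hf : ∀ a, f ≫ cS.π.app a = cX.π.app a ≫ fN.app a) (hg : ∀ a, g ≫ cS.π.app a = cT.π.app a ≫ gN.app a)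
    (hh : ∀ a, h ≫ cX.π.app a = cY.π.app a ≫ hN.app a) (he : ∀ a, e ≫ cT.π.app a = cY.π.app a ≫ eN.app a)
    (c : IsPullback e h g f)
    [∀ a, PreservesFiniteLimits (EtCoh.pull (eN.app a))] [∀ a, PreservesFiniteLimits (EtCoh.pull (fN.app a))]
    [∀ ⦃a b : ιᵒᵖ⦄ (m : a ⟶ b), PreservesFiniteLimits (EtCoh.pull (Ts.map m))]
    [∀ a, PreservesFiniteLimits (EtCoh.pull (cT.π.app a))]
    [PreservesFiniteLimits (EtCoh.pull e)] [PreservesFiniteLimits (EtCoh.pull f)]
    [∀ a, DCoh.HasRpushEt (Ts.obj a) (gN.app a)] [∀ a, DCoh.HasRpushEt (Ys.obj a) (hN.app a)]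
    [∀ a, DCoh.HasRpushEt (Xs.obj a) (fN.app a)]
    (adjs : ∀ a, EtBC.pullD (fN.app a) ⊣ DCoh.RpushEt (Xs.obj a) (fN.app a))
    [DCoh.HasRpushEt cT.pt g] [DCoh.HasRpushEt cY.pt h] [DCoh.HasRpushEt cX.pt f]
    (adj : EtBC.pullD f ⊣ DCoh.RpushEt cX.pt f)
    (i₀ : ι) (K₀ : DCoh.DEt (Ts.obj (op i₀))) (n : ℤ) [K₀.IsGE n]
    (hstage : ∀ (i : ι) (hi : i₀ ≤ i), IsIso (EtBC.bcMap (gN.app (op i)) (fN.app (op i)) (hN.app (op i)) (eN.app (op i))
      (sq (op i)).w (adjs (op i)) ((EtBC.pullD (Ts.map (homOfLE hi).op)).obj K₀))) :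
    IsIso (EtBC.bcMap g f h e c.w adj ((EtBC.pullD (cT.π.app (op i₀))).obj K₀)) := by
  haveI : IsDirectedOrder ι := ⟨directed_of (· ≤ ·)⟩
  haveI := Groth.EtaleBase.EtLimit.nonempty_after i₀
  haveI : IsDirectedOrder (Groth.EtaleBase.EtLimit.After i₀) := Groth.EtaleBase.EtLimit.directed_after i₀
  let val : Groth.EtaleBase.EtLimit.After i₀ → ι := fun j => j.1
  have hmono : Monotone val := fun _ _ hle => hle
  haveI : hmono.functor.Final := (Monotone.final_functor_iff hmono).2 fun j => by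
    obtain ⟨k, h₁, h₂⟩ := exists_ge_ge i₀ j
    exact ⟨⟨k, h₁⟩, h₂⟩
  let F := hmono.functor.op
  haveI hq₁ : ∀ a, QuasiCompact (hN.app a) := fun a =>
    MorphismProperty.of_isPullback (P := @QuasiCompact) (sq a) inferInstance
  haveI hq₂ : ∀ a, QuasiSeparated (hN.app a) := fun a =>
    MorphismProperty.of_isPullback (P := @QuasiSeparated) (sq a) inferInstance
  haveI : ∀ (p q : (Groth.EtaleBase.EtLimit.After i₀)ᵒᵖ) (m : p ⟶ q), IsAffineHom ((F ⋙ Ts).map m) :=
    fun p q m => (haff (F.map m)).2.2.1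
  haveI : ∀ (p q : (Groth.EtaleBase.EtLimit.After i₀)ᵒᵖ) (m : p ⟶ q), IsAffineHom ((F ⋙ Ss).map m) :=
    fun p q m => (haff (F.map m)).2.1
  haveI : ∀ (p q : (Groth.EtaleBase.EtLimit.After i₀)ᵒᵖ) (m : p ⟶ q), IsAffineHom ((F ⋙ Ys).map m) :=
    fun p q m => (haff (F.map m)).2.2.2
  haveI : ∀ (p q : (Groth.EtaleBase.EtLimit.After i₀)ᵒᵖ) (m : p ⟶ q), IsAffineHom ((F ⋙ Xs).map m) :=
    fun p q m => (haff (F.map m)).1
  haveI : ∀ a, QuasiCompact ((Functor.whiskerLeft F gN).app a) := fun a =>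
    inferInstanceAs (QuasiCompact (gN.app (F.obj a)))
  haveI : ∀ a, QuasiSeparated ((Functor.whiskerLeft F gN).app a) := fun a =>
    inferInstanceAs (QuasiSeparated (gN.app (F.obj a)))
  haveI : ∀ a, QuasiCompact ((Functor.whiskerLeft F hN).app a) := fun a => hq₁ (F.obj a)
  haveI : ∀ a, QuasiSeparated ((Functor.whiskerLeft F hN).app a) := fun a => hq₂ (F.obj a)
  haveI : ∀ a, PreservesFiniteLimits (EtCoh.pull ((Functor.whiskerLeft F eN).app a)) := fun a =>
    inferInstanceAs (PreservesFiniteLimits (EtCoh.pull (eN.app (F.obj a))))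
  haveI : ∀ a, DCoh.HasRpushEt ((F ⋙ Ts).obj a) ((Functor.whiskerLeft F gN).app a) := fun a =>
    inferInstanceAs (DCoh.HasRpushEt (Ts.obj (F.obj a)) (gN.app (F.obj a)))
  haveI : ∀ a, DCoh.HasRpushEt ((F ⋙ Ys).obj a) ((Functor.whiskerLeft F hN).app a) := fun a =>
    inferInstanceAs (DCoh.HasRpushEt (Ys.obj (F.obj a)) (hN.app (F.obj a)))
  haveI : ∀ a, DCoh.HasRpushEt ((F ⋙ Xs).obj a) ((Functor.whiskerLeft F fN).app a) := fun a =>
    inferInstanceAs (DCoh.HasRpushEt (Xs.obj (F.obj a)) (fN.app (F.obj a)))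
  haveI : @DCoh.HasRpushEt (cT.whisker F).pt (cS.whisker F).pt g := inferInstanceAs (DCoh.HasRpushEt cT.pt g)
  haveI : @DCoh.HasRpushEt (cY.whisker F).pt (cX.whisker F).pt h := inferInstanceAs (DCoh.HasRpushEt cY.pt h)
  haveI : @DCoh.HasRpushEt (cX.whisker F).pt (cS.whisker F).pt f := inferInstanceAs (DCoh.HasRpushEt cX.pt f)
  haveI : PreservesFiniteLimits (@EtCoh.pull (cY.whisker F).pt (cT.whisker F).pt e _) :=
    inferInstanceAs (PreservesFiniteLimits (EtCoh.pull e))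
  haveI : PreservesFiniteLimits (@EtCoh.pull (cX.whisker F).pt (cS.whisker F).pt f _) :=
    inferInstanceAs (PreservesFiniteLimits (EtCoh.pull f))
  let K₁ : DCoh.DEt ((F ⋙ Ts).obj (op ⟨i₀, le_rfl⟩)) := K₀
  haveI : K₁.IsGE n := inferInstanceAs (K₀.IsGE n)
  exact Groth.EtaleBase.BCD.isIso_bcMap_limit (Xs := F ⋙ Xs) (Ss := F ⋙ Ss) (Ts := F ⋙ Ts) (Ys := F ⋙ Ys)
    (Functor.whiskerLeft F fN) (Functor.whiskerLeft F gN) (Functor.whiskerLeft F hN)
    (eN := Functor.whiskerLeft F eN) (fun i => (sq (op i.1)).w)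
    (cX.whisker F) ((Functor.Initial.isLimitWhiskerEquiv F cX).symm hcX)
    (cS.whisker F) ((Functor.Initial.isLimitWhiskerEquiv F cS).symm hcS)
    (cT.whisker F) ((Functor.Initial.isLimitWhiskerEquiv F cT).symm hcT)
    (cY.whisker F) ((Functor.Initial.isLimitWhiskerEquiv F cY).symm hcY)
    f g h e (fun j => hf (op j.1)) (fun j => hg (op j.1)) (fun j => hh (op j.1)) (fun j => he (op j.1)) c.w
    (fun a => adjs (F.obj a)) adj ⟨i₀, le_rfl⟩ (fun j => j.2) K₁ n (fun i => hstage i.1 i.2)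


end Groth.Agent.S6702
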