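import Groth.Statements.S6703
import Mathlib.CategoryTheory.Shift.Adjunction
import Mathlib.CategoryTheory.Adjunction.FullyFaithful
-- import your own Groth.Agent.* helpers here

set_option autoImplicit false
universe v v' u u'
open CategoryTheory
open DEquiv

namespace Groth.Agent.S6703

open CategoryTheory.Limits CategoryTheory.Pretriangulated in
lemma hom_shift_cone_eq_zero {D : Type u} [Category.{v} D] [Preadditive D] [HasZeroObject D]
    [HasShift D ℤ] [∀ n : ℤ, (shiftFunctor D n).Additive] [Pretriangulated D]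
    {E X Y K : D} (φ : X ⟶ Y) (b : Y ⟶ K) (c : K ⟶ (shiftFunctor D (1 : ℤ)).obj X)
    (hT : Triangle.mk φ b c ∈ distTriang D)
    (h : ∀ i : ℤ, Function.Bijective
      (fun f : E ⟶ (shiftFunctor D i).obj X => f ≫ (shiftFunctor D i).map φ))
    (i : ℤ) (f : E ⟶ (shiftFunctor D i).obj K) : f = 0 := by
  have hTi := Triangle.shift_distinguished _ hT i
  let m : (shiftFunctor D i).obj X ⟶ (shiftFunctor D i).obj Y := i.negOnePow • (shiftFunctor D i).map φ
  let b' : (shiftFunctor D i).obj Y ⟶ (shiftFunctor D i).obj K :=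
    ((Triangle.shiftFunctor D i).obj (Triangle.mk φ b c)).mor₂
  let c' : (shiftFunctor D i).obj K ⟶ (shiftFunctor D (1 : ℤ)).obj ((shiftFunctor D i).obj X) :=
    ((Triangle.shiftFunctor D i).obj (Triangle.mk φ b c)).mor₃
  have hT' : Triangle.mk m b' c' ∈ distTriang D := hTi
  have hz : c' ≫ (shiftFunctor D (1 : ℤ)).map m = 0 := comp_distTriang_mor_zero₃₁ _ hT'
  have hz₁ : m ≫ b' = 0 := comp_distTriang_mor_zero₁₂ _ hT'
  simp only [m] at hz
  have hc : f ≫ c' = 0 := by
    rw [Functor.map_units_smul, Linear.comp_units_smul, smul_eq_zero_iff_eq] at hz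
    let s := shiftFunctorAdd' D i 1 (i + 1) rfl
    rw [← cancel_mono (s.inv.app X)]
    refine (h (i + 1)).1 ?_
    dsimp only
    have hn : s.inv.app X ≫ (shiftFunctor D (i + 1)).map φ =
        (shiftFunctor D (1 : ℤ)).map ((shiftFunctor D i).map φ) ≫ s.inv.app Y :=
      (s.inv.naturality φ).symm
    simp only [Category.assoc, zero_comp, hn]
    rw [reassoc_of% hz, zero_comp, comp_zero]
  obtain ⟨g, hg⟩ : ∃ g : E ⟶ (shiftFunctor D i).obj Y, f = g ≫ b' :=
    Triangle.coyoneda_exact₃ _ hT' f hc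
  obtain ⟨a, ha⟩ := (h i).2 (i.negOnePow • g)
  have ha' : a ≫ (shiftFunctor D i).map φ = i.negOnePow • g := ha
  have : g = a ≫ m := by
    simp only [m, Linear.comp_units_smul, ha', smul_smul, Int.units_mul_self, one_smul]
  rw [hg, this, Category.assoc, hz₁, comp_zero]

open CategoryTheory.Limits CategoryTheory.Pretriangulated in
lemma hom_from_cone_eq_zero {D : Type u} [Category.{v} D] [Preadditive D] [HasZeroObject D]
    [HasShift D ℤ] [∀ n : ℤ, (shiftFunctor D n).Additive] [Pretriangulated D]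
    {E X Y K : D} (φ : X ⟶ Y) (b : Y ⟶ K) (c : K ⟶ (shiftFunctor D (1 : ℤ)).obj X)
    (hT : Triangle.mk φ b c ∈ distTriang D)
    (h : ∀ i : ℤ, Function.Bijective
      (fun f : Y ⟶ (shiftFunctor D i).obj E => φ ≫ f))
    (i : ℤ) (f : K ⟶ (shiftFunctor D i).obj E) : f = 0 := by
  have h12 : φ ≫ b = 0 := comp_distTriang_mor_zero₁₂ _ hT
  have h31 : c ≫ (shiftFunctor D (1 : ℤ)).map φ = 0 := comp_distTriang_mor_zero₃₁ _ hT
  have hb : b ≫ f = 0 := (h i).1 (by
    show φ ≫ b ≫ f = φ ≫ 0
    rw [reassoc_of% h12, zero_comp, comp_zero])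
  obtain ⟨g, hg⟩ : ∃ g : (shiftFunctor D (1 : ℤ)).obj X ⟶ _, f = c ≫ g :=
    Triangle.yoneda_exact₃ _ hT f hb
  let j := (shiftFunctorAdd' D (i - 1) 1 i (by lia)).app E
  obtain ⟨g₀, hg₀⟩ : ∃ g₀ : X ⟶ (shiftFunctor D (i - 1)).obj E,
      (shiftFunctor D (1 : ℤ)).map g₀ = g ≫ j.hom := (shiftFunctor D (1 : ℤ)).map_surjective _
  obtain ⟨g₁, hg₁⟩ := (h (i - 1)).2 g₀
  have hg₁' : φ ≫ g₁ = g₀ := hg₁
  have hg' : g ≫ j.hom = (shiftFunctor D (1 : ℤ)).map φ ≫ (shiftFunctor D (1 : ℤ)).map g₁ := by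
    rw [← Functor.map_comp, hg₁', hg₀]
  rw [hg, ← cancel_mono j.hom, Category.assoc, hg', reassoc_of% h31, zero_comp, zero_comp]

open CategoryTheory.Limits CategoryTheory.Pretriangulated in
/-- Let F : D ⥤ D' be an exact functor of triangulated categories admitting both a left and a right
adjoint, and let S be a set of objects of D such that an object K of D is zero as soon as Hom(E,
K⟦i⟧) = 0 for all E ∈ S and i ∈ ℤ, and also as soon as Hom(K, E⟦i⟧) = 0 for all E ∈ S and i ∈ ℤ. If
for all E, E' ∈ S and i ∈ ℤ the map Hom(E, E'⟦i⟧) → Hom(F E, F (E'⟦i⟧)) given by F is bijective,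
then F is full and faithful. -/
theorem result
    {D : Type u} [Category.{v} D] [Preadditive D] [HasZeroObject D] [HasShift D ℤ]
    [∀ n : ℤ, (shiftFunctor D n).Additive] [Pretriangulated D] [IsTriangulated D]
    {D' : Type u'} [Category.{v'} D'] [Preadditive D'] [HasZeroObject D'] [HasShift D' ℤ]
    [∀ n : ℤ, (shiftFunctor D' n).Additive] [Pretriangulated D'] [IsTriangulated D']
    (F : D ⥤ D') [F.CommShift ℤ] [F.IsTriangulated] [F.IsLeftAdjoint] [F.IsRightAdjoint]
    (S : Set D)
    (h2 : ∀ K : D, (∀ E ∈ S, ∀ (i : ℤ) (f : E ⟶ (shiftFunctor D i).obj K), f = 0) → IsZero K)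
    (h3 : ∀ K : D, (∀ E ∈ S, ∀ (i : ℤ) (f : K ⟶ (shiftFunctor D i).obj E), f = 0) → IsZero K)
    (h4 : ∀ E ∈ S, ∀ E' ∈ S, ∀ i : ℤ,
      Function.Bijective (fun f : E ⟶ (shiftFunctor D i).obj E' => F.map f)) :
    F.Full ∧ F.Faithful := by
  obtain ⟨G, ⟨adj⟩⟩ : ∃ G, Nonempty (F ⊣ G) := ⟨_, ⟨Adjunction.ofIsLeftAdjoint F⟩⟩
  obtain ⟨H, ⟨adj'⟩⟩ : ∃ H, Nonempty (H ⊣ F) := ⟨_, ⟨Adjunction.ofIsRightAdjoint F⟩⟩
  letI := adj.rightAdjointCommShift ℤ
  haveI := adj.commShift_of_leftAdjoint ℤ
  have key : ∀ E' ∈ S, ∀ i : ℤ, IsIso (adj.unit.app ((shiftFunctor D i).obj E')) := by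
    intro E' hE'
    have hpost : ∀ E ∈ S, ∀ i : ℤ,
        Function.Bijective (fun f : E ⟶ (shiftFunctor D i).obj E' =>
          f ≫ (shiftFunctor D i).map (adj.unit.app E')) := by
      intro E hE i
      have h1 : Function.Bijective (fun f : E ⟶ (shiftFunctor D i).obj E' =>
          f ≫ adj.unit.app ((shiftFunctor D i).obj E')) := by
        have := ((adj.homEquiv _ _).bijective).comp (h4 E hE E' hE' i)
        have e : (fun f : E ⟶ (shiftFunctor D i).obj E' =>
            f ≫ adj.unit.app ((shiftFunctor D i).obj E')) =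
            (adj.homEquiv E (F.obj ((shiftFunctor D i).obj E'))) ∘ (fun f => F.map f) := by
          funext f
          rw [Function.comp_apply, Adjunction.homEquiv_unit]
          exact adj.unit.naturality f
        rw [e]
        exact this
      have h2 : ∀ f : E ⟶ (shiftFunctor D i).obj E', f ≫ (shiftFunctor D i).map (adj.unit.app E') =
          (f ≫ adj.unit.app ((shiftFunctor D i).obj E')) ≫ ((F ⋙ G).commShiftIso i).hom.app E' := by
        intro f
        rw [NatTrans.shift_app adj.unit]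
        simp [Functor.commShiftIso_id_inv_app]
      simp only [h2]
      exact (Iso.homToEquiv ((((F ⋙ G).commShiftIso i)).app E') (Z := E)).bijective.comp h1
    obtain ⟨K, b, c, hT⟩ := distinguished_cocone_triangle (adj.unit.app E')
    have hK : IsZero K := h2 K fun E hE i f => by
      have hb' : ∀ i, Function.Bijective (fun f : E ⟶ (shiftFunctor D i).obj E' =>
          f ≫ (shiftFunctor D i).map (adj.unit.app E')) := hpost E hE
      exact hom_shift_cone_eq_zero (adj.unit.app E') b c hT hb' i f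
    haveI : IsIso (adj.unit.app E') := (Triangle.isZero₃_iff_isIso₁ _ hT).1 hK
    intro i
    rw [NatTrans.app_shift adj.unit]
    infer_instance
  have hF : ∀ E' ∈ S, ∀ (i : ℤ) (X : D),
      Function.Bijective (fun f : X ⟶ (shiftFunctor D i).obj E' => F.map f) := by
    intro E' hE' i X
    haveI := key E' hE' i
    have : Function.Bijective (fun f : X ⟶ (shiftFunctor D i).obj E' =>
        f ≫ adj.unit.app ((shiftFunctor D i).obj E')) :=
      (Iso.homToEquiv (asIso (adj.unit.app ((shiftFunctor D i).obj E'))) (Z := X)).bijective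
    have e : (fun f : X ⟶ (shiftFunctor D i).obj E' => F.map f) =
        (adj.homEquiv X (F.obj ((shiftFunctor D i).obj E'))).symm ∘
          (fun f => f ≫ adj.unit.app ((shiftFunctor D i).obj E')) := by
      funext f
      refine (Equiv.eq_symm_apply _).2 ?_
      rw [Adjunction.homEquiv_unit]
      exact (adj.unit.naturality f).symm
    rw [e]
    exact (Equiv.bijective _).comp this
  haveI : IsIso adj'.counit := by
    suffices ∀ X, IsIso (adj'.counit.app X) from NatIso.isIso_of_isIso_app _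
    intro X
    have hpre : ∀ E ∈ S, ∀ i : ℤ, Function.Bijective
        (fun f : X ⟶ (shiftFunctor D i).obj E => adj'.counit.app X ≫ f) := by
      intro E hE i
      have := ((adj'.homEquiv _ _).symm.bijective).comp (hF E hE i X)
      have e : (fun f : X ⟶ (shiftFunctor D i).obj E => adj'.counit.app X ≫ f) =
          (adj'.homEquiv (F.obj X) ((shiftFunctor D i).obj E)).symm ∘ (fun f => F.map f) := by
        funext f
        rw [Function.comp_apply, Adjunction.homEquiv_counit]
        exact (adj'.counit.naturality f).symm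
      rw [e]
      exact this
    obtain ⟨K, b, c, hT⟩ := distinguished_cocone_triangle (adj'.counit.app X)
    exact (Triangle.isZero₃_iff_isIso₁ _ hT).1 (h3 K fun E hE i f =>
      hom_from_cone_eq_zero (adj'.counit.app X) b c hT (hpre E hE) i f)
  exact ⟨adj'.full_R_of_isSplitMono_counit_app, adj'.faithful_R_of_epi_counit_app⟩

end Groth.Agent.S6703
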