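import Groth.Statements.S6707
import Groth.Agent.DEquivSib.Cover

set_option autoImplicit false
universe w v u
open CategoryTheory
open DEquiv

namespace Groth.Agent.S6707

open CategoryTheory.Limits in
/-- Let A be an abelian category in which every object X is the target of an epimorphism N ⟶ X with
Hom(X, N) = 0. Let f : X ⟶ X' be a morphism between bounded objects of D(A) and b an integer with
H^i(X) = 0 for i > b and H^i(X') = 0 for i ≥ b. Then there exist an object N of A and a morphism
N⟦-b⟧ ⟶ X (N placed in degree b) inducing an epimorphism N ⟶ H^b(X), with Hom(H^b(X), N) = 0, and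
whose composite with f is zero. -/
theorem result
    {A : Type u} [Category.{v} A] [Abelian A] [HasDerivedCategory.{w} A]
    (hneg : ∀ X : A, ∃ (N : A) (p : N ⟶ X), Epi p ∧ ∀ f : X ⟶ N, f = 0)
    (X X' : DerivedCategory A) (f : X ⟶ X') (a b a' : ℤ) [X.IsGE a] [X.IsLE b] [X'.IsGE a']
    [X'.IsLE (b - 1)] :
    ∃ (N : A) (g : (DerivedCategory.singleFunctor A b).obj N ⟶ X),
      Epi ((DerivedCategory.homologyFunctor A b).map g) ∧
        (∀ φ : (DerivedCategory.homologyFunctor A b).obj X ⟶ N, φ = 0) ∧ g ≫ f = 0 := by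
  obtain ⟨N, g, h1, h2, h3, -⟩ :=
    Groth.DEquivSib.exists_cover hneg X b ((DerivedCategory.homologyFunctor A b).obj X) f f
  exact ⟨N, g, h1, h2, h3⟩

end Groth.Agent.S6707
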