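import Groth.Statements.S6708
-- import your own Groth.Agent.* helpers here

set_option autoImplicit false
universe v u
open CategoryTheory
open DEquiv

namespace Groth.Agent.S6708

open CategoryTheory.Limits CategoryTheory.Pretriangulated in
/-- Let D be a pretriangulated category, D' ⊆ D a full triangulated subcategory (given as a property of
objects that is triangulated in Mathlib's sense) and X an object of D. Then the category of arrows E
⟶ X with E in D' is filtered. -/
theorem result
    {D : Type u} [Category.{v} D] [Preadditive D] [HasZeroObject D] [HasShift D ℤ]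
    [∀ n : ℤ, (shiftFunctor D n).Additive] [Pretriangulated D]
    (P : ObjectProperty D) [P.IsTriangulated] (X : D) :
    IsFiltered (CostructuredArrow P.ι X) := by
  classical
  haveI : Nonempty (CostructuredArrow P.ι X) := by
    obtain ⟨Z, _, hZ⟩ := ObjectProperty.exists_prop_of_containsZero P
    exact ⟨CostructuredArrow.mk (Y := (⟨Z, hZ⟩ : P.FullSubcategory)) (0 : P.ι.obj ⟨Z, hZ⟩ ⟶ X)⟩
  haveI : IsFilteredOrEmpty (CostructuredArrow P.ι X) :=
    { cocone_objs := fun A B => by
        obtain ⟨Z, hZ, ⟨e⟩⟩ := P.ext_of_isTriangulatedClosed₂'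
          (binaryBiproductTriangle A.left.obj B.left.obj)
          (binaryBiproductTriangle_distinguished _ _) A.left.property B.left.property
        let Z' : P.FullSubcategory := ⟨Z, hZ⟩
        let m : P.ι.obj Z' ⟶ X := e.inv ≫ biprod.desc A.hom B.hom
        refine ⟨CostructuredArrow.mk m,
          CostructuredArrow.homMk (ObjectProperty.homMk (biprod.inl ≫ e.hom)) ?_,
          CostructuredArrow.homMk (ObjectProperty.homMk (biprod.inr ≫ e.hom)) ?_, trivial⟩
        · show (biprod.inl ≫ e.hom) ≫ e.inv ≫ biprod.desc A.hom B.hom = A.hom
          erw [Category.assoc, e.hom_inv_id_assoc]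
          exact biprod.inl_desc _ _
        · show (biprod.inr ≫ e.hom) ≫ e.inv ≫ biprod.desc A.hom B.hom = B.hom
          erw [Category.assoc, e.hom_inv_id_assoc]
          exact biprod.inr_desc _ _
      cocone_maps := fun A B f g => by
        obtain ⟨Z, hZ, b, c, hT⟩ := P.distinguished_cocone_triangle
          (f.left.hom - g.left.hom) A.left.property B.left.property
        have hf : f.left.hom ≫ B.hom = A.hom := CostructuredArrow.w f
        have hg : g.left.hom ≫ B.hom = A.hom := CostructuredArrow.w g
        obtain ⟨m, hm⟩ := Triangle.yoneda_exact₂ _ hT B.hom (by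
          show (f.left.hom - g.left.hom) ≫ B.hom = 0
          exact (Preadditive.sub_comp _ _ _).trans (sub_eq_zero.2 (hf.trans hg.symm)))
        let Z' : P.FullSubcategory := ⟨Z, hZ⟩
        let m' : P.ι.obj Z' ⟶ X := m
        refine ⟨CostructuredArrow.mk m',
          CostructuredArrow.homMk (ObjectProperty.homMk b) hm.symm, ?_⟩
        apply CostructuredArrow.hom_ext
        apply ObjectProperty.hom_ext
        have := comp_distTriang_mor_zero₁₂ _ hT
        show f.left.hom ≫ b = g.left.hom ≫ b
        exact sub_eq_zero.1 ((Preadditive.sub_comp _ _ _).symm.trans this) }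
  exact ⟨⟩

end Groth.Agent.S6708
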