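import Groth.Statements.S6710
import Groth.Agent.SchemeMorphisms.AssAlg.HomNonzero
-- import your own Groth.Agent.* helpers here

set_option autoImplicit false
universe u v
open CategoryTheory
open FunMor

namespace Groth.Agent.S6710

/-- The statement for an affine scheme written in terms of modules: let A be a commutative ring, M a
finitely presented A-module and N a nonzero A-module with Supp(N) ⊆ Supp(M). Then Hom_A(M, N) is
nonzero. -/
theorem result
    (A : Type u) [CommRing A] (M : Type v) [AddCommGroup M] [Module A M]
    [Module.FinitePresentation A M] (N : Type v) [AddCommGroup N] [Module A N] [Nontrivial N]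
    (h : Module.support A N ⊆ Module.support A M) : Nontrivial (M →ₗ[A] N) := by
  exact Groth.AssAlgAux.nontrivial_linearMap_of_support_subset A M N h

end Groth.Agent.S6710
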