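import Groth.Statements.S6711
import Groth.Agent.QFAcyclic.Main

set_option autoImplicit false
universe u
open CategoryTheory AlgebraicGeometry
open FunMor

namespace Groth.Agent.S6711

open CategoryTheory.Limits in
/-- Suppose V and X are Noetherian schemes and f : V ⟶ X is separated and quasi-finite (quasi-finite
meaning locally quasi-finite and of finite type). If there is a coherent O_V-module K whose support
is all of V such that f_* K is coherent and R^q f_* K = 0 for every q > 0, then f is finite. -/
theorem result
    {V X : Scheme.{u}} [IsNoetherian V] [IsNoetherian X] (f : V ⟶ X)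
    [LocallyQuasiFinite f] [LocallyOfFiniteType f] [QuasiCompact f] [IsSeparated f]
    [HasInjectiveResolutions V.Modules]
    (K : V.Modules) (hK : Coh.IsCoh K) (hsupp : CohB1.support K = Set.univ)
    (hpush : Coh.IsCoh ((Coh.push f).obj K))
    (hvan : ∀ q : ℕ, 0 < q → IsZero ((Coh.Rpush f q).obj K)) : IsFinite f := by
  exact Groth.QFAcyclic.isFinite_of_acyclic f K hK hsupp hpush hvan

end Groth.Agent.S6711
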