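import Groth.Statements.S6712
import Groth.Agent.S10888

set_option autoImplicit false
universe u
open CategoryTheory AlgebraicGeometry
open DEquiv

namespace Groth.Agent.S6712

open CategoryTheory.Limits in
/-- Let S be a Noetherian scheme, s ∈ S, and p : X ⟶ Y a morphism over S where X ⟶ S and Y ⟶ S are
proper and X ⟶ S is flat. If the fibre X_s ⟶ Y_s of p is an isomorphism, then there is an open
neighbourhood U of s such that the base change X_U ⟶ Y_U of p is an isomorphism. -/
theorem result
    {S X Y : Scheme.{u}} [IsNoetherian S] (s : S) (g : X ⟶ S) (h : Y ⟶ S) (p : X ⟶ Y)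
    (w : p ≫ h = g) [IsProper g] [IsProper h] [Flat g]
    (hs : IsIso (pullback.map g (S.fromSpecResidueField s) h (S.fromSpecResidueField s) p (𝟙 _)
      (𝟙 _) ((Category.comp_id g).trans w.symm)
      ((Category.comp_id _).trans (Category.id_comp _).symm))) :
    ∃ U : S.Opens, s ∈ U ∧
      IsIso (pullback.map g U.ι h U.ι p (𝟙 _) (𝟙 _) ((Category.comp_id g).trans w.symm)
        ((Category.comp_id _).trans (Category.id_comp _).symm)) := by
  haveI : IsNoetherian S := inferInstance
  haveI : LocallyOfFinitePresentation g := inferInstance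
  haveI : LocallyOfFinitePresentation h := inferInstance
  obtain ⟨U, hU, hiso⟩ := Groth.Agent.S10888.result g h p w
  have hsU : s ∈ U := (hU s).2 ⟨@asIso _ _ _ _ _ hs, pullback.lift_fst _ _ _⟩
  refine ⟨U, hsU, ?_⟩
  let m := pullback.map g U.ι h U.ι p (𝟙 _) (𝟙 _) ((Category.comp_id g).trans w.symm)
    ((Category.comp_id _).trans (Category.id_comp _).symm)
  have hm₁ : m ≫ pullback.fst h U.ι = pullback.fst g U.ι ≫ p := pullback.lift_fst _ _ _
  have hm₂ : m ≫ pullback.snd h U.ι = pullback.snd g U.ι :=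
    (pullback.lift_snd _ _ _).trans (Category.comp_id _)
  have hbig : IsPullback (pullback.fst g U.ι) (m ≫ pullback.snd h U.ι) (p ≫ h) U.ι := by
    rw [hm₂, w]; exact IsPullback.of_hasPullback g U.ι
  have hsq : IsPullback (pullback.fst g U.ι) m p (pullback.fst h U.ι) :=
    IsPullback.of_bot hbig hm₁.symm (IsPullback.of_hasPullback h U.ι)
  let e := (isPullback_morphismRestrict h U).flip.isoPullback
  have he : pullback.fst h U.ι = e.inv ≫ (h ⁻¹ᵁ U).ι :=
    (IsPullback.isoPullback_inv_fst _).symm
  rw [he] at hsq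
  have hr := isPullback_morphismRestrict p (h ⁻¹ᵁ U)
  have hc : m ≫ e.inv ≫ (h ⁻¹ᵁ U).ι = pullback.fst g U.ι ≫ p := by rw [← he, hm₁]
  let l := hr.lift (m ≫ e.inv) (pullback.fst g U.ι) (by rw [Category.assoc, hc])
  have hl : IsPullback l m (p ∣_ (h ⁻¹ᵁ U)) e.inv :=
    IsPullback.of_right (by rw [hr.lift_snd]; exact hsq) (hr.lift_fst _ _ _) hr.flip
  haveI : IsIso (p ∣_ (h ⁻¹ᵁ U)) := hiso
  exact MorphismProperty.of_isPullback (P := MorphismProperty.isomorphisms Scheme) hl
    (MorphismProperty.isomorphisms.infer_property _)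

end Groth.Agent.S6712
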