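import Groth.Statements.S6713
-- import your own Groth.Agent.* helpers here

set_option autoImplicit false
universe w v u
open CategoryTheory
open DEquiv

namespace Groth.Agent.S6713

section helpers

variable {A : Type u} [Category.{v} A] [Abelian A] (e : ℕ → A)

/-- combinatorial data of a bounded complex with terms among the `e n` -/
def Code : Type v :=
  Σ (_ : ℤ) (N : ℕ) (n : Fin N → ℕ), ∀ i j : Fin N, (e (n i) ⟶ e (n j))

/-- `K` is described by the code `c` -/
def Describes (c : Code e) (K : CochainComplex A ℤ) : Prop :=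
  (∀ p : ℤ, (p < c.1 ∨ c.1 + c.2.1 ≤ p) → Limits.IsZero (K.X p)) ∧
  ∃ φ : ∀ i : Fin c.2.1, K.X (c.1 + i) ≅ e (c.2.2.1 i),
    ∀ i j : Fin c.2.1, (φ i).inv ≫ K.d (c.1 + i) (c.1 + j) ≫ (φ j).hom = c.2.2.2 i j

lemma countable_code (hhom : ∀ X Y : A, Countable (X ⟶ Y)) : Countable (Code e) := by
  unfold Code
  infer_instance

lemma nonempty_iso_of_describes {c : Code e} {K L : CochainComplex A ℤ}
    (hK : Describes e c K) (hL : Describes e c L) : Nonempty (K ≅ L) := by
  obtain ⟨zK, φ, hφ⟩ := hK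
  obtain ⟨zL, ψ, hψ⟩ := hL
  have H : ∀ p : ℤ, Nonempty {w : K.X p ≅ L.X p //
      ∀ (i : Fin c.2.1) (h : c.1 + i = p),
        w.hom = (K.XIsoOfEq h).inv ≫ (φ i).hom ≫ (ψ i).inv ≫ (L.XIsoOfEq h).hom} := by
    intro p
    by_cases h : p < c.1 ∨ c.1 + c.2.1 ≤ p
    · refine ⟨⟨(zK p h).iso (zL p h), fun i hi => ?_⟩⟩
      exact (zK p h).eq_of_src _ _
    · obtain ⟨i, rfl⟩ : ∃ i : Fin c.2.1, c.1 + i = p :=
        ⟨⟨(p - c.1).toNat, by omega⟩, by simp; omega⟩
      refine ⟨⟨φ i ≪≫ (ψ i).symm, fun j hj => ?_⟩⟩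
      obtain rfl : j = i := Fin.ext (by omega)
      simp
  refine ⟨HomologicalComplex.Hom.isoOfComponents (fun p => (H p).some.1) ?_⟩
  intro p q _
  by_cases h : p < c.1 ∨ c.1 + c.2.1 ≤ p
  · exact (zK p h).eq_of_src _ _
  by_cases h' : q < c.1 ∨ c.1 + c.2.1 ≤ q
  · exact (zL q h').eq_of_tgt _ _
  obtain ⟨i, rfl⟩ : ∃ i : Fin c.2.1, c.1 + i = p :=
    ⟨⟨(p - c.1).toNat, by omega⟩, by simp; omega⟩
  obtain ⟨j, rfl⟩ : ∃ j : Fin c.2.1, c.1 + j = q :=
    ⟨⟨(q - c.1).toNat, by omega⟩, by simp; omega⟩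
  rw [(H _).some.2 i rfl, (H _).some.2 j rfl]
  simp only [HomologicalComplex.XIsoOfEq_rfl, Iso.refl_hom, Iso.refl_inv, Category.id_comp,
    Category.comp_id, Category.assoc]
  have h1 := (hφ i j).trans (hψ i j).symm
  rw [Iso.inv_comp_eq] at h1
  rw [← cancel_mono (ψ j).hom]
  simp [h1]

lemma exists_code (he : ∀ X : A, ∃ n : ℕ, Nonempty (X ≅ e n)) (K : CochainComplex A ℤ) (a b : ℤ)
    [K.IsStrictlyGE a] [K.IsStrictlyLE b] : ∃ c : Code e, Describes e c K := by
  let N := (b + 1 - a).toNat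
  choose n φ using fun i : Fin N => he (K.X (a + i))
  refine ⟨⟨a, N, n, fun i j => (φ i).some.inv ≫ K.d (a + i) (a + j) ≫ (φ j).some.hom⟩,
    fun p hp => ?_, fun i => (φ i).some, fun i j => rfl⟩
  rcases hp with hp | hp
  · exact K.isZero_of_isStrictlyGE a p hp
  · refine K.isZero_of_isStrictlyLE b p ?_
    simp only [N] at hp
    omega

lemma countable_hom_of_describes (hhom : ∀ X Y : A, Countable (X ⟶ Y)) {c : Code e}
    {K : CochainComplex A ℤ} (hK : Describes e c K) (L : CochainComplex A ℤ) :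
    Countable (K ⟶ L) := by
  refine Function.Injective.countable
    (f := fun (g : K ⟶ L) => fun i : Fin c.2.1 => g.f (c.1 + i)) fun g g' h => ?_
  ext p
  by_cases hp : p < c.1 ∨ c.1 + c.2.1 ≤ p
  · exact (hK.1 p hp).eq_of_src _ _
  · obtain ⟨i, rfl⟩ : ∃ i : Fin c.2.1, c.1 + i = p :=
      ⟨⟨(p - c.1).toNat, by omega⟩, by simp; omega⟩
    exact congrFun h i

/-- a chosen complex for each code that has one -/
noncomputable def model (c : {c : Code e // ∃ K, Describes e c K}) : CochainComplex A ℤ :=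
  c.2.choose

variable [HasDerivedCategory.{w} A]

open DerivedCategory

lemma countable_hom (hhom : ∀ X Y : A, Countable (X ⟶ Y))
    (he : ∀ X : A, ∃ n : ℕ, Nonempty (X ≅ e n)) (K L : CochainComplex A ℤ) (a b : ℤ)
    [K.IsStrictlyGE a] [K.IsStrictlyLE b] [L.IsStrictlyGE a] :
    Countable (Q.obj K ⟶ Q.obj L) := by
  haveI := countable_code e hhom
  let T := Σ c : {c : Code e // ∃ K, Describes e c K},
    {s : model e c ⟶ K // IsIso (Q.map s)} × (model e c ⟶ L)
  haveI : ∀ c (L : CochainComplex A ℤ), Countable (model e c ⟶ L) := fun c L =>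
    countable_hom_of_describes e hhom c.2.choose_spec L
  haveI : Countable T := inferInstance
  let F : T → (Q.obj K ⟶ Q.obj L) := fun t =>
    haveI := t.2.1.2
    inv (Q.map t.2.1.1) ≫ Q.map t.2.2
  refine Function.Surjective.countable (f := F) fun f => ?_
  obtain ⟨X', _, _, s, hs, g, rfl⟩ := right_fac_of_isStrictlyLE_of_isStrictlyGE a b f
  obtain ⟨c, hc⟩ := exists_code e he X' a b
  obtain ⟨w⟩ := nonempty_iso_of_describes e (Exists.choose_spec (⟨X', hc⟩ : ∃ K, Describes e c K)) hc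
  have hws : IsIso (Q.map (w.hom ≫ s)) := by rw [Functor.map_comp]; infer_instance
  refine ⟨⟨⟨c, X', hc⟩, ⟨w.hom ≫ s, hws⟩, w.hom ≫ g⟩, ?_⟩
  change inv (Q.map (w.hom ≫ s)) ≫ Q.map (w.hom ≫ g) = inv (Q.map s) ≫ Q.map g
  rw [IsIso.inv_comp_eq, Functor.map_comp, Functor.map_comp, Category.assoc, IsIso.hom_inv_id_assoc]

end helpers

/-- Let A be an abelian category which is countable: Hom(X, Y) is countable for all objects X, Y and
there are countably many isomorphism classes of objects. Then the bounded derived category D^b(A) is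
countable in the same sense. -/
theorem result
    {A : Type u} [Category.{v} A] [Abelian A] [HasDerivedCategory.{w} A]
    (hhom : ∀ X Y : A, Countable (X ⟶ Y))
    (hiso : ∃ e : ℕ → A, ∀ X : A, ∃ n : ℕ, Nonempty (X ≅ e n)) :
    (∀ K L : DerivedCategory.Bounded A, Countable (K ⟶ L)) ∧
      ∃ e : ℕ → DerivedCategory.Bounded A, ∀ K : DerivedCategory.Bounded A,
        ∃ n : ℕ, Nonempty (K ≅ e n) := by
  obtain ⟨e, he⟩ := hiso
  haveI := countable_code e hhom
  refine ⟨fun K L => ?_, ?_⟩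
  · obtain ⟨⟨a, ha⟩, b, hb⟩ := K.property
    obtain ⟨⟨a', ha'⟩, b', hb'⟩ := L.property
    haveI : K.obj.IsGE (min a a') := DerivedCategory.TStructure.t.isGE_of_ge _ (min a a') a (by omega)
    haveI : L.obj.IsGE (min a a') := DerivedCategory.TStructure.t.isGE_of_ge _ (min a a') a' (by omega)
    haveI : K.obj.IsLE b := hb
    obtain ⟨K', _, _, ⟨u⟩⟩ := DerivedCategory.exists_iso_Q_obj_of_isGE_of_isLE K.obj (min a a') b
    obtain ⟨L', _, ⟨u'⟩⟩ := DerivedCategory.exists_iso_Q_obj_of_isGE L.obj (min a a')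
    haveI := countable_hom e hhom he K' L' (min a a') b
    exact Function.Injective.countable (f := fun g : K ⟶ L => u.inv ≫ g.hom ≫ u'.hom) fun g g' h => by
      ext
      simpa using h
  · let S := {c : Code e // ∃ (K : DerivedCategory.Bounded A) (K' : CochainComplex A ℤ),
      Describes e c K' ∧ Nonempty (K.obj ≅ DerivedCategory.Q.obj K')}
    have key : ∀ K : DerivedCategory.Bounded A, ∃ (c : S) (K' : CochainComplex A ℤ),
        Describes e c.1 K' ∧ Nonempty (K.obj ≅ DerivedCategory.Q.obj K') := by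
      intro K
      obtain ⟨⟨a, ha⟩, b, hb⟩ := K.property
      haveI : K.obj.IsGE a := ha
      haveI : K.obj.IsLE b := hb
      obtain ⟨K', _, _, hu⟩ := DerivedCategory.exists_iso_Q_obj_of_isGE_of_isLE K.obj a b
      obtain ⟨c, hc⟩ := exists_code e he K' a b
      exact ⟨⟨c, K, K', hc, hu⟩, K', hc, hu⟩
    have hS : Nonempty S := ⟨(key ⟨(DerivedCategory.singleFunctor A 0).obj (e 0),
      ⟨0, inferInstance⟩, ⟨0, inferInstance⟩⟩).choose⟩
    obtain ⟨σ, hσ⟩ := exists_surjective_nat S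
    refine ⟨fun n => (σ n).2.choose, fun K => ?_⟩
    obtain ⟨c, K', hc, ⟨u⟩⟩ := key K
    obtain ⟨n, rfl⟩ := hσ c
    obtain ⟨M', hM', ⟨v'⟩⟩ := (σ n).2.choose_spec
    obtain ⟨w⟩ := nonempty_iso_of_describes e hc hM'
    exact ⟨n, ⟨ObjectProperty.isoMk _ (u ≪≫ DerivedCategory.Q.mapIso w ≪≫ v'.symm)⟩⟩

end Groth.Agent.S6713
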