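import Groth.Statements.S6715
import Groth.Agent.FunMorFP.Universal
-- import your own Groth.Agent.* helpers here

set_option autoImplicit false
universe u v' u'
open CategoryTheory CategoryTheory.Limits
open FunMor

namespace Groth.Agent.S6715

/-- Let A be a commutative ring and B an additive category with filtered colimits. Let F' be a functor
from A-modules to B commuting with filtered colimits whose restriction to the full subcategory of
finitely presented A-modules is additive (F' is then the extension of that restriction). Then F' is
additive and preserves all small direct sums. -/
theorem result
    (A : Type u) [CommRing A] {B : Type u'} [Category.{v'} B] [Preadditive B] [HasFiniteBiproducts B]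
    [HasFilteredColimitsOfSize.{u, u} B]
    (F' : ModuleCat.{u} A ⥤ B) [PreservesFilteredColimitsOfSize.{u, u} F']
    [(ObjectProperty.ι (fun M : ModuleCat.{u} A => Module.FinitePresentation A M) ⋙ F').Additive] :
    F'.Additive ∧ ∀ J : Type u, PreservesColimitsOfShape (Discrete J) F' := by
  haveI : F'.Additive := Groth.FunMorFP.additive_of_additive_on_fp F'
  refine ⟨inferInstance, fun J => ?_⟩
  haveI : PreservesFiniteCoproducts F' := ⟨fun _ => preservesCoproductsOfShape_of_preservesBiproductsOfShape F'⟩
  exact Groth.FunMorFP.preservesColimitsOfShape_discrete F' 

end Groth.Agent.S6715
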