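import Groth.Statements.S6725
import Groth.Agent.FunMorFP.RightExactValue

set_option autoImplicit false
universe u v' u'
open CategoryTheory CategoryTheory.Limits
open FunMor

namespace Groth.Agent.S6725

/-- Essential surjectivity of the functor F ↦ (F(A), induced A-action): let A be a commutative ring and
B an additive category with cokernels. For every object K of B and ring map κ : A → End(K) there
exist a right exact functor F from the category of finitely presented A-modules to B and an
isomorphism F(A) ≅ K carrying F(multiplication by a) to κ(a) for every a ∈ A. -/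
theorem result
    (A : Type u) [CommRing A] {B : Type u'} [Category.{v'} B] [Preadditive B] [HasFiniteBiproducts B]
    [HasCokernels B] (K : B) (κ : A →+* End K) :
    ∃ (F : (ObjectProperty.FullSubcategory (fun M : ModuleCat.{u} A => Module.FinitePresentation A M)) ⥤ B) (_ : PreservesFiniteColimits F)
      (e : F.obj (⟨ModuleCat.of A A, inferInstance⟩ : (ObjectProperty.FullSubcategory (fun M : ModuleCat.{u} A => Module.FinitePresentation A M))) ≅ K),
      ∀ a : A, F.map (ObjectProperty.homMk (ModuleCat.ofHom (LinearMap.lsmul A A a)) : (⟨ModuleCat.of A A, inferInstance⟩ : (ObjectProperty.FullSubcategory (fun M : ModuleCat.{u} A => Module.FinitePresentation A M))) ⟶ (⟨ModuleCat.of A A, inferInstance⟩ : (ObjectProperty.FullSubcategory (fun M : ModuleCat.{u} A => Module.FinitePresentation A M)))) ≫ e.hom = e.hom ≫ κ a := by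
  exact ⟨Groth.FunMorFP.valueFunctor κ, inferInstance,
    Groth.FunMorFP.valueIso κ _ (LinearEquiv.refl A A),
    fun a => Groth.FunMorFP.valueIso_natural κ (⟨ModuleCat.of A A, inferInstance⟩ : (Groth.FunMorFP.fpProp A).FullSubcategory) (LinearEquiv.refl A A) a
      (ObjectProperty.homMk (ModuleCat.ofHom (LinearMap.lsmul A A a))) fun _ => rfl⟩

end Groth.Agent.S6725
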