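import Groth.Statements.S6726
import Groth.Agent.FunMorFP.Universal
-- import your own Groth.Agent.* helpers here

set_option autoImplicit false
universe u v' u'
open CategoryTheory CategoryTheory.Limits
open FunMor

namespace Groth.Agent.S6726

/-- Full faithfulness of the functor F ↦ (F(A), induced A-action): let A be a commutative ring, B an
additive category with cokernels, and F, F' right exact functors from the category of finitely
presented A-modules to B. Then two natural transformations F ⟶ F' with the same component at A are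
equal, and a morphism φ : F(A) ⟶ F'(A) is the component at A of a natural transformation as soon as
it commutes with F and F' applied to multiplication by every a ∈ A. -/
theorem result
    (A : Type u) [CommRing A] {B : Type u'} [Category.{v'} B] [Preadditive B] [HasFiniteBiproducts B]
    [HasCokernels B] (F F' : (ObjectProperty.FullSubcategory (fun M : ModuleCat.{u} A => Module.FinitePresentation A M)) ⥤ B)
    [PreservesFiniteColimits F] [PreservesFiniteColimits F'] :
    (∀ t t' : F ⟶ F', t.app (⟨ModuleCat.of A A, inferInstance⟩ : (ObjectProperty.FullSubcategory (fun M : ModuleCat.{u} A => Module.FinitePresentation A M))) = t'.app (⟨ModuleCat.of A A, inferInstance⟩ : (ObjectProperty.FullSubcategory (fun M : ModuleCat.{u} A => Module.FinitePresentation A M))) → t = t') ∧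
    ∀ φ : F.obj (⟨ModuleCat.of A A, inferInstance⟩ : (ObjectProperty.FullSubcategory (fun M : ModuleCat.{u} A => Module.FinitePresentation A M))) ⟶ F'.obj (⟨ModuleCat.of A A, inferInstance⟩ : (ObjectProperty.FullSubcategory (fun M : ModuleCat.{u} A => Module.FinitePresentation A M))),
      (∀ a : A, F.map (ObjectProperty.homMk (ModuleCat.ofHom (LinearMap.lsmul A A a)) : (⟨ModuleCat.of A A, inferInstance⟩ : (ObjectProperty.FullSubcategory (fun M : ModuleCat.{u} A => Module.FinitePresentation A M))) ⟶ (⟨ModuleCat.of A A, inferInstance⟩ : (ObjectProperty.FullSubcategory (fun M : ModuleCat.{u} A => Module.FinitePresentation A M)))) ≫ φ = φ ≫ F'.map (ObjectProperty.homMk (ModuleCat.ofHom (LinearMap.lsmul A A a)) : (⟨ModuleCat.of A A, inferInstance⟩ : (ObjectProperty.FullSubcategory (fun M : ModuleCat.{u} A => Module.FinitePresentation A M))) ⟶ (⟨ModuleCat.of A A, inferInstance⟩ : (ObjectProperty.FullSubcategory (fun M : ModuleCat.{u} A => Module.FinitePresentation A M))))) →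
      ∃ t : F ⟶ F', t.app (⟨ModuleCat.of A A, inferInstance⟩ : (ObjectProperty.FullSubcategory (fun M : ModuleCat.{u} A => Module.FinitePresentation A M))) = φ := by
  haveI := Groth.FunMorFP.additive_of_rightExact F
  haveI := Groth.FunMorFP.additive_of_rightExact F'
  refine ⟨fun t t' h => NatTrans.ext (funext fun M => ?_), fun φ hφ => ?_⟩
  · refine (Groth.FunMorFP.bijective_unitF F M _).1 (LinearMap.ext fun x => ?_)
    show Groth.FunMorFP.elemF F M x ≫ t.app M = Groth.FunMorFP.elemF F M x ≫ t'.app M
    unfold Groth.FunMorFP.elemF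
    rw [t.naturality, t'.naturality]
    exact congrArg (· ≫ _) h
  · let L (M : (Groth.FunMorFP.fpProp A).FullSubcategory) :
        M.obj →ₗ[A] Groth.FunMorFP.HomMod (Groth.FunMorFP.endAction F) (F'.obj M) :=
      { toFun := fun x => Groth.FunMorFP.HomMod.mk (φ ≫ Groth.FunMorFP.elemF F' M x)
        map_add' := fun x y =>
          (congrArg (φ ≫ ·) (Groth.FunMorFP.elemF_add F' M x y)).trans (Preadditive.comp_add _ _ _ _ _ _)
        map_smul' := fun a x => by
          show φ ≫ Groth.FunMorFP.elemF F' M (a • x) = _ ≫ φ ≫ Groth.FunMorFP.elemF F' M x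
          rw [Groth.FunMorFP.elemF_smul]
          exact (Category.assoc _ _ _).symm.trans ((congrArg (· ≫ _) (hφ a).symm).trans (Category.assoc _ _ _)) }
    choose t ht using fun M => (Groth.FunMorFP.bijective_unitF F M (F'.obj M)).2 (L M)
    have ht' : ∀ (M : (Groth.FunMorFP.fpProp A).FullSubcategory) (x : M.obj),
        Groth.FunMorFP.elemF F M x ≫ t M = φ ≫ Groth.FunMorFP.elemF F' M x := fun M x =>
      congrArg Groth.FunMorFP.HomMod.out (LinearMap.congr_fun (ht M) x)
    refine ⟨⟨t, fun M N f => (Groth.FunMorFP.bijective_unitF F M _).1 (LinearMap.ext fun x => ?_)⟩, ?_⟩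
    · show Groth.FunMorFP.elemF F M x ≫ F.map f ≫ t N = Groth.FunMorFP.elemF F M x ≫ t M ≫ F'.map f
      rw [← Category.assoc, Groth.FunMorFP.elemF_map, ht', ← Category.assoc, ht', Category.assoc,
        Groth.FunMorFP.elemF_map]
    · have h := ht' (Groth.FunMorFP.ring A) (1 : A)
      have h1 : (ObjectProperty.homMk (Groth.FunMorFP.pt (M := (Groth.FunMorFP.ring A).obj) (1 : A)) :
          Groth.FunMorFP.ring A ⟶ Groth.FunMorFP.ring A) = 𝟙 _ := by ext; simp
      have hF : Groth.FunMorFP.elemF F (Groth.FunMorFP.ring A) (1 : A) = 𝟙 _ := (congrArg F.map h1).trans (F.map_id _)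
      have hG : Groth.FunMorFP.elemF F' (Groth.FunMorFP.ring A) (1 : A) = 𝟙 _ := (congrArg F'.map h1).trans (F'.map_id _)
      rw [hF, hG] at h
      exact ((Category.id_comp _).symm.trans h).trans (Category.comp_id _)

end Groth.Agent.S6726
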