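import Groth.Statements.S6731
import Groth.Agent.Duality.SerreFunctor

set_option autoImplicit false
universe w v u
open CategoryTheory
open DEquiv

namespace Groth.Agent.S6731

open CategoryTheory.Limits CategoryTheory.Pretriangulated in
/-- Let k be a field and T a k-linear triangulated category with dim_k Hom(X, Y) < ∞ for all X, Y. Let
(S, c) and (S', c') be Serre functors: k-linear equivalences T ⥤ T with k-linear isomorphisms
c_{X,Y} : Hom(X, Y) ≅ Hom(Y, S X)^∨ natural in X and Y (likewise c'). Then there is a unique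
isomorphism of functors φ : S ≅ S' compatible with c and c', i.e. c_{X,Y}(f) is c'_{X,Y}(f) composed
with postcomposition by φ_X. -/
theorem result
    {k : Type w} [Field k]
    {T : Type u} [Category.{v} T] [Preadditive T] [Linear k T] [HasZeroObject T] [HasShift T ℤ]
    [∀ n : ℤ, (shiftFunctor T n).Additive] [∀ n : ℤ, (shiftFunctor T n).Linear k] [Pretriangulated T]
    [IsTriangulated T] [∀ X Y : T, Module.Finite k (X ⟶ Y)]
    (S : T ≌ T) [S.functor.Additive] [S.functor.Linear k]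
    (c : ∀ X Y : T, (X ⟶ Y) ≃ₗ[k] Module.Dual k (Y ⟶ S.functor.obj X))
    (hc₁ : ∀ (X Y Y' : T) (f : X ⟶ Y) (g : Y ⟶ Y'),
      c X Y' (f ≫ g) = (c X Y f) ∘ₗ Linear.leftComp k (S.functor.obj X) g)
    (hc₂ : ∀ (X' X Y : T) (a : X' ⟶ X) (f : X ⟶ Y),
      c X' Y (a ≫ f) = (c X Y f) ∘ₗ Linear.rightComp k Y (S.functor.map a))
    (S' : T ≌ T) [S'.functor.Additive] [S'.functor.Linear k]
    (c' : ∀ X Y : T, (X ⟶ Y) ≃ₗ[k] Module.Dual k (Y ⟶ S'.functor.obj X))
    (hc'₁ : ∀ (X Y Y' : T) (f : X ⟶ Y) (g : Y ⟶ Y'),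
      c' X Y' (f ≫ g) = (c' X Y f) ∘ₗ Linear.leftComp k (S'.functor.obj X) g)
    (hc'₂ : ∀ (X' X Y : T) (a : X' ⟶ X) (f : X ⟶ Y),
      c' X' Y (a ≫ f) = (c' X Y f) ∘ₗ Linear.rightComp k Y (S'.functor.map a)) :
    ∃! φ : S.functor ≅ S'.functor, ∀ (X Y : T) (f : X ⟶ Y),
      c X Y f = (c' X Y f) ∘ₗ Linear.rightComp k Y (φ.hom.app X) := by
  exact Groth.Duality.Serre.unique_iso S.functor S'.functor c hc₁ hc₂ c' hc'₁ hc'₂

end Groth.Agent.S6731
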