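import Groth.Statements.S6732
import Groth.Agent.Duality.SerreFunctor

set_option autoImplicit false
universe w v u
open CategoryTheory
open DEquiv

namespace Groth.Agent.S6732

open CategoryTheory.Limits CategoryTheory.Pretriangulated

section trace

variable {k : Type w} [Field k] {T : Type u} [Category.{v} T] [Preadditive T] [Linear k T]
  (S : T ≌ T) [S.functor.Additive] [S.functor.Linear k]
  (c : ∀ X Y : T, (X ⟶ Y) ≃ₗ[k] Module.Dual k (Y ⟶ S.functor.obj X))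

/-- the trace -/
noncomputable def tr (X : T) : Module.Dual k (X ⟶ S.functor.obj X) := c X X (𝟙 X)

variable (hc₁ : ∀ (X Y Y' : T) (f : X ⟶ Y) (g : Y ⟶ Y'),
      c X Y' (f ≫ g) = (c X Y f) ∘ₗ Linear.leftComp k (S.functor.obj X) g)
    (hc₂ : ∀ (X' X Y : T) (a : X' ⟶ X) (f : X ⟶ Y),
      c X' Y (a ≫ f) = (c X Y f) ∘ₗ Linear.rightComp k Y (S.functor.map a))

include hc₁ in
lemma c_eq {X Y : T} (f : X ⟶ Y) (g : Y ⟶ S.functor.obj X) : c X Y f g = tr S c X (f ≫ g) := by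
  have := LinearMap.congr_fun (hc₁ X X Y (𝟙 X) f) g
  rw [Category.id_comp] at this
  exact this

include hc₁ hc₂ in
lemma tr_cyclic {X' X : T} (a : X' ⟶ X) (w : X ⟶ S.functor.obj X') :
    tr S c X' (a ≫ w) = tr S c X (w ≫ S.functor.map a) := by
  have := LinearMap.congr_fun (hc₂ X' X X a (𝟙 X)) w
  rw [Category.comp_id, c_eq S c hc₁] at this
  exact this

variable [∀ X Y : T, Module.Finite k (X ⟶ Y)]

include hc₁ in
lemma tr_ext {X Y : T} {g g' : Y ⟶ S.functor.obj X}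
    (h : ∀ f : X ⟶ Y, tr S c X (f ≫ g) = tr S c X (f ≫ g')) : g = g' := by
  apply (Groth.Duality.Serre.flipPairing (c X Y)).injective
  refine LinearMap.ext fun f => ?_
  rw [Groth.Duality.Serre.flipPairing_apply, Groth.Duality.Serre.flipPairing_apply,
    c_eq S c hc₁, c_eq S c hc₁]
  exact h f

include hc₁ in
lemma exists_tr {X Y : T} (φ : Module.Dual k (X ⟶ Y)) :
    ∃ g : Y ⟶ S.functor.obj X, ∀ f : X ⟶ Y, tr S c X (f ≫ g) = φ f := by
  obtain ⟨g, rfl⟩ := (Groth.Duality.Serre.flipPairing (c X Y)).surjective φ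
  exact ⟨g, fun f => by rw [Groth.Duality.Serre.flipPairing_apply, c_eq S c hc₁]⟩

variable [HasZeroObject T] [HasShift T ℤ] [∀ n : ℤ, (shiftFunctor T n).Additive]
  [∀ n : ℤ, (shiftFunctor T n).Linear k] [Pretriangulated T]

/-- the inverse of the shift on morphisms -/
noncomputable def down (X Y : T) : (X⟦(1 : ℤ)⟧ ⟶ Y⟦(1 : ℤ)⟧) →ₗ[k] (X ⟶ Y) :=
  (LinearEquiv.ofBijective ((shiftFunctor T (1 : ℤ)).mapLinearMap k (X := X) (Y := Y))
    ((Functor.FullyFaithful.ofFullyFaithful (shiftFunctor T (1 : ℤ))).map_bijective X Y)).symm.toLinearMap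

lemma down_map {X Y : T} (f : X ⟶ Y) : down (k := k) X Y (f⟦(1 : ℤ)⟧') = f :=
  (LinearEquiv.ofBijective ((shiftFunctor T (1 : ℤ)).mapLinearMap k (X := X) (Y := Y))
    ((Functor.FullyFaithful.ofFullyFaithful (shiftFunctor T (1 : ℤ))).map_bijective X Y)).symm_apply_apply f

include hc₁ in
lemma exists_E (X : T) : ∃ E : (S.functor.obj X)⟦(1 : ℤ)⟧ ⟶ S.functor.obj (X⟦(1 : ℤ)⟧),
    ∀ w : X ⟶ S.functor.obj X, tr S c _ (w⟦(1 : ℤ)⟧' ≫ E) = - tr S c X w := by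
  obtain ⟨E, hE⟩ := exists_tr S c hc₁
    (- (tr S c X ∘ₗ down X (S.functor.obj X)) : Module.Dual k (X⟦(1 : ℤ)⟧ ⟶ (S.functor.obj X)⟦(1 : ℤ)⟧))
  exact ⟨E, fun w => by rw [hE]; simp [down_map]⟩

/-- the comparison map -/
noncomputable def E (X : T) : (S.functor.obj X)⟦(1 : ℤ)⟧ ⟶ S.functor.obj (X⟦(1 : ℤ)⟧) :=
  (exists_E S c hc₁ X).choose

lemma E_spec {X : T} (w : X ⟶ S.functor.obj X) :
    tr S c _ (w⟦(1 : ℤ)⟧' ≫ E S c hc₁ X) = - tr S c X w :=
  (exists_E S c hc₁ X).choose_spec w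

include hc₂ in
lemma E_natural {X' X : T} (a : X' ⟶ X) :
    E S c hc₁ X' ≫ S.functor.map (a⟦(1 : ℤ)⟧') = (S.functor.map a)⟦(1 : ℤ)⟧' ≫ E S c hc₁ X := by
  refine tr_ext S c hc₁ fun f => ?_
  obtain ⟨w, rfl⟩ := (shiftFunctor T (1 : ℤ)).map_surjective f
  rw [← Category.assoc, ← tr_cyclic S c hc₁ hc₂, ← Category.assoc, ← Functor.map_comp, E_spec,
    ← Category.assoc, ← Functor.map_comp, E_spec, tr_cyclic S c hc₁ hc₂]

lemma E_bijective (X Y : T) :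
    Function.Bijective fun r : Y ⟶ (S.functor.obj X)⟦(1 : ℤ)⟧ => r ≫ E S c hc₁ X := by
  obtain ⟨Y', ⟨i⟩⟩ : ∃ Y', Nonempty (Y'⟦(1 : ℤ)⟧ ≅ Y) :=
    ⟨_, ⟨(shiftFunctor T (1 : ℤ)).objObjPreimageIso Y⟩⟩
  have key : ∀ (g : Y' ⟶ S.functor.obj X) (f : X ⟶ Y'),
      tr S c _ (f⟦(1 : ℤ)⟧' ≫ g⟦(1 : ℤ)⟧' ≫ E S c hc₁ X) = - tr S c X (f ≫ g) := fun g f => by
    rw [← Category.assoc, ← Functor.map_comp, E_spec]
  refine ⟨fun r r' h => ?_, fun s => ?_⟩
  · obtain ⟨g, hg⟩ := (shiftFunctor T (1 : ℤ)).map_surjective (i.hom ≫ r)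
    obtain ⟨g', hg'⟩ := (shiftFunctor T (1 : ℤ)).map_surjective (i.hom ≫ r')
    rw [← cancel_epi i.hom, ← hg, ← hg', tr_ext S c hc₁ (g := g) (g' := g') fun f => ?_]
    have h' : r ≫ E S c hc₁ X = r' ≫ E S c hc₁ X := h
    rw [← neg_inj, ← key, ← key, hg, hg', Category.assoc, Category.assoc, h']
  · obtain ⟨g, hg⟩ := exists_tr S c hc₁
      (- (tr S c _ ∘ₗ Linear.rightComp k (X⟦(1 : ℤ)⟧) (i.hom ≫ s) ∘ₗ
        (shiftFunctor T (1 : ℤ)).mapLinearMap k (X := X) (Y := Y')) : Module.Dual k (X ⟶ Y'))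
    refine ⟨i.inv ≫ g⟦(1 : ℤ)⟧', ?_⟩
    show (i.inv ≫ g⟦(1 : ℤ)⟧') ≫ E S c hc₁ X = s
    rw [Category.assoc, Iso.inv_comp_eq]
    refine tr_ext S c hc₁ fun f => ?_
    obtain ⟨w, rfl⟩ := (shiftFunctor T (1 : ℤ)).map_surjective f
    rw [key, hg, LinearMap.neg_apply, neg_neg]
    rfl

lemma isIso_of_bijective {X Y : T} (f : X ⟶ Y)
    (h : ∀ W : T, Function.Bijective fun r : W ⟶ X => r ≫ f) : IsIso f := by
  obtain ⟨g, hg⟩ := (h Y).2 (𝟙 Y)
  have hg' : g ≫ f = 𝟙 Y := hg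
  exact ⟨g, (h X).1 (show (f ≫ g) ≫ f = 𝟙 X ≫ f by
    rw [Category.assoc, hg', Category.comp_id, Category.id_comp]), hg'⟩

instance isIso_E (X : T) : IsIso (E S c hc₁ X) :=
  isIso_of_bijective _ fun Y => E_bijective S c hc₁ X Y

include hc₁ hc₂ in
lemma exact_map {X Y Z : T} {f : X ⟶ Y} {g : Y ⟶ Z} {h : Z ⟶ X⟦(1 : ℤ)⟧}
    (hT : Triangle.mk f g h ∈ distTriang T) {W : T} (x : W ⟶ S.functor.obj Y)
    (hx : x ≫ S.functor.map g = 0) : ∃ m, m ≫ S.functor.map f = x := by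
  let F : Module.Dual k (Y ⟶ W) := tr S c Y ∘ₗ Linear.rightComp k Y x
  have hF : F ∈ (Linear.leftComp k W f).dualMap.range := by
    rw [LinearMap.range_dualMap_eq_dualAnnihilator_ker, Submodule.mem_dualAnnihilator]
    intro y hy
    obtain ⟨z, rfl⟩ := Triangle.yoneda_exact₂ _ hT y hy
    show tr S c Y ((g ≫ z) ≫ x) = 0
    rw [Category.assoc, tr_cyclic S c hc₁ hc₂, Category.assoc, hx, comp_zero, map_zero]
  obtain ⟨φ, hφ⟩ := hF
  obtain ⟨m, hm⟩ := exists_tr S c hc₁ φ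
  refine ⟨m, tr_ext S c hc₁ fun y => ?_⟩
  rw [← Category.assoc, ← tr_cyclic S c hc₁ hc₂, ← Category.assoc, hm]
  exact LinearMap.congr_fun hφ y

include hc₂ in
lemma map_distinguished (T' : Triangle T) (hT : T' ∈ distTriang T) :
    Triangle.mk (S.functor.map T'.mor₁) (S.functor.map T'.mor₂)
      (S.functor.map T'.mor₃ ≫ inv (E S c hc₁ T'.obj₁)) ∈ distTriang T := by
  obtain ⟨A, B, C, f, g, h⟩ := T'
  change Triangle.mk f g h ∈ distTriang T at hT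
  show Triangle.mk (S.functor.map f) (S.functor.map g) (S.functor.map h ≫ inv (E S c hc₁ A)) ∈ _
  obtain ⟨Z, p, q, hZ⟩ := distinguished_cocone_triangle (S.functor.map f)
  let ψ : (C ⟶ S.functor.obj B) × (A⟦(1 : ℤ)⟧ ⟶ Z) →ₗ[k] (C ⟶ Z) :=
    (Linear.rightComp k C p).coprod (Linear.leftComp k Z h)
  let G : Module.Dual k ((C ⟶ S.functor.obj B) × (A⟦(1 : ℤ)⟧ ⟶ Z)) :=
    (tr S c B ∘ₗ Linear.leftComp k (S.functor.obj B) g).coprod
      (tr S c _ ∘ₗ Linear.rightComp k (A⟦(1 : ℤ)⟧) (q ≫ E S c hc₁ A))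
  have hG : G ∈ ψ.dualMap.range := by
    rw [LinearMap.range_dualMap_eq_dualAnnihilator_ker, Submodule.mem_dualAnnihilator]
    rintro ⟨b, a⟩ hba
    have hba' : b ≫ p + h ≫ a = 0 := hba
    obtain ⟨m, hm₁, hm₂⟩ : ∃ m : B ⟶ S.functor.obj A,
        g ≫ b = m ≫ S.functor.map f ∧ (- a) ≫ q = (-(f⟦(1 : ℤ)⟧')) ≫ m⟦(1 : ℤ)⟧' := by
      obtain ⟨m, hm₁, hm₂⟩ := complete_distinguished_triangle_morphism₁ _ _
        (rot_of_distTriang _ hT) hZ b (-a) (by
          show h ≫ (-a) = b ≫ p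
          rw [Preadditive.comp_neg, neg_eq_iff_add_eq_zero, add_comm]; exact hba')
      exact ⟨m, hm₁, hm₂.symm⟩
    rw [Preadditive.neg_comp, Preadditive.neg_comp, neg_inj] at hm₂
    show tr S c B (g ≫ b) + tr S c _ (a ≫ q ≫ E S c hc₁ A) = 0
    rw [hm₁, ← tr_cyclic S c hc₁ hc₂, ← Category.assoc a, hm₂, ← Functor.map_comp, E_spec,
      add_neg_cancel]
  obtain ⟨φ, hφ⟩ := hG
  obtain ⟨τ, hτ⟩ := exists_tr S c hc₁ φ
  have hp : p ≫ τ = S.functor.map g := by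
    refine tr_ext S c hc₁ fun b => ?_
    rw [← Category.assoc, hτ, ← tr_cyclic S c hc₁ hc₂]
    simpa [ψ, G] using LinearMap.congr_fun hφ (b, 0)
  have hq : τ ≫ S.functor.map h = q ≫ E S c hc₁ A := by
    refine tr_ext S c hc₁ fun a => ?_
    rw [← Category.assoc, ← tr_cyclic S c hc₁ hc₂, ← Category.assoc, hτ]
    simpa [ψ, G] using LinearMap.congr_fun hφ (0, a)
  have hτi : IsIso τ := by
    refine isIso_of_bijective τ fun W => ⟨fun r r' hr => ?_, fun s => ?_⟩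
    · rw [← sub_eq_zero]
      have h0 : (r - r') ≫ τ = 0 := by rw [Preadditive.sub_comp, sub_eq_zero]; exact hr
      generalize r - r' = d at h0 ⊢
      have hd : d ≫ q = 0 := by
        rw [← cancel_mono (E S c hc₁ A), Category.assoc, ← hq, reassoc_of% h0, zero_comp, zero_comp]
      obtain ⟨m, rfl⟩ : ∃ m : W ⟶ S.functor.obj B, d = m ≫ p := Triangle.coyoneda_exact₃ _ hZ d hd
      rw [Category.assoc, hp] at h0
      obtain ⟨l, rfl⟩ := exact_map S c hc₁ hc₂ hT m h0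
      rw [Category.assoc, show S.functor.map f ≫ p = 0 from comp_distTriang_mor_zero₁₂ _ hZ, comp_zero]
    · have h0 : (s ≫ S.functor.map h ≫ inv (E S c hc₁ A)) ≫ (S.functor.map f)⟦(1 : ℤ)⟧' = 0 := by
        rw [← cancel_mono (E S c hc₁ B), zero_comp, Category.assoc, ← E_natural S c hc₁ hc₂ f]
        have h31 : h ≫ f⟦(1 : ℤ)⟧' = 0 := comp_distTriang_mor_zero₃₁ _ hT
        simp [← Functor.map_comp, h31]
      obtain ⟨r, hr⟩ : ∃ r : W ⟶ Z, s ≫ S.functor.map h ≫ inv (E S c hc₁ A) = r ≫ q :=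
        Triangle.coyoneda_exact₁ _ hZ _ h0
      have hs : (r ≫ τ - s) ≫ S.functor.map h = 0 := by
        rw [Preadditive.sub_comp, Category.assoc, hq, ← Category.assoc, ← hr]
        simp
      obtain ⟨m, hm⟩ : ∃ m : W ⟶ S.functor.obj B, m ≫ S.functor.map g = r ≫ τ - s :=
        exact_map S c hc₁ hc₂ (rot_of_distTriang _ hT) (r ≫ τ - s) hs
      refine ⟨r - m ≫ p, ?_⟩
      show (r - m ≫ p) ≫ τ = s
      rw [Preadditive.sub_comp, Category.assoc m, hp, hm, sub_sub_cancel]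
  refine isomorphic_distinguished _ hZ _ (Iso.symm (Triangle.isoMk _ _ (Iso.refl _) (Iso.refl _)
    (@asIso _ _ _ _ τ hτi) ?_ ?_ ?_))
  · show S.functor.map f ≫ 𝟙 _ = 𝟙 _ ≫ S.functor.map f
    rw [Category.comp_id, Category.id_comp]
  · show p ≫ τ = 𝟙 _ ≫ S.functor.map g
    rw [Category.id_comp, hp]
  · show q ≫ (𝟙 _)⟦(1 : ℤ)⟧' = τ ≫ S.functor.map h ≫ inv (E S c hc₁ A)
    rw [reassoc_of% hq, IsIso.hom_inv_id, CategoryTheory.Functor.map_id]

include hc₂ in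
/-- the commutation isomorphism -/
noncomputable def eIso : shiftFunctor T (1 : ℤ) ⋙ S.functor ≅ S.functor ⋙ shiftFunctor T (1 : ℤ) :=
  NatIso.ofComponents (fun X => (asIso (E S c hc₁ X)).symm) fun {X' X} a => by
    have h := E_natural S c hc₁ hc₂ a
    simp only [Functor.comp_map, Iso.symm_hom, asIso_inv]
    rw [IsIso.comp_inv_eq, Category.assoc, ← h, IsIso.inv_hom_id_assoc]

end trace

open CategoryTheory.Limits CategoryTheory.Pretriangulated in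
/-- Let k be a field and T a k-linear triangulated category with dim_k Hom(X, Y) < ∞ for all X, Y, and
let (S, c) be a Serre functor: a k-linear equivalence T ⥤ T with k-linear isomorphisms c_{X,Y} :
Hom(X, Y) ≅ Hom(Y, S X)^∨ natural in X and Y. Then S is an exact functor of triangulated categories:
there is an isomorphism of functors S ∘ ⟦1⟧ ≅ ⟦1⟧ ∘ S such that for every distinguished triangle (A,
B, C, f, g, h) the triangle (S A, S B, S C, S f, S g, S h followed by that isomorphism at A) is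
distinguished. -/
theorem result
    {k : Type w} [Field k]
    {T : Type u} [Category.{v} T] [Preadditive T] [Linear k T] [HasZeroObject T] [HasShift T ℤ]
    [∀ n : ℤ, (shiftFunctor T n).Additive] [∀ n : ℤ, (shiftFunctor T n).Linear k] [Pretriangulated T]
    [IsTriangulated T] [∀ X Y : T, Module.Finite k (X ⟶ Y)]
    (S : T ≌ T) [S.functor.Additive] [S.functor.Linear k]
    (c : ∀ X Y : T, (X ⟶ Y) ≃ₗ[k] Module.Dual k (Y ⟶ S.functor.obj X))
    (hc₁ : ∀ (X Y Y' : T) (f : X ⟶ Y) (g : Y ⟶ Y'),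
      c X Y' (f ≫ g) = (c X Y f) ∘ₗ Linear.leftComp k (S.functor.obj X) g)
    (hc₂ : ∀ (X' X Y : T) (a : X' ⟶ X) (f : X ⟶ Y),
      c X' Y (a ≫ f) = (c X Y f) ∘ₗ Linear.rightComp k Y (S.functor.map a)) :
    ∃ e : shiftFunctor T (1 : ℤ) ⋙ S.functor ≅ S.functor ⋙ shiftFunctor T (1 : ℤ),
      ∀ T' ∈ distTriang T,
        Triangle.mk (S.functor.map T'.mor₁) (S.functor.map T'.mor₂)
          (S.functor.map T'.mor₃ ≫ e.hom.app T'.obj₁) ∈ distTriang T := by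
  exact ⟨eIso S c hc₁ hc₂, fun T' hT' => map_distinguished S c hc₁ hc₂ T' hT'⟩

end Groth.Agent.S6732
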