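import Groth.Statements.S6736
import Groth.Agent.FunMorKer.Acyclic
import Groth.Agent.PicAux.PullTensor
import Groth.Agent.Misc10.SymZeta.ProdQuot

set_option autoImplicit false
universe u
open CategoryTheory CategoryTheory.Limits AlgebraicGeometry
open FunMor

namespace Groth.Agent.S6736

/-- Let R be a ring and X, Y schemes over R with X quasi-compact with affine diagonal. Let K be a
quasi-coherent module on X ×_R Y which is flat over X and such that R^q pr_{2,*}(pr_1^* F ⊗ K) = 0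
for all quasi-coherent O_X-modules F and all q > 0. Then for every scheme T over R and every
quasi-coherent module F on T ×_R X, R^q pr_{13,*}(pr_{12}^* F ⊗ pr_{23}^* K) = 0 for all q > 0. Here
T ×_R X ×_R Y is realised as (T ×_R X) ×_X (X ×_R Y), with pr_{12}, pr_{23} its two projections and
pr_{13} the morphism to T ×_R Y determined by its two components. (Higher direct images as right
derived functors; the injective-resolution instances hold for module categories of schemes but are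
carried as binders.) -/
theorem result
    (R : Type u) [CommRing R] (X Y : Scheme.{u}) [X.Over (Spec (.of R))] [Y.Over (Spec (.of R))]
    [CompactSpace X] [IsAffineHom (pullback.diagonal (X ↘ Spec (.of R)))]
    [HasInjectiveResolutions (pullback (X ↘ Spec (.of R)) (Y ↘ Spec (.of R))).Modules]
    (K : (pullback (X ↘ Spec (.of R)) (Y ↘ Spec (.of R))).Modules) (hKq : Coh.IsQCoh K)
    (hKfl : FlatMod.IsFlatOver (pullback.fst (X ↘ Spec (.of R)) (Y ↘ Spec (.of R))) K)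
    (hKac : ∀ (F : X.Modules), Coh.IsQCoh F → ∀ q : ℕ, 0 < q →
      IsZero ((Coh.Rpush (pullback.snd (X ↘ Spec (.of R)) (Y ↘ Spec (.of R))) q).obj
        (CohB1.tensorMod ((Scheme.Modules.pullback (pullback.fst (X ↘ Spec (.of R)) (Y ↘ Spec (.of R)))).obj F) K)))
    (T : Scheme.{u}) [T.Over (Spec (.of R))]
    [HasInjectiveResolutions (pullback (pullback.snd (T ↘ Spec (.of R)) (X ↘ Spec (.of R))) (pullback.fst (X ↘ Spec (.of R)) (Y ↘ Spec (.of R)))).Modules]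
    (pr₁₃ : (pullback (pullback.snd (T ↘ Spec (.of R)) (X ↘ Spec (.of R))) (pullback.fst (X ↘ Spec (.of R)) (Y ↘ Spec (.of R)))) ⟶ (pullback (T ↘ Spec (.of R)) (Y ↘ Spec (.of R))))
    (h₁ : pr₁₃ ≫ pullback.fst (T ↘ Spec (.of R)) (Y ↘ Spec (.of R)) =
      pullback.fst _ _ ≫ pullback.fst (T ↘ Spec (.of R)) (X ↘ Spec (.of R)))
    (h₂ : pr₁₃ ≫ pullback.snd (T ↘ Spec (.of R)) (Y ↘ Spec (.of R)) =
      pullback.snd _ _ ≫ pullback.snd (X ↘ Spec (.of R)) (Y ↘ Spec (.of R)))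
    (F : (pullback (T ↘ Spec (.of R)) (X ↘ Spec (.of R))).Modules) (hF : Coh.IsQCoh F) (q : ℕ) (hq : 0 < q) :
    IsZero ((Coh.Rpush pr₁₃ q).obj
      (CohB1.tensorMod
        ((Scheme.Modules.pullback
          (pullback.fst (pullback.snd (T ↘ Spec (.of R)) (X ↘ Spec (.of R))) (pullback.fst (X ↘ Spec (.of R)) (Y ↘ Spec (.of R))))).obj F)
        ((Scheme.Modules.pullback
          (pullback.snd (pullback.snd (T ↘ Spec (.of R)) (X ↘ Spec (.of R))) (pullback.fst (X ↘ Spec (.of R)) (Y ↘ Spec (.of R))))).obj K))) := by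
  let S := Spec (CommRingCat.of R)
  haveI : K.IsQuasicoherent := hKq
  haveI : F.IsQuasicoherent := hF
  haveI : QuasiCompact (X ↘ S) := (HasAffineProperty.iff_of_isAffine (P := @QuasiCompact)).2 inferInstance
  haveI : QuasiSeparated (X ↘ S) := ⟨inferInstance⟩
  let fTX := pullback.fst (T ↘ S) (X ↘ S)
  let sTX := pullback.snd (T ↘ S) (X ↘ S)
  let p := pullback.fst (X ↘ S) (Y ↘ S)
  let qXY := pullback.snd (X ↘ S) (Y ↘ S)
  let u₀ := pullback.fst sTX p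
  let h₀ := pullback.snd sTX p
  haveI : QuasiCompact qXY := MorphismProperty.pullback_snd (P := @QuasiCompact) _ _ inferInstance
  haveI : QuasiSeparated qXY := MorphismProperty.pullback_snd (P := @QuasiSeparated) _ _ inferInstance
  have t₂ : IsPullback fTX sTX (T ↘ S) (X ↘ S) := IsPullback.of_hasPullback _ _
  have s₀ : IsPullback u₀ h₀ sTX p := IsPullback.of_hasPullback _ _
  have hbig : IsPullback (pr₁₃ ≫ pullback.fst (T ↘ S) (Y ↘ S)) h₀ (T ↘ S) (qXY ≫ (Y ↘ S)) := by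
    have hw : qXY ≫ (Y ↘ S) = p ≫ (X ↘ S) := pullback.condition.symm
    rw [h₁, hw]
    exact s₀.paste_horiz t₂
  have hsq : IsPullback pr₁₃ h₀ (pullback.snd (T ↘ S) (Y ↘ S)) qXY :=
    hbig.of_right h₂ (IsPullback.of_hasPullback _ _)
  haveI : QuasiCompact pr₁₃ := MorphismProperty.of_isPullback hsq.flip ‹QuasiCompact qXY›
  haveI : QuasiSeparated pr₁₃ := MorphismProperty.of_isPullback hsq.flip ‹QuasiSeparated qXY›
  haveI := Groth.QCohMod.isQCoh_pullback_obj u₀ F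
  haveI := Groth.QCohMod.isQCoh_pullback_obj h₀ K
  haveI := Groth.QCohMod.isQCoh_tensorMod
    (M := (Scheme.Modules.pullback u₀).obj F) (N := (Scheme.Modules.pullback h₀).obj K)
  refine Groth.FunMorKer.isZero_Rpush_of_cover pr₁₃ _ q
    (fun i : T.affineOpens × Y.affineOpens =>
      pullback.fst (T ↘ S) (Y ↘ S) ⁻¹ᵁ i.1.1 ⊓ pullback.snd (T ↘ S) (Y ↘ S) ⁻¹ᵁ i.2.1)
    (fun i => Groth.Misc10.SymZeta.isAffineOpen_pullback_inf i.1.2 i.2.2 (isAffineOpen_top _)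
      le_top le_top) ?_ fun i => ?_
  · refine top_unique fun z _ => ?_
    obtain ⟨U, hU, hzU, -⟩ := exists_isAffineOpen_mem_and_subset (U := (⊤ : T.Opens))
      (x := pullback.fst (T ↘ S) (Y ↘ S) z) trivial
    obtain ⟨V, hV, hzV, -⟩ := exists_isAffineOpen_mem_and_subset (U := (⊤ : Y.Opens))
      (x := pullback.snd (T ↘ S) (Y ↘ S) z) trivial
    exact TopologicalSpace.Opens.mem_iSup.2 ⟨(⟨U, hU⟩, ⟨V, hV⟩), hzU, hzV⟩
  obtain ⟨⟨U, hU⟩, ⟨V, hV⟩⟩ := i
  haveI : IsAffine U.toScheme := hU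
  let A := fTX ⁻¹ᵁ U
  let g := A.ι ≫ sTX
  have hg : IsPullback (fTX ∣_ U) g (U.ι ≫ (T ↘ S)) (X ↘ S) :=
    (isPullback_morphismRestrict fTX U).paste_vert t₂
  haveI : IsAffineHom g :=
    MorphismProperty.of_isPullback hg (isAffineHom_of_isAffine (U.ι ≫ (T ↘ S)))
  let O := u₀ ⁻¹ᵁ A
  have hO : IsPullback (u₀ ∣_ A) (O.ι ≫ h₀) g p :=
    (isPullback_morphismRestrict u₀ A).paste_vert s₀
  haveI := Groth.QCohMod.isQCoh_pullback_obj A.ι F
  have hv := Groth.FunMorKer.subsingleton_H'_kernel hO qXY K q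
    (fun M hM => hKac M hM q hq) ((Scheme.Modules.pullback A.ι).obj F) hV
  obtain ⟨e₁, -⟩ := Groth.PicAux.exists_pullback_tensorMod O.ι
    ((Scheme.Modules.pullback u₀).obj F) ((Scheme.Modules.pullback h₀).obj K)
  let a : (Scheme.Modules.pullback O.ι).obj ((Scheme.Modules.pullback u₀).obj F) ≅
      (Scheme.Modules.pullback (u₀ ∣_ A)).obj ((Scheme.Modules.pullback A.ι).obj F) :=
    (Scheme.Modules.pullbackComp O.ι u₀).app F ≪≫
      (Scheme.Modules.pullbackCongr (morphismRestrict_ι u₀ A).symm).app F ≪≫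
        ((Scheme.Modules.pullbackComp (u₀ ∣_ A) A.ι).app F).symm
  let e₂ := (Scheme.Modules.restrictFunctorIsoPullback O.ι).app (CohB1.tensorMod
      ((Scheme.Modules.pullback u₀).obj F) ((Scheme.Modules.pullback h₀).obj K)) ≪≫ e₁ ≪≫
    (DCoh.tensorRightMod _).mapIso a ≪≫
    ((DCoh.tensorBi (X := O.toScheme)).obj _).mapIso ((Scheme.Modules.pullbackComp O.ι h₀).app K)
  have hr := Groth.FunMorKer.subsingleton_H'_of_iso (h := hv) e₂ q ((O.ι ≫ h₀) ⁻¹ᵁ (qXY ⁻¹ᵁ V))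
  obtain ⟨e₃⟩ := Groth.CohBase.nonempty_equiv_restrict O.ι (CohB1.tensorMod
      ((Scheme.Modules.pullback u₀).obj F) ((Scheme.Modules.pullback h₀).obj K)) q
    ((O.ι ≫ h₀) ⁻¹ᵁ (qXY ⁻¹ᵁ V))
  have hop : O.ι ''ᵁ ((O.ι ≫ h₀) ⁻¹ᵁ (qXY ⁻¹ᵁ V)) =
      pr₁₃ ⁻¹ᵁ (pullback.fst (T ↘ S) (Y ↘ S) ⁻¹ᵁ U ⊓ pullback.snd (T ↘ S) (Y ↘ S) ⁻¹ᵁ V) := by
    rw [Scheme.Hom.comp_preimage, Scheme.Hom.image_preimage_eq_opensRange_inf,
      Scheme.Opens.opensRange_ι]
    change u₀ ⁻¹ᵁ (fTX ⁻¹ᵁ U) ⊓ h₀ ⁻¹ᵁ (qXY ⁻¹ᵁ V) =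
      pr₁₃ ⁻¹ᵁ (pullback.fst (T ↘ S) (Y ↘ S) ⁻¹ᵁ U) ⊓ pr₁₃ ⁻¹ᵁ (pullback.snd (T ↘ S) (Y ↘ S) ⁻¹ᵁ V)
    rw [← Scheme.Hom.comp_preimage, ← Scheme.Hom.comp_preimage, ← Scheme.Hom.comp_preimage,
      ← Scheme.Hom.comp_preimage, h₁, h₂]
  rw [← hop]
  exact @Equiv.subsingleton _ _ e₃.symm.toEquiv hr

end Groth.Agent.S6736
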