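import Groth.Statements.S6742
import Groth.Agent.RelPC.NoethPush
import Groth.Agent.S1011
import Groth.Agent.S7277

set_option autoImplicit false
set_option linter.style.haveILetI false
universe u
open CategoryTheory AlgebraicGeometry
attribute [local instance] HasDerivedCategory.standard
open DEquiv

namespace Groth.Agent.S6742

/-- Let X be a scheme proper over a field k, let K be an object of D(O_X) which is bounded and has
coherent cohomology sheaves, and let E be a perfect object of D(O_X). Then the k-vector spaces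
Ext^i_X(E, K) = Hom(E, K⟦i⟧) (k-linear structure induced by X → Spec k) are finite-dimensional for
all i ∈ ℤ and nonzero for only finitely many i. -/
theorem result
    (k : Type u) [Field k] (X : Scheme.{u}) [X.Over (Spec (.of k))] [IsProper (X ↘ Spec (.of k))]
    (K : DCoh.D X) (hK : SGA6.cohbP X K) (E : DCoh.D X) (hE : DCoh.IsPerfect E) :
    (∀ i : ℤ, Module.Finite k (E ⟶ (shiftFunctor (DCoh.D X) i).obj K)) ∧
        Set.Finite {i : ℤ | Nontrivial (E ⟶ (shiftFunctor (DCoh.D X) i).obj K)} := by
  haveI : IsLocallyNoetherian X := LocallyOfFiniteType.isLocallyNoetherian (X ↘ Spec (.of k))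
  haveI : CompactSpace X := QuasiCompact.compactSpace_of_compactSpace (X ↘ Spec (.of k))
  haveI : IsNoetherian X := {}
  haveI : QuasiSeparatedSpace X := quasiSeparatedSpace_of_quasiSeparated (X ↘ Spec (.of k))
  obtain ⟨hK, a, b, hKa, hKb⟩ := hK
  obtain ⟨hEc, hEb⟩ := Groth.RelPC.coh_of_pcD (E := E) fun m => Groth.DerivedCoh.PCoh.isPseudoCoherentD_of_isPerfect hE m
  refine ⟨fun i => Groth.Agent.S7277.result k X E K hEc hEb hK ⟨a, hKa⟩ i, ?_⟩
  refine ((Groth.Agent.S1011.result X E hE).2 K a b (fun i => (hK i).1) hKa hKb).subset fun i hi => ?_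
  obtain ⟨x, y, hxy⟩ := hi
  rcases ne_or_eq x 0 with h | h
  · exact ⟨x, h⟩
  · exact ⟨y, fun h' => hxy (h.trans h'.symm)⟩

end Groth.Agent.S6742
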