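import Groth.Statements.S6762
import Groth.Agent.FunMorKer.Projection

set_option autoImplicit false
universe u
open CategoryTheory AlgebraicGeometry
attribute [local instance] HasDerivedCategory.standard
open FunMor

namespace Groth.Agent.S6762

/-- Let R be a ring, X and Y schemes over R with X affine, K a quasi-coherent O_{X ×_R Y}-module and F_K
the functor M ↦ pr_{2,*}(pr_1^* M ⊗ K). Let f : X' ⟶ X be an affine morphism, view X' over R through
f, and let g : X' ×_R Y ⟶ X ×_R Y be the morphism f × id_Y (characterised by its two components).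
Then F_K ∘ f_* is isomorphic, as a functor on quasi-coherent O_{X'}-modules, to the functor M' ↦
pr'_{2,*}(pr'^*_1 M' ⊗ g^* K) attached to the quasi-coherent module g^* K on X' ×_R Y. -/
theorem result
    (R : Type u) [CommRing R] (X Y : Scheme.{u}) [X.Over (Spec (.of R))] [Y.Over (Spec (.of R))] [IsAffine X]
    (K : (Limits.pullback (X ↘ Spec (.of R)) (Y ↘ Spec (.of R))).Modules) (hK : Coh.IsQCoh K)
    {X' : Scheme.{u}} (f : X' ⟶ X) [IsAffineHom f]
    (g : (Limits.pullback (f ≫ (X ↘ Spec (.of R))) (Y ↘ Spec (.of R))) ⟶ (Limits.pullback (X ↘ Spec (.of R)) (Y ↘ Spec (.of R))))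
    (hg₁ : g ≫ (Limits.pullback.fst (X ↘ Spec (.of R)) (Y ↘ Spec (.of R))) = (Limits.pullback.fst (f ≫ (X ↘ Spec (.of R))) (Y ↘ Spec (.of R))) ≫ f) (hg₂ : g ≫ (Limits.pullback.snd (X ↘ Spec (.of R)) (Y ↘ Spec (.of R))) = (Limits.pullback.snd (f ≫ (X ↘ Spec (.of R))) (Y ↘ Spec (.of R)))) :
    Nonempty (ObjectProperty.ι (QCohCat.isQCoh X') ⋙ Coh.push f ⋙ (Scheme.Modules.pullback (Limits.pullback.fst (X ↘ Spec (.of R)) (Y ↘ Spec (.of R))) ⋙ DCoh.tensorRightMod K ⋙ Coh.push (Limits.pullback.snd (X ↘ Spec (.of R)) (Y ↘ Spec (.of R)))) ≅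
      ObjectProperty.ι (QCohCat.isQCoh X') ⋙ (Scheme.Modules.pullback (Limits.pullback.fst (f ≫ (X ↘ Spec (.of R))) (Y ↘ Spec (.of R))) ⋙ DCoh.tensorRightMod ((Scheme.Modules.pullback g).obj K) ⋙ Coh.push (Limits.pullback.snd (f ≫ (X ↘ Spec (.of R))) (Y ↘ Spec (.of R))))) := by
  haveI : K.IsQuasicoherent := hK
  let p := Limits.pullback.fst (X ↘ Spec (.of R)) (Y ↘ Spec (.of R))
  let q := Limits.pullback.snd (X ↘ Spec (.of R)) (Y ↘ Spec (.of R))
  let p' := Limits.pullback.fst (f ≫ (X ↘ Spec (.of R))) (Y ↘ Spec (.of R))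
  let q' := Limits.pullback.snd (f ≫ (X ↘ Spec (.of R))) (Y ↘ Spec (.of R))
  have hsq : IsPullback g p' p f :=
    (IsPullback.of_right (h₁₂ := q) (h₂₂ := X ↘ Spec (.of R)) (v₁₃ := Y ↘ Spec (.of R))
      (h₁₁ := g) (v₁₁ := p') (v₁₂ := p) (h₂₁ := f)
      (by rw [hg₂]; exact (IsPullback.of_hasPullback _ _).flip) hg₁
      (IsPullback.of_hasPullback _ _).flip)
  haveI : IsAffineHom g := MorphismProperty.of_isPullback (P := @IsAffineHom) hsq.flip inferInstance
  let ιX' := ObjectProperty.ι (QCohCat.isQCoh X')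
  let pQ : QCohCat.QCoh X' ⥤ QCohCat.QCoh (Limits.pullback (f ≫ (X ↘ Spec (.of R))) (Y ↘ Spec (.of R))) :=
    (QCohCat.isQCoh _).lift (ιX' ⋙ Scheme.Modules.pullback p') fun M =>
      haveI : M.obj.IsQuasicoherent := M.2
      Groth.QCohMod.isQCoh_pullback_obj p' M.obj
  let e1 : ιX' ⋙ Coh.push f ⋙ Scheme.Modules.pullback p ≅
      pQ ⋙ ObjectProperty.ι (QCohCat.isQCoh _) ⋙ Scheme.Modules.pushforward g :=
    Groth.FunMorKer.bcIso hsq.flip
  let e2 : (pQ ⋙ ObjectProperty.ι (QCohCat.isQCoh _) ⋙ Scheme.Modules.pushforward g) ⋙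
        DCoh.tensorRightMod K ≅
      pQ ⋙ ObjectProperty.ι (QCohCat.isQCoh _) ⋙ DCoh.tensorRightMod ((Scheme.Modules.pullback g).obj K) ⋙
        Scheme.Modules.pushforward g :=
    Functor.associator _ _ _ ≪≫ Functor.isoWhiskerLeft pQ
      (Functor.associator _ _ _ ≪≫ Groth.FunMorKer.projIso g K)
  let e3 : Scheme.Modules.pushforward g ⋙ Scheme.Modules.pushforward q ≅ Scheme.Modules.pushforward q' :=
    Scheme.Modules.pushforwardComp g q ≪≫ Scheme.Modules.pushforwardCongr hg₂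
  exact ⟨Functor.isoWhiskerRight (Functor.isoWhiskerRight e1 (DCoh.tensorRightMod K) ≪≫ e2)
      (Scheme.Modules.pushforward q) ≪≫
    Functor.isoWhiskerLeft (ιX' ⋙ Scheme.Modules.pullback p' ⋙
      DCoh.tensorRightMod ((Scheme.Modules.pullback g).obj K)) e3⟩

end Groth.Agent.S6762
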