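import Groth.Statements.S6763
import Groth.Agent.FunMorKer.BaseChange

set_option autoImplicit false
universe u
open CategoryTheory AlgebraicGeometry
attribute [local instance] HasDerivedCategory.standard
open FunMor

namespace Groth.Agent.S6763

/-- Let R be a ring, X and Y schemes over R with X affine, K a quasi-coherent O_{X ×_R Y}-module and F_K
the functor M ↦ pr_{2,*}(pr_1^* M ⊗ K). Let g : Y' ⟶ Y be a flat morphism, view Y' over R through g,
and let h : X ×_R Y' ⟶ X ×_R Y be the morphism id_X × g (characterised by its two components). Then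
g^* ∘ F_K is isomorphic, as a functor on quasi-coherent O_X-modules, to the functor M ↦
pr'_{2,*}(pr'^*_1 M ⊗ h^* K) attached to the quasi-coherent module h^* K on X ×_R Y'. (The case of
an open immersion g is a special case.) -/
theorem result
    (R : Type u) [CommRing R] (X Y : Scheme.{u}) [X.Over (Spec (.of R))] [Y.Over (Spec (.of R))] [IsAffine X]
    (K : (Limits.pullback (X ↘ Spec (.of R)) (Y ↘ Spec (.of R))).Modules) (hK : Coh.IsQCoh K)
    {Y' : Scheme.{u}} (g : Y' ⟶ Y) [Flat g]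
    (h : (Limits.pullback (X ↘ Spec (.of R)) (g ≫ (Y ↘ Spec (.of R)))) ⟶ (Limits.pullback (X ↘ Spec (.of R)) (Y ↘ Spec (.of R))))
    (hh₁ : h ≫ (Limits.pullback.fst (X ↘ Spec (.of R)) (Y ↘ Spec (.of R))) = (Limits.pullback.fst (X ↘ Spec (.of R)) (g ≫ (Y ↘ Spec (.of R))))) (hh₂ : h ≫ (Limits.pullback.snd (X ↘ Spec (.of R)) (Y ↘ Spec (.of R))) = (Limits.pullback.snd (X ↘ Spec (.of R)) (g ≫ (Y ↘ Spec (.of R)))) ≫ g) :
    Nonempty ((ObjectProperty.ι (QCohCat.isQCoh X) ⋙ Scheme.Modules.pullback (Limits.pullback.fst (X ↘ Spec (.of R)) (Y ↘ Spec (.of R))) ⋙ DCoh.tensorRightMod K ⋙ Coh.push (Limits.pullback.snd (X ↘ Spec (.of R)) (Y ↘ Spec (.of R)))) ⋙ Scheme.Modules.pullback g ≅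
      ObjectProperty.ι (QCohCat.isQCoh X) ⋙ (Scheme.Modules.pullback (Limits.pullback.fst (X ↘ Spec (.of R)) (g ≫ (Y ↘ Spec (.of R)))) ⋙ DCoh.tensorRightMod ((Scheme.Modules.pullback h).obj K) ⋙ Coh.push (Limits.pullback.snd (X ↘ Spec (.of R)) (g ≫ (Y ↘ Spec (.of R)))))) := by
  haveI : K.IsQuasicoherent := hK
  let p := Limits.pullback.fst (X ↘ Spec (.of R)) (Y ↘ Spec (.of R))
  let q := Limits.pullback.snd (X ↘ Spec (.of R)) (Y ↘ Spec (.of R))
  let p' := Limits.pullback.fst (X ↘ Spec (.of R)) (g ≫ (Y ↘ Spec (.of R)))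
  let q' := Limits.pullback.snd (X ↘ Spec (.of R)) (g ≫ (Y ↘ Spec (.of R)))
  haveI : IsAffineHom q := MorphismProperty.pullback_snd (P := @IsAffineHom) _ _ inferInstance
  have hsq : IsPullback h q' q g :=
    IsPullback.of_right (h₁₂ := p) (h₂₂ := Y ↘ Spec (.of R)) (v₁₃ := X ↘ Spec (.of R))
      (by rw [hh₁]; exact IsPullback.of_hasPullback _ _) hh₂ (IsPullback.of_hasPullback _ _)
  let e1 : (Groth.FunMorKer.kerQ p K ⋙ ObjectProperty.ι (QCohCat.isQCoh _) ⋙
        Scheme.Modules.pushforward q) ⋙ Scheme.Modules.pullback g ≅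
      Groth.FunMorKer.kerQ p K ⋙ ObjectProperty.ι (QCohCat.isQCoh _) ⋙
        Scheme.Modules.pullback h ⋙ Scheme.Modules.pushforward q' :=
    Functor.associator _ _ _ ≪≫
      Functor.isoWhiskerLeft (Groth.FunMorKer.kerQ p K)
        (Functor.associator _ _ _ ≪≫ Groth.FunMorKer.bcIso hsq)
  let e2 : Scheme.Modules.pullback p ⋙ DCoh.tensorRightMod K ⋙ Scheme.Modules.pullback h ≅
      Scheme.Modules.pullback p' ⋙ DCoh.tensorRightMod ((Scheme.Modules.pullback h).obj K) :=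
    Functor.isoWhiskerLeft _ (Groth.Quot.pullTensorNat h K) ≪≫ (Functor.associator _ _ _).symm ≪≫
      Functor.isoWhiskerRight (Scheme.Modules.pullbackComp h p ≪≫ Scheme.Modules.pullbackCongr hh₁) _
  exact ⟨e1 ≪≫ Functor.isoWhiskerLeft (ObjectProperty.ι (QCohCat.isQCoh X))
    (Functor.isoWhiskerRight e2 (Scheme.Modules.pushforward q'))⟩

end Groth.Agent.S6763
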