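import Groth.Statements.S6771
import Groth.Agent.FunMorKer.FlatExact

set_option autoImplicit false
universe u
open CategoryTheory AlgebraicGeometry
attribute [local instance] HasDerivedCategory.standard
open FunMor

namespace Groth.Agent.S6771

/-- The direction from kernels to functors: let R be a ring and X, Y schemes over R with X quasi-compact
with affine diagonal, and let K be a quasi-coherent O_{X ×_R Y}-module which is flat over X and such
that R^q pr_{2,*}(pr_1^* M ⊗ K) = 0 for every quasi-coherent O_X-module M and every q > 0 (right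
derived functors of pr_{2,*}; injective resolutions carried as a binder). Then the functor F_K : M ↦
pr_{2,*}(pr_1^* M ⊗ K), from quasi-coherent O_X-modules to O_Y-modules, is exact (preserves finite
limits and finite colimits) and commutes with arbitrary direct sums. -/
theorem result
    (R : Type u) [CommRing R] (X Y : Scheme.{u}) [X.Over (Spec (.of R))] [Y.Over (Spec (.of R))] [CompactSpace X] [IsAffineHom (Limits.pullback.diagonal (X ↘ Spec (.of R)))]
    [HasInjectiveResolutions (Limits.pullback (X ↘ Spec (.of R)) (Y ↘ Spec (.of R))).Modules]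
    (K : (Limits.pullback (X ↘ Spec (.of R)) (Y ↘ Spec (.of R))).Modules) (hK : Coh.IsQCoh K) (hKf : FlatMod.IsFlatOver (Limits.pullback.fst (X ↘ Spec (.of R)) (Y ↘ Spec (.of R))) K)
    (hKa : ∀ (M : X.Modules), Coh.IsQCoh M → ∀ q : ℕ, 0 < q →
      Limits.IsZero ((Coh.Rpush (Limits.pullback.snd (X ↘ Spec (.of R)) (Y ↘ Spec (.of R))) q).obj ((DCoh.tensorRightMod K).obj ((Scheme.Modules.pullback (Limits.pullback.fst (X ↘ Spec (.of R)) (Y ↘ Spec (.of R)))).obj M)))) :
    Limits.PreservesFiniteLimits (ObjectProperty.ι (QCohCat.isQCoh X) ⋙ Scheme.Modules.pullback (Limits.pullback.fst (X ↘ Spec (.of R)) (Y ↘ Spec (.of R))) ⋙ DCoh.tensorRightMod K ⋙ Coh.push (Limits.pullback.snd (X ↘ Spec (.of R)) (Y ↘ Spec (.of R)))) ∧ Limits.PreservesFiniteColimits (ObjectProperty.ι (QCohCat.isQCoh X) ⋙ Scheme.Modules.pullback (Limits.pullback.fst (X ↘ Spec (.of R)) (Y ↘ Spec (.of R))) ⋙ DCoh.tensorRightMod K ⋙ Coh.push (Limits.pullback.snd (X ↘ Spec (.of R)) (Y ↘ Spec (.of R)))) ∧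
      ∀ J : Type u, Limits.PreservesColimitsOfShape (Discrete J) (ObjectProperty.ι (QCohCat.isQCoh X) ⋙ Scheme.Modules.pullback (Limits.pullback.fst (X ↘ Spec (.of R)) (Y ↘ Spec (.of R))) ⋙ DCoh.tensorRightMod K ⋙ Coh.push (Limits.pullback.snd (X ↘ Spec (.of R)) (Y ↘ Spec (.of R)))) := by
  haveI : K.IsQuasicoherent := hK
  let p := Limits.pullback.fst (X ↘ Spec (.of R)) (Y ↘ Spec (.of R))
  let q := Limits.pullback.snd (X ↘ Spec (.of R)) (Y ↘ Spec (.of R))
  haveI : QuasiCompact (X ↘ Spec (.of R)) :=
    (HasAffineProperty.iff_of_isAffine (P := @QuasiCompact)).2 inferInstance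
  haveI : QuasiCompact q := MorphismProperty.pullback_snd (P := @QuasiCompact) _ _ inferInstance
  let ιP := ObjectProperty.ι (QCohCat.isQCoh (Limits.pullback (X ↘ Spec (.of R)) (Y ↘ Spec (.of R))))
  haveI := Groth.FunMorKer.preservesFiniteLimits_kerQ p K hKf
  haveI := Groth.FunMorKer.preservesFiniteColimits_kerQ p K
  haveI : Limits.PreservesFiniteColimits ιP :=
    Limits.PreservesColimitsOfSize.preservesFiniteColimits _
  haveI : (Scheme.Modules.pushforward q).Additive :=
    (Scheme.Modules.pullbackPushforwardAdjunction q).right_adjoint_additive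
  haveI : Limits.PreservesLimitsOfSize.{0, 0} (Scheme.Modules.pushforward q) :=
    (Scheme.Modules.pullbackPushforwardAdjunction q).rightAdjoint_preservesLimits
  haveI : Limits.PreservesFiniteLimits (Scheme.Modules.pushforward q) := ⟨fun J _ _ => inferInstance⟩
  haveI : Limits.PreservesFiniteLimits (Groth.FunMorKer.kerQ p K ⋙ ιP) :=
    Limits.comp_preservesFiniteLimits _ _
  haveI : Limits.PreservesFiniteColimits (Groth.FunMorKer.kerQ p K ⋙ ιP) :=
    Limits.comp_preservesFiniteColimits _ _
  haveI : (Scheme.Modules.pullback p).Additive :=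
    (Scheme.Modules.pullbackPushforwardAdjunction p).left_adjoint_additive
  haveI : (Groth.FunMorKer.kerQ p K ⋙ ιP).Additive :=
    inferInstanceAs ((QCohCat.isQCoh X).ι ⋙ Scheme.Modules.pullback p ⋙ DCoh.tensorRightMod K).Additive
  let F := (Groth.FunMorKer.kerQ p K ⋙ ιP) ⋙ Scheme.Modules.pushforward q
  have hex : Limits.PreservesFiniteLimits F ∧ Limits.PreservesFiniteColimits F := by
    refine ((Functor.exact_tfae F).out 0 3).1 fun S hS => ?_
    have h1 := hS.map_of_exact (Groth.FunMorKer.kerQ p K ⋙ ιP)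
    haveI := h1.mono_f
    have he : Epi ((Scheme.Modules.pushforward q).map (S.map (Groth.FunMorKer.kerQ p K ⋙ ιP)).g) :=
      Groth.EtaleDeep.Eps.epi_map_of_isZero_rightDerived_one _ h1 (hKa S.X₁.obj S.X₁.property 1 Nat.one_pos)
    haveI hm : Mono ((Scheme.Modules.pushforward q).map (S.map (Groth.FunMorKer.kerQ p K ⋙ ιP)).f) :=
      inferInstance
    exact { exact := h1.exact.map_of_mono_of_preservesKernel (Scheme.Modules.pushforward q) h1.mono_f inferInstance
            mono_f := hm
            epi_g := he }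
  refine ⟨hex.1, hex.2, fun J => ?_⟩
  haveI := Groth.FunMorKer.preservesColimitsOfShape_kerQ p K (Discrete J)
  haveI := Groth.FunMorKer.preservesColimitsOfShape_discrete_push' q J
  exact inferInstanceAs (Limits.PreservesColimitsOfShape (Discrete J)
    ((Groth.FunMorKer.kerQ p K ⋙ ιP) ⋙ Scheme.Modules.pushforward q))

end Groth.Agent.S6771
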