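import Groth.Statements.S6767
import Groth.Agent.FunMorKer.Generate
import Groth.Agent.S6771
import Groth.Agent.CohBase.RelAmpleVanish

set_option autoImplicit false
universe u
open CategoryTheory AlgebraicGeometry
attribute [local instance] HasDerivedCategory.standard
open FunMor

namespace Groth.Agent.S6767

/-- Let R be a ring and X, Y schemes over R with X quasi-compact, separated and flat over R. Let K be a
quasi-coherent O_{X ×_R Y}-module which is flat over X and such that R^q pr_{2,*}(pr_1^* M ⊗ K) = 0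
for every quasi-coherent O_X-module M and every q > 0 (right derived functors of pr_{2,*}; the
existence of injective resolutions is carried as a binder) — that is, K is the kernel of the exact
functor M ↦ pr_{2,*}(pr_1^* M ⊗ K). Then there is an epimorphism O_X ⊠ F(O_X) = pr_1^* O_X ⊗ pr_2^*
(pr_{2,*} K) ⟶ K of O_{X ×_R Y}-modules (existence of such an epimorphism; pr_{2,*}(pr_1^* O_X ⊗ K)
is written as pr_{2,*} K). -/
theorem result
    (R : Type u) [CommRing R] (X Y : Scheme.{u}) [X.Over (Spec (.of R))] [Y.Over (Spec (.of R))] [CompactSpace X] [IsSeparated (X ↘ Spec (.of R))] [Flat (X ↘ Spec (.of R))]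
    [HasInjectiveResolutions (Limits.pullback (X ↘ Spec (.of R)) (Y ↘ Spec (.of R))).Modules]
    (K : (Limits.pullback (X ↘ Spec (.of R)) (Y ↘ Spec (.of R))).Modules) (hK : Coh.IsQCoh K) (hKf : FlatMod.IsFlatOver (Limits.pullback.fst (X ↘ Spec (.of R)) (Y ↘ Spec (.of R))) K)
    (hKa : ∀ (M : X.Modules), Coh.IsQCoh M → ∀ q : ℕ, 0 < q →
      Limits.IsZero ((Coh.Rpush (Limits.pullback.snd (X ↘ Spec (.of R)) (Y ↘ Spec (.of R))) q).obj ((DCoh.tensorRightMod K).obj ((Scheme.Modules.pullback (Limits.pullback.fst (X ↘ Spec (.of R)) (Y ↘ Spec (.of R)))).obj M)))) :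
    ∃ π : CohB1.tensorMod ((Scheme.Modules.pullback (Limits.pullback.fst (X ↘ Spec (.of R)) (Y ↘ Spec (.of R)))).obj (Coh.structureModule X))
        ((Scheme.Modules.pullback (Limits.pullback.snd (X ↘ Spec (.of R)) (Y ↘ Spec (.of R)))).obj ((Coh.push (Limits.pullback.snd (X ↘ Spec (.of R)) (Y ↘ Spec (.of R)))).obj K)) ⟶ K, Epi π := by
  let S := Spec (CommRingCat.of R)
  haveI : IsAffineHom (Limits.pullback.diagonal (X ↘ S)) := inferInstance
  haveI : K.IsQuasicoherent := hK
  haveI : QuasiCompact (X ↘ S) :=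
    (HasAffineProperty.iff_of_isAffine (P := @QuasiCompact)).2 inferInstance
  let p := Limits.pullback.fst (X ↘ S) (Y ↘ S)
  let q := Limits.pullback.snd (X ↘ S) (Y ↘ S)
  haveI : QuasiCompact q := MorphismProperty.pullback_snd (P := @QuasiCompact) _ _ inferInstance
  haveI : QuasiSeparated q := MorphismProperty.pullback_snd (P := @QuasiSeparated) _ _ inferInstance
  haveI := Groth.QCohMod.isQCoh_pullback_obj p (Coh.structureModule X)
  haveI hqK : ((Scheme.Modules.pushforward q).obj K).IsQuasicoherent :=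
    Groth.QCohMod.isQCoh_pushforward K q
  haveI := Groth.QCohMod.isQCoh_pullback_obj q ((Scheme.Modules.pushforward q).obj K)
  haveI := Groth.PicAux.isIso_pullUnit p
  obtain ⟨lu, hlu⟩ := Groth.PicAux.exists_leftUnitor K
  let e₀ : CohB1.tensorMod ((Scheme.Modules.pullback p).obj (Coh.structureModule X)) K ≅ K :=
    (DCoh.tensorRightMod K).mapIso (asIso (Groth.PicAux.pullUnit p)) ≪≫ lu
  obtain ⟨lu', -⟩ := Groth.PicAux.exists_leftUnitor
    ((Scheme.Modules.pullback q).obj ((Scheme.Modules.pushforward q).obj K))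
  let e₁ : CohB1.tensorMod ((Scheme.Modules.pullback p).obj (Coh.structureModule X))
      ((Scheme.Modules.pullback q).obj ((Scheme.Modules.pushforward q).obj K)) ≅
      (Scheme.Modules.pullback q).obj ((Scheme.Modules.pushforward q).obj K) :=
    (DCoh.tensorRightMod _).mapIso (asIso (Groth.PicAux.pullUnit p)) ≪≫ lu'
  let c : (Scheme.Modules.pullback q).obj ((Scheme.Modules.pushforward q).obj K) ⟶ K :=
    (Scheme.Modules.pullbackPushforwardAdjunction q).counit.app K
  suffices hc : Epi c by exact ⟨e₁.hom ≫ c, epi_comp _ _⟩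
  apply Preadditive.epi_of_isZero_cokernel
  haveI : (Limits.cokernel c).IsQuasicoherent := Groth.QCohMod.isQCoh_cokernel c
  refine Groth.CohBase.isZero_of_sections_cover _
    (fun i : X.affineOpens × Y.affineOpens => p ⁻¹ᵁ i.1.1 ⊓ q ⁻¹ᵁ i.2.1)
    (fun i => Groth.Misc10.SymZeta.isAffineOpen_pullback_inf i.1.2 i.2.2 (isAffineOpen_top _)
      le_top le_top) ?_ fun i => ?_
  · refine top_unique fun z _ => ?_
    obtain ⟨U, hU, hzU, -⟩ := exists_isAffineOpen_mem_and_subset (U := (⊤ : X.Opens))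
      (x := p z) trivial
    obtain ⟨V, hV, hzV, -⟩ := exists_isAffineOpen_mem_and_subset (U := (⊤ : Y.Opens))
      (x := q z) trivial
    exact TopologicalSpace.Opens.mem_iSup.2 ⟨(⟨U, hU⟩, ⟨V, hV⟩), hzU, hzV⟩
  obtain ⟨⟨U, hU⟩, ⟨V, hV⟩⟩ := i
  let O := p ⁻¹ᵁ U ⊓ q ⁻¹ᵁ V
  have hO : IsAffineOpen O := Groth.Misc10.SymZeta.isAffineOpen_pullback_inf hU hV
    (isAffineOpen_top _) le_top le_top
  have hOU : O ≤ p ⁻¹ᵁ U := inf_le_left
  have hOV : O ≤ q ⁻¹ᵁ V := inf_le_right
  -- the functor, and the direct image of the structure sheaf of `U`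
  haveI : IsAffine U.toScheme := hU
  haveI : IsAffineHom (U.ι ≫ (X ↘ S)) := isAffineHom_of_isAffine _
  haveI : IsAffineHom U.ι := IsAffineHom.of_comp U.ι (X ↘ S)
  let J := (Scheme.Modules.pushforward U.ι).obj (Coh.structureModule U.toScheme)
  haveI hJ : J.IsQuasicoherent := Groth.QCohMod.isQCoh_pushforward _ _
  let Oq : QCohCat.QCoh X := ⟨Coh.structureModule X, Groth.QCohMod.isQCoh_unit X⟩
  let Jq : QCohCat.QCoh X := ⟨J, hJ⟩
  let G := ObjectProperty.ι (QCohCat.isQCoh X) ⋙ Scheme.Modules.pullback p ⋙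
    DCoh.tensorRightMod K ⋙ Coh.push q
  obtain ⟨-, hGr, hGd⟩ : _ ∧ Limits.PreservesFiniteColimits G ∧
      ∀ J : Type u, Limits.PreservesColimitsOfShape (Discrete J) G :=
    Groth.Agent.S6771.result R X Y K hK hKf hKa
  haveI hGqc : ∀ M : QCohCat.QCoh X, (G.obj M).IsQuasicoherent := fun M => by
    haveI : M.obj.IsQuasicoherent := M.2
    haveI := Groth.QCohMod.isQCoh_pullback_obj p M.obj
    haveI := Groth.QCohMod.isQCoh_tensorMod (M := (Scheme.Modules.pullback p).obj M.obj) (N := K)
    exact Groth.QCohMod.isQCoh_pushforward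
      (CohB1.tensorMod ((Scheme.Modules.pullback p).obj M.obj) K) q
  let fam : Γ(J, ⊤) → (Oq ⟶ Jq) := fun r => ObjectProperty.homMk (Groth.PicAux.homOfSection r)
  let D : (Γ(J, ⊤)) → QCohCat.QCoh X := fun _ => Oq
  let d : (∐ D) ⟶ Jq := Limits.Sigma.desc fam
  haveI hd : Epi d := by
    haveI : Epi ((QCohCat.isQCoh X).ι.map d) := by
      refine Groth.QCohMod.epi_of_affine_surjective _ fun W hW t => ?_
      suffices h : t ∈ LinearMap.range (Groth.QCohMod.appₗ ((QCohCat.isQCoh X).ι.map d) W) from h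
      refine Submodule.span_le.2 ?_ (Groth.FunMorKer.mem_span_push_unit (X ↘ S) hU hW t)
      rintro _ ⟨r, rfl⟩
      refine ⟨((QCohCat.isQCoh X).ι.map (Limits.Sigma.ι D r)).app W
        (Groth.PicAux.res (Coh.structureModule X) le_top (Groth.PicAux.oneSec X ⊤)), ?_⟩
      have h1 : (QCohCat.isQCoh X).ι.map (Limits.Sigma.ι D r) ≫ (QCohCat.isQCoh X).ι.map d =
          Groth.PicAux.homOfSection r := by
        rw [← Functor.map_comp, Limits.Sigma.ι_desc]; rfl
      refine (congr(($h1).app W (Groth.PicAux.res (Coh.structureModule X) le_top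
        (Groth.PicAux.oneSec X ⊤)))).trans ?_
      rw [Groth.PicAux.app_res, Groth.PicAux.homOfSection_one]
    exact (QCohCat.isQCoh X).ι.epi_of_epi_map ‹_›
  have hgen : ∀ (y : Y) (t : (Groth.QCohMod.stalk y).obj (G.obj Jq)),
      t ∈ ⨆ r, AddMonoidHom.range ((Groth.QCohMod.stalk y).map (G.map (fam r))).hom := by
    intro y t
    haveI : Epi ((Groth.QCohMod.stalk y).map (G.map d)) := inferInstance
    obtain ⟨s, rfl⟩ := (AddCommGrpCat.epi_iff_surjective _).1 this t
    haveI : Limits.PreservesColimitsOfShape (Discrete Γ(J, ⊤)) (G ⋙ Groth.QCohMod.stalk y) :=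
      Limits.comp_preservesColimitsOfShape _ _
    have htop := Groth.Ega2Proj.PushColim.iSup_range_eq_top
      (c := Limits.Cofan.mk _ fun r => (G ⋙ Groth.QCohMod.stalk y).map (Limits.Sigma.ι D r))
      (Limits.isColimitCofanMkObjOfIsColimit (G ⋙ Groth.QCohMod.stalk y) D _
        (Limits.coproductIsCoproduct D))
    have hs : s ∈ (⊤ : AddSubgroup _) := trivial
    rw [← htop] at hs
    refine AddSubgroup.iSup_induction _ (C := fun s' => (Groth.QCohMod.stalk y).map (G.map d) s' ∈
      ⨆ r, AddMonoidHom.range ((Groth.QCohMod.stalk y).map (G.map (fam r))).hom) hs ?_ ?_ ?_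
    · rintro r _ ⟨a, rfl⟩
      refine AddSubgroup.mem_iSup_of_mem r ⟨a, ?_⟩
      have h1 : (Groth.QCohMod.stalk y).map (G.map (Limits.Sigma.ι D r)) ≫
          (Groth.QCohMod.stalk y).map (G.map d) = (Groth.QCohMod.stalk y).map (G.map (fam r)) := by
        rw [← Functor.map_comp, ← Functor.map_comp, Limits.Sigma.ι_desc]
      exact congr($h1.symm a)
    · rw [map_zero]; exact zero_mem _
    · intro a b ha hb
      rw [map_add]; exact add_mem ha hb
  -- a generator of `p^*J` on `O`
  let one : Γ(J, U) := Groth.PicAux.pushSec U.ι _ (Groth.PicAux.oneSec U.toScheme (U.ι ⁻¹ᵁ U))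
  have hone : Groth.PicAux.Gen J U one := Groth.FunMorKer.gen_push_one U
  let e : Γ((Scheme.Modules.pullback p).obj J, O) :=
    Groth.PicAux.res _ hOU (Groth.PicAux.pullSec p J one)
  haveI := Groth.QCohMod.isQCoh_pullback_obj p J
  have he := (hone.pull p) O hOU
  have hθ := Groth.FunMorKer.bijective_tmulSec (K := K) hO (e := e) he
  -- extension of sections
  let T : Submodule Γ(Limits.pullback (X ↘ S) (Y ↘ S), O) Γ(K, O) :=
    Submodule.span _ (Set.range fun k : Γ(K, q ⁻¹ᵁ V) => Groth.PicAux.res K hOV k)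
  have hmain : ∀ z : Γ(K, O), z ∈ T := by
    intro z
    have hsq := isPullback_morphismRestrict p U
    haveI : IsAffineHom (p ⁻¹ᵁ U).ι := MorphismProperty.of_isPullback hsq ‹IsAffineHom U.ι›
    haveI hN := Groth.QCohMod.isQCoh_pullback_obj (p ∣_ U) (Coh.structureModule U.toScheme)
    let E : CohB1.tensorMod ((Scheme.Modules.pullback p).obj J) K ≅
        (Scheme.Modules.pushforward (p ⁻¹ᵁ U).ι).obj (CohB1.tensorMod
          ((Scheme.Modules.pullback (p ∣_ U)).obj (Coh.structureModule U.toScheme))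
          ((Scheme.Modules.pullback (p ⁻¹ᵁ U).ι).obj K)) :=
      (DCoh.tensorRightMod K).mapIso ((Groth.FunMorKer.bcIso hsq).app
        ⟨Coh.structureModule U.toScheme, Groth.QCohMod.isQCoh_unit _⟩) ≪≫
      (Groth.FunMorKer.projIso (p ⁻¹ᵁ U).ι K).app
        ⟨(Scheme.Modules.pullback (p ∣_ U)).obj (Coh.structureModule U.toScheme), hN⟩
    have hext : ∀ w : Γ(CohB1.tensorMod ((Scheme.Modules.pullback p).obj J) K, O),
        ∃ v, Groth.PicAux.res _ hOV v = w := by
      intro w
      obtain ⟨v, hv⟩ := (Groth.FunMorKer.bijective_res_push (p ⁻¹ᵁ U).ι _ hOV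
        fun x hx => ⟨x.2, hx⟩).2 (E.hom.app O w)
      refine ⟨E.inv.app _ v, ?_⟩
      rw [← Groth.PicAux.app_res, hv]
      exact congr(($(E.hom_inv_id)).app O w)
    obtain ⟨v, hv⟩ := hext (Groth.PicAux.tmulSec e z)
    let T' : Set Γ(CohB1.tensorMod ((Scheme.Modules.pullback p).obj J) K, O) :=
      {w | ∃ k ∈ T, Groth.PicAux.tmulSec e k = w}
    suffices h : Groth.PicAux.res _ hOV v ∈ T' by
      obtain ⟨k, hk, hke⟩ := h
      rwa [← hθ.1 (hke.trans hv)]
    have hv' := Groth.Ega2Proj.PushColim.mem_iSup_range (fun _ : Γ(J, ⊤) => G.obj Oq) (G.obj Jq)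
      (fun r => G.map (fam r)) hgen hV
      (show Γ(G.obj Jq, V) from v)
    refine Submodule.iSup_induction _ (motive := fun v : Γ(G.obj Jq, V) =>
      Groth.PicAux.res (CohB1.tensorMod ((Scheme.Modules.pullback p).obj J) K) hOV v ∈ T') hv'
      ?_ ?_ ?_
    · rintro r _ ⟨s, rfl⟩
      let s' : Γ(CohB1.tensorMod ((Scheme.Modules.pullback p).obj (Coh.structureModule X)) K,
        q ⁻¹ᵁ V) := s
      let g : Γ((Scheme.Modules.pullback p).obj (Coh.structureModule X), q ⁻¹ᵁ V) :=
        Groth.PicAux.res _ (by simp)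
          (Groth.PicAux.pullSec p _ (Groth.PicAux.oneSec X ⊤))
      have hs : s' = Groth.PicAux.tmulSec g (e₀.hom.app _ s') := by
        apply (ConcreteCategory.bijective_of_isIso (e₀.hom.app (q ⁻¹ᵁ V))).1
        symm
        refine (congrArg _ (Groth.PicAux.tensorRightMod_map_tmulSec K (Groth.PicAux.pullUnit p) _ g _)).trans
          ((hlu _ _ _).trans ?_)
        rw [Groth.PicAux.app_res, Groth.PicAux.pullbackObjUnit_oneSec, Groth.PicAux.res_oneSec,
          Groth.PicAux.toFun_oneSec, one_smul]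
      obtain ⟨α, hα⟩ := hone.exists_coeff le_rfl (Groth.PicAux.res J le_top r)
      refine ⟨Groth.PicAux.resX _ hOU (p.app U α) • Groth.PicAux.res K hOV (e₀.hom.app _ s'),
        T.smul_mem _ (Submodule.subset_span ⟨_, rfl⟩), ?_⟩
      symm
      refine ((congrArg (fun z => Groth.PicAux.res _ hOV (((DCoh.tensorRightMod K).map
        ((Scheme.Modules.pullback p).map (Groth.PicAux.homOfSection r))).app (q ⁻¹ᵁ V) z)) hs).trans
          ((congrArg (Groth.PicAux.res _ hOV) (Groth.PicAux.tensorRightMod_map_tmulSec K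
            ((Scheme.Modules.pullback p).map (Groth.PicAux.homOfSection r)) _ g _)).trans
              (Groth.PicAux.res_tmulSec _ _ _))).trans ?_
      rw [Groth.PicAux.tmulSec_smul_right, ← Groth.PicAux.tmulSec_smul_left]
      congr 1
      simp only [g]
      rw [Groth.PicAux.app_res, Groth.PicAux.pullSec_map, Groth.PicAux.homOfSection_one,
        Groth.PicAux.res_res]
      calc Groth.PicAux.res ((Scheme.Modules.pullback p).obj J) _ (Groth.PicAux.pullSec p J r)
          = Groth.PicAux.res _ hOU (Groth.PicAux.pullSec p J (Groth.PicAux.res J le_top r)) := by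
            rw [← Groth.PicAux.res_pullSec, Groth.PicAux.res_res]
        _ = _ := by
            rw [hα, Groth.PicAux.res_self, Groth.PicAux.pullSec_smul, Groth.PicAux.res_smul]
    · refine ⟨0, zero_mem T, ?_⟩
      exact ((congrArg _ (TensorProduct.tmul_zero _ _)).trans (map_zero _)).trans (Groth.PicAux.res_zero _).symm
    · rintro a b ⟨k, hk, hka⟩ ⟨l, hl, hlb⟩
      refine ⟨k + l, add_mem hk hl, ?_⟩
      exact (Groth.PicAux.tmulSec_add_right e k l).trans
        ((congrArg₂ (· + ·) hka hlb).trans (Groth.PicAux.res_add _ _ _).symm)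
  -- conclusion
  refine subsingleton_of_forall_eq 0 fun w => ?_
  obtain ⟨z, rfl⟩ := Groth.QCohMod.app_surjective_of_epi (Limits.cokernel.π c) hO w
  have hT : T ≤ LinearMap.ker (Groth.QCohMod.appₗ (Limits.cokernel.π c) O) := by
    refine Submodule.span_le.2 ?_
    rintro _ ⟨k, rfl⟩
    have h1 : k = c.app (q ⁻¹ᵁ V) (Groth.PicAux.pullSec q _ (Groth.PicAux.pushSec q K k)) :=
      (Groth.PicAux.counit_pullSec q K k).symm
    change (Limits.cokernel.π c).app O (Groth.PicAux.res K hOV k) = 0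
    rw [h1, ← Groth.PicAux.app_res]
    exact congr(($(Limits.cokernel.condition c)).app O _)
  exact hT (hmain z)

end Groth.Agent.S6767
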