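import Groth.Statements.S6769
import Groth.Agent.FunMorFP.Universal
import Mathlib.LinearAlgebra.TensorProduct.Tower
-- import your own Groth.Agent.* helpers here

set_option autoImplicit false
universe u
open CategoryTheory CategoryTheory.Limits TensorProduct
open scoped ModuleCat.Algebra
open FunMor

namespace Groth.Agent.S6769


open Groth.FunMorFP

/-- The bimodule of a colimit preserving functor. -/
theorem exists_bimodule (R A B : Type u) [CommRing R] [CommRing A] [CommRing B] [Algebra R A] [Algebra R B]
    (F : ModuleCat.{u} A ⥤ ModuleCat.{u} B) [F.Additive] [F.Linear R]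
    [PreservesFilteredColimitsOfSize.{u, u} F] [PreservesFiniteColimits (res F)] :
    ∃ (K : Type u) (_ : AddCommGroup K) (_ : Module A K) (_ : Module B K) (_ : SMulCommClass A B K),
      (∀ (r : R) (x : K), algebraMap R A r • x = algebraMap R B r • x) ∧
      ∃ η : ∀ M : ModuleCat.{u} A, (K ⊗[A] M) ≃ₗ[B] F.obj M,
        ∀ (M N : ModuleCat.{u} A) (f : M ⟶ N) (x : K ⊗[A] M),
          η N (LinearMap.lTensor K f.hom x) = F.map f (η M x) := by
  let K : ModuleCat.{u} B := F.obj (ModuleCat.of A A)
  let act : A →+* Module.End B K :=
    { toFun := fun a => (F.map (smulRing a).hom).hom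
      map_one' := congrArg ModuleCat.Hom.hom (endAction (res F)).map_one
      map_mul' := fun a b => congrArg ModuleCat.Hom.hom ((endAction (res F)).map_mul a b)
      map_zero' := congrArg ModuleCat.Hom.hom (endAction (res F)).map_zero
      map_add' := fun a b => congrArg ModuleCat.Hom.hom ((endAction (res F)).map_add a b) }
  letI : Module A K := Module.compHom K act
  have hact : ∀ (a : A) (k : K), a • k = F.map (smulRing a).hom k := fun a k => rfl
  haveI hcomm : SMulCommClass A B K := ⟨fun a b k => map_smul (act a) b k⟩
  refine ⟨K, inferInstance, inferInstance, inferInstance, hcomm, fun r k => ?_, ?_⟩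
  · rw [hact]
    have h2 := (F.map_smul r (𝟙 (ModuleCat.of A A))).trans (congrArg (r • ·) (F.map_id _))
    refine Eq.trans ?_ (congrArg (fun g : K ⟶ K => g k) h2)
    refine congrArg (fun g => F.map g k) ?_
    ext
    rfl
  · let ev (M : ModuleCat.{u} A) : K ⊗[A] M →+ F.obj M :=
      TensorProduct.liftAddHom (AddMonoidHom.mk' (fun k => AddMonoidHom.mk' (fun x => F.map (pt x) k)
          (fun x y => congrArg (fun g : F.obj (ModuleCat.of A A) ⟶ F.obj M => g k) ((unitM F M).map_add x y)))
          (fun k k' => AddMonoidHom.ext fun x => map_add (F.map (pt x)).hom k k'))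
        (fun a k x => by
          show F.map (pt (M := M) x) (a • k) = F.map (pt (a • x)) k
          rw [hact, ← smulRing_comp_pt, F.map_comp]
          rfl)
    have hev : ∀ (M : ModuleCat.{u} A) (k : K) (x : M), ev M (k ⊗ₜ x) = F.map (pt x) k := fun M k x => rfl
    let evB (M : ModuleCat.{u} A) : K ⊗[A] M →ₗ[B] F.obj M :=
      { toFun := ev M
        map_add' := map_add (ev M)
        map_smul' := fun b z => by
          induction z using TensorProduct.induction_on with
          | zero => simp
          | tmul k x =>
            rw [TensorProduct.smul_tmul', hev, hev]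
            exact map_smul (F.map (pt x)).hom b k
          | add z w hz hw => simp only [smul_add, map_add, hz, hw, RingHom.id_apply] }
    have hbij : ∀ M, Function.Bijective (evB M) := by
      intro M
      let L : M →ₗ[A] HomMod (endAction (res F)) (ModuleCat.of B (K ⊗[A] M)) :=
        { toFun := fun x => HomMod.mk (ModuleCat.ofHom
            ({ toFun := fun (k : K) => k ⊗ₜ[A] x
               map_add' := fun k k' => add_tmul k k' x
               map_smul' := fun b k => (TensorProduct.smul_tmul' b k x).symm } : K →ₗ[B] K ⊗[A] M))
          map_add' := fun x y => ModuleCat.hom_ext (LinearMap.ext fun (k : K) => tmul_add k x y)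
          map_smul' := fun a x => ModuleCat.hom_ext (LinearMap.ext fun (k : K) => (TensorProduct.smul_tmul a k x).symm) }
      obtain ⟨g, hg⟩ := (bijective_unitM F M _).2 L
      have hg' : ∀ (x : M) (k : K), g (F.map (pt x) k) = k ⊗ₜ[A] x := fun x k =>
        ConcreteCategory.congr_hom (congrArg HomMod.out (LinearMap.congr_fun hg x)) k
      refine Function.bijective_iff_has_inverse.mpr ⟨g.hom, fun z => ?_, fun y => ?_⟩
      · show g.hom (ev M z) = z
        induction z using TensorProduct.induction_on with
        | zero => simp
        | tmul k x => rw [hev]; exact hg' x k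
        | add z w hz hw => simp only [map_add, hz, hw]
      · have h : g ≫ ModuleCat.ofHom (evB M) = 𝟙 (F.obj M) :=
          (bijective_unitM F M _).1 (LinearMap.ext fun x => ModuleCat.hom_ext (LinearMap.ext fun (k : K) =>
            (congrArg (evB M) (hg' x k)).trans (hev M k x)))
        exact ConcreteCategory.congr_hom h y
    refine ⟨fun M => LinearEquiv.ofBijective (evB M) (hbij M), fun M N f z => ?_⟩
    show ev N (LinearMap.lTensor K f.hom z) = F.map f (ev M z)
    induction z using TensorProduct.induction_on with
    | zero => simp
    | tmul k x =>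
      rw [LinearMap.lTensor_tmul, hev, hev, show pt (f.hom x) = pt x ≫ f from (pt_comp x f).symm, F.map_comp]
      rfl
    | add z w hz hw => simp only [map_add, hz, hw]


/-- Let R be a commutative ring and A, B commutative R-algebras; Mod_A and Mod_B are R-linear
categories. Suppose F, F' : Mod_A ⥤ Mod_B are R-linear functors, each of which preserves finite
colimits (so is right exact) and also preserves direct sums indexed by any set. Then: (i) there is
an A ⊗_R B-module K — a module over A and over B with commuting actions on which the two R-actions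
agree — and B-linear isomorphisms K ⊗_A M ≅ F(M) natural in the A-module M; (ii) a natural
transformation F ⟶ F' is determined by its component at A, and a B-linear map φ : F(A) ⟶ F'(A) is
the component at A of some natural transformation F ⟶ F' if and only if it commutes with the
A-actions, i.e. F(a · id_A) ≫ φ = φ ≫ F'(a · id_A) for all a ∈ A. (Together: K ↦ (- ⊗_A K) is an
equivalence from Mod_{A ⊗_R B} onto the category of such functors.) -/
theorem result
    (R : Type u) [CommRing R] (A B : Type u) [CommRing A] [CommRing B] [Algebra R A] [Algebra R B]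
    (F F' : ModuleCat.{u} A ⥤ ModuleCat.{u} B) [F.Additive] [F.Linear R] [F'.Additive] [F'.Linear R]
    [PreservesFiniteColimits F] [∀ J : Type u, PreservesColimitsOfShape (Discrete J) F]
    [PreservesFiniteColimits F'] [∀ J : Type u, PreservesColimitsOfShape (Discrete J) F'] :
    (∃ (K : Type u) (_ : AddCommGroup K) (_ : Module A K) (_ : Module B K) (_ : SMulCommClass A B K),
      (∀ (r : R) (x : K), algebraMap R A r • x = algebraMap R B r • x) ∧
      ∃ η : ∀ M : ModuleCat.{u} A, (K ⊗[A] M) ≃ₗ[B] F.obj M,
        ∀ (M N : ModuleCat.{u} A) (f : M ⟶ N) (x : K ⊗[A] M),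
          η N (LinearMap.lTensor K f.hom x) = F.map f (η M x)) ∧
    (∀ t t' : F ⟶ F', t.app (ModuleCat.of A A) = t'.app (ModuleCat.of A A) → t = t') ∧
    (∀ φ : F.obj (ModuleCat.of A A) ⟶ F'.obj (ModuleCat.of A A),
      (∃ t : F ⟶ F', t.app (ModuleCat.of A A) = φ) ↔
        ∀ a : A, F.map (a • 𝟙 (ModuleCat.of A A)) ≫ φ = φ ≫ F'.map (a • 𝟙 (ModuleCat.of A A))) := by
  haveI : PreservesColimitsOfSize.{u, u} F := preservesColimits_of_preservesCoequalizers_and_coproducts F
  haveI : PreservesColimitsOfSize.{u, u} F' := preservesColimits_of_preservesCoequalizers_and_coproducts F'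
  haveI hF0 : PreservesFilteredColimitsOfSize.{u, u} F := ⟨fun J _ _ => inferInstance⟩
  haveI hF1 : PreservesFilteredColimitsOfSize.{u, u} F' := ⟨fun J _ _ => inferInstance⟩
  haveI : PreservesFiniteColimits (res F) := comp_preservesFiniteColimits _ _
  have hsm : ∀ a : A, a • 𝟙 (ModuleCat.of A A) = (smulRing a).hom := fun a => by ext; simp
  refine ⟨?_, (natTrans_classification F F').1, fun φ => ⟨?_, fun h => (natTrans_classification F F').2 φ ?_⟩⟩
  · exact exists_bimodule R A B F
  · rintro ⟨t, rfl⟩ a
    exact t.naturality _
  · intro a
    rw [← hsm]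
    exact h a

end Groth.Agent.S6769
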