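import Groth.Statements.S6774
-- import your own Groth.Agent.* helpers here

set_option autoImplicit false
open CategoryTheory
universe v u v' u'
open DeltaF

namespace Groth.Agent.S6774

/-- Two universal cohomological delta-functors (indexed by `ℕ`) with isomorphic degree-`0` functors are
isomorphic as delta-functors, by a unique isomorphism extending the given one in degree `0`. -/
theorem result {A : Type u} [Category.{v} A] [Abelian A] {B : Type u'} [Category.{v'} B] [Abelian B] (T T' : DeltaF.CohDeltaFunctor A B ℕ) (hT : T.IsUniversal) (hT' : T'.IsUniversal) (e : T.F 0 ≅ T'.F 0) : ∃! φ : T ≅ T', φ.hom.app 0 = e.hom := by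
  obtain ⟨f, hf, hfu⟩ := hT T' e.hom
  obtain ⟨g, hg, hgu⟩ := hT' T e.inv
  have h1 : f ≫ g = 𝟙 T := by
    obtain ⟨i, hi, hiu⟩ := hT T (𝟙 _)
    exact (hiu _ (by simp [hf, hg])).trans (hiu _ (by simp)).symm
  have h2 : g ≫ f = 𝟙 T' := by
    obtain ⟨i, hi, hiu⟩ := hT' T' (𝟙 _)
    exact (hiu _ (by simp [hf, hg])).trans (hiu _ (by simp)).symm
  exact ⟨⟨f, g, h1, h2⟩, hf, fun φ hφ => Iso.ext (hfu _ hφ)⟩

end Groth.Agent.S6774
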