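import Groth.Statements.S6775


set_option autoImplicit false
open CategoryTheory CategoryTheory.Limits
universe v u
open CategoryTheory CategoryTheory.Abelian

namespace Groth.Agent.S6775

/-- In an abelian category a cartesian square whose bottom arrow `k` is an epimorphism is also
cocartesian, and the arrow `f` opposite to `k` is an epimorphism. -/
theorem result {A : Type u} [Category.{v} A] [Abelian A] {w x y z : A} (f : w ⟶ y) (g : w ⟶ x) (h : y ⟶ z) (k : x ⟶ z) (sq : IsPullback f g h k) [Epi k] : IsPushout f g h k ∧ Epi f := by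
  haveI : Epi f := Abelian.epi_fst_of_isLimit _ _ sq.isLimit
  refine ⟨⟨sq.toCommSq, ⟨PushoutCocone.IsColimit.mk _ (fun s => ?_) ?_ ?_ ?_⟩⟩, inferInstance⟩
  · exact (Abelian.epiDesc k s.inr (by
      have hl := PullbackCone.IsLimit.lift' sq.isLimit (0 : kernel k ⟶ y) (kernel.ι k) (by simp)
      obtain ⟨l, hl1, hl2⟩ : ∃ l : kernel k ⟶ w, l ≫ f = 0 ∧ l ≫ g = kernel.ι k := ⟨hl.1, hl.2.1, hl.2.2⟩
      rw [← hl2, Category.assoc, ← s.condition, ← Category.assoc, hl1, zero_comp]))
  · intro s
    rw [← cancel_epi f, ← Category.assoc, sq.w, Category.assoc, Abelian.comp_epiDesc, s.condition]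
  · intro s
    rw [Abelian.comp_epiDesc]
  · intro s m _ hm
    rw [← cancel_epi k, hm, Abelian.comp_epiDesc]

end Groth.Agent.S6775
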