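import Groth.Statements.S6776


set_option autoImplicit false
open CategoryTheory CategoryTheory.Limits
universe v u
open CategoryTheory CategoryTheory.Abelian

namespace Groth.Agent.S6776

/-- In an abelian category a cocartesian square whose left arrow `g` is a monomorphism is also
cartesian, and the arrow `h` opposite to `g` is a monomorphism. -/
theorem result {A : Type u} [Category.{v} A] [Abelian A] {w x y z : A} (f : w ⟶ y) (g : w ⟶ x) (h : y ⟶ z) (k : x ⟶ z) (sq : IsPushout f g h k) [Mono g] : IsPullback f g h k ∧ Mono h := by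
  haveI : Mono h := Abelian.mono_inl_of_isColimit _ _ sq.isColimit
  refine ⟨⟨sq.toCommSq, ⟨PullbackCone.IsLimit.mk _ (fun s => ?_) ?_ ?_ ?_⟩⟩, inferInstance⟩
  · exact (Abelian.monoLift g s.snd (by
      have hl := PushoutCocone.IsColimit.desc' sq.isColimit (0 : y ⟶ cokernel g) (cokernel.π g) (by simp)
      obtain ⟨l, hl1, hl2⟩ : ∃ l : z ⟶ cokernel g, h ≫ l = 0 ∧ k ≫ l = cokernel.π g := ⟨hl.1, hl.2.1, hl.2.2⟩
      rw [← hl2, ← Category.assoc, ← s.condition, Category.assoc, hl1, comp_zero]))
  · intro s
    rw [← cancel_mono h, Category.assoc, sq.w, ← Category.assoc, Abelian.monoLift_comp, s.condition]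
  · intro s
    rw [Abelian.monoLift_comp]
  · intro s m _ hm
    rw [← cancel_mono g, hm, Abelian.monoLift_comp]

end Groth.Agent.S6776
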