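import Groth.Statements.S6779
import Groth.Agent.CategoryFibred.MooreSSet

set_option autoImplicit false
open CategoryTheory
universe u
open SSet

namespace Groth.Agent.S6779
open Groth.CatFib Simplicial Opposite

/-- The underlying simplicial set of a simplicial group is a Kan complex. -/
theorem result (X : SimplicialObject GrpCat.{u}) : SSet.KanComplex (X ⋙ forget GrpCat.{u}) := by
  rw [SSet.KanComplex.iff]
  intro n i f hf
  let x : Fin (n + 2) → X.obj (op ⦋n⦌) := fun j =>
    if h : j ≠ i then SSet.yonedaEquiv (f j h) else 1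
  have hx : ∀ j hj, x j = SSet.yonedaEquiv (f j hj) := fun j hj => dif_pos hj
  obtain ⟨w, -, hw⟩ := Moore.exists_filler (X := X) (P := fun _ _ => True)
    ⟨fun _ => trivial, fun _ _ _ _ _ => trivial, fun _ _ _ => trivial, fun _ _ _ _ => trivial, fun _ _ _ _ => trivial⟩
    i x (fun _ _ => trivial) (Moore.compat_of_hom X i f hf x hx)
  refine ⟨SSet.yonedaEquiv.symm w, fun j hj => SSet.yonedaEquiv.injective ?_⟩
  rw [← Moore.yoneda_δ, Equiv.apply_symm_apply]
  exact (hw j hj).trans (hx j hj)

end Groth.Agent.S6779
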