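import Groth.Statements.S6780
import Groth.Agent.CategoryFibred.MooreSSet

set_option autoImplicit false
open CategoryTheory
universe u
open SSet

namespace Groth.Agent.S6780
open Groth.CatFib Simplicial Opposite

/-- A degreewise surjective homomorphism of simplicial abelian groups is a Kan fibration of the
underlying simplicial sets. -/
theorem result {X Y : SimplicialObject AddCommGrpCat.{u}} (f : X ⟶ Y) (hf : ∀ n : SimplexCategoryᵒᵖ, Function.Surjective (f.app n)) : SSet.modelCategoryQuillen.J.rlp (X := X ⋙ forget AddCommGrpCat.{u}) (Y := Y ⋙ forget AddCommGrpCat.{u}) (Functor.whiskerRight f (forget AddCommGrpCat.{u})) := by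
  obtain ⟨XX, hXX⟩ : ∃ XX, XX = X := ⟨X, rfl⟩
  obtain ⟨YY, hYY⟩ : ∃ YY, YY = Y := ⟨Y, rfl⟩
  subst hXX hYY
  intro A B g hg
  rename' A => A', B => B'
  simp only [SSet.modelCategoryQuillen.J, MorphismProperty.iSup_iff] at hg
  obtain ⟨n, ⟨i⟩⟩ := hg
  refine ⟨fun {t b} sq => ?_⟩
  clear X Y
  rename' XX => X, YY => Y
  let φ := fun (j : Fin (n + 2)) (hj : j ≠ i) => SSet.horn.ι i j hj ≫ t
  have hφ : SSet.horn.IsCompatible φ := SSet.horn.IsCompatible.of_hom t
  obtain ⟨a, ha⟩ := hf (op ⦋n + 1⦌) (SSet.yonedaEquiv b)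
  let x : Fin (n + 2) → X.obj (op ⦋n⦌) := fun j => if h : j ≠ i then SSet.yonedaEquiv (φ j h) else 0
  have hx : ∀ j hj, x j = SSet.yonedaEquiv (φ j hj) := fun j hj => dif_pos hj
  have hc := Moore.compat_of_hom (Moore.mult.obj X) i φ hφ (fun j => Multiplicative.ofAdd (x j))
    (fun j hj => congrArg Multiplicative.ofAdd (hx j hj))
  have h0 : ∀ j, j ≠ i → f.app (op ⦋n⦌) (x j - X.δ j a) = 0 := by
    intro j hj
    rw [map_sub, sub_eq_zero, hx j hj]
    have e₁ : f.app (op ⦋n⦌) (X.δ j a) = Y.δ j (SSet.yonedaEquiv b) :=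
      (NatTrans.naturality_apply f _ a).trans (congrArg (Y.δ j) ha)
    rw [e₁]
    refine (SSet.yonedaEquiv_comp (φ j hj) (Functor.whiskerRight f (forget AddCommGrpCat.{u}))).symm.trans ?_
    refine Eq.trans ?_ (Moore.yoneda_δ j b).symm
    refine congrArg SSet.yonedaEquiv ?_
    simp only [φ, Category.assoc, sq.w]
    rw [SSet.horn.ι_ι_assoc]
  obtain ⟨w, hw0, hw⟩ := Moore.exists_filler_ker f i _ h0 (Moore.compat_sub X _ x a hc)
  refine ⟨⟨{ l := SSet.yonedaEquiv.symm (a + w : X.obj (op ⦋n + 1⦌)), fac_left := ?_, fac_right := ?_ }⟩⟩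
  · refine SSet.horn.hom_ext' fun j hj => SSet.yonedaEquiv.injective ?_
    rw [SSet.horn.ι_ι_assoc, ← Moore.yoneda_δ, Equiv.apply_symm_apply]
    refine (map_add (X.δ j).hom a w).trans ?_
    exact ((congrArg (X.δ j a + ·) (hw j hj)).trans (add_sub_cancel _ _)).trans (hx j hj)
  · apply SSet.yonedaEquiv.injective
    rw [SSet.yonedaEquiv_comp, Equiv.apply_symm_apply]
    exact ((map_add (f.app _).hom a w).trans (congrArg₂ (· + ·) ha hw0)).trans (add_zero _)

end Groth.Agent.S6780
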