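import Groth.Statements.S6781
import Groth.Agent.CategoryFibred.MooreSSet
import Groth.Agent.CategoryFibred.AbHomology

set_option autoImplicit false
open CategoryTheory
universe u
open SSet

namespace Groth.Agent.S6781
open Groth.CatFib Simplicial Opposite AlgebraicTopology AlgebraicTopology.DoldKan

lemma fill_boundary {X Y : SimplicialObject AddCommGrpCat.{u}} (f : X ⟶ Y)
    (hf : ∀ n : SimplexCategoryᵒᵖ, Function.Surjective (f.app n))
    (hq : QuasiIso ((alternatingFaceMapComplex AddCommGrpCat.{u}).map f)) {n : ℕ}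
    (x : Fin (n + 2) → X.obj (op ⦋n⦌)) (h0 : ∀ j, f.app (op ⦋n⦌) (x j) = 0)
    (hx : Moore.Compat (X := Moore.mult.obj X) (fun _ => True) (fun j => Multiplicative.ofAdd (x j))) :
    ∃ w, f.app (op ⦋n + 1⦌) w = 0 ∧ ∀ j, X.δ j w = x j := by
  have hx' : Moore.Compat (X := Moore.mult.obj X) (fun j => j ≠ 0) (fun j => Multiplicative.ofAdd (x j)) := by
    obtain _ | m := n
    · trivial
    exact fun j k h _ _ => hx j k h trivial trivial
  obtain ⟨w, hw0, hw⟩ := Moore.exists_filler_ker f 0 x (fun j _ => h0 j) hx'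
  let z := x 0 - X.δ 0 w
  have fz : f.app (op ⦋n⦌) z = 0 := by
    rw [map_sub, h0, zero_sub, neg_eq_zero]
    exact (NatTrans.naturality_apply f _ w).trans ((congrArg (Y.δ 0) hw0).trans (map_zero _))
  have hz : AbHom.Nrm X n z ∧ AbHom.Cyc ((alternatingFaceMapComplex _).obj X) n z := by
    obtain _ | m := n
    · exact ⟨trivial, fun m => by rw [HomologicalComplex.shape _ _ _ (by simp)]; rfl⟩
    have faces : ∀ k : Fin (m + 2), X.δ k z = 0 := by
      intro k
      have c := congrArg Multiplicative.toAdd (Moore.compat_sub X (fun _ => True) x w hx 0 k.succ (Fin.succ_pos k) trivial trivial)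
      rw [Fin.pred_succ] at c
      refine c.trans ?_
      change X.δ _ (x k.succ - X.δ k.succ w) = 0
      rw [hw _ (Fin.succ_ne_zero k), sub_self, map_zero]
    exact ⟨fun k => faces k.succ, AbHom.cyc_of_faces faces⟩
  let K := alternatingFaceMapComplex AddCommGrpCat.{u}
  have := hq
  obtain ⟨u, hu⟩ := AbHom.inj_of_quasiIso (K.map f) hz.2
    (by rw [show (K.map f).f n z = 0 from fz]; exact AbHom.bd_zero n)
  have hdn : (K.obj Y).d (n + 1) n ((K.map f).f (n + 1) u) = 0 :=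
    (ConcreteCategory.congr_hom ((K.map f).comm (n + 1) n) u).trans ((congrArg ((K.map f).f n) hu).trans fz)
  have hfu : AbHom.Cyc (K.obj Y) (n + 1) ((K.map f).f (n + 1) u) := by
    intro m
    by_cases hm : (ComplexShape.down ℕ).Rel (n + 1) m
    · obtain rfl : m = n := Nat.succ_injective hm
      exact hdn
    · rw [HomologicalComplex.shape _ _ _ hm]
      rfl
  obtain ⟨c, hc, v, hv⟩ := AbHom.surj_of_quasiIso (K.map f) hfu
  obtain ⟨v', hv'⟩ := hf (op ⦋n + 1 + 1⦌) v
  obtain ⟨u', hu'⟩ : ∃ u', u' = u - c + (K.obj X).d (n + 1 + 1) (n + 1) v' := ⟨_, rfl⟩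
  have fu' : (K.map f).f (n + 1) u' = 0 := by
    have e : (K.map f).f (n + 1) ((K.obj X).d (n + 1 + 1) (n + 1) v') = (K.map f).f (n + 1) c - (K.map f).f (n + 1) u :=
      ((ConcreteCategory.congr_hom ((K.map f).comm (n + 1 + 1) (n + 1)) v').symm.trans (congrArg ((K.obj Y).d _ _) hv')).trans hv
    rw [hu', map_add, map_sub, e]
    abel
  have du' : (K.obj X).d (n + 1) n u' = z := by
    have e : (K.obj X).d (n + 1) n ((K.obj X).d (n + 1 + 1) (n + 1) v') = 0 :=
      ConcreteCategory.congr_hom ((K.obj X).d_comp_d _ _ _) v'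
    rw [hu', map_add, map_sub, hc n, hu, e, sub_zero, add_zero]
  let y : X.obj (op ⦋n + 1⦌) := (PInfty.f (n + 1) : X.obj (op ⦋n + 1⦌) ⟶ X.obj (op ⦋n + 1⦌)) u'
  have fy : f.app (op ⦋n + 1⦌) y = 0 :=
    (ConcreteCategory.congr_hom (PInfty_f_naturality (n + 1) f) u').symm.trans
      ((congrArg (fun q => (PInfty.f (n + 1) : Y.obj (op ⦋n + 1⦌) ⟶ Y.obj (op ⦋n + 1⦌)) q) fu').trans (map_zero _))
  have hy : AbHom.Nrm X (n + 1) y := AbHom.nrm_PInfty X (n + 1) u'
  have dy : X.δ 0 y = z := (AbHom.d_of_nrm hy).symm.trans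
    ((ConcreteCategory.congr_hom ((PInfty (X := X)).comm (n + 1) n) u').trans
      ((congrArg _ du').trans (AbHom.PInfty_eq_self hz.1)))
  refine ⟨w + y, by rw [map_add, hw0, fy, add_zero], fun j => ?_⟩
  rw [map_add]
  rcases Fin.eq_zero_or_eq_succ j with rfl | ⟨k, rfl⟩
  · rw [dy]
    exact add_sub_cancel _ _
  · rw [hy k, add_zero, hw _ (Fin.succ_ne_zero k)]


/-- A degreewise surjective homomorphism of simplicial abelian groups inducing a quasi-isomorphism of
the associated chain complexes is a trivial Kan fibration of the underlying simplicial sets. -/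
theorem result {X Y : SimplicialObject AddCommGrpCat.{u}} (f : X ⟶ Y) (hf : ∀ n : SimplexCategoryᵒᵖ, Function.Surjective (f.app n)) (hq : QuasiIso ((AlgebraicTopology.alternatingFaceMapComplex AddCommGrpCat.{u}).map f)) : SSet.modelCategoryQuillen.I.rlp (X := X ⋙ forget AddCommGrpCat.{u}) (Y := Y ⋙ forget AddCommGrpCat.{u}) (Functor.whiskerRight f (forget AddCommGrpCat.{u})) := by
  obtain ⟨XX, hXX⟩ : ∃ XX, XX = X := ⟨X, rfl⟩
  obtain ⟨YY, hYY⟩ : ∃ YY, YY = Y := ⟨Y, rfl⟩
  subst hXX hYY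
  intro A B g hg
  obtain ⟨n⟩ := hg
  refine ⟨fun {t b} sq => ?_⟩
  obtain ⟨a, ha⟩ := hf (op ⦋n⦌) (SSet.yonedaEquiv b)
  obtain _ | n := n
  · refine ⟨⟨{ l := SSet.yonedaEquiv.symm a, fac_left := SSet.boundary.hom_ext₀, fac_right := ?_ }⟩⟩
    apply SSet.yonedaEquiv.injective
    rw [SSet.yonedaEquiv_comp, Equiv.apply_symm_apply]
    exact ha
  let x : Fin (n + 2) → XX.obj (op ⦋n⦌) := fun j => SSet.yonedaEquiv (SSet.boundary.ι j ≫ t)
  have hx : Moore.Compat (X := Moore.mult.obj XX) (fun _ => True) (fun j => Multiplicative.ofAdd (x j)) := by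
    obtain _ | m := n
    · trivial
    intro j k h _ _
    refine congrArg Multiplicative.ofAdd ?_
    change XX.δ (k.pred (Fin.ne_zero_of_lt h)) (x j) = XX.δ (j.castPred (Fin.ne_last_of_lt h)) (x k)
    refine (Moore.yoneda_δ (k.pred (Fin.ne_zero_of_lt h)) (SSet.boundary.ι j ≫ t)).trans ((congrArg SSet.yonedaEquiv ?_).trans (Moore.yoneda_δ (j.castPred (Fin.ne_last_of_lt h)) (SSet.boundary.ι k ≫ t)).symm)
    rw [← Category.assoc, ← Category.assoc]
    congr 1
    obtain ⟨j, rfl⟩ := j.eq_castSucc_of_ne_last (Fin.ne_last_of_lt h)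
    obtain ⟨k, rfl⟩ := k.eq_succ_of_ne_zero (Fin.ne_zero_of_lt h)
    rw [← cancel_mono (SSet.Subcomplex.ι _), Category.assoc, Category.assoc, SSet.boundary.ι_ι, SSet.boundary.ι_ι,
      Fin.pred_succ, Fin.castPred_castSucc, SSet.stdSimplex.δ_comp_δ (Fin.le_def.2 (by rw [Fin.lt_def] at h; simp at h; omega))]
  have h0 : ∀ j, f.app (op ⦋n⦌) (x j - XX.δ j a) = 0 := by
    intro j
    rw [map_sub, sub_eq_zero]
    have e₁ : f.app (op ⦋n⦌) (XX.δ j a) = YY.δ j (SSet.yonedaEquiv b) :=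
      (NatTrans.naturality_apply f _ a).trans (congrArg (YY.δ j) ha)
    rw [e₁]
    refine (SSet.yonedaEquiv_comp (SSet.boundary.ι j ≫ t) (Functor.whiskerRight f (forget AddCommGrpCat.{u}))).symm.trans ?_
    refine Eq.trans ?_ (Moore.yoneda_δ j b).symm
    refine congrArg SSet.yonedaEquiv ?_
    simp only [Category.assoc, sq.w]
    rw [SSet.boundary.ι_ι_assoc]
  obtain ⟨w, hw0, hw⟩ := fill_boundary f hf hq _ h0 (Moore.compat_sub XX _ x a hx)
  refine ⟨⟨{ l := SSet.yonedaEquiv.symm (a + w : XX.obj (op ⦋n + 1⦌)), fac_left := ?_, fac_right := ?_ }⟩⟩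
  · refine SSet.boundary.hom_ext fun j => SSet.yonedaEquiv.injective ?_
    rw [SSet.boundary.ι_ι_assoc, ← Moore.yoneda_δ, Equiv.apply_symm_apply]
    exact (map_add (XX.δ j).hom a w).trans ((congrArg (XX.δ j a + ·) (hw j)).trans (add_sub_cancel _ _))
  · apply SSet.yonedaEquiv.injective
    rw [SSet.yonedaEquiv_comp, Equiv.apply_symm_apply]
    exact ((map_add (f.app _).hom a w).trans (congrArg₂ (· + ·) ha hw0)).trans (add_zero _)

end Groth.Agent.S6781
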