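import Groth.Statements.S6782
import Groth.Agent.CategoryFibred.Cosk
import Mathlib.AlgebraicTopology.SimplicialSet.Boundary
import Mathlib.AlgebraicTopology.SimplicialSet.CategoryWithFibrations

set_option autoImplicit false
open CategoryTheory Opposite
universe u
open SSet

namespace Groth.Agent.S6782
open SSet Simplicial Opposite
open Groth.CatFib

/-- A map of `n`-coskeletal simplicial sets which is bijective on simplices of dimension `< n` and
surjective on `n`-simplices is a trivial Kan fibration. -/
theorem result {U V : SSet.{u}} (f : V ⟶ U) (n : ℕ) (h1 : ∀ i : ℕ, i < n → Function.Bijective (f.app (op (SimplexCategory.mk i)))) (h2 : Function.Surjective (f.app (op (SimplexCategory.mk n)))) [SimplicialObject.IsCoskeletal U n] [SimplicialObject.IsCoskeletal V n] : SSet.modelCategoryQuillen.I.rlp f := by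
  intro _ _ _ hi
  obtain ⟨i⟩ := hi
  refine ⟨fun {t b} sq => ?_⟩
  by_cases hin : i ≤ n
  · obtain ⟨v, hv⟩ : ∃ v, f.app (op ⦋i⦌) v = SSet.yonedaEquiv b := by
      rcases hin.lt_or_eq with h | rfl
      · exact (h1 i h).2 _
      · exact h2 _
    have e : SSet.yonedaEquiv.symm v ≫ f = b := by
      apply SSet.yonedaEquiv.injective
      rw [SSet.yonedaEquiv_comp, Equiv.apply_symm_apply, hv]
    refine ⟨⟨{ l := SSet.yonedaEquiv.symm v, fac_left := ?_, fac_right := e }⟩⟩
    obtain _ | m := i
    · exact SSet.boundary.hom_ext₀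
    refine SSet.boundary.hom_ext fun k => SSet.yonedaEquiv.injective ((h1 m (by omega)).1 ?_)
    rw [← SSet.yonedaEquiv_comp, ← SSet.yonedaEquiv_comp]
    simp only [Category.assoc, e, sq.w]
  · have hu : ∀ (j : SimplexCategory), j.len ≤ n → ∀ x : (Δ[i] : SSet.{u}).obj (op j), x ∈ (∂Δ[i] : (Δ[i] : SSet.{u}).Subcomplex).obj (op j) := by
      intro j hj x
      induction j using SimplexCategory.rec with
      | _ j =>
        rw [SSet.boundary_obj_eq_univ j i (by simp at hj; omega)]
        trivial
    obtain ⟨l, hl⟩ := Cosk.exists_ext (U := V) (G := (Δ[i] : SSet.{u}))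
      (fun j hj => ↾fun x => t.app (op j) ⟨x, hu j hj x⟩) (fun a c ha hc θ => by
        ext x
        exact NatTrans.naturality_apply t θ.op ⟨x, hu c hc x⟩)
    refine ⟨⟨{ l := l, fac_left := Cosk.hom_ext (n := n) fun j hj => ?_, fac_right := Cosk.hom_ext (n := n) fun j hj => ?_ }⟩⟩
    · ext x
      change l.app (op j) x.1 = t.app (op j) x
      rw [hl j hj]
      rfl
    · ext x
      change f.app (op j) (l.app (op j) x) = b.app (op j) x
      rw [hl j hj]
      exact ConcreteCategory.congr_hom (congr_app sq.w (op j)) ⟨x, hu j hj x⟩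

end Groth.Agent.S6782
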