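import Groth.Statements.S6783
import Mathlib.CategoryTheory.Limits.Shapes.ConcreteCategory
import Mathlib.AlgebraicTopology.SimplicialSet.Boundary

set_option autoImplicit false
open CategoryTheory
universe u
open SSet

namespace Groth.Agent.S6783
open SSet Simplicial Opposite

/-- For a surjective map of sets `f : A → B`, the augmentation from the Čech nerve of `f` (with
`n`-simplices the `(n+1)`-fold fibre product of `A` over `B`) to the constant simplicial set `B` is
a trivial Kan fibration. -/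
theorem result {A B : Type u} (f : A ⟶ B) (hf : Function.Surjective f) : SSet.modelCategoryQuillen.I.rlp (Arrow.mk f).augmentedCechNerve.hom := by
  intro _ _ _ hi
  obtain ⟨n⟩ := hi
  refine ⟨fun {t b} sq => ?_⟩
  let F : Arrow (Type u) := Arrow.mk f
  let N : SSet.{u} := F.cechNerve
  have ext : ∀ (m : SimplexCategory) (x y : N.obj (op m)),
      (∀ i : Fin (m.len + 1), Limits.WidePullback.π (fun _ : Fin (m.len + 1) => F.hom) i x = Limits.WidePullback.π (fun _ : Fin (m.len + 1) => F.hom) i y) → x = y :=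
    fun m x y h => Limits.Concrete.widePullback_ext' (C := Type u) (fun _ : Fin (m.len + 1) => F.hom) x y h
  have piMap : ∀ (m m' : SimplexCategory) (θ : m ⟶ m') (x : N.obj (op m')) (i : Fin (m.len + 1)),
      Limits.WidePullback.π (fun _ : Fin (m.len + 1) => F.hom) i (N.map θ.op x) = Limits.WidePullback.π (fun _ : Fin (m'.len + 1) => F.hom) (θ.toOrderHom i) x :=
    fun m m' θ x i => ConcreteCategory.congr_hom (Limits.WidePullback.lift_π (fun _ : Fin (m.len + 1) => F.hom) _ _ _ i) x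
  have baseMap : ∀ (m : SimplexCategory) (x : N.obj (op m)) (i : Fin (m.len + 1)),
      f (Limits.WidePullback.π (fun _ : Fin (m.len + 1) => F.hom) i x) = Limits.WidePullback.base (fun _ : Fin (m.len + 1) => F.hom) x :=
    fun m x i => ConcreteCategory.congr_hom (Limits.WidePullback.π_arrow (fun _ : Fin (m.len + 1) => F.hom) i) x
  -- the vertices of the simplex to be found
  have hb : ∀ (m : SimplexCategory) (e : (Δ[n] : SSet.{u}).obj (op m)), b.app (op m) e = SSet.yonedaEquiv b := by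
    intro m e
    have e' : (Δ[n] : SSet.{u}).map (stdSimplex.objEquiv e).op (stdSimplex.objEquiv.symm (𝟙 ⦋n⦌)) = e := by
      apply stdSimplex.objEquiv.injective
      simp [stdSimplex.map_apply]
    rw [← e', NatTrans.naturality_apply]
    rfl
  let vtx : Fin (n + 1) → (Δ[n] : SSet.{u}).obj (op ⦋0⦌) := fun k => stdSimplex.objEquiv.symm (SimplexCategory.const ⦋0⦌ ⦋n⦌ k)
  have hv : ∃ a : Fin (n + 1) → A, (∀ k, f (a k) = SSet.yonedaEquiv b) ∧
      ∀ k (h : vtx k ∈ (∂Δ[n] : (Δ[n] : SSet.{u}).Subcomplex).obj (op ⦋0⦌)),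
        a k = Limits.WidePullback.π (fun _ : Fin (0 + 1) => F.hom) 0 (t.app (op ⦋0⦌) ⟨vtx k, h⟩) := by
    classical
    refine ⟨fun k => if h : vtx k ∈ (∂Δ[n] : (Δ[n] : SSet.{u}).Subcomplex).obj (op ⦋0⦌) then
      Limits.WidePullback.π (fun _ : Fin (0 + 1) => F.hom) 0 (t.app (op ⦋0⦌) ⟨vtx k, h⟩) else (hf (SSet.yonedaEquiv b)).choose,
      fun k => ?_, fun k h => dif_pos h⟩
    dsimp only
    split
    next h =>
      refine (baseMap ⦋0⦌ (t.app (op ⦋0⦌) ⟨vtx k, h⟩) 0).trans ?_
      exact (ConcreteCategory.congr_hom (congr_app sq.w (op ⦋0⦌)) ⟨vtx k, h⟩).trans (hb ⦋0⦌ _)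
    next h => exact (hf (SSet.yonedaEquiv b)).choose_spec
  obtain ⟨a, ha, hat⟩ := hv
  let v : N.obj (op ⦋n⦌) :=
    Limits.WidePullback.lift (arrows := fun _ : Fin (n + 1) => F.hom) (X := PUnit.{u + 1}) (↾fun _ => SSet.yonedaEquiv b)
      (fun k => ↾fun _ => a k) (fun k => by ext; exact ha k) PUnit.unit
  have hva : ∀ k, Limits.WidePullback.π (fun _ : Fin (n + 1) => F.hom) k v = a k := fun k =>
    ConcreteCategory.congr_hom (Limits.WidePullback.lift_π (fun _ : Fin (n + 1) => F.hom) _ _ _ k) PUnit.unit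
  refine ⟨⟨{ l := SSet.yonedaEquiv.symm v, fac_left := ?_, fac_right := ?_ }⟩⟩
  · ext ⟨m⟩ ⟨e, he⟩
    refine ext m _ _ fun i => ?_
    let θ := SimplexCategory.const ⦋0⦌ m i
    change Limits.WidePullback.π (fun _ : Fin (m.len + 1) => F.hom) i (N.map (stdSimplex.objEquiv e).op v) = _
    refine (piMap _ _ _ v i).trans ((hva _).trans ?_)
    have hmem : vtx ((stdSimplex.objEquiv e).toOrderHom i) = (Δ[n] : SSet.{u}).map θ.op e := by
      apply stdSimplex.objEquiv.injective
      apply SimplexCategory.Hom.ext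
      ext k : 2
      rfl
    have hin : vtx ((stdSimplex.objEquiv e).toOrderHom i) ∈ (∂Δ[n] : (Δ[n] : SSet.{u}).Subcomplex).obj (op ⦋0⦌) :=
      hmem ▸ (∂Δ[n] : (Δ[n] : SSet.{u}).Subcomplex).map θ.op he
    refine (hat _ hin).trans ?_
    have hsub : (⟨_, hin⟩ : (∂Δ[n] : SSet.{u}).obj (op ⦋0⦌)) = (∂Δ[n] : SSet.{u}).map θ.op ⟨e, he⟩ := Subtype.ext hmem
    rw [hsub]
    exact (congrArg _ (NatTrans.naturality_apply t θ.op ⟨e, he⟩)).trans (piMap ⦋0⦌ m θ _ 0)
  · ext ⟨m⟩ e
    refine Eq.trans ?_ (hb m e).symm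
    change Limits.WidePullback.base (fun _ : Fin (m.len + 1) => F.hom) (N.map (stdSimplex.objEquiv e).op v) = SSet.yonedaEquiv b
    refine (baseMap m _ 0).symm.trans ?_
    exact ((congrArg _ (piMap _ _ _ v 0)).trans (congrArg _ (hva _))).trans (ha _)

end Groth.Agent.S6783
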