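import Groth.Statements.S6784
import Groth.Agent.CategoryFibred.Cosk
import Mathlib.AlgebraicTopology.SimplicialSet.StdSimplex

set_option autoImplicit false
open CategoryTheory
universe u
open SSet

namespace Groth.Agent.S6784
open SSet Simplicial Opposite
open Groth.CatFib

/-- The standard simplex `Δ[n]` is `1`-coskeletal, i.e. it is the right Kan extension of its
`1`-truncation. -/
theorem result (n : ℕ) : SimplicialObject.IsCoskeletal (SSet.stdSimplex.{u}.obj (SimplexCategory.mk n)) 1 := by
  refine Cosk.isCoskeletal_of (fun G φ hφ => ?_) fun G g g' h => ?_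
  · let v : ∀ (j : SimplexCategory), G.obj (op j) → Fin (j.len + 1) → Fin (n + 1) := fun j x k =>
      stdSimplex.asOrderHom (φ ⦋0⦌ (Nat.zero_le 1) (G.map (SimplexCategory.const ⦋0⦌ j k).op x)) 0
    have edge : ∀ (j : SimplexCategory) (x : G.obj (op j)) (e : ⦋1⦌ ⟶ j) (k : Fin 2),
        stdSimplex.asOrderHom (φ ⦋1⦌ le_rfl (G.map e.op x)) k = v j x (e.toOrderHom k) := by
      intro j x e k
      have w := ConcreteCategory.congr_hom (hφ ⦋0⦌ ⦋1⦌ (Nat.zero_le 1) le_rfl (SimplexCategory.const ⦋0⦌ ⦋1⦌ k)) (G.map e.op x)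
      simp only [types_comp_apply] at w
      have e' : G.map (SimplexCategory.const ⦋0⦌ ⦋1⦌ k).op (G.map e.op x) = G.map (SimplexCategory.const ⦋0⦌ j (e.toOrderHom k)).op x := by
        rw [← Functor.map_comp_apply, ← op_comp]
        rfl
      rw [e'] at w
      change _ = stdSimplex.asOrderHom (φ ⦋0⦌ (Nat.zero_le 1) (G.map (SimplexCategory.const ⦋0⦌ j (e.toOrderHom k)).op x)) 0
      rw [w]
      rfl
    have mono : ∀ j x, Monotone (v j x) := by
      intro j x k l hkl
      let e : ⦋1⦌ ⟶ j := SimplexCategory.mkOfLe (n := j.len) k l hkl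
      have h0 := edge j x e 0
      have h1 := edge j x e 1
      change v j x (e.toOrderHom 0) ≤ v j x (e.toOrderHom 1)
      rw [← h0, ← h1]
      exact OrderHom.monotone _ (Fin.zero_le _)
    refine ⟨{ app := fun m => ↾fun x => stdSimplex.objMk ⟨v m.unop x, mono m.unop x⟩, naturality := fun m m' θ => ?_ }, fun j hj => ?_⟩
    · ext x
      apply stdSimplex.objEquiv.injective
      apply SimplexCategory.Hom.ext
      ext k : 2
      change v m'.unop (G.map θ x) k = v m.unop x (θ.unop.toOrderHom k)
      simp only [v]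
      rw [← Functor.map_comp_apply]
      rfl
    · ext x
      apply stdSimplex.objEquiv.injective
      apply SimplexCategory.Hom.ext
      ext k : 2
      change v j x k = stdSimplex.asOrderHom (φ j hj x) k
      have w := ConcreteCategory.congr_hom (hφ ⦋0⦌ j (Nat.zero_le 1) hj (SimplexCategory.const ⦋0⦌ j k)) x
      simp only [types_comp_apply] at w
      simp only [v, w]
      rfl
  · ext m x
    apply stdSimplex.objEquiv.injective
    apply SimplexCategory.Hom.ext
    ext k : 2
    have a := ConcreteCategory.congr_hom (h ⦋0⦌ (Nat.zero_le 1)) (G.map (SimplexCategory.const ⦋0⦌ m.unop k).op x)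
    rw [NatTrans.naturality_apply, NatTrans.naturality_apply] at a
    exact congrArg (fun s => stdSimplex.asOrderHom s 0) a

end Groth.Agent.S6784
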