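import Groth.Statements.S6785
import Mathlib.AlgebraicTopology.SimplicialSet.CategoryWithFibrations
import Mathlib.AlgebraicTopology.SimplicialSet.Homotopy

set_option autoImplicit false
open CategoryTheory
universe u
open SSet

namespace Groth.Agent.S6785
open SSet MonoidalCategory CartesianMonoidalCategory Simplicial Opposite

lemma exists_homotopy {X Y : SSet.{u}} (f : X ⟶ Y) (hf : (MorphismProperty.monomorphisms SSet.{u}).rlp f)
    (a b : X ⟶ X) (ha : a ≫ f = f) (hb : b ≫ f = f) : Nonempty (SSet.Homotopy a b) := by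
  let S : (X ⊗ Δ[1]).Subcomplex := (⊤ : X.Subcomplex).prod ∂Δ[1]
  have const : ∀ (m : SimplexCategoryᵒᵖ) (e : (Δ[1] : SSet.{u}).obj m), e ∈ (∂Δ[1] : (Δ[1] : SSet.{u}).Subcomplex).obj m →
      ∀ i j, stdSimplex.asOrderHom e i = stdSimplex.asOrderHom e j := by
    intro m e he i j
    by_contra h
    refine he fun k => ?_
    rcases (by omega : k.val = (stdSimplex.asOrderHom e i).val ∨ k.val = (stdSimplex.asOrderHom e j).val) with h' | h'
    · exact ⟨i, Fin.ext h'.symm⟩
    · exact ⟨j, Fin.ext h'.symm⟩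
  let t : (S : SSet) ⟶ X :=
    { app := fun m => ↾fun x => if stdSimplex.asOrderHom x.1.2 0 = 0 then a.app m x.1.1 else b.app m x.1.1
      naturality := fun m m' θ => by
        ext x
        obtain ⟨⟨x, e⟩, -, he⟩ := x
        change (if stdSimplex.asOrderHom ((Δ[1] : SSet.{u}).map θ e) 0 = 0 then a.app m' (X.map θ x) else b.app m' (X.map θ x)) =
          X.map θ (if stdSimplex.asOrderHom e 0 = 0 then a.app m x else b.app m x)
        have : stdSimplex.asOrderHom ((Δ[1] : SSet.{u}).map θ e) 0 = stdSimplex.asOrderHom e 0 := const m e he _ _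
        rw [this]
        split
        · exact NatTrans.naturality_apply a θ x
        · exact NatTrans.naturality_apply b θ x }
  have := hf _ (MorphismProperty.monomorphisms.infer_property S.ι)
  have sq : CommSq t S.ι f (fst X Δ[1] ≫ f) := ⟨by
    ext m x
    change f.app m (if stdSimplex.asOrderHom x.1.2 0 = 0 then a.app m x.1.1 else b.app m x.1.1) = f.app m x.1.1
    split
    · exact ConcreteCategory.congr_hom (congr_app ha m) _
    · exact ConcreteCategory.congr_hom (congr_app hb m) _⟩
  have hS : ∀ (m : SimplexCategoryᵒᵖ) (x : X.obj m) (k : Fin 2),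
      ((x, (SSet.const (stdSimplex.obj₀Equiv.{u}.symm k) : X ⟶ Δ[1]).app m x) : (X ⊗ Δ[1]).obj m) ∈ S.obj m := by
    intro m x k
    refine ⟨trivial, fun h => ?_⟩
    obtain ⟨i, hi⟩ := h (if k = 0 then 1 else 0)
    have h' : k = (if k = 0 then 1 else 0) := hi
    revert h'
    fin_cases k <;> decide
  refine ⟨{ h := sq.lift, h₀ := ?_, h₁ := ?_, rel := ?_ }⟩
  · ext m x
    change sq.lift.app m (x, (SSet.const (stdSimplex.obj₀Equiv.{u}.symm 0) : X ⟶ Δ[1]).app m x) = a.app m x
    refine (ConcreteCategory.congr_hom (congr_app sq.fac_left m) ⟨_, hS m x 0⟩).trans ?_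
    change (if stdSimplex.asOrderHom ((SSet.const (stdSimplex.obj₀Equiv.{u}.symm 0) : X ⟶ Δ[1]).app m x) 0 = 0 then a.app m x else b.app m x) = a.app m x
    exact if_pos rfl
  · ext m x
    change sq.lift.app m (x, (SSet.const (stdSimplex.obj₀Equiv.{u}.symm 1) : X ⟶ Δ[1]).app m x) = b.app m x
    refine (ConcreteCategory.congr_hom (congr_app sq.fac_left m) ⟨_, hS m x 1⟩).trans (if_neg ?_)
    exact (by decide : (1 : Fin 2) ≠ 0)
  · ext m x
    exact x.1.2.elim


/-- A trivial Kan fibration `f : X ⟶ Y` of simplicial sets is a homotopy equivalence; more precisely it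
has a section `g`, and `g ∘ f` is homotopic to the identity of `X` by a single homotopy in each
direction. (The published statement only asserts a homotopy equivalence; the section and the
one-step homotopies are what its proof constructs.) -/
theorem result {X Y : SSet.{u}} (f : X ⟶ Y) (hf : SSet.modelCategoryQuillen.I.rlp f) : ∃ g : Y ⟶ X, g ≫ f = 𝟙 Y ∧ Nonempty (SSet.Homotopy (𝟙 X) (f ≫ g)) ∧ Nonempty (SSet.Homotopy (f ≫ g) (𝟙 X)) := by
  rw [← SSet.rlp_monomorphisms] at hf
  have hm : Mono ((⊥ : Y.Subcomplex).ι) := inferInstance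
  have := hf _ (MorphismProperty.monomorphisms.infer_property ((⊥ : Y.Subcomplex).ι))
  have sq : CommSq (Subcomplex.isInitialBot.to X) (⊥ : Y.Subcomplex).ι f (𝟙 Y) := ⟨Subcomplex.isInitialBot.hom_ext _ _⟩
  refine ⟨sq.lift, sq.fac_right, ?_, ?_⟩
  · exact exists_homotopy f hf (𝟙 X) (f ≫ sq.lift) (Category.id_comp f) (by rw [Category.assoc, sq.fac_right, Category.comp_id])
  · exact exists_homotopy f hf (f ≫ sq.lift) (𝟙 X) (by rw [Category.assoc, sq.fac_right, Category.comp_id]) (Category.id_comp f)

end Groth.Agent.S6785
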