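import Groth.Statements.S6786
import Groth.Agent.DAlg.MittagLeffler
import Groth.Agent.DAlg.MittagLefflerNat


set_option autoImplicit false
open CategoryTheory CategoryTheory.Limits
universe u
open HomAlg3

namespace Groth.Agent.S6786

/-- For a sequence `(A_i) ⟶ (B_i) ⟶ (C_i) ⟶ (D_i)` of inverse systems of abelian groups over `ℕ` that is
exact levelwise at the two middle places, if `(A_i)` is Mittag-Leffler then `lim B_i ⟶ lim C_i ⟶ lim
D_i` is exact. -/
theorem result {A B C D : ℕᵒᵖ ⥤ AddCommGrpCat.{u}} (a : A ⟶ B) (b : B ⟶ C) (c : C ⟶ D) (hB : ∀ i, (b.app i).hom.ker = (a.app i).hom.range) (hC : ∀ i, (c.app i).hom.ker = (b.app i).hom.range) (hA : (A ⋙ forget AddCommGrpCat).IsMittagLeffler) : (limMap c).hom.ker = (limMap b).hom.range := by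
  exact Groth.DAlg.MittagLefflerNat.ker_limMap_eq a b c hB hC
    ((Groth.DAlg.MittagLeffler.isMittagLeffler_iff A).1 hA)

end Groth.Agent.S6786
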