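import Groth.Statements.S6787
import Groth.Agent.DAlg.MittagLeffler
import Groth.Agent.DAlg.MittagLefflerNat


set_option autoImplicit false
open CategoryTheory CategoryTheory.Limits
universe u
open HomAlg3

namespace Groth.Agent.S6787

/-- Take inverse systems `(A_i)`, `(B_i)`, `(C_i)` of abelian groups over `ℕ`, with morphisms of systems
`(A_i) ⟶ (B_i) ⟶ (C_i)` that give a short exact sequence at every index, and suppose `(C_i)` is
essentially constant. Then `(A_i)` is Mittag-Leffler if and only if `(B_i)` is. -/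
theorem result {A B C : ℕᵒᵖ ⥤ AddCommGrpCat.{u}} (a : A ⟶ B) (b : B ⟶ C) (ha : ∀ i, Function.Injective (a.app i).hom) (hb : ∀ i, Function.Surjective (b.app i).hom) (hex : ∀ i, (b.app i).hom.ker = (a.app i).hom.range) (hC : ∃ (C₀ : AddCommGrpCat.{u}) (c : (Functor.const ℕᵒᵖ).obj C₀ ⟶ C), DerCA.IsEssConstant C C₀ c) : (A ⋙ forget AddCommGrpCat).IsMittagLeffler ↔ (B ⋙ forget AddCommGrpCat).IsMittagLeffler := by
  rw [Groth.DAlg.MittagLeffler.isMittagLeffler_iff, Groth.DAlg.MittagLeffler.isMittagLeffler_iff]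
  exact Groth.DAlg.MittagLefflerNat.ml_iff_of_essConstant a b ha hb hex hC

end Groth.Agent.S6787
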