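import Groth.Statements.S6789
import Mathlib.AlgebraicTopology.CechNerve
import Mathlib.AlgebraicTopology.SimplicialObject.Homotopy

set_option autoImplicit false
open CategoryTheory CategoryTheory.Limits
universe v u
open CategoryTheory CategoryTheory.SimplicialObject

namespace Groth.Agent.S6789
open Simplicial Opposite CategoryTheory.Limits

lemma val_δ {n : ℕ} (i : Fin (n + 2)) (k : Fin (n + 1)) :
    ((SimplexCategory.δ i).toOrderHom k).val = if k.val < i.val then k.val else k.val + 1 := by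
  change (i.succAbove k).val = _
  by_cases h : k.castSucc < i
  · rw [Fin.succAbove_of_castSucc_lt _ _ h, if_pos (by simpa [Fin.lt_def] using h)]; rfl
  · rw [Fin.succAbove_of_le_castSucc _ _ (not_lt.1 h), if_neg (by simpa [Fin.lt_def] using h)]; rfl

lemma val_σ {n : ℕ} (i : Fin (n + 1)) (k : Fin (n + 2)) :
    ((SimplexCategory.σ i).toOrderHom k).val = if i.val < k.val then k.val - 1 else k.val := by
  change (i.predAbove k).val = _
  by_cases h : i.castSucc < k
  · rw [Fin.predAbove_of_castSucc_lt _ _ h, if_pos (by simpa [Fin.lt_def] using h)]; simp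
  · rw [Fin.predAbove_of_le_castSucc _ _ (not_lt.1 h), if_neg (by simpa [Fin.lt_def] using h)]; rfl

lemma cech_homotopy {C : Type u} [Category.{v} C] (F : Arrow C)
    [∀ n : ℕ, HasWidePullback F.right (fun _ : Fin (n + 1) => F.left) (fun _ => F.hom)]
    (p q : F.cechNerve ⟶ F.cechNerve) (a b : F.left ⟶ F.left) (ha : a ≫ F.hom = F.hom) (hb : b ≫ F.hom = F.hom)
    (hp : ∀ (n : ℕ) (k : Fin (n + 1)), p.app (op ⦋n⦌) ≫ WidePullback.π (fun _ => F.hom) k = WidePullback.π (fun _ => F.hom) k ≫ a)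
    (hp' : ∀ n : ℕ, p.app (op ⦋n⦌) ≫ WidePullback.base (fun _ => F.hom) = WidePullback.base (fun _ : Fin (n + 1) => F.hom))
    (hq : ∀ (n : ℕ) (k : Fin (n + 1)), q.app (op ⦋n⦌) ≫ WidePullback.π (fun _ => F.hom) k = WidePullback.π (fun _ => F.hom) k ≫ b)
    (hq' : ∀ n : ℕ, q.app (op ⦋n⦌) ≫ WidePullback.base (fun _ => F.hom) = WidePullback.base (fun _ : Fin (n + 1) => F.hom)) :
    Nonempty (SimplicialObject.Homotopy p q) := by
  let P : ∀ n : ℕ, Fin (n + 1) → (F.cechNerve.obj (op ⦋n⦌) ⟶ F.left) := fun n k => WidePullback.π (fun _ => F.hom) k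
  let B : ∀ n : ℕ, F.cechNerve.obj (op ⦋n⦌) ⟶ F.right := fun n => WidePullback.base (fun _ => F.hom)
  have ext : ∀ (n : ℕ) {W : C} {u w : W ⟶ F.cechNerve.obj (op ⦋n⦌)}, (∀ k, u ≫ P n k = w ≫ P n k) → u ≫ B n = w ≫ B n → u = w :=
    fun n W u w h h' => WidePullback.hom_ext _ _ _ h h'
  let c : ℕ → ℕ → (F.left ⟶ F.left) := fun i k => if k ≤ i then a else b
  have hc : ∀ i k, c i k ≫ F.hom = F.hom := fun i k => by dsimp only [c]; split <;> assumption
  let h : ∀ {n : ℕ}, Fin (n + 1) → (F.cechNerve.obj (op ⦋n⦌) ⟶ F.cechNerve.obj (op ⦋n + 1⦌)) := fun {n} i =>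
    WidePullback.lift (arrows := fun _ => F.hom) (B n) (fun k => P n ((SimplexCategory.σ i).toOrderHom k) ≫ c i.val k.val)
      (fun k => by rw [Category.assoc, hc]; exact WidePullback.π_arrow _ _)
  have hP : ∀ {n : ℕ} (i : Fin (n + 1)) k, h i ≫ P (n + 1) k = P n ((SimplexCategory.σ i).toOrderHom k) ≫ c i.val k.val :=
    fun i k => WidePullback.lift_π _ _ _ _ _
  have hB : ∀ {n : ℕ} (i : Fin (n + 1)), h i ≫ B (n + 1) = B n := fun i => WidePullback.lift_base _ _ _ _
  have mP : ∀ {n m : ℕ} (θ : ⦋n⦌ ⟶ ⦋m⦌) k, F.cechNerve.map θ.op ≫ P n k = P m (θ.toOrderHom k) :=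
    fun θ k => WidePullback.lift_π _ _ _ _ _
  have mB : ∀ {n m : ℕ} (θ : ⦋n⦌ ⟶ ⦋m⦌), F.cechNerve.map θ.op ≫ B n = B m := fun θ => WidePullback.lift_base _ _ _ _
  have pP : ∀ n k, p.app (op ⦋n⦌) ≫ P n k = P n k ≫ a := hp
  have qP : ∀ n k, q.app (op ⦋n⦌) ≫ P n k = P n k ≫ b := hq
  have pB : ∀ n, p.app (op ⦋n⦌) ≫ B n = B n := hp'
  have qB : ∀ n, q.app (op ⦋n⦌) ≫ B n = B n := hq'
  have cong : ∀ {n : ℕ} (k k' : Fin (n + 1)) (i j i' j' : ℕ), k.val = k'.val → (j ≤ i ↔ j' ≤ i') → P n k ≫ c i j = P n k' ≫ c i' j' := by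
    intro n k k' i j i' j' hk hij
    rw [Fin.ext hk]
    simp only [c, hij]
  have ca : ∀ i j, j ≤ i → c i j = a := fun i j hh => if_pos hh
  have cb : ∀ i j, i < j → c i j = b := fun i j hh => if_neg (by omega)
  refine ⟨{ h := fun i => h i
            h_zero_comp_δ_zero := fun n => ext n (fun k => ?_) ?_
            h_last_comp_δ_last := fun n => ext n (fun k => ?_) ?_
            h_succ_comp_δ_castSucc_of_lt := fun {n} i j hij => ext _ (fun k => ?_) ?_
            h_succ_comp_δ_castSucc_succ := fun {n} j => ext _ (fun k => ?_) ?_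
            h_castSucc_comp_δ_succ_of_lt := fun {n} i j hij => ext _ (fun k => ?_) ?_
            h_comp_σ_castSucc_of_le := fun {n} i j hij => ext _ (fun k => ?_) ?_
            h_comp_σ_succ_of_lt := fun {n} i j hij => ext _ (fun k => ?_) ?_ }⟩ <;>
    simp only [SimplicialObject.δ, SimplicialObject.σ, Category.assoc, mP, mB, hP, hB, pP, qP, pB, qB, reassoc_of% @mP, reassoc_of% @mB]
  · rw [cb _ _ (by rw [val_δ]; simp)]
    congr 2
  · have := k.isLt
    rw [ca _ _ (by rw [val_δ]; simp only [Fin.val_last]; split <;> omega)]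
    congr 2
    apply Fin.ext
    simp only [val_σ, val_δ, Fin.val_last]
    split_ifs <;> omega
  all_goals
    refine cong _ _ _ _ _ _ ?_ ?_ <;> have := k.isLt <;> have := j.isLt <;>
      simp only [val_σ, val_δ, Fin.val_succ, Fin.val_castSucc, Fin.le_def, Fin.lt_def] at * <;>
      split_ifs <;> omega


/-- For a morphism `f : Y ⟶ X` with a section `s`, the endomorphism of the Čech nerve of `f` (the
simplicial object of iterated fibre products of `Y` over `X`) that applies `s ∘ f` factorwise admits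
simplicial homotopies to and from the identity: the published formula gives one direction and its
mirror image (exchange the roles of the identity and `s ∘ f`) gives the other. -/
theorem result {C : Type u} [Category.{v} C] {Y X : C} (f : Y ⟶ X) (s : X ⟶ Y) (hs : s ≫ f = 𝟙 X) [∀ n : ℕ, HasWidePullback (Arrow.mk f).right (fun _ : Fin (n + 1) => (Arrow.mk f).left) (fun _ => (Arrow.mk f).hom)] (φ : Arrow.mk f ⟶ Arrow.mk f) (hφl : φ.left = f ≫ s) (hφr : φ.right = 𝟙 X) : Nonempty (SimplicialObject.Homotopy (𝟙 (Arrow.mk f).cechNerve) (Arrow.mapCechNerve φ)) ∧ Nonempty (SimplicialObject.Homotopy (Arrow.mapCechNerve φ) (𝟙 (Arrow.mk f).cechNerve)) := by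
  have e : ∀ n : ℕ, ∀ k : Fin (n + 1), (Arrow.mapCechNerve φ).app (op ⦋n⦌) ≫ WidePullback.π (fun _ => (Arrow.mk f).hom) k =
      WidePullback.π (fun _ => (Arrow.mk f).hom) k ≫ (f ≫ s) := fun n k =>
    (WidePullback.lift_π _ _ _ _ _).trans (congrArg (WidePullback.π (fun _ => (Arrow.mk f).hom) k ≫ ·) hφl)
  have e' : ∀ n : ℕ, (Arrow.mapCechNerve φ).app (op ⦋n⦌) ≫ WidePullback.base (fun _ : Fin (n + 1) => (Arrow.mk f).hom) =
      WidePullback.base (fun _ : Fin (n + 1) => (Arrow.mk f).hom) := fun n =>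
    (WidePullback.lift_base _ _ _ _).trans ((congrArg (WidePullback.base _ ≫ ·) hφr).trans (Category.comp_id _))
  have hg : (f ≫ s) ≫ (Arrow.mk f).hom = (Arrow.mk f).hom := by
    change (f ≫ s) ≫ f = f
    rw [Category.assoc, hs, Category.comp_id]
  exact ⟨cech_homotopy _ _ _ (𝟙 _) (f ≫ s) (Category.id_comp _) hg
      (fun n k => (Category.id_comp _).trans (Category.comp_id _).symm) (fun n => Category.id_comp _) e e',
    cech_homotopy _ _ _ (f ≫ s) (𝟙 _) hg (Category.id_comp _) e e'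
      (fun n k => (Category.id_comp _).trans (Category.comp_id _).symm) (fun n => Category.id_comp _)⟩

end Groth.Agent.S6789
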