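import Groth.Statements.S6790


set_option autoImplicit false
open CategoryTheory CategoryTheory.Limits MonoidalCategory
universe v u
open CategoryTheory CategoryTheory.Monoidal

namespace Groth.Agent.S6790
open MonoidalCategory in
/-- Data of a dual of a summand. -/
private lemma exists_pairing {A : Type u} [Category.{v} A] [MonoidalCategory A] {X Y X₁ Y₁ : A}
    [ExactPairing X Y] (i : X₁ ⟶ X) (p : X ⟶ X₁) (hip : i ≫ p = 𝟙 X₁) (j : Y₁ ⟶ Y) (q : Y ⟶ Y₁)
    (hjq : j ≫ q = 𝟙 Y₁) (hη : η_ X Y ≫ X ◁ (q ≫ j) = η_ X Y ≫ (p ≫ i) ▷ Y)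
    (hε : (q ≫ j) ▷ X ≫ ε_ X Y = Y ◁ (p ≫ i) ≫ ε_ X Y) : Nonempty (ExactPairing X₁ Y₁) := by
  have e2 : p ≫ i ≫ p = p := by rw [hip, Category.comp_id]
  refine ⟨{ coevaluation' := η_ X Y ≫ (p ⊗ₘ q), evaluation' := (j ⊗ₘ i) ≫ ε_ X Y,
            coevaluation_evaluation' := ?_, evaluation_coevaluation' := ?_ }⟩
  · simp only [tensorHom_def, MonoidalCategory.whiskerLeft_comp, comp_whiskerRight, Category.assoc]
    rw [← associator_inv_naturality_left_assoc, whisker_exchange_assoc, whisker_exchange_assoc,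
      whisker_exchange_assoc, associator_inv_naturality_right_assoc, whisker_exchange_assoc,
      whisker_exchange]
    have hm : Y ◁ p ▷ Y ≫ (α_ Y X₁ Y).inv ≫ (Y ◁ i) ▷ Y = Y ◁ (p ≫ i) ▷ Y ≫ (α_ Y X Y).inv := by
      rw [← associator_inv_naturality_middle, ← MonoidalCategory.whiskerLeft_comp_assoc,
        ← comp_whiskerRight]
    rw [reassoc_of% hm, ← MonoidalCategory.whiskerLeft_comp_assoc, ← hη,
      MonoidalCategory.whiskerLeft_comp_assoc, associator_inv_naturality_right_assoc,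
      whisker_exchange_assoc, ExactPairing.coevaluation_evaluation_assoc,
      ← MonoidalCategory.whiskerLeft_comp, ← leftUnitor_inv_naturality,
      rightUnitor_naturality_assoc]
    simp [hjq, reassoc_of% hjq]
  · simp only [tensorHom_def, MonoidalCategory.whiskerLeft_comp, comp_whiskerRight, Category.assoc]
    rw [associator_naturality_middle_assoc, associator_naturality_left_assoc,
      ← whisker_exchange_assoc, ← whisker_exchange_assoc, ← whisker_exchange_assoc,
      ← whisker_exchange]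
    have hm : q ▷ X₁ ≫ j ▷ X₁ ≫ Y ◁ i ≫ ε_ X Y = Y ◁ i ≫ ε_ X Y := by
      rw [← comp_whiskerRight_assoc, ← whisker_exchange_assoc, hε,
        ← MonoidalCategory.whiskerLeft_comp_assoc, reassoc_of% hip]
    have hm' : X ◁ q ▷ X₁ ≫ X ◁ j ▷ X₁ ≫ X ◁ Y ◁ i ≫ X ◁ ε_ X Y = X ◁ Y ◁ i ≫ X ◁ ε_ X Y := by
      simp only [← MonoidalCategory.whiskerLeft_comp, hm]
    rw [reassoc_of% hm', ← associator_naturality_right_assoc, ← whisker_exchange_assoc,
      ExactPairing.evaluation_coevaluation_assoc, ← rightUnitor_inv_naturality,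
      leftUnitor_naturality_assoc, reassoc_of% hip]

/-- In an idempotent-complete additive monoidal category, a direct summand of an object admitting a dual
(with coevaluation `𝟙_ A ⟶ X ⊗ Y` and evaluation `Y ⊗ X ⟶ 𝟙_ A`) again admits such a dual. -/
theorem result {A : Type u} [Category.{v} A] [Preadditive A] [HasFiniteBiproducts A] [MonoidalCategory A] [MonoidalPreadditive A] [IsIdempotentComplete A] {X X₁ : A} (i : X₁ ⟶ X) (p : X ⟶ X₁) (hip : i ≫ p = 𝟙 X₁) [HasRightDual X] : Nonempty (HasRightDual X₁) := by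
  obtain ⟨Y₁, j, q, hjq, hqj⟩ := IsIdempotentComplete.idempotents_split (Xᘁ) ((p ≫ i)ᘁ) (by
    rw [← comp_rightAdjointMate, Category.assoc, reassoc_of% hip])
  obtain ⟨h⟩ := exists_pairing (X := X) (Y := Xᘁ) i p hip j q hjq
    (by rw [hqj]; exact coevaluation_comp_rightAdjointMate (p ≫ i))
    (by rw [hqj]; exact rightAdjointMate_comp_evaluation (p ≫ i))
  exact ⟨⟨Y₁⟩⟩

end Groth.Agent.S6790
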