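import Groth.Statements.S6791
import Mathlib.CategoryTheory.Abelian.SerreClass.Localization
import Mathlib.CategoryTheory.Localization.CalculusOfFractions

set_option autoImplicit false
open CategoryTheory CategoryTheory.Limits
universe v u v' u' v'' u''
open CategoryTheory CategoryTheory.SerreClass

namespace Groth.Agent.S6791

/-- For an exact functor `F : A ⥤ B` of abelian categories and a Serre class `P` of `A` killed by `F`,
with `L : A ⥤ Q` a model of the quotient `A/P` and `Fbar : Q ⥤ B` the induced functor, `P` is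
exactly the kernel of `F` if and only if `Fbar` is faithful. -/
theorem result {A : Type u} [Category.{v} A] [Abelian A] {B : Type u'} [Category.{v'} B] [Abelian B] (F : A ⥤ B) [F.Additive] [PreservesFiniteLimits F] [PreservesFiniteColimits F] (P : ObjectProperty A) [P.IsSerreClass] (hP : ∀ X : A, P X → IsZero (F.obj X)) {Q : Type u''} [Category.{v''} Q] [Abelian Q] (L : A ⥤ Q) [L.IsLocalization P.isoModSerre] [L.Additive] [PreservesFiniteLimits L] [PreservesFiniteColimits L] (Fbar : Q ⥤ B) (e : L ⋙ Fbar ≅ F) : (∀ X : A, IsZero (F.obj X) → P X) ↔ Fbar.Faithful := by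
  have hL : ∀ {X Y : A} (f : X ⟶ Y), P (Abelian.image f) → L.map f = 0 := by
    intro X Y f hf
    obtain ⟨Y', s, hs, eq⟩ := (P.exists_comp_isoModSerre_eq_zero_iff f).2 hf
    have := Localization.inverts L P.isoModSerre s hs
    rw [← cancel_mono (L.map s), ← L.map_comp, eq, L.map_zero, zero_comp]
  constructor
  · intro h
    refine ⟨fun {U V} g g' hgg' => ?_⟩
    have := Localization.essSurj L P.isoModSerre
    suffices key : ∀ {X Y : A} (g g' : L.obj X ⟶ L.obj Y), Fbar.map g = Fbar.map g' → g = g' by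
      let eU := L.objObjPreimageIso U
      let eV := L.objObjPreimageIso V
      have := key (eU.hom ≫ g ≫ eV.inv) (eU.hom ≫ g' ≫ eV.inv) (by simp [hgg'])
      simpa using this
    intro X Y g g' hg
    obtain ⟨φ, hφ⟩ := Localization.exists_leftFraction L P.isoModSerre g
    obtain ⟨ψ, hψ⟩ := Localization.exists_leftFraction L P.isoModSerre g'
    obtain ⟨χ, hχ⟩ := (MorphismProperty.RightFraction.mk (W := P.isoModSerre) φ.s φ.hs ψ.s).exists_leftFraction
    dsimp at hχ
    have hs : P.isoModSerre (ψ.s ≫ χ.s) := P.isoModSerre.comp_mem _ _ ψ.hs χ.hs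
    have := Localization.inverts L P.isoModSerre _ hs
    have e1 : g ≫ L.map (ψ.s ≫ χ.s) = L.map (φ.f ≫ χ.f) := by
      rw [hχ, L.map_comp, L.map_comp, hφ, φ.map_comp_map_s_assoc]
    have e2 : g' ≫ L.map (ψ.s ≫ χ.s) = L.map (ψ.f ≫ χ.s) := by
      rw [L.map_comp, L.map_comp, hψ, ψ.map_comp_map_s_assoc]
    have e3 : F.map (φ.f ≫ χ.f) = F.map (ψ.f ≫ χ.s) := by
      rw [← cancel_epi (e.hom.app _), ← e.hom.naturality, ← e.hom.naturality]
      congr 1
      simp only [Functor.comp_map, ← e1, ← e2, Functor.map_comp, hg]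
    have e4 : IsZero (F.obj (Abelian.image (φ.f ≫ χ.f - ψ.f ≫ χ.s))) := by
      have h0 : F.map (Abelian.factorThruImage (φ.f ≫ χ.f - ψ.f ≫ χ.s)) ≫
          F.map (Abelian.image.ι (φ.f ≫ χ.f - ψ.f ≫ χ.s)) = 0 := by
        rw [← F.map_comp, Abelian.image.fac, F.map_sub, sub_eq_zero, e3]
      have h0' := zero_of_epi_comp _ h0
      exact IsZero.of_mono_eq_zero _ h0'
    have e5 := hL _ (h _ e4)
    rw [L.map_sub, sub_eq_zero] at e5
    rw [← cancel_mono (L.map (ψ.s ≫ χ.s)), e1, e2, e5]
  · intro hF X hX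
    have hz : IsZero (Fbar.obj (L.obj X)) := hX.of_iso (e.app X)
    have h0 : 𝟙 (L.obj X) = 0 := Fbar.map_injective (hz.eq_of_src _ _)
    have hid : L.map (𝟙 X) = L.map 0 := by rw [L.map_id, L.map_zero, h0]
    obtain ⟨Z, s, hs, eq⟩ := (MorphismProperty.map_eq_iff_postcomp L P.isoModSerre _ _).1 hid
    rw [zero_comp] at eq
    have : P (Abelian.image (𝟙 X)) :=
      (P.exists_comp_isoModSerre_eq_zero_iff (𝟙 X)).1 ⟨Z, s, hs, eq⟩
    exact P.prop_of_iso (asIso (Abelian.image.ι (𝟙 X))) this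

end Groth.Agent.S6791
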