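import Groth.Statements.S6792
import Groth.Agent.CategoryFibred.FilCxElem

set_option autoImplicit false
open CategoryTheory
universe v u
open SpSeq SpSeq.FilCx

namespace Groth.Agent.S6792
open Groth.CatFib CategoryTheory.Limits

/-- For a filtered complex whose filtration is finite in each degree, the associated spectral sequence
is bounded (from page `0` on), the induced filtration on each cohomology object is finite, and the
spectral sequence converges to the cohomology. -/
theorem result {A : Type u} [Category.{v} A] [Abelian A] (K : SpSeq.FilCx A) (hK : ∀ n : ℤ, (K.XFil n).IsFinite) : K.IsBounded 0 ∧ (∀ n : ℤ, (K.HFil n).IsFinite) ∧ K.Converges := by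
  have hbot : ∀ n, ∃ b, ∀ p, b ≤ p → K.filX p n = ⊥ := fun n => by
    obtain ⟨b, hb⟩ := (hK n).2
    exact ⟨b, fun p hp => le_bot_iff.1 ((K.filX_anti n hp).trans hb.le)⟩
  have htop : ∀ n, ∃ a, ∀ p, p ≤ a → K.filX p n = ⊤ := fun n => by
    obtain ⟨a, ha⟩ := (hK n).1
    exact ⟨a, fun p hp => top_le_iff.1 (ha.ge.trans (K.filX_anti n hp))⟩
  have h0 : ∀ n : ℤ, ∃ p₀ : ℤ, ∀ p : ℤ, p₀ ≤ p → IsZero ((K.fil p : CochainComplex A ℤ).homology n) := by
    intro n
    obtain ⟨b, hb⟩ := hbot n
    refine ⟨b, fun p hp => ShortComplex.isZero_homology_of_isZero_X₂ ((K.fil p : CochainComplex A ℤ).sc n) ?_⟩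
    change IsZero ((K.fil p : CochainComplex A ℤ).X n)
    refine (IsZero.iff_id_eq_zero _).2 ((cancel_mono ((K.fil p).arrow.f n)).1 ?_)
    rw [Category.id_comp, zero_comp]
    refine Mem.bot_iff.1 ?_
    rw [← hb p hp]
    exact (FilEl.filX_iff K).2 ⟨𝟙 _, Category.id_comp _⟩
  have h1 : ∀ n : ℤ, ∃ p₁ : ℤ, ∀ p : ℤ, p ≤ p₁ → IsIso (HomologicalComplex.homologyMap (K.fil p).arrow n) := by
    intro n
    choose a ha using htop
    let C := ComplexShape.up ℤ
    refine ⟨min (min (a (C.prev n)) (a n)) (a (C.next n)), fun p hp => ?_⟩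
    have iso : ∀ m, p ≤ a m → IsIso ((K.fil p).arrow.f m) := fun m hm =>
      (Subobject.isIso_iff_mk_eq_top _).2 (ha m p hm)
    have h₁ := iso (C.prev n) (by omega)
    have h₂ := iso n (by omega)
    have h₃ := iso (C.next n) (by omega)
    exact ShortComplex.isIso_homologyMap_of_epi_of_isIso_of_mono'
      ((HomologicalComplex.shortComplexFunctor A _ n).map (K.fil p).arrow)
      (inferInstanceAs (Epi ((K.fil p).arrow.f (C.prev n)))) h₂ (inferInstanceAs (Mono ((K.fil p).arrow.f (C.next n))))
  refine ⟨fun n => ?_, (FilEl.converges_of_eventually K h0 h1).2⟩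
  obtain ⟨b, hb⟩ := hbot n
  obtain ⟨a, ha⟩ := htop n
  refine (Set.finite_Icc a b).subset fun p hp => ?_
  by_contra hcon
  simp only [Set.mem_Icc, not_and_or, not_le] at hcon
  refine hp (FilEl.isZero_subquot _ ?_)
  rcases hcon with hc | hc
  · exact le_top.trans ((ha (p + 1) (by omega)).ge.trans le_sup_right)
  · refine (sup_le (inf_le_left.trans (hb p hc.le).le) ((hb (p + 1) (by omega)).le)).trans bot_le

end Groth.Agent.S6792
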