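import Groth.Statements.S6793
import Groth.Agent.CategoryFibred.FilCxPage

set_option autoImplicit false
open CategoryTheory CategoryTheory.Limits
universe v u
open SpSeq SpSeq.FilCx

namespace Groth.Agent.S6793
open Groth.CatFib

lemma hyps {A : Type u} [Category.{v} A] [Abelian A] (K : SpSeq.FilCx A) (hK : ∀ n : ℤ, (K.XFil n).IsFinite) :
    (∀ n : ℤ, ∃ p₀ : ℤ, ∀ p : ℤ, p₀ ≤ p → IsZero ((K.fil p : CochainComplex A ℤ).homology n)) ∧
      ∀ n : ℤ, ∃ p₁ : ℤ, ∀ p : ℤ, p ≤ p₁ → IsIso (HomologicalComplex.homologyMap (K.fil p).arrow n) := by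
  refine ⟨fun n => ?_, fun n => ?_⟩
  · obtain ⟨b, hb⟩ := (hK n).2
    refine ⟨b, fun p hp => ShortComplex.isZero_homology_of_isZero_X₂ ((K.fil p : CochainComplex A ℤ).sc n) ?_⟩
    change IsZero ((K.fil p : CochainComplex A ℤ).X n)
    refine (IsZero.iff_id_eq_zero _).2 ((cancel_mono ((K.fil p).arrow.f n)).1 ?_)
    rw [Category.id_comp, zero_comp]
    refine Mem.bot_iff.1 ?_
    rw [show (⊥ : Subobject (K.obj.X n)) = K.filX p n from (le_bot_iff.1 ((K.filX_anti n hp).trans hb.le)).symm]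
    exact (FilEl.filX_iff K).2 ⟨𝟙 _, Category.id_comp _⟩
  · choose a ha using fun m => (hK m).1
    let C := ComplexShape.up ℤ
    refine ⟨min (min (a (C.prev n)) (a n)) (a (C.next n)), fun p hp => ?_⟩
    have iso : ∀ m, p ≤ a m → IsIso ((K.fil p).arrow.f m) := fun m hm =>
      (Subobject.isIso_iff_mk_eq_top _).2 (top_le_iff.1 ((ha m).ge.trans (K.filX_anti m hm)))
    have h₁ := iso (C.prev n) (by omega)
    have h₂ := iso n (by omega)
    have h₃ := iso (C.next n) (by omega)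
    exact ShortComplex.isIso_homologyMap_of_epi_of_isIso_of_mono'
      ((HomologicalComplex.shortComplexFunctor A _ n).map (K.fil p).arrow)
      (inferInstanceAs (Epi ((K.fil p).arrow.f (C.prev n)))) h₂ (inferInstanceAs (Mono ((K.fil p).arrow.f (C.next n))))


/-- For a filtered complex with degreewise finite filtration, if all terms of some page of its spectral
sequence lie in a weak Serre class `P`, then so does each cohomology object. -/
theorem result {A : Type u} [Category.{v} A] [Abelian A] (K : SpSeq.FilCx A) (hK : ∀ n : ℤ, (K.XFil n).IsFinite) (P : ObjectProperty A) [P.IsClosedUnderIsomorphisms] (h0 : ∃ Z : A, IsZero Z ∧ P Z) (hP : ∀ S : ComposableArrows A 4, S.Exact → P (S.obj 0) → P (S.obj 1) → P (S.obj 3) → P (S.obj 4) → P (S.obj 2)) (r : ℕ) (hr : ∀ p n : ℤ, P (K.E r p n)) (n : ℤ) : P (K.obj.homology n) := by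
  obtain ⟨Z, hZ, hPZ⟩ := h0
  have W : FilEl.WeakSerre P :=
    ⟨fun e h => P.prop_of_iso e h, fun hX => P.prop_of_iso (hZ.iso hX) hPZ, hP⟩
  obtain ⟨g0, g1⟩ := hyps K hK
  have page : ∀ (k : ℕ) (p m : ℤ), P (K.E (r + k) p m) := by
    intro k
    induction k with
    | zero => exact hr
    | succ k ih => exact fun p m => FilEl.page_succ K W (r + k) ih p m
  have gr : ∀ p, P ((K.HFil n).gr p) := by
    intro p
    obtain ⟨p₀, hp₀⟩ := g0 (n + 1)
    obtain ⟨p₁, hp₁⟩ := g1 n
    obtain ⟨k, hk₁, hk₂, hk₃⟩ : ∃ k : ℕ, 1 ≤ r + k ∧ p₀ ≤ p + (r + k : ℕ) ∧ p - (r + k : ℕ) + 1 ≤ p₁ :=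
      ⟨(p₀ - p).toNat + (p + 1 - p₁).toNat + 1, by omega, by push_cast; omega, by push_cast; omega⟩
    have hm := hp₁ _ hk₃
    obtain ⟨i⟩ := FilEl.exists_iso_gr K p n
    have e1 : K.ZSub (r + k) p n = K.ZTop p n :=
      le_antisymm (FilEl.ZSub_le_ZTop K hk₁ (hp₀ _ hk₂)) (FilEl.ZTop_le_ZSub K _ p n)
    have e2 : K.BSub (r + k) p n = K.BBot p n :=
      le_antisymm (FilEl.BSub_le_BBot K _ p n) (FilEl.BBot_le_BSub K hk₁ inferInstance)
    exact W.iso (eqToIso (FilEl.subquot_congr (K.BSub_le_ZSub (r + k) p n) (FilEl.BBot_le_ZTop K p n) e1 e2) ≪≫ i) (page k p n)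
  obtain ⟨⟨a, ha⟩, ⟨b, hb⟩⟩ := (FilEl.converges_of_eventually K g0 g1).2.1 n
  have step : ∀ d : ℕ, P (K.filH (b - d) n : A) := by
    intro d
    induction d with
    | zero =>
      rw [Nat.cast_zero, sub_zero, show K.filH b n = ⊥ from hb]
      exact W.zero ((isZero_zero A).of_iso Subobject.botCoeIsoZero)
    | succ d ih =>
      have hle : K.filH (b - (d + 1 : ℕ) + 1) n ≤ K.filH (b - (d + 1 : ℕ)) n := K.filH_anti n (Int.le_add_one le_rfl)
      refine W.ext (S := ShortComplex.mk (Subobject.ofLE _ _ hle) (cokernel.π _) (cokernel.condition _))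
        { exact := ShortComplex.exact_of_g_is_cokernel _ (cokernelIsCokernel _) } ?_ (gr _)
      change P (K.filH (b - ((d + 1 : ℕ) : ℤ) + 1) n : A)
      rwa [show b - ((d + 1 : ℕ) : ℤ) + 1 = b - (d : ℤ) by push_cast; omega]
  have := step (b - min a b).toNat
  rw [show b - ((b - min a b).toNat : ℤ) = min a b by omega] at this
  have e : K.filH (min a b) n = ⊤ := top_le_iff.1 ((show K.filH a n = ⊤ from ha).ge.trans (K.filH_anti n (min_le_left a b)))
  rw [e] at this
  exact W.iso (asIso (⊤ : Subobject (K.obj.homology n)).arrow) this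

end Groth.Agent.S6793
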