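import Groth.Statements.S6795


set_option autoImplicit false
open CategoryTheory CategoryTheory.Limits
universe v u
open CategoryTheory CategoryTheory.Preadditive

namespace Groth.Agent.S6795

/-- A preadditive category with countable products in which split epimorphisms have kernels is
idempotent complete (Karoubian). -/
theorem result {D : Type u} [Category.{v} D] [Preadditive D] [HasCountableProducts D] (hk : ∀ ⦃X Y : D⦄ (f : X ⟶ Y), IsSplitEpi f → HasKernel f) : IsIdempotentComplete D := by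
  refine ⟨fun X e he => ?_⟩
  let P : D := ∏ᶜ fun _ : ℕ => X
  let π : ∀ n, P ⟶ X := fun n => Pi.π (fun _ : ℕ => X) n
  let φ : P ⟶ P := Pi.lift fun n => π n ≫ (𝟙 X - e) + π (n + 1) ≫ e
  let s : P ⟶ P := Pi.lift fun n => π n ≫ (𝟙 X - e) + (match n with | 0 => 0 | k + 1 => π k ≫ e)
  have hφ : ∀ n, φ ≫ π n = π n ≫ (𝟙 X - e) + π (n + 1) ≫ e := fun n => Pi.lift_π _ _
  have hs0 : ∀ n, s ≫ π n = π n ≫ (𝟙 X - e) + (match n with | 0 => 0 | k + 1 => π k ≫ e) := fun n => Pi.lift_π _ _
  have h1 : (𝟙 X - e) ≫ (𝟙 X - e) = 𝟙 X - e := by simp [Preadditive.comp_sub, Preadditive.sub_comp, he]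
  have h2 : e ≫ (𝟙 X - e) = 0 := by simp [Preadditive.comp_sub, he]
  have h3 : (𝟙 X - e) ≫ e = 0 := by simp [Preadditive.sub_comp, he]
  have hsφ : s ≫ φ = 𝟙 P := by
    refine Pi.hom_ext _ _ fun n => ?_
    change (s ≫ φ) ≫ π n = 𝟙 P ≫ π n
    rw [Category.assoc, hφ, Preadditive.comp_add, reassoc_of% (hs0 n), reassoc_of% (hs0 (n + 1)), Category.id_comp]
    rcases n with _ | k <;>
      simp only [Preadditive.add_comp, Category.assoc, h1, h2, h3, he, comp_zero, zero_comp, add_zero, zero_add] <;>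
      simp [Preadditive.comp_sub]
  have : HasKernel φ := hk φ ⟨⟨⟨s, hsφ⟩⟩⟩
  let ι := kernel.ι φ
  have hι : ∀ n, ι ≫ π n ≫ e = ι ≫ π n ∧ ι ≫ π (n + 1) = 0 := by
    have hz : ∀ n, ι ≫ π n ≫ (𝟙 X - e) = 0 ∧ ι ≫ π (n + 1) ≫ e = 0 := by
      intro n
      have := congrArg (fun t => t ≫ π n) (kernel.condition φ)
      simp only [Category.assoc, hφ, zero_comp, Preadditive.comp_add] at this
      constructor
      · have := congrArg (fun t => t ≫ (𝟙 X - e)) this
        simpa only [Preadditive.add_comp, Category.assoc, h1, h2, comp_zero, add_zero, zero_comp] using this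
      · have := congrArg (fun t => t ≫ e) this
        simpa only [Preadditive.add_comp, Category.assoc, h3, he, comp_zero, zero_add, zero_comp] using this
    intro n
    have a := (hz n).1
    have b := (hz (n + 1)).1
    simp only [Preadditive.comp_sub, Category.comp_id, sub_eq_zero] at a b
    exact ⟨a.symm, b.trans (hz n).2⟩
  let b : X ⟶ kernel φ := kernel.lift φ (Pi.lift fun n => if n = 0 then e else 0) (by
    refine Pi.hom_ext _ _ fun n => ?_
    change (_ ≫ φ) ≫ π n = 0 ≫ π n
    rw [Category.assoc, hφ, Preadditive.comp_add, zero_comp]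
    rcases n with _ | k <;> simp [π, Preadditive.comp_sub, he])
  refine ⟨kernel φ, ι ≫ π 0, b, ?_, ?_⟩
  · rw [← cancel_mono ι]
    refine Pi.hom_ext _ _ fun n => ?_
    change (((ι ≫ π 0) ≫ b) ≫ ι) ≫ π n = (𝟙 _ ≫ ι) ≫ π n
    simp only [Category.assoc, Category.id_comp, b, ι, kernel.lift_ι_assoc]
    rcases n with _ | k
    · simpa [π, ι] using (hι 0).1
    · simpa [π, ι] using (hι k).2.symm
  · simp [b, ι, π]

end Groth.Agent.S6795
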