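import Groth.Statements.S6796


set_option autoImplicit false
open CategoryTheory CategoryTheory.Limits
universe v u
open CategoryTheory CategoryTheory.Preadditive

namespace Groth.Agent.S6796

/-- A preadditive category with countable coproducts in which split monomorphisms have cokernels is
idempotent complete (Karoubian). -/
theorem result {D : Type u} [Category.{v} D] [Preadditive D] [HasCountableCoproducts D] (hk : ∀ ⦃X Y : D⦄ (f : X ⟶ Y), IsSplitMono f → HasCokernel f) : IsIdempotentComplete D := by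
  refine ⟨fun X e he => ?_⟩
  let P : D := ∐ fun _ : ℕ => X
  let ι : ∀ n, X ⟶ P := fun n => Sigma.ι (fun _ : ℕ => X) n
  let φ : P ⟶ P := Sigma.desc fun n => (𝟙 X - e) ≫ ι n + e ≫ ι (n + 1)
  let s : P ⟶ P := Sigma.desc fun n => (𝟙 X - e) ≫ ι n + (match n with | 0 => 0 | k + 1 => e ≫ ι k)
  have hφ : ∀ n, ι n ≫ φ = (𝟙 X - e) ≫ ι n + e ≫ ι (n + 1) := fun n => Sigma.ι_desc _ _
  have hs0 : ∀ n, ι n ≫ s = (𝟙 X - e) ≫ ι n + (match n with | 0 => 0 | k + 1 => e ≫ ι k) := fun n => Sigma.ι_desc _ _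
  have h1 : (𝟙 X - e) ≫ (𝟙 X - e) = 𝟙 X - e := by simp [Preadditive.comp_sub, Preadditive.sub_comp, he]
  have h2 : e ≫ (𝟙 X - e) = 0 := by simp [Preadditive.comp_sub, he]
  have h3 : (𝟙 X - e) ≫ e = 0 := by simp [Preadditive.sub_comp, he]
  have hsφ : φ ≫ s = 𝟙 P := by
    refine Sigma.hom_ext _ _ fun n => ?_
    change ι n ≫ φ ≫ s = ι n ≫ 𝟙 P
    rw [← Category.assoc, hφ, Preadditive.add_comp, Category.assoc, Category.assoc, hs0 n, hs0 (n + 1), Category.comp_id]
    rcases n with _ | k <;>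
      simp only [Preadditive.comp_add, reassoc_of% h1, reassoc_of% h2, reassoc_of% h3, reassoc_of% he, comp_zero, zero_comp, add_zero, zero_add] <;>
      simp [Preadditive.sub_comp]
  have : HasCokernel φ := hk φ ⟨⟨⟨s, hsφ⟩⟩⟩
  let p := cokernel.π φ
  have hp : ∀ n, e ≫ ι n ≫ p = ι n ≫ p ∧ ι (n + 1) ≫ p = 0 := by
    have hz : ∀ n, (𝟙 X - e) ≫ ι n ≫ p = 0 ∧ e ≫ ι (n + 1) ≫ p = 0 := by
      intro n
      have := congrArg (fun t => ι n ≫ t) (cokernel.condition φ)
      simp only [reassoc_of% hφ, comp_zero, Preadditive.add_comp, Category.assoc] at this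
      constructor
      · have := congrArg (fun t => (𝟙 X - e) ≫ t) this
        simpa only [Preadditive.comp_add, reassoc_of% h1, reassoc_of% h3, zero_comp, add_zero, comp_zero] using this
      · have := congrArg (fun t => e ≫ t) this
        simpa only [Preadditive.comp_add, reassoc_of% h2, reassoc_of% he, zero_comp, zero_add, comp_zero] using this
    intro n
    have a := (hz n).1
    have b := (hz (n + 1)).1
    simp only [Preadditive.sub_comp, Category.id_comp, sub_eq_zero] at a b
    exact ⟨a.symm, b.trans (hz n).2⟩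
  let b : cokernel φ ⟶ X := cokernel.desc φ (Sigma.desc fun n => if n = 0 then e else 0) (by
    refine Sigma.hom_ext _ _ fun n => ?_
    change ι n ≫ φ ≫ _ = ι n ≫ 0
    rw [← Category.assoc, hφ, Preadditive.add_comp, comp_zero]
    rcases n with _ | k <;> simp [ι, Preadditive.sub_comp, he])
  refine ⟨cokernel φ, b, ι 0 ≫ p, ?_, ?_⟩
  · rw [← cancel_epi p]
    refine Sigma.hom_ext _ _ fun n => ?_
    change ι n ≫ p ≫ b ≫ ι 0 ≫ p = ι n ≫ p ≫ 𝟙 _
    simp only [Category.comp_id, b, p, cokernel.π_desc_assoc]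
    rcases n with _ | k
    · simpa [ι, p] using (hp 0).1
    · simpa [ι, p] using (hp k).2.symm
  · simp [b, p, ι]

end Groth.Agent.S6796
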