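import Groth.Statements.S6799
import Groth.Agent.CategoryFibred.Cosk
import Mathlib.AlgebraicTopology.SimplicialSet.Homotopy

set_option autoImplicit false
open CategoryTheory Opposite
universe u
open SSet

namespace Groth.Agent.S6799
open SSet MonoidalCategory CartesianMonoidalCategory Simplicial
open Groth.CatFib

/-- Two maps between `n`-coskeletal simplicial sets which agree on simplices of dimension `< n` are
homotopic, by a single homotopy. -/
theorem result {U V : SSet.{u}} (f₀ f₁ : V ⟶ U) (n : ℕ) (h : ∀ i : ℕ, i < n → f₀.app (op (SimplexCategory.mk i)) = f₁.app (op (SimplexCategory.mk i))) [SimplicialObject.IsCoskeletal U n] [SimplicialObject.IsCoskeletal V n] : Nonempty (SSet.Homotopy f₀ f₁) := by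
  have agree : ∀ (j : SimplexCategory), j.len < n → ∀ x, f₀.app (op j) x = f₁.app (op j) x := fun j hj x => by
    induction j using SimplexCategory.rec with
    | _ j => rw [h j hj]
  have endo : ∀ (i j : SimplexCategory) (hi : i.len ≤ n) (hj : j.len ≤ n) (θ : i ⟶ j) (x : V.obj (op j)),
      U.map θ.op (f₀.app (op j) x) = U.map θ.op (f₁.app (op j) x) ∨ (∃ h' : i = j, θ = eqToHom h') := by
    intro i j hi hj θ x
    by_cases hj' : j.len < n
    · exact Or.inl (by rw [agree j hj' x])
    by_cases hi' : i.len < n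
    · refine Or.inl ?_
      rw [← NatTrans.naturality_apply, ← NatTrans.naturality_apply]
      exact agree i hi' _
    obtain rfl : i = j := SimplexCategory.ext (by omega)
    by_cases hid : θ = 𝟙 i
    · exact Or.inr ⟨rfl, hid⟩
    refine Or.inl ?_
    induction i using SimplexCategory.rec with
    | _ m =>
      obtain _ | m := m
      · exact absurd (SimplexCategory.Hom.ext _ _ (OrderHom.ext _ _ (funext fun (k : Fin 1) => Subsingleton.elim (α := Fin 1) _ _))) hid
      obtain ⟨k, θ', rfl⟩ := SimplexCategory.eq_σ_comp_of_not_injective θ (fun hinj => hid (by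
        have := SimplexCategory.mono_iff_injective.2 hinj
        exact SimplexCategory.eq_id_of_mono θ))
      simp only [op_comp, Functor.map_comp, types_comp_apply]
      rw [← NatTrans.naturality_apply f₀ θ'.op, ← NatTrans.naturality_apply f₁ θ'.op, agree _ (by simp at hj ⊢; omega)]
  let φ : ∀ j : SimplexCategory, j.len ≤ n → ((V ⊗ Δ[1]).obj (op j) ⟶ U.obj (op j)) := fun j _ =>
    ↾fun z => if stdSimplex.asOrderHom z.2 0 = 0 then f₀.app (op j) z.1 else f₁.app (op j) z.1
  obtain ⟨g, hg⟩ := Cosk.exists_ext (U := U) φ (fun i j hi hj θ => by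
    ext ⟨x, e⟩
    change (if stdSimplex.asOrderHom ((Δ[1] : SSet.{u}).map θ.op e) 0 = 0 then f₀.app (op i) (V.map θ.op x) else f₁.app (op i) (V.map θ.op x)) =
      U.map θ.op (if stdSimplex.asOrderHom e 0 = 0 then f₀.app (op j) x else f₁.app (op j) x)
    rcases endo i j hi hj θ x with heq | ⟨rfl, rfl⟩
    · have h₀ : f₀.app (op i) (V.map θ.op x) = U.map θ.op (f₀.app (op j) x) := NatTrans.naturality_apply f₀ θ.op x
      have h₁ : f₁.app (op i) (V.map θ.op x) = U.map θ.op (f₁.app (op j) x) := NatTrans.naturality_apply f₁ θ.op x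
      rw [h₀, h₁, apply_ite (U.map θ.op), heq]
      simp
    · simp)
  refine ⟨{ h := g, h₀ := ?_, h₁ := ?_, rel := ?_ }⟩
  · refine Cosk.hom_ext (n := n) fun j hj => ?_
    ext x
    change g.app (op j) (x, (SSet.const (stdSimplex.obj₀Equiv.{u}.symm 0) : V ⟶ Δ[1]).app (op j) x) = f₀.app (op j) x
    rw [hg j hj]
    change (if stdSimplex.asOrderHom ((SSet.const (stdSimplex.obj₀Equiv.{u}.symm 0) : V ⟶ Δ[1]).app (op j) x) 0 = 0 then f₀.app (op j) x else f₁.app (op j) x) = f₀.app (op j) x
    exact if_pos rfl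
  · refine Cosk.hom_ext (n := n) fun j hj => ?_
    ext x
    change g.app (op j) (x, (SSet.const (stdSimplex.obj₀Equiv.{u}.symm 1) : V ⟶ Δ[1]).app (op j) x) = f₁.app (op j) x
    rw [hg j hj]
    change (if stdSimplex.asOrderHom ((SSet.const (stdSimplex.obj₀Equiv.{u}.symm 1) : V ⟶ Δ[1]).app (op j) x) 0 = 0 then f₀.app (op j) x else f₁.app (op j) x) = f₁.app (op j) x
    exact if_neg (show (1 : Fin 2) ≠ 0 by decide)
  · ext m x
    exact x.1.2.elim

end Groth.Agent.S6799
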