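import Mathlib.AlgebraicTopology.SimplexCategory.Basic
import Mathlib.Data.Finite.Sigma
import Groth.Statements.S6800


set_option autoImplicit false
open CategoryTheory CategoryTheory.Limits
universe v u
open CategoryTheory CategoryTheory.SimplicialObject CategoryTheory.SimplicialObject.Truncated

namespace Groth.Agent.S6800

/-- In a category with finite limits every truncated simplicial object has a pointwise right Kan
extension along the inclusion of the truncated simplex category, i.e. the coskeleton functors exist
and are given by the limit formula. -/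
theorem result {C : Type u} [Category.{v} C] [HasFiniteLimits C] (m : ℕ) (U : (SimplexCategory.Truncated m)ᵒᵖ ⥤ C) : (SimplexCategory.Truncated.inclusion m).op.HasPointwiseRightKanExtension U := by
  intro X
  haveI : Finite (StructuredArrow X (SimplexCategory.Truncated.inclusion m).op) := by
    let φ : StructuredArrow X (SimplexCategory.Truncated.inclusion m).op →
        Σ k : Fin (m + 1), (SimplexCategory.mk k.1 ⟶ X.unop) := fun s =>
      ⟨⟨s.right.unop.obj.len, Nat.lt_succ_of_le s.right.unop.property⟩, s.hom.unop⟩
    refine Finite.of_injective φ ?_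
    rintro ⟨⟨⟨⟩⟩, ⟨⟨⟨k⟩, hk⟩⟩, f⟩ ⟨⟨⟨⟩⟩, ⟨⟨⟨k'⟩, hk'⟩⟩, f'⟩ h
    obtain ⟨h₁, h₂⟩ := Sigma.mk.inj_iff.1 h
    obtain rfl : k = k' := congrArg Fin.val h₁
    obtain rfl : f = f' := Quiver.Hom.unop_inj (eq_of_heq h₂)
    rfl
  haveI : FinCategory (StructuredArrow X (SimplexCategory.Truncated.inclusion m).op) :=
    { fintypeObj := Fintype.ofFinite _
      fintypeHom := fun a b =>
        haveI : Finite (a ⟶ b) := Finite.of_injective
          (fun t => t.right.unop.hom) (fun s t h => StructuredArrow.ext _ _
            (Quiver.Hom.unop_inj (InducedCategory.hom_ext h)))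
        Fintype.ofFinite _ }
  infer_instance

end Groth.Agent.S6800
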