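import Groth.Statements.S6801
import Groth.Agent.CategoryFibred.ImgSub

set_option autoImplicit false
open CategoryTheory
universe v u
open SpSeq SpSeq.FilObj

namespace Groth.Agent.S6801

/-- The composite of two strict morphisms of filtered objects is strict when the second one is a
monomorphism. (In general a composite of strict morphisms is not strict.) -/
theorem result {A : Type u} [Category.{v} A] [Abelian A] {K L M : SpSeq.FilObj A} (f : K ⟶ L) (g : L ⟶ M) (hf : SpSeq.FilObj.IsStrict f) (hg : SpSeq.FilObj.IsStrict g) [Mono g.hom] : SpSeq.FilObj.IsStrict (f ≫ g) := by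
  intro p
  apply le_antisymm
  · refine le_inf (Limits.imageSubobject_comp_le _ _) ?_
    exact Groth.CatFib.img_le_of_le_pullback _ (f ≫ g).hom _ ((f ≫ g).compat p)
  · obtain ⟨s, hs⟩ : ∃ s, s ≫ (Limits.imageSubobject f.hom).arrow ≫ g.hom =
        (Limits.imageSubobject (f ≫ g).hom ⊓ M.fil p).arrow := by
      have hle : Limits.imageSubobject (f ≫ g).hom ⊓ M.fil p ≤
          Subobject.mk ((Limits.imageSubobject f.hom).arrow ≫ g.hom) := by
        rw [← Groth.CatFib.img_comp_mono]
        exact inf_le_left
      exact ⟨_, Subobject.ofLEMk_comp hle⟩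
    obtain ⟨t, ht⟩ : ∃ t, t ≫ (L.fil p).arrow ≫ g.hom =
        (Limits.imageSubobject (f ≫ g).hom ⊓ M.fil p).arrow := by
      have hle : Limits.imageSubobject (f ≫ g).hom ⊓ M.fil p ≤
          Subobject.mk ((L.fil p).arrow ≫ g.hom) := by
        rw [← Limits.imageSubobject_mono, hg p]
        exact inf_le_inf_right _ (Limits.imageSubobject_comp_le _ _)
      exact ⟨_, Subobject.ofLEMk_comp hle⟩
    have he : s ≫ (Limits.imageSubobject f.hom).arrow = t ≫ (L.fil p).arrow := by
      rw [← cancel_mono g.hom, Category.assoc, Category.assoc, hs, ht]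
    have hfac : (Limits.imageSubobject ((K.fil p).arrow ≫ f.hom)).Factors
        (s ≫ (Limits.imageSubobject f.hom).arrow) := by
      rw [hf p, Subobject.inf_factors]
      exact ⟨Subobject.factors_comp_arrow s, he ▸ Subobject.factors_comp_arrow t⟩
    change _ ≤ Limits.imageSubobject ((K.fil p).arrow ≫ f.hom ≫ g.hom)
    rw [← Category.assoc, Groth.CatFib.img_comp_mono]
    refine Subobject.le_mk_of_comm (Subobject.factorThru _ _ hfac) ?_
    rw [Subobject.factorThru_arrow_assoc, Category.assoc]
    exact hs

end Groth.Agent.S6801
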