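import Groth.Statements.S6802
import Groth.Agent.CategoryFibred.ImgSub

set_option autoImplicit false
open CategoryTheory
universe v u
open SpSeq SpSeq.FilObj

namespace Groth.Agent.S6802

/-- The composite of two strict morphisms of filtered objects is strict when the first one is an
epimorphism. -/
theorem result {A : Type u} [Category.{v} A] [Abelian A] {K L M : SpSeq.FilObj A} (f : K ⟶ L) (g : L ⟶ M) (hf : SpSeq.FilObj.IsStrict f) (hg : SpSeq.FilObj.IsStrict g) [Epi f.hom] : SpSeq.FilObj.IsStrict (f ≫ g) := by
  intro p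
  change Limits.imageSubobject ((K.fil p).arrow ≫ f.hom ≫ g.hom) = Limits.imageSubobject (f.hom ≫ g.hom) ⊓ M.fil p
  have hfp : Limits.imageSubobject ((K.fil p).arrow ≫ f.hom) = L.fil p := by
    rw [hf p, Groth.CatFib.img_epi_top, top_inf_eq]
  rw [Groth.CatFib.img_epi_comp f.hom g.hom, ← hg p, ← Category.assoc,
    ← Limits.imageSubobject_arrow_comp ((K.fil p).arrow ≫ f.hom), Category.assoc, Groth.CatFib.img_epi_comp, hfp]

end Groth.Agent.S6802
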