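import Groth.Statements.S6803
import Groth.Agent.CategoryFibred.SubobjMem
import Mathlib.CategoryTheory.Abelian.CommSq

set_option autoImplicit false
open CategoryTheory CategoryTheory.Limits
universe v u
open SpSeq SpSeq.FilObj

namespace Groth.Agent.S6803
open Groth.CatFib SpSeq

variable {A : Type u} [Category.{v} A] [Abelian A]

lemma fil_comp {K L : FilObj A} (h : K ⟶ L) (p : ℤ) {T : A} {x : T ⟶ K.obj} (hx : (K.fil p).Factors x) :
    (L.fil p).Factors (x ≫ h.hom) :=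
  Mem.pullback_iff.1 (Subobject.factors_of_le x (h.compat p) hx)

lemma strict_iff {K L : FilObj A} (h : K ⟶ L) : FilObj.IsStrict h ↔
    ∀ (p : ℤ) (T : A) (y : T ⟶ L.obj) (x : T ⟶ K.obj), y = x ≫ h.hom → (L.fil p).Factors y →
      ∃ (T' : A) (π : T' ⟶ T) (_ : Epi π) (x' : T' ⟶ K.obj), (K.fil p).Factors x' ∧ π ≫ y = x' ≫ h.hom := by
  constructor
  · intro hs p T y x hxy hy
    refine Mem.imgSub_iff.1 ?_
    rw [hs p, Mem.inf_iff]
    exact ⟨Mem.img_iff.2 ⟨T, 𝟙 T, inferInstance, x, by rw [Category.id_comp, hxy]⟩, hy⟩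
  · intro hs p
    refine Mem.ext fun T y => ⟨fun hy => ?_, fun hy => ?_⟩
    · obtain ⟨T', π, hπ, x, hx, e⟩ := Mem.imgSub_iff.1 hy
      exact Mem.inf_iff.2 ⟨Mem.img_iff.2 ⟨T', π, hπ, x, e⟩, Mem.descend π (e ▸ fil_comp h p hx)⟩
    · obtain ⟨h₁, h₂⟩ := Mem.inf_iff.1 hy
      obtain ⟨T', π, hπ, x, e⟩ := Mem.img_iff.1 h₁
      obtain ⟨T'', π', hπ', x', hx', e'⟩ := hs p T' (π ≫ y) x e (Mem.comp_left π h₂)
      exact Mem.imgSub_iff.2 ⟨T'', π' ≫ π, epi_comp _ _, x', hx', by rw [Category.assoc, e']⟩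

lemma le_pullback {X Y : A} {S : Subobject X} {R : Subobject Y} {h : X ⟶ Y}
    (e : ∀ (T : A) (x : T ⟶ X), S.Factors x → R.Factors (x ≫ h)) : S ≤ (Subobject.pullback h).obj R :=
  Mem.le_iff.2 fun T x hx => Mem.pullback_iff.2 (e T x hx)


/-- Pushouts exist in the category of filtered objects of an abelian category, and the pushout of a
strict morphism is strict. -/
theorem result {A : Type u} [Category.{v} A] [Abelian A] {K L M : SpSeq.FilObj A} (f : K ⟶ L) (g : K ⟶ M) : HasPushout f g ∧ ∀ (P : SpSeq.FilObj A) (g' : L ⟶ P) (f' : M ⟶ P), IsPushout f g g' f' → SpSeq.FilObj.IsStrict f → SpSeq.FilObj.IsStrict f' := by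
  let F : ℤ → Subobject (pushout f.hom g.hom) := fun p =>
    imageSubobject ((L.fil p).arrow ≫ pushout.inl f.hom g.hom) ⊔ imageSubobject ((M.fil p).arrow ≫ pushout.inr f.hom g.hom)
  have hF : Antitone F := fun p q h => by
    refine sup_le_sup ?_ ?_ <;> refine Mem.le_iff.2 fun T y hy => ?_
    · obtain ⟨T', π, hπ, x, hx, e⟩ := Mem.imgSub_iff.1 hy
      exact Mem.imgSub_iff.2 ⟨T', π, hπ, x, Subobject.factors_of_le x (L.anti h) hx, e⟩
    · obtain ⟨T', π, hπ, x, hx, e⟩ := Mem.imgSub_iff.1 hy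
      exact Mem.imgSub_iff.2 ⟨T', π, hπ, x, Subobject.factors_of_le x (M.anti h) hx, e⟩
  let P₀ : FilObj A := ⟨pushout f.hom g.hom, F, hF⟩
  let i₁ : L ⟶ P₀ := ⟨pushout.inl f.hom g.hom, fun p => le_pullback fun T x hx =>
    Subobject.factors_of_le _ le_sup_left (Mem.imgSub_mk _ hx)⟩
  let i₂ : M ⟶ P₀ := ⟨pushout.inr f.hom g.hom, fun p => le_pullback fun T x hx =>
    Subobject.factors_of_le _ le_sup_right (Mem.imgSub_mk _ hx)⟩
  have w : f ≫ i₁ = g ≫ i₂ := FilObj.Hom.ext pushout.condition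
  have hw : ∀ (s : PushoutCocone f g), f.hom ≫ s.inl.hom = g.hom ≫ s.inr.hom := fun s => congrArg FilObj.Hom.hom s.condition
  have h₀ : IsPushout f g i₁ i₂ := IsPushout.of_isColimit (PushoutCocone.IsColimit.mk w
    (fun s => ⟨pushout.desc s.inl.hom s.inr.hom (hw s), fun p => le_pullback fun T x hx => by
      obtain ⟨T', π, hπ, a, b, ha, hb, e⟩ := Mem.sup_iff.1 hx
      refine Mem.descend π ?_
      rw [← Category.assoc, e, Preadditive.add_comp]
      refine Mem.add ?_ ?_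
      · obtain ⟨T'', π', hπ', l, hl, e'⟩ := Mem.imgSub_iff.1 ha
        refine Mem.descend π' ?_
        rw [← Category.assoc, e', Category.assoc, pushout.inl_desc]
        exact fil_comp s.inl p hl
      · obtain ⟨T'', π', hπ', l, hl, e'⟩ := Mem.imgSub_iff.1 hb
        refine Mem.descend π' ?_
        rw [← Category.assoc, e', Category.assoc, pushout.inr_desc]
        exact fil_comp s.inr p hl⟩)
    (fun s => FilObj.Hom.ext (pushout.inl_desc _ _ _))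
    (fun s => FilObj.Hom.ext (pushout.inr_desc _ _ _))
    (fun s m h₁ h₂ => FilObj.Hom.ext (pushout.hom_ext
      (((congrArg FilObj.Hom.hom h₁ : _)).trans (pushout.inl_desc _ _ _).symm)
      (((congrArg FilObj.Hom.hom h₂ : _)).trans (pushout.inr_desc _ _ _).symm))))
  have hP : IsPushout f.hom g.hom (pushout.inl f.hom g.hom) (pushout.inr f.hom g.hom) := IsPushout.of_hasPushout _ _
  refine ⟨h₀.hasPushout, fun P g' f' hP' hs => ?_⟩
  obtain ⟨e, he⟩ : ∃ e : P₀ ≅ P, i₂ ≫ e.hom = f' := ⟨h₀.isoIsPushout _ _ hP', IsPushout.inr_isoIsPushout_hom _ _ h₀ hP'⟩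
  rw [strict_iff]
  intro p T y m hym hy
  have hy₀ : ((P₀).fil p).Factors (y ≫ e.inv.hom) := fil_comp e.inv p hy
  have hym₀ : y ≫ e.inv.hom = m ≫ pushout.inr f.hom g.hom := by
    have : f' ≫ e.inv = i₂ := by rw [← he, Category.assoc, e.hom_inv_id, Category.comp_id]
    rw [hym, Category.assoc]
    exact congrArg (fun q => m ≫ FilObj.Hom.hom q) this
  obtain ⟨T₁, π₁, hπ₁, a, b, ha, hb, e₁⟩ := Mem.sup_iff.1 hy₀
  obtain ⟨T₂, π₂, hπ₂, l, hl, e₂⟩ := Mem.imgSub_iff.1 ha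
  obtain ⟨T₃, π₃, hπ₃, m', hm', e₃⟩ := Mem.imgSub_iff.1 (Mem.comp_left π₂ hb)
  obtain ⟨l, rfl⟩ : ∃ l', l' = π₃ ≫ l := ⟨_, rfl⟩
  let z : T₃ ⟶ L.obj ⊞ M.obj := biprod.lift (π₃ ≫ l) (m' - π₃ ≫ π₂ ≫ π₁ ≫ m)
  have eq₁ : π₃ ≫ π₂ ≫ π₁ ≫ m ≫ pushout.inr f.hom g.hom = (π₃ ≫ l) ≫ pushout.inl f.hom g.hom + m' ≫ pushout.inr f.hom g.hom := by
    rw [← hym₀, e₁, Preadditive.comp_add, e₂, Preadditive.comp_add, e₃, Category.assoc]
  obtain ⟨T₄, π₄, hπ₄, k, hk⟩ : ∃ (T₄ : A) (π₄ : T₄ ⟶ T₃) (_ : Epi π₄) (k : T₄ ⟶ K.obj), π₄ ≫ z = k ≫ biprod.lift f.hom (-g.hom) := hP.exact_shortComplex.exact_up_to_refinements z (by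
    change z ≫ biprod.desc (pushout.inl f.hom g.hom) (pushout.inr f.hom g.hom) = 0
    rw [biprod.lift_desc, Preadditive.sub_comp, Category.assoc, Category.assoc, Category.assoc, Category.assoc, eq₁]
    simp)
  have k₁ : π₄ ≫ π₃ ≫ l = k ≫ f.hom := by
    have := hk =≫ biprod.fst
    simpa [z] using this
  have k₂ : π₄ ≫ (π₃ ≫ π₂ ≫ π₁ ≫ m - m') = k ≫ g.hom := by
    have := congrArg (fun q => -(q ≫ biprod.snd)) hk
    simpa [z] using this
  obtain ⟨T₅, π₅, hπ₅, k', hk', e₅⟩ := (strict_iff f).1 hs p T₄ _ k k₁ (Mem.comp_left _ (Mem.comp_left _ hl))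
  refine ⟨T₅, π₅ ≫ π₄ ≫ π₃ ≫ π₂ ≫ π₁, inferInstance, π₅ ≫ π₄ ≫ m' + k' ≫ g.hom,
    Mem.add (Mem.comp_left _ (Mem.comp_left _ hm')) (fil_comp g p hk'), ?_⟩
  have ef : (π₅ ≫ k) ≫ f.hom = k' ≫ f.hom := by rw [Category.assoc, ← k₁, e₅]
  have eg : (π₅ ≫ k) ≫ g.hom ≫ pushout.inr f.hom g.hom = k' ≫ g.hom ≫ pushout.inr f.hom g.hom := by
    rw [← pushout.condition, ← Category.assoc, ef, Category.assoc]
  have e' : pushout.inr f.hom g.hom ≫ e.hom.hom = f'.hom := congrArg FilObj.Hom.hom he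
  rw [hym, ← e']
  simp only [Preadditive.add_comp, Category.assoc] at eg ⊢
  have t := congrArg (fun q => π₅ ≫ q ≫ pushout.inr f.hom g.hom ≫ e.hom.hom) k₂
  simp only [Preadditive.sub_comp, Preadditive.comp_sub, Category.assoc] at t
  rw [reassoc_of% eg] at t
  rw [← t, add_sub_cancel]

end Groth.Agent.S6803
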