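import Groth.Statements.S6804
import Groth.Agent.CategoryFibred.SubobjMem
import Mathlib.CategoryTheory.Abelian.CommSq

set_option autoImplicit false
open CategoryTheory CategoryTheory.Limits
universe v u
open SpSeq SpSeq.FilObj

namespace Groth.Agent.S6804
open Groth.CatFib SpSeq

variable {A : Type u} [Category.{v} A] [Abelian A]

lemma fil_comp {K L : FilObj A} (h : K ⟶ L) (p : ℤ) {T : A} {x : T ⟶ K.obj} (hx : (K.fil p).Factors x) :
    (L.fil p).Factors (x ≫ h.hom) :=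
  Mem.pullback_iff.1 (Subobject.factors_of_le x (h.compat p) hx)

lemma strict_iff {K L : FilObj A} (h : K ⟶ L) : FilObj.IsStrict h ↔
    ∀ (p : ℤ) (T : A) (y : T ⟶ L.obj) (x : T ⟶ K.obj), y = x ≫ h.hom → (L.fil p).Factors y →
      ∃ (T' : A) (π : T' ⟶ T) (_ : Epi π) (x' : T' ⟶ K.obj), (K.fil p).Factors x' ∧ π ≫ y = x' ≫ h.hom := by
  constructor
  · intro hs p T y x hxy hy
    refine Mem.imgSub_iff.1 ?_
    rw [hs p, Mem.inf_iff]
    exact ⟨Mem.img_iff.2 ⟨T, 𝟙 T, inferInstance, x, by rw [Category.id_comp, hxy]⟩, hy⟩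
  · intro hs p
    refine Mem.ext fun T y => ⟨fun hy => ?_, fun hy => ?_⟩
    · obtain ⟨T', π, hπ, x, hx, e⟩ := Mem.imgSub_iff.1 hy
      exact Mem.inf_iff.2 ⟨Mem.img_iff.2 ⟨T', π, hπ, x, e⟩, Mem.descend π (e ▸ fil_comp h p hx)⟩
    · obtain ⟨h₁, h₂⟩ := Mem.inf_iff.1 hy
      obtain ⟨T', π, hπ, x, e⟩ := Mem.img_iff.1 h₁
      obtain ⟨T'', π', hπ', x', hx', e'⟩ := hs p T' (π ≫ y) x e (Mem.comp_left π h₂)
      exact Mem.imgSub_iff.2 ⟨T'', π' ≫ π, epi_comp _ _, x', hx', by rw [Category.assoc, e']⟩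

lemma le_pullback {X Y : A} {S : Subobject X} {R : Subobject Y} {h : X ⟶ Y}
    (e : ∀ (T : A) (x : T ⟶ X), S.Factors x → R.Factors (x ≫ h)) : S ≤ (Subobject.pullback h).obj R :=
  Mem.le_iff.2 fun T x hx => Mem.pullback_iff.2 (e T x hx)


/-- Fibre products exist in the category of filtered objects of an abelian category, and the base change
of a strict morphism is strict. -/
theorem result {A : Type u} [Category.{v} A] [Abelian A] {K L M : SpSeq.FilObj A} (f : L ⟶ K) (g : M ⟶ K) : HasPullback f g ∧ ∀ (P : SpSeq.FilObj A) (g' : P ⟶ L) (f' : P ⟶ M), IsPullback g' f' f g → SpSeq.FilObj.IsStrict f → SpSeq.FilObj.IsStrict f' := by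
  let F : ℤ → Subobject (pullback f.hom g.hom) := fun p =>
    (Subobject.pullback (pullback.fst f.hom g.hom)).obj (L.fil p) ⊓ (Subobject.pullback (pullback.snd f.hom g.hom)).obj (M.fil p)
  have hF : Antitone F := fun p q h =>
    inf_le_inf ((Subobject.pullback _).map (homOfLE (L.anti h))).le ((Subobject.pullback _).map (homOfLE (M.anti h))).le
  let P₀ : FilObj A := ⟨pullback f.hom g.hom, F, hF⟩
  let p₁ : P₀ ⟶ L := ⟨pullback.fst f.hom g.hom, fun p => inf_le_left⟩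
  let p₂ : P₀ ⟶ M := ⟨pullback.snd f.hom g.hom, fun p => inf_le_right⟩
  have w : p₁ ≫ f = p₂ ≫ g := FilObj.Hom.ext pullback.condition
  have hw : ∀ (s : PullbackCone f g), s.fst.hom ≫ f.hom = s.snd.hom ≫ g.hom := fun s => congrArg FilObj.Hom.hom s.condition
  have h₀ : IsPullback p₁ p₂ f g := IsPullback.of_isLimit (PullbackCone.IsLimit.mk w
    (fun s => ⟨pullback.lift s.fst.hom s.snd.hom (hw s), fun p => le_pullback fun T x hx => by
      refine Mem.inf_iff.2 ⟨Mem.pullback_iff.2 ?_, Mem.pullback_iff.2 ?_⟩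
      · rw [Category.assoc, pullback.lift_fst]; exact fil_comp s.fst p hx
      · rw [Category.assoc, pullback.lift_snd]; exact fil_comp s.snd p hx⟩)
    (fun s => FilObj.Hom.ext (pullback.lift_fst _ _ _))
    (fun s => FilObj.Hom.ext (pullback.lift_snd _ _ _))
    (fun s m h₁ h₂ => FilObj.Hom.ext (pullback.hom_ext
      ((congrArg FilObj.Hom.hom h₁ : _).trans (pullback.lift_fst _ _ _).symm)
      ((congrArg FilObj.Hom.hom h₂ : _).trans (pullback.lift_snd _ _ _).symm))))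
  refine ⟨h₀.hasPullback, fun P g' f' hP' hs => ?_⟩
  obtain ⟨e, he⟩ : ∃ e : P ≅ P₀, e.hom ≫ p₂ = f' := ⟨hP'.isoIsPullback _ _ h₀, IsPullback.isoIsPullback_hom_snd _ _ hP' h₀⟩
  rw [strict_iff]
  intro p T y x hxy hy
  have e' : e.hom.hom ≫ pullback.snd f.hom g.hom = f'.hom := congrArg FilObj.Hom.hom he
  obtain ⟨z, hz⟩ : ∃ z : T ⟶ pullback f.hom g.hom, z = x ≫ e.hom.hom := ⟨_, rfl⟩
  have hz₂ : z ≫ pullback.snd f.hom g.hom = y := by rw [hz, hxy, Category.assoc, e']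
  obtain ⟨T', π, hπ, l, hl, hle⟩ := (strict_iff f).1 hs p T (y ≫ g.hom) (z ≫ pullback.fst f.hom g.hom)
    (by rw [Category.assoc, pullback.condition, ← hz₂, Category.assoc]) (fil_comp g p hy)
  let q : T' ⟶ pullback f.hom g.hom := pullback.lift l (π ≫ y) (by rw [Category.assoc, hle])
  have hq : (F p).Factors q := Mem.inf_iff.2 ⟨Mem.pullback_iff.2 (by rw [pullback.lift_fst]; exact hl),
    Mem.pullback_iff.2 (by rw [pullback.lift_snd]; exact Mem.comp_left π hy)⟩
  refine ⟨T', π, hπ, q ≫ e.inv.hom, fil_comp e.inv p hq, ?_⟩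
  have ei : e.inv.hom ≫ e.hom.hom = 𝟙 _ := congrArg FilObj.Hom.hom e.inv_hom_id
  rw [← e', Category.assoc]
  calc π ≫ y = q ≫ pullback.snd f.hom g.hom := (pullback.lift_snd _ _ _).symm
    _ = q ≫ (e.inv.hom ≫ e.hom.hom) ≫ pullback.snd f.hom g.hom := by rw [ei]; exact congrArg (q ≫ ·) (Category.id_comp _).symm
    _ = _ := by rw [Category.assoc]

end Groth.Agent.S6804
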