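import Groth.Statements.S6808


set_option autoImplicit false
open CategoryTheory Opposite
universe u
open SSet

namespace Groth.Agent.S6808

/-- A map of simplicial sets preserving non-degeneracy of simplices and injective on non-degenerate
simplices is injective in every dimension. -/
theorem result {U V : SSet.{u}} (f : U ⟶ V) (ha : ∀ (n : ℕ) (x : U.obj (op (SimplexCategory.mk n))), x ∈ U.nonDegenerate n → f.app (op (SimplexCategory.mk n)) x ∈ V.nonDegenerate n) (hb : ∀ n : ℕ, Set.InjOn (f.app (op (SimplexCategory.mk n))) (U.nonDegenerate n)) (n : ℕ) : Function.Injective (f.app (op (SimplexCategory.mk n))) := by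
  intro x₁ x₂ h
  obtain ⟨m₁, g₁, hg₁, ⟨y₁, hy₁⟩, rfl⟩ := U.exists_nonDegenerate x₁
  obtain ⟨m₂, g₂, hg₂, ⟨y₂, hy₂⟩, rfl⟩ := U.exists_nonDegenerate x₂
  rw [FunctorToTypes.naturality, FunctorToTypes.naturality] at h
  obtain rfl : m₁ = m₂ := V.unique_nonDegenerate_dim _ g₁ ⟨_, ha _ _ hy₁⟩ rfl g₂ ⟨_, ha _ _ hy₂⟩ h
  have e := V.unique_nonDegenerate_simplex _ g₁ ⟨_, ha _ _ hy₁⟩ rfl g₂ ⟨_, ha _ _ hy₂⟩ h
  have e' := V.unique_nonDegenerate_map _ g₁ ⟨_, ha _ _ hy₁⟩ rfl g₂ ⟨_, ha _ _ hy₂⟩ h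
  obtain rfl : y₁ = y₂ := hb _ hy₁ hy₂ (congrArg Subtype.val e)
  rw [e']

end Groth.Agent.S6808
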