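import Groth.Statements.S6811
import Groth.Agent.CategoryFibred.CoskFinite

set_option autoImplicit false
open CategoryTheory CategoryTheory.Limits
universe v u
open CategoryTheory CategoryTheory.SimplicialObject

namespace Groth.Agent.S6811
open Opposite
open Groth.CatFib

/-- In a category with finite limits, an `n`-coskeletal simplicial object is `m`-coskeletal for every `m
≥ n`. -/
theorem result {C : Type u} [Category.{v} C] [HasFiniteLimits C] (U : SimplicialObject C) {n m : ℕ} (h : n ≤ m) [U.IsCoskeletal n] : U.IsCoskeletal m := by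
  refine Cosk.isCoskeletal_of (fun G φ hφ => ?_) fun G g g' hg => Cosk.hom_ext (n := n) fun j hj => hg j (hj.trans h)
  obtain ⟨g, hg⟩ := Cosk.exists_ext (U := U) (n := n) (fun j hj => φ j (hj.trans h))
    (fun i j hi hj θ => hφ i j (hi.trans h) (hj.trans h) θ)
  refine ⟨g, fun j hj => Cosk.eq_of_faces (k := n) fun i hi θ => ?_⟩
  rw [← g.naturality, hg i hi, hφ i j (hi.trans h) hj θ]

end Groth.Agent.S6811
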