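import Groth.Statements.S6812
import Mathlib.AlgebraicTopology.SimplicialSet.Skeleton
import Mathlib.CategoryTheory.Functor.KanExtension.Pointwise

set_option autoImplicit false
open CategoryTheory
universe u
open SSet

namespace Groth.Agent.S6812
open SSet Simplicial Opposite

/-- For a simplicial set `U`, the counit `i_{n!} sk_n U ⟶ U` of the skeleton adjunction is a
monomorphism whose image is the subcomplex of `U` generated by its simplices of dimension `≤ n`. -/
theorem result (U : SSet.{u}) (n : ℕ) : Mono ((SSet.skAdj n).counit.app U) ∧ SSet.Subcomplex.range ((SSet.skAdj n).counit.app U) = U.skeleton (n + 1) := by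
  let ε := (SSet.skAdj n).counit.app U
  let F := (SSet.truncation n).obj U
  let S : SSet.{u} := (SSet.Truncated.sk n).obj F
  let η : F ⟶ (SSet.truncation n).obj S := (SSet.skAdj n).unit.app F
  have : S.IsLeftKanExtension (F := F) (L := (SimplexCategory.Truncated.inclusion n).op) η :=
    by
    dsimp [S, η, SSet.Truncated.sk, SSet.skAdj, SimplicialObject.skAdj, SimplicialObject.Truncated.sk]
    rw [Functor.lanAdjunction_unit]
    infer_instance
  let e : ∀ (i : SimplexCategory) (_ : i.len ≤ n), U.obj (op i) → S.obj (op i) := fun i hi u => η.app (op ⟨i, hi⟩) u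
  have ee : ∀ i hi u, ε.app (op i) (e i hi u) = u := fun i hi u =>
    ConcreteCategory.congr_hom (congr_app ((SSet.skAdj n).right_triangle_components U) (op ⟨i, hi⟩)) u
  have enat : ∀ (i j : SimplexCategory) (hi : i.len ≤ n) (hj : j.len ≤ n) (θ : i ⟶ j) (u : U.obj (op j)),
      e i hi (U.map θ.op u) = S.map θ.op (e j hj u) := fun i j hi hj θ u =>
    ConcreteCategory.congr_hom (η.naturality (Quiver.Hom.op (InducedCategory.homMk θ : (⟨i, hi⟩ : SimplexCategory.Truncated n) ⟶ ⟨j, hj⟩))) u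
  have surj : ∀ (m : SimplexCategory) (a : S.obj (op m)), ∃ (i : SimplexCategory) (hi : i.len ≤ n) (q : m ⟶ i) (u : U.obj (op i)),
      a = S.map q.op (e i hi u) := by
    intro m a
    obtain ⟨φ, u, hu⟩ := Limits.Types.jointly_surjective _
      (Functor.isPointwiseLeftKanExtensionOfIsLeftKanExtension (F := F) (L := (SimplexCategory.Truncated.inclusion n).op) S η (op m)) a
    exact ⟨φ.left.unop.obj, φ.left.unop.property, φ.hom.unop, u, hu.symm⟩
  have norm : ∀ (m : ℕ) (a : S.obj (op ⦋m⦌)), ∃ (d : ℕ) (hd : d ≤ n) (p : ⦋m⦌ ⟶ ⦋d⦌) (_ : Epi p) (y : U.nonDegenerate d),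
      a = S.map p.op (e ⦋d⦌ hd y.1) := by
    intro m a
    obtain ⟨i, hi, q, u, rfl⟩ := surj ⦋m⦌ a
    obtain ⟨⟨⟨d₁, e₁, μ, hfac⟩, hμ⟩⟩ : Nonempty { F : Σ' (d₁ : ℕ) (e₁ : ⦋m⦌ ⟶ ⦋d₁⦌) (μ : ⦋d₁⦌ ⟶ i), e₁ ≫ μ = q // Epi F.2.1 ∧ Mono F.2.2.1 } :=
      ⟨⟨⟨(Limits.image q).len, Limits.factorThruImage q, Limits.image.ι q, Limits.image.fac q⟩, inferInstance, inferInstance⟩⟩
    have : Epi e₁ := hμ.1
    have : Mono μ := hμ.2
    have hd₁ : d₁ ≤ n := le_trans (SimplexCategory.len_le_of_mono μ) hi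
    obtain ⟨d, p, hp, y, hy⟩ := U.exists_nonDegenerate (U.map μ.op u)
    have hd : d ≤ n := le_trans (SimplexCategory.len_le_of_epi p) hd₁
    refine ⟨d, hd, e₁ ≫ p, epi_comp _ _, y, ?_⟩
    rw [← hfac, op_comp, op_comp, Functor.map_comp_apply, Functor.map_comp_apply, ← enat _ _ hd₁ hi, hy, enat _ _ hd₁ hd]
  have hε : ∀ (i m : SimplexCategory) (hi : i.len ≤ n) (q : m ⟶ i) (u : U.obj (op i)),
      ε.app (op m) (S.map q.op (e i hi u)) = U.map q.op u := fun i m hi q u =>
    (NatTrans.naturality_apply ε q.op _).trans (congrArg (U.map q.op) (ee i hi u))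
  constructor
  · have : ∀ m : SimplexCategoryᵒᵖ, Mono (ε.app m) := by
      rintro ⟨m⟩
      induction m using SimplexCategory.rec with
      | _ m =>
        rw [mono_iff_injective]
        intro a b hab
        obtain ⟨d, hd, p, hp, y, rfl⟩ := norm m a
        obtain ⟨d', hd', p', hp', y', rfl⟩ := norm m b
        change ε.app (op ⦋m⦌) (S.map p.op (e ⦋d⦌ hd y.1)) = ε.app (op ⦋m⦌) (S.map p'.op (e ⦋d'⦌ hd' y'.1)) at hab
        rw [hε, hε] at hab
        obtain rfl := U.unique_nonDegenerate_dim _ p y rfl p' y' hab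
        obtain rfl := U.unique_nonDegenerate_simplex _ p y rfl p' y' hab
        obtain rfl := U.unique_nonDegenerate_map _ p y rfl p' y hab
        rfl
    exact NatTrans.mono_of_mono_app ε
  · ext ⟨m⟩ x
    induction m using SimplexCategory.rec with
    | _ m =>
      constructor
      · rintro ⟨a, rfl⟩
        obtain ⟨d, hd, p, hp, y, rfl⟩ := norm m a
        change ε.app (op ⦋m⦌) (S.map p.op (e ⦋d⦌ hd y.1)) ∈ _
        rw [hε]
        exact (U.skeleton (n + 1)).map p.op (U.mem_skeleton y.1 (by omega))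
      · intro hx
        change x ∈ (⨆ (i : Fin (n + 1)) (y : U.nonDegenerate i), Subcomplex.ofSimplex y.1).obj (op ⦋m⦌) at hx
        simp only [Subfunctor.iSup_obj, Set.mem_iUnion] at hx
        obtain ⟨i, y, q, hq⟩ := hx
        exact ⟨S.map q.unop.op (e ⦋i⦌ (Nat.le_of_lt_succ i.2) y.1), (hε _ _ _ _ _).trans hq⟩

end Groth.Agent.S6812
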