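import Groth.Statements.S6813
import Groth.Agent.CategoryFibred.CoskFinite
import Mathlib.CategoryTheory.Limits.Constructions.Over.Connected
import Mathlib.CategoryTheory.Limits.Constructions.Over.Basic
import Mathlib.AlgebraicTopology.SimplexCategory.Truncated

set_option autoImplicit false
open CategoryTheory CategoryTheory.Limits
universe v u
open CategoryTheory CategoryTheory.SimplicialObject

namespace Groth.Agent.S6813
open Opposite
open Groth.CatFib

/-- For `k ≥ 1` the forgetful functor from the over category `C/X` to `C` (with `C` having finite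
limits) commutes with `cosk_k`; stated as: a `k`-coskeletal simplicial object of `C/X` has
`k`-coskeletal underlying simplicial object in `C`. -/
theorem result {C : Type u} [Category.{v} C] [HasFiniteLimits C] (X : C) (k : ℕ) (hk : 1 ≤ k) (V : SimplicialObject (Over X)) [V.IsCoskeletal k] : SimplicialObject.IsCoskeletal (V ⋙ Over.forget X) k := by
  have : NeZero k := ⟨by omega⟩
  have hp := Functor.isPointwiseRightKanExtensionOfIsRightKanExtension V (𝟙 ((SimplexCategory.Truncated.inclusion k).op ⋙ V))
  let α : (SimplexCategory.Truncated.inclusion k).op ⋙ (V ⋙ Over.forget X) ⟶ (SimplexCategory.Truncated.inclusion k).op ⋙ (V ⋙ Over.forget X) := 𝟙 _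
  have hq : (Functor.RightExtension.mk _ α).IsPointwiseRightKanExtension := fun Y => by
    have : IsConnected (StructuredArrow Y (SimplexCategory.Truncated.inclusion k).op) := Functor.Final.out Y
    refine Limits.IsLimit.ofIsoLimit (Limits.isLimitOfPreserves (Over.forget X) (hp Y)) (Limits.Cone.ext (Iso.refl _) fun φ => ?_)
    change (V.map φ.hom).left ≫ 𝟙 _ = 𝟙 _ ≫ (V.map φ.hom).left ≫ 𝟙 _
    exact (Category.id_comp _).symm
  exact ⟨hq.isRightKanExtension⟩

end Groth.Agent.S6813
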