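import Groth.Statements.S6814
import Groth.Prelude.Def_FibCat2

set_option autoImplicit false
open CategoryTheory CategoryTheory.Limits Opposite
universe v u
open CategoryTheory CategoryTheory.SimplicialObject CategoryTheory.SimplicialObject.Truncated

namespace Groth.Agent.S6814
open SimplexCategory SimplexCategory.Truncated
open scoped Simplicial

variable {C : Type u} [Category.{v} C] {n : ℕ}

/-- The action of a truncated simplicial object on an untruncated map. -/
abbrev Um (U : (SimplexCategory.Truncated (n + 1))ᵒᵖ ⥤ C) {a b : SimplexCategory} (f : a ⟶ b) (ha : a.len ≤ n + 1)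
    (hb : b.len ≤ n + 1) : U.obj (op ⟨b, hb⟩) ⟶ U.obj (op ⟨a, ha⟩) :=
  U.map (Hom.tr f ha hb).op

lemma Um_comp (U : (SimplexCategory.Truncated (n + 1))ᵒᵖ ⥤ C) {a b c : SimplexCategory} (f : a ⟶ b) (g : b ⟶ c)
    (ha : a.len ≤ n + 1) (hb : b.len ≤ n + 1) (hc : c.len ≤ n + 1) :
    Um U (f ≫ g) ha hc = Um U g hb hc ≫ Um U f ha hb := by
  rw [← U.map_comp, ← op_comp, ← Hom.tr_comp]

lemma exists_miss {a : SimplexCategory} (g : a ⟶ ⦋n + 2⦌) (ha : a.len ≤ n + 1) :
    ∃ (k : Fin (n + 3)) (g' : a ⟶ ⦋n + 1⦌), g = g' ≫ SimplexCategory.δ k :=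
  eq_comp_δ_of_not_surjective g fun h => by
    have := Fintype.card_le_of_surjective _ h
    simp at this
    omega

lemma indep (U : (SimplexCategory.Truncated (n + 1))ᵒᵖ ⥤ C) {S : C}
    (p : Fin (n + 3) → (S ⟶ U.obj (op ⟨⦋n + 1⦌, (SimplexCategory.len_mk (n + 1)).le⟩)))
    (hp : ∀ i j : Fin (n + 2), i ≤ j →
      p i.castSucc ≫ Um U (SimplexCategory.δ j) (Nat.le_succ n) le_rfl =
        p j.succ ≫ Um U (SimplexCategory.δ i) (Nat.le_succ n) le_rfl)
    {a : SimplexCategory} (ha : a.len ≤ n + 1) (k l : Fin (n + 3)) (g₁ g₂ : a ⟶ ⦋n + 1⦌)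
    (h : g₁ ≫ SimplexCategory.δ k = g₂ ≫ SimplexCategory.δ l) :
    p k ≫ Um U g₁ ha le_rfl = p l ≫ Um U g₂ ha le_rfl := by
  have main : ∀ (i j : Fin (n + 2)), i ≤ j → ∀ (g₁ g₂ : a ⟶ ⦋n + 1⦌),
      g₁ ≫ SimplexCategory.δ i.castSucc = g₂ ≫ SimplexCategory.δ j.succ →
      p i.castSucc ≫ Um U g₁ ha le_rfl = p j.succ ≫ Um U g₂ ha le_rfl := by
    intro i j hij g₁ g₂ h
    obtain ⟨h', rfl⟩ := eq_comp_δ_of_not_surjective' g₂ i (fun x hx => by
      have e := congrArg (fun f => f.toOrderHom x) h
      change i.castSucc.succAbove (g₁.toOrderHom x) = j.succ.succAbove (g₂.toOrderHom x) at e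
      rw [hx, Fin.succAbove_of_castSucc_lt _ _ (Fin.castSucc_lt_succ_iff.2 hij)] at e
      exact Fin.succAbove_ne _ _ e)
    have e : g₁ = h' ≫ SimplexCategory.δ j := by
      rw [← cancel_mono (SimplexCategory.δ i.castSucc), h, Category.assoc, SimplexCategory.δ_comp_δ hij, Category.assoc]
    subst e
    rw [Um_comp U h' _ ha (Nat.le_succ n) le_rfl, Um_comp U h' _ ha (Nat.le_succ n) le_rfl, ← Category.assoc,
      hp i j hij, Category.assoc]
  rcases lt_trichotomy k l with hkl | rfl | hkl
  · obtain ⟨i, rfl⟩ := Fin.exists_castSucc_eq.2 (Fin.ne_last_of_lt hkl)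
    obtain ⟨j, rfl⟩ := Fin.exists_succ_eq.2 (Fin.ne_zero_of_lt hkl)
    exact main i j (Fin.castSucc_lt_succ_iff.1 hkl) g₁ g₂ h
  · rw [(cancel_mono _).1 h]
  · obtain ⟨i, rfl⟩ := Fin.exists_castSucc_eq.2 (Fin.ne_last_of_lt hkl)
    obtain ⟨j, rfl⟩ := Fin.exists_succ_eq.2 (Fin.ne_zero_of_lt hkl)
    exact (main i j (Fin.castSucc_lt_succ_iff.1 hkl) g₂ g₁ h.symm).symm

/-- Let `U` be an `(n+1)`-truncated simplicial object of a category `C` (so the truncation level is at
least `1`), and let `T` be an object with morphisms `π_0, …, π_{n+2} : T ⟶ U_{n+1}` satisfying the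
face relations `d_j π_i = d_i π_{j+1}` for `i ≤ j` and universal among such families (that is, `T`
represents the functor of `(n+3)`-tuples of morphisms to `U_{n+1}` satisfying the face relations).
Then `U` extends to an `(n+2)`-truncated simplicial object right adjoint to restriction: the
pointwise right Kan extension of `U` along the inclusion of `(n+1)`-truncated into `(n+2)`-truncated
simplex categories exists, and for any right Kan extension `V` of `U` the morphism `V_{n+2} ⟶ T`
matching the faces of `V` with the `π_k` is an isomorphism (the new top term is the representing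
object). -/
theorem result {C : Type u} [Category.{v} C] (n : ℕ) (U : (SimplexCategory.Truncated (n + 1))ᵒᵖ ⥤ C) (T : C) (π : Fin (n + 3) → (T ⟶ U.obj (op ⟨SimplexCategory.mk (n + 1), (SimplexCategory.len_mk (n + 1)).le⟩))) (hπ : ∀ i j : Fin (n + 2), i ≤ j → π (Fin.castSucc i) ≫ U.map (SimplexCategory.Truncated.δ (n + 1) j ((SimplexCategory.len_mk n).trans_le (Nat.le_succ n)) (SimplexCategory.len_mk (n + 1)).le).op = π j.succ ≫ U.map (SimplexCategory.Truncated.δ (n + 1) i ((SimplexCategory.len_mk n).trans_le (Nat.le_succ n)) (SimplexCategory.len_mk (n + 1)).le).op) (huniv : ∀ (S : C) (g : Fin (n + 3) → (S ⟶ U.obj (op ⟨SimplexCategory.mk (n + 1), (SimplexCategory.len_mk (n + 1)).le⟩))), (∀ i j : Fin (n + 2), i ≤ j → g (Fin.castSucc i) ≫ U.map (SimplexCategory.Truncated.δ (n + 1) j ((SimplexCategory.len_mk n).trans_le (Nat.le_succ n)) (SimplexCategory.len_mk (n + 1)).le).op = g j.succ ≫ U.map (SimplexCategory.Truncated.δ (n + 1) i ((SimplexCategory.len_mk n).trans_le (Nat.le_succ n)) (SimplexCategory.len_mk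 (n + 1)).le).op) → ∃! t : S ⟶ T, ∀ k : Fin (n + 3), t ≫ π k = g k) : (SimplexCategory.Truncated.incl (n + 1) (n + 2) (Nat.le_succ _)).op.HasPointwiseRightKanExtension U ∧ ∀ (V : (SimplexCategory.Truncated (n + 2))ᵒᵖ ⥤ C) (α : (SimplexCategory.Truncated.incl (n + 1) (n + 2) (Nat.le_succ _)).op ⋙ V ⟶ U) [V.IsRightKanExtension α] (t : V.obj (op ⟨SimplexCategory.mk (n + 2), (SimplexCategory.len_mk (n + 2)).le⟩) ⟶ T), (∀ k : Fin (n + 3), t ≫ π k = V.map (SimplexCategory.Truncated.δ (n + 2) k ((SimplexCategory.len_mk (n + 1)).trans_le (Nat.le_succ (n + 1))) (SimplexCategory.len_mk (n + 2)).le).op ≫ α.app (op ⟨SimplexCategory.mk (n + 1), (SimplexCategory.len_mk (n + 1)).le⟩)) → IsIso t := by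
  let L := (SimplexCategory.Truncated.incl (n + 1) (n + 2) (Nat.le_succ _)).op
  let top : (SimplexCategory.Truncated (n + 2))ᵒᵖ := op ⟨⦋n + 2⦌, le_rfl⟩
  let arr : ∀ j : StructuredArrow top L, j.right.unop.obj ⟶ ⦋n + 2⦌ := fun j => j.hom.unop.hom
  choose k g hg using fun j : StructuredArrow top L => exists_miss (arr j) j.right.unop.property
  have hval : ∀ (j : StructuredArrow top L) (l : Fin (n + 3)) (g₂ : j.right.unop.obj ⟶ ⦋n + 1⦌),
      arr j = g₂ ≫ SimplexCategory.δ l →
      π (k j) ≫ Um U (g j) j.right.unop.property le_rfl = π l ≫ Um U g₂ j.right.unop.property le_rfl :=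
    fun j l g₂ h => indep U π hπ j.right.unop.property _ _ _ _ ((hg j).symm.trans h)
  let c : Cone (StructuredArrow.proj top L ⋙ U) :=
    { pt := T
      π :=
        { app := fun j => π (k j) ≫ Um U (g j) j.right.unop.property le_rfl
          naturality := fun j j' f => by
            change 𝟙 T ≫ π (k j') ≫ Um U (g j') j'.right.unop.property le_rfl =
              (π (k j) ≫ Um U (g j) j.right.unop.property le_rfl) ≫ U.map f.right
            rw [Category.id_comp, Category.assoc]
            have e : arr j' = f.right.unop.hom ≫ arr j := congrArg (fun q => q.unop.hom) (StructuredArrow.w f).symm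
            rw [hval j' (k j) (f.right.unop.hom ≫ g j) (by rw [e, hg j, Category.assoc]),
              Um_comp U f.right.unop.hom (g j) j'.right.unop.property j.right.unop.property le_rfl]
            rfl } }
  let face : Fin (n + 3) → StructuredArrow top L := fun l =>
    StructuredArrow.mk (Y := op ⟨⦋n + 1⦌, le_rfl⟩)
      (Quiver.Hom.op (SimplexCategory.Truncated.Hom.tr (SimplexCategory.δ l) (Nat.le_succ (n + 1)) le_rfl))
  have cface : ∀ l, c.π.app (face l) = π l := fun l => by
    refine (hval (face l) l (𝟙 _) (Category.id_comp _).symm).trans ?_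
    exact (congrArg (π l ≫ ·) (U.map_id _)).trans (Category.comp_id _)
  have nat : ∀ (s : Cone (StructuredArrow.proj top L ⋙ U)) (j : StructuredArrow top L) (l : Fin (n + 3))
      (g₂ : j.right.unop.obj ⟶ ⦋n + 1⦌), arr j = g₂ ≫ SimplexCategory.δ l →
      s.π.app j = s.π.app (face l) ≫ Um U g₂ j.right.unop.property le_rfl := by
    intro s j l g₂ h
    exact (s.w (StructuredArrow.homMk (Quiver.Hom.op (SimplexCategory.Truncated.Hom.tr g₂ j.right.unop.property le_rfl))
      (Quiver.Hom.unop_inj (InducedCategory.hom_ext h.symm)) : face l ⟶ j)).symm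
  have hrel : ∀ s : Cone (StructuredArrow.proj top L ⋙ U), ∀ i j : Fin (n + 2), i ≤ j →
      s.π.app (face i.castSucc) ≫ Um U (SimplexCategory.δ j) (Nat.le_succ n) le_rfl =
        s.π.app (face j.succ) ≫ Um U (SimplexCategory.δ i) (Nat.le_succ n) le_rfl := by
    intro s i j hij
    let On : (SimplexCategory.Truncated (n + 1))ᵒᵖ := op ⟨⦋n⦌, Nat.le_succ n⟩
    let f : StructuredArrow top L := StructuredArrow.mk (Y := On)
      (Quiver.Hom.op (SimplexCategory.Truncated.Hom.tr (SimplexCategory.δ j ≫ SimplexCategory.δ i.castSucc)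
        ((Nat.le_succ n).trans (Nat.le_succ _)) le_rfl))
    exact (nat s f i.castSucc (SimplexCategory.δ j) rfl).symm.trans
      (nat s f j.succ (SimplexCategory.δ i) (SimplexCategory.δ_comp_δ hij).symm)
  let hc : IsLimit c :=
    { lift := fun s => (huniv s.pt (fun l => s.π.app (face l)) (hrel s)).exists.choose
      fac := fun s j => by
        have hl := (huniv s.pt (fun l => s.π.app (face l)) (hrel s)).exists.choose_spec
        change _ ≫ π (k j) ≫ Um U (g j) j.right.unop.property le_rfl = _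
        rw [← Category.assoc, hl, nat s j (k j) (g j) (hg j)]
        rfl
      uniq := fun s m hm => (huniv s.pt (fun l => s.π.app (face l)) (hrel s)).unique
        (fun l => by rw [← cface]; exact hm (face l))
        (huniv s.pt (fun l => s.π.app (face l)) (hrel s)).exists.choose_spec }
  have hext : L.HasPointwiseRightKanExtension U := by
    intro Y
    by_cases hY : Y.unop.obj.len ≤ n + 1
    · have : Y = L.obj (op ⟨Y.unop.obj, hY⟩) := rfl
      rw [this]
      have : HasInitial (StructuredArrow (L.obj (op ⟨Y.unop.obj, hY⟩)) L) :=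
        StructuredArrow.mkIdInitial.hasInitial
      exact inferInstanceAs (HasLimit _)
    · obtain ⟨⟨a, ha⟩⟩ := Y
      obtain ⟨m⟩ := a
      obtain rfl : m = n + 2 := by
        change m ≤ n + 2 at ha
        change ¬ m ≤ n + 1 at hY
        omega
      exact HasLimit.mk ⟨c, hc⟩
  refine ⟨hext, fun V α _ t ht => ?_⟩
  have hV : IsLimit ((Functor.RightExtension.mk V α).coneAt top) :=
    Functor.isPointwiseRightKanExtensionOfIsRightKanExtension V α top
  let s₀ := (Functor.RightExtension.mk V α).coneAt top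
  have e : t = hc.lift s₀ :=
    (huniv s₀.pt (fun l => s₀.π.app (face l)) (hrel s₀)).unique
      (fun l => (ht l).trans rfl)
      (huniv s₀.pt (fun l => s₀.π.app (face l)) (hrel s₀)).exists.choose_spec
  rw [e]
  exact (hV.conePointUniqueUpToIso hc).isIso_hom

end Groth.Agent.S6814
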