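import Groth.Statements.S6815
import Mathlib.CategoryTheory.Limits.Preserves.Basic

set_option autoImplicit false
open CategoryTheory CategoryTheory.Limits
universe w v u
open CategoryTheory CategoryTheory.SimplicialObject

namespace Groth.Agent.S6815

/-- Homotopies between the factors of two product morphisms of simplicial objects assemble to a homotopy
between the products. -/
theorem result {C : Type u} [Category.{v} C] {T : Type w} [HasLimitsOfShape (Discrete T) C] {X Y : T → SimplicialObject C} (a b : ∀ t, X t ⟶ Y t) (h : ∀ t, Nonempty (SimplicialObject.Homotopy (a t) (b t))) : Nonempty (SimplicialObject.Homotopy (Limits.Pi.map a) (Limits.Pi.map b)) := by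
  let HH : ∀ t, SimplicialObject.Homotopy (a t) (b t) := fun t => (h t).some
  let proj : ∀ (Z : T → SimplicialObject C) (t : T) (n : SimplexCategoryᵒᵖ), (∏ᶜ Z).obj n ⟶ (Z t).obj n :=
    fun Z t n => (Pi.π Z t).app n
  have lim : ∀ (Z : T → SimplicialObject C) (n : SimplexCategoryᵒᵖ),
      IsLimit (((evaluation SimplexCategoryᵒᵖ C).obj n).mapCone (limit.cone (Discrete.functor Z))) :=
    fun Z n => isLimitOfPreserves _ (limit.isLimit _)
  have ext : ∀ (Z : T → SimplicialObject C) (n : SimplexCategoryᵒᵖ) (W : C) (u w : W ⟶ (∏ᶜ Z).obj n),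
      (∀ t, u ≫ proj Z t n = w ≫ proj Z t n) → u = w :=
    fun Z n W u w e => (lim Z n).hom_ext fun ⟨t⟩ => e t
  have mk : ∀ (n : ℕ) (i : Fin (n + 1)), ∃ u : (∏ᶜ X).obj (Opposite.op (SimplexCategory.mk n)) ⟶ (∏ᶜ Y).obj (Opposite.op (SimplexCategory.mk (n + 1))),
      ∀ t, u ≫ proj Y t _ = proj X t _ ≫ (HH t).h i := fun n i =>
    ⟨(lim Y _).lift ⟨_, Discrete.natTrans fun ⟨t⟩ => proj X t _ ≫ (HH t).h i⟩, fun t => (lim Y _).fac _ ⟨t⟩⟩
  choose u hu using mk
  have nY : ∀ {m k : SimplexCategoryᵒᵖ} (θ : m ⟶ k) (t : T), (∏ᶜ Y).map θ ≫ proj Y t k = proj Y t m ≫ (Y t).map θ :=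
    fun θ t => (Pi.π Y t).naturality θ
  have nX : ∀ {m k : SimplexCategoryᵒᵖ} (θ : m ⟶ k) (t : T), (∏ᶜ X).map θ ≫ proj X t k = proj X t m ≫ (X t).map θ :=
    fun θ t => (Pi.π X t).naturality θ
  have nf : ∀ (k : SimplexCategoryᵒᵖ) (f : ∀ t, X t ⟶ Y t) (t : T), (Limits.Pi.map f).app k ≫ proj Y t k = proj X t k ≫ (f t).app k :=
    fun k f t => by
      have := congr_app (Limits.Pi.map_π f t) k
      exact this
  refine ⟨{ h := fun {n} i => u n i
            h_zero_comp_δ_zero := fun n => ext _ _ _ _ _ fun t => ?_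
            h_last_comp_δ_last := fun n => ext _ _ _ _ _ fun t => ?_
            h_succ_comp_δ_castSucc_of_lt := fun {n} i j hij => ext _ _ _ _ _ fun t => ?_
            h_succ_comp_δ_castSucc_succ := fun {n} j => ext _ _ _ _ _ fun t => ?_
            h_castSucc_comp_δ_succ_of_lt := fun {n} i j hij => ext _ _ _ _ _ fun t => ?_
            h_comp_σ_castSucc_of_le := fun {n} i j hij => ext _ _ _ _ _ fun t => ?_
            h_comp_σ_succ_of_lt := fun {n} i j hij => ext _ _ _ _ _ fun t => ?_ }⟩ <;>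
    simp only [SimplicialObject.δ, SimplicialObject.σ, Category.assoc, nY, nf, hu, reassoc_of% nX, reassoc_of% hu]
  · exact congrArg (proj X t _ ≫ ·) ((HH t).h_zero_comp_δ_zero n)
  · exact congrArg (proj X t _ ≫ ·) ((HH t).h_last_comp_δ_last n)
  · exact congrArg (proj X t _ ≫ ·) ((HH t).h_succ_comp_δ_castSucc_of_lt i j hij)
  · exact congrArg (proj X t _ ≫ ·) ((HH t).h_succ_comp_δ_castSucc_succ j)
  · exact congrArg (proj X t _ ≫ ·) ((HH t).h_castSucc_comp_δ_succ_of_lt i j hij)
  · exact congrArg (proj X t _ ≫ ·) ((HH t).h_comp_σ_castSucc_of_le i j hij)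
  · exact congrArg (proj X t _ ≫ ·) ((HH t).h_comp_σ_succ_of_lt i j hij)

end Groth.Agent.S6815
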