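import Groth.Statements.S6816


set_option autoImplicit false
open CategoryTheory CategoryTheory.Limits
universe v u
open CochainComplex

namespace Groth.Agent.S6816
/-- The comparison `s' ≫ r` of two splittings. -/
private lemma key {C : Type u} [Category.{v} C] [Preadditive C] (T : ShortComplex C) (a a' : T.Splitting) :
    a'.s = a.s + (a'.s ≫ a.r) ≫ T.f ∧ a'.r = a.r - T.g ≫ (a'.s ≫ a.r) := by
  constructor
  · have := congrArg (fun t => a'.s ≫ t) a.id
    simp only [Preadditive.comp_add, Category.comp_id, reassoc_of% a'.s_g] at this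
    rw [Category.assoc]
    conv_lhs => rw [← this]
    abel
  · have := congrArg (fun t => t ≫ a.r) a'.id
    simp only [Preadditive.add_comp, Category.id_comp, Category.assoc, a.f_r, Category.comp_id] at this
    conv_rhs => rw [← this]
    simp

/-- The boundary morphisms `C ⟶ A⟦1⟧` attached to two degreewise splittings of a degreewise split
sequence `A ⟶ B ⟶ C` of cochain complexes are homotopic. -/
theorem result {C : Type u} [Category.{v} C] [Preadditive C] [HasBinaryBiproducts C] (S : ShortComplex (CochainComplex C ℤ)) (σ σ' : ∀ n : ℤ, (S.map (HomologicalComplex.eval C (ComplexShape.up ℤ) n)).Splitting) : Nonempty (Homotopy (CochainComplex.homOfDegreewiseSplit S σ) (CochainComplex.homOfDegreewiseSplit S σ')) := by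
  let r : ∀ n, S.X₂.X n ⟶ S.X₁.X n := fun n => (σ n).r
  let r' : ∀ n, S.X₂.X n ⟶ S.X₁.X n := fun n => (σ' n).r
  let l : ∀ n, S.X₃.X n ⟶ S.X₂.X n := fun n => (σ n).s
  let l' : ∀ n, S.X₃.X n ⟶ S.X₂.X n := fun n => (σ' n).s
  let t : ∀ n : ℤ, S.X₃.X n ⟶ S.X₁.X n := fun n => l' n ≫ r n
  refine ⟨{ hom := fun i j => if h : j + 1 = i then t i ≫ (S.X₁.XIsoOfEq h.symm).hom else 0,
            zero := fun i j h => dif_neg h, comm := fun n => ?_ }⟩
  have hs : ∀ n, l' n = l n + t n ≫ S.f.f n := fun n => (key _ (σ n) (σ' n)).1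
  have hr : ∀ n, r' n = r n - S.g.f n ≫ t n := fun n => (key _ (σ n) (σ' n)).2
  have sg : ∀ n, l n ≫ S.g.f n = 𝟙 _ := fun n => (σ n).s_g
  have fr : ∀ n, S.f.f n ≫ r n = 𝟙 _ := fun n => (σ n).f_r
  have hz : ∀ k, S.f.f k ≫ S.g.f k = 0 := fun k => by
    rw [← HomologicalComplex.comp_f, S.zero]; rfl
  have hv : ∀ (τ : ∀ n, (S.map (HomologicalComplex.eval C (ComplexShape.up ℤ) n)).Splitting) (m : ℤ),
      (CochainComplex.homOfDegreewiseSplit S τ).f m =
        (show S.X₃.X m ⟶ S.X₂.X m from (τ m).s) ≫ S.X₂.d m (m + 1) ≫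
          (show S.X₂.X (m + 1) ⟶ S.X₁.X (m + 1) from (τ (m + 1)).r) := fun τ m =>
    (CochainComplex.homOfDegreewiseSplit_f S τ m).trans rfl
  rw [hv σ n, hv σ' n]
  change l n ≫ S.X₂.d n (n + 1) ≫ r (n + 1) = _ + l' n ≫ S.X₂.d n (n + 1) ≫ r' (n + 1)
  rw [dNext_eq _ (show (ComplexShape.up ℤ).Rel n (n + 1) from rfl),
    prevD_eq _ (show (ComplexShape.up ℤ).Rel (n - 1) n by simp)]
  rw [dif_pos rfl, dif_pos (by omega)]
  have e₁ : l' n ≫ S.X₂.d n (n + 1) ≫ r' (n + 1) =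
      l n ≫ S.X₂.d n (n + 1) ≫ r (n + 1) - S.X₃.d n (n + 1) ≫ t (n + 1) + t n ≫ S.X₁.d n (n + 1) := by
    rw [hs, hr]
    simp only [Preadditive.add_comp, Preadditive.comp_sub, Category.assoc]
    rw [← S.g.comm_assoc n (n + 1), reassoc_of% (sg n), S.f.comm_assoc n (n + 1), fr (n + 1),
      reassoc_of% (hz n)]
    simp
    abel
  rw [e₁]
  have e₂ : ∀ (m : ℤ) (h : m + 1 = n),
      (t n ≫ (S.X₁.XIsoOfEq h.symm).hom) ≫ ((S.X₁⟦(1 : ℤ)⟧).d m n) = - (t n ≫ S.X₁.d n (n + 1)) := by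
    rintro m rfl
    simp
  erw [e₂ (n - 1) (by omega)]
  simp [HomologicalComplex.XIsoOfEq_rfl]
  abel

end Groth.Agent.S6816
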