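import Groth.Statements.S6817
import Groth.Agent.CategoryFibred.AbHomology
import Mathlib.Algebra.Category.Grp.Adjunctions
import Mathlib.AlgebraicTopology.SimplicialObject.ChainHomotopy
import Mathlib.AlgebraicTopology.SimplicialSet.Homotopy

set_option autoImplicit false
open CategoryTheory
universe u
open SSet

namespace Groth.Agent.S6817
open AlgebraicTopology AlgebraicTopology.DoldKan Simplicial Opposite Groth.CatFib

/-- The free simplicial abelian group on a simplicial set. -/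
noncomputable abbrev Z : SSet.{u} ⥤ SimplicialObject AddCommGrpCat.{u} :=
  (SimplicialObject.whiskering _ _).obj AddCommGrpCat.free

/-- The chain complex of a simplicial abelian group. -/
noncomputable abbrev K : SimplicialObject AddCommGrpCat.{u} ⥤ ChainComplex AddCommGrpCat.{u} ℕ :=
  alternatingFaceMapComplex _

variable {X Y : SimplicialObject AddCommGrpCat.{u}}

/-- The underlying simplicial set. -/
abbrev U (X : SimplicialObject AddCommGrpCat.{u}) : SSet.{u} := X ⋙ forget AddCommGrpCat.{u}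

/-- The evaluation `ℤ[X] ⟶ X`. -/
noncomputable def ev (X : SimplicialObject AddCommGrpCat.{u}) : Z.obj (U X) ⟶ X :=
  Functor.whiskerLeft X AddCommGrpCat.adj.counit

/-- The symbol of an element. -/
noncomputable def sym {n : ℕ} (x : X.obj (op ⦋n⦌)) : (Z.obj (U X)).obj (op ⦋n⦌) := FreeAbelianGroup.of x

lemma ev_sym {n : ℕ} (x : X.obj (op ⦋n⦌)) : (ev X).app (op ⦋n⦌) (sym x) = x :=
  ConcreteCategory.congr_hom (AddCommGrpCat.adj.right_triangle_components (X.obj (op ⦋n⦌))) x

lemma δ_sym {n : ℕ} (i : Fin (n + 2)) (x : X.obj (op ⦋n + 1⦌)) : (Z.obj (U X)).δ i (sym x) = sym (X.δ i x) :=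
  FreeAbelianGroup.map_of_apply _

/-- The reduced symbol of an element. -/
noncomputable def red {n : ℕ} (x : X.obj (op ⦋n⦌)) : (Z.obj (U X)).obj (op ⦋n⦌) := sym x - sym 0

lemma ev_red {n : ℕ} (x : X.obj (op ⦋n⦌)) : (ev X).app (op ⦋n⦌) (red x) = x := by
  rw [red, map_sub, ev_sym, ev_sym, sub_zero]

lemma δ_red {n : ℕ} (i : Fin (n + 2)) (x : X.obj (op ⦋n + 1⦌)) : (Z.obj (U X)).δ i (red x) = red (X.δ i x) := by
  rw [red, red, map_sub, δ_sym, δ_sym, map_zero]

lemma map_red (f : X ⟶ Y) {n : ℕ} (x : X.obj (op ⦋n⦌)) :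
    (K.map (Z.map (Functor.whiskerRight f (forget _)))).f n (red x) = red (f.app (op ⦋n⦌) x) := by
  have e : ∀ z, (K.map (Z.map (Functor.whiskerRight f (forget _)))).f n (sym z) = sym (f.app (op ⦋n⦌) z) :=
    fun z => FreeAbelianGroup.map_of_apply _
  change (K.map (Z.map (Functor.whiskerRight f (forget _)))).f n (sym x - sym 0) = _
  rw [map_sub, e, e, map_zero]
  rfl

lemma nrm_red {n : ℕ} {x : X.obj (op ⦋n⦌)} (h : AbHom.Nrm X n x) : AbHom.Nrm (Z.obj (U X)) n (red x) := by
  obtain _ | n := n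
  · trivial
  intro k
  rw [δ_red, h k, red, sub_self]

lemma cyc_red {n : ℕ} {x : X.obj (op ⦋n⦌)} (h : AbHom.Nrm X n x) (hx : AbHom.Cyc (K.obj X) n x) :
    AbHom.Cyc (K.obj (Z.obj (U X))) n (red x) := by
  intro m
  by_cases hm : (ComplexShape.down ℕ).Rel n m
  · obtain rfl : m + 1 = n := hm
    rw [AbHom.d_of_nrm (nrm_red h), δ_red]
    have := hx m
    rw [AbHom.d_of_nrm h] at this
    rw [this, red, sub_self]
  · rw [HomologicalComplex.shape _ _ _ hm]
    rfl

lemma bd_red {n : ℕ} {x : X.obj (op ⦋n⦌)} (y : X.obj (op ⦋n + 1⦌)) (h : AbHom.Nrm X (n + 1) y)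
    (hy : X.δ 0 y = x) : AbHom.Bd (K.obj (Z.obj (U X))) n (red x) :=
  ⟨red y, by rw [AbHom.d_of_nrm (nrm_red h), δ_red, hy]⟩

/-- The normalized part of an element. -/
noncomputable def P (X : SimplicialObject AddCommGrpCat.{u}) (n : ℕ) (x : (K.obj X).X n) : (K.obj X).X n :=
  (PInfty (X := X)).f n x

lemma bd_P {n : ℕ} {z : (K.obj X).X n} (hz : AbHom.Cyc (K.obj X) n z) : AbHom.Bd (K.obj X) n (P X n z - z) :=
  AbHom.homotopy_bd (homotopyPInftyToId X) hz

lemma ev_naturality (f : X ⟶ Y) {n : ℕ} (e : (K.obj (Z.obj (U X))).X n) :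
    (K.map (ev Y)).f n ((K.map (Z.map (Functor.whiskerRight f (forget _)))).f n e) =
      (K.map f).f n ((K.map (ev X)).f n e) :=
  ConcreteCategory.congr_hom (AddCommGrpCat.adj.counit.naturality (f.app (op ⦋n⦌))) e

/-- A homotopy of maps of simplicial sets in either direction gives a chain homotopy after linearisation. -/
noncomputable def chainHtpy {S T : SSet.{u}} {a b : S ⟶ T} (h : SSet.Homotopy a b) :
    Homotopy (K.map (Z.map a)) (K.map (Z.map b)) :=
  (h.toSimplicialObjectHomotopy.whiskerRight AddCommGrpCat.free).toChainHomotopy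


/-- A homomorphism of simplicial abelian groups whose underlying map of simplicial sets is a homotopy
equivalence induces a quasi-isomorphism of associated chain complexes. (The published statement
allows the composites with a homotopy inverse to be joined to the identities by chains of
homotopies; this row assumes single homotopies, in either direction.) -/
theorem result {X Y : SimplicialObject AddCommGrpCat.{u}} (f : X ⟶ Y) (g : (Y ⋙ forget AddCommGrpCat.{u} : SSet.{u}) ⟶ (X ⋙ forget AddCommGrpCat.{u} : SSet.{u})) (hX : Nonempty (SSet.Homotopy (Functor.whiskerRight f (forget AddCommGrpCat.{u}) ≫ g) (𝟙 _)) ∨ Nonempty (SSet.Homotopy (𝟙 _) (Functor.whiskerRight f (forget AddCommGrpCat.{u}) ≫ g))) (hY : Nonempty (SSet.Homotopy (g ≫ Functor.whiskerRight f (forget AddCommGrpCat.{u})) (𝟙 _)) ∨ Nonempty (SSet.Homotopy (𝟙 _) (g ≫ Functor.whiskerRight f (forget AddCommGrpCat.{u})))) : QuasiIso ((AlgebraicTopology.alternatingFaceMapComplex AddCommGrpCat.{u}).map f)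 := by
  let φ := K.map (Z.map (Functor.whiskerRight f (forget AddCommGrpCat.{u})))
  let ψ := K.map (Z.map g)
  have toH : ∀ {S : SSet.{u}} (a : S ⟶ S), (Nonempty (SSet.Homotopy a (𝟙 S)) ∨ Nonempty (SSet.Homotopy (𝟙 S) a)) →
      Nonempty (Homotopy (K.map (Z.map a)) (K.map (Z.map (𝟙 S)))) := fun a ha =>
    ha.elim (fun ⟨h⟩ => ⟨chainHtpy h⟩) (fun ⟨h⟩ => ⟨(chainHtpy h).symm⟩)
  obtain ⟨hXh⟩ := toH _ hX
  obtain ⟨hYh⟩ := toH _ hY
  have retrX : ∀ n z, AbHom.Cyc (K.obj (Z.obj (U X))) n z → AbHom.Bd _ n (ψ.f n (φ.f n z) - z) := fun n z hz => by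
    have := AbHom.homotopy_bd hXh hz
    rw [show (K.map (Z.map (𝟙 (X ⋙ forget AddCommGrpCat.{u})))).f n z = z from
      ConcreteCategory.congr_hom (congrArg (fun χ => HomologicalComplex.Hom.f χ n) ((Z ⋙ K).map_id (U X))) z,
      Functor.map_comp, Functor.map_comp] at this
    exact this
  have retrY : ∀ n z, AbHom.Cyc (K.obj (Z.obj (U Y))) n z → AbHom.Bd _ n (φ.f n (ψ.f n z) - z) := fun n z hz => by
    have := AbHom.homotopy_bd hYh hz
    rw [show (K.map (Z.map (𝟙 (Y ⋙ forget AddCommGrpCat.{u})))).f n z = z from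
      ConcreteCategory.congr_hom (congrArg (fun χ => HomologicalComplex.Hom.f χ n) ((Z ⋙ K).map_id (U Y))) z,
      Functor.map_comp, Functor.map_comp] at this
    exact this
  refine AbHom.quasiIso_of_elements _ (fun n x hx hfx => ?_) (fun n y hy => ?_)
  · have hx0 : AbHom.Cyc (K.obj X) n (P X n x) := AbHom.cyc_map (PInfty (X := X)) hx
    obtain ⟨w, hw⟩ := AbHom.bd_map (PInfty (X := Y)) hfx
    have hw' : (K.obj Y).d (n + 1) n (P Y (n + 1) w) = f.app (op ⦋n⦌) (P X n x) := by
      have e₁ : P Y n (f.app (op ⦋n⦌) x) = f.app (op ⦋n⦌) (P X n x) := ConcreteCategory.congr_hom (PInfty_f_naturality n f) x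
      have e₂ : P Y n ((K.obj Y).d (n + 1) n w) = (K.obj Y).d (n + 1) n (P Y (n + 1) w) :=
        (ConcreteCategory.congr_hom ((PInfty (X := Y)).comm (n + 1) n) w).symm
      have e₃ : (K.obj Y).d (n + 1) n (P Y (n + 1) w) = P Y n (P Y n (f.app (op ⦋n⦌) x)) := by
        rw [← e₂]
        exact congrArg (P Y n) hw
      rw [e₃]
      exact (ConcreteCategory.congr_hom (PInfty_f_idem (X := Y) n) _).trans e₁
    replace hw' := (AbHom.d_of_nrm (AbHom.nrm_PInfty Y (n + 1) w)).symm.trans hw'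
    have b₁ : AbHom.Bd _ n (φ.f n (red (P X n x))) := by
      rw [map_red]
      exact bd_red _ (AbHom.nrm_PInfty Y (n + 1) w) hw'
    have b₂ := AbHom.bd_sub (AbHom.bd_map ψ b₁) (retrX n (red (P X n x)) (cyc_red (AbHom.nrm_PInfty X n x) hx0))
    rw [sub_sub_cancel] at b₂
    have b₃ : AbHom.Bd (K.obj X) n (P X n x) := by
      have := AbHom.bd_map (K.map (ev X)) b₂
      rwa [show (K.map (ev X)).f n (red (P X n x)) = P X n x from ev_red _] at this
    have := AbHom.bd_sub b₃ (bd_P hx)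
    rwa [sub_sub_cancel] at this
  · have hy0 : AbHom.Cyc (K.obj Y) n (P Y n y) := AbHom.cyc_map (PInfty (X := Y)) hy
    have hc := cyc_red (AbHom.nrm_PInfty Y n y) hy0
    refine ⟨(K.map (ev X)).f n (ψ.f n (red (P Y n y))), AbHom.cyc_map _ (AbHom.cyc_map ψ hc), ?_⟩
    have b := AbHom.bd_map (K.map (ev Y)) (retrY n (red (P Y n y)) hc)
    rw [map_sub] at b
    have b' : AbHom.Bd (K.obj Y) n ((K.map f).f n ((K.map (ev X)).f n (ψ.f n (red (P Y n y)))) - P Y n y) :=
      Eq.mp (congrArg₂ (fun u v => AbHom.Bd (K.obj Y) n (u - v)) (ev_naturality f _) (ev_red _)) b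
    have := AbHom.bd_add b' (bd_P hy)
    rwa [sub_add_sub_cancel] at this

end Groth.Agent.S6817
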