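import Groth.Statements.S6818
import Groth.Agent.CategoryFibred.SkAbelian

set_option autoImplicit false
open CategoryTheory CategoryTheory.Limits Opposite
universe v u
open CategoryTheory CategoryTheory.Abelian

namespace Groth.Agent.S6818
open Groth.CatFib AlgebraicTopology.DoldKan

/-- For a simplicial object `U` of an abelian category and `n ≥ 0`, the subobjects `U'_m ⊆ U_m`
generated by the images of all `U_i ⟶ U_m` induced by maps `[m] ⟶ [i]` with `i ≤ n` form a
simplicial subobject equal to `U` in dimensions `≤ n` whose normalized part vanishes in dimensions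
`> n`. Here the normalized subobject of `U_m` is the joint kernel of the faces `d_1, …, d_m`; the
published statement uses the faces `d_0, …, d_{m-1}`, the mirror-image convention, and both versions
hold. -/
theorem result {A : Type u} [Category.{v} A] [Abelian A] (U : SimplicialObject A) (n : ℕ) (U' : ∀ m : ℕ, Subobject (U.obj (op (SimplexCategory.mk m)))) (hU' : ∀ m : ℕ, IsLUB (Set.range (fun φ : Σ i : Fin (n + 1), (SimplexCategory.mk m ⟶ SimplexCategory.mk i) => imageSubobject (U.map φ.2.op))) (U' m)) : (∀ (m m' : ℕ) (ψ : SimplexCategory.mk m' ⟶ SimplexCategory.mk m), imageSubobject ((U' m).arrow ≫ U.map ψ.op) ≤ U' m') ∧ (∀ i : ℕ, i ≤ n → U' i = ⊤) ∧ (∀ m : ℕ, n < m → U' m ⊓ AlgebraicTopology.NormalizedMooreComplex.objX U m = ⊥) := by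
  have up : ∀ (m : ℕ) (i : Fin (n + 1)) (φ : SimplexCategory.mk m ⟶ SimplexCategory.mk i), imageSubobject (U.map φ.op) ≤ U' m :=
    fun m i φ => (hU' m).1 ⟨⟨i, φ⟩, rfl⟩
  refine ⟨fun m m' ψ => ?_, fun i hi => ?_, fun m hm => ?_⟩
  · have : U' m ≤ (Subobject.pullback (U.map ψ.op)).obj (U' m') := by
      refine (hU' m).2 ?_
      rintro _ ⟨⟨i, φ⟩, rfl⟩
      refine Mem.le_iff.2 fun T t ht => Mem.pullback_iff.2 ?_
      obtain ⟨T', π, hπ, x, hx⟩ := Mem.img_iff.1 ht
      refine Mem.descend π (Subobject.factors_of_le _ (up m' i (ψ ≫ φ)) (Mem.img_iff.2 ⟨T', 𝟙 T', inferInstance, x, ?_⟩))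
      rw [Category.id_comp, ← Category.assoc, hx, Category.assoc, ← Functor.map_comp, ← op_comp]
    refine Mem.le_iff.2 fun T y hy => ?_
    obtain ⟨T', π, hπ, x, hx, e⟩ := Mem.imgSub_iff.1 hy
    exact Mem.descend π (e ▸ Mem.pullback_iff.1 (Subobject.factors_of_le x this hx))
  · refine top_le_iff.1 (Mem.le_iff.2 fun T t _ => Subobject.factors_of_le t (up i ⟨i, by omega⟩ (𝟙 _)) (Mem.img_iff.2 ⟨T, 𝟙 T, inferInstance, t, ?_⟩))
    simp
  · have : U' m ≤ kernelSubobject ((PInfty (X := U)).f m) := by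
      refine (hU' m).2 ?_
      rintro _ ⟨⟨i, φ⟩, rfl⟩
      refine Mem.le_iff.2 fun T t ht => ?_
      obtain ⟨T', π, hπ, x, hx⟩ := Mem.img_iff.1 ht
      refine Mem.descend π (kernelSubobject_factors _ _ ?_)
      rw [hx, Category.assoc]
      have e := degeneracy_comp_PInfty U m φ (SkAb.not_mono_of_len_lt φ (lt_of_le_of_lt (Nat.le_of_lt_succ i.2) hm))
      exact (congrArg (x ≫ ·) e).trans comp_zero
    refine le_bot_iff.1 (Mem.le_iff.2 fun T t ht => Mem.bot_iff.2 ?_)
    obtain ⟨h₁, h₂⟩ := Mem.inf_iff.1 ht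
    refine SkAb.eq_zero_of_normalized U m h₂ ?_
    exact (kernelSubobject_factors_iff _ _).1 (Subobject.factors_of_le t this h₁)

end Groth.Agent.S6818
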