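import Groth.Statements.S6819
import Groth.Agent.CategoryFibred.SkAbelian

set_option autoImplicit false
open CategoryTheory CategoryTheory.Limits Opposite
universe v u
open CategoryTheory CategoryTheory.Abelian

namespace Groth.Agent.S6819
open Groth.CatFib Opposite Simplicial

/-- For a simplicial object `U` of an abelian category, the counit `i_{n!} sk_n U ⟶ U` of the skeleton
adjunction is a monomorphism in each degree, with image the subobject generated by the images of the
maps `U_i ⟶ U_m` induced by `[m] ⟶ [i]`, `i ≤ n`. -/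
theorem result {A : Type u} [Category.{v} A] [Abelian A] (U : SimplicialObject A) (n : ℕ) (U' : ∀ m : ℕ, Subobject (U.obj (op (SimplexCategory.mk m)))) (hU' : ∀ m : ℕ, IsLUB (Set.range (fun φ : Σ i : Fin (n + 1), (SimplexCategory.mk m ⟶ SimplexCategory.mk i) => imageSubobject (U.map φ.2.op))) (U' m)) [∀ F : (SimplexCategory.Truncated n)ᵒᵖ ⥤ A, (SimplexCategory.Truncated.inclusion n).op.HasLeftKanExtension F] (m : ℕ) : Mono (((SimplicialObject.skAdj n).counit.app U).app (op (SimplexCategory.mk m))) ∧ imageSubobject (((SimplicialObject.skAdj n).counit.app U).app (op (SimplexCategory.mk m))) = U' m := by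
  let F := (SimplicialObject.truncation n).obj U
  let η := (SimplicialObject.skAdj n).unit.app F
  let ε := (SimplicialObject.skAdj n).counit.app U
  have tri : ∀ (i : SimplexCategory) (hi : i.len ≤ n), η.app (op ⟨i, hi⟩) ≫ ε.app (op i) = 𝟙 _ := fun i hi =>
    congr_app ((SimplicialObject.skAdj n).right_triangle_components U) (op ⟨i, hi⟩)
  have gen : ∀ (i : SimplexCategory) (hi : i.len ≤ n) (m : SimplexCategory) (θ : m ⟶ i),
      η.app (op ⟨i, hi⟩) ≫ ((SimplicialObject.Truncated.sk n).obj F).map θ.op ≫ ε.app (op m) = U.map θ.op := fun i hi m θ => by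
    refine (congrArg (η.app (op ⟨i, hi⟩) ≫ ·) (ε.naturality θ.op)).trans ?_
    exact ((Category.assoc _ _ _).symm.trans (congrArg (· ≫ U.map θ.op) (tri i hi))).trans (Category.id_comp _)
  have mono : ∀ (j : ℕ) (T : A) (t : T ⟶ ((SimplicialObject.Truncated.sk n).obj F).obj (op ⦋j⦌)), t ≫ ε.app (op ⦋j⦌) = 0 → t = 0 := by
    intro j
    induction j using Nat.strong_induction_on with
    | _ j ih =>
      intro T t ht
      by_cases hj : j ≤ n
      · have : Epi (η.app (op ⟨⦋j⦌, hj⟩)) := by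
          refine ⟨fun a b hab => SkAb.sk_hom_ext n F fun i hi θ => ?_⟩
          have w := η.naturality (Quiver.Hom.op (InducedCategory.homMk θ : (⟨⦋j⦌, hj⟩ : SimplexCategory.Truncated n) ⟶ ⟨i, hi⟩))
          have w' : η.app (op ⟨i, hi⟩) ≫ ((SimplicialObject.Truncated.sk n).obj F).map θ.op = F.map (Quiver.Hom.op (InducedCategory.homMk θ : (⟨⦋j⦌, hj⟩ : SimplexCategory.Truncated n) ⟶ ⟨i, hi⟩)) ≫ η.app (op ⟨⦋j⦌, hj⟩) := w.symm
          exact (Category.assoc _ _ _).symm.trans ((congrArg (· ≫ a) w').trans ((Category.assoc _ _ _).trans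
            ((congrArg (F.map _ ≫ ·) hab).trans ((Category.assoc _ _ _).symm.trans ((congrArg (· ≫ b) w').symm.trans (Category.assoc _ _ _))))))
        have e : ε.app (op ⦋j⦌) ≫ η.app (op ⟨⦋j⦌, hj⟩) = 𝟙 _ := by
          apply (cancel_epi (η.app (op ⟨⦋j⦌, hj⟩))).1
          exact ((Category.assoc _ _ _).symm.trans ((congrArg (· ≫ _) (tri ⦋j⦌ hj)).trans (Category.id_comp _))).trans (Category.comp_id _).symm
        exact ((Category.comp_id _).symm.trans (congrArg (t ≫ ·) e.symm)).trans ((Category.assoc _ _ _).symm.trans ((congrArg (· ≫ _) ht).trans zero_comp))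
      obtain _ | j := j
      · omega
      refine Mem.bot_iff.1 (Subobject.factors_of_le t (SkAb.sk_objX_eq_bot n F (j + 1) (by omega)).le ?_)
      refine SkAb.mem_objX_succ _ j t fun k => ih j (by omega) T _ ?_
      have w : ((SimplicialObject.Truncated.sk n).obj F).δ k.succ ≫ ε.app (op ⦋j⦌) = ε.app (op ⦋j + 1⦌) ≫ U.δ k.succ := ε.naturality _
      rw [Category.assoc]
      refine (congrArg (t ≫ ·) w).trans ((Category.assoc _ _ _).symm.trans ((congrArg (· ≫ U.δ k.succ) ht).trans zero_comp))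
  refine ⟨Preadditive.mono_of_cancel_zero _ fun t ht => mono m _ t ht, le_antisymm ?_ ((hU' m).2 ?_)⟩
  · refine Mem.le_iff.2 fun T y hy => ?_
    obtain ⟨T', π, hπ, x, hx⟩ := Mem.img_iff.1 hy
    have z : ε.app (op ⦋m⦌) ≫ cokernel.π (U' m).arrow = 0 := by
      refine SkAb.sk_hom_ext n F fun i hi θ => ?_
      have hmem : (U' m).Factors (U.map θ.op) := by
        induction i using SimplexCategory.rec with
        | _ i =>
          exact Subobject.factors_of_le _ ((hU' m).1 ⟨⟨⟨i, by simp at hi; omega⟩, θ⟩, rfl⟩)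
            (Mem.img_iff.2 ⟨_, 𝟙 _, inferInstance, 𝟙 _, rfl⟩)
      obtain ⟨v, hv⟩ := Mem.arrow_comp hmem
      refine Eq.trans ?_ ((congrArg (_ ≫ ·) comp_zero).trans comp_zero).symm
      calc _ = (η.app (op ⟨i, hi⟩) ≫ ((SimplicialObject.Truncated.sk n).obj F).map θ.op ≫ ε.app (op ⦋m⦌)) ≫ cokernel.π (U' m).arrow := by
              simp only [Category.assoc]; rfl
        _ = U.map θ.op ≫ cokernel.π (U' m).arrow := congrArg (· ≫ cokernel.π (U' m).arrow) (gen i hi ⦋m⦌ θ)
        _ = 0 := by rw [← hv, Category.assoc, cokernel.condition, comp_zero]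
    refine Mem.descend π ?_
    have h0 : (π ≫ y) ≫ cokernel.π (U' m).arrow = 0 := by
      rw [hx, Category.assoc]
      exact (congrArg (x ≫ ·) z).trans comp_zero
    rw [← Abelian.monoLift_comp (U' m).arrow (π ≫ y) h0]
    exact Mem.of_arrow _ _
  · rintro _ ⟨⟨i, φ⟩, rfl⟩
    refine Mem.le_iff.2 fun T y hy => ?_
    obtain ⟨T', π, hπ, x, hx⟩ := Mem.img_iff.1 hy
    refine Mem.descend π ?_
    rw [hx, ← gen ⦋i⦌ (Nat.le_of_lt_succ i.2) ⦋m⦌ φ]
    exact Mem.img_iff.2 ⟨T', 𝟙 T', inferInstance, x ≫ η.app (op ⟨⦋i⦌, Nat.le_of_lt_succ i.2⟩) ≫ ((SimplicialObject.Truncated.sk n).obj F).map φ.op, by simp only [Category.id_comp, Category.assoc]; rfl⟩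

end Groth.Agent.S6819
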