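import Groth.Statements.S6823
import Groth.Agent.NeronArea.ResolvableRegular


set_option autoImplicit false
universe u
open Smoothing

namespace Groth.Agent.S6823

/-- Let k be a field, A a finitely presented k-algebra, φ : A → Λ a k-algebra map with Λ Noetherian, and
𝔮 ⊆ Λ a prime minimal over the radical of H_{A/k}Λ (H the singular ideal) such that Λ_𝔮 is a regular
local ring and the residue field κ(𝔮) is separable over k, i.e. geometrically reduced over k. Then k
→ A → Λ ⊇ 𝔮 can be resolved: φ factors through a finitely presented k-algebra B whose extended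
singular radical contains that of A and is not contained in 𝔮. -/
theorem result {k A Λ : Type u} [Field k] [CommRing A]
    [Algebra k A] [Algebra.FinitePresentation k A] [CommRing Λ] [Algebra k Λ] [IsNoetherianRing Λ]
    (φ : A →ₐ[k] Λ) (𝔮 : Ideal Λ) [𝔮.IsPrime] (hmin : 𝔮 ∈ (Smoothing.singRad k φ).minimalPrimes)
    [IsRegularLocalRing (Localization.AtPrime 𝔮)]
    [Algebra.IsGeometricallyReduced k 𝔮.ResidueField] : Smoothing.Resolvable k φ 𝔮 := by
  exact Groth.NeronArea.ResolveRegular.main φ 𝔮 hmin

end Groth.Agent.S6823
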