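import Groth.Statements.S6825
import Groth.Agent.Calg1.Popescu.Approximation
import Groth.Agent.PropsBasic.RegularCompletion

set_option autoImplicit false
universe u
open Smoothing

namespace Groth.Agent.S6825

/-- Let R be a Noetherian local ring with maximal ideal m which is a G-ring, R^ its m-adic completion,
and F₁, …, F_m polynomials in n variables over R having a solution a = (a₁, …, a_n) in R^. Then for
every N there are an étale R-algebra R', an R-algebra map ψ : R' → R^, a maximal ideal m' of R'
lying over m with κ(m) = κ(m') and ψ(m') ⊆ mR^, and a solution b = (b₁, …, b_n) of the system in R'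
with a_i − ψ(b_i) ∈ m^N R^ for all i. (The source compares a and b inside R^ through the
identification of R^ with the completion of R' at m'; here that comparison map is the R-algebra map
ψ.) -/
theorem result {R : Type u} [CommRing R] [IsLocalRing R] (hG : CAlg.IsGRing R)
    {n m : ℕ} (F : Fin m → MvPolynomial (Fin n) R)
    (a : Fin n → AdicCompletion (IsLocalRing.maximalIdeal R) R) (ha : ∀ j, MvPolynomial.aeval a (F j) = 0)
    (N : ℕ) :
    ∃ (R' : Type u) (_ : CommRing R') (_ : Algebra R R'), Algebra.Etale R R' ∧
      ∃ (ψ : R' →ₐ[R] AdicCompletion (IsLocalRing.maximalIdeal R) R) (m' : Ideal R'), m'.IsMaximal ∧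
        m'.comap (algebraMap R R') = IsLocalRing.maximalIdeal R ∧
        (∀ x : R', ∃ r : R, x - algebraMap R R' r ∈ m') ∧
        (∀ x ∈ m', ψ x ∈ (IsLocalRing.maximalIdeal R).map
          (algebraMap R (AdicCompletion (IsLocalRing.maximalIdeal R) R))) ∧
        ∃ b : Fin n → R', (∀ j, MvPolynomial.aeval b (F j) = 0) ∧
          ∀ i, a i - ψ (b i) ∈ (IsLocalRing.maximalIdeal R ^ N).map
            (algebraMap R (AdicCompletion (IsLocalRing.maximalIdeal R) R)) := by
  have : IsNoetherianRing R := hG.1
  have hreg : CAlg.IsRegularHom R (AdicCompletion (IsLocalRing.maximalIdeal R) R) :=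
    Groth.PropsBasic.RegularCompletion.isRegularHom_adicCompletion _ fun m _ => hG.2 m
  have : IsLocalization (IsUnit.submonoid R) R := IsLocalization.self le_rfl
  obtain ⟨E, _, _, hE, ψ, ν, hν, b, hb, hab⟩ :=
    Groth.Calg1.Popescu.exists_etale_solution (IsUnit.submonoid R) hreg F a ha N
  have hsurj : Function.Surjective ν.toRingHom := fun x => by
    obtain ⟨r, rfl⟩ := IsLocalRing.residue_surjective x
    exact ⟨algebraMap R E r, ν.commutes r⟩
  refine ⟨E, inferInstance, inferInstance, hE, ψ, RingHom.ker ν.toRingHom,
    RingHom.ker_isMaximal_of_surjective _ hsurj, ?_, fun x => ?_, fun x hx => hν x hx, b, hb, hab⟩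
  · ext r
    rw [Ideal.mem_comap, RingHom.mem_ker]
    exact ⟨fun h => (IsLocalRing.residue_eq_zero_iff r).1 ((ν.commutes r).symm.trans h),
      fun h => (ν.commutes r).trans ((IsLocalRing.residue_eq_zero_iff r).2 h)⟩
  · obtain ⟨r, hr⟩ := IsLocalRing.residue_surjective (ν x)
    refine ⟨r, (RingHom.mem_ker).2 ?_⟩
    rw [map_sub]
    exact sub_eq_zero.2 (hr.symm.trans (ν.commutes r).symm)

end Groth.Agent.S6825
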