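import Groth.Statements.S6829
import Groth.Agent.NeronArea.StandardBaseChange


set_option autoImplicit false
universe u
open Smoothing

namespace Groth.Agent.S6829

open TensorProduct in
/-- Let A be a finitely presented R-algebra, R → R' a ring map and a ∈ A. If a is elementary standard,
resp. strictly standard, in A over R, then a ⊗ 1 is elementary standard, resp. strictly standard, in
A ⊗_R R' over R' (written here as 1 ⊗ a in R' ⊗_R A). -/
theorem result {R A R' : Type u} [CommRing R] [CommRing A] [Algebra R A]
    [Algebra.FinitePresentation R A] [CommRing R'] [Algebra R R'] (a : A) :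
    (Smoothing.IsElementaryStandard R A a →
        Smoothing.IsElementaryStandard R' (R' ⊗[R] A) ((1 : R') ⊗ₜ[R] a)) ∧
      (Smoothing.IsStrictlyStandard R A a →
        Smoothing.IsStrictlyStandard R' (R' ⊗[R] A) ((1 : R') ⊗ₜ[R] a)) := by
  exact ⟨Groth.NeronArea.StandardBC.elementary_bc R', Groth.NeronArea.StandardBC.strictly_bc R'⟩

end Groth.Agent.S6829
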