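import Groth.Statements.S6830
import Groth.Agent.NeronArea.UnramifiedDVR


set_option autoImplicit false
universe u
open Smoothing

namespace Groth.Agent.S6830

/-- Let R ⊆ Λ be an extension of discrete valuation rings (an injective local homomorphism) of
ramification index 1, i.e. m_R Λ = m_Λ, inducing separable (geometrically reduced) extensions of
residue fields and of fraction fields K ⊆ L. Then Λ is a filtered colimit of smooth R-algebras, in
the factorization form: every R-algebra map A → Λ with A finitely presented over R factors through a
smooth R-algebra. -/
theorem result {R Λ K L : Type u} [CommRing R] [IsDomain R]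
    [IsDiscreteValuationRing R] [CommRing Λ] [IsDomain Λ] [IsDiscreteValuationRing Λ] [Algebra R Λ]
    [NoZeroSMulDivisors R Λ] [IsLocalHom (algebraMap R Λ)]
    (he : (IsLocalRing.maximalIdeal R).map (algebraMap R Λ) = IsLocalRing.maximalIdeal Λ)
    [Algebra.IsGeometricallyReduced (IsLocalRing.ResidueField R) (IsLocalRing.ResidueField Λ)]
    [Field K] [Algebra R K] [IsFractionRing R K] [Field L] [Algebra Λ L] [IsFractionRing Λ L]
    [Algebra K L] [Algebra R L] [IsScalarTower R K L] [IsScalarTower R Λ L]
    [Algebra.IsGeometricallyReduced K L] :
    Smoothing.IndSmooth R Λ := by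
  exact Groth.NeronArea.UnramifiedDVR.main (K := K) (L := L) he

end Groth.Agent.S6830
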