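import Groth.Statements.S6843
import Groth.Agent.Calg1.Popescu.Approximation
import Groth.Agent.PropsBasic.RegularCompletion

set_option autoImplicit false
universe u
open Smoothing

namespace Groth.Agent.S6843

/-- Let R be a Noetherian ring, p ⊆ R a prime with R_p a G-ring, (R_p)^ the completion of R_p, and F₁,
…, F_m polynomials in n variables over R with a solution a in (R_p)^. Then for every N there are an
étale R-algebra R', a ring map ψ : R' → (R_p)^ compatible with the maps from R, a prime p' ⊆ R'
lying over p with κ(p) = κ(p') (every element of R'/p' is a fraction of elements of R/p) and ψ(p') ⊆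
p(R_p)^, and a solution b of the system in R' with a_i − ψ(b_i) ∈ p^N (R_p)^. (The source compares a
and b through the identification of (R_p)^ with the completion of R'_{p'}; here the comparison map
is ψ.) -/
theorem result {R : Type u} [CommRing R] [IsNoetherianRing R]
    (p : Ideal R) [p.IsPrime] (hG : CAlg.IsGRing (Localization.AtPrime p)) {n m : ℕ}
    (F : Fin m → MvPolynomial (Fin n) R)
    (a : Fin n → AdicCompletion (IsLocalRing.maximalIdeal (Localization.AtPrime p)) (Localization.AtPrime p))
    (ha : ∀ j, MvPolynomial.aeval a (MvPolynomial.map (algebraMap R (Localization.AtPrime p)) (F j)) = 0) (N : ℕ) :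
    ∃ (R' : Type u) (_ : CommRing R') (_ : Algebra R R'), Algebra.Etale R R' ∧
      ∃ (ψ : R' →+* AdicCompletion (IsLocalRing.maximalIdeal (Localization.AtPrime p)) (Localization.AtPrime p))
        (p' : Ideal R'), p'.IsPrime ∧
        (∀ r : R, ψ (algebraMap R R' r) =
          algebraMap (Localization.AtPrime p) _ (algebraMap R (Localization.AtPrime p) r)) ∧
        p'.comap (algebraMap R R') = p ∧
        (∀ x : R', ∃ r s : R, s ∉ p ∧ algebraMap R R' s * x - algebraMap R R' r ∈ p') ∧
        (∀ x ∈ p', ψ x ∈ (IsLocalRing.maximalIdeal (Localization.AtPrime p)).map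
          (algebraMap (Localization.AtPrime p)
            (AdicCompletion (IsLocalRing.maximalIdeal (Localization.AtPrime p)) (Localization.AtPrime p)))) ∧
        ∃ b : Fin n → R', (∀ j, MvPolynomial.aeval b (F j) = 0) ∧
          ∀ i, a i - ψ (b i) ∈ (IsLocalRing.maximalIdeal (Localization.AtPrime p) ^ N).map
            (algebraMap (Localization.AtPrime p)
              (AdicCompletion (IsLocalRing.maximalIdeal (Localization.AtPrime p)) (Localization.AtPrime p))) := by
  let L := Localization.AtPrime p
  let C := AdicCompletion (IsLocalRing.maximalIdeal L) L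
  have : IsNoetherianRing L := IsLocalization.isNoetherianRing p.primeCompl L ‹_›
  have : IsNoetherianRing C := Groth.Agent.S0543.result L (IsLocalRing.maximalIdeal L)
  have hLC : CAlg.IsRegularHom L C :=
    Groth.PropsBasic.RegularCompletion.isRegularHom_adicCompletion _ fun m _ => hG.2 m
  have hRL : CAlg.IsRegularHom R L := by
    refine Groth.Calg4.isRegularHom_of_isRegularRing_tensor (IsLocalization.flat _ p.primeCompl) fun K _ _ _ => ?_
    exact Groth.Calg4.isRegularRing_of_isLocalization _ (Algebra.algebraMapSubmonoid K p.primeCompl)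
  have hreg : CAlg.IsRegularHom R C := Groth.Calg4.IsRegularHom.trans hRL hLC fun q _ => by
    have : IsNoetherianRing (TensorProduct R C q.ResidueField) := Algebra.EssFiniteType.isNoetherianRing C _
    exact isNoetherianRing_of_ringEquiv _ (Algebra.TensorProduct.comm R C q.ResidueField).toRingEquiv
  have ha' : ∀ j, MvPolynomial.aeval a (F j) = 0 := fun j =>
    (MvPolynomial.aeval_map_algebraMap L a (F j)).symm.trans (ha j)
  obtain ⟨E, _, _, hE, ψ, ν, hν, b, hb, hab⟩ :=
    Groth.Calg1.Popescu.exists_etale_solution p.primeCompl hreg F a ha' N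
  refine ⟨E, inferInstance, inferInstance, hE, ψ.toRingHom, RingHom.ker ν.toRingHom, RingHom.ker_isPrime _,
    fun r => (ψ.commutes r).trans (IsScalarTower.algebraMap_apply R L C r), ?_, fun x => ?_,
    fun x hx => hν x hx, b, hb, hab⟩
  · ext r
    rw [Ideal.mem_comap, RingHom.mem_ker]
    show ν (algebraMap R E r) = 0 ↔ r ∈ p
    rw [ν.commutes, IsScalarTower.algebraMap_apply R L (IsLocalRing.ResidueField L),
      IsLocalRing.ResidueField.algebraMap_eq, IsLocalRing.residue_eq_zero_iff]
    exact IsLocalization.AtPrime.to_map_mem_maximal_iff L p r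
  · obtain ⟨l, hl⟩ := IsLocalRing.residue_surjective (ν x)
    obtain ⟨⟨r, s⟩, hrs⟩ := IsLocalization.surj p.primeCompl l
    refine ⟨r, s, s.2, (RingHom.mem_ker).2 ?_⟩
    show ν (algebraMap R E s * x - algebraMap R E r) = 0
    rw [map_sub, map_mul, ν.commutes, ν.commutes, sub_eq_zero, ← hl,
      IsScalarTower.algebraMap_apply R L (IsLocalRing.ResidueField L) (s : R),
      IsScalarTower.algebraMap_apply R L (IsLocalRing.ResidueField L) r,
      IsLocalRing.ResidueField.algebraMap_eq, ← map_mul, ← hrs, mul_comm]

end Groth.Agent.S6843
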