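import Groth.Statements.S6847
import Groth.Agent.SitesTopoi.Mod.SpaceClosedMod

set_option autoImplicit false
universe u
open CategoryTheory CategoryTheory.Limits TopologicalSpace
open ModSite

namespace Groth.Agent.S6847

/-- Let i : (Z, O_Z) → (X, O_X) be a morphism of ringed spaces with i a homeomorphism onto a closed
subset of X and i♯ : O_X → i_*O_Z surjective, with kernel the ideal sheaf I. Then i_* : Mod(O_Z) →
Mod(O_X) is exact (right exactness is the content, i_* being a right adjoint), full and faithful,
and an O_X-module G lies in its essential image if and only if I·G = 0, i.e. every section of O_X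
over an open U killed by i♯ annihilates G(U). -/
theorem result {Z X : TopCat.{u}} (i : Z ⟶ X)
    (O_Z : TopCat.Sheaf CommRingCat.{u} Z) (O_X : TopCat.Sheaf CommRingCat.{u} X)
    (c : O_X ⟶ ((TopologicalSpace.Opens.map i).sheafPushforwardContinuous CommRingCat.{u}
      (Opens.grothendieckTopology X) (Opens.grothendieckTopology Z)).obj O_Z)
    (hi : Topology.IsClosedEmbedding i) (hc : Sheaf.IsLocallySurjective c) :
    PreservesFiniteColimits (ModSite.RMor.ofFlat (TopologicalSpace.Opens.map i) c).push ∧
      (ModSite.RMor.ofFlat (TopologicalSpace.Opens.map i) c).push.Full ∧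
      (ModSite.RMor.ofFlat (TopologicalSpace.Opens.map i) c).push.Faithful ∧
      ∀ G : ModSite.Mod O_X,
        (ModSite.RMor.ofFlat (TopologicalSpace.Opens.map i) c).push.essImage G ↔
          ∀ (U : Opens X) (a : (ModSite.ringSh O_X).obj.obj (Opposite.op U)),
            ((ModSite.RMor.ofFlat (TopologicalSpace.Opens.map i) c).sharpR.hom.app (Opposite.op U)).hom a = 0 →
              ∀ s : ModSite.sect G U, a • s = 0 := by
  exact ⟨Groth.SitesTopoi.SpaceClosedMod.preservesFiniteColimits_push i c hi,
    Groth.SitesTopoi.SpaceClosedMod.full_push i c hi hc,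
    Groth.SitesTopoi.SpaceClosedMod.faithful_push i c hi,
    fun G => Groth.SitesTopoi.SpaceClosedMod.essImage_iff i c G hi hc⟩

end Groth.Agent.S6847
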