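import Groth.Statements.S6850
import Groth.Agent.SitesTopoi.Mod.GenSysPermanence

set_option autoImplicit false
universe u
open CategoryTheory CategoryTheory.Limits TopologicalSpace
open ModSite

namespace Groth.Agent.S6850

/-- On a ringed space (X, O), for O-modules F and G: if both are locally generated by sections then so
is F ⊗_O G; if both are of finite type then so is F ⊗_O G; if both are quasi-coherent then so is F
⊗_O G; if both are of finite presentation then so is F ⊗_O G; if both are locally free then so is F
⊗_O G. (Parts (5), (6) on coherent modules are not restated.) -/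
theorem result {X : TopCat.{u}} (O : TopCat.Sheaf CommRingCat.{u} X) (F G : ModSite.Mod O) :
    (Nonempty (SheafOfModules.LocalGeneratorsData.{u} (R := ModSite.ringSh O) F) →
        Nonempty (SheafOfModules.LocalGeneratorsData.{u} (R := ModSite.ringSh O) G) →
          Nonempty (SheafOfModules.LocalGeneratorsData.{u} (R := ModSite.ringSh O) (((ModSite.tensorBi O).obj F).obj G))) ∧
      (SheafOfModules.IsFiniteType (R := ModSite.ringSh O) F → SheafOfModules.IsFiniteType (R := ModSite.ringSh O) G →
        SheafOfModules.IsFiniteType (R := ModSite.ringSh O) (((ModSite.tensorBi O).obj F).obj G)) ∧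
      (SheafOfModules.IsQuasicoherent (R := ModSite.ringSh O) F →
        SheafOfModules.IsQuasicoherent (R := ModSite.ringSh O) G →
          SheafOfModules.IsQuasicoherent (R := ModSite.ringSh O) (((ModSite.tensorBi O).obj F).obj G)) ∧
      (SheafOfModules.IsFinitePresentation (R := ModSite.ringSh O) F →
        SheafOfModules.IsFinitePresentation (R := ModSite.ringSh O) G →
          SheafOfModules.IsFinitePresentation (R := ModSite.ringSh O) (((ModSite.tensorBi O).obj F).obj G)) ∧
      (SheafOfModules.IsLocallyFree (R := ModSite.ringSh O) F → SheafOfModules.IsLocallyFree (R := ModSite.ringSh O) G →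
        SheafOfModules.IsLocallyFree (R := ModSite.ringSh O) (((ModSite.tensorBi O).obj F).obj G)) := by
  refine ⟨fun h h' => ?_, fun h h' => ?_, fun h h' => ?_, fun h h' => ?_, fun h h' => ?_⟩
  · obtain ⟨σ⟩ := h
    obtain ⟨σ'⟩ := h'
    obtain ⟨τ, -⟩ := Groth.SitesTopoi.GenSysPermanence.nonempty_localGeneratorsData σ σ'
    exact ⟨τ⟩
  · exact Groth.SitesTopoi.GenSysPermanence.isFiniteType (M := F) (N := G) h h'
  · exact Groth.SitesTopoi.GenSysPermanence.isQuasicoherent (M := F) (N := G) h h'
  · exact Groth.SitesTopoi.GenSysPermanence.isFinitePresentation (M := F) (N := G) h h'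
  · exact Groth.SitesTopoi.GenSysPermanence.isLocallyFree (M := F) (N := G) h h'

end Groth.Agent.S6850
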