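import Groth.Statements.S6854
import Groth.Agent.Calg1.Popescu.LocalLemmas
import Groth.Agent.Ega41Sep.Separable
import Mathlib.RingTheory.Kaehler.JacobiZariski
import Mathlib.RingTheory.EssentialFiniteness

set_option autoImplicit false
universe u
open Smoothing

namespace Groth.Agent.S6854

open IsLocalRing

/-- A subring contains the image of the prime field. -/
theorem zmodU_mem {p : ℕ} [Fact p.Prime] {R : Type u} [CommRing R] [Algebra (Groth.Ega41Sep.ZModU.{u} p) R]
    (S : Subring R) (r : Groth.Ega41Sep.ZModU.{u} p) : algebraMap _ R r ∈ S := by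
  have h : r = ((r.down.val : ℕ) : Groth.Ega41Sep.ZModU.{u} p) := ULift.ext _ _ (by
    rw [ULift.down_natCast, ZMod.natCast_zmod_val])
  rw [h, map_natCast]
  exact natCast_mem S _

theorem zmodU_hom_ext {p : ℕ} [Fact p.Prime] {R : Type u} [CommRing R]
    (f g : Groth.Ega41Sep.ZModU.{u} p →+* R) : f = g := by
  refine RingHom.ext fun r => ?_
  have h : r = ((r.down.val : ℕ) : Groth.Ega41Sep.ZModU.{u} p) := ULift.ext _ _ (by
    rw [ULift.down_natCast, ZMod.natCast_zmod_val])
  rw [h, map_natCast, map_natCast]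

/-- Descent of an algebra with a coefficient field to a subalgebra essentially of finite type over `k`,
when `k` maps into the coefficient field up to finitely many generators. -/
theorem descend {k K Λ : Type u} [Field k] [Field K] [CommRing Λ] [IsLocalRing Λ] [Algebra k K] [Algebra k Λ]
    [Algebra K Λ] [Module.Finite K Λ] [IsArtinianRing Λ] (B₀ : Finset k)
    (hk : ∀ S : Subring k, (∀ c : k, algebraMap K Λ (algebraMap k K c) = algebraMap k Λ c → c ∈ S) →
      (↑B₀ : Set k) ⊆ S → S = ⊤) (E : Finset Λ) :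
    ∃ (A : Subalgebra k Λ) (_ : IsLocalRing A), (↑E : Set Λ) ⊆ A ∧ IsArtinianRing A ∧ Module.Flat A Λ ∧
      Algebra.EssFiniteType k A ∧
      (maximalIdeal A).map (algebraMap A Λ) = maximalIdeal Λ := by
  classical
  let n := Module.finrank K Λ
  let e : Module.Basis (Fin n) K Λ := Module.finBasis K Λ
  obtain ⟨gm, hgm⟩ : (maximalIdeal Λ).FG := IsNoetherian.noetherian _
  let s : K →+* Λ := algebraMap K Λ
  -- the field of definition of all the data
  let W : Finset Λ := (Finset.univ.image fun q : Fin n × Fin n => e q.1 * e q.2) ∪ {1} ∪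
    (B₀.image (algebraMap k Λ)) ∪ E ∪ gm
  let C : Finset K := W.biUnion fun w => Finset.univ.image fun i => e.repr w i
  let K₀ : IntermediateField k K := IntermediateField.adjoin k (C : Set K)
  have hW : ∀ w ∈ W, ∀ i, e.repr w i ∈ K₀ := fun w hw i => IntermediateField.subset_adjoin k _
    (Finset.mem_coe.2 (Finset.mem_biUnion.2 ⟨w, hw, Finset.mem_image.2 ⟨i, Finset.mem_univ _, rfl⟩⟩))
  let S : Set Λ := {x | ∀ i, e.repr x i ∈ K₀}
  have hadd : ∀ {x y}, x ∈ S → y ∈ S → x + y ∈ S := fun {x y} hx hy i => by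
    rw [map_add, Finsupp.add_apply]; exact add_mem (hx i) (hy i)
  have hsmul : ∀ {c : K} {x}, c ∈ K₀ → x ∈ S → c • x ∈ S := fun {c x} hc hx i => by
    rw [map_smul, Finsupp.smul_apply, smul_eq_mul]; exact mul_mem hc (hx i)
  have hzero : (0 : Λ) ∈ S := fun i => by rw [map_zero]; exact zero_mem K₀
  have hsum : ∀ {ι : Type} (t : Finset ι) (f : ι → Λ), (∀ j ∈ t, f j ∈ S) → ∑ j ∈ t, f j ∈ S := by
    intro ι t f hf
    induction t using Finset.induction_on with
    | empty => exact hzero
    | insert a t ha ih =>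
      rw [Finset.sum_insert ha]
      exact hadd (hf a (Finset.mem_insert_self _ _)) (ih fun j hj => hf j (Finset.mem_insert_of_mem hj))
  have hWS : ∀ w ∈ W, w ∈ S := hW
  have hee : ∀ i j, e i * e j ∈ S := fun i j => hWS _ (by
    simp only [W, Finset.mem_union, Finset.mem_image, Finset.mem_univ, true_and]
    exact Or.inl (Or.inl (Or.inl (Or.inl ⟨(i, j), rfl⟩))))
  have hone : (1 : Λ) ∈ S := hWS _ (by simp [W])
  have hes : ∀ i, e i ∈ S := fun i j => by
    rw [e.repr_self, Finsupp.single_apply]
    split_ifs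
    exacts [one_mem K₀, zero_mem K₀]
  have hmul : ∀ {x y}, x ∈ S → y ∈ S → x * y ∈ S := fun {x y} hx hy => by
    rw [← e.sum_repr x, Finset.sum_mul]
    refine hsum _ _ fun i _ => ?_
    rw [← e.sum_repr y, Finset.mul_sum]
    refine hsum _ _ fun j _ => ?_
    rw [smul_mul_smul_comm]
    exact hsmul (mul_mem (hx i) (hy j)) (hee i j)
  let R : Subring Λ :=
    { carrier := S
      mul_mem' := hmul
      one_mem' := hone
      add_mem' := hadd
      zero_mem' := hzero
      neg_mem' := fun {x} hx i => by rw [map_neg, Finsupp.neg_apply]; exact neg_mem (hx i) }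
  have hsK : ∀ c ∈ K₀, s c ∈ R := fun c hc => by
    show algebraMap K Λ c ∈ S
    rw [Algebra.algebraMap_eq_smul_one]
    exact hsmul hc hone
  have hkR : ∀ c : k, algebraMap k Λ c ∈ R := by
    have h := hk (R.comap (algebraMap k Λ)) (fun c hc => by
        rw [Subring.mem_comap, ← hc]
        exact hsK _ (K₀.algebraMap_mem c))
      (fun c hc => hWS _ (by
        simp only [W, Finset.mem_union, Finset.mem_image]
        exact Or.inl (Or.inl (Or.inr ⟨c, Finset.mem_coe.1 hc, rfl⟩))))
    exact fun c => (h ▸ Subring.mem_top c : c ∈ R.comap (algebraMap k Λ))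
  let A : Subalgebra k Λ := { R.toSubsemiring with algebraMap_mem' := hkR }
  -- `Λ` is free over `A`
  let β := Module.Basis.ofVectorSpace K₀ K
  have hli : LinearIndependent A fun j => s (β j) := by
    rw [linearIndependent_iff']
    intro t g hg j hj
    refine Subtype.ext (e.repr.injective (Finsupp.ext fun i => ?_))
    have h1 : ∀ l, g l • s (β l) = (β l) • (g l : Λ) := fun l => by
      rw [Algebra.smul_def (β l), mul_comm]; rfl
    have h2 : ∑ l ∈ t, (⟨e.repr (g l : Λ) i, (g l).2 i⟩ : K₀) • β l = 0 := by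
      have := congrArg (fun x : Λ => e.repr x i) hg
      simp only [h1, map_sum, map_smul, map_zero, Finsupp.coe_finset_sum, Finset.sum_apply,
        Finsupp.smul_apply, smul_eq_mul, Finsupp.zero_apply] at this
      rw [← this]
      exact Finset.sum_congr rfl fun l _ => mul_comm _ _
    have h3 := congrArg Subtype.val (linearIndependent_iff'.1 β.linearIndependent t _ h2 j hj)
    simpa using h3
  have hsp : ⊤ ≤ Submodule.span A (Set.range fun j => s (β j)) := by
    intro x _
    rw [← e.sum_repr x]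
    refine Submodule.sum_mem _ fun i _ => ?_
    have h1 := β.mem_span (e.repr x i)
    generalize e.repr x i = μ at h1 ⊢
    induction h1 using Submodule.span_induction with
    | mem z hz =>
      obtain ⟨j, rfl⟩ := hz
      rw [Algebra.smul_def, mul_comm]
      exact Submodule.smul_mem _ (⟨e i, hes i⟩ : A) (Submodule.subset_span ⟨j, rfl⟩)
    | zero => rw [zero_smul]; exact zero_mem _
    | add a b _ _ ha hb => rw [add_smul]; exact add_mem ha hb
    | smul c z _ hz =>
      rw [show c • z = (c : K) * z from rfl, ← smul_smul, Algebra.smul_def]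
      exact Submodule.smul_mem _ (⟨s c, hsK c c.2⟩ : A) hz
  let bA := Module.Basis.mk hli hsp
  have : Module.Free A Λ := Module.Free.of_basis bA
  have : Module.FaithfullyFlat A Λ := inferInstance
  have hcm : ∀ I : Ideal A, (I.map (algebraMap A Λ)).comap (algebraMap A Λ) = I := fun I =>
    Ideal.comap_map_eq_self_of_faithfullyFlat I
  have hArt : IsArtinianRing A := by
    refine StrictMono.wellFoundedLT (f := fun I : Ideal A => I.map (algebraMap A Λ))
      (Monotone.strictMono_of_injective (fun I J h => Ideal.map_mono h) fun I J h => ?_)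
    rw [← hcm I, ← hcm J]
    exact congrArg _ h
  have hunit : ∀ x : A, IsUnit (x : Λ) → IsUnit x := fun x hx => by
    rw [← Ideal.span_singleton_eq_top, ← hcm (Ideal.span {x}), Ideal.map_span, Set.image_singleton,
      Ideal.span_singleton_eq_top.2 (show IsUnit (algebraMap A Λ x) from hx), Ideal.comap_top]
  have hnu : ∀ x : A, x ∈ nonunits A ↔ (x : Λ) ∈ maximalIdeal Λ := fun x => by
    rw [mem_maximalIdeal]
    exact ⟨fun h hu => h (hunit x hu), fun h hu => h (hu.map (algebraMap A Λ))⟩
  have hloc : IsLocalRing A := by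
    have : Nontrivial A := inferInstance
    exact IsLocalRing.of_nonunits_add fun a b ha hb => (hnu _).2 (add_mem ((hnu a).1 ha) ((hnu b).1 hb))
  -- essentially of finite type
  let G0 : Finset Λ := (Finset.univ.image e) ∪ C.image s ∪
    B₀.image (algebraMap k Λ) ∪ B₀.image (fun c => s (algebraMap k K c))
  have hG0 : ∀ x ∈ G0, x ∈ A := fun x hx => by
    simp only [G0, Finset.mem_union, Finset.mem_image, Finset.mem_univ, true_and] at hx
    rcases hx with ((⟨i, rfl⟩ | ⟨c, hc, rfl⟩) | ⟨c, -, rfl⟩) | ⟨c, -, rfl⟩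
    exacts [hes i, hsK c (IntermediateField.subset_adjoin k _ hc), hkR c, hsK _ (K₀.algebraMap_mem c)]
  let G : Finset A := G0.attach.image fun x => ⟨x.1, hG0 x.1 x.2⟩
  let T := (Algebra.adjoin k (G : Set A)).map A.val
  have hG0T : ∀ x ∈ G0, x ∈ T := fun x hx => ⟨⟨x, hG0 x hx⟩, Algebra.subset_adjoin
    (Finset.mem_coe.2 (Finset.mem_image.2 ⟨⟨x, hx⟩, Finset.mem_attach _ _, rfl⟩)), rfl⟩
  have hskT : ∀ c : k, s (algebraMap k K c) ∈ T := by
    have h := hk (T.toSubring.comap (s.comp (algebraMap k K))) (fun c hc => by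
        show s (algebraMap k K c) ∈ T
        rw [show s (algebraMap k K c) = _ from hc]
        exact T.algebraMap_mem c)
      (fun c hc => hG0T _ (by
        simp only [G0, Finset.mem_union, Finset.mem_image]
        exact Or.inr ⟨c, Finset.mem_coe.1 hc, rfl⟩))
    exact fun c => (h ▸ Subring.mem_top c : c ∈ T.toSubring.comap (s.comp (algebraMap k K)))
  have hfr : ∀ c ∈ K₀, ∃ t ∈ T, IsUnit t ∧ s c * t ∈ T := by
    intro c hc
    induction hc using IntermediateField.adjoin_induction with
    | mem z hz => exact ⟨1, one_mem T, isUnit_one, by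
        rw [mul_one]
        exact hG0T _ (by
          simp only [G0, Finset.mem_union, Finset.mem_image]
          exact Or.inl (Or.inl (Or.inr ⟨z, hz, rfl⟩)))⟩
    | algebraMap z => exact ⟨1, one_mem T, isUnit_one, by rw [mul_one]; exact hskT z⟩
    | add a b _ _ ha hb =>
      obtain ⟨t, ht, hu, h⟩ := ha
      obtain ⟨t', ht', hu', h'⟩ := hb
      refine ⟨t * t', mul_mem ht ht', hu.mul hu', ?_⟩
      rw [map_add, show (s a + s b) * (t * t') = s a * t * t' + s b * t' * t by ring]
      exact add_mem (mul_mem h ht') (mul_mem h' ht)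
    | inv a _ ha =>
      by_cases h0 : a = 0
      · exact ⟨1, one_mem T, isUnit_one, by rw [h0, inv_zero, map_zero, zero_mul]; exact zero_mem T⟩
      obtain ⟨t, ht, hu, h⟩ := ha
      refine ⟨s a * t, h, ((IsUnit.mk0 a h0).map s).mul hu, ?_⟩
      rw [← mul_assoc, ← map_mul, inv_mul_cancel₀ h0, map_one, one_mul]
      exact ht
    | mul a b _ _ ha hb =>
      obtain ⟨t, ht, hu, h⟩ := ha
      obtain ⟨t', ht', hu', h'⟩ := hb
      refine ⟨t * t', mul_mem ht ht', hu.mul hu', ?_⟩
      rw [map_mul, show s a * s b * (t * t') = s a * t * (s b * t') by ring]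
      exact mul_mem h h'
  have hfrS : ∀ x ∈ S, ∃ t ∈ T, IsUnit t ∧ x * t ∈ T := by
    intro x hx
    suffices h : ∀ U : Finset (Fin n), ∃ t ∈ T, IsUnit t ∧ (∑ i ∈ U, e.repr x i • e i) * t ∈ T by
      simpa [e.sum_repr] using h Finset.univ
    intro U
    induction U using Finset.induction_on with
    | empty => exact ⟨1, one_mem T, isUnit_one, by simp [zero_mem]⟩
    | insert i U hi ih =>
      obtain ⟨t, ht, hu, h⟩ := ih
      obtain ⟨t', ht', hu', h'⟩ := hfr _ (hx i)
      refine ⟨t * t', mul_mem ht ht', hu.mul hu', ?_⟩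
      rw [Finset.sum_insert hi, Algebra.smul_def, add_mul,
        show algebraMap K Λ (e.repr x i) * e i * (t * t') = s (e.repr x i) * t' * (e i * t) by ring,
        ← mul_assoc (∑ i ∈ U, _)]
      refine add_mem (mul_mem h' (mul_mem (hG0T _ ?_) ht)) (mul_mem h ht')
      simp [G0]
  have hess : Algebra.EssFiniteType k A := by
    refine (Algebra.essFiniteType_iff k A).2 ⟨G, fun x => ?_⟩
    obtain ⟨_, ⟨t, htG, rfl⟩, hu, ⟨y, hyG, hy⟩⟩ := hfrS x.1 x.2
    refine ⟨t, htG, hunit t hu, ?_⟩
    have : x * t = y := Subtype.ext hy.symm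
    rwa [this]
  refine ⟨A, hloc, fun x hx => hWS x (by simp [W, Finset.mem_coe.1 hx]), hArt, inferInstance, hess, ?_⟩
  refine le_antisymm (Ideal.map_le_iff_le_comap.2 fun x hx => (hnu x).1 hx) ?_
  rw [← hgm, Ideal.span_le]
  intro x hx
  have hxA : x ∈ A := hWS x (by simp [W, Finset.mem_coe.1 hx])
  exact Ideal.mem_map_of_mem (algebraMap A Λ) (show (⟨x, hxA⟩ : A) ∈ maximalIdeal A from
    (hnu ⟨x, hxA⟩).2 (hgm ▸ Ideal.subset_span hx))


/-- Let k be a field of characteristic p > 0 and Λ an Artinian local k-algebra with residue field K such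
that H_1(L_{K/k}) is a finite-dimensional K-vector space. Then Λ is a filtered colimit (a directed
union) of k-subalgebras A ⊆ Λ which are Artinian local and essentially of finite type over k, with A
→ Λ flat and m_A Λ = m_Λ; stated as: every finite subset of Λ is contained in such a subalgebra. -/
theorem result {k Λ : Type u} [Field k] (p : ℕ) [Fact p.Prime]
    [CharP k p] [CommRing Λ] [Algebra k Λ] [IsArtinianRing Λ] [IsLocalRing Λ]
    (hH : Module.Finite (IsLocalRing.ResidueField Λ) (Algebra.H1Cotangent k (IsLocalRing.ResidueField Λ)))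
    (E : Finset Λ) :
    ∃ (A : Subalgebra k Λ) (_ : IsLocalRing A), (↑E : Set Λ) ⊆ A ∧ IsArtinianRing A ∧ Module.Flat A Λ ∧
      Algebra.EssFiniteType k A ∧
      (IsLocalRing.maximalIdeal A).map (algebraMap A Λ) = IsLocalRing.maximalIdeal Λ := by
  classical
  let F := Groth.Ega41Sep.ZModU.{u} p
  haveI : CharP F p := charP_of_injective_ringHom (f := ULift.ringEquiv.symm.toRingHom) (RingEquiv.injective _) p
  haveI : PerfectRing F p := PerfectRing.ofFiniteOfIsReduced p _
  let K := IsLocalRing.ResidueField Λ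
  haveI : CharP Λ p := charP_of_injective_algebraMap (algebraMap k Λ).injective p
  haveI : CharP K p := charP_of_injective_algebraMap (algebraMap k K).injective p
  letI : Algebra F k := Groth.Ega41Sep.zmodUAlgebra p k
  letI : Algebra F Λ := Groth.Ega41Sep.zmodUAlgebra p Λ
  haveI : IsScalarTower F k Λ := IsScalarTower.of_algebraMap_eq' (zmodU_hom_ext _ _)
  haveI : IsScalarTower F k K := IsScalarTower.of_algebraMap_eq' (zmodU_hom_ext _ _)
  -- the base field up to finitely many elements of a `p`-basis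
  obtain ⟨T₀, hT₀⟩ := Groth.Ega41Sep.exists_isPBasis p F k
  obtain ⟨b, hb⟩ := Groth.Ega41Sep.isPBasis_iff_basis.1 hT₀
  let φ := KaehlerDifferential.mapBaseChange F k K
  let bK := b.baseChange K
  have hφb : ∀ t, φ (bK t) = KaehlerDifferential.D F K (algebraMap k K t) := fun t => by
    rw [Module.Basis.baseChange_apply, hb, KaehlerDifferential.mapBaseChange_tmul, one_smul,
      KaehlerDifferential.map_D]
  have hker : (LinearMap.ker φ).FG := by
    rw [(LinearMap.exact_iff).1 (Algebra.H1Cotangent.exact_δ_mapBaseChange F k K)]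
    exact Module.Finite.iff_fg.1 (Module.Finite.range _)
  obtain ⟨Gk, hGk⟩ := hker
  let B₀' : Finset T₀ := Gk.biUnion fun x => (bK.repr x).support
  have hker₀ : LinearMap.ker φ ≤ Submodule.span K (bK '' (B₀' : Set T₀)) := by
    rw [← hGk, Submodule.span_le]
    intro x hx
    rw [SetLike.mem_coe, bK.mem_span_image]
    exact fun t ht => Finset.mem_coe.2 (Finset.mem_biUnion.2 ⟨x, hx, ht⟩)
  let B₁ : Set T₀ := (B₀' : Set T₀)ᶜ
  let f : B₁ → K := fun t => algebraMap k K t.1
  have hli : LinearIndependent K fun t : B₁ => KaehlerDifferential.D F K (f t) := by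
    have h1 : LinearIndependent K fun t : B₁ => bK t.1 := bK.linearIndependent.comp _ Subtype.val_injective
    have h2 := h1.map (f := φ) ?_
    · rw [show (fun t : B₁ => KaehlerDifferential.D F K (f t)) = φ ∘ fun t : B₁ => bK t.1 from
        funext fun t => (hφb _).symm]
      exact h2
    · refine Disjoint.mono_right hker₀ ?_
      rw [show Set.range (fun t : B₁ => bK t.1) = bK '' B₁ from Set.image_eq_range _ _ ▸ rfl]
      exact bK.linearIndependent.disjoint_span_image disjoint_compl_left
  have hfinj : Function.Injective f := fun a c hac =>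
    hli.injective (show KaehlerDifferential.D F K (f a) = KaehlerDifferential.D F K (f c) by rw [hac])
  let L : Set K := Set.range f
  have hL : EGA41.IsPIndependent p F (Subtype.val : L → K) := by
    rw [Groth.Ega41Sep.isPIndependent_iff_linearIndependent]
    refine (linearIndependent_equiv (Equiv.ofInjective f hfinj)).1 ?_
    exact hli
  obtain ⟨T, hLT, -, hT⟩ := Groth.Ega41Sep.exists_isPBasis_between (p := p) (k := F) (Set.univ : Set K) L
    (Set.subset_univ _) (Groth.Ega41Sep.isPGenerating_iff_span.2 (by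
      rw [eq_top_iff, ← KaehlerDifferential.span_range_derivation F K]
      refine Submodule.span_mono ?_
      rintro _ ⟨y, rfl⟩
      exact ⟨⟨y, trivial⟩, rfl⟩)) hL
  -- the coefficient field
  choose lift hlift using (IsLocalRing.residue_surjective : Function.Surjective (IsLocalRing.residue Λ))
  let z : T → Λ := fun x => if h : x.1 ∈ L then algebraMap k Λ h.choose.1 else lift x.1
  have hz : ∀ x : T, IsLocalRing.residue Λ (z x) = x.1 := fun x => by
    simp only [z]
    split_ifs with h
    · refine Eq.trans ?_ h.choose_spec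
      rfl
    · exact hlift _
  have hnil : IsNilpotent (IsLocalRing.maximalIdeal Λ) := by
    rw [← IsLocalRing.jacobson_eq_maximalIdeal (⊥ : Ideal Λ) bot_ne_top]
    exact IsArtinianRing.isNilpotent_jacobson_bot
  obtain ⟨σ, ⟨hσ, hσz⟩, -⟩ := Groth.Ega41Sep.existsUnique_lift_nilpotent (p := p) hT
    (IsLocalRing.maximalIdeal Λ) hnil (AlgHom.id F K : K →ₐ[F] Λ ⧸ IsLocalRing.maximalIdeal Λ) z hz
  have hσres : ∀ c : K, IsLocalRing.residue Λ (σ c) = c := fun c => AlgHom.congr_fun hσ c
  letI : Algebra K Λ := σ.toRingHom.toAlgebra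
  -- `Λ` is finite over the coefficient field
  obtain ⟨N, hN⟩ := hnil
  obtain ⟨gm, hgm⟩ : (IsLocalRing.maximalIdeal Λ).FG := IsNoetherian.noetherian _
  haveI : Module.Finite K Λ := by
    have h1 : ∀ i, ∀ x : Λ, ∃ y ∈ Algebra.adjoin K (gm : Set Λ), x - y ∈ IsLocalRing.maximalIdeal Λ ^ i := by
      intro i
      induction i with
      | zero => exact fun x => ⟨0, zero_mem _, by simp⟩
      | succ i ih =>
        intro x
        have hx : x - algebraMap K Λ (IsLocalRing.residue Λ x) ∈ IsLocalRing.maximalIdeal Λ := by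
          rw [← IsLocalRing.residue_eq_zero_iff, map_sub, sub_eq_zero]
          exact (hσres _).symm
        suffices h : ∀ w ∈ IsLocalRing.maximalIdeal Λ, ∃ y ∈ Algebra.adjoin K (gm : Set Λ),
            w - y ∈ IsLocalRing.maximalIdeal Λ ^ (i + 1) by
          obtain ⟨y, hy, hxy⟩ := h _ hx
          exact ⟨_ + y, add_mem (Subalgebra.algebraMap_mem _ _) hy, by rwa [← sub_sub]⟩
        intro w hw
        rw [← hgm] at hw
        obtain ⟨c, rfl⟩ := Submodule.mem_span_finset'.1 hw
        choose y hy hy' using fun g : gm => ih (c g)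
        refine ⟨∑ g : gm, y g * g.1, Subalgebra.sum_mem _ fun g _ =>
          mul_mem (hy g) (Algebra.subset_adjoin g.2), ?_⟩
        rw [← Finset.sum_sub_distrib]
        refine Ideal.sum_mem _ fun g _ => ?_
        rw [smul_eq_mul, ← sub_mul, pow_succ]
        exact Ideal.mul_mem_mul (hy' g) (hgm ▸ Ideal.subset_span g.2)
    have h2 : Algebra.adjoin K (gm : Set Λ) = ⊤ := eq_top_iff.2 fun x _ => by
      obtain ⟨y, hy, hxy⟩ := h1 N x
      rw [hN, Ideal.zero_eq_bot, Ideal.mem_bot, sub_eq_zero] at hxy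
      exact hxy ▸ hy
    have h3 := fg_adjoin_of_finite (R := K) gm.finite_toSet fun x hx => by
      refine ⟨Polynomial.X ^ N, Polynomial.monic_X_pow N, ?_⟩
      rw [Polynomial.eval₂_X_pow, ← Ideal.mem_bot, ← Ideal.zero_eq_bot, ← hN]
      exact Ideal.pow_mem_pow (hgm ▸ Ideal.subset_span hx) N
    rw [h2, Algebra.top_toSubmodule] at h3
    exact ⟨h3⟩
  -- the base field maps into the coefficient field up to finitely many elements
  refine descend (k := k) (K := K) (B₀'.image Subtype.val) (fun S hS hB => eq_top_iff.2 fun c _ => ?_) E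
  have hgen : Submodule.span k (KaehlerDifferential.D F k '' T₀) = ⊤ := by
    rw [← b.span_eq]
    congr 1
    ext w
    simp [hb]
  have hmem := Groth.Calg1.Popescu.mem_adjoin_pow_union (p := p) (k := F) T₀ hgen N c
  refine Algebra.adjoin_induction ?_ (fun r => zmodU_mem S r) (fun x y _ _ => S.add_mem)
    (fun x y _ _ => S.mul_mem) hmem
  rintro _ (⟨v, rfl⟩ | ht)
  · refine hS _ ?_
    have h1 : (σ (algebraMap k K v) - algebraMap k Λ v) ^ p ^ N = 0 := by
      rw [← Ideal.mem_bot, ← Ideal.zero_eq_bot, ← hN]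
      refine Ideal.pow_le_pow_right (Nat.lt_pow_self (Fact.out : p.Prime).one_lt).le (Ideal.pow_mem_pow ?_ _)
      rw [← IsLocalRing.residue_eq_zero_iff, map_sub, hσres, sub_eq_zero]
      rfl
    rw [sub_pow_char_pow, sub_eq_zero] at h1
    show σ (algebraMap k K (v ^ p ^ N)) = algebraMap k Λ (v ^ p ^ N)
    rw [map_pow, map_pow, map_pow, h1]
  · rename_i t
    by_cases hB₀ : (⟨t, ht⟩ : T₀) ∈ B₀'
    · exact hB (Finset.mem_coe.2 (Finset.mem_image.2 ⟨_, hB₀, rfl⟩))
    · refine hS _ ?_
      have hmemL : f ⟨⟨t, ht⟩, hB₀⟩ ∈ L := ⟨_, rfl⟩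
      have h1 := hσz ⟨f ⟨⟨t, ht⟩, hB₀⟩, hLT hmemL⟩
      simp only [z, dif_pos hmemL] at h1
      rw [hfinj hmemL.choose_spec] at h1
      exact h1

end Groth.Agent.S6854
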