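import Groth.Statements.S6855
-- import your own Groth.Agent.* helpers here

set_option autoImplicit false
universe u
open CategoryTheory CategoryTheory.Limits TopologicalSpace
open ModSite

namespace Groth.Agent.S6855

/-- Let X be a topological space and O a sheaf of rings on X. Then the support of O, the set of points x
with nonzero stalk O_x, is closed in X. -/
theorem result {X : TopCat.{u}} (O : TopCat.Sheaf CommRingCat.{u} X) :
    IsClosed {x : X | Nontrivial (O.presheaf.stalk x)} := by
  rw [← isOpen_compl_iff, isOpen_iff_forall_mem_open]
  intro x hx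
  have hs : Subsingleton (O.presheaf.stalk x) := not_nontrivial_iff_subsingleton.1 hx
  obtain ⟨W, hxW, iU, iV, e⟩ := O.presheaf.germ_eq x (U := ⊤) (V := ⊤) trivial trivial 0 1 (Subsingleton.elim _ _)
  refine ⟨W, fun y hy => ?_, W.2, hxW⟩
  have e' := congrArg (O.presheaf.germ W y hy) e
  rw [map_zero, map_one, map_zero, map_one] at e'
  exact fun hn => (have : Nontrivial (O.presheaf.stalk y) := hn; zero_ne_one e')

end Groth.Agent.S6855
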