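import Groth.Statements.S6856
import Groth.Agent.SitesTopoi.Mod.Invertible

set_option autoImplicit false
universe u
open CategoryTheory CategoryTheory.Limits TopologicalSpace
open ModSite

namespace Groth.Agent.S6856

/-- On a ringed space (X, O), (1) if L and N are invertible O-modules (tensoring with each is an
equivalence of Mod(O)) then L ⊗_O N is invertible; (2) if L is invertible then Hom_O(L, O) is
invertible and the evaluation map Hom_O(L, O) ⊗_O L → O, the counit of the adjunction between − ⊗ L
and Hom_O(L, −) at O, is an isomorphism. -/
theorem result {X : TopCat.{u}} (O : TopCat.Sheaf CommRingCat.{u} X)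
    (L N : ModSite.Mod O) (hL : ((ModSite.tensorBi O).obj L).IsEquivalence) [ModSite.HasSheafHom L] :
    (((ModSite.tensorBi O).obj N).IsEquivalence →
        ((ModSite.tensorBi O).obj (((ModSite.tensorBi O).obj L).obj N)).IsEquivalence) ∧
      ((ModSite.tensorBi O).obj ((ModSite.sheafHom L).obj (ModSite.unit O))).IsEquivalence ∧
      IsIso ((ModSite.sheafHomAdj L).counit.app (ModSite.unit O)) := by
  exact ⟨fun hN => Groth.SitesTopoi.Invertible.isEquivalence_tensor hL hN, Groth.SitesTopoi.Invertible.isEquivalence_dual hL,
    Groth.SitesTopoi.Invertible.isIso_counit hL _⟩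

end Groth.Agent.S6856
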