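import Groth.Statements.S6859
import Groth.Agent.SitesTopoi.Mod.SpaceFlatOver

set_option autoImplicit false
universe u
open CategoryTheory CategoryTheory.Limits TopologicalSpace
open ModSite

namespace Groth.Agent.S6859

/-- Let f : (X, O_X) → (Y, O_Y) be a morphism of ringed spaces and F an O_X-module flat over Y, i.e. for
every x ∈ X the stalk F_x is a flat O_{Y, f(x)}-module through the ring map O_{Y, f(x)} → O_{X, x}.
Then the functor Mod(O_Y) → Mod(O_X), G ↦ f^*G ⊗_{O_X} F, is exact (preserves finite limits and
finite colimits). Here stalks are taken at the point of the site of opens of X given by x, and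
flatness over O_{Y, f(x)} is written over the stalk at x of the pulled-back sheaf of rings f⁻¹O_Y,
which is O_{Y, f(x)}, through the stalk at x of the ring map f⁻¹O_Y → O_X adjoint to O_Y → f_*O_X,
which is the stalk map O_{Y, f(x)} → O_{X, x}. -/
theorem result {X Y : TopCat.{u}} (f : X ⟶ Y) (O_X : TopCat.Sheaf CommRingCat.{u} X)
    (O_Y : TopCat.Sheaf CommRingCat.{u} Y)
    (c : O_Y ⟶ ((TopologicalSpace.Opens.map f).sheafPushforwardContinuous CommRingCat.{u}
      (Opens.grothendieckTopology Y) (Opens.grothendieckTopology X)).obj O_X)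
    (F : ModSite.Mod O_X)
    (hF : ∀ x : X, @Module.Flat
      (ModSite.stalkRing (Opens.pointGrothendieckTopology x)
        (ModSite.RMor.ofFlat (TopologicalSpace.Opens.map f) c).invRing)
      (ModSite.stalkAb (Opens.pointGrothendieckTopology x) F) _ _
      (Module.compHom (ModSite.stalkAb (Opens.pointGrothendieckTopology x) F)
        (((Opens.pointGrothendieckTopology x).sheafFiber (A := CommRingCat.{u})).map
          (ModSite.RMor.ofFlat (TopologicalSpace.Opens.map f) c).invSharp).hom)) :
    PreservesFiniteLimits ((ModSite.RMor.ofFlat (TopologicalSpace.Opens.map f) c).pull ⋙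
        (ModSite.tensorBi O_X).flip.obj F) ∧
      PreservesFiniteColimits ((ModSite.RMor.ofFlat (TopologicalSpace.Opens.map f) c).pull ⋙
        (ModSite.tensorBi O_X).flip.obj F) := by
  exact Groth.SitesTopoi.SpaceFlatOver.exact_pull_tensor (f := f) (c := c) (F := F) fun x =>
    Groth.SitesTopoi.SpaceFlatOver.flat_Fst f c F x (hF x)

end Groth.Agent.S6859
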