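import Groth.Statements.S6861
import Groth.Agent.NeronArea.BlowupSmooth


set_option autoImplicit false
universe u
open Smoothing

namespace Groth.Agent.S6861

/-- Let R ⊆ Λ be an extension of discrete valuation rings of ramification index 1 (m_R Λ = m_Λ) whose
residue field extension is separable (geometrically reduced), π a uniformizer of R, A a flat
R-algebra of finite type with an R-algebra map A → Λ, and 𝔭 ⊆ A the inverse image of m_Λ. Assume R →
A is smooth at 𝔭. Let A' = A[𝔭/π] ⊆ A_π be the affine blowup algebra (Néron's blowup) and A' → Λ the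
induced map, i.e. the A-algebra map compatible with A_π → Λ_π (it exists and is unique; it is taken
as a datum here). Then R → A' is smooth at the inverse image 𝔭' of m_Λ in A'. (The source also gives
a short exact sequence relating the differentials of A and A' at 𝔭'; that part is not restated.) -/
theorem result {R Λ A : Type u} [CommRing R] [IsDomain R]
    [IsDiscreteValuationRing R] [CommRing Λ] [IsDomain Λ] [IsDiscreteValuationRing Λ] [Algebra R Λ]
    [NoZeroSMulDivisors R Λ] [IsLocalHom (algebraMap R Λ)]
    (he : (IsLocalRing.maximalIdeal R).map (algebraMap R Λ) = IsLocalRing.maximalIdeal Λ)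
    (hsep : Algebra.IsGeometricallyReduced (IsLocalRing.ResidueField R) (IsLocalRing.ResidueField Λ))
    [CommRing A] [Algebra R A] [Module.Flat R A] [Algebra.FiniteType R A] [Algebra A Λ] [IsScalarTower R A Λ]
    (π : R) (hπ : IsLocalRing.maximalIdeal R = Ideal.span {π})
    (hsm : Algebra.IsSmoothAt R ((IsLocalRing.maximalIdeal Λ).comap (algebraMap A Λ)))
    (φ' : BlowUp.affineAlgebra A ((IsLocalRing.maximalIdeal Λ).comap (algebraMap A Λ)) (algebraMap R A π) →ₐ[A] Λ)
    (hφ' : ∀ a' : BlowUp.affineAlgebra A ((IsLocalRing.maximalIdeal Λ).comap (algebraMap A Λ)) (algebraMap R A π),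
      algebraMap Λ (Localization.Away (algebraMap A Λ (algebraMap R A π))) (φ' a') =
        Localization.awayMap (algebraMap A Λ) (algebraMap R A π) a'.val) :
    Algebra.IsSmoothAt R ((IsLocalRing.maximalIdeal Λ).comap φ'.toRingHom) := by
  let p := (IsLocalRing.maximalIdeal Λ).comap (algebraMap A Λ)
  let k := IsLocalRing.ResidueField R
  let K := p.ResidueField
  have hmR : ∀ r ∈ IsLocalRing.maximalIdeal R, algebraMap R Λ r ∈ IsLocalRing.maximalIdeal Λ := fun r hr =>
    he ▸ Ideal.mem_map_of_mem _ hr
  have hpm : IsLocalRing.maximalIdeal R ≤ p.comap (algebraMap R A) := fun r hr => by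
    show algebraMap A Λ (algebraMap R A r) ∈ IsLocalRing.maximalIdeal Λ
    rw [← IsScalarTower.algebraMap_apply R A Λ]; exact hmR r hr
  letI : Algebra k K := (Ideal.Quotient.lift (IsLocalRing.maximalIdeal R) (algebraMap R K) fun r hr => by
    rw [IsScalarTower.algebraMap_apply R A K]; exact Ideal.algebraMap_residueField_eq_zero.2 (hpm hr)).toAlgebra
  have : IsScalarTower R k K := IsScalarTower.of_algebraMap_eq fun r => (Ideal.Quotient.lift_mk _ _ _).symm
  let l : K →+* IsLocalRing.ResidueField Λ := Ideal.ResidueField.lift p ((IsLocalRing.residue Λ).comp (algebraMap A Λ))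
    (fun a ha => by rw [RingHom.mem_ker, RingHom.comp_apply, IsLocalRing.residue_eq_zero_iff]; exact ha)
    (fun a ha => by
      show IsUnit ((IsLocalRing.residue Λ) (algebraMap A Λ a))
      rw [isUnit_iff_ne_zero, Ne, IsLocalRing.residue_eq_zero_iff]; exact ha)
  have hl : ∀ x : k, l (algebraMap k K x) = algebraMap k (IsLocalRing.ResidueField Λ) x := by
    intro x
    obtain ⟨r, rfl⟩ := IsLocalRing.residue_surjective x
    show l (algebraMap k K (algebraMap R k r)) = algebraMap k _ (algebraMap R k r)
    rw [← IsScalarTower.algebraMap_apply R k K, IsScalarTower.algebraMap_apply R A K]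
    refine ((Ideal.ResidueField.lift_algebraMap _ _ _ _) _).trans ?_
    rw [RingHom.comp_apply, ← IsScalarTower.algebraMap_apply R A Λ]
    exact (IsLocalRing.ResidueField.algebraMap_residue (R := R) (S := Λ) r).symm
  let lk : K →ₐ[k] IsLocalRing.ResidueField Λ := { l with commutes' := hl }
  have : Algebra.IsGeometricallyReduced k (IsLocalRing.ResidueField Λ) := hsep
  have : Algebra.IsGeometricallyReduced k K := Algebra.IsGeometricallyReduced.of_injective lk lk.toRingHom.injective
  obtain ⟨h, n, c, J, a, hh, hfin, hc, ha, hac, hle⟩ := Groth.NeronArea.SepCoord.exists_coords p hpm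
  have hπ0 : π ≠ 0 := fun h0 => IsDiscreteValuationRing.not_a_field R (by rw [hπ, h0, Ideal.span_singleton_eq_bot])
  have hπp : algebraMap R A π ∈ p := hpm (hπ ▸ Ideal.mem_span_singleton_self π)
  have hsmU := Groth.NeronArea.BlowupSmooth.smooth_away π hπ0 p h c J a hc ha hac hπp
    (hle.trans (Ideal.span_le.2 (by
      rintro _ (⟨r, hr, rfl⟩ | hx)
      · rw [SetLike.mem_coe, hπ, Ideal.mem_span_singleton] at hr
        obtain ⟨d, rfl⟩ := hr
        rw [SetLike.mem_coe, map_mul]
        exact Ideal.mul_mem_right _ _ (Ideal.subset_span (Set.mem_insert _ _))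
      · exact Ideal.subset_span (Set.mem_insert_of_mem _ hx)))) hfin
  let C' := BlowUp.affineAlgebra A p (algebraMap R A π)
  let q : Ideal C' := (IsLocalRing.maximalIdeal Λ).comap φ'.toRingHom
  have hhq : algebraMap A C' h ∉ q := fun h1 => by
    have h2 : φ' (algebraMap A C' h) ∈ IsLocalRing.maximalIdeal Λ := h1
    rw [φ'.commutes] at h2
    exact hh h2
  let U := Localization.Away (algebraMap A C' h)
  let toQ : U →ₐ[C'] Localization.AtPrime q := IsLocalization.liftAlgHom (M := Submonoid.powers (algebraMap A C' h))
    (f := Algebra.ofId C' (Localization.AtPrime q)) (by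
      rintro ⟨_, k, rfl⟩
      simp only [Algebra.ofId_apply]
      exact IsLocalization.map_units (Localization.AtPrime q) ⟨_, pow_mem (show algebraMap A C' h ∈ q.primeCompl from hhq) k⟩)
  letI : Algebra U (Localization.AtPrime q) := toQ.toRingHom.toAlgebra
  have : IsScalarTower C' U (Localization.AtPrime q) := IsScalarTower.of_algebraMap_eq fun x => (toQ.commutes x).symm
  have : IsScalarTower R U (Localization.AtPrime q) := IsScalarTower.of_algebraMap_eq fun r => by
    rw [IsScalarTower.algebraMap_apply R C' (Localization.AtPrime q), IsScalarTower.algebraMap_apply R C' U,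
      ← IsScalarTower.algebraMap_apply C' U (Localization.AtPrime q)]
  have hle : Submonoid.powers (algebraMap A C' h) ≤ q.primeCompl := Submonoid.powers_le.2 hhq
  have : IsLocalization (q.primeCompl.map (algebraMap C' U)) (Localization.AtPrime q) :=
    IsLocalization.isLocalization_of_submonoid_le U (Localization.AtPrime q) _ _ hle
  have : Algebra.FormallySmooth U (Localization.AtPrime q) :=
    Algebra.FormallySmooth.of_isLocalization (q.primeCompl.map (algebraMap C' U))
  have : Algebra.FormallySmooth R U := hsmU.formallySmooth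
  exact Algebra.FormallySmooth.comp R U (Localization.AtPrime q)

end Groth.Agent.S6861
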