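import Groth.Statements.S6862
import Mathlib.Algebra.Module.Projective
import Mathlib.LinearAlgebra.FreeModule.Basic
import Mathlib.RingTheory.Finiteness.Prod
-- import your own Groth.Agent.* helpers here

set_option autoImplicit false
universe u
open CAlg

namespace Groth.Agent.S6862

/-- Let `R` be a commutative ring and `P'`, `P`, `P''` finitely generated projective `R`-modules in an
exact sequence `0 → P' → P → P'' → 0`. Whenever two of the three are stably free, the remaining one
is stably free too (all three cases are stated). -/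
theorem result {R : Type u} [CommRing R] {P' P P'' : Type u}
    [AddCommGroup P'] [Module R P'] [Module.Finite R P'] [Module.Projective R P']
    [AddCommGroup P] [Module R P] [Module.Finite R P] [Module.Projective R P]
    [AddCommGroup P''] [Module R P''] [Module.Finite R P''] [Module.Projective R P'']
    (f : P' →ₗ[R] P) (g : P →ₗ[R] P'') (hf : Function.Injective f) (hg : Function.Surjective g)
    (hfg : Function.Exact f g) :
    (Module.IsStablyFree R P' → Module.IsStablyFree R P → Module.IsStablyFree R P'') ∧
    (Module.IsStablyFree R P' → Module.IsStablyFree R P'' → Module.IsStablyFree R P) ∧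
    (Module.IsStablyFree R P → Module.IsStablyFree R P'' → Module.IsStablyFree R P') := by
  obtain ⟨s, hs⟩ := Module.projective_lifting_property g LinearMap.id hg
  let e : P ≃ₗ[R] P' × P'' := (hfg.splitSurjectiveEquiv hf ⟨s, hs⟩).1
  refine ⟨fun h₁ h₂ => ?_, fun h₁ h₂ => ?_, fun h₁ h₂ => ?_⟩
  · obtain ⟨F₁, _, _, _, _, _⟩ := Module.IsStablyFree.exist_free_prod R P'
    obtain ⟨F, _, _, _, _, _⟩ := Module.IsStablyFree.exist_free_prod R P
    have : Module.Free R (P'' × ((P' × F₁) × F)) := Module.Free.of_equiv
      (LinearEquiv.prodCongr ((e.prodCongr (LinearEquiv.refl R F)).trans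
          ((LinearEquiv.prodCongr (LinearEquiv.prodComm R P' P'') (LinearEquiv.refl R F)).trans
            (LinearEquiv.prodAssoc R P'' P' F)))
        (LinearEquiv.refl R F₁) ≪≫ₗ LinearEquiv.prodAssoc R P'' (P' × F) F₁ ≪≫ₗ
        (LinearEquiv.refl R P'').prodCongr
          (LinearEquiv.prodAssoc R P' F F₁ ≪≫ₗ
            (LinearEquiv.refl R P').prodCongr (LinearEquiv.prodComm R F F₁) ≪≫ₗ
            (LinearEquiv.prodAssoc R P' F₁ F).symm))
    exact Module.IsStablyFree.of_free_prod R P'' ((P' × F₁) × F)
  · obtain ⟨F₁, _, _, _, _, _⟩ := Module.IsStablyFree.exist_free_prod R P'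
    obtain ⟨F₂, _, _, _, _, _⟩ := Module.IsStablyFree.exist_free_prod R P''
    have : Module.Free R (P × (F₁ × F₂)) := Module.Free.of_equiv
      ((e.prodCongr (LinearEquiv.refl R (F₁ × F₂))).trans
        (LinearEquiv.prodProdProdComm R P' P'' F₁ F₂)).symm
    exact Module.IsStablyFree.of_free_prod R P (F₁ × F₂)
  · obtain ⟨F₂, _, _, _, _, _⟩ := Module.IsStablyFree.exist_free_prod R P''
    obtain ⟨F, _, _, _, _, _⟩ := Module.IsStablyFree.exist_free_prod R P
    have : Module.Free R (P' × ((P'' × F₂) × F)) := Module.Free.of_equiv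
      (LinearEquiv.prodCongr ((e.prodCongr (LinearEquiv.refl R F)).trans
            (LinearEquiv.prodAssoc R P' P'' F))
        (LinearEquiv.refl R F₂) ≪≫ₗ LinearEquiv.prodAssoc R P' (P'' × F) F₂ ≪≫ₗ
        (LinearEquiv.refl R P').prodCongr
          (LinearEquiv.prodAssoc R P'' F F₂ ≪≫ₗ
            (LinearEquiv.refl R P'').prodCongr (LinearEquiv.prodComm R F F₂) ≪≫ₗ
            (LinearEquiv.prodAssoc R P'' F₂ F).symm))
    exact Module.IsStablyFree.of_free_prod R P' ((P'' × F₂) × F)

end Groth.Agent.S6862
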