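import Groth.Statements.S6863
import Mathlib

set_option autoImplicit false
universe u
open TensorProduct
open CAlg

namespace Groth.Agent.S6863

/-- Let `I` be an ideal of a commutative ring `R` contained in the Jacobson radical (equivalently, `1 +
i` is a unit for each `i ∈ I`). Then each finitely generated stably free module `E` over `R/I`
lifts: there is a finite stably free `R`-module `M` with `M/IM ≅ E` (existence of an isomorphism
only; the published statement names no map). -/
theorem result {R : Type u} [CommRing R] (I : Ideal R)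
    (hI : I ≤ Ideal.jacobson (⊥ : Ideal R)) (E : Type u) [AddCommGroup E] [Module (R ⧸ I) E]
    [Module.Finite (R ⧸ I) E] [Module.IsStablyFree (R ⧸ I) E] :
    ∃ (M : Type u) (_ : AddCommGroup M) (_ : Module R M), Module.Finite R M ∧ Module.IsStablyFree R M ∧
      Nonempty ((R ⧸ I) ⊗[R] M ≃ₗ[R ⧸ I] E) := by
  classical
  obtain ⟨N, _, _, _, _, _⟩ := Module.IsStablyFree.exist_free_prod (R ⧸ I) E
  by_cases hnt : Subsingleton (R ⧸ I)
  · haveI : Subsingleton E := Module.subsingleton (R ⧸ I) E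
    haveI : Subsingleton ((R ⧸ I) ⊗[R] PUnit.{u+1}) :=
      Module.subsingleton (R ⧸ I) ((R ⧸ I) ⊗[R] PUnit.{u+1})
    exact ⟨PUnit, inferInstance, inferInstance, inferInstance, inferInstance,
      ⟨{ toFun := 0, invFun := 0, map_add' := by simp, map_smul' := by simp,
         left_inv := fun _ => Subsingleton.elim _ _, right_inv := fun _ => Subsingleton.elim _ _ }⟩⟩
  haveI : Nontrivial (R ⧸ I) := not_subsingleton_iff_nontrivial.1 hnt
  let ι := Module.Free.ChooseBasisIndex (R ⧸ I) (E × N)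
  let κ := Module.Free.ChooseBasisIndex (R ⧸ I) N
  let b : (E × N) ≃ₗ[R ⧸ I] (ι → R ⧸ I) := (Module.Free.chooseBasis (R ⧸ I) (E × N)).equivFun
  let c : N ≃ₗ[R ⧸ I] (κ → R ⧸ I) := (Module.Free.chooseBasis (R ⧸ I) N).equivFun
  letI : Module R E := Module.compHom E (Ideal.Quotient.mk I)
  haveI : IsScalarTower R (R ⧸ I) E := IsScalarTower.of_compHom R (R ⧸ I) E
  letI : Module R N := Module.compHom N (Ideal.Quotient.mk I)
  haveI : IsScalarTower R (R ⧸ I) N := IsScalarTower.of_compHom R (R ⧸ I) N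
  let red : ∀ σ : Type u, (σ → R) →ₗ[R] (σ → R ⧸ I) :=
    fun σ => (Algebra.linearMap R (R ⧸ I)).compLeft σ
  have hred : ∀ σ : Type u, Function.Surjective (red σ) := fun σ w =>
    ⟨fun i => (Ideal.Quotient.mk_surjective (w i)).choose,
      funext fun i => (Ideal.Quotient.mk_surjective (w i)).choose_spec⟩
  have hker : ∀ (σ : Type u) [Fintype σ] (v : σ → R), red σ v = 0 → v ∈ I • (⊤ : Submodule R (σ → R)) := by
    intro σ _ v hv
    rw [pi_eq_sum_univ v]
    refine Submodule.sum_mem _ fun i _ => Submodule.smul_mem_smul ?_ Submodule.mem_top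
    exact Ideal.Quotient.eq_zero_iff_mem.1 (congr_fun hv i)
  let q : (ι → R ⧸ I) →ₗ[R] (κ → R ⧸ I) :=
    (c.toLinearMap ∘ₗ LinearMap.snd _ E N ∘ₗ b.symm.toLinearMap).restrictScalars R
  obtain ⟨Q, hQ⟩ := Module.projective_lifting_property (red κ) (q ∘ₗ red ι) (hred κ)
  have hQs : Function.Surjective Q := by
    rw [← LinearMap.range_eq_top, ← top_le_iff]
    apply Submodule.le_of_le_smul_of_le_jacobson_bot Module.Finite.fg_top hI
    intro w _
    obtain ⟨v, hv⟩ := hred ι (b (0, c.symm (red κ w)))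
    have h : red κ (w - Q v) = 0 := by
      rw [map_sub, sub_eq_zero, ← LinearMap.comp_apply (red κ) Q, hQ, LinearMap.comp_apply, hv]
      simp [q]
    rw [← add_sub_cancel (Q v) w]
    exact add_mem (Submodule.mem_sup_left ⟨v, rfl⟩) (Submodule.mem_sup_right (hker κ _ h))
  obtain ⟨s, hs⟩ := Module.projective_lifting_property Q LinearMap.id hQs
  have hs' : ∀ w, Q (s w) = w := fun w => LinearMap.congr_fun hs w
  let M := LinearMap.ker Q
  let p : (ι → R) →ₗ[R] M := (LinearMap.id - s ∘ₗ Q).codRestrict M fun v => by simp [M, hs']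
  have hp : ∀ m : M, p m = m := fun m => Subtype.ext (by simp [p, show Q (m : ι → R) = 0 from m.2])
  let e : (ι → R) ≃ₗ[R] (M × (κ → R)) :=
    LinearEquiv.ofLinear (p.prod Q) (M.subtype.coprod s) (by
      ext x <;> simp [hp, hs', p]) (by
      ext x; simp [p])
  haveI : Module.Finite R M := Module.Finite.of_surjective p fun m => ⟨m, hp m⟩
  haveI : Module.Free R (M × (κ → R)) := Module.Free.of_equiv e
  refine ⟨M, inferInstance, inferInstance, inferInstance, Module.IsStablyFree.of_free_prod R M (κ → R), ?_⟩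
  let φ : M →ₗ[R] E :=
    (LinearMap.fst (R ⧸ I) E N ∘ₗ b.symm.toLinearMap).restrictScalars R ∘ₗ red ι ∘ₗ M.subtype
  let Φ : (R ⧸ I) ⊗[R] M →ₗ[R ⧸ I] E := φ.liftBaseChange (R ⧸ I)
  have hΦ : ∀ m : M, Φ (1 ⊗ₜ m) = (b.symm (red ι (m : ι → R))).1 := fun m => by simp [Φ, φ]
  have hrep : ∀ z : (R ⧸ I) ⊗[R] M, ∃ m : M, z = 1 ⊗ₜ m := by
    intro z
    induction z with
    | zero => exact ⟨0, by simp⟩
    | tmul r m =>
      obtain ⟨r, rfl⟩ := Ideal.Quotient.mk_surjective r
      exact ⟨r • m, by rw [← TensorProduct.smul_tmul]; simp [Algebra.smul_def]⟩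
    | add x y hx hy =>
      obtain ⟨a, rfl⟩ := hx
      obtain ⟨d, rfl⟩ := hy
      exact ⟨a + d, by rw [TensorProduct.tmul_add]⟩
  have hsnd : ∀ v : ι → R, red κ (Q v) = c (b.symm (red ι v)).2 := fun v =>
    LinearMap.congr_fun hQ v
  refine ⟨LinearEquiv.ofBijective Φ ⟨?_, fun x => ?_⟩⟩
  · rw [injective_iff_map_eq_zero]
    intro z hz
    obtain ⟨m, rfl⟩ := hrep z
    rw [hΦ] at hz
    have h2 : (b.symm (red ι (m : ι → R))).2 = 0 := c.map_eq_zero_iff.1 (by
      rw [← hsnd, show Q (m : ι → R) = 0 from m.2, map_zero])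
    have hv : red ι (m : ι → R) = 0 := b.symm.map_eq_zero_iff.1 (Prod.ext hz h2)
    have hm : m ∈ I • (⊤ : Submodule R M) := by
      have h := Submodule.mem_map_of_mem (f := p) (hker ι _ hv)
      rw [hp, Submodule.map_smul''] at h
      exact Submodule.smul_mono le_rfl le_top h
    refine Submodule.smul_induction_on (p := fun m => (1 : R ⧸ I) ⊗ₜ[R] m = 0) hm (fun r hr x _ => ?_)
      (fun x y hx hy => by rw [TensorProduct.tmul_add, hx, hy, add_zero])
    · rw [← TensorProduct.smul_tmul, show r • (1 : R ⧸ I) = 0 by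
        rw [Algebra.smul_def, mul_one]; exact Ideal.Quotient.eq_zero_iff_mem.2 hr,
        TensorProduct.zero_tmul]
  · obtain ⟨v, hv⟩ := hred ι (b (x, 0))
    refine ⟨1 ⊗ₜ p v, ?_⟩
    rw [hΦ]
    have hQv : red κ (Q v) = 0 := by rw [hsnd, hv]; simp
    have hsQ : red ι (s (Q v)) = 0 := by
      have h := hker κ _ hQv
      generalize Q v = w at h
      refine Submodule.smul_induction_on (p := fun w => red ι (s w) = 0) h (fun r hr y _ => ?_)
        (fun y z hy hz => by rw [map_add, map_add, hy, hz, add_zero])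
      · rw [map_smul, map_smul]
        funext i
        rw [Pi.smul_apply, Algebra.smul_def, Ideal.Quotient.algebraMap_eq,
          Ideal.Quotient.eq_zero_iff_mem.2 hr, zero_mul, Pi.zero_apply]
    simp [p, hv, hsQ]

end Groth.Agent.S6863
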