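import Mathlib
import Groth.Statements.S6864

set_option autoImplicit false
universe u
open TensorProduct
open CAlg

namespace Groth.Agent.S6864

/-- Let `I` be an ideal of a commutative ring `R` contained in the Jacobson radical and let `φ : P → P'`
be an `R`-linear map between finite projective `R`-modules. If the induced map `P/IP → P'/IP'` is
bijective, then `φ` is bijective. -/
theorem result {R : Type u} [CommRing R] (I : Ideal R)
    (hI : I ≤ Ideal.jacobson (⊥ : Ideal R)) {P P' : Type u}
    [AddCommGroup P] [Module R P] [Module.Finite R P] [Module.Projective R P]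
    [AddCommGroup P'] [Module R P'] [Module.Finite R P'] [Module.Projective R P'] (φ : P →ₗ[R] P')
    (h : Function.Bijective (φ.baseChange (R ⧸ I))) : Function.Bijective φ := by
  have hsurj : Function.Surjective φ := by
    rw [← LinearMap.range_eq_top, eq_top_iff]
    refine Submodule.le_of_le_smul_of_le_jacobson_bot Module.Finite.fg_top hI ?_
    intro y _
    obtain ⟨z, hz⟩ := h.2 (1 ⊗ₜ y)
    obtain ⟨p, rfl⟩ := TensorProduct.mk_surjective R P (R ⧸ I) Ideal.Quotient.mk_surjective z
    simp only [TensorProduct.mk_apply, LinearMap.baseChange_tmul] at hz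
    have h2 := congrArg (TensorProduct.quotTensorEquivQuotSMul P' I) hz
    simp only [← map_one (Ideal.Quotient.mk I), TensorProduct.quotTensorEquivQuotSMul_mk_tmul, one_smul] at h2
    rw [Submodule.Quotient.eq] at h2
    have h3 : y = φ p - (φ p - y) := by simp
    rw [h3]
    exact Submodule.sub_mem _ (Submodule.mem_sup_left (LinearMap.mem_range_self φ p)) (Submodule.mem_sup_right h2)
  refine ⟨?_, hsurj⟩
  obtain ⟨s, hs⟩ := Module.projective_lifting_property φ LinearMap.id hsurj
  have hs' : ∀ y, φ (s y) = y := fun y => LinearMap.congr_fun hs y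
  let p : P →ₗ[R] P := LinearMap.id - s ∘ₗ φ
  have hp : LinearMap.ker φ = LinearMap.range p := by
    apply le_antisymm
    · intro x hx
      exact ⟨x, by simp [p, LinearMap.mem_ker.mp hx]⟩
    · rintro _ ⟨x, rfl⟩
      simp [p, hs']
  rw [← LinearMap.ker_eq_bot]
  refine Submodule.eq_bot_of_le_smul_of_le_jacobson_bot I _ ?_ ?_ hI
  · rw [hp, ← Submodule.map_top]; exact Module.Finite.fg_top.map _
  · intro x hx
    have h1 : (1 : R ⧸ I) ⊗ₜ[R] x = 0 := h.1 (by simp [LinearMap.mem_ker.mp hx])
    have h2 := congrArg (TensorProduct.quotTensorEquivQuotSMul P I) h1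
    simp only [← map_one (Ideal.Quotient.mk I), TensorProduct.quotTensorEquivQuotSMul_mk_tmul, one_smul, map_zero] at h2
    rw [Submodule.Quotient.mk_eq_zero] at h2
    have h3 := Submodule.mem_map_of_mem (f := p) h2
    rw [Submodule.map_smul'', Submodule.map_top, ← hp] at h3
    simpa [p, LinearMap.mem_ker.mp hx] using h3

end Groth.Agent.S6864
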