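import Groth.Statements.S6865
import Mathlib.RingTheory.Nakayama
import Mathlib.LinearAlgebra.TensorProduct.Quotient
import Mathlib.RingTheory.Finiteness.Basic
import Mathlib.RingTheory.Jacobson.Ideal
import Mathlib.RingTheory.OrzechProperty
import Mathlib.RingTheory.FiniteType
-- import your own Groth.Agent.* helpers here

set_option autoImplicit false
universe u
open TensorProduct
open CAlg

namespace Groth.Agent.S6865

/-- Let `I` be an ideal of a commutative ring `R` contained in the Jacobson radical and let `P, P'` be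
finite projective `R`-modules. If `P/IP` and `P'/IP'` are isomorphic `R/I`-modules, then `P` and
`P'` are isomorphic. -/
theorem result {R : Type u} [CommRing R] (I : Ideal R)
    (hI : I ≤ Ideal.jacobson (⊥ : Ideal R)) (P P' : Type u)
    [AddCommGroup P] [Module R P] [Module.Finite R P] [Module.Projective R P]
    [AddCommGroup P'] [Module R P'] [Module.Finite R P'] [Module.Projective R P']
    (e : (R ⧸ I) ⊗[R] P ≃ₗ[R ⧸ I] (R ⧸ I) ⊗[R] P') : Nonempty (P ≃ₗ[R] P') := by
  have key : ∀ (M N : Type u) [AddCommGroup M] [Module R M] [Module.Projective R M]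
      [AddCommGroup N] [Module R N] [Module.Finite R N]
      (_ : (R ⧸ I) ⊗[R] M ≃ₗ[R ⧸ I] (R ⧸ I) ⊗[R] N), ∃ f : M →ₗ[R] N, Function.Surjective f := by
    intro M N _ _ _ _ _ _ ψ
    have hmk : ∀ (X : Type u) [AddCommGroup X] [Module R X],
        Function.Surjective (TensorProduct.mk R (R ⧸ I) X 1) := fun X _ _ =>
      TensorProduct.mk_surjective R X (R ⧸ I) Ideal.Quotient.mk_surjective
    obtain ⟨f, hf⟩ := Module.projective_lifting_property (TensorProduct.mk R (R ⧸ I) N 1)
      ((ψ.toLinearMap.restrictScalars R) ∘ₗ TensorProduct.mk R (R ⧸ I) M 1) (hmk N)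
    refine ⟨f, LinearMap.range_eq_top.1 ?_⟩
    rw [← top_le_iff]
    refine Submodule.le_of_le_smul_of_le_jacobson_bot Module.Finite.fg_top hI fun y _ => ?_
    obtain ⟨x, hx⟩ := hmk M (ψ.symm ((1 : R ⧸ I) ⊗ₜ[R] y))
    have h1 : (1 : R ⧸ I) ⊗ₜ[R] (f x) = (1 : R ⧸ I) ⊗ₜ[R] y := by
      have h2 := LinearMap.congr_fun hf x
      simp only [LinearMap.comp_apply, TensorProduct.mk_apply] at h2 hx
      rw [h2, hx]
      exact ψ.apply_symm_apply _
    have h3 : y - f x ∈ I • (⊤ : Submodule R N) := by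
      have h4 := congrArg (TensorProduct.quotTensorEquivQuotSMul N I) h1
      rw [← map_one (Ideal.Quotient.mk I), TensorProduct.quotTensorEquivQuotSMul_mk_tmul I 1 (f x),
        TensorProduct.quotTensorEquivQuotSMul_mk_tmul I 1 y, one_smul, one_smul] at h4
      exact (Submodule.Quotient.eq _).1 h4.symm
    exact Submodule.mem_sup.2 ⟨f x, ⟨x, rfl⟩, y - f x, h3, add_sub_cancel _ _⟩
  obtain ⟨f, hf⟩ := key P P' e
  obtain ⟨g, hg⟩ := key P' P e.symm
  have hb := OrzechProperty.bijective_of_surjective_endomorphism (g ∘ₗ f) (hg.comp hf)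
  have hinj : Function.Injective (g ∘ f) := hb.1
  exact ⟨LinearEquiv.ofBijective f ⟨hinj.of_comp, hf⟩⟩

end Groth.Agent.S6865
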