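import Mathlib
import Groth.Statements.S6866

set_option autoImplicit false
universe u
open TensorProduct
open CAlg

namespace Groth.Agent.S6866

/-- If `M` is a torsion free module over a domain `R` and `R → R'` is a flat ring map to another domain,
then `R' ⊗_R M` is torsion free over `R'`. -/
theorem result (R R' : Type u) [CommRing R] [IsDomain R] [CommRing R']
    [IsDomain R'] [Algebra R R'] [Module.Flat R R'] (M : Type u) [AddCommGroup M] [Module R M]
    [Module.IsTorsionFree R M] : Module.IsTorsionFree R' (R' ⊗[R] M) := by
  let K := FractionRing R
  have hj : Function.Injective (TensorProduct.mk R K M 1) := by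
    intro x y hxy
    obtain ⟨c, hc⟩ := (IsLocalizedModule.eq_iff_exists (nonZeroDivisors R) (TensorProduct.mk R K M 1)).mp hxy
    exact smul_right_injective M (nonZeroDivisors.ne_zero c.2) hc
  have : Module.Flat R (K ⊗[R] M) := Module.Flat.trans R K _
  refine ⟨fun y hy x₁ x₂ hxx => ?_⟩
  have hi : Function.Injective ((LinearMap.mul R R' y).rTensor (K ⊗[R] M)) :=
    Module.Flat.rTensor_preserves_injective_linearMap _ hy.left
  have hl : Function.Injective ((TensorProduct.mk R K M 1).lTensor R') :=
    Module.Flat.lTensor_preserves_injective_linearMap _ hj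
  have key : ∀ z : R' ⊗[R] M, (TensorProduct.mk R K M 1).lTensor R' (y • z) =
      (LinearMap.mul R R' y).rTensor (K ⊗[R] M) ((TensorProduct.mk R K M 1).lTensor R' z) := by
    intro z
    induction z using TensorProduct.induction_on with
    | zero => simp
    | tmul a b => simp [TensorProduct.smul_tmul']
    | add a b ha hb => simp [smul_add, ha, hb]
  apply hl
  apply hi
  rw [← key, ← key]
  exact congrArg _ hxx

end Groth.Agent.S6866
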