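import Groth.Statements.S6868
import Groth.Agent.Calg1.SerreConditions

set_option autoImplicit false
universe u
open CAlg

namespace Groth.Agent.S6868

/-- (1) ⇔ (3) ⇔ (4): for a Noetherian domain `R` and a nonzero finite `R`-module `M`, torsion-freeness
of `M` is equivalent to `(0)` being the unique associated prime of `M`, and also to the conjunction:
`(0)` belongs to the support of `M` and `M` satisfies Serre's condition `(S_1)`. (The published
statement also lists embedding into a finite free module and the absence of embedded associated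
primes; this row states the other three conditions.) -/
theorem result (R : Type u) [CommRing R]
    [IsDomain R] [IsNoetherianRing R] (M : Type u) [AddCommGroup M] [Module R M] [Module.Finite R M] [Nontrivial M] :
    (Module.IsTorsionFree R M ↔ associatedPrimes R M = {⊥}) ∧
    (Module.IsTorsionFree R M ↔
      (⟨⊥, Ideal.isPrime_bot⟩ : PrimeSpectrum R) ∈ Module.support R M ∧ LocCoh.HasSk 1 R M) := by
  have hann : Module.IsTorsionFree R M → Module.annihilator R M = ⊥ := fun _ => by
    obtain ⟨m, hm⟩ := exists_ne (0 : M)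
    exact le_bot_iff.mp fun r hr =>
      Ideal.mem_bot.mpr ((smul_eq_zero.mp (Module.mem_annihilator.mp hr m)).resolve_right hm)
  have h1 : Module.IsTorsionFree R M → associatedPrimes R M = {⊥} := fun _ => by
    refine (Set.eq_singleton_iff_nonempty_unique_mem.mpr
      ⟨associatedPrimes.nonempty R M, fun p hp => ?_⟩)
    obtain ⟨hpp, x, hx⟩ := isAssociatedPrime_iff.mp hp
    refine le_bot_iff.mp fun r hr => ?_
    rw [hx, Submodule.mem_colon_singleton, Submodule.mem_bot] at hr
    rcases smul_eq_zero.mp hr with h | h
    · exact Ideal.mem_bot.mpr h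
    · exact absurd (by rw [hx, h]; simp) hpp.ne_top
  have h2 : associatedPrimes R M = {⊥} → Module.IsTorsionFree R M := fun h =>
    ⟨fun c hc x y hxy => by
      by_contra hne
      have hmem : c ∈ ⋃ p ∈ associatedPrimes R M, (p : Set R) := by
        rw [biUnion_associatedPrimes_eq_zero_divisors]
        exact ⟨x - y, sub_ne_zero.mpr hne, by rw [smul_sub]; exact sub_eq_zero.mpr hxy⟩
      rw [h] at hmem
      simp only [Set.mem_singleton_iff, Set.iUnion_iUnion_eq_left] at hmem
      exact hc.ne_zero (Ideal.mem_bot.mp hmem)⟩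
  refine ⟨⟨h1, h2⟩, ⟨fun hT => ⟨?_, ?_⟩, fun ⟨hsupp, hS⟩ => h2 ?_⟩⟩
  · exact Module.mem_support_iff_of_finite.mpr (hann hT).le
  · rw [Groth.Calg1.hasSk_one_iff, h1 hT, hann hT]
    intro p hp
    rw [Set.mem_singleton_iff.mp hp]
    exact ⟨⟨Ideal.isPrime_bot, le_rfl⟩, fun q _ _ => bot_le⟩
  · refine Set.eq_singleton_iff_nonempty_unique_mem.mpr
      ⟨associatedPrimes.nonempty R M, fun p hp => ?_⟩
    have hle : Module.annihilator R M ≤ ⊥ := Module.mem_support_iff_of_finite.mp hsupp
    have hmin := Groth.Calg1.hasSk_one_iff.mp hS p hp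
    exact le_bot_iff.mp (hmin.2 ⟨Ideal.isPrime_bot, hle⟩ bot_le)

end Groth.Agent.S6868
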