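import Groth.Statements.S6871
import Groth.Agent.PropsBasic.ReflexiveRankOne

set_option autoImplicit false
set_option linter.style.haveILetI false
universe u
open CAlg

namespace Groth.Agent.S6871

theorem bijective_eval_of_forall_maximal (R : Type u) [CommRing R] [IsNoetherianRing R] (M : Type u)
    [AddCommGroup M] [Module R M] [Module.Finite R M]
    (h : ∀ (m : Ideal R) (_ : m.IsMaximal), Function.Bijective
      (Module.Dual.eval (Localization.AtPrime m) (LocalizedModule m.primeCompl M))) :
    Function.Bijective (Module.Dual.eval R M) := by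
  constructor
  · rw [injective_iff_map_eq_zero]
    intro u hu
    refine Module.eq_zero_of_localization_maximal
      (fun (m : Ideal R) (_ : m.IsMaximal) => LocalizedModule m.primeCompl M)
      (fun (m : Ideal R) (_ : m.IsMaximal) => LocalizedModule.mkLinearMap m.primeCompl M) u fun m hm => ?_
    have := Module.finitePresentation_of_finite R M
    let Q := Localization.AtPrime m
    let mk := LocalizedModule.mkLinearMap m.primeCompl M
    refine (h m hm).1 (LinearMap.ext fun G => ?_)
    obtain ⟨⟨f, t⟩, hft⟩ := IsLocalizedModule.surj m.primeCompl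
      (IsLocalizedModule.mapExtendScalars m.primeCompl mk (Algebra.linearMap R Q) Q) G
    have h1 : t • G (mk u) = algebraMap R Q (f u) := by
      have h2 : IsLocalizedModule.mapExtendScalars m.primeCompl mk (Algebra.linearMap R Q) Q f (mk u) =
          algebraMap R Q (f u) := IsLocalizedModule.map_apply m.primeCompl mk (Algebra.linearMap R Q) f u
      rw [← h2, ← hft]
      rfl
    have h3 : f u = 0 := LinearMap.congr_fun hu f
    rw [h3, map_zero] at h1
    rw [Module.Dual.eval_apply, map_zero, LinearMap.zero_apply]
    exact IsLocalizedModule.smul_injective (Algebra.linearMap R Q) t (h1.trans (smul_zero t).symm)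
  · intro Ψ
    let N : Ideal R := (LinearMap.range (Module.Dual.eval R M)).colon {Ψ}
    by_contra hne
    have hN : N ≠ ⊤ := fun e => hne (by
      have h1 : (1 : R) ∈ N := e ▸ Submodule.mem_top
      simpa [N, Submodule.mem_colon_singleton] using h1)
    obtain ⟨m, hm, hle⟩ := Ideal.exists_le_maximal N hN
    have := Module.finitePresentation_of_finite R M
    haveI : Module.FinitePresentation R (Module.Dual R M) := Module.finitePresentation_of_finite R _
    let Q := Localization.AtPrime m
    let mk := LocalizedModule.mkLinearMap m.primeCompl M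
    let φ := IsLocalizedModule.mapExtendScalars m.primeCompl mk (Algebra.linearMap R Q) Q
    let Ψm : Module.Dual Q (Module.Dual Q (LocalizedModule m.primeCompl M)) :=
      IsLocalizedModule.mapExtendScalars m.primeCompl φ (Algebra.linearMap R Q) Q Ψ
    obtain ⟨v, hv⟩ := (h m hm).2 Ψm
    obtain ⟨⟨u, s⟩, hus⟩ := IsLocalizedModule.surj m.primeCompl mk v
    have h1 : ∀ f : Module.Dual R M, φ f v = algebraMap R Q (Ψ f) := fun f => by
      have h2 : Ψm (φ f) = algebraMap R Q (Ψ f) :=
        IsLocalizedModule.map_apply m.primeCompl φ (Algebra.linearMap R Q) Ψ f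
      rw [← hv] at h2
      exact h2
    have h4 : (Algebra.linearMap R Q) ∘ₗ (Module.Dual.eval R M u) =
        (Algebra.linearMap R Q) ∘ₗ ((s : R) • Ψ) := LinearMap.ext fun f => by
      have h5 : φ f (mk u) = algebraMap R Q (f u) :=
        IsLocalizedModule.map_apply m.primeCompl mk (Algebra.linearMap R Q) f u
      show algebraMap R Q (f u) = algebraMap R Q ((s : R) • Ψ f)
      have hus' : mk u = (s : R) • v := hus.symm
      rw [← h5, hus', LinearMap.map_smul_of_tower, h1, smul_eq_mul, map_mul, Algebra.smul_def]
    obtain ⟨t, ht⟩ := Module.Finite.exists_smul_of_comp_eq_of_isLocalizedModule m.primeCompl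
      (Algebra.linearMap R Q) _ _ h4
    refine (t * s).2 (hle ?_)
    rw [Submodule.mem_colon_singleton]
    refine ⟨(t : R) • u, ?_⟩
    rw [map_smul, Submonoid.coe_mul, mul_smul]
    exact ht

/-- Let `R` be a Noetherian domain and `M` a finite `R`-module. Then `M` is reflexive if and only if
`M_𝔭` is a reflexive `R_𝔭`-module for every prime `𝔭`, if and only if `M_𝔪` is a reflexive
`R_𝔪`-module for every maximal ideal `𝔪`. -/
theorem result (R : Type u) [CommRing R] [IsDomain R] [IsNoetherianRing R] (M : Type u)
    [AddCommGroup M] [Module R M] [Module.Finite R M] :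
    (Module.IsReflexive R M ↔
      ∀ (p : Ideal R) [p.IsPrime], Module.IsReflexive (Localization.AtPrime p) (LocalizedModule p.primeCompl M)) ∧
    (Module.IsReflexive R M ↔
      ∀ (m : Ideal R) (_ : m.IsMaximal),
        Module.IsReflexive (Localization.AtPrime m) (LocalizedModule m.primeCompl M)) := by
  have h1 : Module.IsReflexive R M → ∀ (p : Ideal R) [p.IsPrime],
      Module.IsReflexive (Localization.AtPrime p) (LocalizedModule p.primeCompl M) := fun h p _ =>
    ⟨Groth.PropsBasic.localization_eval_bijective p.primeCompl h.1⟩
  have h2 : (∀ (m : Ideal R) (_ : m.IsMaximal),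
      Module.IsReflexive (Localization.AtPrime m) (LocalizedModule m.primeCompl M)) →
      Module.IsReflexive R M := fun h =>
    ⟨bijective_eval_of_forall_maximal R M fun m hm => (h m hm).1⟩
  exact ⟨⟨h1, fun h => h2 fun m _ => h m⟩, ⟨fun h m _ => h1 h m, h2⟩⟩

end Groth.Agent.S6871
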