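import Groth.Statements.S6876
import Groth.Agent.LocCohBase.Depth
import Mathlib
-- import your own Groth.Agent.* helpers here

set_option autoImplicit false
universe u
open CAlg

namespace Groth.Agent.S6876

open RingTheory.Sequence in
theorem key (R : Type u) [CommRing R] [IsNoetherianRing R] [IsLocalRing R]
    (M N : Type u) [AddCommGroup M] [Module R M] [Module.Finite R M] [AddCommGroup N] [Module R N] [Module.Finite R N]
    (n : ℕ) (_hn : 1 ≤ n) (hn2 : n ≤ 2) (h : (n : ℕ∞) ≤ LocCoh.depth R N) : (n : ℕ∞) ≤ LocCoh.depth R (M →ₗ[R] N) := by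
  by_cases hH : IsLocalRing.maximalIdeal R • (⊤ : Submodule R (M →ₗ[R] N)) = ⊤
  · show _ ≤ LocCoh.idealDepth _ _
    rw [Groth.LocCohBase.idealDepth_eq_top_of_smul_top_eq_top hH]
    exact le_top
  have hN : IsLocalRing.maximalIdeal R • (⊤ : Submodule R N) ≠ ⊤ := by
    intro hN
    haveI : Subsingleton N := by
      have h0 : (⊤ : Submodule R N) = ⊥ :=
        Submodule.eq_bot_of_le_smul_of_le_jacobson_bot _ _ Module.Finite.fg_top hN.ge (IsLocalRing.maximalIdeal_le_jacobson _)
      exact Submodule.subsingleton_iff R |>.1 (subsingleton_iff_bot_eq_top.1 h0.symm)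
    exact hH (Subsingleton.elim _ _)
  obtain ⟨rs, hlen, hreg, hmem⟩ := (Groth.LocCohBase.le_idealDepth_iff_exists _ hN n).1 h
  refine (Groth.LocCohBase.le_idealDepth_iff_exists _ hH n).2 ⟨rs, hlen, ?_, hmem⟩
  have hreg1 : ∀ {P : Type u} [AddCommGroup P] [Module R P] (x : R), IsSMulRegular P x → IsSMulRegular (M →ₗ[R] P) x :=
    fun {P} _ _ x hx a b hab => LinearMap.ext fun m => hx (LinearMap.congr_fun hab m)
  match rs, hlen with
  | [], _ => exact IsWeaklyRegular.nil R _
  | [x], _ =>
    rw [isWeaklyRegular_singleton_iff] at hreg ⊢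
    exact hreg1 x hreg
  | [x, y], _ =>
    rw [isWeaklyRegular_cons_iff, isWeaklyRegular_singleton_iff] at hreg ⊢
    obtain ⟨hx, hy⟩ := hreg
    refine ⟨hreg1 x hx, ?_⟩
    let φ : QuotSMulTop x (M →ₗ[R] N) →ₗ[R] (M →ₗ[R] QuotSMulTop x N) :=
      Submodule.liftQ _ (LinearMap.llcomp R M N (QuotSMulTop x N) (Submodule.mkQ _)) (fun g hg => by
        obtain ⟨g', -, rfl⟩ := (Submodule.mem_smul_pointwise_iff_exists _ _ _).1 hg
        refine LinearMap.ext fun m => (Submodule.Quotient.mk_eq_zero _).2 ?_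
        exact Submodule.smul_mem_pointwise_smul (g' m) x ⊤ trivial)
    have hφ : Function.Injective φ := by
      rw [injective_iff_map_eq_zero]
      intro g hg
      obtain ⟨g, rfl⟩ := Submodule.Quotient.mk_surjective _ g
      have hm : ∀ m, g m ∈ LinearMap.range (LinearMap.lsmul R N x) := fun m => by
        obtain ⟨z, -, hz⟩ := (Submodule.mem_smul_pointwise_iff_exists _ _ _).1
          ((Submodule.Quotient.mk_eq_zero _).1 (LinearMap.congr_fun hg m))
        exact ⟨z, hz⟩
      let e := LinearEquiv.ofInjective (LinearMap.lsmul R N x) hx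
      refine (Submodule.Quotient.mk_eq_zero _).2 ((Submodule.mem_smul_pointwise_iff_exists _ _ _).2
        ⟨e.symm.toLinearMap ∘ₗ g.codRestrict _ hm, trivial, LinearMap.ext fun m => ?_⟩)
      exact congrArg Subtype.val (e.apply_symm_apply ⟨g m, hm m⟩)
    intro a b hab
    refine hφ (hreg1 y hy ?_)
    have := congrArg φ hab
    simpa [map_smul] using this
  | _ :: _ :: _ :: _, hl => simp at hl; omega

/-- Let `R` be a Noetherian local ring and `M, N` finite `R`-modules. If `N` has depth `≥ 1` then so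
does `Hom_R(M, N)`; if `N` has depth `≥ 2` then so does `Hom_R(M, N)`. -/
theorem result (R : Type u) [CommRing R] [IsNoetherianRing R] [IsLocalRing R]
    (M N : Type u) [AddCommGroup M] [Module R M] [Module.Finite R M] [AddCommGroup N] [Module R N] [Module.Finite R N] :
    (1 ≤ LocCoh.depth R N → 1 ≤ LocCoh.depth R (M →ₗ[R] N)) ∧
    (2 ≤ LocCoh.depth R N → 2 ≤ LocCoh.depth R (M →ₗ[R] N)) := by
  exact ⟨key R M N 1 le_rfl (by norm_num), key R M N 2 (by norm_num) le_rfl⟩

end Groth.Agent.S6876
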