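import Groth.Statements.S6877
import Groth.Agent.CohTwo.HomDepth
import Groth.Agent.LocCohBase.Depth
import Mathlib.Algebra.Module.FinitePresentation
-- import your own Groth.Agent.* helpers here

set_option autoImplicit false
universe u
open CAlg

namespace Groth.Agent.S6877

lemma hasSk_hom {R : Type u} [CommRing R] [IsNoetherianRing R] {M N : Type u} [AddCommGroup M] [Module R M]
    [Module.Finite R M] [AddCommGroup N] [Module R N] [Module.Finite R N] {k : ℕ} (hk : k ≤ 2)
    (h : LocCoh.HasSk k R N) : LocCoh.HasSk k R (M →ₗ[R] N) := by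
  intro p _
  let L := Localization.AtPrime p
  let Mp := LocalizedModule p.primeCompl M
  let Np := LocalizedModule p.primeCompl N
  haveI := Module.finitePresentation_of_finite R M
  let F : (M →ₗ[R] N) →ₗ[R] (Mp →ₗ[L] Np) :=
    IsLocalizedModule.mapExtendScalars p.primeCompl (LocalizedModule.mkLinearMap p.primeCompl M)
      (LocalizedModule.mkLinearMap p.primeCompl N) L
  haveI : IsLocalizedModule p.primeCompl F := Module.FinitePresentation.isLocalizedModule_mapExtendScalars _ _ _ _
  let e : LocalizedModule p.primeCompl (M →ₗ[R] N) ≃ₗ[L] (Mp →ₗ[L] Np) :=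
    LinearEquiv.extendScalarsOfIsLocalization p.primeCompl L (IsLocalizedModule.iso p.primeCompl F)
  haveI : IsNoetherianRing L := IsLocalization.isNoetherianRing p.primeCompl L inferInstance
  have hd : LocCoh.depth L (LocalizedModule p.primeCompl (M →ₗ[R] N)) = LocCoh.depth L (Mp →ₗ[L] Np) :=
    Groth.LocCohBase.idealDepth_congr e
  rw [Module.supportDim_eq_of_equiv e, hd]
  obtain ⟨j, hj, hj2⟩ : ∃ j : ℕ, j ≤ k ∧
      (min (k : WithBot ℕ∞) (Module.supportDim L (Mp →ₗ[L] Np)) ≤ ((j : ℕ∞) : WithBot ℕ∞) ∧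
        (j : ℕ∞) ≤ LocCoh.idealDepth (IsLocalRing.maximalIdeal L) Np) := by
    have h0 := le_trans (min_le_min_left (k : WithBot ℕ∞)
      (Groth.CohTwo.HomDepth.supportDim_hom_le (R := L) (N := Mp) (M := Np))) (h p)
    cases hd' : LocCoh.depth L Np with
    | top => exact ⟨k, le_rfl, le_trans (min_le_left _ _) (le_of_eq rfl), by
        rw [show LocCoh.idealDepth (IsLocalRing.maximalIdeal L) Np = ⊤ from hd']; exact le_top⟩
    | coe d =>
      by_cases hdk : k ≤ d
      · exact ⟨k, le_rfl, le_trans (min_le_left _ _) (le_of_eq rfl), by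
          rw [show LocCoh.idealDepth (IsLocalRing.maximalIdeal L) Np = (d : ℕ∞) from hd']; exact_mod_cast hdk⟩
      · refine ⟨d, (not_le.mp hdk).le, ?_, (le_of_eq (show LocCoh.idealDepth (IsLocalRing.maximalIdeal L) Np = (d : ℕ∞) from hd').symm)⟩
        exact h0.trans (le_of_eq (by rw [← hd']))
  exact hj2.1.trans (WithBot.coe_le_coe.mpr
    (Groth.CohTwo.HomDepth.le_idealDepth_hom (N := Mp) (hj.trans hk) hj2.2))

/-- Let `R` be a Noetherian ring and `M, N` finite `R`-modules. If `N` has `(S_1)`, resp. `(S_2)`, then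
so does `Hom_R(M, N)`. (The published statement has a third part, over a domain: `N` torsion free
with `(S_2)` implies the same for `Hom_R(M, N)`; this row states parts one and two.) -/
theorem result (R : Type u) [CommRing R] [IsNoetherianRing R]
    (M N : Type u) [AddCommGroup M] [Module R M] [Module.Finite R M] [AddCommGroup N] [Module R N] [Module.Finite R N] :
    (LocCoh.HasSk 1 R N → LocCoh.HasSk 1 R (M →ₗ[R] N)) ∧
    (LocCoh.HasSk 2 R N → LocCoh.HasSk 2 R (M →ₗ[R] N)) := by
  exact ⟨hasSk_hom (by norm_num), hasSk_hom le_rfl⟩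

end Groth.Agent.S6877
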