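import Groth.Statements.S6878
-- import your own Groth.Agent.* helpers here

set_option autoImplicit false
universe u
open CAlg

namespace Groth.Agent.S6878

/-- Let `R` be a Noetherian ring and `φ : M → N` a map of `R`-modules. Suppose that for every prime `𝔭`
of `R` either `M_𝔭 → N_𝔭` is injective or `𝔭` is not an associated prime of `M`. Then `φ` is
injective. -/
theorem result (R : Type u) [CommRing R]
    [IsNoetherianRing R] {M N : Type u} [AddCommGroup M] [Module R M] [AddCommGroup N] [Module R N] (φ : M →ₗ[R] N)
    (h : ∀ (p : Ideal R) [p.IsPrime],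
      Function.Injective (LocalizedModule.map p.primeCompl φ) ∨ p ∉ associatedPrimes R M) :
    Function.Injective φ := by
  rw [← LinearMap.ker_eq_bot]
  by_contra hne
  have : Nontrivial (LinearMap.ker φ) := Submodule.nontrivial_iff_ne_bot.2 hne
  obtain ⟨p, hp⟩ := associatedPrimes.nonempty R (LinearMap.ker φ)
  obtain ⟨hprime, y, hy⟩ := (isAssociatedPrime_iff).1 hp
  rcases h p with hinj | hnot
  · have h0 : LocalizedModule.mkLinearMap p.primeCompl M (y : M) = 0 := hinj (by
      rw [LocalizedModule.mkLinearMap_apply, LocalizedModule.map_mk, map_zero,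
        LinearMap.mem_ker.1 y.2, LocalizedModule.zero_mk])
    obtain ⟨s, hs⟩ := (IsLocalizedModule.eq_zero_iff p.primeCompl _).1 h0
    refine s.2 (hy.ge ?_)
    rw [Submodule.mem_colon_singleton, Submodule.mem_bot]
    exact Subtype.ext hs
  · exact hnot (associatedPrimes.subset_of_injective (LinearMap.ker φ).injective_subtype hp)

end Groth.Agent.S6878
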