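import Groth.Statements.S6879
import Groth.Agent.MiscGeom.SkDualModule
import Groth.Agent.PropsBasic.ReflexiveRankOne

set_option autoImplicit false
universe u
open CAlg

namespace Groth.Agent.S6879

/-- Let `R` be a Noetherian domain and `M` a finite `R`-module. Then `M` is reflexive if and only if for
every prime `𝔭` of `R` either `M_𝔭` is a reflexive `R_𝔭`-module or `depth(M_𝔭) ≥ 2`. -/
theorem result (R : Type u) [CommRing R] [IsDomain R]
    [IsNoetherianRing R] (M : Type u) [AddCommGroup M] [Module R M] [Module.Finite R M] :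
    Module.IsReflexive R M ↔ ∀ (p : Ideal R) [p.IsPrime],
      Module.IsReflexive (Localization.AtPrime p) (LocalizedModule p.primeCompl M) ∨
        2 ≤ LocCoh.depth (Localization.AtPrime p) (LocalizedModule p.primeCompl M) := by
  refine ⟨fun h p _ => Or.inl ⟨Groth.PropsBasic.localization_eval_bijective p.primeCompl
    (Module.bijective_dual_eval R M)⟩, fun h => ?_⟩
  let ev := Module.Dual.eval R M
  suffices key : ∀ p : Ideal R, p.IsPrime → (∀ m : M, ev m = 0 → ∃ t ∉ p, t • m = 0) ∧
      (∀ y, ∃ t ∉ p, t • y ∈ LinearMap.range ev) by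
    refine ⟨(injective_iff_map_eq_zero _).2 fun m hm => ?_, fun y => LinearMap.mem_range.1 ?_⟩
    · by_contra hm0
      obtain ⟨p, hp, hle⟩ := Ideal.exists_le_maximal (LinearMap.ker (LinearMap.toSpanSingleton R M m))
        (fun e => hm0 (by simpa using (e ▸ Submodule.mem_top : (1 : R) ∈ LinearMap.ker (LinearMap.toSpanSingleton R M m))))
      obtain ⟨t, ht, ht0⟩ := (key p hp.isPrime).1 m hm
      exact ht (hle (by simpa using ht0))
    · by_contra hy
      obtain ⟨p, hp, hle⟩ := Ideal.exists_le_maximal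
        ((LinearMap.range ev).comap (LinearMap.toSpanSingleton R _ y))
        (fun e => hy (by simpa using (e ▸ Submodule.mem_top : (1 : R) ∈ (LinearMap.range ev).comap (LinearMap.toSpanSingleton R _ y))))
      obtain ⟨t, ht, ht0⟩ := (key p hp.isPrime).2 y
      exact ht (hle (by simpa using ht0))
  suffices key' : ∀ P : PrimeSpectrum R, (∀ m : M, ev m = 0 → ∃ t ∉ P.asIdeal, t • m = 0) ∧
      (∀ y, ∃ t ∉ P.asIdeal, t • y ∈ LinearMap.range ev) from fun p hp => key' ⟨p, hp⟩
  intro P
  induction hn : P.asIdeal.height using WellFoundedLT.induction generalizing P with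
  | ind n ih' =>
  have ih : ∀ Q : PrimeSpectrum R, Q < P → (∀ m : M, ev m = 0 → ∃ t ∉ Q.asIdeal, t • m = 0) ∧
      (∀ y, ∃ t ∉ Q.asIdeal, t • y ∈ LinearMap.range ev) := fun Q hQ =>
    ih' _ (hn ▸ Ideal.height_strict_mono_of_isPrime (I := Q.asIdeal) (J := P.asIdeal) hQ) Q rfl
  have hrefl : Module.IsReflexive (Localization.AtPrime P.asIdeal) (LocalizedModule P.asIdeal.primeCompl M) →
      _ := Groth.DepthRefl.exists_kill M P.asIdeal
  rcases h P.asIdeal with hr | hd
  · exact hrefl hr
  by_cases hP : P.asIdeal = ⊥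
  · haveI : IsFractionRing R (Localization.AtPrime P.asIdeal) := by
      have e : P.asIdeal.primeCompl = nonZeroDivisors R := by
        ext x; simp [hP, mem_nonZeroDivisors_iff_ne_zero]
      show IsLocalization (nonZeroDivisors R) _
      rw [← e]; infer_instance
    letI := IsFractionRing.toField R (K := Localization.AtPrime P.asIdeal)
    exact hrefl ⟨Module.bijective_dual_eval _ _⟩
  let B := Localization.AtPrime P.asIdeal
  let S := P.asIdeal.primeCompl
  have hsmall : ∀ Q : PrimeSpectrum B, ¬ IsLocalRing.maximalIdeal B ≤ Q.asIdeal →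
      PrimeSpectrum.comap (algebraMap R B) Q < P := by
    intro Q hQ
    have hle : Q.asIdeal.comap (algebraMap R B) ≤ P.asIdeal := by
      refine le_trans (Ideal.comap_mono (IsLocalRing.le_maximalIdeal Q.2.ne_top)) (le_of_eq ?_)
      exact IsLocalization.AtPrime.under_maximalIdeal B P.asIdeal
    refine lt_of_le_of_ne hle fun e => hQ ?_
    replace e := congrArg PrimeSpectrum.asIdeal e
    rw [← IsLocalization.map_comap S B Q.asIdeal, ← IsLocalization.map_comap S B (IsLocalRing.maximalIdeal B)]
    exact Ideal.map_mono (le_trans (IsLocalization.AtPrime.under_maximalIdeal B P.asIdeal).le (Eq.symm e).le)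
  have hd1 : 1 ≤ LocCoh.idealDepth (IsLocalRing.maximalIdeal B) (LocalizedModule S M) := le_trans one_le_two hd
  have hK : ∀ m : M, ev m = 0 → LocalizedModule.mkLinearMap S M m = 0 := fun m hm => by
    refine Groth.DepthRefl.eq_zero_of_killed _ hd1 _ fun Q hQ => ?_
    obtain ⟨t, ht, ht0⟩ := (ih _ (hsmall Q hQ)).1 m hm
    exact ⟨algebraMap R B t, ht, by rw [algebraMap_smul, ← map_smul, ht0, map_zero]⟩
  refine ⟨fun m hm => ?_, fun y => ?_⟩
  · obtain ⟨t, ht⟩ := (IsLocalizedModule.eq_zero_iff S (LocalizedModule.mkLinearMap S M)).1 (hK m hm)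
    exact ⟨t.1, t.2, ht⟩
  let C := Module.Dual R (Module.Dual R M) ⧸ LinearMap.range ev
  let f := LocalizedModule.map S ev
  let g := LocalizedModule.map S (LinearMap.range ev).mkQ
  have hf : Function.Injective f := (injective_iff_map_eq_zero _).2 fun v hv => by
    induction v using LocalizedModule.induction_on with
    | h m s =>
      rw [show f (LocalizedModule.mk m s) = LocalizedModule.mk (ev m) s from LocalizedModule.map_mk _ _ _ _] at hv
      obtain ⟨t, ht⟩ := LocalizedModule.mk_eq.1 (hv.trans (LocalizedModule.zero_mk s).symm)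
      have hz : ev ((t : R) • (s : R) • m) = 0 := by
        simpa [Submonoid.smul_def] using ht
      obtain ⟨u, hu⟩ := (IsLocalizedModule.eq_zero_iff S (LocalizedModule.mkLinearMap S M)).1 (hK _ hz)
      rw [← LocalizedModule.zero_mk s, LocalizedModule.mk_eq]
      exact ⟨u * t, by simpa [Submonoid.smul_def, mul_smul] using hu⟩
  have hg : Function.Surjective g := LocalizedModule.map_surjective S _ (Submodule.mkQ_surjective _)
  have hfg : Function.Exact f g :=
    LocalizedModule.map_exact S ev _ (LinearMap.exact_iff.2 (Submodule.ker_mkQ _))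
  have hR1 : 1 ≤ LocCoh.idealDepth P.asIdeal R := by
    obtain ⟨x, hx, hx0⟩ := Submodule.exists_mem_ne_zero_of_ne_bot hP
    exact_mod_cast (Groth.LocCohBase.le_idealDepth_iff_exists P.asIdeal
      (by simpa using P.2.ne_top : P.asIdeal • (⊤ : Submodule R R) ≠ ⊤) 1).2
      ⟨[x], rfl, (RingTheory.Sequence.isWeaklyRegular_singleton_iff _ _).2
        (isSMulRegular_iff_right_eq_zero_of_smul.2 fun m hm => (mul_eq_zero.1 hm).resolve_left hx0),
        by simpa using hx⟩
  have hDD : 1 ≤ LocCoh.idealDepth (IsLocalRing.maximalIdeal B) (LocalizedModule S (Module.Dual R (Module.Dual R M))) :=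
    (Groth.MiscGeom.QGor.one_le_depth_dual P.asIdeal hR1 _).trans
      (Groth.LocCohBase.idealDepth_le_depth_localized P.asIdeal P.asIdeal le_rfl _)
  have hC : 1 ≤ LocCoh.idealDepth (IsLocalRing.maximalIdeal B) (LocalizedModule S C) := by
    refine le_trans (le_min hDD ?_) (Groth.LocCohBase.idealDepth_shortExact _ f g hf hg hfg).2.1
    change (2 : ℕ∞) ≤ LocCoh.idealDepth (IsLocalRing.maximalIdeal B) (LocalizedModule S M) at hd
    revert hd
    generalize LocCoh.idealDepth (IsLocalRing.maximalIdeal B) (LocalizedModule S M) = x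
    cases x <;> intro hd
    · exact le_top
    · norm_cast at hd ⊢
      omega
  have h0 : LocalizedModule.mkLinearMap S C (Submodule.Quotient.mk y) = 0 := by
    refine Groth.DepthRefl.eq_zero_of_killed _ hC _ fun Q hQ => ?_
    obtain ⟨t, ht, ht0⟩ := (ih _ (hsmall Q hQ)).2 y
    refine ⟨algebraMap R B t, ht, ?_⟩
    rw [algebraMap_smul, ← map_smul, ← Submodule.Quotient.mk_smul, (Submodule.Quotient.mk_eq_zero _).2 ht0, map_zero]
  obtain ⟨t, ht⟩ := (IsLocalizedModule.eq_zero_iff S (LocalizedModule.mkLinearMap S C)).1 h0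
  refine ⟨t.1, t.2, ?_⟩
  rw [← Submodule.Quotient.mk_eq_zero (p := LinearMap.range ev), Submodule.Quotient.mk_smul]
  exact ht

end Groth.Agent.S6879
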