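import Groth.Statements.S6881
import Mathlib
import Groth.Agent.Calg3.DualTF

set_option autoImplicit false
universe u
open CAlg

namespace Groth.Agent.S6881
open Groth.Calg3


/-- For `A` a Noetherian integrally closed domain with fraction field `K` and `L/K` a finite field
extension, if the integral closure of `A` in `L` is a finitely generated `A`-module then it is a
reflexive `A`-module. -/
theorem result (A K L : Type u) [CommRing A] [IsDomain A] [IsNoetherianRing A]
    [IsIntegrallyClosed A] [Field K] [Algebra A K] [IsFractionRing A K] [Field L] [Algebra K L] [FiniteDimensional K L]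
    [Algebra A L] [IsScalarTower A K L] [Module.Finite A ↥(integralClosure A L)] :
    Module.IsReflexive A ↥(integralClosure A L) := by
  set B := integralClosure A L
  have hAL : Function.Injective (algebraMap A L) := by
    rw [IsScalarTower.algebraMap_eq A K L]
    exact (algebraMap K L).injective.comp (IsFractionRing.injective A K)
  have : Module.IsTorsionFree A L := isTorsionFree_of_smul_eq_zero fun c x hc hx => by
    rw [Algebra.smul_def, mul_eq_zero] at hx
    exact hx.resolve_left ((map_ne_zero_iff _ hAL).mpr hc)
  have : Module.IsTorsionFree A B := isTorsionFree_of_injective B.val.toLinearMap Subtype.val_injective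
  obtain ⟨d, hd, -, hco⟩ := exists_smul_mem_range_eval A B
  have hinj := eval_injective_of_torsionFree A B
  let b : Module.Dual A (Module.Dual A B) →ₗ[A] B :=
    (LinearEquiv.ofInjective _ hinj).symm.toLinearMap ∘ₗ
      (d • LinearMap.id : Module.Dual A (Module.Dual A B) →ₗ[A] _).codRestrict _ hco
  have hb : ∀ y, Module.Dual.eval A B (b y) = d • y := fun y =>
    congrArg Subtype.val ((LinearEquiv.ofInjective _ hinj).apply_symm_apply ⟨d • y, hco y⟩)
  have hdL : algebraMap A L d ≠ 0 := (map_ne_zero_iff _ hAL).mpr hd
  let j : Module.Dual A (Module.Dual A B) →ₗ[A] L :=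
    (LinearMap.mulLeft A (algebraMap A L d)⁻¹) ∘ₗ B.val.toLinearMap ∘ₗ b
  have hj : ∀ y, algebraMap A L d * j y = (b y : L) := fun y => by
    simp [j, mul_inv_cancel_left₀ hdL]
  have hjev : ∀ x : B, j (Module.Dual.eval A B x) = (x : L) := by
    intro x
    apply mul_left_cancel₀ hdL
    rw [hj, show b (Module.Dual.eval A B x) = d • x from hinj (by rw [hb, map_smul])]
    simp [Algebra.smul_def]
  let shift : Module.Dual A B →ₗ[A] B →ₗ[A] Module.Dual A B :=
    { toFun := fun φ => (LinearMap.mul A B).compr₂ φ
      map_add' := fun _ _ => rfl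
      map_smul' := fun _ _ => rfl }
  let star (y y' : Module.Dual A (Module.Dual A B)) : Module.Dual A (Module.Dual A B) :=
    { toFun := fun φ => y (y' ∘ₗ shift φ)
      map_add' := fun a a' => by
        rw [← map_add]; congr 1; ext; simp
      map_smul' := fun c a => by
        rw [RingHom.id_apply, ← map_smul]; congr 1; ext; simp }
  have hmul : ∀ y y', j (star y y') = j y * j y' := by
    intro y y'
    have e1 : (d * d) • star y y' = Module.Dual.eval A B (b y * b y') := by
      refine LinearMap.ext fun φ => ?_
      have f1 : d • y' ∘ₗ shift φ = (shift φ).flip (b y') := by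
        refine LinearMap.ext fun x => ?_
        simp only [LinearMap.smul_apply, LinearMap.comp_apply]
        rw [← LinearMap.smul_apply, ← hb y']
        rfl
      have f2 := LinearMap.congr_fun (hb y) ((shift φ).flip (b y'))
      calc ((d * d) • star y y') φ = d • y (d • y' ∘ₗ shift φ) := by
            simp [star, mul_smul]
        _ = (d • y) ((shift φ).flip (b y')) := by rw [f1]; rfl
        _ = Module.Dual.eval A B (b y) ((shift φ).flip (b y')) := by rw [hb]
        _ = Module.Dual.eval A B (b y * b y') φ := rfl
    have e2 := congrArg j e1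
    rw [map_smul, hjev, MulMemClass.coe_mul, ← hj, ← hj, Algebra.smul_def, map_mul] at e2
    apply mul_left_cancel₀ hdL
    apply mul_left_cancel₀ hdL
    linear_combination e2
  have hfg : (LinearMap.range j).FG := Module.Finite.iff_fg.mp (Module.Finite.range j)
  let S : Subalgebra A L := (LinearMap.range j).toSubalgebra ⟨Module.Dual.eval A B 1, by rw [hjev]; rfl⟩
    (by rintro _ _ ⟨y, rfl⟩ ⟨y', rfl⟩; exact ⟨star y y', hmul y y'⟩)
  have hmem : ∀ y, j y ∈ B := fun y =>
    IsIntegral.of_mem_of_fg S (by simp only [S, Submodule.toSubalgebra_toSubmodule]; exact hfg) (j y) (LinearMap.mem_range_self j y)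
  refine ⟨⟨hinj, fun y => ⟨⟨j y, hmem y⟩, ?_⟩⟩⟩
  have : Module.IsTorsionFree A (Module.Dual A (Module.Dual A B)) := linearMap_torsionFree
  apply smul_right_injective _ hd
  show d • Module.Dual.eval A B ⟨j y, hmem y⟩ = d • y
  rw [← map_smul, ← hb]
  congr 1
  ext
  simp [Algebra.smul_def, hj]

end Groth.Agent.S6881
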