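import Groth.Statements.S6882
import Mathlib
import Groth.Agent.Calg3.DualTF

set_option autoImplicit false
universe u
open CAlg

namespace Groth.Agent.S6882
open Groth.Calg3


/-- For a finite module `M` over a discrete valuation ring `R`, the evaluation map from `M` to its
double dual `M**` is surjective. -/
theorem result (R : Type u) [CommRing R] [IsDomain R]
    [IsDiscreteValuationRing R] (M : Type u) [AddCommGroup M] [Module R M] [Module.Finite R M] :
    Function.Surjective (Module.Dual.eval R M) := by
  obtain ⟨g, h, d, hd, -, h1, -⟩ := exists_finrank_pair R M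
  let q : M →ₗ[R] LinearMap.range h := h.rangeRestrict
  have hq : Function.Surjective q := h.surjective_rangeRestrict
  have : Module.Free R (LinearMap.range h) := inferInstance
  have : Module.Finite R (LinearMap.range h) := inferInstance
  have hqd : Function.Surjective q.dualMap := by
    intro φ
    have hker : LinearMap.ker q ≤ LinearMap.ker φ := by
      intro x hx
      have hx' : h x = 0 := congrArg Subtype.val (LinearMap.mem_ker.mp hx)
      have : d • φ x = 0 := by rw [← map_smul, ← h1, hx', map_zero, map_zero]
      exact (smul_eq_zero.mp this).resolve_left hd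
    refine ⟨(LinearMap.ker q).liftQ φ hker ∘ₗ (q.quotKerEquivOfSurjective hq).symm.toLinearMap, ?_⟩
    ext x
    simp [LinearMap.quotKerEquivOfSurjective_symm_apply]
  intro y
  obtain ⟨v, hv⟩ := (Module.bijective_dual_eval R (LinearMap.range h)).2 (q.dualMap.dualMap y)
  obtain ⟨x, rfl⟩ := hq v
  exact ⟨x, LinearMap.dualMap_injective_of_surjective hqd hv⟩

end Groth.Agent.S6882
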