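import Groth.Statements.S6884
import Mathlib
import Groth.Agent.FlatMorOne.FlatLocusColimit
import Groth.Agent.Calg3.FiniteDescent

set_option autoImplicit false
universe u
open TensorProduct
open CAlg

namespace Groth.Agent.S6884

section
open TensorProduct Groth.FlatMorOne

attribute [local instance] Algebra.TensorProduct.rightAlgebra

set_option synthInstance.maxHeartbeats 200000 in
set_option maxHeartbeats 2000000 in
theorem flat_of_model {R₀ R S S₀ P N M : Type u} [CommRing R₀] [CommRing R] [Algebra R₀ R] [CommRing S]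
    [Algebra R S] [Algebra R₀ S] [IsScalarTower R₀ R S] [Algebra.IsIntegral R S]
    (hinj : Function.Injective (algebraMap R S))
    [CommRing S₀] [Algebra R₀ S₀] [IsNoetherianRing R₀] [Algebra.FiniteType R₀ S₀]
    [CommRing P] [Algebra R P] [Algebra R₀ P] [IsScalarTower R₀ R P] [Algebra S₀ P]
    [IsScalarTower R₀ S₀ P] [Algebra.IsPushout R₀ R S₀ P]
    [AddCommGroup N] [Module R₀ N] [Module S₀ N] [IsScalarTower R₀ S₀ N] [Module.Finite S₀ N]
    [AddCommGroup M] [Module P M] [Module R M] [IsScalarTower R P M] [Module R₀ M] [IsScalarTower R₀ R M]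
    [Module S₀ M] [IsScalarTower S₀ P M] {f₀ : N →ₗ[S₀] M} (hf₀ : IsBaseChange P f₀)
    [Module.Flat S (S ⊗[R] M)] : Module.Flat R M := by
  classical
  rcases subsingleton_or_nontrivial R with hR | hR
  · haveI := Module.subsingleton R M
    exact inferInstance
  have hβ : IsBaseChange R ((pushoutModuleEquiv' (R₀ := R₀) (R := R) hf₀).toLinearMap.restrictScalars R₀ ∘ₗ
      betaOf R₀ S₀ N R) :=
    (isBaseChange_betaOf R₀ S₀ N R).comp (IsBaseChange.ofEquiv (pushoutModuleEquiv' hf₀))
  have : Module.Flat S (MOf R₀ S₀ N S) :=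
    ((flat_iff_flat_tensor_of_isBaseChange hβ S).trans
      (Module.Flat.equiv_iff (isBaseChange_betaOf R₀ S₀ N S).equiv)).mp inferInstance
  have hpushA : Algebra.IsPushout R₀ S S₀ (SOf R₀ S₀ S) := TensorProduct.isPushout
  obtain ⟨B, hB, hflat⟩ := exists_stage_flat_global (R₀ := R₀) (R := S) (S := SOf R₀ S₀ S)
    (TensorProduct.isBaseChange S₀ N (SOf R₀ S₀ S))
  obtain ⟨s, hs⟩ := hB
  choose p hp hp0 using fun x : S => Algebra.IsIntegral.isIntegral (R := R) x
  let T : Finset R := s.biUnion fun x => (p x).coeffs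
  let R₁ : Subalgebra R₀ R := Algebra.adjoin R₀ (T : Set R)
  have hR₁ : R₁.FG := ⟨T, rfl⟩
  haveI : Algebra.FiniteType R₀ R₁ := (Subalgebra.fg_iff_finiteType R₁).mp hR₁
  haveI : IsNoetherianRing R₁ := Algebra.FiniteType.isNoetherianRing R₀ R₁
  have hint : ∀ x ∈ (s : Set S), IsIntegral R₁ x := by
    intro x hx
    have hl : p x ∈ Polynomial.lifts (algebraMap R₁ R) := by
      refine (Polynomial.lifts_iff_coeff_lifts _).mpr fun j => ?_
      rcases eq_or_ne ((p x).coeff j) 0 with h | h
      · exact ⟨0, by rw [map_zero, h]⟩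
      · exact ⟨⟨_, Algebra.subset_adjoin (Finset.mem_biUnion.mpr
          ⟨x, hx, Polynomial.coeff_mem_coeffs h⟩)⟩, rfl⟩
    obtain ⟨q, hq, -, hqm⟩ := Polynomial.lifts_and_degree_eq_and_monic hl (hp x)
    refine ⟨q, hqm, ?_⟩
    rw [IsScalarTower.algebraMap_eq R₁ R S, ← Polynomial.eval₂_map, hq]
    exact hp0 x
  let C : Subalgebra R₁ S := Algebra.adjoin R₁ (s : Set S)
  haveI : Module.Finite R₁ C :=
    Module.Finite.iff_fg.mpr (fg_adjoin_of_finite s.finite_toSet hint)
  haveI : Algebra.FiniteType R₀ C := Algebra.FiniteType.trans (S := R₁) inferInstance inferInstance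
  have hBC : B ≤ C.restrictScalars R₀ := by
    rw [← hs]
    exact Algebra.adjoin_le fun x hx => Algebra.subset_adjoin hx
  have hCflat : Module.Flat C (MOf R₀ S₀ N C) := by
    refine hflat (C.restrictScalars R₀) ?_ hBC
    exact (Subalgebra.fg_iff_finiteType _).mpr ‹Algebra.FiniteType R₀ C›
  have hinjC : Function.Injective (algebraMap R₁ C) := by
    intro a b h
    exact Subtype.ext (hinj (congrArg Subtype.val h))
  have hC' : Module.Flat C (C ⊗[R₁] MOf R₀ S₀ N R₁) :=
    Module.Flat.of_linearEquiv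
      ((isBaseChange_stageToTop (R₀ := R₀) (R := C) (S₀ := S₀) (M₀ := N) R₁).equiv)
  have hR₁flat : Module.Flat R₁ (MOf R₀ S₀ N R₁) :=
    Groth.Calg3.FiniteDescent.descends R₁ C inferInstance hinjC _ hC'
  exact Module.Flat.of_linearEquiv
    (((isBaseChange_stageToTop (R₀ := R₀) (R := R) (S₀ := S₀) (M₀ := N) R₁).equiv).trans
      (pushoutModuleEquiv' hf₀)).symm

end

/-- For an injective integral ring map `R → S` and `n ≥ 0`, let `M` be a module of finite presentation
over the polynomial ring `R[x_1, …, x_n]`. Then flatness of `S ⊗_R M` over `S` forces flatness of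
`M` over `R`. -/
theorem result (R S : Type u) [CommRing R]
    [CommRing S] [Algebra R S] [Algebra.IsIntegral R S] (hinj : Function.Injective (algebraMap R S)) (n : ℕ)
    (M : Type u) [AddCommGroup M] [Module (MvPolynomial (Fin n) R) M] [Module R M]
    [IsScalarTower R (MvPolynomial (Fin n) R) M] [Module.FinitePresentation (MvPolynomial (Fin n) R) M]
    [Module.Flat S (S ⊗[R] M)] : Module.Flat R M := by
  obtain ⟨R₀, hR₀, S₀, _, _, _, _, hS₀, hpush, N, _, _, _, _, _, _, f₀, hN, hf₀⟩ :=
    Groth.FlatMorOne.exists_models R (MvPolynomial (Fin n) R) M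
  have : IsNoetherianRing R₀ := Algebra.FiniteType.isNoetherianRing ℤ R₀
  exact flat_of_model (R₀ := R₀) (S₀ := S₀) (N := N) (S := S) hinj hf₀
end Groth.Agent.S6884
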