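import Groth.Statements.S6886
import Mathlib

set_option autoImplicit false
universe u
open TensorProduct
open CAlg

namespace Groth.Agent.S6886

open Polynomial in
private theorem exists_splits_list {R : Type u} [CommRing R] [Nontrivial R] (l : List R[X])
    (hl : ∀ p ∈ l, p.Monic) :
    ∃ (R' : Type u) (_ : CommRing R') (_ : Algebra R R') (_ : Module.Finite R R') (_ : Module.Free R R')
      (_ : Nontrivial R'), ∀ p ∈ l, (p.map (algebraMap R R')).Splits := by
  induction l with
  | nil => exact ⟨R, inferInstance, inferInstance, inferInstance, inferInstance, inferInstance, by simp⟩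
  | cons p l ih =>
    obtain ⟨R₁, _, _, _, _, _, h₁⟩ := ih fun q hq => hl q (List.mem_cons_of_mem _ hq)
    obtain ⟨R₂, _, _, _, _, _, h₂⟩ := ((hl p List.mem_cons_self).map (algebraMap R R₁)).exists_splits_map
    let : Algebra R R₂ := ((algebraMap R₁ R₂).comp (algebraMap R R₁)).toAlgebra
    have : IsScalarTower R R₁ R₂ := IsScalarTower.of_algebraMap_eq fun _ => rfl
    refine ⟨R₂, inferInstance, inferInstance, Module.Finite.trans R₁ R₂, Module.Free.trans (S := R₁),
      inferInstance, fun q hq => ?_⟩
    rw [IsScalarTower.algebraMap_eq R R₁ R₂, ← Polynomial.map_map]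
    rcases List.mem_cons.1 hq with rfl | hq
    · exact h₂
    · exact (h₁ q hq).map _

/-- Let `R → S` be a finite ring map. One can find an extension `R ⊆ R'` of rings, with `R'` finite and
free as an `R`-module, for which the ring `S ⊗_R R'` arises as a quotient of `R'[T_1, …,
T_n]/(P_1(T_1), …, P_n(T_n))` with each `P_i(T) = ∏_j (T - α_{ij})` a product of linear factors over
`R'`. -/
theorem result (R S : Type u) [CommRing R] [CommRing S] [Algebra R S]
    [Module.Finite R S] :
    ∃ (R' : Type u) (_ : CommRing R') (_ : Algebra R R'), Module.Finite R R' ∧ Module.Free R R' ∧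
      Function.Injective (algebraMap R R') ∧
      ∃ (n : ℕ) (d : Fin n → ℕ) (α : (i : Fin n) → Fin (d i) → R')
        (φ : MvPolynomial (Fin n) R' →ₐ[R'] R' ⊗[R] S), Function.Surjective φ ∧
          ∀ i, φ (∏ j, (MvPolynomial.X i - MvPolynomial.C (α i j))) = 0 := by
  classical
  rcases subsingleton_or_nontrivial R with hR | hR
  · have : Subsingleton (R ⊗[R] S) := Module.subsingleton R _
    exact ⟨R, inferInstance, inferInstance, inferInstance, inferInstance, Function.injective_id,
      0, fun i => i.elim0, fun i => i.elim0, MvPolynomial.aeval fun i => i.elim0,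
      fun y => ⟨0, Subsingleton.elim _ _⟩, fun i => i.elim0⟩
  obtain ⟨n, x, hx⟩ := Module.Finite.exists_fin (R := R) (M := S)
  choose p hpm hp using fun i => (Algebra.IsIntegral.isIntegral (R := R) (x i) : IsIntegral R (x i))
  obtain ⟨R', _, _, _, _, _, hs⟩ := exists_splits_list (List.ofFn p) (fun q hq => by
    obtain ⟨i, rfl⟩ := List.mem_ofFn.1 hq
    exact hpm i)
  choose m hm using fun i => Polynomial.splits_iff_exists_multiset.1 (hs (p i) (List.mem_ofFn.2 ⟨i, rfl⟩))
  let φ : MvPolynomial (Fin n) R' →ₐ[R'] R' ⊗[R] S := MvPolynomial.aeval fun i => (1 : R') ⊗ₜ[R] x i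
  refine ⟨R', inferInstance, inferInstance, inferInstance, inferInstance, FaithfulSMul.algebraMap_injective R R',
    n, fun i => (m i).toList.length, fun i j => (m i).toList.get j, φ, fun y => ?_, fun i => ?_⟩
  · induction y with
    | zero => exact ⟨0, map_zero _⟩
    | add a b ha hb =>
      obtain ⟨a, rfl⟩ := ha
      obtain ⟨b, rfl⟩ := hb
      exact ⟨a + b, map_add _ _ _⟩
    | tmul r s =>
      have hs' : s ∈ Submodule.span R (Set.range x) := hx ▸ Submodule.mem_top
      obtain ⟨c, rfl⟩ := (Submodule.mem_span_range_iff_exists_fun R).1 hs'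
      refine ⟨∑ i, (c i • r) • MvPolynomial.X i, ?_⟩
      rw [map_sum, TensorProduct.tmul_sum]
      refine Finset.sum_congr rfl fun i _ => ?_
      rw [map_smul, MvPolynomial.aeval_X, TensorProduct.smul_tmul', smul_eq_mul, mul_one, TensorProduct.smul_tmul]
  · have h1 : (Polynomial.aeval ((1 : R') ⊗ₜ[R] x i)) ((p i).map (algebraMap R R')) = 0 := by
      rw [Polynomial.aeval_map_algebraMap]
      show Polynomial.aeval ((Algebra.TensorProduct.includeRight : S →ₐ[R] R' ⊗[R] S) (x i)) (p i) = 0
      rw [Polynomial.aeval_algHom_apply, show Polynomial.aeval (x i) (p i) = 0 from hp i, map_zero]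
    rw [hm i, ((hpm i).map _).leadingCoeff, map_one, one_mul, map_multiset_prod, Multiset.map_map] at h1
    rw [map_prod]
    conv_rhs => rw [← h1, ← Multiset.coe_toList (m i), Multiset.map_coe, Multiset.prod_coe,
      ← List.ofFn_get (m i).toList, List.map_ofFn, List.prod_ofFn]
    refine Finset.prod_congr rfl fun j _ => ?_
    simp [φ]

end Groth.Agent.S6886
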