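import Groth.Statements.S6887
import Mathlib

set_option autoImplicit false
universe u
open Polynomial
open CAlg

namespace Groth.Agent.S6887

/-- Let `(A, I)` be a Zariski pair (`I` inside the Jacobson radical) and `A → B` a finite ring map.
Suppose `B/IB ≅ B₁ × B₂` as `A`-algebras with `A → B₁` surjective, and `b ∈ B` maps to `(1, 0)`.
Then there is a monic `f ∈ A[x]` with `f(b) = 0` whose reduction modulo `I` is `(x - 1) x^d` for
some `d ≥ 1`. -/
theorem result (A B : Type u) [CommRing A] [CommRing B]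
    [Algebra A B] [Module.Finite A B] (I : Ideal A) (hI : I ≤ Ideal.jacobson (⊥ : Ideal A))
    (B₁ B₂ : Type u) [CommRing B₁] [CommRing B₂] [Algebra A B₁] [Algebra A B₂]
    (e : (B ⧸ I.map (algebraMap A B)) ≃ₐ[A] B₁ × B₂) (h₁ : Function.Surjective (algebraMap A B₁)) (b : B)
    (hb : e (Ideal.Quotient.mk (I.map (algebraMap A B)) b) = (1, 0)) :
    ∃ (f : A[X]) (d : ℕ), f.Monic ∧ Polynomial.aeval b f = 0 ∧ 1 ≤ d ∧
      f.map (Ideal.Quotient.mk I) = (X - 1) * X ^ d := by
  classical
  haveI : Module.Finite A B₂ := by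
    refine Module.Finite.of_surjective ((LinearMap.snd A B₁ B₂) ∘ₗ e.toLinearMap ∘ₗ (Ideal.Quotient.mkₐ A (I.map (algebraMap A B))).toLinearMap) ?_
    exact Prod.snd_surjective.comp (e.surjective.comp Ideal.Quotient.mk_surjective)
  obtain ⟨m, v, hv⟩ := Module.Finite.exists_fin (R := A) (M := B₂)
  let v' : Fin (m + 1) → B₂ := Fin.cons 0 v
  have hlift : ∀ j, ∃ x : B, e (Ideal.Quotient.mk (I.map (algebraMap A B)) x) = (0, v' j) := fun j => by
    obtain ⟨z, hz⟩ := e.surjective (0, v' j)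
    obtain ⟨x, rfl⟩ := Ideal.Quotient.mk_surjective z
    exact ⟨x, hz⟩
  choose x hx using hlift
  let g : Fin 1 ⊕ Fin (m + 1) → B := Sum.elim (fun _ => b) x
  let δ : Fin 1 ⊕ Fin (m + 1) → A := Sum.elim (fun _ => 1) (fun _ => 0)
  have hJI : ∀ y : B, y ∈ (I.map (algebraMap A B)) ↔ y ∈ I • (⊤ : Submodule A B) := fun y => by
    rw [Ideal.smul_top_eq_map]; rfl
  have hzero : ∀ y : B, e (Ideal.Quotient.mk (I.map (algebraMap A B)) y) = 0 → y ∈ I • (⊤ : Submodule A B) := fun y hy => by
    rw [← hJI, ← Ideal.Quotient.eq_zero_iff_mem]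
    exact e.injective (hy.trans (map_zero e).symm)
  have hemk : ∀ (r : A) (y : B), e (Ideal.Quotient.mk (I.map (algebraMap A B)) (r • y)) = r • e (Ideal.Quotient.mk (I.map (algebraMap A B)) y) :=
    fun r y => (congrArg e (map_smul (Ideal.Quotient.mkₐ A (I.map (algebraMap A B))) r y)).trans (map_smul e r _)
  have hspan : Submodule.span A (Set.range g) = ⊤ := by
    rw [eq_top_iff]
    refine Submodule.le_of_le_smul_of_le_jacobson_bot Module.Finite.fg_top hI ?_
    intro y _
    obtain ⟨r, hr⟩ := h₁ (e (Ideal.Quotient.mk (I.map (algebraMap A B)) y)).1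
    obtain ⟨c, hc⟩ := (Submodule.mem_span_range_iff_exists_fun A).mp
      (hv.ge (Submodule.mem_top (x := (e (Ideal.Quotient.mk (I.map (algebraMap A B)) y)).2)))
    rw [Submodule.mem_sup]
    have hmem : r • b + ∑ j, c j • x j.succ ∈ Submodule.span A (Set.range g) :=
      add_mem (Submodule.smul_mem _ _ (Submodule.subset_span ⟨Sum.inl 0, rfl⟩))
        (sum_mem fun j _ => Submodule.smul_mem _ _ (Submodule.subset_span ⟨Sum.inr j.succ, rfl⟩))
    refine ⟨_, hmem, _, hzero (y - (r • b + ∑ j, c j • x j.succ)) ?_, add_sub_cancel _ _⟩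
    rw [map_sub, map_add, map_sum, map_sub, map_add, map_sum, hemk, hb]
    simp only [hemk, hx, v', Fin.cons_succ, Prod.smul_mk, smul_zero]
    refine Prod.ext ?_ ?_
    · simp [Prod.fst_sum, Algebra.smul_def, hr]
    · simp [Prod.snd_sum, hc]
  have hN : ∀ j, ∃ N : Fin 1 ⊕ Fin (m + 1) → A, (∀ i, N i ∈ I) ∧ ∑ i, N i • g i = b * g j - δ j • g j := by
    intro j
    have hmem : b * g j - δ j • g j ∈ I • (⊤ : Submodule A B) := by
      refine hzero _ ?_
      rw [map_sub, map_mul, map_sub, map_mul, hemk, hb]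
      rcases j with j | j
      · simp [g, δ, hb, Prod.ext_iff]
      · simp [g, δ, hx, Prod.ext_iff]
    rw [← hspan, Submodule.mem_ideal_smul_span_iff_exists_sum] at hmem
    obtain ⟨a, ha, hsum⟩ := hmem
    exact ⟨a, ha, by rw [← hsum, Finsupp.sum_fintype]; simp⟩
  choose N hNI hN using hN
  let M : Matrix (Fin 1 ⊕ Fin (m + 1)) (Fin 1 ⊕ Fin (m + 1)) A :=
    Matrix.diagonal δ + Matrix.of fun i j => N j i
  let f : Module.End A B := Algebra.lmul A B b
  have hM : M.Represents g f := by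
    rw [Matrix.represents_iff']
    intro j
    simp only [M, Matrix.add_apply, Matrix.of_apply, add_smul, Finset.sum_add_distrib, hN, f,
      Algebra.lmul, AlgHom.coe_mk, RingHom.coe_mk, MonoidHom.coe_mk, OneHom.coe_mk]
    rw [Finset.sum_eq_single j (fun i _ hi => by rw [Matrix.diagonal_apply_ne _ hi, zero_smul])
      (fun h => absurd (Finset.mem_univ j) h), Matrix.diagonal_apply_eq, add_sub_cancel]
    rfl
  refine ⟨M.charpoly, m + 1, M.charpoly_monic, ?_, Nat.le_add_left 1 m, ?_⟩
  · have h := Polynomial.aeval_algHom_apply (Matrix.isRepresentation.toEnd A g hspan)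
      ⟨M, f, hM⟩ M.charpoly
    rw [Matrix.isRepresentation.eq_toEnd_of_represents A g hspan ⟨M, f, hM⟩ hM] at h
    have h0 : Polynomial.aeval (⟨M, f, hM⟩ : Matrix.isRepresentation A g) M.charpoly = 0 :=
      Subtype.ext (by rw [Polynomial.aeval_subalgebra_coe, Matrix.aeval_self_charpoly]; rfl)
    rw [h0, map_zero, Polynomial.aeval_algHom_apply] at h
    simpa using congrArg (fun φ : Module.End A B => φ 1) h
  · rw [← Matrix.charpoly_map, show M.map (Ideal.Quotient.mk I) = Matrix.diagonal (fun i => Ideal.Quotient.mk I (δ i)) by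
      ext i j
      rcases eq_or_ne i j with rfl | hij
      · simp [M, Ideal.Quotient.eq_zero_iff_mem.mpr (hNI i i)]
      · simp [M, hij, Ideal.Quotient.eq_zero_iff_mem.mpr (hNI j i)], Matrix.charpoly_diagonal,
      Fintype.prod_sum_type]
    simp [δ]

end Groth.Agent.S6887
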