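import Groth.Statements.S6888
import Mathlib

set_option autoImplicit false
universe u
open Polynomial
open CAlg

namespace Groth.Agent.S6888

/-- Let `A` be absolutely integrally closed (every monic polynomial over `A` is a product of linear
factors) and `I ⊆ A` an ideal contained in the Jacobson radical such that `A → A/I` is surjective
(hence bijective) on idempotents. Then `(A, I)` is a henselian pair. (The published statement also
records the converse, which holds for every henselian pair; this row states the sufficiency only.) -/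
theorem result (A : Type u) [CommRing A]
    (hA : ∀ f : A[X], f.Monic → ∃ s : Multiset A, f = (s.map fun a => X - C a).prod) (I : Ideal A)
    (hI : I ≤ Ideal.jacobson (⊥ : Ideal A))
    (hidem : ∀ e : A ⧸ I, IsIdempotentElem e → ∃ e' : A, IsIdempotentElem e' ∧ Ideal.Quotient.mk I e' = e) :
    HenselianRing A I := by
  classical
  refine ⟨hI, fun f hf a₀ h0 hu => ?_⟩
  obtain ⟨s, hs⟩ := hA f hf
  obtain ⟨n, a, rfl⟩ : ∃ (n : ℕ) (a : Fin n → A), f = ∏ i, (X - C (a i)) := by
    refine ⟨s.toList.length, fun i => s.toList.get i, hs.trans ?_⟩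
    rw [← Fin.prod_ofFn]
    conv_lhs => rw [← Multiset.coe_toList s, Multiset.map_coe, Multiset.prod_coe]
    congr 1
    conv_lhs => rw [← List.ofFn_get s.toList, List.map_ofFn]
    rfl
  set π := Ideal.Quotient.mk I with hπ
  have hjz : ∀ e : A, IsIdempotentElem e → e ∈ I → e = 0 := by
    intro e he heI
    have h := Ideal.mem_jacobson_bot.mp (hI heI) (-1)
    have : (e * -1 + 1) * e = 0 := by rw [add_mul, one_mul, mul_comm e (-1), mul_assoc, he.eq]; ring
    exact (h.mul_right_eq_zero).mp this
  let y : Fin n → A ⧸ I := fun i => π (a₀ - a i)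
  let P : Fin n → A ⧸ I := fun i => ∏ j ∈ Finset.univ.erase i, y j
  have hfull : ∏ i, y i = 0 := by
    have h := Ideal.Quotient.eq_zero_iff_mem.mpr h0
    rw [Polynomial.eval_prod, map_prod] at h
    simpa [y, π] using h
  obtain ⟨u, hu'⟩ : IsUnit (∑ i, P i) := by
    rw [Polynomial.derivative_prod_finset, Polynomial.eval_finset_sum, map_sum] at hu
    simpa [P, y, π, Polynomial.eval_prod, map_prod] using hu
  have hPy : ∀ i, P i * y i = 0 := fun i => by
    rw [mul_comm, Finset.mul_prod_erase _ _ (Finset.mem_univ i), hfull]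
  let e : Fin n → A ⧸ I := fun i => (↑u⁻¹ : A ⧸ I) * P i
  have hey : ∀ i, e i * y i = 0 := fun i => by simp only [e, mul_assoc, hPy, mul_zero]
  have hort : ∀ i j, i ≠ j → e i * e j = 0 := fun i j hij => by
    have hmem : i ∈ Finset.univ.erase j := Finset.mem_erase.mpr ⟨hij, Finset.mem_univ i⟩
    have : P i * P j = 0 := by
      simp only [P]
      rw [← Finset.mul_prod_erase _ _ hmem, ← mul_assoc]
      rw [show (∏ k ∈ Finset.univ.erase i, y k) * y i = 0 from hPy i, zero_mul]
    simp only [e]
    rw [mul_mul_mul_comm, this, mul_zero]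
  have hsum : ∑ i, e i = 1 := by
    simp only [e]
    rw [← Finset.mul_sum, ← hu', Units.inv_mul]
  have hid : ∀ i, IsIdempotentElem (e i) := fun i => by
    have : e i * ∑ j, e j = e i * e i := by
      rw [Finset.mul_sum]
      exact Finset.sum_eq_single i (fun j _ hj => hort i j hj.symm) (fun h => absurd (Finset.mem_univ i) h)
    rw [hsum, mul_one] at this
    exact this.symm
  choose E hE hEe using fun i => hidem (e i) (hid i)
  have hE0 : ∀ i j, i ≠ j → E i * E j = 0 := fun i j hij => by
    refine hjz _ ((hE i).mul (hE j)) ?_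
    rw [← Ideal.Quotient.eq_zero_iff_mem, map_mul, hEe, hEe, hort i j hij]
  have hE1 : ∑ i, E i = 1 := by
    have hS : IsIdempotentElem (∑ i, E i) := by
      show _ * _ = _
      rw [Finset.sum_mul]
      refine Finset.sum_congr rfl fun i _ => ?_
      rw [Finset.mul_sum, Finset.sum_eq_single i (fun j _ hj => hE0 i j hj.symm)
        (fun h => absurd (Finset.mem_univ i) h)]
      exact (hE i).eq
    refine (sub_eq_zero.mp (hjz (1 - ∑ i, E i) hS.one_sub ?_)).symm
    rw [← Ideal.Quotient.eq_zero_iff_mem, map_sub, map_one, map_sum]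
    simp [π, hEe, hsum]
  refine ⟨∑ i, E i * a i, ?_, ?_⟩
  · rw [Polynomial.IsRoot, ← one_mul (eval _ _), ← hE1, Finset.sum_mul]
    refine Finset.sum_eq_zero fun i _ => ?_
    rw [Polynomial.eval_prod, ← Finset.mul_prod_erase _ _ (Finset.mem_univ i), ← mul_assoc]
    suffices E i * eval (∑ j, E j * a j) (X - C (a i)) = 0 by rw [this, zero_mul]
    rw [eval_sub, eval_X, eval_C, mul_sub, sub_eq_zero, Finset.mul_sum,
      Finset.sum_eq_single i (fun j _ hj => by rw [← mul_assoc, hE0 i j hj.symm, zero_mul])
        (fun h => absurd (Finset.mem_univ i) h), ← mul_assoc, (hE i).eq]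
  · rw [← Ideal.Quotient.eq_zero_iff_mem, map_sub, map_sum, sub_eq_zero]
    conv_rhs => rw [← one_mul (π a₀), ← hsum, Finset.sum_mul]
    refine Finset.sum_congr rfl fun i _ => ?_
    rw [map_mul, hEe, eq_comm, ← sub_eq_zero, ← mul_sub, ← map_sub]
    exact hey i

end Groth.Agent.S6888
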