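import Groth.Statements.S6889
import Groth.Agent.Misc3Fitt.Basic

set_option autoImplicit false
universe u
open Fitt

namespace Groth.Agent.S6889

/-- Let `M` be an `R`-module generated by `x_1, …, x_n`. Then `Fit_k(M)` equals the ideal spanned by all
`(n-k) × (n-k)` determinants of matrices whose `n - k` rows are relation vectors among the `x_i`
(rows selected by any map `Fin (n-k) → Fin n`); in particular it does not depend on the generating
tuple. -/
theorem result {R : Type u} [CommRing R] {M : Type u} [AddCommGroup M] [Module R M]
    {n : ℕ} (x : Fin n → M) (hx : Submodule.span R (Set.range x) = ⊤) (k : ℕ) :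
    Fitt.ideal R M k = Ideal.span {d | ∃ (z : Fin (n - k) → (Fin n → R)) (e : Fin (n - k) → Fin n),
      (∀ j, ∑ i, z j i • x i = 0) ∧ d = (Matrix.of fun a b => z b (e a)).det} := by
  rw [Groth.Misc3Fitt.ideal_eq_fitt x hx]
  unfold Groth.Misc3Fitt.fitt Groth.Misc3Fitt.minors
  simp only [Groth.Misc3Fitt.mem_rel, Groth.Misc3Fitt.minor_transpose]

end Groth.Agent.S6889
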