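import Groth.Statements.S6893
import Groth.Agent.Calg6.FlatAdic

set_option autoImplicit false
universe u
open TensorProduct
open CAlg

namespace Groth.Agent.S6893

/-- Let `M` be a module over a ring `R` and `I₁, I₂ ⊆ R` ideals. Suppose flatness of `M/I₁M` as an
`R/I₁`-module holds, and likewise `M/I₂M` is a flat `R/I₂`-module; then the quotient `M/(I₁ ∩ I₂)M`
is also flat as a module over `R/(I₁ ∩ I₂)`. -/
theorem result {R : Type u} [CommRing R] (M : Type u) [AddCommGroup M] [Module R M]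
    (I₁ I₂ : Ideal R) [Module.Flat (R ⧸ I₁) ((R ⧸ I₁) ⊗[R] M)] [Module.Flat (R ⧸ I₂) ((R ⧸ I₂) ⊗[R] M)] :
    Module.Flat (R ⧸ (I₁ ⊓ I₂)) ((R ⧸ (I₁ ⊓ I₂)) ⊗[R] M) := by
  set K := I₁ ⊓ I₂ with hK
  let φ₁ : (R ⧸ K) →ₐ[R] R ⧸ I₁ := Ideal.Quotient.factorₐ R (inf_le_left : K ≤ I₁)
  let φ₂ : (R ⧸ K) →ₐ[R] R ⧸ I₂ := Ideal.Quotient.factorₐ R (inf_le_right : K ≤ I₂)
  have h12 : ∀ x, φ₁ x = 0 → φ₂ x = 0 → x = 0 := by
    intro x
    obtain ⟨a, rfl⟩ := Ideal.Quotient.mk_surjective x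
    intro h1 h2
    exact Ideal.Quotient.eq_zero_iff_mem.2 ⟨Ideal.Quotient.eq_zero_iff_mem.1 h1, Ideal.Quotient.eq_zero_iff_mem.1 h2⟩
  rw [Module.Flat.iff_rTensor_injective]
  intro J _
  let J₁ : Ideal (R ⧸ I₁) := J.map φ₁.toRingHom
  let q₁ : J →ₗ[R] J₁ :=
    { toFun := fun j => ⟨φ₁ j, Ideal.mem_map_of_mem _ j.2⟩
      map_add' := fun a b => Subtype.ext (map_add φ₁ _ _)
      map_smul' := fun r a => Subtype.ext (map_smul φ₁ r _) }
  have hq₁ : Function.Surjective q₁ := by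
    rintro ⟨y, hy⟩
    obtain ⟨x, hx, rfl⟩ := (Ideal.mem_map_iff_of_surjective φ₁.toRingHom
      (Ideal.Quotient.factor_surjective (inf_le_left : K ≤ I₁))).1 hy
    exact ⟨⟨x, hx⟩, rfl⟩
  let J' : Ideal (R ⧸ K) := J ⊓ RingHom.ker φ₁.toRingHom
  let J₂ : Ideal (R ⧸ I₂) := J'.map φ₂.toRingHom
  let q₂ : LinearMap.ker q₁ →ₗ[R] J₂ :=
    { toFun := fun j => ⟨φ₂ (j.1 : R ⧸ K), Ideal.mem_map_of_mem _ ⟨j.1.2, congr_arg Subtype.val j.2⟩⟩
      map_add' := fun a b => Subtype.ext (map_add φ₂ _ _)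
      map_smul' := fun r a => Subtype.ext (map_smul φ₂ r _) }
  have hq₂ : Function.Bijective q₂ := by
    refine ⟨(injective_iff_map_eq_zero q₂).2 fun j hj => ?_, ?_⟩
    · exact Subtype.ext (Subtype.ext (h12 _ (congr_arg Subtype.val j.2) (congr_arg Subtype.val hj)))
    · rintro ⟨y, hy⟩
      obtain ⟨x, hx, rfl⟩ := (Ideal.mem_map_iff_of_surjective φ₂.toRingHom
        (Ideal.Quotient.factor_surjective (inf_le_right : K ≤ I₂))).1 hy
      exact ⟨⟨⟨x, hx.1⟩, Subtype.ext hx.2⟩, rfl⟩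
  let ι : J →ₗ[R] R ⧸ K := J.subtype.restrictScalars R
  have key : Function.Injective (ι.rTensor M) := by
    rw [injective_iff_map_eq_zero]
    intro z hz
    have c₁ : ((J₁.subtype).restrictScalars R).rTensor M ∘ₗ q₁.rTensor M =
        φ₁.toLinearMap.rTensor M ∘ₗ ι.rTensor M := by
      rw [← LinearMap.rTensor_comp, ← LinearMap.rTensor_comp]; rfl
    have h0 : q₁.rTensor M z = 0 := Groth.Calg6.rTensor_injective_of_flat_tensor (B' := R ⧸ I₁) (X := M)
      J₁.subtype (Submodule.injective_subtype J₁) ((LinearMap.congr_fun c₁ z).trans (by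
        rw [LinearMap.comp_apply, hz, map_zero, map_zero]))
    obtain ⟨y, rfl⟩ := (rTensor_exact M (LinearMap.exact_subtype_ker_map q₁) hq₁ z).1 h0
    have c₂ : ((J₂.subtype).restrictScalars R).rTensor M ∘ₗ q₂.rTensor M =
        φ₂.toLinearMap.rTensor M ∘ₗ ι.rTensor M ∘ₗ (LinearMap.ker q₁).subtype.rTensor M := by
      rw [← LinearMap.rTensor_comp, ← LinearMap.rTensor_comp, ← LinearMap.rTensor_comp]; rfl
    have h2 : q₂.rTensor M y = 0 := Groth.Calg6.rTensor_injective_of_flat_tensor (B' := R ⧸ I₂) (X := M)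
      J₂.subtype (Submodule.injective_subtype J₂) ((LinearMap.congr_fun c₂ y).trans (by
        rw [LinearMap.comp_apply, LinearMap.comp_apply, hz, map_zero, map_zero]))
    rw [(LinearEquiv.rTensor M (LinearEquiv.ofBijective q₂ hq₂)).injective (h2.trans (map_zero _).symm),
      map_zero]
  let e := TensorProduct.AlgebraTensorModule.cancelBaseChange R (R ⧸ K) (R ⧸ K) J M
  let e' := TensorProduct.AlgebraTensorModule.cancelBaseChange R (R ⧸ K) (R ⧸ K) (R ⧸ K) M
  have c : ∀ z, ι.rTensor M (e z) = e' (J.subtype.rTensor ((R ⧸ K) ⊗[R] M) z) := by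
    intro z
    induction z using TensorProduct.induction_on with
    | zero => simp
    | tmul j t =>
      induction t using TensorProduct.induction_on with
      | zero => simp
      | tmul b x => simp [e, e', ι]
      | add t s ht hs => simp only [TensorProduct.tmul_add, map_add, ht, hs]
    | add t s ht hs => simp only [map_add, ht, hs]
  intro a b hab
  exact e.injective (key ((c a).trans ((congr_arg e' hab).trans (c b).symm)))

end Groth.Agent.S6893
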