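import Groth.Statements.S6895
import Groth.Agent.Misc3Fitt.Local

set_option autoImplicit false
universe u
open Fitt

namespace Groth.Agent.S6895

/-- (1) ⇔ (3): let `M` be a finite `R`-module and `r ≥ 0`. Then `M` is finite locally free of rank `r`
(every prime has a basic open neighbourhood `D(f)` with `M_f` free of rank `r` over `R_f`) if and
only if `Fit_k(M) = 0` for `k < r` and `Fit_k(M) = R` for `k ≥ r`. -/
theorem result {R : Type u} [CommRing R] (M : Type u) [AddCommGroup M] [Module R M]
    [Module.Finite R M] (r : ℕ) :
    (∀ (p : Ideal R) [p.IsPrime], ∃ f : R, f ∉ p ∧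
      Module.Free (Localization.Away f) (LocalizedModule (Submonoid.powers f) M) ∧
        Module.finrank (Localization.Away f) (LocalizedModule (Submonoid.powers f) M) = r) ↔
    ((∀ k, k < r → Fitt.ideal R M k = ⊥) ∧ (∀ k, r ≤ k → Fitt.ideal R M k = ⊤)) := by
  exact Groth.Misc3Fitt.locallyFree_rank_iff r

end Groth.Agent.S6895
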