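import Groth.Statements.S6896
import Groth.Agent.Misc3Fitt.Props

set_option autoImplicit false
universe u
open Fitt

namespace Groth.Agent.S6896

/-- Let `R` be a local ring, `M` a finite `R`-module and `k ≥ 0` with `Fit_k(M) = (f)` principal. Then
the quotient `M'` of `M` by the submodule `{x ∈ M | f x = 0}` can be generated by `k` elements. -/
theorem result {R : Type u} [CommRing R] [IsLocalRing R]
    (M : Type u) [AddCommGroup M] [Module R M] [Module.Finite R M] (k : ℕ) (f : R)
    (hf : Fitt.ideal R M k = Ideal.span {f}) :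
    ∃ g : Fin k → M ⧸ LinearMap.ker (f • (LinearMap.id : M →ₗ[R] M)),
      Submodule.span R (Set.range g) = ⊤ := by
  by_cases hf0 : f = 0
  · refine ⟨0, ?_⟩
    have : LinearMap.ker (f • (LinearMap.id : M →ₗ[R] M)) = ⊤ := by simp [hf0]
    haveI := Submodule.Quotient.subsingleton_iff.2 this
    exact Subsingleton.elim _ _
  obtain ⟨n, x, a, hx, ha, hu⟩ : ∃ (n : ℕ) (x : Fin n → M) (a : Matrix (Fin n) (Fin n) R),
      Submodule.span R (Set.range x) = ⊤ ∧ (∀ i : Fin n, (i : ℕ) < n - k → ∑ j, a i j • x j = 0) ∧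
        ∃ u : Rˣ, a.det = u * f := by
    by_contra hne
    have hle : Fitt.ideal R M k ≤ IsLocalRing.maximalIdeal R * Ideal.span {f} := by
      rw [Fitt.ideal, Ideal.span_le]
      rintro _ ⟨n, x, a, hx, ha, rfl⟩
      have hmem : a.det ∈ Fitt.ideal R M k := Ideal.subset_span ⟨n, x, a, hx, ha, rfl⟩
      rw [hf] at hmem
      obtain ⟨c, hc⟩ := Ideal.mem_span_singleton'.1 hmem
      rw [← hc]
      refine Ideal.mul_mem_mul ((IsLocalRing.mem_maximalIdeal _).2 fun hu => hne ?_) (Ideal.mem_span_singleton_self f)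
      exact ⟨n, x, a, hx, ha, hu.unit, by rw [← hc]; rfl⟩
    obtain ⟨c, hc, hcf⟩ := Ideal.mem_mul_span_singleton.1 (hle (hf ▸ Ideal.mem_span_singleton_self f))
    have h1 : IsUnit (1 - c) := (IsLocalRing.isUnit_or_isUnit_one_sub_self c).resolve_left
      ((IsLocalRing.mem_maximalIdeal _).1 hc)
    exact hf0 (h1.mul_right_eq_zero.1 (by rw [sub_mul, one_mul, hcf, sub_self]))
  obtain ⟨u, hu⟩ := hu
  let q := (LinearMap.ker (f • (LinearMap.id : M →ₗ[R] M))).mkQ
  refine ⟨fun i => if h : n - k + (i : ℕ) < n then q (∑ j, a ⟨n - k + i, h⟩ j • x j) else 0, ?_⟩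
  rw [eq_top_iff, ← Submodule.range_mkQ (LinearMap.ker (f • (LinearMap.id : M →ₗ[R] M))), ← Submodule.map_top,
    ← hx, Submodule.map_span, Submodule.span_le]
  rintro _ ⟨_, ⟨j, rfl⟩, rfl⟩
  have hadj : ∀ i : Fin n, ¬(i : ℕ) < n - k → ∃ t, Matrix.adjugate a j i = t * f := fun i hi => by
    have hmem : Matrix.adjugate a j i ∈ Fitt.ideal R M k := by
      refine Ideal.subset_span ⟨n, x, a.updateRow i (Pi.single j 1), hx, fun l hl => ?_, Matrix.adjugate_apply a j i⟩
      rw [Matrix.updateRow_ne (fun h : l = i => hi (h ▸ hl))]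
      exact ha l hl
    rw [hf] at hmem
    exact (Ideal.mem_span_singleton'.1 hmem).imp fun t ht => ht.symm
  choose t ht using hadj
  let y : M := ∑ i : Fin n, if h : (i : ℕ) < n - k then 0 else t i h • ∑ l, a i l • x l
  have hy : (u : R) • x j - y ∈ LinearMap.ker (f • (LinearMap.id : M →ₗ[R] M)) := by
    rw [LinearMap.mem_ker, LinearMap.smul_apply, LinearMap.id_apply, smul_sub, smul_smul, mul_comm, ← hu,
      Groth.Misc3Fitt.det_smul_eq x a j, sub_eq_zero, Finset.smul_sum]
    refine Finset.sum_congr rfl fun i _ => ?_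
    split_ifs with h
    · rw [ha i h, smul_zero, smul_zero]
    · rw [ht i h, smul_smul f, mul_comm]
  have he : q (x j) = (↑u⁻¹ : R) • q y := by
    have h2 : q ((u : R) • x j) = q y := (Submodule.Quotient.eq _).2 hy
    rw [← h2, map_smul, smul_smul, Units.inv_mul, one_smul]
  show q (x j) ∈ _
  rw [he]
  refine Submodule.smul_mem _ _ ?_
  rw [map_sum]
  refine Submodule.sum_mem _ fun i _ => ?_
  split_ifs with h
  · rw [map_zero]; exact zero_mem _
  · rw [map_smul]
    refine Submodule.smul_mem _ _ ?_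
    obtain ⟨d, hd⟩ := Nat.exists_eq_add_of_le (not_lt.1 h)
    refine Submodule.subset_span ⟨⟨d, by omega⟩, ?_⟩
    simp only
    rw [dif_pos (by omega)]
    have : (⟨n - k + d, by omega⟩ : Fin n) = i := Fin.ext hd.symm
    rw [this]

end Groth.Agent.S6896
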