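import Groth.Statements.S6897
import Groth.Agent.Misc3Fitt.Strict
import Groth.Agent.Misc3Fitt.Split

set_option autoImplicit false
universe u
open CategoryTheory
open Fitt

namespace Groth.Agent.S6897

/-- Let `M` be a finitely presented `R`-module and `k ≥ 0` such that `Fit_k(M) = (f)` for a
nonzerodivisor `f` and `Fit_{k-1}(M) = 0` (no condition when `k = 0`). Let `M' = Ker(f : M → M)`.
Then: the projective dimension of `M` is at most `1`; `M'` coincides with the `f`-power torsion of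
`M` and its projective dimension is at most `1`; every prime of `R` has a basic open neighbourhood
over which `M/M'` is free of rank `k`; and `M ≅ M/M' ⊕ M'` (existence of an isomorphism). -/
theorem result {R : Type u} [CommRing R] (M : Type u)
    [AddCommGroup M] [Module R M] [Module.FinitePresentation R M] (k : ℕ) (f : R) (hf0 : f ∈ nonZeroDivisors R)
    (hf : Fitt.ideal R M k = Ideal.span {f}) (hk : k = 0 ∨ Fitt.ideal R M (k - 1) = ⊥) :
    HasProjectiveDimensionLT (ModuleCat.of R M) 2 ∧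
    (∀ x : M, (∃ n : ℕ, f ^ n • x = 0) ↔ f • x = 0) ∧
    HasProjectiveDimensionLT (ModuleCat.of R ↥(LinearMap.ker (f • (LinearMap.id : M →ₗ[R] M)))) 2 ∧
    (∀ (p : Ideal R) [p.IsPrime], ∃ g : R, g ∉ p ∧
      Module.Free (Localization.Away g)
          (LocalizedModule (Submonoid.powers g) (M ⧸ LinearMap.ker (f • (LinearMap.id : M →ₗ[R] M)))) ∧
        Module.finrank (Localization.Away g)
          (LocalizedModule (Submonoid.powers g) (M ⧸ LinearMap.ker (f • (LinearMap.id : M →ₗ[R] M)))) = k) ∧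
    Nonempty (M ≃ₗ[R] (M ⧸ LinearMap.ker (f • (LinearMap.id : M →ₗ[R] M))) ×
      ↥(LinearMap.ker (f • (LinearMap.id : M →ₗ[R] M)))) := by
  let T : Submodule R M := LinearMap.ker (f • (LinearMap.id : M →ₗ[R] M))
  have hT : ∀ m : M, f • m = 0 ↔ m ∈ T := fun m => Iff.rfl
  have htop : Fitt.ideal R (M ⧸ T) k = ⊤ := by
    refine Groth.Misc3Fitt.ideal_quotient_eq_top f hf0 T (fun m => (hT m).1) (Ideal.span_mono ?_
      (Groth.Misc3Fitt.fitt_le_span_det (hf.symm ▸ Ideal.mem_span_singleton_self f : f ∈ Fitt.ideal R M k)))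
    rintro _ ⟨D, rfl⟩
    exact ⟨D, fun e he => hf ▸ D.elts_subset he, rfl⟩
  have hbot : ∀ j, j < k → Fitt.ideal R (M ⧸ T) j = ⊥ := fun j hj => by
    refine Groth.Misc3Fitt.ideal_quotient_eq_bot hf0 T (fun m => (hT m).2) (eq_bot_iff.2 ?_)
    have h := hk.resolve_left (by omega)
    exact h ▸ Groth.Misc3Fitt.ideal_mono (Nat.le_sub_one_of_lt hj)
  have hloc := (Groth.Misc3Fitt.locallyFree_rank_iff (R := R) (M := M ⧸ T) k).2 ⟨hbot, fun j hj =>
    top_le_iff.1 (htop.ge.trans (Groth.Misc3Fitt.ideal_mono hj))⟩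
  obtain ⟨hfp, hproj⟩ := Groth.Misc3Fitt.projective_of_locallyFree (R := R) (N := M ⧸ T) fun p _ => by
    obtain ⟨g, hg, hfree, -⟩ := hloc p
    exact ⟨g, hg, hfree⟩
  obtain ⟨σ, hσ⟩ := Module.projective_lifting_property T.mkQ LinearMap.id T.mkQ_surjective
  have hσ' : ∀ y, T.mkQ (σ y) = y := fun y => LinearMap.congr_fun hσ y
  let ρ : M →ₗ[R] T := (LinearMap.id - σ.comp T.mkQ).codRestrict T fun m =>
    (Submodule.Quotient.mk_eq_zero T).1 (by
      show T.mkQ (m - σ (T.mkQ m)) = 0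
      rw [map_sub, hσ', sub_self])
  have hρ : ∀ m, (ρ m : M) = m - σ (T.mkQ m) := fun m => rfl
  let e : M ≃ₗ[R] (M ⧸ T) × T := LinearEquiv.ofLinearMap (T.mkQ.prod ρ) (σ.coprod T.subtype)
    (LinearMap.ext fun ⟨y, t⟩ => by
      have h1 : T.mkQ (σ y + (t : M)) = y := by
        rw [map_add, hσ']
        exact add_eq_left.2 ((Submodule.Quotient.mk_eq_zero T).2 t.2)
      refine Prod.ext h1 (Subtype.ext ?_)
      show (σ y + (t : M)) - σ (T.mkQ (σ y + (t : M))) = t
      rw [h1]; abel)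
    (LinearMap.ext fun m => by
      show σ (T.mkQ m) + (m - σ (T.mkQ m)) = m
      abel)
  haveI : Module.Finite R T := Module.Finite.of_surjective ((LinearMap.snd R (M ⧸ T) T).comp e.toLinearMap)
    (Prod.snd_surjective.comp e.surjective)
  have h0 : Fitt.ideal R T 0 = Ideal.span {f} := by
    have h := hf.symm.trans ((Groth.Misc3Fitt.ideal_congr e k).trans (Groth.Misc3Fitt.ideal_prod k))
    rw [Finset.sum_eq_single_of_mem k (Finset.self_mem_range_succ k) fun j hj hjk => by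
      rw [hbot j (lt_of_le_of_ne (Finset.mem_range_succ_iff.1 hj) hjk), Ideal.bot_mul]; rfl] at h
    rw [htop, Nat.sub_self, Ideal.top_mul] at h
    exact h.symm
  have hpdT := Groth.Misc3Fitt.pd_le_one_of_fitt hf0 h0
  haveI := hpdT
  refine ⟨Groth.Misc3Fitt.pd_le_one_of_prod T.mkQ T.mkQ_surjective T.ker_mkQ, fun x => ⟨?_, fun hx => ⟨1, by rwa [pow_one]⟩⟩,
    hpdT, hloc, ⟨e⟩⟩
  rintro ⟨n, hn⟩
  obtain ⟨s, hs⟩ := Module.projective_def'.1 hproj
  have h1 : f ^ n • s (T.mkQ x) = 0 := by rw [← map_smul, ← map_smul, hn, map_zero, map_zero]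
  have h2 : s (T.mkQ x) = 0 := Finsupp.ext fun i =>
    (mem_nonZeroDivisors_iff_left.1 (pow_mem hf0 n)) _ (DFunLike.congr_fun h1 i)
  refine (hT x).2 ((Submodule.Quotient.mk_eq_zero T).1 ?_)
  have h3 := LinearMap.congr_fun hs (T.mkQ x)
  rw [LinearMap.comp_apply, h2, map_zero] at h3
  exact h3.symm

end Groth.Agent.S6897
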