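import Groth.Statements.S6898
import Mathlib
-- import your own Groth.Agent.* helpers here

set_option autoImplicit false
universe u
open TensorProduct
open CAlg

namespace Groth.Agent.S6898

open TensorProduct in
theorem mem_inf_smul_of_flat {A N : Type u} [CommRing A] [AddCommGroup N] [Module A N] [Module.Flat A N]
    (L₁ L₂ : Ideal A) (y : N) (h1 : y ∈ L₁ • (⊤ : Submodule A N)) (h2 : y ∈ L₂ • (⊤ : Submodule A N)) :
    y ∈ (L₁ ⊓ L₂) • (⊤ : Submodule A N) := by
  let f : A →ₗ[A] (A ⧸ L₁) × (A ⧸ L₂) := (Submodule.mkQ L₁).prod (Submodule.mkQ L₂)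
  have hex : Function.Exact (L₁ ⊓ L₂).subtype f := by
    rw [LinearMap.exact_iff]
    ext c
    simp [f, LinearMap.ker_prod, Submodule.ker_mkQ]
  have hl := Module.Flat.lTensor_exact N hex
  have h0 : f.lTensor N (y ⊗ₜ[A] (1 : A)) = 0 := by
    apply (TensorProduct.prodRight A A N (A ⧸ L₁) (A ⧸ L₂)).injective
    rw [map_zero, LinearMap.lTensor_tmul, TensorProduct.prodRight_tmul]
    refine Prod.ext ((tensorQuotEquivQuotSMul N L₁).injective ?_) ((tensorQuotEquivQuotSMul N L₂).injective ?_)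
    · rw [Prod.fst_zero, map_zero]
      show tensorQuotEquivQuotSMul N L₁ (y ⊗ₜ[A] Ideal.Quotient.mk L₁ 1) = 0
      rw [tensorQuotEquivQuotSMul_tmul_mk, one_smul]
      exact (Submodule.Quotient.mk_eq_zero _).2 h1
    · rw [Prod.snd_zero, map_zero]
      show tensorQuotEquivQuotSMul N L₂ (y ⊗ₜ[A] Ideal.Quotient.mk L₂ 1) = 0
      rw [tensorQuotEquivQuotSMul_tmul_mk, one_smul]
      exact (Submodule.Quotient.mk_eq_zero _).2 h2
  obtain ⟨z, hz⟩ := (hl _).1 h0
  have h3 : ∀ z, TensorProduct.rid A N ((L₁ ⊓ L₂).subtype.lTensor N z) ∈ (L₁ ⊓ L₂) • (⊤ : Submodule A N) := by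
    intro z
    induction z with
    | zero => simp
    | tmul n c => simpa using Submodule.smul_mem_smul c.2 (Submodule.mem_top : n ∈ (⊤ : Submodule A N))
    | add a b ha hb => rw [map_add, map_add]; exact add_mem ha hb
  have h4 := h3 z
  rw [hz] at h4
  simpa using h4

open TensorProduct in
theorem mem_smul_top_of_colon {A N : Type u} [CommRing A] [IsLocalRing A] [AddCommGroup N] [Module A N] [Module.Flat A N]
    (L : Ideal A) (a : A) (ha : a ∉ L) (hma : ∀ c ∈ IsLocalRing.maximalIdeal A, c * a ∈ L)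
    (y : N) (hy : a • y ∈ L • (⊤ : Submodule A N)) : y ∈ IsLocalRing.maximalIdeal A • (⊤ : Submodule A N) := by
  let m := IsLocalRing.maximalIdeal A
  let μ : (A ⧸ m) →ₗ[A] A ⧸ L := Submodule.mapQ m L (LinearMap.mulRight A a) (fun c hc => hma c hc)
  have hμ : Function.Injective μ := by
    rw [injective_iff_map_eq_zero]
    intro c hc
    obtain ⟨c, rfl⟩ := Submodule.Quotient.mk_surjective _ c
    refine (Submodule.Quotient.mk_eq_zero _).2 ?_
    by_contra hcm
    obtain ⟨v, hv⟩ := (IsLocalRing.notMem_maximalIdeal.1 hcm).exists_left_inv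
    exact ha (by simpa [← mul_assoc, hv] using L.mul_mem_left v ((Submodule.Quotient.mk_eq_zero _).1 hc : c * a ∈ L))
  have hi := Module.Flat.lTensor_preserves_injective_linearMap (M := N) μ hμ
  have h0 : μ.lTensor N (y ⊗ₜ[A] Ideal.Quotient.mk m 1) = 0 := by
    apply (tensorQuotEquivQuotSMul N L).injective
    rw [map_zero, LinearMap.lTensor_tmul]
    show tensorQuotEquivQuotSMul N L (y ⊗ₜ[A] Ideal.Quotient.mk L ((1 : A) * a)) = 0
    rw [tensorQuotEquivQuotSMul_tmul_mk, one_mul]
    exact (Submodule.Quotient.mk_eq_zero _).2 hy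
  have h1 := congrArg (tensorQuotEquivQuotSMul N m) ((injective_iff_map_eq_zero _).1 hi _ h0)
  rw [tensorQuotEquivQuotSMul_tmul_mk, map_zero, one_smul] at h1
  exact (Submodule.Quotient.mk_eq_zero _).1 h1

/-- Let `(A, 𝔪)` be a local ring and `u : M → N` a linear map between flat `A`-modules whose reduction
`M/𝔪M → N/𝔪N` is injective. If `I` is the content ideal of some `x ∈ M` (the least ideal `I` with `x
∈ IM`), then `I` is also the least ideal `J` with `u(x) ∈ J·N`. -/
theorem result {A : Type u} [CommRing A] [IsLocalRing A] {M N : Type u}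
    [AddCommGroup M] [Module A M] [Module.Flat A M] [AddCommGroup N] [Module A N] [Module.Flat A N] (u : M →ₗ[A] N)
    (hu : Function.Injective (u.baseChange (IsLocalRing.ResidueField A))) (x : M) (I : Ideal A)
    (hx : IsLeast {J : Ideal A | x ∈ J • (⊤ : Submodule A M)} I) :
    IsLeast {J : Ideal A | u x ∈ J • (⊤ : Submodule A N)} I := by
  classical
  have hmapN : ∀ (L : Ideal A) (y : M), y ∈ L • (⊤ : Submodule A M) → u y ∈ L • (⊤ : Submodule A N) := fun L y hy =>
    Submodule.smul_mono le_rfl le_top (Submodule.map_smul'' L ⊤ u ▸ Submodule.mem_map_of_mem hy)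
  refine ⟨hmapN I x hx.1, fun J hJ => ?_⟩
  -- finite generation of the content
  have hfin : ∀ y ∈ I • (⊤ : Submodule A M), ∃ s : Finset A, (s : Set A) ⊆ I ∧ y ∈ Ideal.span (s : Set A) • (⊤ : Submodule A M) := by
    intro y hy
    refine Submodule.smul_induction_on hy (fun r hr m _ => ⟨{r}, by simpa using hr, ?_⟩) (fun a b ha hb => ?_)
    · exact Submodule.smul_mem_smul (Ideal.subset_span (by simp)) trivial
    · obtain ⟨s, hs, ha⟩ := ha
      obtain ⟨t, ht, hb⟩ := hb
      refine ⟨s ∪ t, by simp [hs, ht], add_mem ?_ ?_⟩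
      · exact Submodule.smul_mono_left (Ideal.span_mono (by simp)) ha
      · exact Submodule.smul_mono_left (Ideal.span_mono (by simp)) hb
  obtain ⟨G, hG, hxG⟩ := hfin x hx.1
  have hIG : I = Ideal.span (G : Set A) := le_antisymm (hx.2 hxG) (Ideal.span_le.2 hG)
  by_contra hnle
  let m := IsLocalRing.maximalIdeal A
  let I' := m • I ⊔ (J ⊓ I)
  have hI'ne : ¬ I ≤ I' := by
    intro hle
    have h1 : I ≤ J ⊓ I := Submodule.le_of_le_smul_of_le_jacobson_bot (R := A) (M := A)
      (hIG ▸ Submodule.fg_span G.finite_toSet) (IsLocalRing.maximalIdeal_le_jacobson _) (hle.trans (le_of_eq (sup_comm _ _)))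
    exact hnle (h1.trans inf_le_left)
  let S : Finset (Finset A) := G.powerset.filter (fun T : Finset A => ¬ I ≤ I' ⊔ Ideal.span (T : Set A))
  have hSne : S.Nonempty := ⟨∅, Finset.mem_filter.2 ⟨Finset.empty_mem_powerset _, by simpa using hI'ne⟩⟩
  obtain ⟨T, hT, hTmax⟩ := Finset.exists_max_image S Finset.card hSne
  obtain ⟨hTG, hTI⟩ := Finset.mem_filter.1 hT
  rw [Finset.mem_powerset] at hTG
  obtain ⟨a, haG, haL⟩ : ∃ a ∈ G, a ∉ I' ⊔ Ideal.span (T : Set A) := by
    by_contra hc
    push Not at hc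
    exact hTI (hIG ▸ Ideal.span_le.2 (fun g hg => hc g hg))
  let L := I' ⊔ Ideal.span (T : Set A)
  have haT : a ∉ T := fun h => haL (le_sup_right (a := I') (Ideal.subset_span h))
  have hIL : I ≤ Ideal.span {a} ⊔ L := by
    by_contra hc
    have hins : insert a T ∈ S := Finset.mem_filter.2 ⟨Finset.mem_powerset.2 (Finset.insert_subset haG hTG), fun hle => hc ?_⟩
    · have := hTmax _ hins
      rw [Finset.card_insert_of_notMem haT] at this
      omega
    · refine hle.trans ?_
      rw [Finset.coe_insert, Ideal.span_insert]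
      exact sup_le (le_sup_left.trans le_sup_right) (sup_le le_sup_left (le_sup_right.trans le_sup_right))
  have hLI : L ≤ I := sup_le (sup_le Submodule.smul_le_right inf_le_right)
    (hIG ▸ Ideal.span_mono (Finset.coe_subset.2 hTG))
  have hma : ∀ c ∈ m, c * a ∈ L := fun c hc => le_sup_left (b := Ideal.span (T : Set A))
    (le_sup_left (b := J ⊓ I) (Submodule.smul_mem_smul (N := I) hc (hG haG)))
  have hxL : x ∈ (Ideal.span {a} ⊔ L) • (⊤ : Submodule A M) := Submodule.smul_mono_left hIL hx.1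
  rw [Submodule.sup_smul] at hxL
  obtain ⟨y, hy, z, hz, rfl⟩ := Submodule.mem_sup.1 hxL
  obtain ⟨w, -, rfl⟩ := (Submodule.mem_smul_pointwise_iff_exists _ _ _).1 (Submodule.ideal_span_singleton_smul a (⊤ : Submodule A M) ▸ hy)
  have hnot : a • w + z ∉ L • (⊤ : Submodule A M) := fun h => haL (hx.2 h (hG haG))
  -- u x lies in L N
  have hjn : ∀ (L₁ L₂ : Ideal A) (y : N), y ∈ L₁ • (⊤ : Submodule A N) → y ∈ L₂ • (⊤ : Submodule A N) →
      y ∈ (L₁ ⊓ L₂) • (⊤ : Submodule A N) := fun L₁ L₂ y h1 h2 => mem_inf_smul_of_flat L₁ L₂ y h1 h2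
  have huL : u (a • w + z) ∈ L • (⊤ : Submodule A N) :=
    Submodule.smul_mono_left ((le_sup_right : J ⊓ I ≤ I').trans le_sup_left) (hjn J I _ hJ (hmapN I _ hx.1))
  have hauw : a • u w ∈ L • (⊤ : Submodule A N) := by
    have := sub_mem huL (hmapN L z hz)
    simpa [map_add, map_smul] using this
  have huw : u w ∈ m • (⊤ : Submodule A N) := mem_smul_top_of_colon L a haL hma (u w) hauw
  have hw : w ∈ m • (⊤ : Submodule A M) := by
    have h1 : u.baseChange (IsLocalRing.ResidueField A) (1 ⊗ₜ[A] w) = 0 := by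
      rw [LinearMap.baseChange_tmul]
      exact (TensorProduct.quotTensorEquivQuotSMul N m).injective (by
        refine Eq.trans ?_ (LinearEquiv.map_zero _).symm
        show TensorProduct.quotTensorEquivQuotSMul N m ((1 : A ⧸ m) ⊗ₜ[A] u w) = 0
        rw [TensorProduct.quotTensorEquivQuotSMul_mk_one_tmul]; exact (Submodule.Quotient.mk_eq_zero _).2 huw)
    have h2 : (1 : A ⧸ m) ⊗ₜ[A] w = 0 := (injective_iff_map_eq_zero _).1 hu _ h1
    have h3 := congrArg (TensorProduct.quotTensorEquivQuotSMul M m) h2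
    rw [TensorProduct.quotTensorEquivQuotSMul_mk_one_tmul, map_zero] at h3
    exact (Submodule.Quotient.mk_eq_zero _).1 h3
  refine hnot (add_mem ?_ hz)
  refine Submodule.smul_induction_on hw (fun c hc y _ => ?_) (fun y1 y2 h1 h2 => by rw [smul_add]; exact add_mem h1 h2)
  rw [smul_smul, mul_comm]
  exact Submodule.smul_mem_smul (hma c hc) trivial

end Groth.Agent.S6898
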