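import Groth.Statements.S6899
import Groth.Agent.EtaleAlgebra.MilnorGlue

set_option autoImplicit false
universe u
open TensorProduct
open EtAlg

namespace Groth.Agent.S6899

/-- Let `B' = B ×_A A'` be a fibre square of rings with `A' → A` surjective, and let `(N₁, M₁', φ₁) →
(N₂, M₂', φ₂)` be a morphism of glueing data (a `B`-linear `u : N₁ → N₂` and an `A'`-linear `v : M₁'
→ M₂'` compatible with the `φ_i`) with `u` and `v` surjective. Then the induced map of glued modules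
`N₁ ×_{φ₁} M₁' → N₂ ×_{φ₂} M₂'` is surjective. -/
theorem result (B' B A' A : Type u) [CommRing B'] [CommRing B] [CommRing A'] [CommRing A]
    [Algebra B' B] [Algebra B' A'] [Algebra B A] [Algebra A' A] [Algebra B' A] [IsScalarTower B' B A] [IsScalarTower B' A' A]
    (hsq : EtMil.IsFibreSquare B' B A' A)
    {N₁ N₂ M₁' M₂' : Type u} [AddCommGroup N₁] [Module B N₁] [Module B' N₁] [IsScalarTower B' B N₁]
    [AddCommGroup N₂] [Module B N₂] [Module B' N₂] [IsScalarTower B' B N₂]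
    [AddCommGroup M₁'] [Module A' M₁'] [Module B' M₁'] [IsScalarTower B' A' M₁']
    [AddCommGroup M₂'] [Module A' M₂'] [Module B' M₂'] [IsScalarTower B' A' M₂']
    (φ₁ : A ⊗[B] N₁ ≃ₗ[A] A ⊗[A'] M₁') (φ₂ : A ⊗[B] N₂ ≃ₗ[A] A ⊗[A'] M₂') (u : N₁ →ₗ[B] N₂) (v : M₁' →ₗ[A'] M₂')
    (hc : (v.baseChange A).comp φ₁.toLinearMap = φ₂.toLinearMap.comp (u.baseChange A))
    (hu : Function.Surjective u) (hv : Function.Surjective v) :
    ∀ y : N₂ × M₂', y ∈ EtMil.glue B' φ₂ → ∃ x : N₁ × M₁', x ∈ EtMil.glue B' φ₁ ∧ u x.1 = y.1 ∧ v x.2 = y.2 := by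
  intro y hy
  obtain ⟨n, hn⟩ := hu y.1
  obtain ⟨m, hm⟩ := TensorProduct.mk_surjective A' M₁' A hsq.1 (φ₁ ((1 : A) ⊗ₜ[B] n))
  have h0 : (1 : A) ⊗ₜ[A'] (y.2 - v m) = 0 := by
    have h := LinearMap.congr_fun hc ((1 : A) ⊗ₜ[B] n)
    simp only [LinearMap.comp_apply, LinearEquiv.coe_coe, LinearMap.baseChange_tmul, hn] at h
    rw [← hm, Groth.EtaleAlgebra.Milnor.mem_glue.1 hy] at h
    rw [TensorProduct.tmul_sub, sub_eq_zero, ← h]
    exact (LinearMap.baseChange_tmul v (1 : A) m)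
  suffices ∀ d ∈ RingHom.ker (algebraMap A' A) • (⊤ : Submodule A' M₂'), ∃ m₀ : M₁', v m₀ = d ∧ (1 : A) ⊗ₜ[A'] m₀ = 0 by
    obtain ⟨m₀, h1, h2⟩ := this _ (Groth.EtaleAlgebra.Milnor.mem_smul_top_of_tmul hsq.1 h0)
    refine ⟨(n, m + m₀), Groth.EtaleAlgebra.Milnor.mem_glue.2 ?_, hn, by rw [map_add, h1, add_sub_cancel]⟩
    rw [TensorProduct.tmul_add, h2, add_zero, ← hm]
    rfl
  intro d hd
  refine Submodule.smul_induction_on hd (fun i hi d _ => ?_) ?_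
  · obtain ⟨m', rfl⟩ := hv d
    refine ⟨i • m', map_smul v i m', ?_⟩
    rw [← TensorProduct.smul_tmul, Algebra.smul_def, RingHom.mem_ker.1 hi, zero_mul, TensorProduct.zero_tmul]
  · rintro a b ⟨x, hx, hx'⟩ ⟨z, hz, hz'⟩
    exact ⟨x + z, by rw [map_add, hx, hz], by rw [TensorProduct.tmul_add, hx', hz', add_zero]⟩

end Groth.Agent.S6899
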