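import Groth.Statements.S6902
import Groth.Agent.DAlg.KFlatOps


set_option autoImplicit false
universe u
open CategoryTheory CategoryTheory.Limits MonoidalCategory
open DRing

namespace Groth.Agent.S6902

/-- Let `0 → K₁• → K₂• → K₃• → 0` be a short exact sequence of complexes of `R`-modules such that every
term `K₃^n` is flat. If two out of the three complexes are K-flat, so is the third. -/
theorem result (R : Type u) [CommRing R] (S : ShortComplex (DRing.Cx R))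
    (hS : S.ShortExact) (h3 : DRing.TermwiseFlat S.X₃) :
    (((∀ L : DRing.Cx R, (∀ i : ℤ, IsZero (L.homology i)) → ∀ i : ℤ, IsZero ((L ⊗ S.X₁).homology i))) → ((∀ L : DRing.Cx R, (∀ i : ℤ, IsZero (L.homology i)) → ∀ i : ℤ, IsZero ((L ⊗ S.X₂).homology i))) → (∀ L : DRing.Cx R, (∀ i : ℤ, IsZero (L.homology i)) → ∀ i : ℤ, IsZero ((L ⊗ S.X₃).homology i))) ∧
    (((∀ L : DRing.Cx R, (∀ i : ℤ, IsZero (L.homology i)) → ∀ i : ℤ, IsZero ((L ⊗ S.X₁).homology i))) → ((∀ L : DRing.Cx R, (∀ i : ℤ, IsZero (L.homology i)) → ∀ i : ℤ, IsZero ((L ⊗ S.X₃).homology i))) → (∀ L : DRing.Cx R, (∀ i : ℤ, IsZero (L.homology i)) → ∀ i : ℤ, IsZero ((L ⊗ S.X₂).homology i))) ∧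
    (((∀ L : DRing.Cx R, (∀ i : ℤ, IsZero (L.homology i)) → ∀ i : ℤ, IsZero ((L ⊗ S.X₂).homology i))) → ((∀ L : DRing.Cx R, (∀ i : ℤ, IsZero (L.homology i)) → ∀ i : ℤ, IsZero ((L ⊗ S.X₃).homology i))) → (∀ L : DRing.Cx R, (∀ i : ℤ, IsZero (L.homology i)) → ∀ i : ℤ, IsZero ((L ⊗ S.X₁).homology i))) := by
  exact DAlg.KFlatMod.two_of_three_shortExact S hS h3

end Groth.Agent.S6902
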