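import Groth.Statements.S6905
import Groth.Agent.DAlg.KFlat


set_option autoImplicit false
universe u
open CategoryTheory CategoryTheory.Limits MonoidalCategory
open DRing

namespace Groth.Agent.S6905

/-- For every complex `M•` of `R`-modules there is a K-flat complex `K•` with flat terms together with a
degreewise surjective quasi-isomorphism `K• → M•`. -/
theorem result (R : Type u) [CommRing R] (M : DRing.Cx R) :
    ∃ (K : DRing.Cx R) (f : K ⟶ M), (∀ L : DRing.Cx R, (∀ i : ℤ, IsZero (L.homology i)) → ∀ i : ℤ, IsZero ((L ⊗ K).homology i)) ∧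
      DRing.TermwiseFlat K ∧ QuasiIso f ∧ ∀ i : ℤ, Function.Surjective (f.f i) := by
  exact ⟨_, (DAlg.KFlatMod.resAug R).app M, DAlg.KFlatMod.res_isKFlat M, DAlg.KFlatMod.res_flat M,
    DAlg.KFlatMod.resAug_quasiIso M, fun i =>
      haveI := DAlg.KFlatMod.resAug_epi M
      (ModuleCat.epi_iff_surjective _).1
        (inferInstance : Epi (((DAlg.KFlatMod.resAug R).app M).f i))⟩

end Groth.Agent.S6905
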