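import Groth.Statements.S6907
import Groth.Agent.DAlg.KFlatOps


set_option autoImplicit false
universe u
open CategoryTheory CategoryTheory.Limits MonoidalCategory
open DRing

namespace Groth.Agent.S6907

/-- Let `K•` be a K-flat complex of `R`-modules. Then `L• ↦ Tot(L• ⊗_R K•)` sends quasi-isomorphisms to
quasi-isomorphisms; and if `α : P• → Q•` is a quasi-isomorphism between K-flat complexes, then
`Tot(id_L ⊗ α)` is a quasi-isomorphism for every complex `L•`. -/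
theorem result (R : Type u) [CommRing R] :
    (∀ (K : DRing.Cx R), (∀ L : DRing.Cx R, (∀ i : ℤ, IsZero (L.homology i)) → ∀ i : ℤ, IsZero ((L ⊗ K).homology i)) →
      ∀ (L₁ L₂ : DRing.Cx R) (f : L₁ ⟶ L₂), QuasiIso f → QuasiIso (f ▷ K)) ∧
    (∀ (P Q : DRing.Cx R) (α : P ⟶ Q), (∀ L : DRing.Cx R, (∀ i : ℤ, IsZero (L.homology i)) → ∀ i : ℤ, IsZero ((L ⊗ P).homology i)) →
      (∀ L : DRing.Cx R, (∀ i : ℤ, IsZero (L.homology i)) → ∀ i : ℤ, IsZero ((L ⊗ Q).homology i)) → QuasiIso α →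
        ∀ L : DRing.Cx R, QuasiIso (L ◁ α)) := by
  exact ⟨fun K hK _ _ f hf => DAlg.KFlatMod.quasiIso_whiskerRight hK f,
    fun P Q α hP hQ hα L => DAlg.KFlatMod.quasiIso_whiskerLeft α hP hQ L⟩

end Groth.Agent.S6907
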