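import Groth.Statements.S6909
import Mathlib

set_option autoImplicit false
universe u
open CAlg

namespace Groth.Agent.S6909
theorem diff_mem {A : Type u} [CommRing A] (I : Ideal A) {L M : Type u} [AddCommGroup L] [Module A L]
    [AddCommGroup M] [Module A M] (f f' : L →ₗ[A] M) {a b m : ℕ}
    (hff' : ∀ x : L, f x - f' x ∈ I ^ a • (⊤ : Submodule A M)) (h : a + b = m)
    {x : L} (hx : x ∈ I ^ b • (⊤ : Submodule A L)) : f x - f' x ∈ I ^ m • (⊤ : Submodule A M) := by
  have h1 := Submodule.mem_map_of_mem (f := f - f') hx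
  rw [Submodule.map_smul''] at h1
  subst h
  rw [add_comm, pow_add, mul_smul]
  refine Submodule.smul_mono le_rfl ?_ h1
  rintro _ ⟨z, -, rfl⟩
  exact hff' z
theorem step {A : Type u} [CommRing A] (I : Ideal A) {L M N : Type u} [AddCommGroup L] [Module A L]
    [AddCommGroup M] [Module A M] [AddCommGroup N] [Module A N]
    (f f' : L →ₗ[A] M) (g : M →ₗ[A] N) (c : ℕ)
    (hf : ∀ n : ℕ, c ≤ n → LinearMap.range f ⊓ (I ^ n • (⊤ : Submodule A M)) ≤ Submodule.map f (I ^ (n - c) • (⊤ : Submodule A L)))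
    (hg : ∀ n : ℕ, c ≤ n → LinearMap.range g ⊓ (I ^ n • (⊤ : Submodule A N)) ≤ Submodule.map g (I ^ (n - c) • (⊤ : Submodule A M)))
    (hex : Function.Exact f g)
    (hff' : ∀ x : L, f x - f' x ∈ I ^ (c + 1) • (⊤ : Submodule A M))
    (k : ℕ) (y : M) (hy : y ∈ I ^ k • (⊤ : Submodule A M))
    (hgy : g y ∈ I ^ (k + c + 1) • (⊤ : Submodule A N)) :
    ∃ x : L, y - f' x ∈ I ^ (k + 1) • (⊤ : Submodule A M) := by
  obtain ⟨z, hz, hzy⟩ := hg (k + c + 1) (by omega) ⟨LinearMap.mem_range_self g y, hgy⟩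
  have hz' : z ∈ I ^ (k + 1) • (⊤ : Submodule A M) := by
    rwa [show k + c + 1 - c = k + 1 by omega] at hz
  obtain ⟨x₀, hx₀⟩ := (hex (y - z)).1 (by rw [map_sub, hzy, sub_self])
  obtain ⟨x, hfx, hx⟩ : ∃ x, f x = y - z ∧ f x - f' x ∈ I ^ (k + 1) • (⊤ : Submodule A M) := by
    by_cases hk : c ≤ k
    · obtain ⟨x, hx, hxe⟩ := hf k hk ⟨⟨x₀, hx₀⟩,
        Submodule.sub_mem _ hy (Submodule.smul_mono_left (Ideal.pow_le_pow_right (Nat.le_succ k)) hz')⟩
      refine ⟨x, hxe, ?_⟩
      exact diff_mem I f f' hff' (by omega : c + 1 + (k - c) = k + 1) hx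
    · exact ⟨x₀, hx₀, Submodule.smul_mono_left (Ideal.pow_le_pow_right (by omega)) (hff' x₀)⟩
  refine ⟨x, ?_⟩
  have : y - f' x = z + (f x - f' x) := by rw [hfx]; abel
  rw [this]
  exact Submodule.add_mem _ hz' hx


/-- Let `A` be a Noetherian ring, `I ⊆ A` an ideal inside the Jacobson radical, and `L → M → N` two
complexes `(f, g)` and `(f', g')` of finite `A`-modules with `f' ≡ f` modulo `I^{c+1}M` and `g' ≡ g`
modulo `I^{c+1}N`. If `c` works in the Artin–Rees lemma for `f` and for `g` (that is `f(L) ∩ IⁿM ⊆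
f(I^{n-c}L)` for `n ≥ c`, and likewise for `g`) and `(f, g)` is exact, then `c` works for `g'` and
`(f', g')` is exact. -/
theorem result {A : Type u} [CommRing A] [IsNoetherianRing A] (I : Ideal A)
    (hI : I ≤ Ideal.jacobson (⊥ : Ideal A)) {L M N : Type u} [AddCommGroup L] [Module A L] [Module.Finite A L]
    [AddCommGroup M] [Module A M] [Module.Finite A M] [AddCommGroup N] [Module A N] [Module.Finite A N]
    (f f' : L →ₗ[A] M) (g g' : M →ₗ[A] N) (c : ℕ) (hgf : g.comp f = 0) (hgf' : g'.comp f' = 0)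
    (hf : (∀ n : ℕ, c ≤ n → LinearMap.range f ⊓ (I ^ n • (⊤ : Submodule A M)) ≤ Submodule.map f (I ^ (n - c) • (⊤ : Submodule A L))))
    (hg : (∀ n : ℕ, c ≤ n → LinearMap.range g ⊓ (I ^ n • (⊤ : Submodule A N)) ≤ Submodule.map g (I ^ (n - c) • (⊤ : Submodule A M))))
    (hex : Function.Exact f g)
    (hff' : ∀ x : L, f x - f' x ∈ I ^ (c + 1) • (⊤ : Submodule A M))
    (hgg' : ∀ y : M, g y - g' y ∈ I ^ (c + 1) • (⊤ : Submodule A N)) :
    (∀ n : ℕ, c ≤ n → LinearMap.range g' ⊓ (I ^ n • (⊤ : Submodule A N)) ≤ Submodule.map g' (I ^ (n - c) • (⊤ : Submodule A M))) ∧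
    Function.Exact f' g' := by
  refine ⟨fun n hn => ?_, fun y => ⟨fun hy => ?_, ?_⟩⟩
  · rintro _ ⟨⟨y, rfl⟩, hy⟩
    suffices H : ∀ j, j ≤ n - c → ∃ w, w ∈ I ^ j • (⊤ : Submodule A M) ∧ g' w = g' y by
      obtain ⟨w, hw, hwy⟩ := H (n - c) le_rfl
      exact ⟨w, hw, hwy⟩
    intro j hj
    induction j with
    | zero => exact ⟨y, by simp, rfl⟩
    | succ j ih =>
      obtain ⟨w, hw, hwy⟩ := ih (by omega)
      have hgw : g w ∈ I ^ (j + c + 1) • (⊤ : Submodule A N) := by
        have h1 : g w = (g w - g' w) + g' y := by rw [hwy]; abel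
        rw [h1]
        exact Submodule.add_mem _ (diff_mem I g g' hgg' (by omega : c + 1 + j = j + c + 1) hw)
          (Submodule.smul_mono_left (Ideal.pow_le_pow_right (by omega)) hy)
      obtain ⟨x, hx⟩ := step I f f' g c hf hg hex hff' j w hw hgw
      refine ⟨_, hx, ?_⟩
      rw [map_sub, hwy, ← LinearMap.comp_apply, hgf', LinearMap.zero_apply, sub_zero]
  · have H : ∀ k, ∃ x, y - f' x ∈ I ^ k • (⊤ : Submodule A M) := by
      intro k
      induction k with
      | zero => exact ⟨0, by simp⟩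
      | succ k ih =>
        obtain ⟨x, hx⟩ := ih
        set w := y - f' x
        have hgw : g w ∈ I ^ (k + c + 1) • (⊤ : Submodule A N) := by
          have h1 : g' w = 0 := by
            simp only [w, map_sub, hy, ← LinearMap.comp_apply, hgf', LinearMap.zero_apply, sub_zero]
          have := diff_mem I g g' hgg' (by omega : c + 1 + k = k + c + 1) hx
          rwa [h1, sub_zero] at this
        obtain ⟨x', hx'⟩ := step I f f' g c hf hg hex hff' k w hx hgw
        exact ⟨x + x', by rwa [map_add, ← sub_sub]⟩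
    have h0 : (LinearMap.range f').mkQ y ∈ ⨅ k : ℕ, I ^ k • (⊤ : Submodule A (M ⧸ LinearMap.range f')) := by
      rw [Submodule.mem_iInf]
      intro k
      obtain ⟨x, hx⟩ := H k
      have h2 := Submodule.mem_map_of_mem (f := (LinearMap.range f').mkQ) hx
      rw [Submodule.map_smul'', map_sub,
        show (LinearMap.range f').mkQ (f' x) = 0 from (Submodule.Quotient.mk_eq_zero _).2 ⟨x, rfl⟩,
        sub_zero] at h2
      exact Submodule.smul_mono le_rfl le_top h2
    rw [Ideal.iInf_pow_smul_eq_bot_of_le_jacobson _ hI, Submodule.mem_bot, Submodule.mkQ_apply,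
      Submodule.Quotient.mk_eq_zero] at h0
    exact h0
  · rintro ⟨x, rfl⟩
    exact LinearMap.congr_fun hgf' x

end Groth.Agent.S6909
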