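import Groth.Statements.S6911
import Mathlib
-- import your own Groth.Agent.* helpers here

set_option autoImplicit false
universe u
open TensorProduct
open CAlg

namespace Groth.Agent.S6911

/-- Let `A → B` be a flat map of Noetherian rings, `I ⊆ A` an ideal and `f : M → N` a map of finite
`A`-modules such that `c` works for `f` in the Artin–Rees lemma (`f(M) ∩ IⁿN ⊆ f(I^{n-c}M)` for `n ≥
c`). Then `c` works for `f ⊗ 1 : M ⊗_A B → N ⊗_A B` and the ideal `IB`. -/
theorem result {A B : Type u} [CommRing A] [IsNoetherianRing A] [CommRing B]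
    [IsNoetherianRing B] [Algebra A B] [Module.Flat A B] (I : Ideal A) {M N : Type u} [AddCommGroup M] [Module A M]
    [Module.Finite A M] [AddCommGroup N] [Module A N] [Module.Finite A N] (f : M →ₗ[A] N) (c : ℕ)
    (hf : (∀ n : ℕ, c ≤ n → LinearMap.range f ⊓ (I ^ n • (⊤ : Submodule A N)) ≤ Submodule.map f (I ^ (n - c) • (⊤ : Submodule A M)))) :
    ∀ n : ℕ, c ≤ n →
      LinearMap.range (f.baseChange B) ⊓ ((I.map (algebraMap A B)) ^ n • (⊤ : Submodule B (B ⊗[A] N))) ≤
        Submodule.map (f.baseChange B) ((I.map (algebraMap A B)) ^ (n - c) • (⊤ : Submodule B (B ⊗[A] M))) := by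
  intro n hn
  rintro _ ⟨⟨z, rfl⟩, hz⟩
  let J := I.map (algebraMap A B)
  have hmem : ∀ (k : ℕ) {P : Type u} [AddCommGroup P] [Module A P] (b : B) (x : P), x ∈ I ^ k • (⊤ : Submodule A P) →
      b ⊗ₜ[A] x ∈ J ^ k • (⊤ : Submodule B (B ⊗[A] P)) := by
    intro k P _ _ b x hx
    refine Submodule.smul_induction_on hx (fun r hr y _ => ?_) (fun y w hy hw => ?_)
    · rw [TensorProduct.tmul_smul, ← algebraMap_smul B r (b ⊗ₜ[A] y)]
      refine Submodule.smul_mem_smul ?_ trivial
      rw [← Ideal.map_pow]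
      exact Ideal.mem_map_of_mem _ hr
    · rw [TensorProduct.tmul_add]; exact add_mem hy hw
  let π := (I ^ n • (⊤ : Submodule A N)).mkQ
  have h0 : ∀ y ∈ J ^ n • (⊤ : Submodule B (B ⊗[A] N)), π.baseChange B y = 0 := by
    intro y hy
    rw [← Ideal.map_pow, Ideal.map, Submodule.span_smul_eq] at hy
    refine (Submodule.set_smul_le_iff _ _ (LinearMap.ker (π.baseChange B))).2 ?_ hy
    rintro _ w ⟨r, hr, rfl⟩ -
    rw [LinearMap.mem_ker, map_smul]
    induction w with
    | zero => simp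
    | tmul b x =>
      rw [LinearMap.baseChange_tmul, algebraMap_smul, ← TensorProduct.tmul_smul, ← map_smul,
        show π (r • x) = 0 from (Submodule.Quotient.mk_eq_zero _).2 (Submodule.smul_mem_smul hr trivial), TensorProduct.tmul_zero]
    | add a b ha hb => rw [map_add, smul_add, ha, hb, add_zero]
  have hzK : (π ∘ₗ f).lTensor B z = 0 := by
    have h1 := h0 _ hz
    rw [← LinearMap.comp_apply, ← LinearMap.baseChange_comp] at h1
    exact h1
  have hex : Function.Exact ((LinearMap.ker (π ∘ₗ f)).subtype.lTensor B) ((π ∘ₗ f).lTensor B) :=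
    Module.Flat.lTensor_exact B (LinearMap.exact_subtype_ker_map _)
  obtain ⟨w, rfl⟩ := (hex z).1 hzK
  induction w with
  | zero => simp
  | tmul b k =>
    have hk : f k.1 ∈ I ^ n • (⊤ : Submodule A N) := (Submodule.Quotient.mk_eq_zero _).1 k.2
    obtain ⟨m, hm, hfm⟩ := hf n hn ⟨⟨k.1, rfl⟩, hk⟩
    refine ⟨b ⊗ₜ[A] m, hmem _ b m hm, ?_⟩
    simp [hfm]
  | add a b ha hb =>
    have hk : ∀ c, f.baseChange B ((LinearMap.ker (π ∘ₗ f)).subtype.lTensor B c) ∈ J ^ n • (⊤ : Submodule B (B ⊗[A] N)) := fun c => by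
      induction c with
      | zero => simp
      | tmul b k =>
        rw [LinearMap.lTensor_tmul, LinearMap.baseChange_tmul]
        exact hmem n b _ ((Submodule.Quotient.mk_eq_zero _).1 k.2)
      | add x y hx hy => rw [map_add, map_add]; exact add_mem hx hy
    rw [map_add, map_add]
    exact add_mem (ha (hk a) ((hex _).2 ⟨a, rfl⟩)) (hb (hk b) ((hex _).2 ⟨b, rfl⟩))

end Groth.Agent.S6911
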