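import Groth.Statements.S6912
import Mathlib

set_option autoImplicit false
universe u
open TensorProduct
open CAlg

namespace Groth.Agent.S6912

/-- Let `R` be a domain and `M`, `N` two `R`-modules; rank means dimension over the fraction field after
base change. Then `rank (M ⊗_R N) = rank M · rank N`, and when `M` is finitely presented also `rank
Hom_R(M, N) = rank M · rank N`. -/
theorem result (R : Type u) [CommRing R] [IsDomain R] (M N : Type u)
    [AddCommGroup M] [Module R M] [AddCommGroup N] [Module R N] :
    Module.rank R (M ⊗[R] N) = Module.rank R M * Module.rank R N ∧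
    (Module.FinitePresentation R M → Module.rank R (M →ₗ[R] N) = Module.rank R M * Module.rank R N) := by
  let K := FractionRing R
  have key : ∀ (X : Type u) [AddCommGroup X] [Module R X], Module.rank R X = Module.rank K (K ⊗[R] X) := by
    intro X _ _
    rw [IsLocalization.rank_eq K (nonZeroDivisors R) le_rfl,
      IsLocalizedModule.rank_eq (nonZeroDivisors R) le_rfl (TensorProduct.mk R K X 1)]
  refine ⟨?_, fun hM => ?_⟩
  · rw [key M, key N, key (M ⊗[R] N), ← rank_tensorProduct']
    exact (TensorProduct.AlgebraTensorModule.distribBaseChange R K M N).rank_eq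
  · let f := TensorProduct.mk R K M 1
    let g := TensorProduct.mk R K N 1
    have h : Module.rank R (M →ₗ[R] N) = Module.rank K ((K ⊗[R] M) →ₗ[K] (K ⊗[R] N)) := by
      have h1 := IsLocalization.rank_eq (N := (K ⊗[R] M) →ₗ[K] (K ⊗[R] N)) K (nonZeroDivisors R)
        le_rfl
      have h2 := @IsLocalizedModule.lift_rank_eq R (M →ₗ[R] N) ((K ⊗[R] M) →ₗ[K] (K ⊗[R] N)) _
        LinearMap.addCommGroup LinearMap.addCommGroup _ _ (nonZeroDivisors R)
        (IsLocalizedModule.mapExtendScalars (nonZeroDivisors R) f g K) inferInstance le_rfl
      rw [Cardinal.lift_id, Cardinal.lift_id] at h2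
      exact (h1.trans h2).symm
    rw [h, key M, key N, Module.rank_linearMap, Cardinal.lift_id, Cardinal.lift_id]

end Groth.Agent.S6912
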