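import Groth.Statements.S6913
import Mathlib
import Groth.Agent.Calg3.DualTF

set_option autoImplicit false
universe u
open CAlg

namespace Groth.Agent.S6913
open Groth.Calg3


/-- Let `R` be a domain and `M` a finite `R`-module, of (finite) rank `r`. Then: some linear map `M →
R^r` has torsion kernel and torsion cokernel; some nonzero `f ∈ R` makes `M_f` free of rank `r` over
`R_f`; and some injective linear map `R^r → M` has torsion cokernel. -/
theorem result (R : Type u) [CommRing R] [IsDomain R] (M : Type u) [AddCommGroup M]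
    [Module R M] [Module.Finite R M] :
    (∃ h : M →ₗ[R] (Fin (Module.finrank R M) → R),
      (∀ x : M, h x = 0 → ∃ c : R, c ≠ 0 ∧ c • x = 0) ∧
      (∀ y : Fin (Module.finrank R M) → R, ∃ c : R, c ≠ 0 ∧ c • y ∈ LinearMap.range h)) ∧
    (∃ f : R, f ≠ 0 ∧ Module.Free (Localization.Away f) (LocalizedModule (Submonoid.powers f) M) ∧
      Module.finrank (Localization.Away f) (LocalizedModule (Submonoid.powers f) M) = Module.finrank R M) ∧
    (∃ g : (Fin (Module.finrank R M) → R) →ₗ[R] M, Function.Injective g ∧
      ∀ x : M, ∃ c : R, c ≠ 0 ∧ c • x ∈ LinearMap.range g) := by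
  obtain ⟨g, h, d, hd, hg, h1, h2⟩ := exists_finrank_pair R M
  refine ⟨⟨h, fun x hx => ⟨d, hd, by rw [← h1, hx, map_zero]⟩, fun y => ⟨d, hd, g y, h2 y⟩⟩,
    ⟨d, hd, ?_⟩, ⟨g, hg, fun x => ⟨d, hd, h x, h1 x⟩⟩⟩
  let S := Submonoid.powers d
  let gS := LocalizedModule.map S g
  let hS := LocalizedModule.map S h
  let u : Localization.Away d := algebraMap R _ d
  have hu : IsUnit u := IsLocalization.map_units (Localization.Away d) (⟨d, Submonoid.mem_powers d⟩ : S)
  have c1 : ∀ z, gS (hS z) = u • z := by
    intro z
    induction z using LocalizedModule.induction_on with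
    | h m s => simp [gS, hS, u, LocalizedModule.map_mk, h1, LocalizedModule.smul'_mk, algebraMap_smul]
  have c2 : ∀ z, hS (gS z) = u • z := by
    intro z
    induction z using LocalizedModule.induction_on with
    | h m s => simp [gS, hS, u, LocalizedModule.map_mk, h2, LocalizedModule.smul'_mk, algebraMap_smul]
  have hbij : Function.Bijective gS := by
    refine ⟨fun a b hab => hu.smul_left_cancel.mp (by rw [← c2, ← c2, hab]), fun z => ?_⟩
    refine ⟨hu.unit⁻¹.val • hS z, ?_⟩
    rw [map_smul, c1, smul_smul, IsUnit.val_inv_mul, one_smul]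
  let e := LinearEquiv.ofBijective gS hbij
  have hf : Module.Free (Localization.Away d) (LocalizedModule S (Fin (Module.finrank R M) → R)) :=
    Module.free_of_isLocalizedModule S (LocalizedModule.mkLinearMap S _)
  refine ⟨Module.Free.of_equiv e, ?_⟩
  have : Nontrivial (Localization.Away d) :=
    (IsLocalization.isDomain_localization (powers_le_nonZeroDivisors_of_noZeroDivisors hd)).toNontrivial
  rw [← e.finrank_eq, Module.finrank_of_isLocalizedModule_of_free (Localization.Away d) S
    (LocalizedModule.mkLinearMap S (Fin (Module.finrank R M) → R))]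
  simp

end Groth.Agent.S6913
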