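import Groth.Statements.S6915
import Groth.Agent.Misc3Fitt.StrictAffine

set_option autoImplicit false
universe u
open TensorProduct
open Fitt

namespace Groth.Agent.S6915

/-- Let `M` be a finite `R`-module, `k ≥ 0` and `I = Fit_k(M)`, and assume `M_𝔭` is free of rank `k` for
every prime `𝔭` not containing `I`. Then for every `a ∈ I` and (a copy `R₁` of) the affine blow-up
algebra `R[I/a]`, the strict transform `M' = (M ⊗_R R₁)/(a-power torsion)` is finite locally free of
rank `k`: every prime of `R₁` has a basic open neighbourhood over which `M'` is free of rank `k`. -/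
theorem result {R : Type u} [CommRing R] (M : Type u) [AddCommGroup M]
    [Module R M] [Module.Finite R M] (k : ℕ)
    (hfree : ∀ (p : Ideal R) [p.IsPrime], ¬ Fitt.ideal R M k ≤ p →
      Module.Free (Localization.AtPrime p) (LocalizedModule p.primeCompl M) ∧
        Module.finrank (Localization.AtPrime p) (LocalizedModule p.primeCompl M) = k)
    (a : R) (ha : a ∈ Fitt.ideal R M k) (R₁ : Type u) [CommRing R₁] [Algebra R R₁] (e : R₁ ≃ₐ[R] ↥(BlowUp.affineAlgebra R (Fitt.ideal R M k) a)) :
    ∀ (p' : Ideal R₁) [p'.IsPrime], ∃ g : R₁, g ∉ p' ∧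
      Module.Free (Localization.Away g) (LocalizedModule (Submonoid.powers g) ((R₁ ⊗[R] M) ⧸ FlatCA.powTorsion R₁ (algebraMap R R₁ a) (R₁ ⊗[R] M))) ∧
      Module.finrank (Localization.Away g) (LocalizedModule (Submonoid.powers g) ((R₁ ⊗[R] M) ⧸ FlatCA.powTorsion R₁ (algebraMap R R₁ a) (R₁ ⊗[R] M))) = k := by
  refine (Groth.Misc3Fitt.locallyFree_rank_iff k).2 ⟨fun j hj => ?_, fun j hj => ?_⟩
  · refine Groth.Misc3Fitt.ideal_strict_eq_bot a R₁ (Groth.Misc3Fitt.copy_nzd e) fun p _ hap x hx => ?_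
    obtain ⟨h1, h2⟩ := hfree p fun hle => hap (hle ha)
    exact Groth.Misc3Fitt.exists_smul_eq_zero_of_free hj p h1 h2 hx
  · exact top_le_iff.1 ((Groth.Misc3Fitt.ideal_strict_fitt_eq_top ha e).ge.trans (Groth.Misc3Fitt.ideal_mono hj))

end Groth.Agent.S6915
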