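import Groth.Statements.S6920
import Mathlib.Algebra.Category.Ring.Epi


set_option autoImplicit false
universe u
open CategoryTheory CategoryTheory.Limits MonoidalCategory
open DRing
open scoped TensorProduct
open CategoryTheory.Limits

namespace Groth.Agent.S6920

/-- For an epimorphism of rings `φ : R → S` and a complex `I•` of `S`-modules, if the underlying complex
of `R`-modules of `I•` is K-injective, then `I•` itself is K-injective over `S`. -/
theorem result (R S : Type u) [CommRing R] [CommRing S] (φ : R →+* S)
    (hφ : Epi (CommRingCat.ofHom φ)) (I : DRing.Cx S)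
    [CochainComplex.IsKInjective ((DRing.restrictCx φ).obj I)] : CochainComplex.IsKInjective I := by
  refine ⟨fun {K} f hK => ?_⟩
  let F := ModuleCat.restrictScalars.{u} φ
  algebraize [φ]
  have hE : Algebra.IsEpi R S := CommRingCat.epi_iff_epi.1 hφ
  have hfull : F.Full := ⟨fun {M N} h => by
    let : Module R M := Module.compHom M φ
    let : Module R N := Module.compHom N φ
    have : IsScalarTower R S M := ⟨fun r s m => (congrArg (· • m) (Algebra.smul_def r s)).trans (mul_smul (φ r) s m)⟩
    have : IsScalarTower R S N := ⟨fun r s m => (congrArg (· • m) (Algebra.smul_def r s)).trans (mul_smul (φ r) s m)⟩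
    let h' : M →ₗ[R] N := h.hom
    let g : TensorProduct R S M →ₗ[R] N :=
      TensorProduct.lift ((LinearMap.restrictScalars₁₂ R R (LinearMap.lsmul S N)).compl₂ h')
    have hs : ∀ (s : S) (m : M), h' (s • m) = s • h' m := fun s m => by
      have e : (1 : S) ⊗ₜ[R] (s • m) = s ⊗ₜ[R] m := Algebra.injective_lift_lsmul R S M (by simp)
      simpa [g] using congrArg g e
    exact ⟨ModuleCat.ofHom { h' with map_smul' := hs }, rfl⟩⟩
  have hac : ((F.mapHomologicalComplex (ComplexShape.up ℤ)).obj K).Acyclic := fun i =>
    (ShortComplex.Exact.map (hK i) F : _)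
  obtain ⟨h⟩ := CochainComplex.IsKInjective.nonempty_homotopy_zero
    (L := (DRing.restrictCx φ).obj I) ((DRing.restrictCx φ).map f) hac
  exact ⟨{
    hom := fun i j => F.preimage (h.hom i j)
    zero := fun i j hij => F.map_injective ((F.map_preimage _).trans ((h.zero i j hij).trans (F.map_zero _ _).symm))
    comm := fun i => F.map_injective (by
      refine (h.comm i).trans ?_
      simp only [HomologicalComplex.zero_f, add_zero, F.map_add, dNext, prevD, AddMonoidHom.mk'_apply, F.map_comp,
        ]
      exact (congrArg₂ (· + ·) (congrArg (F.map _ ≫ ·) (F.map_preimage _))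
        (congrArg (· ≫ F.map _) (F.map_preimage _))).symm) }⟩

end Groth.Agent.S6920
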