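import Groth.Statements.S6921
import Groth.Agent.EtaleAlgebra.MilnorGlue
import Groth.Agent.S12081

set_option autoImplicit false
universe u
open TensorProduct
open EtAlg

namespace Groth.Agent.S6921

/-- Let `B' = B ×_A A'` be a fibre square of rings with `A' → A` surjective, `B' → D'` a ring map, and
`D = D' ⊗_{B'} B`, `C' = D' ⊗_{B'} A'`, `C = D' ⊗_{B'} A`. Let `N` be a finite `D`-module, `M'` a
finite `C'`-module and `φ : N ⊗_D C ≅ M' ⊗_{C'} C` a `C`-linear isomorphism. Then the glued module
`N ×_φ M'` is a finite `D'`-module. -/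
theorem result (B' B A' A : Type u) [CommRing B'] [CommRing B] [CommRing A'] [CommRing A]
    [Algebra B' B] [Algebra B' A'] [Algebra B A] [Algebra A' A] [Algebra B' A] [IsScalarTower B' B A] [IsScalarTower B' A' A]
    (hsq : EtMil.IsFibreSquare B' B A' A)
    (D' D C' C : Type u) [CommRing D'] [CommRing D] [CommRing C'] [CommRing C]
    [Algebra B' D'] [Algebra B D] [Algebra A' C'] [Algebra A C]
    [Algebra D' D] [Algebra B' D] [IsScalarTower B' B D] [IsScalarTower B' D' D] [Algebra.IsPushout B' B D' D]
    [Algebra D' C'] [Algebra B' C'] [IsScalarTower B' A' C'] [IsScalarTower B' D' C'] [Algebra.IsPushout B' A' D' C']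
    [Algebra D' C] [Algebra B' C] [IsScalarTower B' A C] [IsScalarTower B' D' C] [Algebra.IsPushout B' A D' C]
    [Algebra D C] [IsScalarTower D' D C] [Algebra B C] [IsScalarTower B A C] [IsScalarTower B D C]
    [Algebra C' C] [IsScalarTower D' C' C] [Algebra A' C] [IsScalarTower A' A C] [IsScalarTower A' C' C]
    {N M' : Type u} [AddCommGroup N] [Module D N] [Module D' N] [IsScalarTower D' D N]
    [AddCommGroup M'] [Module C' M'] [Module D' M'] [IsScalarTower D' C' M'] (φ : C ⊗[D] N ≃ₗ[C] C ⊗[C'] M')
    [Module.Finite D N] [Module.Finite C' M'] : Module.Finite D' ↥(EtMil.glue D' φ) := by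
  have hs : Function.Surjective (algebraMap D' D) := by
    intro d
    induction d using (Algebra.IsPushout.symm ‹Algebra.IsPushout B' B D' D›).out.inductionOn with
    | zero => exact ⟨0, map_zero _⟩
    | tmul b =>
      obtain ⟨b', rfl⟩ := Groth.EtaleAlgebra.Milnor.surjective_left hsq b
      refine ⟨algebraMap B' D' b', ?_⟩
      rw [← IsScalarTower.algebraMap_apply, IsScalarTower.algebraMap_apply B' B D]
      rfl
    | smul s n ih =>
      obtain ⟨x, rfl⟩ := ih
      exact ⟨s * x, by rw [map_mul, Algebra.smul_def]⟩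
    | add a b iha ihb =>
      obtain ⟨x, rfl⟩ := iha
      obtain ⟨y, rfl⟩ := ihb
      exact ⟨x + y, map_add _ _ _⟩
  have hC : Function.Surjective (algebraMap C' C) := by
    intro c
    induction c using (Algebra.IsPushout.symm ‹Algebra.IsPushout B' A D' C›).out.inductionOn with
    | zero => exact ⟨0, map_zero _⟩
    | tmul a =>
      obtain ⟨a', rfl⟩ := hsq.1 a
      refine ⟨algebraMap A' C' a', ?_⟩
      rw [← IsScalarTower.algebraMap_apply, IsScalarTower.algebraMap_apply A' A C]
      rfl
    | smul s n ih =>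
      obtain ⟨x, rfl⟩ := ih
      exact ⟨algebraMap D' C' s * x, by rw [map_mul, Algebra.smul_def, ← IsScalarTower.algebraMap_apply]⟩
    | add a b iha ihb =>
      obtain ⟨x, rfl⟩ := iha
      obtain ⟨y, rfl⟩ := ihb
      exact ⟨x + y, map_add _ _ _⟩
  have : IsScalarTower B' C' C := IsScalarTower.of_algebraMap_eq fun x => by
    rw [IsScalarTower.algebraMap_apply B' D' C', ← IsScalarTower.algebraMap_apply D' C' C,
      ← IsScalarTower.algebraMap_apply]
  have hk : Groth.EtaleAlgebra.Milnor.KerLift D' D C' C := by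
    intro c hc
    have hA : Algebra.IsPushout A' A C' C :=
      (Algebra.IsPushout.comp_iff (R := B') (S := A') (T := A) (R' := D') (S' := C') (T' := C)).1 inferInstance
    have hc' : (1 : A) ⊗ₜ[A'] c = 0 := by
      apply hA.out.equiv.injective
      rw [map_zero, IsBaseChange.equiv_tmul, one_smul]
      exact hc
    have hmem : c ∈ (RingHom.ker (algebraMap A' A)).map (algebraMap A' C') := by
      have := Groth.EtaleAlgebra.Milnor.mem_smul_top_of_tmul hsq.1 hc'
      rwa [Ideal.smul_top_eq_map, Submodule.restrictScalars_mem] at this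
    have hmem' : c ∈ ((RingHom.ker (algebraMap A' A)).map (algebraMap A' C') : Set C') := hmem
    rw [← Groth.Agent.S12081.result B' B A' A hsq D' C'] at hmem'
    obtain ⟨d, hd, rfl⟩ := hmem'
    refine ⟨d, ?_, rfl⟩
    have hle : (RingHom.ker (algebraMap B' B)).map (algebraMap B' D') ≤ RingHom.ker (algebraMap D' D) := by
      rw [Ideal.map_le_iff_le_comap]
      intro j hj
      rw [Ideal.mem_comap, RingHom.mem_ker, ← IsScalarTower.algebraMap_apply,
        IsScalarTower.algebraMap_apply B' B D, RingHom.mem_ker.1 hj, map_zero]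
    exact hle hd
  exact Groth.EtaleAlgebra.Milnor.glue_finite hs hC hk

end Groth.Agent.S6921
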