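import Groth.Statements.S6926
import Groth.Agent.Calg1.FlatteningIdeal

set_option autoImplicit false
universe u
open TensorProduct
open FlatMor

namespace Groth.Agent.S6926

/-- Let `(R, 𝔪)` be a complete Noetherian local ring, `R → S` with `S` Noetherian, `M` a finite
`S`-module, and `I ⊆ 𝔪` the least ideal with the property that, at each prime `𝔮` of `S` lying above
`𝔪`, the localization `(M/IM)_𝔮` is an `R/I`-flat module. Let `φ : R → R'` be a local homomorphism
to a Noetherian local ring `(R', 𝔪')`, `S' = S ⊗_R R'`, `M' = M ⊗_R R'`. Then `M'_{𝔮'}` is flat over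
`R'` for every prime `𝔮'` of `S'` lying over `𝔪'` if and only if `φ(I) = 0`. -/
theorem result {R S R' S' : Type u} [CommRing R] [IsLocalRing R]
    [IsNoetherianRing R] [IsAdicComplete (IsLocalRing.maximalIdeal R) R] [CommRing S] [IsNoetherianRing S]
    [CommRing R'] [IsLocalRing R'] [IsNoetherianRing R'] [CommRing S']
    [Algebra R S] [Algebra R R'] [IsLocalHom (algebraMap R R')] [Algebra S S'] [Algebra R' S'] [Algebra R S']
    [IsScalarTower R S S'] [IsScalarTower R R' S'] [Algebra.IsPushout R S R' S']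
    {M M' : Type u} [AddCommGroup M] [Module S M] [Module R M] [IsScalarTower R S M] [Module.Finite S M]
    [AddCommGroup M'] [Module S' M'] [Module R' M'] [IsScalarTower R' S' M'] [Module S M'] [IsScalarTower S S' M']
    (f : M →ₗ[S] M') (hf : IsBaseChange S' f) (I : Ideal R) (hIm : I ≤ IsLocalRing.maximalIdeal R)
    (hI : (∀ (q : Ideal S) [q.IsPrime], q.comap (algebraMap R S) = IsLocalRing.maximalIdeal R →
        Module.Flat (R ⧸ I) ((R ⧸ I) ⊗[R] LocalizedModule q.primeCompl M)))
    (hmin : ∀ J : Ideal R, (∀ (q : Ideal S) [q.IsPrime], q.comap (algebraMap R S) = IsLocalRing.maximalIdeal R →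
        Module.Flat (R ⧸ J) ((R ⧸ J) ⊗[R] LocalizedModule q.primeCompl M)) → I ≤ J) :
    (∀ (q' : Ideal S') [q'.IsPrime], q'.comap (algebraMap R' S') = IsLocalRing.maximalIdeal R' → FlatCA.FlatAt R' q' M') ↔
      I ≤ RingHom.ker (algebraMap R R') := by
  obtain ⟨I₀, -, hI₀, hmin₀, huniv⟩ := Groth.Calg1.Flattening.exists_flatteningIdeal (R := R) S M
  let : Module R M' := Module.compHom M' (algebraMap R R')
  have : IsScalarTower R R' M' := IsScalarTower.of_algebraMap_smul fun _ _ => rfl
  have hsmul : ∀ (r : R) (m : M), f (r • m) = r • f m := fun r m => by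
    rw [← algebraMap_smul S r m, map_smul, ← algebraMap_smul S' (algebraMap R S r) (f m),
      ← IsScalarTower.algebraMap_apply, IsScalarTower.algebraMap_apply R R' S', algebraMap_smul,
      algebraMap_smul]
  let β : M →ₗ[R] M' := { toFun := f, map_add' := map_add f, map_smul' := hsmul }
  have : Algebra.IsPushout R R' S S' := Algebra.IsPushout.symm inferInstance
  let e : M' ≃ₗ[R'] R' ⊗[R] M :=
    (hf.equiv.symm.restrictScalars R').trans (Algebra.IsPushout.cancelBaseChange R R' S S' M)
  have hβ : IsBaseChange R' β := IsBaseChange.of_equiv e.symm fun m => by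
    rw [LinearEquiv.symm_apply_eq]
    show (1 : R') ⊗ₜ[R] m = _
    simp [e, β, IsBaseChange.equiv_symm_apply]
  have hσ : ∀ (s : S) m, β (s • m) = algebraMap S S' s • β m := fun s m => by
    show f (s • m) = algebraMap S S' s • f m
    rw [map_smul, algebraMap_smul]
  constructor
  · intro h
    refine (hmin I₀ fun q hq h' => hI₀ ⟨⟨q, hq⟩, h'⟩).trans fun x hx => ?_
    rw [RingHom.mem_ker, ← Submodule.mem_bot R',
      ← Ideal.iInf_pow_eq_bot_of_isLocalRing (IsLocalRing.maximalIdeal R')
        (IsLocalRing.maximalIdeal.isMaximal R').ne_top, Submodule.mem_iInf]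
    intro k
    refine Ideal.pow_le_pow_right (Nat.le_succ k) ?_
    have h0 := huniv k (R' ⧸ IsLocalRing.maximalIdeal R' ^ (k + 1)) (by
      rw [IsScalarTower.algebraMap_eq R R' (R' ⧸ IsLocalRing.maximalIdeal R' ^ (k + 1)), ← Ideal.map_map,
        Ideal.map_pow, Ideal.Quotient.algebraMap_eq]
      refine Ideal.map_mk_eq_bot_of_le (Ideal.pow_right_mono ?_ _)
      exact ((IsLocalRing.local_hom_TFAE (algebraMap R R')).out 0 2 rfl rfl).1 ‹_›)
      fun q => Groth.Calg1.Flattening.flat_mod_of_flatAt (algebraMap S S') hβ hσ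
        (IsLocalRing.maximalIdeal R') k h q.1.asIdeal
    have h1 := Ideal.mem_map_of_mem (algebraMap R (R' ⧸ IsLocalRing.maximalIdeal R' ^ (k + 1))) hx
    rw [h0, Ideal.mem_bot, IsScalarTower.algebraMap_apply R R' (R' ⧸ IsLocalRing.maximalIdeal R' ^ (k + 1)),
      Ideal.Quotient.algebraMap_eq, Ideal.Quotient.eq_zero_iff_mem] at h1
    exact h1
  · intro hle q' _ hq'
    have := hI (q'.comap (algebraMap S S')) (by
      rw [Ideal.comap_comap, ← IsScalarTower.algebraMap_eq, IsScalarTower.algebraMap_eq R R' S',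
        ← Ideal.comap_comap, hq']
      exact ((IsLocalRing.local_hom_TFAE (algebraMap R R')).out 0 4 rfl rfl).1 ‹_›)
    exact Groth.Calg1.Flattening.flatAt_of_le_ker (algebraMap S S') hβ hσ I
      ((Ideal.map_eq_bot_iff_le_ker _).2 hle) q' 

end Groth.Agent.S6926
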