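import Groth.Statements.S6927
import Groth.Agent.Calg1.FlatteningIdeal
import Groth.Agent.FlatMorOne.FlatLocusOpen
import Groth.Agent.EtaleDeep.IndEt.Over

set_option autoImplicit false
universe u
open TensorProduct
open FlatMor

namespace Groth.Agent.S6927

section Descent

open TensorProduct

attribute [local instance] Algebra.TensorProduct.rightAlgebra

open Groth.FlatMorOne in
set_option synthInstance.maxHeartbeats 200000 in
set_option maxHeartbeats 1000000 in
/-- The closed fibre of the flat locus descends to a finitely generated stage. -/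
theorem exists_stage_flat_closed_fibre {R S M R' S' M' : Type u} [CommRing R] [IsNoetherianRing R]
    [CommRing S] [Algebra R S] [Algebra.FiniteType R S] [AddCommGroup M] [Module S M] [Module R M]
    [IsScalarTower R S M] [Module.Finite S M] [CommRing R'] [IsLocalRing R'] [Algebra R R']
    [CommRing S'] [Algebra R' S'] [Algebra S S'] [Algebra R S'] [IsScalarTower R S S']
    [IsScalarTower R R' S'] [Algebra.IsPushout R R' S S'] [AddCommGroup M'] [Module S' M']
    [Module R' M'] [IsScalarTower R' S' M'] [Module S M'] [IsScalarTower S S' M']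
    {f : M →ₗ[S] M'} (hf : IsBaseChange S' f)
    (h : ∀ (q' : Ideal S') [q'.IsPrime], q'.comap (algebraMap R' S') = IsLocalRing.maximalIdeal R' →
      Module.Flat R' (LocalizedModule q'.primeCompl M')) :
    ∃ B : Subalgebra R R', B.FG ∧ ∀ (b : Ideal (SOf R S B)) [b.IsPrime],
      b.comap (algebraMap B (SOf R S B)) = (IsLocalRing.maximalIdeal R').comap (algebraMap B R') →
      Module.Flat B (LocalizedModule b.primeCompl (MOf R S M B)) := by
  classical
  let Z : Set (PrimeSpectrum S') :=
    {q | q.asIdeal.comap (algebraMap R' S') = IsLocalRing.maximalIdeal R'}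
  have hZ : IsCompact Z := by
    refine IsClosed.isCompact ?_
    rw [show Z = PrimeSpectrum.comap (algebraMap R' S') ⁻¹' {IsLocalRing.closedPoint R'} by
      ext q; exact ⟨fun h => PrimeSpectrum.ext h, fun h => congrArg PrimeSpectrum.asIdeal h⟩]
    exact (IsLocalRing.isClosed_singleton_closedPoint R').preimage (PrimeSpectrum.continuous_comap _)
  choose A hA hflat using fun q : Z =>
    exists_stage_flat_at (R₀ := R) (R := R') hf q.1 (h q.1.asIdeal q.2)
  have hN : ∀ q, IsNoetherianRing (A q) := fun q => isNoetherianRing_of_fg (hA q)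
  let U : ∀ q, Set (PrimeSpectrum (SOf R S (A q))) := fun q =>
    {b | Module.Flat (A q) (LocalizedModule b.asIdeal.primeCompl (MOf R S M (A q)))}
  obtain ⟨t, ht⟩ := hZ.elim_finite_subcover
    (fun q => PrimeSpectrum.comap (stageAlgHom R R' S S' (A q)).toRingHom ⁻¹' U q)
    (fun q => by
      have := hN q
      exact isOpen_flatLocus_of_isNoetherianRing.preimage (PrimeSpectrum.continuous_comap _))
    (fun q hq => Set.mem_iUnion.mpr ⟨⟨q, hq⟩, hflat ⟨q, hq⟩ (A ⟨q, hq⟩) (hA _) le_rfl⟩)
  let B := t.sup A
  refine ⟨B, Finset.sup_induction Subalgebra.fg_bot (fun _ ha _ hb => ha.sup hb) (fun q _ => hA q),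
    fun b hb hover => ?_⟩
  obtain ⟨Q, hQ1, hQ2⟩ := Groth.EtaleDeep.IndEt.exists_prime_over_tensor (A := B)
    (⟨IsLocalRing.maximalIdeal R', inferInstance⟩ : PrimeSpectrum R')
    (⟨b, hb⟩ : PrimeSpectrum (SOf R S B)) hover.symm
  let ι₂ : SOf R S B →+* R' ⊗[B] SOf R S B :=
    (Algebra.TensorProduct.includeRight : SOf R S B →ₐ[B] R' ⊗[B] SOf R S B).toRingHom
  let θ : SOf R S R' →ₐ[R] R' ⊗[B] SOf R S B :=
    Algebra.TensorProduct.lift Algebra.TensorProduct.includeLeft
      (((Algebra.TensorProduct.includeRight : SOf R S B →ₐ[B] R' ⊗[B] SOf R S B).restrictScalars R).comp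
        Algebra.TensorProduct.includeRight) fun _ _ => Commute.all _ _
  let θ' : S' →+* R' ⊗[B] SOf R S B :=
    θ.toRingHom.comp (pushoutAlgEquiv R R' S S').symm.toAlgHom.toRingHom
  have hstage : ∀ x, θ' (stageAlgHom R R' S S' B x) = ι₂ x := by
    intro x
    show θ ((pushoutAlgEquiv R R' S S').symm (pushoutAlgEquiv R R' S S' _)) = _
    rw [AlgEquiv.symm_apply_apply]
    induction x using TensorProduct.induction_on with
    | zero => simp
    | tmul c s =>
      simp only [sMap, θ, ι₂, Algebra.TensorProduct.map_tmul, Algebra.TensorProduct.lift_tmul]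
      show ((c : R') ⊗ₜ[B] (1 : SOf R S B)) * ((1 : R') ⊗ₜ[B] ((1 : B) ⊗ₜ[R] s)) = (1 : R') ⊗ₜ[B] (c ⊗ₜ[R] s)
      rw [Algebra.TensorProduct.tmul_mul_tmul, mul_one, one_mul,
        show (c : R') = c • (1 : R') from (mul_one _).symm, TensorProduct.smul_tmul,
        TensorProduct.smul_tmul', smul_eq_mul, mul_one]
    | add y z hy hz => simp only [map_add, hy, hz]
  have hleft : ∀ r, θ' (algebraMap R' S' r) = (r ⊗ₜ[B] 1) := by
    intro r
    show θ ((pushoutAlgEquiv R R' S S').symm (algebraMap R' S' r)) = _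
    rw [← pushoutAlgEquiv_algebraMap (R₀ := R) (R := R') (S₀ := S) (S := S'), AlgEquiv.symm_apply_apply,
      Algebra.TensorProduct.algebraMap_apply, Algebra.algebraMap_self, RingHom.id_apply]
    simp only [θ, Algebra.TensorProduct.lift_tmul, map_one, mul_one]
    rfl
  let q' : PrimeSpectrum S' := ⟨Q.asIdeal.comap θ', inferInstance⟩
  have hq' : q' ∈ Z := by
    show (Q.asIdeal.comap θ').comap (algebraMap R' S') = _
    refine Eq.trans ?_ (congrArg PrimeSpectrum.asIdeal hQ1)
    ext r
    simp only [Ideal.mem_comap, hleft]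
    rfl
  have hbq : q'.asIdeal.comap (stageAlgHom R R' S S' B).toRingHom = b := by
    refine Eq.trans ?_ (congrArg PrimeSpectrum.asIdeal hQ2)
    ext x
    simp only [q', Ideal.mem_comap]
    show θ' (stageAlgHom R R' S S' B x) ∈ Q.asIdeal ↔ ι₂ x ∈ Q.asIdeal
    rw [hstage]
  obtain ⟨i, hi, hqi⟩ := Set.mem_iUnion₂.mp (ht hq')
  let : Algebra (A i) B := (Subalgebra.inclusion (Finset.le_sup hi : A i ≤ B)).toRingHom.toAlgebra
  have : IsScalarTower R (A i) B := IsScalarTower.of_algebraMap_eq fun r => rfl
  have hcomp : (stageAlgHom R R' S S' B).toRingHom.comp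
      (sMap R S (IsScalarTower.toAlgHom R (A i) B)).toRingHom =
        (stageAlgHom R R' S S' (A i)).toRingHom := by
    refine RingHom.ext fun x => ?_
    show pushoutAlgEquiv R R' S S' (sMap R S _ (sMap R S _ x)) = pushoutAlgEquiv R R' S S' (sMap R S _ x)
    rw [sMap_sMap]
    rfl
  have : Module.Flat (A i) (LocalizedModule (b.comap
      (sMap R S (IsScalarTower.toAlgHom R (A i) B)).toRingHom).primeCompl (MOf R S M (A i))) :=
    flat_localized_of_eq (hq := hqi) (by rw [← hbq, Ideal.comap_comap, hcomp]; rfl)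
  exact flat_localized_stage (A := A i) b

set_option synthInstance.maxHeartbeats 200000 in
set_option maxHeartbeats 2000000 in
theorem le_ker_of_flatAt {R S M R' S' M' : Type u} [CommRing R] [IsLocalRing R] [IsNoetherianRing R]
    [CommRing S] [Algebra R S] [Algebra.FiniteType R S] [AddCommGroup M] [Module S M] [Module R M]
    [IsScalarTower R S M] [Module.Finite S M] [CommRing R'] [IsLocalRing R'] [Algebra R R']
    [IsLocalHom (algebraMap R R')]
    [CommRing S'] [Algebra R' S'] [Algebra S S'] [Algebra R S'] [IsScalarTower R S S']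
    [IsScalarTower R R' S'] [Algebra.IsPushout R R' S S'] [AddCommGroup M'] [Module S' M']
    [Module R' M'] [IsScalarTower R' S' M'] [Module S M'] [IsScalarTower S S' M']
    {f : M →ₗ[S] M'} (hf : IsBaseChange S' f) (I : Ideal R)
    (huniv : ∀ (k : ℕ) (A' : Type u) [CommRing A'] [Algebra R A'],
      (IsLocalRing.maximalIdeal R ^ (k + 1)).map (algebraMap R A') = ⊥ →
      (∀ q : Groth.Calg1.Flattening.OverMax (R := R) S,
        Module.Flat A' (A' ⊗[R] LocalizedModule q.1.asIdeal.primeCompl M)) →
      I.map (algebraMap R A') = ⊥)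
    (h : ∀ (q' : Ideal S') [q'.IsPrime], q'.comap (algebraMap R' S') = IsLocalRing.maximalIdeal R' →
      Module.Flat R' (LocalizedModule q'.primeCompl M')) :
    I ≤ RingHom.ker (algebraMap R R') := by
  obtain ⟨B, hB, hflatB⟩ := exists_stage_flat_closed_fibre (R := R) (M := M) hf h
  have : IsNoetherianRing B := isNoetherianRing_of_fg hB
  let p : Ideal B := (IsLocalRing.maximalIdeal R').comap (algebraMap B R')
  let L := Localization.AtPrime p
  have : IsNoetherianRing L := IsLocalization.isNoetherianRing p.primeCompl L inferInstance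
  have hloc : (IsLocalRing.maximalIdeal R).map (algebraMap R L) ≤ IsLocalRing.maximalIdeal L := by
    rw [Ideal.map_le_iff_le_comap]
    intro x hx
    rw [Ideal.mem_comap, IsScalarTower.algebraMap_apply R B L]
    refine (IsLocalization.AtPrime.to_map_mem_maximal_iff L p _).mpr ?_
    rw [Ideal.mem_comap, ← IsScalarTower.algebraMap_apply]
    exact ((IsLocalRing.local_hom_TFAE (algebraMap R R')).out 0 2 rfl rfl).1 ‹_›
      (Ideal.mem_map_of_mem _ hx)
  have hL : ∀ (q'' : Ideal (Groth.FlatMorOne.SOf R S L)) [q''.IsPrime],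
      q''.comap (algebraMap L (Groth.FlatMorOne.SOf R S L)) = IsLocalRing.maximalIdeal L →
      Module.Flat L (LocalizedModule q''.primeCompl (Groth.FlatMorOne.MOf R S M L)) := by
    intro q'' _ hq''
    have := hflatB (q''.comap
      (Groth.FlatMorOne.sMap R S (IsScalarTower.toAlgHom R B L)).toRingHom) (by
        rw [Ideal.comap_comap, show (Groth.FlatMorOne.sMap R S (IsScalarTower.toAlgHom R B L)).toRingHom.comp
          (algebraMap B (Groth.FlatMorOne.SOf R S B)) =
            (algebraMap L (Groth.FlatMorOne.SOf R S L)).comp (algebraMap B L) from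
          RingHom.ext fun c => by simp [Groth.FlatMorOne.sMap, Algebra.TensorProduct.algebraMap_apply],
          ← Ideal.comap_comap, hq'']
        exact IsLocalization.AtPrime.under_maximalIdeal L p)
    exact Groth.FlatMorOne.flat_localized_stage (A := B) q''
  have hσ : ∀ (s : S) m, Groth.FlatMorOne.betaOf R S M L (s • m) =
      (Algebra.TensorProduct.includeRight : S →ₐ[R] Groth.FlatMorOne.SOf R S L).toRingHom s •
        Groth.FlatMorOne.betaOf R S M L m := fun s m => by
    rw [Groth.FlatMorOne.betaOf_apply, Groth.FlatMorOne.betaOf_apply, ← TensorProduct.smul_tmul,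
      TensorProduct.smul_tmul', smul_eq_mul, mul_one, Algebra.smul_def, mul_one]
    rfl
  intro x hx
  have h0 : algebraMap R L x = 0 := by
    rw [← Submodule.mem_bot L,
      ← Ideal.iInf_pow_eq_bot_of_isLocalRing (IsLocalRing.maximalIdeal L)
        (IsLocalRing.maximalIdeal.isMaximal L).ne_top, Submodule.mem_iInf]
    intro k
    refine Ideal.pow_le_pow_right (Nat.le_succ k) ?_
    have h1 := huniv k (L ⧸ IsLocalRing.maximalIdeal L ^ (k + 1)) (by
      rw [IsScalarTower.algebraMap_eq R L (L ⧸ IsLocalRing.maximalIdeal L ^ (k + 1)), ← Ideal.map_map,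
        Ideal.map_pow, Ideal.Quotient.algebraMap_eq]
      exact Ideal.map_mk_eq_bot_of_le (Ideal.pow_right_mono hloc _))
      fun q => Groth.Calg1.Flattening.flat_mod_of_flatAt _
        (Groth.FlatMorOne.isBaseChange_betaOf R S M L) hσ (IsLocalRing.maximalIdeal L) k hL q.1.asIdeal
    have h2 := Ideal.mem_map_of_mem (algebraMap R (L ⧸ IsLocalRing.maximalIdeal L ^ (k + 1))) hx
    rw [h1, Ideal.mem_bot, IsScalarTower.algebraMap_apply R L (L ⧸ IsLocalRing.maximalIdeal L ^ (k + 1)),
      Ideal.Quotient.algebraMap_eq, Ideal.Quotient.eq_zero_iff_mem] at h2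
    exact h2
  rw [IsScalarTower.algebraMap_apply R B L] at h0
  obtain ⟨⟨c, hc⟩, hcx⟩ := (IsLocalization.map_eq_zero_iff p.primeCompl L _).1 h0
  have hu : IsUnit (algebraMap B R' c) := by
    by_contra hu
    exact hc hu
  rw [RingHom.mem_ker, IsScalarTower.algebraMap_apply R B R']
  exact hu.mul_right_eq_zero.1 (by rw [← map_mul, hcx, map_zero])

end Descent

/-- Let `(R, 𝔪)` be a complete Noetherian local ring, `R → S` of finite type, `M` a finite `S`-module,
and `I ⊆ 𝔪` the least ideal for which, at every prime `𝔮` of `S` lying over `𝔪`, the localization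
`(M/IM)_𝔮` is an `R/I`-flat module. Then for every local homomorphism `φ : R → R'` of local rings
(`R'` arbitrary), with `S' = S ⊗_R R'` and `M' = M ⊗_R R'`: `M'_{𝔮'}` is flat over `R'` for every
prime `𝔮'` of `S'` over `𝔪'` if and only if `φ(I) = 0`. -/
theorem result {R S R' S' : Type u} [CommRing R] [IsLocalRing R]
    [IsNoetherianRing R] [IsAdicComplete (IsLocalRing.maximalIdeal R) R] [CommRing S]
    [CommRing R'] [IsLocalRing R'] [CommRing S']
    [Algebra R S] [Algebra.FiniteType R S] [Algebra R R'] [IsLocalHom (algebraMap R R')] [Algebra S S'] [Algebra R' S']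
    [Algebra R S'] [IsScalarTower R S S'] [IsScalarTower R R' S'] [Algebra.IsPushout R S R' S']
    {M M' : Type u} [AddCommGroup M] [Module S M] [Module R M] [IsScalarTower R S M] [Module.Finite S M]
    [AddCommGroup M'] [Module S' M'] [Module R' M'] [IsScalarTower R' S' M'] [Module S M'] [IsScalarTower S S' M']
    (f : M →ₗ[S] M') (hf : IsBaseChange S' f) (I : Ideal R) (hIm : I ≤ IsLocalRing.maximalIdeal R)
    (hI : (∀ (q : Ideal S) [q.IsPrime], q.comap (algebraMap R S) = IsLocalRing.maximalIdeal R →
        Module.Flat (R ⧸ I) ((R ⧸ I) ⊗[R] LocalizedModule q.primeCompl M)))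
    (hmin : ∀ J : Ideal R, (∀ (q : Ideal S) [q.IsPrime], q.comap (algebraMap R S) = IsLocalRing.maximalIdeal R →
        Module.Flat (R ⧸ J) ((R ⧸ J) ⊗[R] LocalizedModule q.primeCompl M)) → I ≤ J) :
    (∀ (q' : Ideal S') [q'.IsPrime], q'.comap (algebraMap R' S') = IsLocalRing.maximalIdeal R' → FlatCA.FlatAt R' q' M') ↔
      I ≤ RingHom.ker (algebraMap R R') := by
  obtain ⟨I₀, -, hI₀, hmin₀, huniv⟩ :=
    letI : IsNoetherianRing S := Algebra.FiniteType.isNoetherianRing R S
    Groth.Calg1.Flattening.exists_flatteningIdeal (R := R) S M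
  have : Algebra.IsPushout R R' S S' := Algebra.IsPushout.symm inferInstance
  constructor
  · intro h
    exact (hmin I₀ fun q hq h' => hI₀ ⟨⟨q, hq⟩, h'⟩).trans (le_ker_of_flatAt (R := R) (M := M) hf I₀ huniv h)
  · intro hle q' _ hq'
    let : Module R M' := Module.compHom M' (algebraMap R R')
    have : IsScalarTower R R' M' := IsScalarTower.of_algebraMap_smul fun _ _ => rfl
    have hsmul : ∀ (r : R) (m : M), f (r • m) = r • f m := fun r m => by
      rw [← algebraMap_smul S r m, map_smul, ← algebraMap_smul S' (algebraMap R S r) (f m),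
        ← IsScalarTower.algebraMap_apply, IsScalarTower.algebraMap_apply R R' S', algebraMap_smul,
        algebraMap_smul]
    let β : M →ₗ[R] M' := { toFun := f, map_add' := map_add f, map_smul' := hsmul }
    let e : M' ≃ₗ[R'] R' ⊗[R] M :=
      (hf.equiv.symm.restrictScalars R').trans (Algebra.IsPushout.cancelBaseChange R R' S S' M)
    have hβ : IsBaseChange R' β := IsBaseChange.of_equiv e.symm fun m => by
      rw [LinearEquiv.symm_apply_eq]
      show (1 : R') ⊗ₜ[R] m = _
      simp [e, β, IsBaseChange.equiv_symm_apply]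
    have hσ : ∀ (s : S) m, β (s • m) = algebraMap S S' s • β m := fun s m => by
      show f (s • m) = algebraMap S S' s • f m
      rw [map_smul, algebraMap_smul]
    have := hI (q'.comap (algebraMap S S')) (by
      rw [Ideal.comap_comap, ← IsScalarTower.algebraMap_eq, IsScalarTower.algebraMap_eq R R' S',
        ← Ideal.comap_comap, hq']
      exact ((IsLocalRing.local_hom_TFAE (algebraMap R R')).out 0 4 rfl rfl).1 ‹_›)
    exact Groth.Calg1.Flattening.flatAt_of_le_ker (algebraMap S S') hβ hσ I
      ((Ideal.map_eq_bot_iff_le_ker _).2 hle) q' 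

end Groth.Agent.S6927
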