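import Groth.Statements.S6929
import Groth.Agent.EtaleAlgebra.FibreProductFT
import Mathlib.RingTheory.Finiteness.Prod

set_option autoImplicit false
universe u
open EtAlg

namespace Groth.Agent.S6929

/-- A finite product of algebras of finite type is of finite type. -/
theorem finiteType_pi {R : Type*} [CommRing R] {ι : Type*} [Finite ι] (A : ι → Type*)
    [∀ i, CommRing (A i)] [∀ i, Algebra R (A i)] [hA : ∀ i, Algebra.FiniteType R (A i)] :
    Algebra.FiniteType R (∀ i, A i) := by
  classical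
  have := Fintype.ofFinite ι
  choose s hs using fun i => (hA i).out
  let G : Finset (∀ i, A i) := Finset.univ.biUnion fun i => (insert 1 (s i)).image (Pi.single i)
  refine ⟨⟨G, top_unique fun a _ => ?_⟩⟩
  rw [← Finset.univ_sum_single a]
  refine Subalgebra.sum_mem _ fun i _ => ?_
  have hG : ∀ x ∈ insert 1 (s i), Pi.single i x ∈ Algebra.adjoin R (G : Set (∀ i, A i)) := fun x hx =>
    Algebra.subset_adjoin (Finset.mem_coe.2 (Finset.mem_biUnion.2
      ⟨i, Finset.mem_univ i, Finset.mem_image.2 ⟨x, hx, rfl⟩⟩))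
  suffices ∀ y, y ∈ Algebra.adjoin R (s i : Set (A i)) → Pi.single i y ∈ Algebra.adjoin R (G : Set (∀ i, A i)) from
    this _ (hs i ▸ trivial)
  intro y hy
  induction hy using Algebra.adjoin_induction with
  | mem x hx => exact hG x (Finset.mem_insert_of_mem hx)
  | algebraMap r =>
    rw [Algebra.algebraMap_eq_smul_one, Pi.single_smul]
    exact Subalgebra.smul_mem _ (hG 1 (Finset.mem_insert_self _ _)) r
  | add x y _ _ hx hy => rw [Pi.single_add]; exact add_mem hx hy
  | mul x y _ _ hx hy => rw [Pi.single_mul]; exact mul_mem hx hy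

/-- Let `R` be a Noetherian ring, `ι` a finite index type, and `φ_i : A_i → B_i`, `ψ_i : Q → B_i`
surjective `R`-algebra maps, where `Q` and all `A_i`, `B_i` are `R`-algebras of finite type. Then
the fibre product ring `P = Q ×_{∏ B_i} ∏ A_i` (pairs `(q, a)` with `ψ_i(q) = φ_i(a_i)` for all `i`)
is an `R`-algebra of finite type. -/
theorem result (R : Type u) [CommRing R] [IsNoetherianRing R] {ι : Type u} [Fintype ι]
    (Q : Type u) [CommRing Q] [Algebra R Q] [Algebra.FiniteType R Q] (A B : ι → Type u) [∀ i, CommRing (A i)]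
    [∀ i, CommRing (B i)] [∀ i, Algebra R (A i)] [∀ i, Algebra R (B i)] (hA : ∀ i, Algebra.FiniteType R (A i))
    (hB : ∀ i, Algebra.FiniteType R (B i)) (φ : ∀ i, A i →ₐ[R] B i) (ψ : ∀ i, Q →ₐ[R] B i)
    (hφ : ∀ i, Function.Surjective (φ i)) (hψ : ∀ i, Function.Surjective (ψ i)) :
    Algebra.FiniteType R ↥(AlgHom.equalizer ((AlgHom.pi ψ).comp (AlgHom.fst R Q (∀ i, A i)))
      ((AlgHom.pi fun i => (φ i).comp (Pi.evalAlgHom R A i)).comp (AlgHom.snd R Q (∀ i, A i)))) := by
  have := hA
  have := hB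
  have := finiteType_pi (R := R) A
  let F : (∀ i, A i) →ₐ[R] (∀ i, B i) := AlgHom.pi fun i => (φ i).comp (Pi.evalAlgHom R A i)
  have hF : Function.Surjective F := fun b => by
    choose a ha using fun i => hφ i (b i)
    exact ⟨a, funext ha⟩
  refine Groth.EtaleAlgebra.finiteType_of_fibreProduct F hF (AlgHom.pi ψ) ?_
    ((AlgHom.snd R Q (∀ i, A i)).comp (Subalgebra.val _)) ((AlgHom.fst R Q (∀ i, A i)).comp (Subalgebra.val _))
    (fun a b h => Subtype.ext (Prod.ext (congrArg Prod.snd h) (congrArg Prod.fst h)))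
    (fun e => e.2.symm) (fun a c h => ⟨⟨(c, a), h.symm⟩, rfl, rfl⟩)
  let (i : ι) : Algebra Q (B i) := (ψ i).toRingHom.toAlgebra
  have : ∀ i, Module.Finite Q (B i) := fun i => Module.Finite.of_surjective (Algebra.linearMap Q (B i)) (hψ i)
  exact (Module.Finite.pi : Module.Finite Q (∀ i, B i))

end Groth.Agent.S6929
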