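import Groth.Statements.S6930
import Groth.Agent.ValFlatten.DomainStage
import Groth.Agent.BlowUpBasics.AffineAlgebra
-- import your own Groth.Agent.* helpers here

set_option autoImplicit false
universe u
open TensorProduct
open FlatMor

namespace Groth.Agent.S6930

/-- A killer of torsion is transported along an isomorphism of base rings. -/
theorem kill_transport {R C D N : Type u} [CommRing R] [CommRing C] [CommRing D] [Algebra R C] [Algebra R D]
    [AddCommGroup N] [Module R N] (ψ : C ≃ₐ[R] D) (n : R)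
    (h : ∀ x ∈ Submodule.torsion C (C ⊗[R] N), algebraMap R C n • x = 0) :
    ∀ x ∈ Submodule.torsion D (D ⊗[R] N), algebraMap R D n • x = 0 := by
  let Φ : C ⊗[R] N ≃ₗ[R] D ⊗[R] N := TensorProduct.congr ψ.toLinearEquiv (LinearEquiv.refl R N)
  have hΦ : ∀ (c : C) (y : C ⊗[R] N), Φ (c • y) = ψ c • Φ y := by
    intro c y
    induction y using TensorProduct.induction_on with
    | zero => simp
    | tmul a b => simp [Φ, TensorProduct.smul_tmul']
    | add a b ha hb => rw [smul_add, map_add, ha, hb, map_add, smul_add]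
  intro x hx
  obtain ⟨y, rfl⟩ := Φ.surjective x
  obtain ⟨⟨d, hd⟩, hdx⟩ := hx
  obtain ⟨c, rfl⟩ := ψ.surjective d
  have hc : c ∈ nonZeroDivisors C := by
    refine mem_nonZeroDivisors_iff_right.mpr fun z hz => ψ.injective ?_
    rw [map_zero]
    exact (mem_nonZeroDivisors_iff_right.mp hd) _ (by rw [← map_mul, hz, map_zero])
  have hy : y ∈ Submodule.torsion C (C ⊗[R] N) := ⟨⟨c, hc⟩, Φ.injective (by
    rw [Submonoid.smul_def, hΦ, map_zero]
    exact hdx)⟩
  rw [← ψ.commutes, ← hΦ, h y hy, map_zero]

/-- Power torsion is all the torsion when the scalar kills the torsion. -/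
theorem mem_powTorsion_iff {S M : Type u} [CommRing S] [AddCommGroup M] [Module S M] {R : Type u} [CommRing R]
    [Module R M] (x : S) (r : R) (hxr : ∀ m : M, x • m = r • m) (hr : r ∈ nonZeroDivisors R)
    (hkill : ∀ m ∈ Submodule.torsion R M, r • m = 0) (m : M) :
    m ∈ FlatCA.powTorsion S x M ↔ m ∈ Submodule.torsion R M := by
  have hdir : Directed (· ≤ ·) fun n : ℕ => Submodule.torsionBy S M (x ^ n) :=
    Monotone.directed_le fun a b hab y hy => by
      rw [Submodule.mem_torsionBy_iff] at hy ⊢
      rw [← Nat.sub_add_cancel hab, pow_add, mul_smul, hy, smul_zero]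
  have hpow : ∀ (n : ℕ) (y : M), x ^ n • y = r ^ n • y := by
    intro n
    induction n with
    | zero => simp
    | succ n ih => intro y; rw [pow_succ, mul_smul, hxr, ih, ← mul_smul, ← pow_succ]
  rw [FlatCA.powTorsion, Submodule.mem_iSup_of_directed _ hdir]
  constructor
  · rintro ⟨n, hn⟩
    rw [Submodule.mem_torsionBy_iff, hpow] at hn
    exact ⟨⟨r ^ n, pow_mem hr n⟩, hn⟩
  · intro hm
    refine ⟨1, ?_⟩
    rw [Submodule.mem_torsionBy_iff, pow_one, hxr]
    exact hkill m hm

/-- Let `(R, 𝔪)` be a local domain whose maximal ideal is nonzero, with fraction field `K`; let `S` be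
an `R`-algebra of finite type, `M` a finite `S`-module and `A ⊆ K` a valuation ring dominating `R`.
Then one can find a finitely generated ideal `I ⊆ 𝔪` and a nonzero `a ∈ I` with the following
properties, where `R₁ = R[I/a]` denotes the affine blow-up algebra (taken up to `R`-algebra
isomorphism): every `x/a` with `x ∈ I` lies in `A`, so that `R₁ ⊆ A` inside `K`; the ring `R₁/𝔪R₁`
is nonzero; the strict transform of `S` (the quotient of `R₁ ⊗_R S` by its `a`-power torsion) is
flat over `R₁` and is a finitely presented `R₁`-algebra; and the strict transform of `M` (the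
quotient of `R₁ ⊗_R M` by its `a`-power torsion) is flat over `R₁`. (The published statement asks
for these strict transforms to be flat, and the first to be finitely presented, over `R` itself;
that fails for every choice of `(I, a)` already when `R = k[x, y]` localized at `(x, y)` and `S =
R[y/x]`, and the published proof, which passes to the limit over the rings `R[I/a]`, yields flatness
and finite presentation over `R[I/a]`, which is what is stated here. The published statement also
allows `𝔪 = 0`, i.e. `R` a field; then all hypotheses hold with `A = K` while no nonzero `a ∈ 𝔪`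
exists, so the hypothesis `𝔪 ≠ 0` is added. Finally, the published statement also asserts that the
strict transform of `M` is finitely presented over the strict transform of `S`; that clause is not
included.) -/
theorem result (R K : Type u) [CommRing R] [IsDomain R] [IsLocalRing R] [Field K]
    [Algebra R K] [IsFractionRing R K] (S : Type u) [CommRing S] [Algebra R S] [Algebra.FiniteType R S] (M : Type u)
    [AddCommGroup M] [Module S M] [Module R M] [IsScalarTower R S M] [Module.Finite S M]
    (A : Type u) [CommRing A] [IsDomain A] [ValuationRing A] [Algebra A K] [IsFractionRing A K] [Algebra R A]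
    [IsScalarTower R A K] [IsLocalHom (algebraMap R A)] (hm : IsLocalRing.maximalIdeal R ≠ ⊥) :
    ∃ (I : Ideal R) (a : R), I.FG ∧ I ≤ IsLocalRing.maximalIdeal R ∧ a ∈ I ∧ a ≠ 0 ∧
      (∀ x ∈ I, ∃ y : A, algebraMap A K y * algebraMap R K a = algebraMap R K x) ∧
      ∀ (R₁ : Type u) [CommRing R₁] [Algebra R R₁] (e : R₁ ≃ₐ[R] ↥(BlowUp.affineAlgebra R I a)),
        (IsLocalRing.maximalIdeal R).map (algebraMap R R₁) ≠ ⊤ ∧
        Module.Flat R₁ ((R₁ ⊗[R] S) ⧸ FlatCA.powTorsion (R₁ ⊗[R] S) (algebraMap R (R₁ ⊗[R] S) a) (R₁ ⊗[R] S)) ∧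
        Algebra.FinitePresentation R₁
          ((R₁ ⊗[R] S) ⧸ FlatCA.powTorsion (R₁ ⊗[R] S) (algebraMap R (R₁ ⊗[R] S) a) (R₁ ⊗[R] S)) ∧
        Module.Flat R₁ ((R₁ ⊗[R] M) ⧸ FlatCA.powTorsion R₁ (algebraMap R R₁ a) (R₁ ⊗[R] M)) := by
  classical
  let V : ValuationSubring K :=
    { (algebraMap A K).range with
      mem_or_inv_mem' := fun x => (ValuationRing.isInteger_or_isInteger A x) }
  have hV : ∀ r : R, algebraMap R K r ∈ V := fun r => ⟨algebraMap R A r, (IsScalarTower.algebraMap_apply R A K r).symm⟩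
  obtain ⟨g, hgV, hg⟩ := ValFlatten.exists_flattens_module (K := K) S M V hV
  let C : Subalgebra R K := Algebra.adjoin R (g : Set K)
  haveI : FaithfulSMul C K := (faithfulSMul_iff_algebraMap_injective _ _).mpr Subtype.val_injective
  obtain ⟨-, -, c, hc0, hcS, hcM⟩ := hg C fun x hx => ⟨⟨x, Algebra.subset_adjoin hx⟩, rfl⟩
  obtain ⟨n, dn, hdn, hcn⟩ := IsFractionRing.div_surjective (A := R) (c : K)
  obtain ⟨D, hD⟩ := IsLocalization.exist_integer_multiples (nonZeroDivisors R) g id
  choose! num hnum using hD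
  obtain ⟨m, hm_mem, hm0⟩ := Submodule.exists_mem_ne_zero_of_ne_bot hm
  have hdn0 : algebraMap R K dn ≠ 0 := IsLocalization.to_map_ne_zero_of_mem_nonZeroDivisors K le_rfl hdn
  have hn0 : n ≠ 0 := fun h => hc0 (Subtype.ext (by rw [← hcn, h, map_zero, zero_div]; rfl))
  let a : R := m * n * D
  have ha0 : a ≠ 0 := mul_ne_zero (mul_ne_zero hm0 hn0) (nonZeroDivisors.ne_zero D.2)
  have haK : algebraMap R K a ≠ 0 := (map_ne_zero_iff _ (IsFractionRing.injective R K)).mpr ha0
  have hk : ∀ k ∈ g, algebraMap R K (m * n * num k) = k * algebraMap R K a := by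
    intro k hk
    rw [map_mul, hnum k hk]
    simp only [a, map_mul, id, Algebra.smul_def]
    ring
  let I : Ideal R := Ideal.span ((insert a (g.image fun k => m * n * num k) : Finset R) : Set R)
  have haI : a ∈ I := Ideal.subset_span (Finset.mem_coe.mpr (Finset.mem_insert_self _ _))
  have hkI : ∀ k ∈ g, m * n * num k ∈ I := fun k hk =>
    Ideal.subset_span (Finset.mem_coe.mpr (Finset.mem_insert_of_mem (Finset.mem_image_of_mem _ hk)))
  have hIC : ∀ x ∈ I, ∃ y ∈ C, y * algebraMap R K a = algebraMap R K x := by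
    intro x hx
    refine Submodule.span_induction (fun z hz => ?_) ⟨0, zero_mem _, by simp⟩
      (fun p q _ _ hp hq => ?_) (fun r p _ hp => ?_) hx
    · rcases Finset.mem_insert.mp (Finset.mem_coe.mp hz) with rfl | hz
      · exact ⟨1, one_mem _, one_mul _⟩
      · obtain ⟨k, hk', rfl⟩ := Finset.mem_image.mp hz
        exact ⟨k, Algebra.subset_adjoin hk', (hk k hk').symm⟩
    · obtain ⟨y, hy, hy'⟩ := hp
      obtain ⟨z, hz, hz'⟩ := hq
      exact ⟨y + z, add_mem hy hz, by rw [add_mul, hy', hz', map_add]⟩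
    · obtain ⟨y, hy, hy'⟩ := hp
      exact ⟨algebraMap R K r * y, mul_mem (Subalgebra.algebraMap_mem C r) hy, by
        rw [mul_assoc, hy', smul_eq_mul, map_mul]⟩
  have hCV : ∀ x ∈ C, x ∈ V := fun x hx =>
    Algebra.adjoin_induction (fun y hy => hgV y hy) hV (fun _ _ _ _ hy hz => add_mem hy hz)
      (fun _ _ _ _ hy hz => mul_mem hy hz) hx
  have hIm : I ≤ IsLocalRing.maximalIdeal R := by
    rw [Ideal.span_le]
    intro z hz
    rcases Finset.mem_insert.mp (Finset.mem_coe.mp hz) with rfl | hz
    · exact Ideal.mul_mem_right _ _ (Ideal.mul_mem_right _ _ hm_mem)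
    · obtain ⟨k, -, rfl⟩ := Finset.mem_image.mp hz
      exact Ideal.mul_mem_right _ _ (Ideal.mul_mem_right _ _ hm_mem)
  refine ⟨I, a, ⟨_, rfl⟩, hIm, haI, ha0, fun x hx => ?_, ?_⟩
  · obtain ⟨y, hy, hy'⟩ := hIC x hx
    obtain ⟨y, rfl⟩ := hCV y hy
    exact ⟨y, hy'⟩
  intro R₁ _ _ e
  -- the blow-up algebra is `C`
  let j : Localization.Away a →+* K := IsLocalization.Away.lift a (Ne.isUnit haK)
  have hj : Function.Injective j := (IsLocalization.lift_injective_iff _).mpr fun x y => by
    rw [(IsFractionRing.injective R K).eq_iff,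
      (IsLocalization.injective (Localization.Away a)
        (powers_le_nonZeroDivisors_of_noZeroDivisors ha0)).eq_iff]
  let jA : Localization.Away a →ₐ[R] K := { j with commutes' := fun r => IsLocalization.Away.lift_eq a _ r }
  let ι : R₁ →ₐ[R] K := jA.comp ((BlowUp.affineAlgebra R I a).val.comp e.toAlgHom)
  have hι : Function.Injective ι := hj.comp (Subtype.val_injective.comp e.injective)
  have hrange : ι.range = C := by
    have h1 : ∀ x ∈ BlowUp.affineAlgebra R I a, jA x ∈ C := by
      intro x hx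
      refine Algebra.adjoin_induction (fun q hq => ?_) (fun r => by rw [AlgHom.commutes]; exact Subalgebra.algebraMap_mem C r)
        (fun _ _ _ _ hy hz => by rw [map_add]; exact add_mem hy hz)
        (fun _ _ _ _ hy hz => by rw [map_mul]; exact mul_mem hy hz) hx
      obtain ⟨x, hx, rfl⟩ := hq
      obtain ⟨y, hy, hy'⟩ := hIC x hx
      have : jA (IsLocalization.mk' (Localization.Away a) x ⟨a, Submonoid.mem_powers a⟩) = y := by
        refine mul_right_cancel₀ haK ?_
        rw [hy', ← jA.commutes a, ← map_mul, IsLocalization.mk'_spec, AlgHom.commutes]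
      rw [this]; exact hy
    refine le_antisymm ?_ (Algebra.adjoin_le fun k hk' => ?_)
    · rintro _ ⟨x, rfl⟩
      exact h1 _ (e x).2
    · refine ⟨e.symm (BlowUpBasics.frac I a _ (hkI k hk')), ?_⟩
      refine mul_right_cancel₀ haK ?_
      rw [← hk k hk']
      show jA ((e (e.symm (BlowUpBasics.frac I a _ (hkI k hk')))) : Localization.Away a) * _ = _
      rw [AlgEquiv.apply_symm_apply, BlowUpBasics.coe_frac, ← jA.commutes a, ← map_mul, IsLocalization.mk'_spec,
        AlgHom.commutes]
  letI : Algebra R₁ K := ι.toRingHom.toAlgebra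
  haveI : IsScalarTower R R₁ K := IsScalarTower.of_algebraMap_eq fun r => (ι.commutes r).symm
  haveI : FaithfulSMul R₁ K := (faithfulSMul_iff_algebraMap_injective _ _).mpr hι
  haveI : IsDomain R₁ := hι.isDomain _
  have hR₁V : ∀ y : R₁, ι y ∈ V := fun y => hCV _ (hrange.le ⟨y, rfl⟩)
  obtain ⟨hflS, hflM, -⟩ := hg R₁ fun x hx => by
    obtain ⟨y, hy⟩ := hrange.ge (Algebra.subset_adjoin hx)
    exact ⟨y, hy⟩
  -- the torsion is the power torsion
  let ψ : C ≃ₐ[R] R₁ := (Subalgebra.equivOfEq _ _ hrange.symm).trans (AlgEquiv.ofInjective ι hι).symm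
  have hn : algebraMap R C n = algebraMap R C dn * c := Subtype.ext <| by
    show algebraMap R K n = algebraMap R K dn * (c : K)
    rw [← hcn, mul_div_cancel₀ _ hdn0]
  have hnC : ∀ {N : Type u} [AddCommGroup N] [Module R N],
      (∀ x ∈ Submodule.torsion C (C ⊗[R] N), c • x = 0) →
      ∀ x ∈ Submodule.torsion R₁ (R₁ ⊗[R] N), algebraMap R R₁ a • x = 0 := by
    intro N _ _ h x hx
    have h2 := kill_transport ψ n (fun y hy => by rw [hn, mul_smul, h y hy, smul_zero]) x hx
    simp only [a, map_mul]
    rw [mul_comm (algebraMap R R₁ m), mul_assoc, mul_comm, mul_smul, h2, smul_zero]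
  have haR₁ : algebraMap R R₁ a ∈ nonZeroDivisors R₁ := by
    refine mem_nonZeroDivisors_of_ne_zero fun h => haK ?_
    rw [IsScalarTower.algebraMap_apply R R₁ K, h, map_zero]
  have hSeq : ∀ x, x ∈ FlatCA.powTorsion (R₁ ⊗[R] S) (algebraMap R (R₁ ⊗[R] S) a) (R₁ ⊗[R] S) ↔
      x ∈ Submodule.torsion R₁ (R₁ ⊗[R] S) := fun x =>
    mem_powTorsion_iff _ (algebraMap R R₁ a) (fun y => by
      rw [algebraMap_smul, algebraMap_smul]) haR₁ (hnC hcS) x
  have hMeq : FlatCA.powTorsion R₁ (algebraMap R R₁ a) (R₁ ⊗[R] M) = Submodule.torsion R₁ (R₁ ⊗[R] M) :=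
    Submodule.ext fun x => mem_powTorsion_iff _ _ (fun _ => rfl) haR₁ (hnC hcM) x
  haveI := hflS
  haveI : Algebra.FiniteType R₁ (R₁ ⊗[R] S) := inferInstance
  obtain ⟨J, hJ, -, hJfp, hJflat⟩ := ValFlatten.exists_torsion_ideal (R := R₁) (T := R₁ ⊗[R] S)
  have hJeq : FlatCA.powTorsion (R₁ ⊗[R] S) (algebraMap R (R₁ ⊗[R] S) a) (R₁ ⊗[R] S) = J :=
    Submodule.ext fun x => (hSeq x).trans (hJ x).symm
  refine ⟨?_, by rw [hJeq]; exact hJflat, by rw [hJeq]; exact hJfp, by rw [hMeq]; exact hflM⟩
  -- the blow-up algebra is dominated by `A`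
  intro htop
  let toA : R₁ →+* (algebraMap A K).range := ι.toRingHom.codRestrict _ hR₁V
  let eA : A ≃+* (algebraMap A K).range := RingEquiv.ofBijective (algebraMap A K).rangeRestrict
    ⟨fun x y h => IsFractionRing.injective A K (congrArg Subtype.val h),
      (algebraMap A K).rangeRestrict_surjective⟩
  have hbad : (IsLocalRing.maximalIdeal R).map (algebraMap R R₁) ≤
      (IsLocalRing.maximalIdeal A).comap (eA.symm.toRingHom.comp toA) := by
    refine Ideal.map_le_iff_le_comap.mpr fun r hr => ?_
    rw [Ideal.mem_comap, Ideal.mem_comap, RingHom.comp_apply]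
    have : toA (algebraMap R R₁ r) = (algebraMap A K).rangeRestrict (algebraMap R A r) := Subtype.ext <| by
      show ι (algebraMap R R₁ r) = algebraMap A K (algebraMap R A r)
      rw [AlgHom.commutes, ← IsScalarTower.algebraMap_apply]
    rw [this]
    show eA.symm (eA (algebraMap R A r)) ∈ _
    rw [RingEquiv.symm_apply_apply]
    exact (IsLocalRing.mem_maximalIdeal _).mpr fun hu => hr (isUnit_of_map_unit (algebraMap R A) r hu)
  rw [htop] at hbad
  exact (IsLocalRing.maximalIdeal.isMaximal A).ne_top (Ideal.comap_eq_top_iff.mp (top_le_iff.mp hbad))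

end Groth.Agent.S6930
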