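import Groth.Statements.S6932
import Groth.Agent.RaynaudGruson.LocalFP

set_option autoImplicit false
universe u
open CAlg

namespace Groth.Agent.S6932

/-- Let `R → S` be a ring map of finite type with `S` flat over `R`, such that `R → ∏_j R_{𝔭_j}` is
injective for some finite set of primes `𝔭_j` and each localization `S_𝔭` (at a prime `𝔭` of `R`) is
a finitely presented `R_𝔭`-algebra. Then `S` is a finitely presented `R`-algebra. -/
theorem result {R S : Type u} [CommRing R] [CommRing S]
    [Algebra R S] [Algebra.FiniteType R S] [Module.Flat R S] (s : Finset (PrimeSpectrum R))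
    (hs : Function.Injective fun r : R => fun p : s => algebraMap R (Localization.AtPrime p.1.asIdeal) r)
    (hloc : ∀ (p : Ideal R) [p.IsPrime],
      Algebra.FinitePresentation (Localization.AtPrime p) (Localization (Algebra.algebraMapSubmonoid S p.primeCompl))) :
    Algebra.FinitePresentation R S := by
  classical
  obtain ⟨n, φ, hφ⟩ := Algebra.FiniteType.iff_quotient_mvPolynomial''.mp ‹Algebra.FiniteType R S›
  have hU : ∀ p : s, ∃ U : Ideal (MvPolynomial (Fin n) R), U.FG ∧ U ≤ RingHom.ker φ ∧
      ∀ u ∈ RingHom.ker φ, ∃ t ∈ p.1.asIdeal.primeCompl, MvPolynomial.C t * u ∈ U := fun p =>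
    haveI := hloc p.1.asIdeal
    Groth.RaynaudGruson.LocalFP.exists_relations_localization φ hφ p.1.asIdeal.primeCompl (Localization.AtPrime p.1.asIdeal)
      (Localization (Algebra.algebraMapSubmonoid S p.1.asIdeal.primeCompl))
  choose U hfg hle hsat using hU
  refine Groth.RaynaudGruson.LocalFP.finitePresentation_of_relations φ hφ (⨆ p, U p)
    (Submodule.fg_iSup U hfg) (iSup_le hle) fun u hu => ?_
  choose t ht htU using fun p => hsat p u hu
  refine ⟨Finset.univ.image t, fun r hr => hs ?_, fun a ha => ?_⟩
  · funext p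
    simp only [map_zero]
    exact (IsLocalization.map_eq_zero_iff p.1.asIdeal.primeCompl _ r).mpr
      ⟨⟨t p, ht p⟩, hr _ (Finset.mem_image_of_mem _ (Finset.mem_univ p))⟩
  · obtain ⟨p, -, rfl⟩ := Finset.mem_image.mp ha
    exact le_iSup U p (htU p)

end Groth.Agent.S6932
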