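import Groth.Statements.S6933
import Groth.Agent.Matlis.Hull

set_option autoImplicit false
universe u
open CategoryTheory
open InjHull

namespace Groth.Agent.S6933

/-- An abelian group `J` that is injective as an object of the category of abelian groups is divisible:
`n J = J` for every nonzero integer `n`. (The published statement is an equivalence; this row states
the implication from injective to divisible.) -/
theorem result (J : Type u) [AddCommGroup J] (hJ : Injective (AddCommGrpCat.of J))
    (n : ℤ) (hn : n ≠ 0) (x : J) : ∃ y : J, n • y = x := by
  have : Injective (ModuleCat.of ℤ J) :=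
    ((forget₂ (ModuleCat ℤ) AddCommGrpCat).asEquivalence.map_injective_iff _).1 hJ
  have h : Module.Baer ℤ J := Module.Baer.of_injective (Module.injective_module_of_injective_object ℤ J)
  obtain ⟨k, hk⟩ := h.extension_property (LinearMap.mulLeft ℤ n)
    (fun a b hab => mul_left_cancel₀ hn hab) (LinearMap.toSpanSingleton ℤ J x)
  refine ⟨k 1, ?_⟩
  have := LinearMap.congr_fun hk 1
  rw [LinearMap.comp_apply, LinearMap.toSpanSingleton_apply, one_smul,
    LinearMap.mulLeft_apply, mul_one] at this
  rw [← this, ← map_smul, smul_eq_mul, mul_one]

end Groth.Agent.S6933
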