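import Groth.Statements.S6934
import Mathlib.RingTheory.Localization.Away.Basic
import Mathlib.Tactic.LinearCombination
import Mathlib.Tactic.Ring

set_option autoImplicit false
universe u
open EtAlg

namespace Groth.Agent.S6934

/-- Let `s : B → R`, `t : R' → R` be ring maps and `B' = B ×_R R'` the fibre product ring, i.e. a ring
`B'` with maps `p : B' → B`, `q : B' → R'`, `s ∘ p = t ∘ q`, such that `(p, q)` is injective with
image the pairs `(b, r')` with `s(b) = t(r')`. Let `h ∈ B'` with images `g = p(h)`, `f = q(h)`. Then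
the square of localizations `B'_h → B_g`, `B'_h → R'_f`, `B_g → R_{s(g)}`, `R'_f → R_{t(f)} =
R_{s(g)}` (the induced maps) is cartesian as well: `B'_h = B_g ×_{R_{s(g)}} R'_f`. -/
theorem result {B R R' B' : Type u} [CommRing B] [CommRing R] [CommRing R'] [CommRing B']
    (s : B →+* R) (t : R' →+* R) (p : B' →+* B) (q : B' →+* R') (hc : s.comp p = t.comp q)
    (hinj : ∀ x y : B', p x = p y → q x = q y → x = y) (hsurj : ∀ (b : B) (r' : R'), s b = t r' → ∃ x : B', p x = b ∧ q x = r')
    (h : B') (Bh Bg Rf Rsg : Type u) [CommRing Bh] [CommRing Bg] [CommRing Rf] [CommRing Rsg]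
    [Algebra B' Bh] [IsLocalization.Away h Bh] [Algebra B Bg] [IsLocalization.Away (p h) Bg]
    [Algebra R' Rf] [IsLocalization.Away (q h) Rf] [Algebra R Rsg] [IsLocalization.Away (s (p h)) Rsg]
    (pL : Bh →+* Bg) (qL : Bh →+* Rf) (sL : Bg →+* Rsg) (tL : Rf →+* Rsg)
    (hp : pL.comp (algebraMap B' Bh) = (algebraMap B Bg).comp p) (hq : qL.comp (algebraMap B' Bh) = (algebraMap R' Rf).comp q)
    (hs : sL.comp (algebraMap B Bg) = (algebraMap R Rsg).comp s) (ht : tL.comp (algebraMap R' Rf) = (algebraMap R Rsg).comp t) :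
    (∀ x y : Bh, pL x = pL y → qL x = qL y → x = y) ∧
    (∀ (b : Bg) (r : Rf), sL b = tL r → ∃ x : Bh, pL x = b ∧ qL x = r) := by
  have hp' : ∀ x, pL (algebraMap B' Bh x) = algebraMap B Bg (p x) := RingHom.congr_fun hp
  have hq' : ∀ x, qL (algebraMap B' Bh x) = algebraMap R' Rf (q x) := RingHom.congr_fun hq
  have hs' : ∀ x, sL (algebraMap B Bg x) = algebraMap R Rsg (s x) := RingHom.congr_fun hs
  have ht' : ∀ x, tL (algebraMap R' Rf x) = algebraMap R Rsg (t x) := RingHom.congr_fun ht
  have htq : t (q h) = s (p h) := (RingHom.congr_fun hc h).symm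
  refine ⟨fun x y hx hy => ?_, fun b r hbr => ?_⟩
  · suffices ∀ z, pL z = 0 → qL z = 0 → z = 0 by
      rw [← sub_eq_zero]
      exact this _ (by rw [map_sub, hx, sub_self]) (by rw [map_sub, hy, sub_self])
    intro z hzp hzq
    obtain ⟨n, a, hz⟩ := IsLocalization.Away.surj h z
    have h1 : algebraMap B Bg (p a) = 0 := by rw [← hp', ← hz, map_mul, hzp, zero_mul]
    have h2 : algebraMap R' Rf (q a) = 0 := by rw [← hq', ← hz, map_mul, hzq, zero_mul]
    obtain ⟨⟨_, i, rfl⟩, hi⟩ := (IsLocalization.map_eq_zero_iff (Submonoid.powers (p h)) Bg _).1 h1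
    obtain ⟨⟨_, j, rfl⟩, hj⟩ := (IsLocalization.map_eq_zero_iff (Submonoid.powers (q h)) Rf _).1 h2
    have h3 : h ^ (i + j) * a = 0 := by
      refine hinj _ _ ?_ ?_
      · rw [map_zero, pow_add, mul_comm (h ^ i), mul_assoc, map_mul, map_mul, map_pow, map_pow]
        simp only at hi
        rw [hi, mul_zero]
      · rw [map_zero, pow_add, mul_assoc, map_mul, map_mul, map_pow, map_pow]
        simp only at hj
        rw [hj, mul_zero]
    apply (IsLocalization.Away.algebraMap_pow_isUnit (S := Bh) h (i + j)).mul_left_cancel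
    apply (IsLocalization.Away.algebraMap_pow_isUnit (S := Bh) h n).mul_left_cancel
    have h4 : algebraMap B' Bh (h ^ (i + j)) * (z * algebraMap B' Bh h ^ n) = 0 := by
      rw [hz, ← map_mul, h3, map_zero]
    rw [map_pow] at h4
    rw [mul_zero, mul_zero, ← h4]
    ring
  · obtain ⟨n, b₀, hb⟩ := IsLocalization.Away.surj (p h) b
    obtain ⟨m, r₀, hr⟩ := IsLocalization.Away.surj (q h) r
    have h1 : algebraMap R Rsg (s (p h) ^ m * s b₀) = algebraMap R Rsg (s (p h) ^ n * t r₀) := by
      rw [map_mul, map_mul, map_pow, map_pow, ← hs' b₀, ← hb, ← ht' r₀, ← hr, map_mul, map_mul,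
        map_pow, map_pow, hs', ht', htq, hbr]
      ring
    obtain ⟨⟨_, k, rfl⟩, hk⟩ := (IsLocalization.eq_iff_exists (Submonoid.powers (s (p h))) Rsg).1 h1
    simp only at hk
    obtain ⟨x₀, hx1, hx2⟩ := hsurj (p h ^ (k + m) * b₀) (q h ^ (k + n) * r₀) (by
      rw [map_mul, map_mul, map_pow, map_pow, htq, pow_add, pow_add, mul_assoc, mul_assoc]
      exact hk)
    obtain ⟨u, hu⟩ := (IsLocalization.Away.algebraMap_pow_isUnit (S := Bh) h (k + m + n)).exists_right_inv
    refine ⟨algebraMap B' Bh x₀ * u, ?_, ?_⟩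
    · apply (IsLocalization.Away.algebraMap_pow_isUnit (S := Bg) (p h) (k + m + n)).mul_left_cancel
      have hu' := congrArg pL hu
      rw [map_mul, map_pow, hp', map_one] at hu'
      rw [map_mul, hp', hx1, map_mul, map_pow, ← hb]
      linear_combination (algebraMap B Bg (p h) ^ (k + m) * (b * algebraMap B Bg (p h) ^ n)) * hu'
    · apply (IsLocalization.Away.algebraMap_pow_isUnit (S := Rf) (q h) (k + m + n)).mul_left_cancel
      have hu' := congrArg qL hu
      rw [map_mul, map_pow, hq', map_one] at hu'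
      rw [map_mul, hq', hx2, map_mul, map_pow, ← hr]
      linear_combination (algebraMap R' Rf (q h) ^ (k + n) * (r * algebraMap R' Rf (q h) ^ m)) * hu'

end Groth.Agent.S6934
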