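import Groth.Statements.S6936
import Groth.Agent.DAlg.PCoh


set_option autoImplicit false
universe u
open CategoryTheory CategoryTheory.Limits
attribute [local instance] HasDerivedCategory.standard
open DRing

namespace Groth.Agent.S6936

/-- Let R be a commutative ring, m an integer and K an object of D(R). If H^i(K) = 0 for every i > m +
1, H^(m+1)(K) is a finitely presented R-module and H^m(K) is a finitely generated R-module, then K
is m-pseudo-coherent. -/
theorem result (R : Type u) [CommRing R]
    (m : ℤ) (K : Dual.D R) (hvan : ∀ i : ℤ, m + 1 < i → Subsingleton (Dual.HD R K i))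
    (hfp : Module.FinitePresentation R (Dual.HD R K (m + 1))) (hfin : Module.Finite R (Dual.HD R K m)) :
    DRing.IsPseudoCoherent R m K := by
  rw [DAlg.isPseudoCoherent_iff]
  refine PCohPunctual.pcn_of_homology (DAlg.isAdditiveSub_finFree R) (DAlg.isQuasiStable_finFree R)
    (DAlg.isQuasiLiftable_finFree R) K (m + 1) (fun i hi => ModuleCat.isZero_iff_subsingleton.2 (hvan i hi))
    fun i hi => ?_
  rcases (show i = m ∨ i = m + 1 ∨ m + 1 < i by omega) with rfl | rfl | h
  · rw [sub_self]
    exact (DAlg.pcn_zero_mD_iff _).2 hfin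
  · rw [show m - (m + 1) = (-1 : ℤ) by omega]
    exact (DAlg.pcn_neg_one_mD_iff _).2 hfp
  · exact PCohPunctual.pcn_of_isZero (DAlg.isAdditiveSub_finFree R) (DAlg.isQuasiLiftable_finFree R)
      fun j _ => CategoryTheory.Functor.map_isZero _ (CategoryTheory.Functor.map_isZero _
        (ModuleCat.isZero_iff_subsingleton.2 (hvan i h)))

end Groth.Agent.S6936
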