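import Groth.Statements.S6943
import Groth.Agent.DAlg.PCoh
import Groth.Agent.S6366

set_option autoImplicit false
universe u
open CategoryTheory CategoryTheory.Limits
attribute [local instance] HasDerivedCategory.standard
open DRing

namespace Groth.Agent.S6943

open Groth.PCohPunctual

section

variable {R : Type u} [CommRing R] (hR : ∀ I : Ideal R, I.FG → Module.FinitePresentation R I)
include hR

private lemma precoherent_of_fp (X : ModuleCat.{u} R) (hX : Module.FinitePresentation R X) :
    IsPrecoherent (DAlg.finFree R) X := fun E φ hE => by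
  have := hE.1
  rw [DAlg.finite_iff_ft]
  have hr : (LinearMap.range φ.hom).FG := by
    rw [LinearMap.range_eq_map]
    exact (Module.Finite.fg_top : (⊤ : Submodule R E).FG).map _
  have := ((S6366.result R hR X).2 hX).2 _ hr
  have hker : (LinearMap.ker φ.hom).FG := by
    rw [← LinearMap.ker_rangeRestrict φ.hom]
    exact Module.FinitePresentation.fg_ker _ φ.hom.surjective_rangeRestrict
  have := Module.Finite.iff_fg.2 hker
  exact Module.Finite.equiv (ModuleCat.kernelIsoKer φ).toLinearEquiv.symm

private lemma fp_iff (X : ModuleCat.{u} R) :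
    Module.FinitePresentation R X ↔
      PCoh.IsOfFiniteType (DAlg.finFree R) X ∧ IsPrecoherent (DAlg.finFree R) X := by
  refine ⟨fun h => ⟨(DAlg.finite_iff_ft R X).2 inferInstance, precoherent_of_fp hR X h⟩, fun h => ?_⟩
  obtain ⟨E, π, hE, hπ⟩ := h.1
  have := hE.1
  have := hE.2
  have := Module.Projective.of_free (R := R) (P := E)
  have := Module.finitePresentation_of_projective R E
  have hK : Module.Finite R (kernel π : ModuleCat.{u} R) := (DAlg.finite_iff_ft R _).1 (h.2 E π hE)
  exact Module.finitePresentation_of_surjective π.hom ((ModuleCat.epi_iff_surjective π).1 hπ)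
    (Module.Finite.iff_fg.1 (Module.Finite.equiv (ModuleCat.kernelIsoKer π).toLinearEquiv))

private lemma precoherent_finFree : ∀ X, DAlg.finFree R X → IsPrecoherent (DAlg.finFree R) X :=
  fun X hX => precoherent_of_fp hR X (by
    have := hX.1
    have := hX.2
    have := Module.Projective.of_free (R := R) (P := X)
    exact Module.finitePresentation_of_projective R X)

end

/-- Let R be a coherent commutative ring, i.e. every finitely generated ideal of R is finitely presented
as an R-module. Let K be an object of D(R) whose cohomology vanishes in large degrees and m an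
integer. Then K is m-pseudo-coherent if and only if H^m(K) is finitely generated and H^i(K) is
finitely presented for every i > m. Consequently K is pseudo-coherent if and only if every H^i(K) is
finitely presented. -/
theorem result (R : Type u) [CommRing R]
    (hR : ∀ I : Ideal R, I.FG → Module.FinitePresentation R I) (K : Dual.D R)
    (hb : ∃ b : ℤ, ∀ i : ℤ, b < i → Subsingleton (Dual.HD R K i)) (m : ℤ) :
    (DRing.IsPseudoCoherent R m K ↔
      Module.Finite R (Dual.HD R K m) ∧ ∀ i : ℤ, m < i → Module.FinitePresentation R (Dual.HD R K i)) ∧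
      (DRing.IsPseudoCoherent' R K ↔ ∀ i : ℤ, Module.FinitePresentation R (Dual.HD R K i)) := by
  obtain ⟨b, hb⟩ := hb
  have key : ∀ n : ℤ, DRing.IsPseudoCoherent R n K ↔
      Module.Finite R (Dual.HD R K n) ∧ ∀ i : ℤ, n < i → Module.FinitePresentation R (Dual.HD R K i) := fun n => by
    rw [DAlg.isPseudoCoherent_iff, pcn_iff_coherent_homology (DAlg.isAdditiveSub_finFree R)
      (DAlg.isQuasiLiftable_finFree R) (precoherent_finFree hR) n K b
      (fun i hi => ModuleCat.isZero_iff_subsingleton.2 (hb i hi)), DAlg.finite_iff_ft]
    exact and_congr_right fun _ => forall_congr' fun i => imp_congr_right fun _ => (fp_iff hR _).symm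
  refine ⟨key m, ?_⟩
  rw [DAlg.isPseudoCoherent'_iff_forall]
  refine ⟨fun h i => ((key (i - 1)).1 (h _)).2 i (by omega), fun h n => (key n).2 ⟨?_, fun i _ => h i⟩⟩
  have := h n
  infer_instance

end Groth.Agent.S6943
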