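import Groth.Statements.S6947
import Groth.Agent.DAlg.TorAmpRestrict


set_option autoImplicit false
universe u
open CategoryTheory CategoryTheory.Limits
attribute [local instance] HasDerivedCategory.standard
open DRing

namespace Groth.Agent.S6947

/-- Let A → B be a homomorphism of commutative rings such that B, as an A-module, has tor dimension at
most d: B[0] is isomorphic in D(A) to a complex of flat A-modules vanishing outside [-d, 0]. Let K
be an object of D(B) with tor amplitude in [a, b] over B. Then K, with scalars restricted to A, has
tor amplitude in [a - d, b] over A. -/
theorem result {A B : Type u} [CommRing A] [CommRing B]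
    [Algebra A B] (d : ℕ) (hB : DRing.HasTorAmplitudeIn A (-(d : ℤ)) 0 (Dual.inD A B)) (K : Dual.D B)
    (a b : ℤ) (hK : DRing.HasTorAmplitudeIn B a b K) :
    DRing.HasTorAmplitudeIn A (a - d) b ((DRing.restrictD (algebraMap A B)).obj K) := by
  exact DAlg.TorAmp.restrict hB hK

end Groth.Agent.S6947
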