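import Groth.Statements.S6950
import Groth.Agent.DAlg.Descent


set_option autoImplicit false
universe u
open CategoryTheory CategoryTheory.Limits
attribute [local instance] HasDerivedCategory.standard
open DRing

namespace Groth.Agent.S6950

/-- Let R → R' be a faithfully flat homomorphism of commutative rings, K a cochain complex of R-modules
and a, b integers. If the termwise base change K ⊗_R R' has tor amplitude in [a, b] as an object of
D(R'), then K has tor amplitude in [a, b] as an object of D(R). -/
theorem result {R R' : Type u} [CommRing R] [CommRing R']
    [Algebra R R'] [Module.FaithfullyFlat R R'] (K : DRing.Cx R) (a b : ℤ)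
    (hK : DRing.HasTorAmplitudeIn R' a b (DRing.toD (((ModuleCat.extendScalars (algebraMap R R')).mapHomologicalComplex
        (ComplexShape.up ℤ)).obj K))) :
    DRing.HasTorAmplitudeIn R a b (DRing.toD K) := by
  exact DAlg.torAmp_of_jointlyFaithful (DAlg.jointlyFaithful_of_faithfullyFlat R') K a b fun _ => hK

end Groth.Agent.S6950
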