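import Groth.Statements.S6954
import Groth.Agent.DAlg.TorAmp


set_option autoImplicit false
universe u
open CategoryTheory CategoryTheory.Limits
attribute [local instance] HasDerivedCategory.standard
open DRing

namespace Groth.Agent.S6954

/-- Let R be a commutative ring and K an object of D(R). Then K is perfect (isomorphic in D(R) to a
bounded complex of finite projective modules) if and only if K is pseudo-coherent (isomorphic to a
bounded above complex of finite free modules) and has finite tor dimension (isomorphic to a bounded
complex of flat modules). -/
theorem result (R : Type u) [CommRing R] (K : Dual.D R) :
    DRing.IsPerfect R K ↔ DRing.IsPseudoCoherent' R K ∧ DRing.HasFiniteTorDimCx R K := by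
  exact DAlg.isPerfect_iff

end Groth.Agent.S6954
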