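import Groth.Statements.S6955
import Groth.Agent.DAlg.PCoh
import Groth.Agent.DAlg.TorDim
import Mathlib.CategoryTheory.Abelian.Projective.Extend

set_option autoImplicit false
universe u
open CategoryTheory CategoryTheory.Limits
attribute [local instance] HasDerivedCategory.standard
open DRing

namespace Groth.Agent.S6955

/-- Let R be a commutative ring and M an R-module. Then M is perfect (M[0] is isomorphic in D(R) to a
bounded complex of finite projective modules) if and only if M admits a projective resolution of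
finite length whose terms are finitely generated, i.e. a resolution 0 → F_d → ... → F_0 → M → 0 by
finite projective modules. -/
theorem result (R : Type u) [CommRing R] (M : Type u)
    [AddCommGroup M] [Module R M] :
    DRing.IsPerfectModule R M ↔
      ∃ (P : ProjectiveResolution (ModuleCat.of R M)) (d : ℕ),
        (∀ i : ℕ, d < i → IsZero (P.complex.X i)) ∧ ∀ i : ℕ, Module.Finite R (P.complex.X i) := by
  constructor
  · rintro ⟨E₀, a, b, hvan, hproj, ⟨e₀⟩⟩
    have hH : ∀ i : ℤ, i ≠ 0 → IsZero ((DerivedCategory.homologyFunctor (ModuleCat.{u} R) i).obj (Dual.inD R M)) :=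
      fun i hi => ModuleCat.isZero_iff_subsingleton.2 (DAlg.subsingleton_HD_mD _ hi)
    obtain ⟨E, hE, hEv, ⟨e'⟩⟩ := PCohPunctual.exists_truncated (DAlg.isAdditiveSub_finProj R)
      (DAlg.isStableKer_finProj R) (min a 0) 0 b (min_le_right a 0) E₀ hproj
      (fun i hi => hvan i (by omega))
      (fun i hi => PCohPunctual.isZero_homology_of_iso e₀ (hH i hi.ne'))
    let e : DerivedCategory.Q.obj E ≅ Dual.inD R M := e' ≪≫ e₀
    let K : ChainComplex (ModuleCat.{u} R) ℕ := E.restriction ComplexShape.embeddingDownNat
    have hd0 : E.d 0 1 = 0 := (hEv 1 (Or.inr (by omega))).eq_of_tgt _ _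
    let φ : E.opcycles 0 ≅ ModuleCat.of R M :=
      (E.isoHomologyι 0 1 (by simp) hd0).symm ≪≫ (PCohPunctual.hQIso E 0).symm ≪≫
        (DerivedCategory.homologyFunctor (ModuleCat.{u} R) 0).mapIso e ≪≫
        (DerivedCategory.singleFunctorCompHomologyFunctorIso (ModuleCat.{u} R) 0).app (ModuleCat.of R M)
    let ε : E.X 0 ⟶ ModuleCat.of R M := E.pOpcycles 0 ≫ φ.hom
    have hε0 : E.d (-1) 0 ≫ ε = 0 := by simp [ε]
    have hexε : (ShortComplex.mk (E.d (-1) 0) ε hε0).Exact :=
      (ShortComplex.exact_iff_of_iso (ShortComplex.isoMk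
        (S₁ := ShortComplex.mk (E.d (-1) 0) (E.pOpcycles 0) (E.d_pOpcycles _ _))
        (S₂ := ShortComplex.mk (E.d (-1) 0) ε hε0)
        (Iso.refl _) (Iso.refl _) φ (by simp) (by simp [ε]))).1
        (ShortComplex.exact_of_g_is_cokernel _ (E.opcyclesIsCokernel (-1) 0 (by simp)))
    have hεepi : Epi ε := epi_comp _ _
    have hexn : ∀ n : ℕ, (E.sc' (-((n + 1 + 1 : ℕ) : ℤ)) (-((n + 1 : ℕ) : ℤ)) (-(n : ℤ))).Exact := fun n =>
      ((E.exactAt_iff' (-((n + 1 + 1 : ℕ) : ℤ)) (-((n + 1 : ℕ) : ℤ)) (-(n : ℤ))
        (by simp only [CochainComplex.prev]; omega) (by simp only [CochainComplex.next]; omega))).1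
        ((HomologicalComplex.exactAt_iff_isZero_homology _ _).2
          (PCohPunctual.isZero_homology_of_iso e (hH _ (by omega))))
    have hπ : K.d 1 0 ≫ ε = 0 := hε0
    refine ⟨{
      complex := K
      projective := fun n => haveI := (hE (-(n : ℤ))).2; (E.X (-(n : ℤ))).projective_of_categoryTheory_projective
      π := (ChainComplex.toSingle₀Equiv K (ModuleCat.of R M)).symm ⟨ε, hπ⟩
      quasiIso := ⟨fun n => ?_⟩ }, (-(min a 0)).toNat, fun i hi => hEv _ (Or.inl ?_), fun i => (hE _).1⟩
    · cases n with
      | zero =>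
        rw [ChainComplex.quasiIsoAt₀_iff, ShortComplex.quasiIso_iff_of_zeros']
        · exact (ShortComplex.exact_and_epi_g_iff_of_iso
            (S₂ := ShortComplex.mk (E.d (-1) 0) ε hε0)
            (ShortComplex.isoMk (Iso.refl _) (Iso.refl _) (Iso.refl _)
              (by erw [Category.id_comp])
              (by erw [Category.id_comp]))).2 ⟨hexε, hεepi⟩
        · exact K.shape 0 0 (by simp)
        all_goals rfl
      | succ n =>
        rw [quasiIsoAt_iff_exactAt']
        · rw [HomologicalComplex.exactAt_iff' _ (n + 1 + 1) (n + 1) n (by simp) (by simp)]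
          exact hexn n
        · exact ChainComplex.exactAt_succ_single_obj _ _
    · show -(i : ℤ) < min a 0
      omega
  · rintro ⟨P, d, hd, hfin⟩
    refine ⟨P.cochainComplex, -(d : ℤ), 0, fun i hi => ?_, fun i => ?_,
      ⟨asIso (DerivedCategory.Q.map P.π') ≪≫
        ((DerivedCategory.singleFunctorIsoCompQ (ModuleCat.{u} R) 0).app _).symm⟩⟩
    · rcases hi with hi | hi
      · exact (hd (-i).toNat (by omega)).of_iso (P.cochainComplexXIso i (-i).toNat (by omega))
      · exact CochainComplex.isZero_of_isStrictlyLE _ 0 i hi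
    · refine ⟨?_, ?_⟩
      · by_cases hi : i ≤ 0
        · have := hfin (-i).toNat
          exact Module.Finite.equiv (P.cochainComplexXIso i (-i).toNat (by omega)).toLinearEquiv.symm
        · have := ModuleCat.subsingleton_of_isZero
            (CochainComplex.isZero_of_isStrictlyLE P.cochainComplex 0 i (not_le.mp hi))
          infer_instance
      · exact (IsProjective.iff_projective _).2 (inferInstance : Projective (P.cochainComplex.X i))

end Groth.Agent.S6955
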