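import Groth.Statements.S6956
import Groth.Agent.DAlg.TorAmpRestrict


set_option autoImplicit false
universe u
open CategoryTheory CategoryTheory.Limits
attribute [local instance] HasDerivedCategory.standard
open DRing

namespace Groth.Agent.S6956

/-- Let A → B be a homomorphism of commutative rings such that B is perfect as an A-module, and let K be
a perfect object of D(B). Then K, with scalars restricted to A, is a perfect object of D(A). -/
theorem result {A B : Type u} [CommRing A] [CommRing B] [Algebra A B]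
    (hB : DRing.IsPerfectModule A B) (K : Dual.D B) (hK : DRing.IsPerfect B K) :
    DRing.IsPerfect A ((DRing.restrictD (algebraMap A B)).obj K) := by
  obtain ⟨hBpc, c, e, hBt⟩ := DAlg.isPerfect_iff.1 hB
  obtain ⟨hKpc, a, b, hKt⟩ := DAlg.isPerfect_iff.1 hK
  have hBt' : DRing.HasTorAmplitudeIn A (-(((-c).toNat : ℕ) : ℤ)) 0 (Dual.inD A B) :=
    DAlg.TorAmp.mono (DAlg.TorAmp.top hBt fun i hi =>
      DAlg.subsingleton_HD_mD (ModuleCat.of A B) (ne_of_gt hi)) (by omega) le_rfl
  exact DAlg.isPerfect_iff.2 ⟨DAlg.isPseudoCoherent'_iff_isPC.2 fun n =>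
    (DAlg.pcMap_algebraMap_iff.2 hBpc).res (DAlg.isPseudoCoherent'_iff_isPC.1 hKpc n), _, _,
    DAlg.TorAmp.restrict hBt' hKt⟩

end Groth.Agent.S6956
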