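import Groth.Statements.S6957
import Groth.Agent.Calg2.LBaseChangeKProj
import Mathlib.Algebra.Category.ModuleCat.Projective

set_option autoImplicit false
universe u
open CategoryTheory CategoryTheory.Limits
attribute [local instance] HasDerivedCategory.standard
open DRing

namespace Groth.Agent.S6957

/-- Let A → B be a homomorphism of commutative rings such that the derived base change D(A) → D(B)
exists, and let K be a perfect object of D(A). Then K ⊗^L_A B is a perfect object of D(B). -/
theorem result {A B : Type u} [CommRing A] [CommRing B] (φ : A →+* B)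
    [DRing.HasLBaseChange φ] (K : Dual.D A) (hK : DRing.IsPerfect A K) :
    DRing.IsPerfect B ((DRing.LBaseChange φ).obj K) := by
  obtain ⟨E, a, b, hE, hproj, ⟨e⟩⟩ := hK
  haveI : E.IsStrictlyLE b :=
    (CochainComplex.isStrictlyLE_iff E b).2 fun i hi => hE i (Or.inr hi)
  haveI : ∀ n, Projective (E.X n) := fun n =>
    (IsProjective.iff_projective (E.X n)).1 (hproj n).2
  haveI : E.IsKProjective := CochainComplex.isKProjective_of_projective E b
  refine ⟨(Calg2.KProj.extCx φ).obj E, a, b, fun i hi =>
    (ModuleCat.extendScalars.{u, u, u} φ).map_isZero (hE i hi), fun i => ?_,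
    ⟨(Calg2.KProj.lbcIso φ E).symm ≪≫ (DRing.LBaseChange φ).mapIso e⟩⟩
  haveI := (hproj i).1
  haveI := (hproj i).2
  letI := φ.toAlgebra
  exact ⟨inferInstanceAs (Module.Finite B (TensorProduct A B (E.X i : Type u))),
    inferInstanceAs (Module.Projective B (TensorProduct A B (E.X i : Type u)))⟩

end Groth.Agent.S6957
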