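import Groth.Statements.S6959
import Groth.Agent.DAlg.TotFinite


set_option autoImplicit false
universe u
open CategoryTheory CategoryTheory.Limits
attribute [local instance] HasDerivedCategory.standard
open DRing

namespace Groth.Agent.S6959

/-- Let R be a commutative ring, K a perfect object of D(R) and L a cochain complex of R-modules
defining a perfect object of D(R); assume the derived tensor product - ⊗^L_R L exists on D(R). Then
K ⊗^L_R L is a perfect object of D(R). -/
theorem result (R : Type u) [CommRing R] (K : Dual.D R) (hK : DRing.IsPerfect R K)
    (L : DRing.Cx R) (hL : DRing.IsPerfect R (DRing.toD L)) [DRing.HasLTensorCx R L] :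
    DRing.IsPerfect R ((DRing.LTensorCx R L).obj K) := by
  exact DAlg.isPerfect_lTensorCx hK L hL

end Groth.Agent.S6959
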