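import Groth.Statements.S6960
import Groth.Agent.DAlg.PCDescent


set_option autoImplicit false
universe u
open CategoryTheory CategoryTheory.Limits
attribute [local instance] HasDerivedCategory.standard
open DRing

namespace Groth.Agent.S6960

/-- Let R be a commutative ring, f_1, ..., f_r elements generating the unit ideal and K a cochain
complex of R-modules. If for every i the termwise localization K ⊗_R R_(f_i) is a perfect object of
D(R_(f_i)), then K is a perfect object of D(R). -/
theorem result {R : Type u} [CommRing R] {r : ℕ} (f : Fin r → R)
    (hf : Ideal.span (Set.range f) = ⊤) (K : DRing.Cx R)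
    (hK : ∀ i, DRing.IsPerfect (Localization.Away (f i))
      (DRing.toD (((ModuleCat.extendScalars (algebraMap R (Localization.Away (f i)))).mapHomologicalComplex
        (ComplexShape.up ℤ)).obj K))) :
    DRing.IsPerfect R (DRing.toD K) := by
  exact DAlg.isPerfect_of_extCx (DAlg.jointlyFaithful_away f hf) K hK

end Groth.Agent.S6960
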