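import Groth.Statements.S6962
import Groth.Agent.KoszulLCI.Perfect
import Groth.Agent.KoszulLCI.RegularTorDim
import Mathlib.RingTheory.Spectrum.Prime.FreeLocus

set_option autoImplicit false
set_option linter.style.haveILetI false
universe u
open CategoryTheory CategoryTheory.Limits
attribute [local instance] HasDerivedCategory.standard
open DRing

namespace Groth.Agent.S6962

open scoped TensorProduct

/-- Let R be a regular commutative ring, i.e. R is Noetherian and its localization at every prime ideal
is a regular local ring. Then an R-module M is perfect (M[0] is isomorphic in D(R) to a bounded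
complex of finite projective modules) if and only if M is finitely generated. -/
theorem result (R : Type u) [CommRing R] [IsNoetherianRing R]
    (hreg : ∀ p : PrimeSpectrum R, IsRegularLocalRing (Localization.AtPrime p.asIdeal))
    (M : Type u) [AddCommGroup M] [Module R M] :
    DRing.IsPerfectModule R M ↔ Module.Finite R M := by
  refine ⟨Groth.KoszulLCI.finite_of_isPerfectModule M, fun hM => ?_⟩
  have hopen : ∀ (n : ℕ) (N : Type u) [AddCommGroup N] [Module R N] [Module.Finite R N],
      IsOpen {p : PrimeSpectrum R | Groth.Ega4Algebra1.PdLT (Localization.AtPrime p.asIdeal)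
        (Localization.AtPrime p.asIdeal ⊗[R] N) (n + 1)} := by
    intro n
    induction n with
    | zero =>
      intro N _ _ _
      haveI : Module.FinitePresentation R N := Module.finitePresentation_of_finite R N
      convert (Module.isOpen_freeLocus : IsOpen (Module.freeLocus R N)) using 1
      ext p
      rw [Set.mem_ofPred_eq, Module.mem_freeLocus_iff_tensor p (Localization.AtPrime p.asIdeal),
        Groth.Ega4Algebra1.PdLT.one_iff]
      exact ⟨fun _ => Module.free_of_flat_of_isLocalRing, fun _ => inferInstance⟩
    | succ n ih =>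
      intro N _ _ _
      obtain ⟨k, f, hf⟩ := Groth.Ega4Algebra1.exists_surjective_fin R N
      convert ih (LinearMap.ker f) using 1
      ext p
      obtain ⟨e⟩ := Groth.Ega4Algebra1.exists_equiv_ker_baseChange (Localization.AtPrime p.asIdeal) f
      rw [Set.mem_ofPred_eq, Set.mem_ofPred_eq,
        Groth.Ega4Algebra1.PdLT.ker_iff (f.baseChange (Localization.AtPrime p.asIdeal))
          (LinearMap.lTensor_surjective _ hf) n]
      exact ⟨Groth.Ega4Algebra1.PdLT.of_equiv e.symm, Groth.Ega4Algebra1.PdLT.of_equiv e⟩
  obtain ⟨n, hn⟩ : ∃ n : ℕ, ∀ p : PrimeSpectrum R, Groth.Ega4Algebra1.PdLT (Localization.AtPrime p.asIdeal)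
      (Localization.AtPrime p.asIdeal ⊗[R] M) (n + 1) := by
    obtain ⟨t, ht⟩ := CompactSpace.elim_nhds_subcover (fun p => {q : PrimeSpectrum R |
        Groth.Ega4Algebra1.PdLT (Localization.AtPrime q.asIdeal) (Localization.AtPrime q.asIdeal ⊗[R] M)
          ((IsLocalRing.maximalIdeal (Localization.AtPrime p.asIdeal)).spanFinrank + 1)}) fun p => by
      refine (hopen _ M).mem_nhds ?_
      haveI := hreg p
      exact Groth.Ega4Algebra1.pdLT_of_isRegularLocalRing (Localization.AtPrime p.asIdeal) _ rfl _
    refine ⟨t.sup fun p => (IsLocalRing.maximalIdeal (Localization.AtPrime p.asIdeal)).spanFinrank, fun p => ?_⟩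
    have hp : p ∈ (⊤ : Set (PrimeSpectrum R)) := trivial
    rw [← ht] at hp
    obtain ⟨q, hq, hpq⟩ := Set.mem_iUnion₂.1 hp
    exact Groth.Ega4Algebra1.PdLT.mono (Nat.add_le_add_right (Finset.le_sup hq) 1) hpq
  have key : ∀ (n : ℕ) (N : Type u) [AddCommGroup N] [Module R N] [Module.Finite R N],
      Groth.Ega4Algebra1.PdLT R N (n + 1) → DRing.IsPerfectModule R N := by
    intro n
    induction n with
    | zero =>
      intro N _ _ _ h
      haveI := Groth.Ega4Algebra1.PdLT.one_iff.1 h
      exact Groth.KoszulLCI.isPerfectModule_of_finite_projective N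
    | succ n ih =>
      intro N _ _ _ h
      obtain ⟨k, f, hf⟩ := Groth.Ega4Algebra1.exists_surjective_fin R N
      exact Groth.KoszulLCI.isPerfectModule_coker (Submodule.injective_subtype _)
        (LinearMap.exact_subtype_ker_map f) hf (ih _ ((Groth.Ega4Algebra1.PdLT.ker_iff f hf n).1 h))
        (Groth.KoszulLCI.isPerfectModule_of_finite_projective _)
  exact key n M (Groth.KoszulLCI.pdLT_of_localization_maximal n M fun m hm => hn ⟨m, hm.isPrime⟩)

end Groth.Agent.S6962
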