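import Groth.Statements.S6966
import Groth.Agent.DAlg.PCoh
import Mathlib.Algebra.Homology.DerivedCategory.Ext.EnoughProjectives
import Mathlib.Algebra.Homology.DerivedCategory.Linear

set_option autoImplicit false
universe u
open CategoryTheory CategoryTheory.Limits
attribute [local instance] HasDerivedCategory.standard
open CAlg

namespace Groth.Agent.S6966

/-- Let R be a commutative ring, I an ideal of R and M an R-module. Then the following two conditions
coincide: for each a ∈ I, the endomorphism of M given by multiplication by a can be written as a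
composite M → P → M with P some projective R-module; and for every R-module N and every a ∈ I, a
annihilates Ext^1_R(M, N) = Hom(M[0], N[1]) in D(R). -/
theorem result (R : Type u) [CommRing R] (I : Ideal R) (M : Type u)
    [AddCommGroup M] [Module R M] :
    (∀ a ∈ I, ∃ (P : Type u) (_ : AddCommGroup P) (_ : Module R P) (_ : Module.Projective R P)
        (f : M →ₗ[R] P) (g : P →ₗ[R] M), g ∘ₗ f = a • LinearMap.id) ↔
      ∀ (N : Type u) [AddCommGroup N] [Module R N], ∀ a ∈ I,
        ∀ x : DRing.ExtD R (Dual.inD R M) (Dual.inD R N) 1, a • x = 0 := by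
  let S := DerivedCategory.singleFunctor (ModuleCat.{u} R) 0
  constructor
  · intro h N _ _ a ha x
    obtain ⟨P, _, _, _, f, g, hfg⟩ := h a ha
    have hz : S.map (ModuleCat.ofHom g) ≫ x = 0 := by
      haveI : Projective (ModuleCat.of R P) := (IsProjective.iff_projective P).1 inferInstance
      rw [← cancel_mono (((DerivedCategory.singleFunctors (ModuleCat.{u} R)).shiftIso 1 (-1) 0
        (by omega)).hom.app (ModuleCat.of R N)), Limits.zero_comp]
      exact DerivedCategory.from_singleFunctor_obj_eq_zero_of_projective
        (L := (CochainComplex.singleFunctor (ModuleCat.{u} R) (-1)).obj (ModuleCat.of R N)) _ (-1) (by omega)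
    have he : ModuleCat.ofHom f ≫ ModuleCat.ofHom g = a • 𝟙 (ModuleCat.of R M) := by
      rw [← ModuleCat.ofHom_comp, hfg]; rfl
    calc a • x = S.map (a • 𝟙 (ModuleCat.of R M)) ≫ x := by
          rw [Functor.map_smul, CategoryTheory.Functor.map_id, Linear.smul_comp, Category.id_comp]
      _ = 0 := by rw [← he, Functor.map_comp, Category.assoc, hz, Limits.comp_zero]
  · intro h a ha
    let F : ModuleCat.{u} R := ModuleCat.of R (M →₀ R)
    let π : F ⟶ ModuleCat.of R M := ModuleCat.ofHom (Finsupp.linearCombination R id)
    have hS : (ShortComplex.mk (kernel.ι π) π (kernel.condition π)).ShortExact :=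
      { exact := ShortComplex.exact_of_f_is_kernel _ (kernelIsKernel π)
        epi_g := (ModuleCat.epi_iff_surjective π).2 fun x =>
        ⟨Finsupp.single x 1, (Finsupp.linearCombination_single R (1 : R) x).trans (one_smul R x)⟩ }
    have hT := hS.singleTriangle_distinguished
    have h0 : S.map (a • 𝟙 (ModuleCat.of R M)) ≫ hS.singleTriangle.mor₃ = 0 := by
      erw [Functor.map_smul, CategoryTheory.Functor.map_id, Linear.smul_comp, Category.id_comp]
      exact h (kernel π : ModuleCat.{u} R) a ha hS.singleTriangle.mor₃
    obtain ⟨φ, hφ⟩ := Pretriangulated.Triangle.coyoneda_exact₃ _ hT (S.map (a • 𝟙 (ModuleCat.of R M))) h0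
    obtain ⟨ψ, hψ⟩ := S.map_surjective φ
    refine ⟨M →₀ R, inferInstance, inferInstance, inferInstance, ψ.hom, π.hom, ?_⟩
    have h1 : ψ ≫ π = a • 𝟙 (ModuleCat.of R M) := S.map_injective (by
      rw [Functor.map_comp, hψ]
      exact hφ.symm)
    exact congrArg ModuleCat.Hom.hom h1

end Groth.Agent.S6966
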