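import Groth.Statements.S6967

set_option autoImplicit false
universe u
open CAlg

namespace Groth.Agent.S6967

/-- Let R be a commutative ring, I an ideal of R and 0 → K → P → M → 0 a short exact sequence of
R-modules with P projective. If multiplication by a on M factors through a projective R-module for
every a ∈ I, then multiplication by a on K factors through a projective R-module for every a ∈ I. -/
theorem result (R : Type u) [CommRing R] (I : Ideal R)
    {K P M : Type u} [AddCommGroup K] [Module R K] [AddCommGroup P] [Module R P] [Module.Projective R P]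
    [AddCommGroup M] [Module R M] (f : K →ₗ[R] P) (g : P →ₗ[R] M) (hf : Function.Injective f)
    (hg : Function.Surjective g) (hfg : LinearMap.range f = LinearMap.ker g)
    (hM : ∀ a ∈ I, ∃ (P : Type u) (_ : AddCommGroup P) (_ : Module R P) (_ : Module.Projective R P)
        (f : M →ₗ[R] P) (g : P →ₗ[R] M), g ∘ₗ f = a • LinearMap.id) :
    ∀ a ∈ I, ∃ (P : Type u) (_ : AddCommGroup P) (_ : Module R P) (_ : Module.Projective R P)
        (f : K →ₗ[R] P) (g : P →ₗ[R] K), g ∘ₗ f = a • LinearMap.id := by
  intro a ha
  obtain ⟨P', _, _, _, f', g', h'⟩ := hM a ha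
  obtain ⟨h, hh⟩ := Module.projective_lifting_property g g' hg
  let d : P →ₗ[R] P := a • LinearMap.id - h ∘ₗ f' ∘ₗ g
  have hd : ∀ p, d p ∈ LinearMap.range f := by
    intro p
    rw [hfg, LinearMap.mem_ker]
    have e1 := LinearMap.congr_fun hh (f' (g p))
    have e2 := LinearMap.congr_fun h' (g p)
    simp only [LinearMap.comp_apply, LinearMap.smul_apply, LinearMap.id_apply] at e1 e2
    simp [d, e1, e2]
  let k : P →ₗ[R] K := (LinearEquiv.ofInjective f hf).symm.toLinearMap ∘ₗ d.codRestrict (LinearMap.range f) hd
  have hk : ∀ p, f (k p) = d p := fun p => congrArg Subtype.val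
    ((LinearEquiv.ofInjective f hf).apply_symm_apply ⟨d p, hd p⟩)
  refine ⟨P, inferInstance, inferInstance, inferInstance, f, k, ?_⟩
  ext x
  apply hf
  rw [LinearMap.comp_apply, hk]
  have : g (f x) = 0 := LinearMap.mem_ker.mp (hfg ▸ LinearMap.mem_range_self f x)
  simp [d, this]

end Groth.Agent.S6967
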