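import Groth.Statements.S6968
import Mathlib.LinearAlgebra.Dual.Lemmas
import Mathlib.LinearAlgebra.Dual.Defs
import Mathlib.Algebra.Module.Projective
import Mathlib.LinearAlgebra.FreeModule.Finite.Basic
import Mathlib.RingTheory.Finiteness.Basic
-- import your own Groth.Agent.* helpers here

set_option autoImplicit false
universe u
open CAlg

namespace Groth.Agent.S6968

/-- Let R be a commutative ring, I an ideal of R and M a finitely generated R-module such that
multiplication by a on M factors through a projective R-module for every a ∈ I. Then multiplication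
by a on the dual module Hom_R(M, R) factors through a projective R-module for every a ∈ I. -/
theorem result (R : Type u) [CommRing R] (I : Ideal R) (M : Type u) [AddCommGroup M]
    [Module R M] [Module.Finite R M]
    (hM : ∀ a ∈ I, ∃ (P : Type u) (_ : AddCommGroup P) (_ : Module R P) (_ : Module.Projective R P)
        (f : M →ₗ[R] P) (g : P →ₗ[R] M), g ∘ₗ f = a • LinearMap.id) :
    ∀ a ∈ I, ∃ (P : Type u) (_ : AddCommGroup P) (_ : Module R P) (_ : Module.Projective R P)
        (f : Module.Dual R M →ₗ[R] P) (g : P →ₗ[R] Module.Dual R M), g ∘ₗ f = a • LinearMap.id := by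
  intro a ha
  obtain ⟨P, _, _, _, f, g, hgf⟩ := hM a ha
  obtain ⟨n, π, hπ⟩ := Module.Finite.exists_fin' R M
  obtain ⟨g', hg'⟩ := Module.projective_lifting_property π g hπ
  refine ⟨Module.Dual R (Fin n → R), inferInstance, inferInstance, inferInstance, π.dualMap,
    (g' ∘ₗ f).dualMap, LinearMap.ext fun φ => LinearMap.ext fun m => ?_⟩
  have h1 : π (g' (f m)) = a • m := by
    rw [← LinearMap.comp_apply π g', hg', ← LinearMap.comp_apply g f, hgf]
    rfl
  change φ (π (g' (f m))) = a • φ m
  rw [h1, map_smul]

end Groth.Agent.S6968
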