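import Mathlib
import Groth.Statements.S6969

set_option autoImplicit false
universe u
open CAlg

namespace Groth.Agent.S6969

/-- Let R be a commutative ring and φ : M → N an R-linear map which factors through a projective
R-module. If M is finitely generated, then φ factors through a finitely generated projective
R-module. -/
theorem result (R : Type u) [CommRing R] {M N : Type u} [AddCommGroup M]
    [Module R M] [Module.Finite R M] [AddCommGroup N] [Module R N] (φ : M →ₗ[R] N)
    (h : ∃ (P : Type u) (_ : AddCommGroup P) (_ : Module R P) (_ : Module.Projective R P) (f : M →ₗ[R] P)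
      (g : P →ₗ[R] N), g ∘ₗ f = φ) :
    ∃ (P : Type u) (_ : AddCommGroup P) (_ : Module R P) (_ : Module.Projective R P) (_ : Module.Finite R P)
      (f : M →ₗ[R] P) (g : P →ₗ[R] N), g ∘ₗ f = φ := by
  obtain ⟨P, _, _, hP, f, g, rfl⟩ := h
  obtain ⟨s, hs⟩ := hP.out
  obtain ⟨t, ht⟩ := (Module.Finite.fg_top : (⊤ : Submodule R M).FG)
  classical
  let T : Finset P := t.sup (fun m => (s (f m)).support)
  have hT : ∀ m, s (f m) ∈ Finsupp.supported R R (T : Set P) := by
    have : (⊤ : Submodule R M) ≤ (Finsupp.supported R R (T : Set P)).comap (s ∘ₗ f) := by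
      rw [← ht, Submodule.span_le]
      intro m hm
      have h1 : (s (f m)).support ⊆ T := Finset.le_sup (f := fun m => (s (f m)).support) hm
      simpa [Finsupp.mem_supported] using h1
    exact fun m => this Submodule.mem_top
  let e := Finsupp.supportedEquivFinsupp (M := R) (R := R) (T : Set P)
  refine ⟨(T : Set P) →₀ R, inferInstance, inferInstance, inferInstance, inferInstance,
    e.toLinearMap ∘ₗ (s ∘ₗ f).codRestrict _ hT,
    g ∘ₗ Finsupp.linearCombination R id ∘ₗ (Finsupp.supported R R (T : Set P)).subtype ∘ₗ e.symm.toLinearMap, ?_⟩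
  ext m
  simp only [LinearMap.comp_apply, LinearEquiv.coe_toLinearMap, LinearEquiv.symm_apply_apply,
    Submodule.subtype_apply, LinearMap.codRestrict_apply]
  rw [hs (f m)]

end Groth.Agent.S6969
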