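import Groth.Statements.S6970
import Groth.Agent.DAlg.LiftCxClasses
import Groth.Agent.DAlg.NilpotentAmp


set_option autoImplicit false
universe u
open CategoryTheory CategoryTheory.Limits
attribute [local instance] HasDerivedCategory.standard
open DRing

namespace Groth.Agent.S6970

/-- Let R be a commutative ring and I a nilpotent ideal of R such that the derived base change D(R) →
D(R/I) exists. Let K be an object of D(R) and E a bounded above cochain complex of projective
R/I-modules which is isomorphic in D(R/I) to K ⊗^L_R R/I. Then there is a bounded above cochain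
complex P of projective R-modules which is isomorphic to K in D(R) and whose termwise reduction P
⊗_R R/I is isomorphic to E as a complex of R/I-modules. -/
theorem result (R : Type u) [CommRing R] (I : Ideal R)
    (hI : IsNilpotent I) [DRing.HasLBaseChange (Ideal.Quotient.mk I)] (K : Dual.D R)
    (E : DRing.Cx (R ⧸ I)) (b : ℤ) (hEb : DRing.VanishesAbove E b)
    (hEp : ∀ i : ℤ, Module.Projective (R ⧸ I) (E.X i))
    (hE : Nonempty (DRing.toD E ≅ (DRing.LBaseChange (Ideal.Quotient.mk I)).obj K)) :
    ∃ (P : DRing.Cx R) (b' : ℤ), DRing.VanishesAbove P b' ∧ (∀ i : ℤ, Module.Projective R (P.X i)) ∧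
      Nonempty (DRing.toD P ≅ K) ∧ Nonempty ((((ModuleCat.extendScalars (Ideal.Quotient.mk I)).mapHomologicalComplex (ComplexShape.up ℤ)).obj P) ≅ E) := by
  obtain ⟨eE⟩ := hE
  have hker : IsNilpotent (RingHom.ker (algebraMap R (R ⧸ I))) := by
    rwa [Ideal.Quotient.algebraMap_eq, Ideal.mk_ker]
  haveI : DRing.HasLBaseChange (algebraMap R (R ⧸ I)) := ‹_›
  have hH := fun i => DAlg.subsingleton_HD_of_nilpotent (R := R) (S := R ⧸ I) Ideal.Quotient.mk_surjective hker K b
    (fun j hj => DAlg.subsingleton_HD_of_iso eE (hEb j hj)) i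
  obtain ⟨Q, hQ, hfree, ⟨e⟩⟩ := DAlg.exists_free_rep R hH
  exact DAlg.LiftCx.exists_lift_rep (DAlg.LiftCx.good_proj hI) (fun {X} hX => hX)
    (fun {X Y} => DAlg.LiftCx.sum_proj) Q b hQ
    (fun i => haveI := hfree i; Module.Projective.of_free) e E b hEb
    (fun i => haveI := hEp i; DAlg.LiftCx.exists_term_proj hI) eE

end Groth.Agent.S6970
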