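import Groth.Statements.S6972
import Groth.Agent.DAlg.LiftCxClasses
import Groth.Agent.DAlg.PCoh
import Groth.Agent.DAlg.Classes


set_option autoImplicit false
set_option linter.style.haveILetI false
universe u
open CategoryTheory CategoryTheory.Limits
attribute [local instance] HasDerivedCategory.standard
open DRing
open scoped TensorProduct

namespace Groth.Agent.S6972

/-- Let R be a local commutative ring with residue field κ such that the derived base change D(R) → D(κ)
exists, and let K be a pseudo-coherent object of D(R). Write d_i for the κ-dimension of H^i(K ⊗^L_R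
κ). Then every H^i(K ⊗^L_R κ) is finite dimensional and vanishes for i large; there is a bounded
above cochain complex P of finite free R-modules with rank P^i = d_i for all i which is isomorphic
to K in D(R); and any two such complexes are isomorphic as complexes of R-modules. -/
theorem result (R : Type u) [CommRing R] [IsLocalRing R]
    [DRing.HasLBaseChange (IsLocalRing.residue R)] (K : Dual.D R) (hK : DRing.IsPseudoCoherent' R K) :
    let κ := IsLocalRing.ResidueField R
    let Kκ := (DRing.LBaseChange (IsLocalRing.residue R)).obj K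
    let Minimal := fun P : DRing.Cx R => (∃ b : ℤ, DRing.VanishesAbove P b) ∧
      (∀ i : ℤ, Module.Free R (P.X i) ∧ Module.Finite R (P.X i) ∧
        Module.finrank R (P.X i) = Module.finrank κ (Dual.HD κ Kκ i)) ∧ Nonempty (DRing.toD P ≅ K)
    (∀ i : ℤ, Module.Finite κ (Dual.HD κ Kκ i)) ∧ (∃ b : ℤ, ∀ i : ℤ, b < i → Subsingleton (Dual.HD κ Kκ i)) ∧
      (∃ P : DRing.Cx R, Minimal P) ∧ ∀ P Q : DRing.Cx R, Minimal P → Minimal Q → Nonempty (P ≅ Q) := by
  intro κ Kκ Minimal
  let eκ : ∀ M : ModuleCat.{u} R, TensorProduct R (IsLocalRing.ResidueField R) M ≃ₗ[IsLocalRing.ResidueField R]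
      (ModuleCat.extendScalars (IsLocalRing.residue R)).obj M := fun M =>
    (FlatCxBase.extendEquiv (A := R) (IsLocalRing.ResidueField R) M).symm
  obtain ⟨Q, c, hQ, hQf, ⟨e⟩⟩ := id hK
  have hQflat : DRing.TermwiseFlat Q := fun i => haveI := (hQf i).2; inferInstance
  obtain ⟨eQ⟩ := DAlg.nonempty_lBaseChangeFlatIso (IsLocalRing.residue R) Q hQ hQflat
  let X := ((ModuleCat.extendScalars (IsLocalRing.residue R)).mapHomologicalComplex (ComplexShape.up ℤ)).obj Q
  let eX : DRing.toD X ≅ Kκ := eQ.symm ≪≫ (DRing.LBaseChange (IsLocalRing.residue R)).mapIso e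
  have hXb : DRing.VanishesAbove X c := fun i hi => (ModuleCat.extendScalars _).map_isZero (hQ i hi)
  have hXfin : ∀ i, Module.Finite κ (X.X i) := fun i =>
    haveI := (hQf i).1
    Module.Finite.equiv (eκ (Q.X i))
  have hpc : DRing.IsPseudoCoherent' κ Kκ := ⟨X, c, hXb, fun i => ⟨hXfin i, inferInstance⟩, ⟨eX⟩⟩
  have hfin : ∀ i, Module.Finite κ (Dual.HD κ Kκ i) := fun i =>
    DAlg.finite_HD_of_isPseudoCoherent (DAlg.isPseudoCoherent'_iff_forall.1 hpc i) le_rfl
  have hvan : ∀ i, c < i → Subsingleton (Dual.HD κ Kκ i) := fun i hi => DAlg.subsingleton_HD_of_iso eX (hXb i hi)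
  let eH : ∀ i, X.homology i ≃ₗ[κ] Dual.HD κ Kκ i := fun i => (DAlg.HDEquiv X i).symm.trans (DAlg.HDCongr eX i)
  let S := IsLocalRing.maximalIdeal R
  haveI : DRing.HasLBaseChange (Ideal.Quotient.mk S) := ‹DRing.HasLBaseChange (IsLocalRing.residue R)›
  have hG := DAlg.LiftCx.good_finProj (R := R) (I := S) (IsLocalRing.maximalIdeal_le_jacobson ⊥)
  refine ⟨hfin, ⟨c, hvan⟩, ?_, ?_⟩
  · -- the zero-differential representative over the residue field
    let E : DRing.Cx κ := CochainComplex.of (fun i => X.homology i) (fun _ => 0) (fun _ => by simp)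
    have hE0 : ∀ i j, E.d i j = 0 := fun i j => by
      by_cases h : i + 1 = j
      · subst h; exact CochainComplex.of_d (fun i => X.homology i) (fun _ => 0) i
      · exact CochainComplex.of_d_ne (fun i => X.homology i) (fun _ => 0) h
    have hs : ∀ i, ∃ s : X.homology i ⟶ X.cycles i, s ≫ X.homologyπ i = 𝟙 _ := fun i => by
      haveI : Projective (X.homology i) :=
        (IsProjective.iff_projective (R := IsLocalRing.ResidueField R) (X.homology i)).1 Module.Projective.of_free
      exact ⟨Projective.factorThru (𝟙 _) (X.homologyπ i), Projective.factorThru_comp _ _⟩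
    choose s hs using hs
    let φ : E ⟶ X :=
      { f := fun i => s i ≫ X.iCycles i
        comm' := fun i j _ => by
          rw [hE0, zero_comp, Category.assoc, X.iCycles_d, comp_zero] }
    haveI : QuasiIso φ := ⟨fun i => by
      rw [quasiIsoAt_iff_isIso_homologyMap]
      haveI : IsIso (E.iCycles i) := E.isIso_iCycles i (i + 1) (by simp) (hE0 _ _)
      haveI : IsIso (E.homologyπ i) := E.isIso_homologyπ (i - 1) i (by simp) (hE0 _ _)
      have hc : HomologicalComplex.cyclesMap φ i = E.iCycles i ≫ s i := by
        rw [← cancel_mono (X.iCycles i), HomologicalComplex.cyclesMap_i, Category.assoc]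
      have : E.homologyπ i ≫ HomologicalComplex.homologyMap φ i = E.iCycles i := by
        rw [HomologicalComplex.homologyπ_naturality, hc, Category.assoc, hs]
        exact Category.comp_id _
      haveI : IsIso (E.homologyπ i ≫ HomologicalComplex.homologyMap φ i) := by rw [this]; infer_instance
      exact IsIso.of_isIso_comp_left (E.homologyπ i) _⟩
    have hEfin : ∀ i, Module.Finite κ (E.X i) := fun i =>
      haveI := hfin i
      (Module.Finite.equiv (eH i).symm : Module.Finite κ (X.homology i))
    have hEb : DRing.VanishesAbove E c := fun i hi =>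
      haveI := hvan i hi
      @ModuleCat.isZero_of_subsingleton _ _ _ (eH i).toEquiv.subsingleton
    obtain ⟨P, b', hPb, hP, hPK, ⟨ered⟩⟩ := DAlg.LiftCx.exists_lift_rep (I := S) hG (fun {X} hX => hX.2)
      (fun {X Y} => DAlg.LiftCx.sum_finProj) Q c hQ (fun i => haveI := (hQf i).2; ⟨(hQf i).1, inferInstance⟩) e E c hEb
      (fun i => by
        haveI := hEfin i
        refine ⟨ModuleCat.of R (Fin (Module.finrank κ (E.X i)) → R),
          ⟨inferInstanceAs (Module.Finite R (Fin _ → R)), inferInstanceAs (Module.Projective R (Fin _ → R))⟩, ⟨?_⟩⟩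
        exact ((eκ _).symm.trans ((TensorProduct.piScalarRight R (IsLocalRing.ResidueField R) (IsLocalRing.ResidueField R) _).trans
          (Module.finBasis κ (E.X i)).equivFun.symm)).toModuleIso)
      (@asIso _ _ _ _ (DerivedCategory.Q.map φ) ((DerivedCategory.isIso_Q_map_iff_quasiIso (φ := φ)).2 inferInstance) ≪≫ eX)
    refine ⟨P, ⟨b', hPb⟩, fun i => ?_, hPK⟩
    haveI := (hP i).1
    haveI := (hP i).2
    haveI : Module.Free R (P.X i) := Module.free_of_flat_of_isLocalRing
    refine ⟨inferInstance, inferInstance, ?_⟩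
    rw [← Module.finrank_baseChange (R := κ) (S := R) (M' := P.X i)]
    let er : (ModuleCat.extendScalars (IsLocalRing.residue R)).obj (P.X i) ≅ E.X i :=
      (HomologicalComplex.eval _ _ i).mapIso ered
    exact LinearEquiv.finrank_eq ((eκ (P.X i)).trans (er.toLinearEquiv.trans (eH i)))
  · rintro P₁ P₂ ⟨⟨b₁, hb₁⟩, hf₁, ⟨e₁⟩⟩ ⟨⟨b₂, hb₂⟩, hf₂, ⟨e₂⟩⟩
    have hproj : ∀ i, Module.Projective R (P₁.X i) := fun i => haveI := (hf₁ i).1; inferInstance
    obtain ⟨g, hg⟩ := DAlg.exists_map_of_projective hb₁ hproj (e₁ ≪≫ e₂.symm).hom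
    haveI : QuasiIso g := by rw [← DerivedCategory.isIso_Q_map_iff_quasiIso, hg]; infer_instance
    have hmin : ∀ (P : DRing.Cx R) (b : ℤ), DRing.VanishesAbove P b → (∀ i : ℤ, Module.Free R (P.X i) ∧
        Module.Finite R (P.X i) ∧ Module.finrank R (P.X i) = Module.finrank κ (Dual.HD κ Kκ i)) →
        (DRing.toD P ≅ K) → ∀ i,
          IsIso ((((ModuleCat.extendScalars (IsLocalRing.residue R)).mapHomologicalComplex _).obj P).iCycles i) ∧
            IsIso ((((ModuleCat.extendScalars (IsLocalRing.residue R)).mapHomologicalComplex _).obj P).homologyπ i) := by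
      intro P b hb hf eP i
      obtain ⟨eP'⟩ := DAlg.nonempty_lBaseChangeFlatIso (IsLocalRing.residue R) P hb
        (fun j => haveI := (hf j).1; inferInstance)
      let Y : DRing.Cx κ := ((ModuleCat.extendScalars (IsLocalRing.residue R)).mapHomologicalComplex (ComplexShape.up ℤ)).obj P
      haveI := (hf i).1
      haveI := (hf i).2.1
      haveI : Module.Finite κ (Y.X i) := Module.Finite.equiv (eκ (P.X i))
      have hdim : Module.finrank κ (Y.homology i) = Module.finrank κ (Y.X i) := by
        rw [((DAlg.HDEquiv Y i).symm.trans (DAlg.HDCongr (eP'.symm ≪≫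
          (DRing.LBaseChange (IsLocalRing.residue R)).mapIso eP) i)).finrank_eq]
        refine Eq.trans ?_ (LinearEquiv.finrank_eq (eκ (P.X i)))
        rw [Module.finrank_baseChange]
        exact (hf i).2.2.symm
      have hmono := (ModuleCat.mono_iff_injective (Y.iCycles i)).1 inferInstance
      have hepi := (ModuleCat.epi_iff_surjective (Y.homologyπ i)).1 inferInstance
      haveI : Module.Finite κ (Y.cycles i) := Module.Finite.of_injective (Y.iCycles i).hom hmono
      have h1 : Module.finrank κ (Y.cycles i) ≤ Module.finrank κ (Y.X i) :=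
        LinearMap.finrank_le_finrank_of_injective (f := (Y.iCycles i).hom) hmono
      have h2 : Module.finrank κ (Y.homology i) ≤ Module.finrank κ (Y.cycles i) :=
        LinearMap.finrank_le_finrank_of_surjective (f := (Y.homologyπ i).hom) hepi
      haveI : Module.Finite κ (Y.homology i) := Module.Finite.of_surjective (Y.homologyπ i).hom hepi
      have he : Module.finrank κ (Y.cycles i) = Module.finrank κ (Y.X i) := le_antisymm h1 (hdim.symm.le.trans h2)
      exact ⟨(ConcreteCategory.isIso_iff_bijective _).2 ⟨hmono,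
          (LinearMap.injective_iff_surjective_of_finrank_eq_finrank he).1 hmono⟩,
        (ConcreteCategory.isIso_iff_bijective _).2
          ⟨(LinearMap.injective_iff_surjective_of_finrank_eq_finrank (he.trans hdim.symm)).2 hepi, hepi⟩⟩
    let gb := ((ModuleCat.extendScalars (IsLocalRing.residue R)).mapHomologicalComplex (ComplexShape.up ℤ)).map g
    haveI : QuasiIso gb := DAlg.quasiIso_extCx (IsLocalRing.residue R) (b := max b₁ b₂)
      (fun i hi => hb₁ i (lt_of_le_of_lt (le_max_left _ _) hi)) (fun i hi => hb₂ i (lt_of_le_of_lt (le_max_right _ _) hi))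
      (fun i => haveI := (hf₁ i).1; inferInstance) (fun i => haveI := (hf₂ i).1; inferInstance) g
    have hgi : ∀ i, IsIso (g.f i) := fun i => by
      obtain ⟨h1, h2⟩ := hmin P₁ b₁ hb₁ hf₁ e₁ i
      obtain ⟨h3, h4⟩ := hmin P₂ b₂ hb₂ hf₂ e₂ i
      haveI : IsIso (HomologicalComplex.homologyMap gb i) :=
        (quasiIsoAt_iff_isIso_homologyMap gb i).1 inferInstance
      have hcy : IsIso (HomologicalComplex.cyclesMap gb i) := by
        have := HomologicalComplex.homologyπ_naturality gb i
        haveI : IsIso (HomologicalComplex.cyclesMap gb i ≫ (((ModuleCat.extendScalars (IsLocalRing.residue R)).mapHomologicalComplex _).obj P₂).homologyπ i) := by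
          rw [← this]; infer_instance
        exact IsIso.of_isIso_comp_right _ ((((ModuleCat.extendScalars (IsLocalRing.residue R)).mapHomologicalComplex _).obj P₂).homologyπ i)
      have hgb : IsIso (gb.f i) := by
        have := HomologicalComplex.cyclesMap_i gb i
        haveI : IsIso ((((ModuleCat.extendScalars (IsLocalRing.residue R)).mapHomologicalComplex _).obj P₁).iCycles i ≫ gb.f i) := by
          rw [← this]; infer_instance
        exact IsIso.of_isIso_comp_left ((((ModuleCat.extendScalars (IsLocalRing.residue R)).mapHomologicalComplex _).obj P₁).iCycles i) _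
      haveI := (hf₁ i).1
      haveI := (hf₂ i).1
      have hp₁ : DAlg.LiftCx.finProjClass (P₁.X i) := ⟨(hf₁ i).2.1, inferInstance⟩
      have hp₂ : DAlg.LiftCx.finProjClass (P₂.X i) := ⟨(hf₂ i).2.1, inferInstance⟩
      haveI : Epi (g.f i) := hG.refl _ hp₁ hp₂ (inferInstanceAs (Epi (gb.f i)))
      haveI := DAlg.LiftCx.isSplitMono_of_map hG hp₁ hp₂ (g.f i) (@inv _ _ _ _ (gb.f i) hgb) (@IsIso.hom_inv_id _ _ _ _ (gb.f i) hgb)
      exact isIso_of_mono_of_epi (g.f i)
    haveI := hgi
    haveI : IsIso g := HomologicalComplex.Hom.isIso_of_components g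
    exact ⟨asIso g⟩

end Groth.Agent.S6972
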