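import Groth.Statements.S6974
import Groth.Agent.DAlg.Fibre


set_option autoImplicit false
universe u
open CategoryTheory CategoryTheory.Limits
attribute [local instance] HasDerivedCategory.standard
open DRing

namespace Groth.Agent.S6974

/-- Let R be a commutative ring such that the derived base change D(R) → D(R/m) exists for every ideal
m, let K be a pseudo-coherent object of D(R) and a, b integers. If for every maximal ideal m of R
the cohomology H^i(K ⊗^L_R R/m) vanishes for all i outside [a, b], then K is perfect and has tor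
amplitude in [a, b]. -/
theorem result (R : Type u) [CommRing R]
    [∀ m : Ideal R, DRing.HasLBaseChange (Ideal.Quotient.mk m)] (K : Dual.D R)
    (hK : DRing.IsPseudoCoherent' R K) (a b : ℤ)
    (h : ∀ (m : Ideal R), m.IsMaximal → ∀ i : ℤ, (i < a ∨ b < i) →
      Subsingleton (Dual.HD (R ⧸ m) ((DRing.LBaseChange (Ideal.Quotient.mk m)).obj K) i)) :
    DRing.IsPerfect R K ∧ DRing.HasTorAmplitudeIn R a b K := by
  obtain ⟨F, B, hB, hF, ⟨e⟩⟩ := id hK
  have hFP : DRing.TermwiseFiniteProjective F := fun i => ⟨(hF i).1, have := (hF i).2; inferInstance⟩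
  have hproj : ∀ i, Module.Projective R (F.X i) := fun i => (hFP i).2
  have hamp : DRing.HasTorAmplitudeIn R a b K := by
    refine DAlg.torAmp_of_forall_tensor F hB (fun i => have := hproj i; inferInstance) e fun M j hj => ?_
    refine DAlg.isZero_tensor_of_forall_maximal F hFP j (fun m hm => ?_) M
    let _ := Ideal.Quotient.field m
    obtain ⟨r, hr⟩ := DAlg.exists_retraction_mod (S := R ⧸ m) F (i := j - 1) Ideal.Quotient.mk_surjective
      (by omega) (rfl : j + 1 = j + 1)
      ((DAlg.subsingleton_HD_extCx_iff F (Ideal.Quotient.mk m) hB hproj e j).1 (h m hm j hj))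
    refine ⟨r, fun x => Submodule.smul_mono_left ?_ (hr x)⟩
    rw [show algebraMap R (R ⧸ m) = Ideal.Quotient.mk m from rfl, Ideal.mk_ker]
  exact ⟨DAlg.isPerfect_iff.2 ⟨hK, a, b, hamp⟩, hamp⟩

end Groth.Agent.S6974
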