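import Groth.Statements.S6975
import Groth.Agent.DAlg.Fibre


set_option autoImplicit false
universe u
open CategoryTheory CategoryTheory.Limits
attribute [local instance] HasDerivedCategory.standard
open DRing

namespace Groth.Agent.S6975

/-- Let R be a local commutative ring with residue field κ such that the derived base change D(R) → D(κ)
exists, and let K be a pseudo-coherent object of D(R). If there is an integer a with H^i(K ⊗^L_R κ)
= 0 for all i < a, then K is perfect. -/
theorem result (R : Type u) [CommRing R] [IsLocalRing R]
    [DRing.HasLBaseChange (IsLocalRing.residue R)] (K : Dual.D R) (hK : DRing.IsPseudoCoherent' R K) (a : ℤ)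
    (h : ∀ i : ℤ, i < a → Subsingleton (Dual.HD (IsLocalRing.ResidueField R)
      ((DRing.LBaseChange (IsLocalRing.residue R)).obj K) i)) :
    DRing.IsPerfect R K := by
  obtain ⟨F, B, hB, hF, ⟨e⟩⟩ := id hK
  have hFP : DRing.TermwiseFiniteProjective F := fun i => ⟨(hF i).1, have := (hF i).2; inferInstance⟩
  have hproj : ∀ i, Module.Projective R (F.X i) := fun i => (hFP i).2
  refine DAlg.isPerfect_iff.2 ⟨hK, a, B, ?_⟩
  refine DAlg.torAmp_of_forall_tensor F hB (fun i => have := hproj i; inferInstance) e fun M j hj => ?_
  refine DAlg.isZero_tensor_of_forall_maximal F hFP j (fun m hm => ?_) M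
  obtain ⟨r, hr⟩ := DAlg.exists_retraction_mod (S := IsLocalRing.ResidueField R) F (i := j - 1)
    IsLocalRing.residue_surjective (by omega) (rfl : j + 1 = j + 1) (hj.elim
      (fun hj => (DAlg.subsingleton_HD_extCx_iff F (IsLocalRing.residue R) hB hproj e j).1 (h j hj))
      (fun hj => DAlg.isZero_homology_of_isZero_X ((ModuleCat.extendScalars _).map_isZero (hB j hj))))
  refine ⟨r, fun x => Submodule.smul_mono_left ?_ (hr x)⟩
  rw [show algebraMap R (IsLocalRing.ResidueField R) = IsLocalRing.residue R from rfl,
    IsLocalRing.ker_residue, IsLocalRing.eq_maximalIdeal hm]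

end Groth.Agent.S6975
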