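import Groth.Statements.S6976
import Groth.Agent.DAlg.TorAmp


set_option autoImplicit false
universe u
open CategoryTheory CategoryTheory.Limits
attribute [local instance] HasDerivedCategory.standard
open DRing

namespace Groth.Agent.S6976

/-- Let R be a commutative ring, K a pseudo-coherent object of D(R) and a, b integers. Then K is
isomorphic in D(R) to a complex of projective R-modules vanishing outside [a, b] if and only if K is
perfect with tor amplitude in [a, b]. -/
theorem result (R : Type u) [CommRing R]
    (K : Dual.D R) (hK : DRing.IsPseudoCoherent' R K) (a b : ℤ) :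
    (∃ P : DRing.Cx R, DRing.VanishesOutside P a b ∧ (∀ i : ℤ, Module.Projective R (P.X i)) ∧
        Nonempty (DRing.toD P ≅ K)) ↔ DRing.IsPerfect R K ∧ DRing.HasTorAmplitudeIn R a b K := by
  constructor
  · rintro ⟨P, hP, hproj, e⟩
    have h : DRing.HasTorAmplitudeIn R a b K := ⟨P, hP, fun i => haveI := hproj i; inferInstance, e⟩
    exact ⟨DAlg.isPerfect_iff.2 ⟨hK, a, b, h⟩, h⟩
  · rintro ⟨-, h⟩
    obtain ⟨E, hE, hP, e⟩ := DAlg.exists_finProj_rep hK h
    exact ⟨E, hE, fun i => (hP i).2, e⟩

end Groth.Agent.S6976
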