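import Groth.Statements.S6977
import Groth.Agent.DerivedCoh.RelAmp.FibreDim

set_option autoImplicit false
set_option linter.style.haveILetI false
universe u
open CategoryTheory CategoryTheory.Limits
attribute [local instance] HasDerivedCategory.standard
open DRing

namespace Groth.Agent.S6977

/-- Let A → B be a flat local homomorphism of local commutative rings such that B/m_A B is a regular
local ring of dimension d, and assume the derived base change D(A) → D(κ_A) to the residue field of
A exists. Let a, b be integers and K a pseudo-coherent object of D(B) such that H^i((K regarded in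
D(A)) ⊗^L_A κ_A) = 0 for every i outside [a, b]. Then K is perfect as an object of D(B) and has tor
amplitude in [a - d, b] over B. -/
theorem result {A B : Type u} [CommRing A] [CommRing B] [IsLocalRing A]
    [IsLocalRing B] [Algebra A B] [IsLocalHom (algebraMap A B)] [Module.Flat A B] (d : ℕ)
    [IsRegularLocalRing (B ⧸ (IsLocalRing.maximalIdeal A).map (algebraMap A B))]
    (hd : ringKrullDim (B ⧸ (IsLocalRing.maximalIdeal A).map (algebraMap A B)) = d)
    [DRing.HasLBaseChange (IsLocalRing.residue A)] (a b : ℤ) (K : Dual.D B) (hK : DRing.IsPseudoCoherent' B K)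
    (h : ∀ i : ℤ, (i < a ∨ b < i) → Subsingleton (Dual.HD (IsLocalRing.ResidueField A)
      ((DRing.LBaseChange (IsLocalRing.residue A)).obj ((DRing.restrictD (algebraMap A B)).obj K)) i)) :
    DRing.IsPerfect B K ∧ DRing.HasTorAmplitudeIn B (a - d) b K := by
  open Groth.DAlg Groth.DerivedCoh.RelAmp in
  obtain ⟨F, N, hN, hFF, ⟨e⟩⟩ := id hK
  have hF : DRing.TermwiseFiniteProjective F := fun i => ⟨(hFF i).1, haveI := (hFF i).2; inferInstance⟩
  have hfl : DRing.TermwiseFlat F := fun i => haveI := (hFF i).2; inferInstance
  suffices hamp : DRing.HasTorAmplitudeIn B (a - d) b K from ⟨isPerfect_iff.2 ⟨hK, a - d, b, hamp⟩, hamp⟩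
  let κ := IsLocalRing.ResidueField A
  letI := Algebra.TensorProduct.rightAlgebra (R := A) (A := κ) (B := B)
  let eq : (B ⧸ (IsLocalRing.maximalIdeal A).map (algebraMap A B)) ≃+* TensorProduct A κ B :=
    (Algebra.TensorProduct.quotIdealMapEquivTensorQuot B (IsLocalRing.maximalIdeal A)).toRingEquiv.trans
      (Algebra.TensorProduct.comm A B (A ⧸ IsLocalRing.maximalIdeal A)).toRingEquiv
  haveI : IsRegularLocalRing (TensorProduct A κ B) := IsRegularLocalRing.of_ringEquiv eq
  have hdS : ringKrullDim (TensorProduct A κ B) = d := (ringKrullDim_eq_of_ringEquiv eq).symm.trans hd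
  haveI : Algebra.IsPushout A κ B (TensorProduct A κ B) := inferInstance
  let X := (DRing.restrictCx (algebraMap A B)).obj F
  obtain ⟨e₁⟩ := nonempty_lBaseChangeFlatIso (IsLocalRing.residue A) X (b := N)
    (fun i hi => (ModuleCat.restrictScalars _).map_isZero (hN i hi)) (termwiseFlat_restrictCx hfl)
  let eX : (DRing.LBaseChange (IsLocalRing.residue A)).obj ((DRing.restrictD (algebraMap A B)).obj K) ≅
      DRing.toD (extCx (algebraMap A κ) X) :=
    (DRing.LBaseChange (IsLocalRing.residue A)).mapIso ((DRing.restrictD (algebraMap A B)).mapIso e.symm ≪≫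
      resQIso _ F) ≪≫ e₁
  refine TorAmp.of_iso (torAmp_of_fibreRings F hN hF d a b fun m hm => ?_) e
  obtain rfl := IsLocalRing.eq_maximalIdeal hm
  have hle : (IsLocalRing.maximalIdeal A).map (algebraMap A B) ≤ IsLocalRing.maximalIdeal B :=
    ((IsLocalRing.local_hom_TFAE (algebraMap A B)).out 0 2 rfl rfl).1 inferInstance
  let φ : TensorProduct A κ B →+* B ⧸ IsLocalRing.maximalIdeal B :=
    (Ideal.Quotient.factor hle).comp eq.symm.toRingHom
  refine ⟨_, inferInstance, inferInstance, φ, ?_, torAmp_mD_of_regular _ hdS, fun i hi => ?_⟩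
  · refine RingHom.ext fun r => ?_
    have hr : eq (Ideal.Quotient.mk _ r) = algebraMap B (TensorProduct A κ B) r := by
      simp [eq, Algebra.TensorProduct.right_algebraMap_apply]
      rfl
    show Ideal.Quotient.factor hle (eq.symm (algebraMap B (TensorProduct A κ B) r)) = _
    rw [← hr, RingEquiv.symm_apply_apply, Ideal.Quotient.factor_mk]
  · refine isZero_extCx_of_res (A := A) (A₀ := κ) F ?_
    haveI := h i hi
    exact ModuleCat.isZero_iff_subsingleton.2
      (((DerivedCategory.homologyFunctor _ i).mapIso eX ≪≫
        (DerivedCategory.homologyFunctorFactors _ i).app _).toLinearEquiv.toEquiv.symm.subsingleton)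

end Groth.Agent.S6977
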