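import Groth.Statements.S6980
import Groth.Agent.DAlg.NilpotentPair
import Groth.Agent.DAlg.LeftDerived


set_option autoImplicit false
universe u
open CategoryTheory CategoryTheory.Limits
attribute [local instance] HasDerivedCategory.standard
open DRing

namespace Groth.Agent.S6980

/-- Let R be a commutative ring, I and J ideals of R such that the derived base changes D(R) → D(R/I),
D(R/J), D(R/IJ) exist, and K an object of D(R). If K ⊗^L_R R/I is perfect in D(R/I) and K ⊗^L_R R/J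
is perfect in D(R/J), then K ⊗^L_R R/IJ is perfect in D(R/IJ). -/
theorem result (R : Type u) [CommRing R] (I J : Ideal R)
    [DRing.HasLBaseChange (Ideal.Quotient.mk I)] [DRing.HasLBaseChange (Ideal.Quotient.mk J)]
    [DRing.HasLBaseChange (Ideal.Quotient.mk (I * J))] (K : Dual.D R)
    (hI : DRing.IsPerfect (R ⧸ I) ((DRing.LBaseChange (Ideal.Quotient.mk I)).obj K))
    (hJ : DRing.IsPerfect (R ⧸ J) ((DRing.LBaseChange (Ideal.Quotient.mk J)).obj K)) :
    DRing.IsPerfect (R ⧸ (I * J)) ((DRing.LBaseChange (Ideal.Quotient.mk (I * J))).obj K) := by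
  let fI : R ⧸ (I * J) →+* R ⧸ I := Ideal.Quotient.factor (Ideal.mul_le_left : I * J ≤ I)
  let fJ : R ⧸ (I * J) →+* R ⧸ J := Ideal.Quotient.factor (Ideal.mul_le_right : I * J ≤ J)
  letI := fI.toAlgebra
  letI := fJ.toAlgebra
  haveI : DRing.HasLBaseChange (algebraMap (R ⧸ (I * J)) (R ⧸ I)) := DAlg.hasLBaseChange _
  haveI : DRing.HasLBaseChange (algebraMap (R ⧸ (I * J)) (R ⧸ J)) := DAlg.hasLBaseChange _
  haveI : DRing.HasLBaseChange ((algebraMap (R ⧸ (I * J)) (R ⧸ I)).comp (Ideal.Quotient.mk (I * J))) :=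
    DAlg.hasLBaseChange _
  haveI : DRing.HasLBaseChange ((algebraMap (R ⧸ (I * J)) (R ⧸ J)).comp (Ideal.Quotient.mk (I * J))) :=
    DAlg.hasLBaseChange _
  obtain ⟨eI⟩ := DAlg.nonempty_lBaseChange_comp (Ideal.Quotient.mk (I * J)) (algebraMap (R ⧸ (I * J)) (R ⧸ I)) K
  obtain ⟨eJ⟩ := DAlg.nonempty_lBaseChange_comp (Ideal.Quotient.mk (I * J)) (algebraMap (R ⧸ (I * J)) (R ⧸ J)) K
  have hker : ∀ (A : Ideal R) (h : I * J ≤ A),
      RingHom.ker (Ideal.Quotient.factor h) = A.map (Ideal.Quotient.mk (I * J)) := fun A h => by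
    rw [Ideal.Quotient.factor_ker]
  refine DAlg.isPerfect_of_pair (S := R ⧸ I) (S' := R ⧸ J) ?_ ?_ ?_ _ ?_ ?_
  · exact Ideal.Quotient.factor_surjective _
  · exact Ideal.Quotient.factor_surjective _
  · show RingHom.ker fI * RingHom.ker fJ = ⊥
    rw [hker, hker, ← Ideal.map_mul, Ideal.map_quotient_self]
  · obtain ⟨E, a, b, h1, h2, ⟨e⟩⟩ := hI
    refine ⟨E, a, b, h1, h2, ⟨e ≪≫ eqToIso ?_ ≪≫ eI.symm⟩⟩
    congr 2
  · obtain ⟨E, a, b, h1, h2, ⟨e⟩⟩ := hJ
    refine ⟨E, a, b, h1, h2, ⟨e ≪≫ eqToIso ?_ ≪≫ eJ.symm⟩⟩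
    congr 2

end Groth.Agent.S6980
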