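import Groth.Statements.S6981
import Groth.Agent.DAlg.PCRestrict


set_option autoImplicit false
universe u
open CategoryTheory CategoryTheory.Limits
attribute [local instance] HasDerivedCategory.standard
open DRing

namespace Groth.Agent.S6981

/-- Let R be a commutative ring, K an object of D(R), m an integer, and R[x] → R the R-algebra
homomorphism sending x to 0. Then K is m-pseudo-coherent over R if and only if K, regarded as an
object of D(R[x]) by restriction of scalars along this map, is m-pseudo-coherent over R[x]. -/
theorem result (R : Type u) [CommRing R] (K : Dual.D R)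
    (m : ℤ) :
    DRing.IsPseudoCoherent R m K ↔
      DRing.IsPseudoCoherent (Polynomial R) m ((DRing.restrictD (Polynomial.evalRingHom (0 : R))).obj K) := by
  have h : DAlg.PCMap (Polynomial.evalRingHom (0 : R)) :=
    DAlg.PCMap.of_regular (fun r => ⟨Polynomial.C r, by simp⟩) Polynomial.X
      (Polynomial.monic_X.isRegular.left) (by
        ext p
        rw [RingHom.mem_ker, Ideal.mem_span_singleton, Polynomial.X_dvd_iff, Polynomial.coe_evalRingHom,
          Polynomial.coeff_zero_eq_eval_zero])
  exact DAlg.isPseudoCoherent_iff.trans (h.iff.symm.trans DAlg.isPseudoCoherent_iff.symm)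

end Groth.Agent.S6981
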