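import Groth.Statements.S6985
import Groth.Agent.DAlg.RelPCMap


set_option autoImplicit false
universe u
open CategoryTheory CategoryTheory.Limits
attribute [local instance] HasDerivedCategory.standard
open DerCA

namespace Groth.Agent.S6985

/-- Let R be a commutative ring and A → B a homomorphism of finite type R-algebras such that A, as an
A-module, is pseudo-coherent relative to R. Let K be an object of D(B) and m an integer. Then K is
m-pseudo-coherent relative to A if and only if K is m-pseudo-coherent relative to R; and K is
pseudo-coherent relative to A if and only if it is pseudo-coherent relative to R. -/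
theorem result {R A B : Type u} [CommRing R] [CommRing A]
    [CommRing B] [Algebra R A] [Algebra A B] [Algebra R B] [IsScalarTower R A B] [Algebra.FiniteType R A]
    [Algebra.FiniteType R B] [Algebra.FiniteType A B] (hA : DerCA.IsRelPseudoCoherentModuleAll R A A)
    (K : Dual.D B) (m : ℤ) :
    (DerCA.IsRelPseudoCoherent A B m K ↔ DerCA.IsRelPseudoCoherent R B m K) ∧
      (DerCA.IsRelPseudoCoherentAll A B K ↔ DerCA.IsRelPseudoCoherentAll R B K) := by
  exact ⟨DAlg.relPC_iff_of_intermediate hA K m, forall_congr' fun j => DAlg.relPC_iff_of_intermediate hA K j⟩

end Groth.Agent.S6985
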