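import Groth.Statements.S6987
import Groth.Agent.DAlg.RelPCLocal


set_option autoImplicit false
universe u
open CategoryTheory CategoryTheory.Limits
attribute [local instance] HasDerivedCategory.standard
open DerCA

namespace Groth.Agent.S6987

/-- Let R → A be a finite type homomorphism of commutative rings, K a cochain complex of A-modules, m an
integer and f_1, ..., f_r elements of A generating the unit ideal. Then relative m-pseudo-coherence
of K over R holds exactly when, for every i, the termwise localization K ⊗_A A_(f_i) is
m-pseudo-coherent relative to R over the finite type R-algebra A_(f_i). -/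
theorem result {R A : Type u} [CommRing R] [CommRing A] [Algebra R A]
    [Algebra.FiniteType R A] (K : DRing.Cx A) (m : ℤ) {r : ℕ} (f : Fin r → A)
    (hf : Ideal.span (Set.range f) = ⊤) :
    DerCA.IsRelPseudoCoherent R A m (DRing.toD K) ↔
      ∀ i, DerCA.IsRelPseudoCoherent R (Localization.Away (f i)) m
        (DRing.toD (((ModuleCat.extendScalars (algebraMap A (Localization.Away (f i)))).mapHomologicalComplex
          (ComplexShape.up ℤ)).obj K)) := by
  exact ⟨fun h i => DAlg.relPC_away (f i) K h, fun h => DAlg.relPC_of_span K m f hf h⟩

end Groth.Agent.S6987
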