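import Groth.Statements.S6988
import Groth.Agent.DAlg.PCoh

set_option autoImplicit false
universe u
open CategoryTheory CategoryTheory.Limits
attribute [local instance] HasDerivedCategory.standard
open DRing

namespace Groth.Agent.S6988

/-- Let R be a commutative ring, K a pseudo-coherent object of D(R) and i an integer. Then some finitely
presented R-module M admits a morphism K → M[-i] in D(R) that is injective on H^i (here H^i(M[-i]) =
M). -/
theorem result (R : Type u) [CommRing R] (K : Dual.D R)
    (hK : DRing.IsPseudoCoherent' R K) (i : ℤ) :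
    ∃ (M : Type u) (_ : AddCommGroup M) (_ : Module R M) (_ : Module.FinitePresentation R M)
      (f : K ⟶ (shiftFunctor (Dual.D R) (-i)).obj (Dual.inD R M)),
      Mono ((DerivedCategory.homologyFunctor (ModuleCat.{u} R) i).map f) := by
  obtain ⟨E, b, -, hF, ⟨e⟩⟩ := hK
  let N : ModuleCat.{u} R := E.opcycles i
  have hN : Module.FinitePresentation R N := by
    have := (hF i).1
    have := (hF i).2
    have := (hF (i - 1)).1
    have := Module.Projective.of_free (R := R) (P := E.X i)
    have := Module.finitePresentation_of_projective R (E.X i)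
    have hex : (ShortComplex.mk (E.d (i - 1) i) (E.pOpcycles i) (E.d_pOpcycles _ _)).Exact :=
      ShortComplex.exact_of_g_is_cokernel _ (E.opcyclesIsCokernel (i - 1) i (by simp))
    have hs : Function.Surjective (E.pOpcycles i).hom :=
      (ModuleCat.epi_iff_surjective (E.pOpcycles i)).1 inferInstance
    refine Module.finitePresentation_of_surjective (E.pOpcycles i).hom hs ?_
    rw [← (ShortComplex.moduleCat_exact_iff_range_eq_ker _).1 hex, LinearMap.range_eq_map]
    exact (Module.Finite.fg_top : (⊤ : Submodule R (E.X (i - 1))).FG).map _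
  let g : E ⟶ (HomologicalComplex.single (ModuleCat.{u} R) (ComplexShape.up ℤ) i).obj N :=
    HomologicalComplex.mkHomToSingle (E.pOpcycles i) (fun j _ => E.d_pOpcycles j i)
  have hg : HomologicalComplex.homologyMap g i ≫
      (HomologicalComplex.singleObjHomologySelfIso (ComplexShape.up ℤ) i N).hom = E.homologyι i := by
    rw [← cancel_epi (E.homologyπ i), HomologicalComplex.homologyπ_naturality_assoc,
      HomologicalComplex.homologyπ_singleObjHomologySelfIso_hom,
      HomologicalComplex.singleObjCyclesSelfIso_hom, HomologicalComplex.cyclesMap_i_assoc]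
    simp [g]
  have hmono : Mono (HomologicalComplex.homologyMap g i) := mono_of_mono_fac hg
  have hQ : Mono ((DerivedCategory.homologyFunctor (ModuleCat.{u} R) i).map (DerivedCategory.Q.map g)) :=
    (MorphismProperty.monomorphisms (ModuleCat.{u} R)).arrow_mk_iso_iff
      (Arrow.isoMk (f := Arrow.mk ((DerivedCategory.homologyFunctor (ModuleCat.{u} R) i).map
        (DerivedCategory.Q.map g))) (g := Arrow.mk (HomologicalComplex.homologyMap g i))
        ((DerivedCategory.homologyFunctorFactors _ i).app _) ((DerivedCategory.homologyFunctorFactors _ i).app _)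
        (DerivedCategory.homologyFunctorFactors_hom_naturality g i).symm) |>.2 hmono
  let t : DerivedCategory.Q.obj ((HomologicalComplex.single (ModuleCat.{u} R) (ComplexShape.up ℤ) i).obj N) ≅
      (shiftFunctor (Dual.D R) (-i)).obj (Dual.inD R N) :=
    ((DerivedCategory.singleFunctorIsoCompQ (ModuleCat.{u} R) i).app N).symm ≪≫
      (((DerivedCategory.singleFunctors (ModuleCat.{u} R)).shiftIso (-i) i 0 (by omega)).app N).symm
  refine ⟨N, inferInstance, inferInstance, hN, e.inv ≫ DerivedCategory.Q.map g ≫ t.hom, ?_⟩
  rw [Functor.map_comp, Functor.map_comp]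
  exact mono_comp _ _

end Groth.Agent.S6988
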