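import Groth.Statements.S6989
import Groth.Agent.S6988
import Groth.Agent.DAlg.PCoh
import Mathlib.RingTheory.Filtration

set_option autoImplicit false
universe u
open CategoryTheory CategoryTheory.Limits
attribute [local instance] HasDerivedCategory.standard
open DRing

namespace Groth.Agent.S6989

/-- Let A be a Noetherian commutative ring, K an object of D(A) whose cohomology vanishes in large
degrees and whose cohomology modules are all finitely generated, m a maximal ideal of A and i an
integer such that m H^i(K) ≠ H^i(K). Then some finitely generated A-module E killed by a power of m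
receives a morphism K → E[-i] in D(A) whose induced map H^i(K) → H^i(E[-i]) is nonzero. -/
theorem result (A : Type u) [CommRing A]
    [IsNoetherianRing A] (K : Dual.D A) (hb : ∃ b : ℤ, ∀ j : ℤ, b < j → Subsingleton (Dual.HD A K j))
    (hfin : ∀ j : ℤ, Module.Finite A (Dual.HD A K j)) (m : Ideal A) [m.IsMaximal] (i : ℤ)
    (hi : m • (⊤ : Submodule A (Dual.HD A K i)) ≠ ⊤) :
    ∃ (E : Type u) (_ : AddCommGroup E) (_ : Module A E) (_ : Module.Finite A E) (n : ℕ)
      (_ : m ^ n • (⊤ : Submodule A E) = ⊥) (f : K ⟶ (shiftFunctor (Dual.D A) (-i)).obj (Dual.inD A E)),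
      (DerivedCategory.homologyFunctor (ModuleCat.{u} A) i).map f ≠ 0 := by
  obtain ⟨b, hb⟩ := hb
  have hK : DRing.IsPseudoCoherent' A K := DAlg.isPseudoCoherent'_iff_forall.2 fun n =>
    DAlg.isPseudoCoherent_iff.2 (PCohPunctual.pcn_of_homology (DAlg.isAdditiveSub_finFree A)
      (DAlg.isQuasiStable_finFree A) (DAlg.isQuasiLiftable_finFree A) K b
      (fun j hj => ModuleCat.isZero_iff_subsingleton.2 (hb j hj))
      fun j _ => DAlg.isPC_single_of_finite A _ (hfin j) (n - j))
  obtain ⟨M, _, _, _, f, hf⟩ := S6988.result A K hK i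
  let Φ : DerivedCategory.singleFunctor (ModuleCat.{u} A) 0 ⋙ shiftFunctor (Dual.D A) (-i) ⋙
      DerivedCategory.homologyFunctor (ModuleCat.{u} A) i ≅ 𝟭 (ModuleCat.{u} A) :=
    (Functor.associator _ _ _).symm ≪≫
      Functor.isoWhiskerRight ((DerivedCategory.singleFunctors (ModuleCat.{u} A)).shiftIso (-i) i 0 (by omega)) _ ≪≫
      DerivedCategory.singleFunctorCompHomologyFunctorIso (ModuleCat.{u} A) i
  let ι : Dual.HD A K i →ₗ[A] M :=
    ((DerivedCategory.homologyFunctor (ModuleCat.{u} A) i).map f ≫ Φ.hom.app (ModuleCat.of A M)).hom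
  have hι : Function.Injective ι := (ModuleCat.mono_iff_injective _).1 (mono_comp _ _)
  obtain ⟨k, hk⟩ := Ideal.exists_pow_inf_eq_pow_smul m (LinearMap.range ι)
  let q : M →ₗ[A] M ⧸ (m ^ (k + 1) • (⊤ : Submodule A M)) := Submodule.mkQ _
  refine ⟨M ⧸ (m ^ (k + 1) • (⊤ : Submodule A M)), inferInstance, inferInstance, inferInstance, k + 1, ?_,
    f ≫ (shiftFunctor (Dual.D A) (-i)).map
      ((DerivedCategory.singleFunctor (ModuleCat.{u} A) 0).map (ModuleCat.ofHom q)), fun h0 => hi ?_⟩
  · rw [eq_bot_iff, Submodule.smul_le]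
    intro r hr x _
    obtain ⟨y, rfl⟩ := Submodule.mkQ_surjective _ x
    rw [Submodule.mem_bot, ← map_smul, ← LinearMap.mem_ker, Submodule.ker_mkQ]
    exact Submodule.smul_mem_smul hr trivial
  · have hnat := Φ.hom.naturality (ModuleCat.ofHom q)
    simp only [Functor.comp_map, Functor.id_map] at hnat
    rw [Functor.map_comp] at h0
    have hz : ((DerivedCategory.homologyFunctor (ModuleCat.{u} A) i).map f ≫ Φ.hom.app (ModuleCat.of A M)) ≫
        ModuleCat.ofHom q = 0 := by
      rw [Category.assoc, ← hnat, ← Category.assoc]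
      erw [h0]
      rw [zero_comp]
    have hz' : q ∘ₗ ι = 0 := congrArg ModuleCat.Hom.hom hz
    have hle : LinearMap.range ι ≤ m ^ (k + 1) • (⊤ : Submodule A M) := by
      rintro _ ⟨x, rfl⟩
      exact (Submodule.Quotient.mk_eq_zero _).1 (LinearMap.congr_fun hz' x)
    have hle' : LinearMap.range ι ≤ m • LinearMap.range ι := by
      have h1 : LinearMap.range ι ≤ m ^ (k + 1) • (⊤ : Submodule A M) ⊓ LinearMap.range ι := le_inf hle le_rfl
      rw [hk (k + 1) (by omega), Nat.add_sub_cancel_left, pow_one] at h1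
      exact h1.trans (Submodule.smul_mono le_rfl inf_le_right)
    refine eq_top_iff.2 fun x _ => ?_
    have hx := hle' ⟨x, rfl⟩
    rw [LinearMap.range_eq_map, ← Submodule.map_smul''] at hx
    obtain ⟨y, hy, hyx⟩ := hx
    rwa [← hι hyx]

end Groth.Agent.S6989
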