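import Groth.Statements.S6991
import Mathlib
-- import your own Groth.Agent.* helpers here

set_option autoImplicit false
universe u
open CAlg

namespace Groth.Agent.S6991

open TensorProduct in
/-- Finite presentation passes to a quotient ring acting on the module. -/
theorem fp_of_surjective {P B : Type*} [CommRing P] [CommRing B] [Algebra P B] (M : Type*) [AddCommGroup M]
    [Module B M] [Module P M] [IsScalarTower P B M] (hs : Function.Surjective (algebraMap P B))
    [Module.FinitePresentation P M] : Module.FinitePresentation B M := by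
  let φ : B ⊗[P] M →ₗ[B] M := LinearMap.liftBaseChange B (LinearMap.id : M →ₗ[P] M)
  have hone : ∀ b : B, ∀ m : M, b ⊗ₜ[P] m = (1 : B) ⊗ₜ[P] (b • m) := fun b m => by
    obtain ⟨a, rfl⟩ := hs b
    rw [algebraMap_smul, Algebra.algebraMap_eq_smul_one, TensorProduct.smul_tmul]
  have hrep : ∀ x : B ⊗[P] M, x = (1 : B) ⊗ₜ[P] φ x := fun x => by
    induction x with
    | zero => simp
    | tmul b m => simpa [φ] using hone b m
    | add x y hx hy => rw [map_add, TensorProduct.tmul_add, ← hx, ← hy]
  have hφ : Function.Bijective φ := ⟨fun x y hxy => by rw [hrep x, hrep y, hxy], fun m => ⟨(1 : B) ⊗ₜ[P] m, by simp [φ]⟩⟩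
  exact Module.FinitePresentation.of_equiv (LinearEquiv.ofBijective φ hφ)

/-- Finite presentation along surjections of rings with finitely generated kernel. -/
theorem fp_iff {P Q A : Type*} [CommRing P] [CommRing Q] [CommRing A] (M : Type*) [AddCommGroup M]
    [Module A M] (φ : P →+* A) (ψ : Q →+* A) (π : Q →+* P) (hc : φ.comp π = ψ) (hs : Function.Surjective π)
    (hk : (RingHom.ker π).FG) :
    @Module.FinitePresentation P M _ _ (Module.compHom M φ) ↔
      @Module.FinitePresentation Q M _ _ (Module.compHom M ψ) := by
  subst hc
  letI : Module P M := Module.compHom M φ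
  letI : Module Q M := Module.compHom M (φ.comp π)
  letI : Algebra Q P := π.toAlgebra
  haveI : IsScalarTower Q P M := IsScalarTower.of_algebraMap_smul fun _ _ => rfl
  haveI : Module.FinitePresentation Q P :=
    Module.finitePresentation_of_surjective (Algebra.linearMap Q P) hs (by exact hk)
  exact ⟨fun h => Module.FinitePresentation.trans (R := Q) M P, fun h => fp_of_surjective M hs⟩

/-- Let R → A be a finite type homomorphism of commutative rings, M an A-module, and α : R[x_1, ...,
x_n] → A, β : R[y_1, ..., y_k] → A surjective R-algebra homomorphisms. Then M is finitely presented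
as an R[x_1, ..., x_n]-module through α if and only if M is finitely presented as an R[y_1, ...,
y_k]-module through β. If this holds, M is a finitely presented A-module. -/
theorem result {R A : Type u} [CommRing R] [CommRing A] [Algebra R A]
    [Algebra.FiniteType R A] (M : Type u) [AddCommGroup M] [Module A M] {n k : ℕ}
    (α : MvPolynomial (Fin n) R →ₐ[R] A) (hα : Function.Surjective α)
    (β : MvPolynomial (Fin k) R →ₐ[R] A) (hβ : Function.Surjective β) :
    (@Module.FinitePresentation (MvPolynomial (Fin n) R) M _ _ (Module.compHom M α.toRingHom) ↔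
      @Module.FinitePresentation (MvPolynomial (Fin k) R) M _ _ (Module.compHom M β.toRingHom)) ∧
      (@Module.FinitePresentation (MvPolynomial (Fin n) R) M _ _ (Module.compHom M α.toRingHom) →
        Module.FinitePresentation A M) := by
  classical
  let γ : MvPolynomial (Fin n ⊕ Fin k) R →ₐ[R] A :=
    MvPolynomial.aeval (Sum.elim (fun i => α (MvPolynomial.X i)) (fun j => β (MvPolynomial.X j)))
  choose w hw using fun j : Fin k => hα (β (MvPolynomial.X j))
  choose v hv using fun i : Fin n => hβ (α (MvPolynomial.X i))
  let π₁ : MvPolynomial (Fin n ⊕ Fin k) R →ₐ[R] MvPolynomial (Fin n) R := MvPolynomial.aeval (Sum.elim MvPolynomial.X w)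
  let π₂ : MvPolynomial (Fin n ⊕ Fin k) R →ₐ[R] MvPolynomial (Fin k) R := MvPolynomial.aeval (Sum.elim v MvPolynomial.X)
  have h₁ : Function.Surjective π₁ := Function.RightInverse.surjective (g := MvPolynomial.rename Sum.inl) fun x => by
    show (π₁.comp (MvPolynomial.rename Sum.inl)) x = (AlgHom.id R _) x
    congr 1
    exact MvPolynomial.algHom_ext fun i => by simp [π₁]
  have h₂ : Function.Surjective π₂ := Function.RightInverse.surjective (g := MvPolynomial.rename Sum.inr) fun x => by
    show (π₂.comp (MvPolynomial.rename Sum.inr)) x = (AlgHom.id R _) x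
    congr 1
    exact MvPolynomial.algHom_ext fun i => by simp [π₂]
  have c₁ : α.comp π₁ = γ := MvPolynomial.algHom_ext fun i => by cases i <;> simp [π₁, γ, hw]
  have c₂ : β.comp π₂ = γ := MvPolynomial.algHom_ext fun i => by cases i <;> simp [π₂, γ, hv]
  refine ⟨(fp_iff M α.toRingHom γ.toRingHom π₁.toRingHom (congrArg AlgHom.toRingHom c₁) h₁
      (Algebra.FinitePresentation.ker_fG_of_surjective π₁ h₁)).trans
    (fp_iff M β.toRingHom γ.toRingHom π₂.toRingHom (congrArg AlgHom.toRingHom c₂) h₂
      (Algebra.FinitePresentation.ker_fG_of_surjective π₂ h₂)).symm, fun h => ?_⟩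
  letI : Module (MvPolynomial (Fin n) R) M := Module.compHom M α.toRingHom
  letI : Algebra (MvPolynomial (Fin n) R) A := α.toRingHom.toAlgebra
  haveI : IsScalarTower (MvPolynomial (Fin n) R) A M := IsScalarTower.of_algebraMap_smul fun _ _ => rfl
  exact fp_of_surjective M hα

end Groth.Agent.S6991
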