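import Groth.Statements.S6994
import Groth.Agent.DAlg.TorDim
import Groth.Agent.DAlg.ProjAmp
import Groth.Agent.DAlg.KoszulCech
import Groth.Agent.KoszulLCI.RegularTorDim


set_option autoImplicit false
universe u
open CategoryTheory CategoryTheory.Limits
attribute [local instance] HasDerivedCategory.standard
open DRing
open CategoryTheory.Limits CategoryTheory.Pretriangulated

namespace Groth.Agent.S6994

/-- Let R be a Noetherian regular commutative ring (its localization at every prime is a regular local
ring) of finite Krull dimension d. Let K and L be objects of D(R) whose cohomology vanishes in large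
degrees, and suppose there is an integer k with H^i(K) = 0 for all i ≤ k and H^i(L) = 0 for all i ≥
k - d + 1. Then every morphism K → L in D(R) is zero. -/
theorem result (R : Type u) [CommRing R] [IsNoetherianRing R]
    (hreg : ∀ p : PrimeSpectrum R, IsRegularLocalRing (Localization.AtPrime p.asIdeal)) (d : ℕ)
    (hd : ringKrullDim R = d) (K L : Dual.D R) (hKb : ∃ b : ℤ, ∀ i : ℤ, b < i → Subsingleton (Dual.HD R K i))
    (hLb : ∃ b : ℤ, ∀ i : ℤ, b < i → Subsingleton (Dual.HD R L i)) (k : ℤ)
    (hK : ∀ i : ℤ, i ≤ k → Subsingleton (Dual.HD R K i)) (hL : ∀ i : ℤ, k - d + 1 ≤ i → Subsingleton (Dual.HD R L i)) :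
    Subsingleton (K ⟶ L) := by
  have : IsRegularRing R := IsRegularRing.mk fun p hp => hreg ⟨p, hp⟩
  obtain ⟨b, hb⟩ := hKb
  have key : ∀ (n : ℕ) (M : ModuleCat.{u} R), HasProjectiveDimensionLT M (n + 1) → ∀ X : Dual.D R,
      (∀ i : ℤ, -(n : ℤ) ≤ i → Subsingleton (Dual.HD R X i)) → Subsingleton (DAlg.mD M ⟶ X) := by
    have hproj : ∀ M : ModuleCat.{u} R, Module.Projective R M → ∀ X : Dual.D R,
        (∀ i : ℤ, 0 ≤ i → Subsingleton (Dual.HD R X i)) → Subsingleton (DAlg.mD M ⟶ X) := fun M hM X hX =>
      DAlg.ProjAmp.subsingleton_hom_of_below (a := 0) (b := 0)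
        ⟨(HomologicalComplex.single (ModuleCat.{u} R) (ComplexShape.up ℤ) 0).obj M,
          fun i hi => HomologicalComplex.isZero_single_obj_X _ _ _ _ (by omega), fun i => by
            by_cases h : i = 0
            · exact Module.Projective.of_equiv (HomologicalComplex.singleObjXIsoOfEq (ComplexShape.up ℤ) 0 M i h).symm.toLinearEquiv
            · have := ModuleCat.subsingleton_of_isZero (HomologicalComplex.isZero_single_obj_X (ComplexShape.up ℤ) 0 M i h)
              exact inferInstance,
          ⟨((DerivedCategory.singleFunctorIsoCompQ _ 0).app M).symm⟩⟩ hX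
    intro n
    induction n with
    | zero =>
      intro M hM X hX
      exact hproj M ((IsProjective.iff_projective M).2 ((projective_iff_hasProjectiveDimensionLT_one (X := M)).2 hM)) X
        (fun i hi => hX i (by omega))
    | succ n ih =>
      intro M hM X hX
      have hS := Calg7.Tor.presentation_shortExact M
      have : Module.Projective R (Calg7.Tor.presentation M).X₂ := inferInstanceAs (Module.Projective R (M →₀ R))
      have hp : HasProjectiveDimensionLT (Calg7.Tor.presentation M).X₂ (n + 1) := by
        have := (IsProjective.iff_projective (Calg7.Tor.presentation M).X₂).1 ‹_›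
        exact inferInstance
      have h2 := hproj _ this X (fun i hi => hX i (by omega))
      have h1 := ih _ (hS.hasProjectiveDimensionLT_X₁ (n + 1) hp hM) (X⟦(-1 : ℤ)⟧) fun i hi =>
        have := hX (-1 + i) (by omega)
        (PCohPunctual.hShiftIso X (-1) i).toLinearEquiv.toEquiv.subsingleton
      have h3 : Subsingleton ((DAlg.mD (Calg7.Tor.presentation M).X₁)⟦(1 : ℤ)⟧ ⟶ X) :=
        (DAlg.KoszulCech.shiftHom₀ _ X (1 : ℤ) (-1) (by omega)).symm.toEquiv.subsingleton
      refine subsingleton_of_forall_eq 0 fun φ => ?_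
      obtain ⟨g, rfl⟩ := Triangle.yoneda_exact₃ _ hS.singleTriangle_distinguished φ (h2.elim _ _)
      exact (congrArg _ (h3.elim g 0)).trans comp_zero
  refine DAlg.bounded_homology_induction (fun X => Subsingleton (X ⟶ L))
    (fun X Y e h => (Iso.homFromEquiv e.symm).subsingleton) (fun T hT h1 h3 => ?_)
    (fun X hX => ⟨fun f g => hX.eq_of_src f g⟩) K (k + 1) b
    (fun i hi => ModuleCat.isZero_iff_subsingleton.2 (hi.elim (fun h => hK i (by omega)) (hb i))) fun i => ?_
  · refine subsingleton_of_forall_eq 0 fun φ => ?_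
    obtain ⟨g, rfl⟩ := Triangle.yoneda_exact₂ _ hT φ (h1.elim _ _)
    exact (congrArg _ (h3.elim g 0)).trans comp_zero
  · by_cases hi : i < k + 1 ∨ b < i
    · have := Functor.map_isZero (DerivedCategory.singleFunctor (ModuleCat.{u} R) i) (ModuleCat.isZero_iff_subsingleton.2 (hi.elim (fun h => hK i (by omega)) (hb i)) : IsZero (ModuleCat.of R (Dual.HD R K i)))
      exact ⟨fun f g => this.eq_of_src f g⟩
    · have h0 := key d (ModuleCat.of R (Dual.HD R K i)) (KoszulLCI.pdLT_of_isRegularRing hd.le _) (L⟦i⟧) fun j hj =>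
        have := hL (i + j) (by omega)
        (PCohPunctual.hShiftIso L i j).toLinearEquiv.toEquiv.subsingleton
      have h1 : Subsingleton ((DAlg.mD (ModuleCat.of R (Dual.HD R K i)))⟦-i⟧ ⟶ L) :=
        (DAlg.KoszulCech.shiftHom₀ _ L (-i) i (by omega)).symm.toEquiv.subsingleton
      exact (Iso.homFromEquiv (DAlg.singleShift _ i).symm).subsingleton

end Groth.Agent.S6994
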