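import Groth.Statements.S6995
import Groth.Agent.DAlg.ProjAmp
import Groth.Agent.DAlg.PCoh
import Groth.Agent.S6994


set_option autoImplicit false
universe u
open CategoryTheory CategoryTheory.Limits
attribute [local instance] HasDerivedCategory.standard
open DRing
open CategoryTheory.Pretriangulated

namespace Groth.Agent.S6995

/-- Let R be a Noetherian regular commutative ring of finite Krull dimension d ≥ 1, K a perfect object
of D(R) and k an integer such that H^i(K) = 0 for every i with k - d + 2 ≤ i ≤ k. Then K splits in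
D(R) as the direct sum of its canonical truncations: there is an isomorphism K ≅ τ_(≤ k-d+1) K ⊕
τ_(≥ k+1) K under which the truncation map τ_(≤ k-d+1) K → K becomes the first inclusion and K →
τ_(≥ k+1) K the second projection. -/
theorem result (R : Type u) [CommRing R] [IsNoetherianRing R]
    (hreg : ∀ p : PrimeSpectrum R, IsRegularLocalRing (Localization.AtPrime p.asIdeal)) (d : ℕ) (hd1 : 1 ≤ d)
    (hd : ringKrullDim R = d) (K : Dual.D R) (hK : DRing.IsPerfect R K) (k : ℤ)
    (hgap : ∀ i : ℤ, k - d + 2 ≤ i → i ≤ k → Subsingleton (Dual.HD R K i))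
    [HasBinaryBiproduct
      (((DerivedCategory.TStructure.t : Triangulated.TStructure (Dual.D R)).truncLT (k - d + 2)).obj K)
      (((DerivedCategory.TStructure.t : Triangulated.TStructure (Dual.D R)).truncGE (k + 1)).obj K)] :
    ∃ e : K ≅
      ((DerivedCategory.TStructure.t : Triangulated.TStructure (Dual.D R)).truncLT (k - d + 2)).obj K ⊞
        ((DerivedCategory.TStructure.t : Triangulated.TStructure (Dual.D R)).truncGE (k + 1)).obj K,
      ((DerivedCategory.TStructure.t : Triangulated.TStructure (Dual.D R)).truncLTι (k - d + 2)).app K ≫ e.hom =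
          biprod.inl ∧
        e.hom ≫ biprod.snd =
          ((DerivedCategory.TStructure.t : Triangulated.TStructure (Dual.D R)).truncGEπ (k + 1)).app K := by
  let t : Triangulated.TStructure (Dual.D R) := DAlg.tD R
  obtain ⟨P, a₀, b₀, hP, hPf, ⟨e⟩⟩ := hK
  have hKb : ∀ i : ℤ, b₀ < i → Subsingleton (Dual.HD R K i) := fun i hi => by
    refine DAlg.subsingleton_HD_of_iso e (hP i (Or.inr hi))
  let X := (t.truncGE (k - d + 2)).obj K
  haveI : DerivedCategory.IsLE ((t.truncLT (k - d + 2)).obj K) (k - d + 1) := t.isLE_truncLT_obj _ _ _ (by omega)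
  haveI : t.IsGE X (k - d + 2) := t.isGE_truncGE_obj _ _ _ le_rfl
  have hX : ∀ i : ℤ, i ≤ k → IsZero ((DerivedCategory.homologyFunctor (ModuleCat.{u} R) i).obj X) := fun i hi => by
    by_cases h : i < k - d + 2
    · exact DerivedCategory.isZero_of_isGE X (k - d + 2) i h
    · exact PCohPunctual.isZero_homology₃ (t.triangleLTGE_distinguished (k - d + 2) K) (i := i) (j := i + 1) rfl
        (ModuleCat.isZero_iff_subsingleton.2 (hgap i (by omega) hi))
        (DerivedCategory.isZero_of_isLE ((t.truncLT (k - d + 2)).obj K) (k - d + 1) _ (by omega))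
  haveI : t.IsGE X (k + 1) := (DerivedCategory.isGE_iff X (k + 1)).2 fun i hi => hX i (by omega)
  have hle : k - d + 2 ≤ k + 1 := by omega
  let φ := (t.natTransTruncGEOfLE (k - d + 2) (k + 1) hle).app K
  let ψ : (t.truncGE (k + 1)).obj K ⟶ X := t.descTruncGE ((t.truncGEπ (k - d + 2)).app K) (k + 1)
  haveI : t.IsGE ((t.truncGE (k + 1)).obj K) (k + 1) := t.isGE_truncGE_obj _ _ _ le_rfl
  haveI : t.IsGE ((t.truncGE (k + 1)).obj K) (k - d + 2) := t.isGE_of_ge _ _ (k + 1) hle
  let i₃ : X ≅ (t.truncGE (k + 1)).obj K :=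
    { hom := φ
      inv := ψ
      hom_inv_id := t.from_truncGE_obj_ext (by simp [φ, ψ, X])
      inv_hom_id := t.from_truncGE_obj_ext (by simp [φ, ψ, X]) }
  let T : Triangle (Dual.D R) := Triangle.mk ((t.truncLTι (k - d + 2)).app K) ((t.truncGEπ (k + 1)).app K)
    (ψ ≫ (t.truncGEδLT (k - d + 2)).app K)
  have hT : T ∈ distinguishedTriangles :=
    isomorphic_distinguished _ (t.triangleLTGE_distinguished (k - d + 2) K) _
      (Triangle.isoMk _ _ (Iso.refl _) (Iso.refl _) i₃.symm
        (by simp [T]; exact (Category.comp_id _).trans (Category.id_comp _).symm)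
        (by simp [T, i₃, ψ]; exact (t.π_descTruncGE ((t.truncGEπ (k - d + 2)).app K : K ⟶ X) (k + 1)).trans (Category.id_comp _).symm)
        (by simp [T, i₃]; erw [CategoryTheory.Functor.map_id, Category.comp_id]; rfl))
  have h0 : Subsingleton (T.obj₃ ⟶ T.obj₁⟦(1 : ℤ)⟧) := by
    refine Groth.Agent.S6994.result R hreg d hd _ _ ?_ ⟨k, fun i hi => ?_⟩ k (fun i hi => ?_) (fun i hi => ?_)
    · refine ⟨max b₀ k, fun i hi => ?_⟩
      haveI : DerivedCategory.IsLE K (max b₀ k) := (DerivedCategory.isLE_iff K _).2 fun j hj =>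
        ModuleCat.isZero_iff_subsingleton.2 (hKb j (by omega))
      have h := PCohPunctual.isZero_homology₃ hT (i := i) (j := i + 1) rfl
        (DerivedCategory.isZero_of_isLE K (max b₀ k) i hi)
        (DerivedCategory.isZero_of_isLE ((t.truncLT (k - d + 2)).obj K) (k - d + 1) _ (by omega))
      exact ModuleCat.subsingleton_of_isZero h
    · haveI := ModuleCat.subsingleton_of_isZero (DerivedCategory.isZero_of_isLE ((t.truncLT (k - d + 2)).obj K) (k - d + 1) (1 + i) (by omega))
      exact (PCohPunctual.hShiftIso ((t.truncLT (k - d + 2)).obj K) 1 i).toLinearEquiv.toEquiv.subsingleton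
    · exact ModuleCat.subsingleton_of_isZero (DerivedCategory.isZero_of_isGE ((t.truncGE (k + 1)).obj K) (k + 1) i (by omega))
    · haveI := ModuleCat.subsingleton_of_isZero (DerivedCategory.isZero_of_isLE ((t.truncLT (k - d + 2)).obj K) (k - d + 1) (1 + i) (by omega))
      exact (PCohPunctual.hShiftIso ((t.truncLT (k - d + 2)).obj K) 1 i).toLinearEquiv.toEquiv.subsingleton
  obtain ⟨e₁, he1, he2⟩ := exists_iso_binaryBiproduct_of_distTriang T hT (h0.elim _ _)
  exact ⟨e₁, he1, he2.symm⟩

end Groth.Agent.S6995
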