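import Groth.Statements.S7003
import Groth.Agent.DAlg.ProjAmp


set_option autoImplicit false
universe u
open CategoryTheory CategoryTheory.Limits
attribute [local instance] HasDerivedCategory.standard
open DRing

namespace Groth.Agent.S7003

/-- Let R be a commutative ring, a an integer and K an object of D(R) whose cohomology vanishes in large
degrees. Assume that for every injective R-linear map M → M' the induced map Hom(K, M[-a]) → Hom(K,
M'[-a]) in D(R) is injective. Then K ≅ τ_(≤ a) K ⊕ τ_(≥ a+1) K by an isomorphism carrying τ_(≤ a) K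
→ K to the first inclusion and K → τ_(≥ a+1) K to the second projection, and τ_(≥ a+1) K is
isomorphic in D(R) to a complex of projective modules vanishing outside [a+1, b] for some integer b.
(The published statement also asserts that the decomposition is unique; that part is not restated.) -/
theorem result (R : Type u) [CommRing R] (a : ℤ) (K : Dual.D R)
    (hKb : ∃ b : ℤ, ∀ i : ℤ, b < i → Subsingleton (Dual.HD R K i))
    (h : ∀ (M M' : Type u) [AddCommGroup M] [Module R M] [AddCommGroup M'] [Module R M'] (g : M →ₗ[R] M'),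
      Function.Injective g → Function.Injective (fun x : K ⟶ (shiftFunctor (Dual.D R) (-a)).obj (Dual.inD R M) =>
        x ≫ (shiftFunctor (Dual.D R) (-a)).map
          ((DerivedCategory.singleFunctor (ModuleCat.{u} R) 0).map (ModuleCat.ofHom g))))
    [HasBinaryBiproduct (((DerivedCategory.TStructure.t : Triangulated.TStructure (Dual.D R)).truncLT (a + 1)).obj K) (((DerivedCategory.TStructure.t : Triangulated.TStructure (Dual.D R)).truncGE (a + 1)).obj K)] :
    (∃ e : K ≅ ((DerivedCategory.TStructure.t : Triangulated.TStructure (Dual.D R)).truncLT (a + 1)).obj K ⊞ ((DerivedCategory.TStructure.t : Triangulated.TStructure (Dual.D R)).truncGE (a + 1)).obj K,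
      ((DerivedCategory.TStructure.t : Triangulated.TStructure (Dual.D R)).truncLTι (a + 1)).app K ≫ e.hom = biprod.inl ∧
        e.hom ≫ biprod.snd = ((DerivedCategory.TStructure.t : Triangulated.TStructure (Dual.D R)).truncGEπ (a + 1)).app K) ∧
      ∃ (P : DRing.Cx R) (b : ℤ), DRing.VanishesOutside P (a + 1) b ∧ (∀ i : ℤ, Module.Projective R (P.X i)) ∧
        Nonempty (DRing.toD P ≅ ((DerivedCategory.TStructure.t : Triangulated.TStructure (Dual.D R)).truncGE (a + 1)).obj K) := by
  obtain ⟨b, hb⟩ := hKb
  have key : ∀ (M : Type u) [AddCommGroup M] [Module R M],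
      Subsingleton (((DAlg.tD R).truncGE (a + 1)).obj K ⟶ (shiftFunctor (Dual.D R) (-a)).obj (Dual.inD R M)) := by
    intro M _ _
    refine subsingleton_of_forall_eq 0 fun x => DAlg.eq_zero_of_π_comp M x ?_
    let I := Injective.under (ModuleCat.of R M)
    let ι := Injective.ι (ModuleCat.of R M)
    have hI : Injective (ModuleCat.of R I) := Injective.injective_under (ModuleCat.of R M)
    refine h M I ι.hom ((ModuleCat.mono_iff_injective ι).1 inferInstance) ?_
    show _ ≫ _ = (0 : _ ⟶ _) ≫ _
    rw [Limits.zero_comp, Category.assoc]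
    suffices x ≫ (shiftFunctor (Dual.D R) (-a)).map ((DerivedCategory.singleFunctor (ModuleCat.{u} R) 0).map ι) = 0 by
      exact (congrArg _ this).trans Limits.comp_zero
    generalize x ≫ (shiftFunctor (Dual.D R) (-a)).map
      ((DerivedCategory.singleFunctor (ModuleCat.{u} R) 0).map ι) = y
    revert y
    suffices Subsingleton (((DAlg.tD R).truncGE (a + 1)).obj K ⟶ (shiftFunctor (Dual.D R) (-a)).obj (Dual.inD R I)) from
      fun y => this.elim _ _
    have hL : ∀ i : ℤ, max b a + 1 < i → Subsingleton (Dual.HD R (((DAlg.tD R).truncGE (a + 1)).obj K) i) :=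
      fun i hi => by
        have := DAlg.subsingleton_HD_truncLT (a := a) (K := K) (i + 1) (by omega)
        exact ModuleCat.subsingleton_of_isZero (PCohPunctual.isZero_homology₃
          ((DAlg.tD R).triangleLTGE_distinguished (a + 1) K) (i := i) (j := i + 1) rfl
          (ModuleCat.isZero_iff_subsingleton.2 (hb i (by omega)))
          (ModuleCat.isZero_iff_subsingleton.2 this))
    obtain ⟨F, hF, hfree, ⟨e⟩⟩ := DAlg.exists_free_rep R hL
    refine subsingleton_of_forall_eq 0 fun y => ?_
    have hproj : ∀ i, Module.Projective R (F.X i) := fun i => have := hfree i; inferInstance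
    obtain ⟨φ, rfl⟩ := Calg3.classMap_surjective e (neg_add_cancel a) hF hproj y
    have hz := DAlg.isZero_homology_of_subsingleton (E := F) (i := a)
      (have := DAlg.subsingleton_HD_truncGE (K := K) (le_refl a)
       (DAlg.HDCongr e a).toEquiv.subsingleton)
    have hker : LinearMap.ker (F.d a (a + 1)).hom ≤ LinearMap.ker φ.1 := by
      intro v hv
      obtain ⟨w, rfl⟩ := (FlatCxBase.isZero_homology_iff (FlatCxBase.cochain_prev a) (FlatCxBase.cochain_next a)).1 hz v hv
      exact LinearMap.congr_fun φ.2 w
    let f := (LinearMap.ker (F.d a (a + 1)).hom).liftQ (F.d a (a + 1)).hom le_rfl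
    have hf : Function.Injective f := LinearMap.ker_eq_bot.1 (Submodule.ker_liftQ_eq_bot _ _ _ le_rfl)
    have : Mono (ModuleCat.ofHom f) := (ModuleCat.mono_iff_injective _).2 hf
    refine Calg3.classMap_predif e _
      (Injective.factorThru (ModuleCat.ofHom ((LinearMap.ker (F.d a (a + 1)).hom).liftQ φ.1 hker)) (ModuleCat.ofHom f)).hom
      φ (LinearMap.ext fun v => ?_)
    exact (ConcreteCategory.congr_hom (Injective.comp_factorThru
      (ModuleCat.ofHom ((LinearMap.ker (F.d a (a + 1)).hom).liftQ φ.1 hker)) (ModuleCat.ofHom f))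
      (Submodule.Quotient.mk v)).symm
  obtain ⟨e, he⟩ := DAlg.exists_splitting hb key
  obtain ⟨P, hP, hp, hPe⟩ := DAlg.projAmp_truncGE hb key
  exact ⟨⟨e, he⟩, P, max b a, hP, hp, hPe⟩

end Groth.Agent.S7003
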