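import Groth.Statements.S7008
import Groth.Agent.DAlg.RelPCLocal


set_option autoImplicit false
universe u
open CategoryTheory CategoryTheory.Limits
attribute [local instance] HasDerivedCategory.standard
open DerCA

namespace Groth.Agent.S7008

/-- Let R be a commutative ring, f an element of R, A a finite type R_f-algebra, g an element of A, K a
cochain complex of A-modules and m an integer; write K_g for the termwise localization K ⊗_A A_g, a
complex over the finite type R-algebra A_g. Suppose K is m-pseudo-coherent relative to R_f; then K_g
is m-pseudo-coherent relative to R. Suppose K is pseudo-coherent relative to R_f in every degree;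
then so is K_g relative to R. -/
theorem result {R A : Type u} [CommRing R] [CommRing A] (f : R) [Algebra R A]
    [Algebra (Localization.Away f) A] [IsScalarTower R (Localization.Away f) A]
    [Algebra.FiniteType (Localization.Away f) A] (g : A) (K : DRing.Cx A) (m : ℤ) :
    (DerCA.IsRelPseudoCoherent (Localization.Away f) A m (DRing.toD K) →
      DerCA.IsRelPseudoCoherent R (Localization.Away g) m
        (DRing.toD (((ModuleCat.extendScalars (algebraMap A (Localization.Away g))).mapHomologicalComplex
          (ComplexShape.up ℤ)).obj K))) ∧
      (DerCA.IsRelPseudoCoherentAll (Localization.Away f) A (DRing.toD K) →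
        DerCA.IsRelPseudoCoherentAll R (Localization.Away g)
          (DRing.toD (((ModuleCat.extendScalars (algebraMap A (Localization.Away g))).mapHomologicalComplex
            (ComplexShape.up ℤ)).obj K))) := by
  haveI : Algebra.FiniteType R (Localization.Away f) := by
    obtain ⟨φ, -, hφs, hφC⟩ := DAlg.exists_away_pcMap f
    exact Algebra.FiniteType.of_surjective ({ toRingHom := φ, commutes' := fun r => RingHom.congr_fun hφC r } :
      MvPolynomial (Fin 1) R →ₐ[R] Localization.Away f) hφs
  haveI : Algebra.FiniteType A (Localization.Away g) := by
    obtain ⟨φ, -, hφs, hφC⟩ := DAlg.exists_away_pcMap g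
    exact Algebra.FiniteType.of_surjective ({ toRingHom := φ, commutes' := fun r => RingHom.congr_fun hφC r } :
      MvPolynomial (Fin 1) A →ₐ[A] Localization.Away g) hφs
  haveI : Algebra.FiniteType (Localization.Away f) (Localization.Away g) :=
    Algebra.FiniteType.trans (S := A) ‹Algebra.FiniteType (Localization.Away f) A›
      ‹Algebra.FiniteType A (Localization.Away g)›
  haveI : IsScalarTower R (Localization.Away f) (Localization.Away g) :=
    IsScalarTower.of_algebraMap_eq fun r => by
      rw [IsScalarTower.algebraMap_apply R A (Localization.Away g), IsScalarTower.algebraMap_apply R (Localization.Away f) A,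
        IsScalarTower.algebraMap_apply (Localization.Away f) A (Localization.Away g)]
  have hA : DerCA.IsRelPseudoCoherentModuleAll R (Localization.Away f) (Localization.Away f) := fun j => by
    obtain ⟨φ, hφ, hφs, hφC⟩ := DAlg.exists_away_pcMap f
    exact (DAlg.relPC_iff (α := ({ toRingHom := φ, commutes' := fun r => RingHom.congr_fun hφC r } :
      MvPolynomial (Fin 1) R →ₐ[R] Localization.Away f)) hφs).2 (hφ j)
  exact ⟨fun h => (DAlg.relPC_iff_of_intermediate hA _ m).1 (DAlg.relPC_away g K h),
    fun h j => (DAlg.relPC_iff_of_intermediate hA _ j).1 (DAlg.relPC_away g K (h j))⟩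

end Groth.Agent.S7008
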