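import Groth.Statements.S7010
import Groth.Agent.DAlg.PCoh


set_option autoImplicit false
universe u
open CategoryTheory CategoryTheory.Limits
attribute [local instance] HasDerivedCategory.standard
open DRing

namespace Groth.Agent.S7010

open CategoryTheory.Pretriangulated in
/-- The inclusion of the perfect objects in the subcategory generated by R: let R be a commutative ring
and P a property of objects of D(R) which is closed under isomorphisms, holds for R[0], is stable
under all shifts, is closed under extensions (if it holds for the outer terms of a distinguished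
triangle it holds for the middle term) and is closed under taking direct summands. Then P holds for
every perfect object of D(R). -/
theorem result (R : Type u) [CommRing R]
    (P : ObjectProperty (Dual.D R)) [P.IsClosedUnderIsomorphisms] (hR : P (Dual.inD R R))
    (hshift : ∀ (K : Dual.D R) (n : ℤ), P K → P ((shiftFunctor (Dual.D R) n).obj K))
    (hext : ∀ T : Triangle (Dual.D R), T ∈ distinguishedTriangles → P T.obj₁ → P T.obj₃ → P T.obj₂)
    (hsum : ∀ (X Y : Dual.D R) [HasBinaryBiproduct X Y], P (X ⊞ Y) → P X)
    (K : Dual.D R) (hK : DRing.IsPerfect R K) : P K := by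
  have hiso : ∀ X Y : Dual.D R, (X ≅ Y) → P X → P Y := fun X Y e h => P.prop_of_iso e h
  have : Limits.HasBinaryBiproducts (Dual.D R) := Limits.HasBinaryBiproducts.of_hasBinaryProducts
  have hzero : ∀ X : Dual.D R, Limits.IsZero X → P X := fun X hX => by
    refine hsum X (Dual.inD R R) (hiso _ _ ?_ hR)
    exact { hom := Limits.biprod.inr, inv := Limits.biprod.snd
            hom_inv_id := Limits.biprod.inr_snd
            inv_hom_id := by
              refine Limits.biprod.hom_ext' _ _ (hX.eq_of_src _ _) ?_
              simp }
  have hfree : ∀ n : ℕ, P (DAlg.mD (ModuleCat.of R (Fin n → R))) := fun n => by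
    induction n with
    | zero => exact hzero _ (CategoryTheory.Functor.map_isZero _ (ModuleCat.isZero_of_subsingleton _))
    | succ n ih =>
      let π : ModuleCat.of R (Fin (n + 1) → R) ⟶ ModuleCat.of R (Fin n → R) :=
        ModuleCat.ofHom (LinearMap.funLeft R R Fin.succ)
      obtain ⟨T, hT, e₁, e₂, e₃⟩ := DAlg.exists_triangle_of_surjective π
        (fun x => ⟨Fin.cons 0 x, funext fun j => by simp [π]⟩)
      have h1 : P T.obj₁ := by
        rw [e₁]
        refine hiso _ _ ((DerivedCategory.singleFunctor _ 0).mapIso (LinearEquiv.toModuleIso ?_)) hR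
        exact
          { toFun := fun r => ⟨Pi.single 0 r, funext fun j => by simp [π]; rfl⟩
            map_add' := fun r s => Subtype.ext (Pi.single_add _ _ _)
            map_smul' := fun r s => Subtype.ext (Pi.single_smul _ _ _)
            invFun := fun x => x.1 0
            left_inv := fun r => by simp
            right_inv := fun x => Subtype.ext (funext fun j => by
              refine Fin.cases ?_ (fun k => ?_) j
              · simp
              · show (Pi.single 0 (x.1 0) : Fin (n + 1) → R) k.succ = x.1 k.succ
                rw [Pi.single_eq_of_ne (Fin.succ_ne_zero k)]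
                exact (congrFun (x.2 : x.1 ∘ Fin.succ = 0) k).symm) }
      exact e₂ ▸ hext T hT h1 (e₃ ▸ ih)
  have hproj : ∀ M : ModuleCat.{u} R, DAlg.finProj R M → P (DAlg.mD M) := fun M hM => by
    obtain ⟨n, N, -, ⟨e⟩⟩ := DAlg.exists_finProj_prod_iso hM
    have : Functor.Additive (DerivedCategory.singleFunctor (ModuleCat.{u} R) 0) := inferInstance
    have := Functor.preservesFiniteBiproductsOfAdditive (DerivedCategory.singleFunctor (ModuleCat.{u} R) 0)
    have := Limits.preservesBinaryBiproducts_of_preservesBiproducts (DerivedCategory.singleFunctor (ModuleCat.{u} R) 0)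
    refine hsum _ (DAlg.mD N) (hiso _ _ ?_ (hfree n))
    exact (DerivedCategory.singleFunctor _ 0).mapIso (e ≪≫ (ModuleCat.biprodIsoProd M N).symm) ≪≫
      (DerivedCategory.singleFunctor _ 0).mapBiprod M N
  obtain ⟨E, a, b, hE, hP, ⟨e⟩⟩ := hK
  exact hiso _ _ e (DAlg.bounded_induction (fun X => P X) hiso hext hzero E a b hE
    fun i => hiso _ _ (DAlg.singleShift (E.X i) i) (hshift _ _ (hproj _ (hP i))))

end Groth.Agent.S7010
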