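import Groth.Statements.S7011
import Groth.Agent.DAlg.LiftCxClasses
import Groth.Agent.DAlg.Classes


set_option autoImplicit false
universe u
open CategoryTheory CategoryTheory.Limits
attribute [local instance] HasDerivedCategory.standard
open DRing

namespace Groth.Agent.S7011

/-- Let R be a commutative ring and I an ideal contained in the Jacobson radical of R (every element of
1 + I is a unit), such that the derived base change D(R) → D(R/I) exists. Let K be a pseudo-coherent
object of D(R) and E a bounded above cochain complex of finitely generated stably free R/I-modules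
which is isomorphic in D(R/I) to K ⊗^L_R R/I. Then there is a bounded above cochain complex P of
finitely generated stably free R-modules, isomorphic to K in D(R), whose termwise reduction P ⊗_R
R/I is isomorphic to E as a complex, and such that P^i is free for every i for which E^i is free. -/
theorem result (R : Type u) [CommRing R] (I : Ideal R)
    (hI : I ≤ Ideal.jacobson (⊥ : Ideal R)) [DRing.HasLBaseChange (Ideal.Quotient.mk I)] (K : Dual.D R)
    (hK : DRing.IsPseudoCoherent' R K) (E : DRing.Cx (R ⧸ I)) (b : ℤ) (hEb : DRing.VanishesAbove E b)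
    (hEs : ∀ i : ℤ, Module.Finite (R ⧸ I) (E.X i) ∧ Module.IsStablyFree (R ⧸ I) (E.X i))
    (hE : Nonempty (DRing.toD E ≅ (DRing.LBaseChange (Ideal.Quotient.mk I)).obj K)) :
    ∃ (P : DRing.Cx R) (b' : ℤ), DRing.VanishesAbove P b' ∧
      (∀ i : ℤ, Module.Finite R (P.X i) ∧ Module.IsStablyFree R (P.X i)) ∧
      Nonempty (DRing.toD P ≅ K) ∧ Nonempty ((((ModuleCat.extendScalars (Ideal.Quotient.mk I)).mapHomologicalComplex (ComplexShape.up ℤ)).obj P) ≅ E) ∧
      ∀ i : ℤ, Module.Free (R ⧸ I) (E.X i) → Module.Free R (P.X i) := by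
  obtain ⟨eE⟩ := hE
  obtain ⟨Q, c, hQ, hQf, ⟨e⟩⟩ := hK
  have hG := DAlg.LiftCx.good_sf hI
  obtain ⟨P, b', hPb, hP, hPK, ⟨ered⟩⟩ := DAlg.LiftCx.exists_lift_rep hG (fun {X} hX => haveI := hX.2; inferInstance)
    (fun {X Y} => DAlg.LiftCx.sum_sf) Q c hQ
    (fun i => haveI := (hQf i).2; ⟨(hQf i).1, inferInstance⟩) e E b hEb
    (fun i => haveI := (hEs i).1; haveI := (hEs i).2; DAlg.LiftCx.exists_term_sf hI) eE
  refine ⟨P, b', hPb, hP, hPK, ⟨ered⟩, fun i hi => ?_⟩
  haveI := (hEs i).1
  exact DAlg.LiftCx.free_of_reduction hG DAlg.LiftCx.sf_pi (hP i) (E := E.X i) ((HomologicalComplex.eval _ _ i).mapIso ered)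

end Groth.Agent.S7011
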