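import Groth.Statements.S7014
import Groth.Agent.DAlg.CompactHocolim


set_option autoImplicit false
universe u
open CategoryTheory CategoryTheory.Limits
attribute [local instance] HasDerivedCategory.standard
open DRing

namespace Groth.Agent.S7014

/-- Let R be a commutative ring and K an object of D(R) such that for every sequence (E_n) of objects of
D(R) the canonical map from the direct sum of the Hom(K, E_n) to Hom(K, ⊕_n E_n) is bijective. Let
L_0 → L_1 → L_2 → ... be a sequence of cochain complexes of R-modules with colimit L (computed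
termwise). Then every morphism K → L in D(R) factors through L_n → L for some n, and a morphism K →
L_n in D(R) whose composite with L_n → L vanishes already has vanishing composite with L_n → L_m for
some m ≥ n. -/
theorem result (R : Type u) [CommRing R] (K : Dual.D R)
    (hK : ∀ (E : ℕ → Dual.D R) [HasCoproduct fun i : ULift.{u + 1} ℕ => E i.down],
      Function.Bijective (CohDer.homSumToHomCoprod K (fun i : ULift.{u + 1} ℕ => E i.down)))
    (L : ℕ ⥤ DRing.Cx R) (c : Cocone L) (hc : IsColimit c) :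
    (∀ x : K ⟶ DRing.toD c.pt, ∃ (n : ℕ) (y : K ⟶ DRing.toD (L.obj n)),
        y ≫ DerivedCategory.Q.map (c.ι.app n) = x) ∧
      (∀ (n : ℕ) (y : K ⟶ DRing.toD (L.obj n)), y ≫ DerivedCategory.Q.map (c.ι.app n) = 0 →
        ∃ (m : ℕ) (h : n ≤ m), y ≫ DerivedCategory.Q.map (L.map (homOfLE h)) = 0) := by
  obtain ⟨hW⟩ := DAlg.CompactPerf.nonempty_isColimit_Q (fun t : ULift.{u} ℕ => L.obj t.down)
    (Cofan.mk (∐ L.obj) fun t => Sigma.ι L.obj t.down)
    (Cofan.IsColimit.mk _ (fun s => Sigma.desc fun n => s.inj ⟨n⟩)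
      (fun s i => (Sigma.ι_desc (f := L.obj) (fun n => s.inj ⟨n⟩) i.down : _))
      (fun s m hm => Sigma.hom_ext (f := L.obj) _ _ fun n =>
        (hm ⟨n⟩).trans (Sigma.ι_desc (f := L.obj) (fun n => s.inj ⟨n⟩) n).symm))
  let cQ : Cofan fun n => DerivedCategory.Q.obj (L.obj n) :=
    Cofan.mk (DerivedCategory.Q.obj (∐ L.obj)) fun n => DerivedCategory.Q.map (Sigma.ι L.obj n)
  let hcQ : IsColimit cQ := Cofan.IsColimit.mk _
    (fun s => Cofan.IsColimit.desc hW fun t => s.inj t.down.down)
    (fun s n => Cofan.IsColimit.fac hW _ ⟨⟨n⟩⟩)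
    (fun s m hm => Cofan.IsColimit.hom_ext hW _ _ fun t =>
      (hm t.down.down).trans (Cofan.IsColimit.fac hW (fun t => s.inj t.down.down) t).symm)
  haveI : HasCoproduct fun n => DerivedCategory.Q.obj (L.obj n) := ⟨⟨⟨cQ, hcQ⟩⟩⟩
  haveI : PreservesColimit (Discrete.functor L.obj) (DerivedCategory.Q (C := ModuleCat.{u} R)) :=
    preservesColimit_of_preserves_colimit_cocone (coproductIsCoproduct L.obj)
      ((isColimitMapCoconeCofanMkEquiv DerivedCategory.Q _ _).symm hcQ)
  haveI : AB5OfSize.{0, 0} (ModuleCat.{u} R) := AB5OfSize_of_univLE.{0, 0, u, u} (ModuleCat.{u} R)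
  have hh := Misc1.Telescope.isHocolim_Q L
  obtain ⟨h1, h2⟩ := DAlg.CompactPerf.exists_factor_of_hocolim
    (fun n => DerivedCategory.Q.map (L.map (homOfLE (Nat.le_succ n)))) hK
    (fun n => DerivedCategory.Q.map (colimit.ι L n)) hh
    (fun n m h => DerivedCategory.Q.map (L.map (homOfLE h)))
    (fun n m h => by rw [← Functor.map_comp, ← Functor.map_comp]; rfl)
    (fun n => by
      show DerivedCategory.Q.map (L.map (𝟙 n)) = _
      rw [CategoryTheory.Functor.map_id, CategoryTheory.Functor.map_id])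
    (fun n m h => by rw [← Functor.map_comp, colimit.w L (homOfLE h)])
  let e := (colimit.isColimit L).coconePointUniqueUpToIso hc
  have he : ∀ n, colimit.ι L n ≫ e.hom = c.ι.app n := fun n =>
    (colimit.isColimit L).comp_coconePointUniqueUpToIso_hom hc n
  refine ⟨fun x => ?_, fun n y hy => ?_⟩
  · obtain ⟨n, y, hy⟩ := h1 (x ≫ DerivedCategory.Q.map e.inv)
    refine ⟨n, y, ?_⟩
    rw [← he n, Functor.map_comp, ← Category.assoc, hy, Category.assoc, ← Functor.map_comp, Iso.inv_hom_id,
      CategoryTheory.Functor.map_id, Category.comp_id]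
  · refine h2 n y ((cancel_mono (DerivedCategory.Q.map e.hom)).1 ?_)
    rw [Category.assoc, ← Functor.map_comp, he, hy, zero_comp]

end Groth.Agent.S7014
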