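import Groth.Statements.S7015
import Mathlib.CategoryTheory.Monoidal.Rigid.Braided
import Mathlib.Algebra.Category.ModuleCat.Monoidal.Symmetric
import Mathlib.LinearAlgebra.TensorProduct.Finiteness
import Mathlib.LinearAlgebra.StdBasis


set_option autoImplicit false
universe u
open CategoryTheory MonoidalCategory
open DRing
open MonoidalCategory

namespace Groth.Agent.S7015

/-- Let R be a commutative ring and M, N R-modules such that N is a left dual of M for the tensor
product of R-modules, i.e. there are a coevaluation R → M ⊗ N and an evaluation N ⊗ M → R satisfying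
the triangle identities (an exact pairing). Then M and N are finitely generated projective
R-modules. -/
theorem result (R : Type u) [CommRing R] (M N : Type u) [AddCommGroup M]
    [Module R M] [AddCommGroup N] [Module R N] [ExactPairing (ModuleCat.of R M) (ModuleCat.of R N)] :
    Module.Finite R M ∧ Module.Projective R M ∧ Module.Finite R N ∧ Module.Projective R N := by
  have key : ∀ (M N : Type u) [AddCommGroup M] [Module R M] [AddCommGroup N] [Module R N]
      [ExactPairing (ModuleCat.of R M) (ModuleCat.of R N)], Module.Finite R M ∧ Module.Projective R M := by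
    intro M N _ _ _ _ _
    let η := (η_ (ModuleCat.of R M) (ModuleCat.of R N)).hom (1 : R)
    let ε : TensorProduct R N M →ₗ[R] R := (ε_ (ModuleCat.of R M) (ModuleCat.of R N)).hom
    obtain ⟨S, hS⟩ := TensorProduct.exists_finset (η : TensorProduct R M N)
    let f : M →ₗ[R] (S → R) := LinearMap.pi fun p => ε ∘ₗ TensorProduct.mk R N M p.1.2
    let g : (S → R) →ₗ[R] M := ∑ p : S, (LinearMap.proj p).smulRight p.1.1
    have hgf : g.comp f = LinearMap.id := LinearMap.ext fun m => by
      have h := congrArg (fun t : (𝟙_ (ModuleCat.{u} R) ⊗ ModuleCat.of R M) ⟶ _ => t.hom ((1 : R) ⊗ₜ[R] m))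
        (ExactPairing.evaluation_coevaluation (ModuleCat.of R M) (ModuleCat.of R N))
      change (ModuleCat.of R M ◁ ε_ _ _).hom ((α_ (ModuleCat.of R M) (ModuleCat.of R N) (ModuleCat.of R M)).hom.hom
        ((η : TensorProduct R M N) ⊗ₜ[R] m)) = (ρ_ (ModuleCat.of R M)).inv.hom ((λ_ (ModuleCat.of R M)).hom.hom ((1 : R) ⊗ₜ[R] m)) at h
      replace h := congrArg (ρ_ (ModuleCat.of R M)).hom.hom h
      rw [hS] at h
      simp only [TensorProduct.sum_tmul, map_sum] at h
      have e : ∀ p : M × N, (ρ_ (ModuleCat.of R M)).hom.hom ((ModuleCat.of R M ◁ ε_ _ _).hom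
          ((α_ (ModuleCat.of R M) (ModuleCat.of R N) (ModuleCat.of R M)).hom.hom ((p.1 ⊗ₜ[R] p.2) ⊗ₜ[R] m))) =
          ε (p.2 ⊗ₜ[R] m) • p.1 := fun p => rfl
      simp only [e] at h
      refine (Eq.trans ?_ (h.trans ?_))
      · simpa [g, f] using Finset.sum_attach S fun p => ε (p.2 ⊗ₜ[R] m) • p.1
      · exact (congrArg (fun t : ModuleCat.of R M ⟶ ModuleCat.of R M => t.hom _) (ρ_ (ModuleCat.of R M)).inv_hom_id).trans (one_smul R m)
    have : Module.Projective R (S → R) := @Module.Projective.of_free _ _ _ _ _ (Module.Free.of_basis (Pi.basisFun R S))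
    exact ⟨Module.Finite.of_surjective g fun m => ⟨f m, LinearMap.congr_fun hgf m⟩, Module.Projective.of_split f g hgf⟩
  obtain ⟨h1, h2⟩ := key M N
  have := BraidedCategory.exactPairing_swap (ModuleCat.of R M) (ModuleCat.of R N)
  exact ⟨h1, h2, key N M⟩

end Groth.Agent.S7015
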