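import Groth.Statements.S7017
import Groth.Agent.DAlg.PCoh


set_option autoImplicit false
universe u
open CategoryTheory CategoryTheory.Limits
attribute [local instance] HasDerivedCategory.standard
open DRing

namespace Groth.Agent.S7017

open CategoryTheory.Pretriangulated in
/-- Let R be a commutative ring and K → L → M → K[1] a distinguished triangle in D(R). Whenever two of
K, L, M are pseudo-coherent (isomorphic in D(R) to bounded above complexes of finite free modules),
the remaining one is as well. -/
theorem result (R : Type u) [CommRing R] (T : Triangle (Dual.D R))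
    (hT : T ∈ distinguishedTriangles) :
    (DRing.IsPseudoCoherent' R T.obj₁ → DRing.IsPseudoCoherent' R T.obj₂ → DRing.IsPseudoCoherent' R T.obj₃) ∧
      (DRing.IsPseudoCoherent' R T.obj₁ → DRing.IsPseudoCoherent' R T.obj₃ → DRing.IsPseudoCoherent' R T.obj₂) ∧
      (DRing.IsPseudoCoherent' R T.obj₂ → DRing.IsPseudoCoherent' R T.obj₃ → DRing.IsPseudoCoherent' R T.obj₁) := by
  simp only [DAlg.isPseudoCoherent'_iff_isPC]
  have hA := DAlg.isAdditiveSub_finFree R
  have hqs := DAlg.isQuasiStable_finFree R
  have hql := DAlg.isQuasiLiftable_finFree R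
  refine ⟨fun h₁ h₂ n => PCohPunctual.PCn.cone hA hqs hql hT (h₁ _) (h₂ n),
    fun h₁ h₃ n => PCohPunctual.PCn.ext hA hqs hql hT (h₁ n) (h₃ n), fun h₂ h₃ n => ?_⟩
  exact sub_add_cancel n 1 ▸ PCohPunctual.PCn.fiber hA hqs hql hT (h₂ (n - 1 + 1)) (h₃ (n - 1))

end Groth.Agent.S7017
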