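import Groth.Statements.S7021
import Groth.Agent.DAlg.RelPC


set_option autoImplicit false
universe u
open CategoryTheory CategoryTheory.Limits
attribute [local instance] HasDerivedCategory.standard
open DerCA

namespace Groth.Agent.S7021

/-- Let R → A be a finite type homomorphism of commutative rings, α : R[x_1, ..., x_n] → A a surjective
R-algebra homomorphism and M an A-module. Then relative 0-pseudo-coherence of M over R amounts to M
being a finitely generated A-module, and relative (-1)-pseudo-coherence of M over R amounts to M
being finitely presented as an R[x_1, ..., x_n]-module through α. -/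
theorem result {R A : Type u} [CommRing R] [CommRing A]
    [Algebra R A] [Algebra.FiniteType R A] {n : ℕ} (α : MvPolynomial (Fin n) R →ₐ[R] A)
    (hα : Function.Surjective α) (M : Type u) [AddCommGroup M] [Module A M] :
    (DerCA.IsRelPseudoCoherentModule R A 0 M ↔ Module.Finite A M) ∧
      (DerCA.IsRelPseudoCoherentModule R A (-1) M ↔
        @Module.FinitePresentation (MvPolynomial (Fin n) R) M _ _ (Module.compHom M α.toRingHom)) := by
  letI := Module.compHom M α.toRingHom
  have hφ : ∀ k, DerCA.IsRelPseudoCoherentModule R A k M ↔
      PCohPunctual.PCn (DAlg.finFree (MvPolynomial (Fin n) R)) k (DAlg.mD (ModuleCat.of (MvPolynomial (Fin n) R) M)) :=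
    fun k => (DAlg.relPC_iff hα).trans ⟨fun h => h.of_iso (DAlg.resMDIso _ (ModuleCat.of A M)),
      fun h => h.of_iso (DAlg.resMDIso (α : MvPolynomial (Fin n) R →+* A) (ModuleCat.of A M)).symm⟩
  refine ⟨((hφ 0).trans (DAlg.pcn_zero_mD_iff _)).trans ⟨fun h => ?_, fun h => ?_⟩,
    (hφ (-1)).trans (DAlg.pcn_neg_one_mD_iff _)⟩
  · obtain ⟨s, hs⟩ := Module.Finite.fg_top (R := MvPolynomial (Fin n) R) (M := M)
    refine ⟨⟨s, eq_top_iff.2 fun x hxt => ?_⟩⟩
    clear hxt
    have hx : x ∈ Submodule.span (MvPolynomial (Fin n) R) (s : Set M) := by rw [hs]; trivial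
    induction hx using Submodule.span_induction with
    | mem y hy => exact Submodule.subset_span hy
    | zero => exact zero_mem _
    | add y z _ _ hy hz => exact add_mem hy hz
    | smul a y _ hy => exact Submodule.smul_mem _ (α a) hy
  · letI := α.toRingHom.toAlgebra
    haveI : IsScalarTower (MvPolynomial (Fin n) R) A M :=
      IsScalarTower.of_algebraMap_smul fun _ _ => rfl
    haveI : Module.Finite (MvPolynomial (Fin n) R) A :=
      Module.Finite.of_surjective (Algebra.linearMap (MvPolynomial (Fin n) R) A) hα
    exact Module.Finite.trans A M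

end Groth.Agent.S7021
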