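import Groth.Statements.S7022
import Groth.Agent.DAlg.RelPC


set_option autoImplicit false
universe u
open CategoryTheory CategoryTheory.Limits
attribute [local instance] HasDerivedCategory.standard
open DerCA

namespace Groth.Agent.S7022

/-- Let R → A be a finite type homomorphism of commutative rings, m an integer and K, L objects of the
derived category D(A). Whenever the direct sum K ⊕ L is pseudo-coherent relative to R in degree m,
both summands K and L are too; likewise, relative pseudo-coherence of K ⊕ L (in every degree) passes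
to K and to L. -/
theorem result {R A : Type u} [CommRing R] [CommRing A] [Algebra R A] [Algebra.FiniteType R A] (m : ℤ) (K L : Dual.D A) [HasBinaryBiproduct K L] :
    (DerCA.IsRelPseudoCoherent R A m (K ⊞ L) → DerCA.IsRelPseudoCoherent R A m K ∧ DerCA.IsRelPseudoCoherent R A m L) ∧
      (DerCA.IsRelPseudoCoherentAll R A (K ⊞ L) →
        DerCA.IsRelPseudoCoherentAll R A K ∧ DerCA.IsRelPseudoCoherentAll R A L) := by
  obtain ⟨n, α, hα⟩ := Algebra.FiniteType.iff_quotient_mvPolynomial''.mp ‹Algebra.FiniteType R A›
  let F := DRing.restrictD (α : MvPolynomial (Fin n) R →+* A)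
  haveI : HasBinaryBiproducts (Dual.D (MvPolynomial (Fin n) R)) := HasBinaryBiproducts.of_hasBinaryProducts
  haveI : PreservesBinaryBiproduct K L F := preservesBinaryBiproduct_of_preservesBiproduct F K L
  have key : ∀ k, DerCA.IsRelPseudoCoherent R A k (K ⊞ L) →
      DerCA.IsRelPseudoCoherent R A k K ∧ DerCA.IsRelPseudoCoherent R A k L := fun k h => by
    simp only [DAlg.relPC_iff hα] at h ⊢
    exact (PCohPunctual.pcn_biprod_iff (DAlg.isAdditiveSub_finFree _) (DAlg.isQuasiStable_finFree _)
      (DAlg.isQuasiLiftable_finFree _) k _ _).1 (h.of_iso (F.mapBiprod K L))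
  exact ⟨key m, fun h => ⟨fun k => (key k (h k)).1, fun k => (key k (h k)).2⟩⟩

end Groth.Agent.S7022
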