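import Groth.Statements.S7025
import Groth.Agent.DAlg.RelPCBaseChange


set_option autoImplicit false
universe u
open CategoryTheory CategoryTheory.Limits
attribute [local instance] HasDerivedCategory.standard
open DerCA

namespace Groth.Agent.S7025

/-- Let R → A → B be finite type homomorphisms of commutative rings such that B is A-flat and the
B-module B is pseudo-coherent relative to A. Let m be an integer and M an A-module. Whenever M is
m-pseudo-coherent relative to R, the B-module B ⊗_A M is again m-pseudo-coherent over R; likewise,
relative pseudo-coherence of M over R (in all degrees) passes to B ⊗_A M. -/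
theorem result {R A B : Type u} [CommRing R]
    [CommRing A] [CommRing B] [Algebra R A] [Algebra A B] [Algebra R B] [IsScalarTower R A B]
    [Algebra.FiniteType R A] [Algebra.FiniteType A B] [Module.Flat A B]
    (hB : DerCA.IsRelPseudoCoherentModuleAll A B B) (m : ℤ) (M : Type u) [AddCommGroup M] [Module A M] :
    (DerCA.IsRelPseudoCoherentModule R A m M → DerCA.IsRelPseudoCoherentModule R B m (TensorProduct A B M)) ∧
      (DerCA.IsRelPseudoCoherentModuleAll R A M →
        DerCA.IsRelPseudoCoherentModuleAll R B (TensorProduct A B M)) := by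
  haveI := DAlg.hasLBaseChange (algebraMap A B)
  obtain ⟨e⟩ := DAlg.nonempty_lBaseChange_mD (algebraMap A B) (RingHom.flat_algebraMap_iff.2 inferInstance)
    (ModuleCat.of A M)
  let e' := e ≪≫ (DerivedCategory.singleFunctor (ModuleCat.{u} B) 0).mapIso
    ((FlatCxBase.extendEquiv B (ModuleCat.of A M)).trans
      (LinearEquiv.refl B (TensorProduct A B M))).toModuleIso
  have key : ∀ j, DerCA.IsRelPseudoCoherentModule R A j M →
      DerCA.IsRelPseudoCoherentModule R B j (TensorProduct A B M) := fun j h => by
    obtain ⟨n, γ, hγ, hv⟩ := DAlg.relPC_lBaseChange hB (Dual.inD A M) h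
    exact ⟨n, γ, hγ, (DAlg.via_iff γ).2 (((DAlg.via_iff γ).1 hv).of_iso ((DRing.restrictD _).mapIso e'))⟩
  exact ⟨key m, fun h j => key j (h j)⟩

end Groth.Agent.S7025
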