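import Groth.Statements.S7026
import Groth.Agent.DAlg.RelPC
import Groth.Agent.S6942


set_option autoImplicit false
universe u
open CategoryTheory CategoryTheory.Limits
attribute [local instance] HasDerivedCategory.standard
open DerCA

namespace Groth.Agent.S7026

/-- Let R be a Noetherian commutative ring, R → A a finite type ring homomorphism, m an integer, K an
object of D(A) and M an A-module. Then: m-pseudo-coherence of K relative to R is equivalent to
H^i(K) vanishing for all large i together with H^i(K) being a finitely generated A-module for each i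
≥ m; pseudo-coherence of K relative to R (every degree) is equivalent to the same with H^i(K)
finitely generated for every i; and the A-module M is pseudo-coherent relative to R exactly when M
is finitely generated. -/
theorem result {R A : Type u} [CommRing R]
    [IsNoetherianRing R] [CommRing A] [Algebra R A] [Algebra.FiniteType R A] (m : ℤ) (K : Dual.D A)
    (M : Type u) [AddCommGroup M] [Module A M] :
    (DerCA.IsRelPseudoCoherent R A m K ↔
      (∃ b : ℤ, ∀ i : ℤ, b < i → Subsingleton (Dual.HD A K i)) ∧ ∀ i : ℤ, m ≤ i → Module.Finite A (Dual.HD A K i)) ∧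
    (DerCA.IsRelPseudoCoherentAll R A K ↔
      (∃ b : ℤ, ∀ i : ℤ, b < i → Subsingleton (Dual.HD A K i)) ∧ ∀ i : ℤ, Module.Finite A (Dual.HD A K i)) ∧
    (DerCA.IsRelPseudoCoherentModuleAll R A M ↔ Module.Finite A M) := by
  obtain ⟨n, α, hα⟩ := Algebra.FiniteType.iff_quotient_mvPolynomial''.mp ‹Algebra.FiniteType R A›
  let P := MvPolynomial (Fin n) R
  let φ : P →+* A := α
  letI := φ.toAlgebra
  haveI : Module.Finite P A := Module.Finite.of_surjective (Algebra.linearMap P A) hα
  have hfin : ∀ (N : ModuleCat.{u} A), Module.Finite P ((ModuleCat.restrictScalars φ).obj N) ↔ Module.Finite A N :=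
    fun N => by
      letI : Module P N := Module.compHom N φ
      haveI : IsScalarTower P A N := IsScalarTower.of_algebraMap_smul fun _ _ => rfl
      exact ⟨fun h => Module.Finite.of_restrictScalars_finite (R := P) (A := A) (M := N) (hM := h),
        fun h => (Module.Finite.trans A N : Module.Finite P N)⟩
  have hHD : ∀ i, Module.Finite P (Dual.HD P ((DRing.restrictD φ).obj K) i) ↔ Module.Finite A (Dual.HD A K i) :=
    fun i => by
      obtain ⟨e⟩ := DerComplete.nonempty_HD_restrictD_iso φ K i
      exact ⟨fun h => (hfin _).1 (@Module.Finite.equiv _ _ _ _ _ _ _ _ h e.toLinearEquiv),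
        fun h => @Module.Finite.equiv _ _ _ _ _ _ _ _ ((hfin _).2 h) e.toLinearEquiv.symm⟩
  have key : ∀ k, DerCA.IsRelPseudoCoherent R A k K ↔
      (∃ b : ℤ, ∀ i : ℤ, b < i → Subsingleton (Dual.HD A K i)) ∧ ∀ i : ℤ, k ≤ i → Module.Finite A (Dual.HD A K i) :=
    fun k => by
      rw [DAlg.relPC_iff hα, ← DAlg.isPseudoCoherent_iff,
        (Groth.Agent.S6942.result P k ((DRing.restrictD φ).obj K) A).1]
      simp only [hHD, DAlg.resHD_subsingleton_iff φ K]
  refine ⟨key m, ⟨fun h => ⟨((key 0).1 (h 0)).1, fun i => ((key i).1 (h i)).2 i le_rfl⟩,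
    fun ⟨hb, hf⟩ k => (key k).2 ⟨hb, fun i _ => hf i⟩⟩, ⟨fun h => ?_, fun h k => ?_⟩⟩
  · have h0 := (DAlg.relPC_iff hα).1 (h 0)
    exact (hfin (ModuleCat.of A M)).1 ((DAlg.pcn_zero_mD_iff _).1 (h0.of_iso (DAlg.resMDIso φ (ModuleCat.of A M))))
  · refine (DAlg.relPC_iff hα).2 (PCohPunctual.PCn.of_iso ?_ (DAlg.resMDIso φ (ModuleCat.of A M)).symm)
    exact DAlg.isPC_single_of_finite P _ ((hfin (ModuleCat.of A M)).2 h) k

end Groth.Agent.S7026
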