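import Groth.Statements.S7030
import Groth.Agent.DAlg.PCoh


set_option autoImplicit false
universe u
open CategoryTheory CategoryTheory.Limits
attribute [local instance] HasDerivedCategory.standard
open DRing

namespace Groth.Agent.S7030

/-- Let R be a commutative ring such that the derived tensor product - ⊗^L_R M exists on D(R) for every
R-module M, and let K be an object of D(R) whose cohomology vanishes outside a bounded range of
degrees and whose cohomology modules H^i(K) are all perfect R-modules. Then K is a perfect object of
D(R). -/
theorem result (R : Type u) [CommRing R] [∀ M : ModuleCat.{u} R, DRing.HasLTensor R M] (K : Dual.D R)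
    (hb : ∃ a b : ℤ, ∀ i : ℤ, (i < a ∨ b < i) → Subsingleton (Dual.HD R K i))
    (hK : ∀ i : ℤ, DRing.IsPerfectModule R (Dual.HD R K i)) : DRing.IsPerfect R K := by
  obtain ⟨a, b, hb⟩ := hb
  exact DAlg.bounded_homology_induction (DRing.IsPerfect R) (fun _ _ e h => DAlg.IsPerfect.of_iso h e)
    (fun _ hT => DAlg.IsPerfect.ext hT) (fun _ => DAlg.IsPerfect.of_isZero) K a b
    (fun i hi => ModuleCat.isZero_iff_subsingleton.2 (hb i hi))
    fun i => DAlg.IsPerfect.of_iso (DAlg.IsPerfect.shift (hK i) (-i)) (DAlg.singleShift _ i)

end Groth.Agent.S7030
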