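import Groth.Statements.S7031
import Groth.Agent.S6962
import Groth.Agent.DAlg.PCoh
import Groth.Agent.DAlg.Classes
import Groth.Agent.DAlg.ProjAmp


set_option autoImplicit false
universe u
open CategoryTheory CategoryTheory.Limits
attribute [local instance] HasDerivedCategory.standard
open DRing
open CategoryTheory.Limits CategoryTheory.Pretriangulated

namespace Groth.Agent.S7031

/-- Let R be a regular commutative ring (Noetherian, with regular local rings at all primes) such that
the derived tensor product - ⊗^L_R M exists on D(R) for every R-module M, and let K be an object of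
D(R). Then K is perfect if and only if H^i(K) = 0 outside a bounded range of degrees and every
H^i(K) is a finitely generated R-module. -/
theorem result (R : Type u) [CommRing R] [IsNoetherianRing R]
    (hreg : ∀ p : PrimeSpectrum R, IsRegularLocalRing (Localization.AtPrime p.asIdeal)) [∀ M : ModuleCat.{u} R, DRing.HasLTensor R M] (K : Dual.D R) :
    DRing.IsPerfect R K ↔
      (∃ a b : ℤ, ∀ i : ℤ, (i < a ∨ b < i) → Subsingleton (Dual.HD R K i)) ∧ ∀ i : ℤ, Module.Finite R (Dual.HD R K i) := by
  constructor
  · intro h
    refine ⟨?_, fun i => DAlg.finite_HD_of_isPseudoCoherent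
      ((DAlg.isPseudoCoherent'_iff_forall.1 (DAlg.IsPerfect.isPseudoCoherent' h)) i) le_rfl⟩
    obtain ⟨E, a, b, hE, -, ⟨e⟩⟩ := h
    refine ⟨a, b, fun i hi => ?_⟩
    have := DAlg.subsingleton_HD_toD (E := E) (i := i) (DAlg.isZero_homology_of_isZero_X (hE i hi))
    exact (DAlg.HDCongr e i).symm.toEquiv.subsingleton
  · rintro ⟨⟨a, b, hz⟩, hfin⟩
    suffices key : ∀ (n : ℕ) (K : Dual.D R) (a : ℤ), (∀ i, (i < a ∨ a + n ≤ i) → Subsingleton (Dual.HD R K i)) →
        (∀ i, Module.Finite R (Dual.HD R K i)) → DRing.IsPerfect R K from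
      key (b + 1 - a).toNat K a (fun i hi => hz i (by omega)) hfin
    intro n
    induction n with
    | zero =>
      intro K a h _
      refine DAlg.IsPerfect.of_isZero ?_
      have : K.IsLE (a - 1) := (DerivedCategory.isLE_iff K _).2 fun i hi =>
        @ModuleCat.isZero_of_subsingleton _ _ _ (h i (by omega))
      have : K.IsGE a := (DerivedCategory.isGE_iff K _).2 fun i hi =>
        @ModuleCat.isZero_of_subsingleton _ _ _ (h i (Or.inl hi))
      exact DerivedCategory.TStructure.t.isZero K (a - 1) a (by omega)
    | succ n ih =>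
      intro K a h hK
      set c := a + (n : ℤ) with hc
      let T := ((DAlg.tD R).triangleLTGE c).obj K
      have hT : T ∈ distinguishedTriangles := (DAlg.tD R).triangleLTGE_distinguished c K
      have hLE : DerivedCategory.IsLE T.obj₁ (c - 1) := (DAlg.tD R).isLE_truncLT_obj K c _ (by omega)
      have hGE : DerivedCategory.IsGE T.obj₃ c := (DAlg.tD R).isGE_truncGE_obj K c _ le_rfl
      let H := DerivedCategory.homologyFunctor (ModuleCat.{u} R)
      have hup : ∀ i, c + 1 ≤ i → IsZero ((H i).obj T.obj₃) := fun i hi =>
        (DerivedCategory.HomologySequence.exact₃ T hT i (i + 1)).isZero_of_both_zeros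
          ((@ModuleCat.isZero_of_subsingleton _ _ _ (h i (by omega))).eq_of_src _ _)
          ((DerivedCategory.isZero_of_isLE T.obj₁ (c - 1) (i + 1) (by omega)).eq_of_tgt _ _)
      have hGE' : DerivedCategory.IsLE T.obj₃ c := (DerivedCategory.isLE_iff _ _).2 fun i hi => hup i (by omega)
      have hf₁ : ∀ i, Module.Finite R (Dual.HD R T.obj₁ i) := fun i => by
        rcases lt_or_ge (c - 1) i with hi | hi
        · have := ModuleCat.subsingleton_of_isZero (DerivedCategory.isZero_of_isLE T.obj₁ (c - 1) i hi)
          exact inferInstanceAs (Module.Finite R ((H i).obj T.obj₁))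
        have hz : IsZero ((H (i - 1)).obj T.obj₃) := DerivedCategory.isZero_of_isGE T.obj₃ c (i - 1) (by omega)
        have : Mono ((H i).map T.mor₁) :=
          (DerivedCategory.HomologySequence.mono_homologyMap_mor₁_iff T hT (i - 1) i).2 (hz.eq_of_src _ _)
        have : Module.Finite R ((H i).obj T.obj₂) := hK i
        have : IsNoetherian R ((H i).obj T.obj₂) := isNoetherian_of_isNoetherianRing_of_finite R _
        exact Module.Finite.of_injective ((H i).map T.mor₁).hom ((ModuleCat.mono_iff_injective _).1 inferInstance)
      have hf₃ : Module.Finite R (Dual.HD R T.obj₃ c) := by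
        have hz : IsZero ((H (c + 1)).obj T.obj₁) := DerivedCategory.isZero_of_isLE T.obj₁ (c - 1) (c + 1) (by omega)
        have : Epi ((H c).map T.mor₂) :=
          (DerivedCategory.HomologySequence.epi_homologyMap_mor₂_iff T hT c (c + 1)).2 (hz.eq_of_tgt _ _)
        have : Module.Finite R ((H c).obj T.obj₂) := hK c
        exact Module.Finite.of_surjective ((H c).map T.mor₂).hom ((ModuleCat.epi_iff_surjective _).1 inferInstance)
      refine DAlg.IsPerfect.ext hT ?_ ?_
      · refine ih T.obj₁ a (fun i hi => ?_) hf₁
        rcases hi with hi | hi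
        · have hz : IsZero ((H (i - 1)).obj T.obj₃) := DerivedCategory.isZero_of_isGE T.obj₃ c (i - 1) (by omega)
          have : Mono ((H i).map T.mor₁) :=
            (DerivedCategory.HomologySequence.mono_homologyMap_mor₁_iff T hT (i - 1) i).2 (hz.eq_of_src _ _)
          exact ModuleCat.subsingleton_of_isZero (IsZero.of_mono ((H i).map T.mor₁)
            (@ModuleCat.isZero_of_subsingleton _ _ _ (h i (Or.inl hi))))
        · exact ModuleCat.subsingleton_of_isZero (DerivedCategory.isZero_of_isLE T.obj₁ (c - 1) i (by omega))
      · obtain ⟨Y, ⟨e⟩⟩ := DerivedCategory.exists_iso_singleFunctor_obj_of_isGE_of_isLE T.obj₃ c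
        have hY : Module.Finite R Y := Module.Finite.equiv ((DAlg.HDCongr e c).trans
          ((DerivedCategory.singleFunctorCompHomologyFunctorIso (ModuleCat.{u} R) c).app Y).toLinearEquiv)
        exact DAlg.IsPerfect.of_iso (DAlg.IsPerfect.shift ((S6962.result R hreg Y).2 hY) (-c))
          (DAlg.singleShift Y c ≪≫ e.symm)

end Groth.Agent.S7031
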