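import Groth.Statements.S7032
import Groth.Agent.DAlg.TorAmp


set_option autoImplicit false
universe u
open CategoryTheory CategoryTheory.Limits
attribute [local instance] HasDerivedCategory.standard
open DRing

namespace Groth.Agent.S7032

/-- Let R be a commutative ring such that the derived tensor product - ⊗^L_R M exists on D(R) for every
R-module M, let a, b be integers and K a bounded cochain complex of R-modules such that for every i
the module K^i (placed in degree 0) has tor amplitude in [a - i, b - i]. Then K has tor amplitude in
[a, b]. -/
theorem result (R : Type u) [CommRing R] [∀ M : ModuleCat.{u} R, DRing.HasLTensor R M] (a b : ℤ) (K : DRing.Cx R)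
    (c d : ℤ) (hcd : DRing.VanishesOutside K c d)
    (hK : ∀ i : ℤ, DRing.HasTorAmplitudeIn R (a - i) (b - i) (Dual.inD R (K.X i))) :
    DRing.HasTorAmplitudeIn R a b (DRing.toD K) := by
  refine DAlg.bounded_induction (fun X => DRing.HasTorAmplitudeIn R a b X)
    (fun X Y e h => DAlg.TorAmp.of_iso h e) (fun T hT h1 h3 => DAlg.TorAmp.ext hT h1 h3)
    (fun X hX => DAlg.TorAmp.of_isZero hX a b) K c d hcd fun i => ?_
  have h := DAlg.TorAmp.shift (hK i) (-i)
  rw [show a - i - -i = a by omega, show b - i - -i = b by omega] at h
  exact DAlg.TorAmp.of_iso h (DAlg.singleShift (K.X i) i)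

end Groth.Agent.S7032
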