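import Groth.Statements.S7035
import Groth.Agent.DerivedCoh.RelAmp.FibreDim

set_option autoImplicit false
set_option linter.style.haveILetI false
universe u
open CategoryTheory CategoryTheory.Limits
attribute [local instance] HasDerivedCategory.standard
open DRing

namespace Groth.Agent.S7035

/-- Let A → B be a flat homomorphism of commutative rings and d a natural number such that for every
prime p of A, with residue field κ(p), every module over κ(p) ⊗_A B has projective dimension at most
d; assume the derived tensor products - ⊗^L M exist on D(κ(p) ⊗_A B) for all p and the derived base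
changes D(B) → D(B/m) exist for all ideals m of B. Let a, b be integers and K an object of D(B)
which is pseudo-coherent over B and, with scalars restricted to A, has tor amplitude in [a, b]. Then
K is perfect over B and has tor amplitude in [a - d, b] over B. -/
theorem result {A B : Type u} [CommRing A] [CommRing B] [Algebra A B]
    [Module.Flat A B] (d : ℕ)
    (hgl : ∀ (p : PrimeSpectrum A) (M : Type u) [AddCommGroup M]
      [Module (TensorProduct A p.asIdeal.ResidueField B) M],
      HasProjectiveDimensionLT (ModuleCat.of (TensorProduct A p.asIdeal.ResidueField B) M) (d + 1))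
    [∀ (p : PrimeSpectrum A) (M : ModuleCat.{u} (TensorProduct A p.asIdeal.ResidueField B)),
      DRing.HasLTensor (TensorProduct A p.asIdeal.ResidueField B) M]
    [∀ m : Ideal B, DRing.HasLBaseChange (Ideal.Quotient.mk m)] (a b : ℤ) (K : Dual.D B)
    (hK : DRing.IsPseudoCoherent' B K)
    (hKa : DRing.HasTorAmplitudeIn A a b ((DRing.restrictD (algebraMap A B)).obj K)) :
    DRing.IsPerfect B K ∧ DRing.HasTorAmplitudeIn B (a - d) b K := by
  open Groth.DAlg Groth.DerivedCoh.RelAmp in
  obtain ⟨F, N, hN, hFF, ⟨e⟩⟩ := id hK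
  have hF : DRing.TermwiseFiniteProjective F := fun i => ⟨(hFF i).1, haveI := (hFF i).2; inferInstance⟩
  have hfl : DRing.TermwiseFlat F := fun i => haveI := (hFF i).2; inferInstance
  suffices hamp : DRing.HasTorAmplitudeIn B (a - d) b K from ⟨isPerfect_iff.2 ⟨hK, a - d, b, hamp⟩, hamp⟩
  let X := (DRing.restrictCx (algebraMap A B)).obj F
  have hX : DRing.HasTorAmplitudeIn A a b (DRing.toD X) :=
    TorAmp.of_iso hKa ((DRing.restrictD (algebraMap A B)).mapIso e.symm ≪≫ resQIso _ F)
  refine TorAmp.of_iso (torAmp_of_fibreRings F hN hF d a b fun m hm => ?_) e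
  let p : PrimeSpectrum A := PrimeSpectrum.comap (algebraMap A B) ⟨m, hm.isPrime⟩
  let κ := p.asIdeal.ResidueField
  letI := Algebra.TensorProduct.rightAlgebra (R := A) (A := κ) (B := B)
  letI : Field (B ⧸ m) := Ideal.Quotient.field m
  let q : A →ₐ[A] B ⧸ m := Algebra.ofId A (B ⧸ m)
  let l : κ →ₐ[A] B ⧸ m := Ideal.ResidueField.liftₐ p.asIdeal q
    (fun x hx => by
      show algebraMap A (B ⧸ m) x = 0
      rw [IsScalarTower.algebraMap_apply A B (B ⧸ m)]
      exact Ideal.Quotient.eq_zero_iff_mem.2 hx)
    (fun x hx => by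
      show IsUnit (algebraMap A (B ⧸ m) x)
      rw [IsScalarTower.algebraMap_apply A B (B ⧸ m)]
      exact isUnit_iff_ne_zero.2 fun h => hx (show algebraMap A B x ∈ m from Ideal.Quotient.eq_zero_iff_mem.1 h))
  let φ : TensorProduct A κ B →ₐ[A] B ⧸ m :=
    Algebra.TensorProduct.lift l (IsScalarTower.toAlgHom A B (B ⧸ m)) fun _ _ => .all _ _
  haveI : Algebra.IsPushout A κ B (TensorProduct A κ B) := inferInstance
  refine ⟨_, inferInstance, inferInstance, φ.toRingHom, ?_,
    fun M => torAmp_of_projectiveDimension d M (hgl p M), fun i hi => ?_⟩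
  · refine RingHom.ext fun r => ?_
    show φ ((1 : κ) ⊗ₜ[A] r) = _
    simp [φ]
  · refine isZero_extCx_of_res (A := A) (A₀ := κ) F ?_
    refine (isZero_extCx_iff (S := κ) X i).2 (isZero_of_torAmplitude X
      (fun j hj => (ModuleCat.restrictScalars _).map_isZero (hN j hj)) (termwiseFlat_restrictCx hfl) hX
      (ModuleCat.of A κ) i hi)

end Groth.Agent.S7035
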