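import Groth.Statements.S7036
import Groth.Agent.DAlg.PCoh
import Groth.Agent.DerivedCoh.KInj.Products

set_option autoImplicit false
universe u
open CategoryTheory CategoryTheory.Limits
attribute [local instance] HasDerivedCategory.standard
open DRing

namespace Groth.Agent.S7036

open CategoryTheory.Pretriangulated

section

variable {R : Type u} [CommRing R]

private lemma fid_iso {K L : Dual.D R} (h : DRing.HasFiniteInjDim R K) (e : K ≅ L) :
    DRing.HasFiniteInjDim R L := by
  obtain ⟨a, b, E, hE, hI, ⟨e'⟩⟩ := h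
  exact ⟨a, b, E, hE, hI, ⟨e' ≪≫ e⟩⟩

private lemma fid_shift {K : Dual.D R} (h : DRing.HasFiniteInjDim R K) (m : ℤ) :
    DRing.HasFiniteInjDim R (K⟦m⟧) := by
  obtain ⟨a, b, E, hE, hI, ⟨e⟩⟩ := h
  exact ⟨a - m, b - m, (CategoryTheory.shiftFunctor (DRing.Cx R) m).obj E,
    fun i hi => hE (i + m) (by omega), fun i => hI (i + m),
    ⟨(DerivedCategory.Q.commShiftIso m).app E ≪≫ (CategoryTheory.shiftFunctor (Dual.D R) m).mapIso e⟩⟩

private lemma fid_zero (K : Dual.D R) (h : IsZero K) : DRing.HasFiniteInjDim R K :=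
  ⟨0, 0, HomologicalComplex.zero, fun i _ => PCohPunctual.isZero_zeroComplex_X i,
    fun i => haveI : Injective (ModuleCat.of R ((HomologicalComplex.zero : DRing.Cx R).X i)) :=
        IsZero.injective (PCohPunctual.isZero_zeroComplex_X (C := ModuleCat.{u} R) i)
      Module.injective_module_of_injective_object R _,
    ⟨(DAlg.isZero_Q_obj fun i => PCohPunctual.isZero_zeroComplex_X i).iso h⟩⟩

private lemma fid_cone {T : Triangle (Dual.D R)} (hT : T ∈ distinguishedTriangles)
    (h₁ : DRing.HasFiniteInjDim R T.obj₁) (h₂ : DRing.HasFiniteInjDim R T.obj₂) :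
    DRing.HasFiniteInjDim R T.obj₃ := by
  obtain ⟨a, b, E, hE, hI, ⟨e₁⟩⟩ := h₁
  obtain ⟨c, d, F, hF, hJ, ⟨e₂⟩⟩ := h₂
  haveI : F.IsStrictlyGE c := (CochainComplex.isStrictlyGE_iff _ _).2 fun i hi => hF i (Or.inl hi)
  haveI : ∀ n, Injective (F.X n) := fun n => haveI := hJ n; Module.injective_object_of_injective_module R _
  haveI := CochainComplex.isKInjective_of_injective F c
  obtain ⟨g, hg⟩ := DerivedCoh.KInjRes.Q_map_surjective E F (e₁.hom ≫ T.mor₁ ≫ e₂.inv)
  refine ⟨min (a - 1) c, max (b - 1) d, CochainComplex.mappingCone g, fun i hi => ?_, fun i => ?_,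
    ⟨Triangle.π₃.mapIso (Pretriangulated.isoTriangleOfIso₁₂ _ T
      (DerivedCategory.mappingCone_triangle_distinguished g) hT e₁ e₂ (by
        change DerivedCategory.Q.map g ≫ e₂.hom = e₁.hom ≫ T.mor₁
        rw [hg]; simp))⟩⟩
  · rw [CochainComplex.mappingCone.isZero_X_iff]
    exact ⟨hE _ (by omega), hF _ (by omega)⟩
  · haveI : Injective (E.X (i + 1)) := haveI := hI (i + 1); Module.injective_object_of_injective_module R _
    haveI : Injective (ModuleCat.of R ((CochainComplex.mappingCone g).X i)) :=
      Injective.of_iso (HomologicalComplex.homotopyCofiber.XIsoBiprod g i (i + 1) rfl).symm inferInstance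
    exact Module.injective_module_of_injective_object R _

private lemma fid_ext (T : Triangle (Dual.D R)) (hT : T ∈ distinguishedTriangles)
    (h₁ : DRing.HasFiniteInjDim R T.obj₁) (h₃ : DRing.HasFiniteInjDim R T.obj₃) :
    DRing.HasFiniteInjDim R T.obj₂ :=
  fid_cone (inv_rot_of_distTriang T hT) (fid_shift h₃ (-1)) h₁

private lemma fid_single {M : ModuleCat.{u} R} (h : DRing.HasFiniteInjDim R (Dual.inD R M)) (i : ℤ) :
    DRing.HasFiniteInjDim R ((DerivedCategory.singleFunctor (ModuleCat.{u} R) i).obj M) :=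
  fid_iso (fid_shift h (-i)) (DAlg.singleShift M i)

end

/-- Let R be a commutative ring. (1) If K is an object of D(R) whose cohomology vanishes outside a
bounded range and every cohomology module H^i(K), placed in degree 0, has finite injective
dimension, then K has finite injective dimension. (2) If K is a bounded cochain complex of R-modules
and every term K^i, placed in degree 0, has finite injective dimension, then K has finite injective
dimension. -/
theorem result (R : Type u) [CommRing R] :
    (∀ (K : Dual.D R), (∃ a b : ℤ, ∀ i : ℤ, (i < a ∨ b < i) → Subsingleton (Dual.HD R K i)) →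
        (∀ i : ℤ, DRing.HasFiniteInjDim R (Dual.inD R (Dual.HD R K i))) → DRing.HasFiniteInjDim R K) ∧
      (∀ (K : DRing.Cx R) (a b : ℤ), DRing.VanishesOutside K a b →
        (∀ i : ℤ, DRing.HasFiniteInjDim R (Dual.inD R (K.X i))) → DRing.HasFiniteInjDim R (DRing.toD K)) := by
  refine ⟨fun K ⟨a, b, hK⟩ h => ?_, fun K a b hK h => ?_⟩
  · exact DAlg.bounded_homology_induction (Φ := fun X => DRing.HasFiniteInjDim R X)
      (fun _ _ e h' => fid_iso h' e) fid_ext fid_zero K a b
      (fun i hi => ModuleCat.isZero_iff_subsingleton.2 (hK i hi)) fun i => fid_single (h i) i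
  · exact DAlg.bounded_induction (Φ := fun X => DRing.HasFiniteInjDim R X)
      (fun _ _ e h' => fid_iso h' e) fid_ext fid_zero K a b hK fun i => fid_single (h i) i

end Groth.Agent.S7036
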