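import Groth.Statements.S7038
import Groth.Agent.LocCohBase.Torsion

set_option autoImplicit false
universe u
open LocCoh

namespace Groth.Agent.S7038

/-- For an ideal I of a commutative ring R and an R-module M, if every element of M is killed by a power
of I then the support of M is contained in the closed set V(I); conversely, when I is finitely
generated and the support of M is contained in V(I), every element of M is killed by a power of I.
(Finite generation is used only for the converse.) -/
theorem result {R : Type u} [CommRing R] (I : Ideal R)
    (M : Type u) [AddCommGroup M] [Module R M] :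
    (LocCoh.IsPowerTorsion I M → Module.support R M ⊆ PrimeSpectrum.zeroLocus (I : Set R)) ∧
    (I.FG → Module.support R M ⊆ PrimeSpectrum.zeroLocus (I : Set R) → LocCoh.IsPowerTorsion I M) := by
  constructor
  · intro h p hp
    obtain ⟨m, hm⟩ := Module.mem_support_iff_exists_annihilator.1 hp
    obtain ⟨n, hn⟩ := h m
    intro a ha
    refine p.2.mem_of_pow_mem n (hm ?_)
    simpa [Submodule.mem_annihilator_span_singleton] using hn _ (Ideal.pow_mem_pow ha n)
  · intro hfg h m
    have hrad : I ≤ ((R ∙ m).annihilator).radical := by
      rw [Ideal.radical_eq_sInf]
      refine le_sInf fun J hJ => ?_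
      exact h ((Module.mem_support_iff_exists_annihilator (p := ⟨J, hJ.2⟩)).2 ⟨m, hJ.1⟩)
    obtain ⟨n, hn⟩ := Ideal.exists_pow_le_of_le_radical_of_fg hrad hfg
    exact ⟨n, fun a ha => (Submodule.mem_annihilator_span_singleton m a).1 (hn ha)⟩

end Groth.Agent.S7038
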