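import Groth.Statements.S7039
import Groth.Agent.LocCohBase.Torsion

set_option autoImplicit false
universe u
open LocCoh

namespace Groth.Agent.S7039

/-- For a finitely generated ideal I of a commutative ring R and any R-module M, the quotient of M by
its submodule of I-power torsion elements has no nonzero element annihilated by I. -/
theorem result {R : Type u} [CommRing R] (I : Ideal R) (hI : I.FG)
    (M : Type u) [AddCommGroup M] [Module R M] :
    LocCoh.torsionBy I (M ⧸ DRing.torsionSub I M) = ⊥ := by
  refine le_bot_iff.1 fun x hx => ?_
  rw [← Groth.LocCohBase.torsionSub_quotient_eq_bot hI M]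
  exact ⟨1, fun a ha => Submodule.mem_torsionBySet_iff _ _ |>.1 hx ⟨a, pow_one I ▸ ha⟩⟩

end Groth.Agent.S7039
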