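import Groth.Statements.S7040
import Groth.Agent.LocCohBase.Torsion

set_option autoImplicit false
universe u
open CategoryTheory
open LocCoh

namespace Groth.Agent.S7040

/-- For a finitely generated ideal I of a commutative ring R, the property of being an I-power torsion
module (every element killed by a power of I) is a Serre class in the category of R-modules: it
holds for 0 and is closed under subobjects, quotients and extensions. -/
theorem result {R : Type u} [CommRing R] (I : Ideal R) (hI : I.FG) :
    ObjectProperty.IsSerreClass (C := ModuleCat.{u} R) (fun M => LocCoh.IsPowerTorsion I M) := by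
  refine
    { exists_zero := ⟨ModuleCat.of R PUnit.{u+1}, ModuleCat.isZero_of_subsingleton _,
        fun m => ⟨0, fun a _ => Subsingleton.elim _ _⟩⟩
      prop_of_mono := fun {X Y} f _ hY => ?_
      prop_of_epi := fun {X Y} f _ hX => ?_
      prop_X₂_of_shortExact := fun {S} hS h1 h3 => ?_ }
  · intro m
    obtain ⟨n, hn⟩ := hY (f m)
    refine ⟨n, fun a ha => (ModuleCat.mono_iff_injective f).1 inferInstance ?_⟩
    rw [map_smul, hn a ha, map_zero]
  · intro y
    obtain ⟨x, rfl⟩ := (ModuleCat.epi_iff_surjective f).1 inferInstance y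
    obtain ⟨n, hn⟩ := hX x
    exact ⟨n, fun a ha => by rw [← map_smul, hn a ha, map_zero]⟩
  · intro m
    have hex := (ShortComplex.ShortExact.moduleCat_exact_iff_function_exact S).1 hS.exact
    have hbot := Groth.LocCohBase.torsionSub_quotient_eq_bot hI S.X₂
    obtain ⟨n, hn⟩ := h3 (S.g m)
    have hm : Submodule.Quotient.mk (p := DRing.torsionSub I S.X₂) m ∈
        DRing.torsionSub I (S.X₂ ⧸ DRing.torsionSub I S.X₂) := by
      refine ⟨n, fun a ha => ?_⟩
      rw [← Submodule.Quotient.mk_smul, Submodule.Quotient.mk_eq_zero]
      obtain ⟨x, hx⟩ := (hex (a • m)).1 (by rw [map_smul, hn a ha])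
      obtain ⟨k, hk⟩ := h1 x
      exact ⟨k, fun b hb => by rw [← hx, ← map_smul, hk b hb, map_zero]⟩
    rw [hbot, Submodule.mem_bot, Submodule.Quotient.mk_eq_zero] at hm
    exact hm

end Groth.Agent.S7040
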