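import Groth.Statements.S7041
import Groth.Agent.LocCohBase.Torsion

set_option autoImplicit false
universe u
open TensorProduct
open LocCoh

namespace Groth.Agent.S7041

/-- Let R → R' be a homomorphism of commutative rings and I an ideal of R such that the induced map
R/I^n → R'/I^n R' is bijective for every n > 0. Then for every R-module M in which every element is
killed by a power of I, the map M → R' ⊗_R M sending m to 1 ⊗ m is bijective. -/
theorem result {R R' : Type u} [CommRing R] [CommRing R'] [Algebra R R']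
    (I : Ideal R)
    (hq : ∀ n : ℕ, 0 < n → Function.Bijective
      (Ideal.quotientMap (Ideal.map (algebraMap R R') (I ^ n)) (algebraMap R R') Ideal.le_comap_map))
    (M : Type u) [AddCommGroup M] [Module R M] (hM : LocCoh.IsPowerTorsion I M) :
    Function.Bijective (fun m : M => (1 : R') ⊗ₜ[R] m) := by
  -- `v` is the value at `(r', m)` of the inverse
  let φ : R →+* R' := algebraMap R R'
  have hsurj : ∀ (n : ℕ), 0 < n → ∀ r' : R', ∃ r : R, r' - φ r ∈ (I ^ n).map φ := by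
    intro n hn r'
    obtain ⟨x, hx⟩ := (hq n hn).2 (Ideal.Quotient.mk _ r')
    obtain ⟨r, rfl⟩ := Ideal.Quotient.mk_surjective x
    refine ⟨r, ?_⟩
    rw [Ideal.quotientMap_mk, Ideal.Quotient.eq] at hx
    rw [← neg_sub]
    exact neg_mem hx
  have hinj : ∀ (n : ℕ), 0 < n → ∀ r : R, φ r ∈ (I ^ n).map φ → r ∈ I ^ n := by
    intro n hn r hr
    rw [← Ideal.Quotient.eq_zero_iff_mem]
    apply (hq n hn).1
    rw [Ideal.quotientMap_mk, map_zero, Ideal.Quotient.eq_zero_iff_mem]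
    exact hr
  have hN : ∀ m : M, ∃ n, 0 < n ∧ ∀ a ∈ I ^ n, a • m = 0 := fun m => by
    obtain ⟨n, hn⟩ := hM m
    exact ⟨n + 1, n.succ_pos, fun a ha => hn a (Ideal.pow_le_pow_right n.le_succ ha)⟩
  have hwd : ∀ (m : M) (r' : R') (n k : ℕ), 0 < n → n ≤ k → (∀ a ∈ I ^ n, a • m = 0) →
      ∀ r s : R, r' - φ r ∈ (I ^ n).map φ → r' - φ s ∈ (I ^ k).map φ → r • m = s • m := by
    intro m r' n k hn hnk hm r s hr hs
    rw [← sub_eq_zero, ← sub_smul]
    refine hm _ (hinj n hn _ ?_)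
    have := sub_mem (Ideal.map_mono (Ideal.pow_le_pow_right hnk) hs) hr
    simpa using this
  choose N hN0 hN' using hN
  choose ρ hρ using hsurj
  let ψ : R' → M → M := fun r' m => ρ (N m) (hN0 m) r' • m
  have hψ : ∀ (r' : R') (m : M) (n : ℕ), 0 < n → (∀ a ∈ I ^ n, a • m = 0) →
      ∀ r : R, r' - φ r ∈ (I ^ n).map φ → ψ r' m = r • m := by
    intro r' m n hn hm r hr
    rcases le_total n (N m) with h | h
    · exact (hwd m r' n (N m) hn h hm r _ hr (hρ _ (hN0 m) r')).symm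
    · exact hwd m r' (N m) n (hN0 m) h (hN' m) _ r (hρ _ (hN0 m) r') hr
  let B : R' →ₗ[R] M →ₗ[R] M := LinearMap.mk₂ R ψ
    (fun r₁ r₂ m => by
      rw [hψ r₁ m _ (hN0 m) (hN' m) _ (hρ _ (hN0 m) r₁), hψ r₂ m _ (hN0 m) (hN' m) _ (hρ _ (hN0 m) r₂),
        ← add_smul]
      refine hψ _ m _ (hN0 m) (hN' m) _ ?_
      convert add_mem (hρ _ (hN0 m) r₁) (hρ _ (hN0 m) r₂) using 1
      rw [map_add]; abel)
    (fun c r₁ m => by
      rw [hψ r₁ m _ (hN0 m) (hN' m) _ (hρ _ (hN0 m) r₁), smul_smul]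
      refine hψ _ m _ (hN0 m) (hN' m) _ ?_
      convert Ideal.mul_mem_left _ (φ c) (hρ _ (hN0 m) r₁) using 1
      rw [Algebra.smul_def, map_mul, mul_sub])
    (fun r' m₁ m₂ => by
      have hn : 0 < N m₁ + N m₂ := Nat.add_pos_left (hN0 m₁) _
      have h₁ : ∀ a ∈ I ^ (N m₁ + N m₂), a • m₁ = 0 := fun a ha =>
        hN' m₁ a (Ideal.pow_le_pow_right (Nat.le_add_right _ _) ha)
      have h₂ : ∀ a ∈ I ^ (N m₁ + N m₂), a • m₂ = 0 := fun a ha =>
        hN' m₂ a (Ideal.pow_le_pow_right (Nat.le_add_left _ _) ha)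
      rw [hψ r' m₁ _ hn h₁ _ (hρ _ hn r'), hψ r' m₂ _ hn h₂ _ (hρ _ hn r'), ← smul_add]
      exact hψ _ _ _ hn (fun a ha => by rw [smul_add, h₁ a ha, h₂ a ha, add_zero]) _ (hρ _ hn r'))
    (fun c r' m => by
      rw [hψ r' m _ (hN0 m) (hN' m) _ (hρ _ (hN0 m) r'), smul_comm c]
      exact hψ _ _ _ (hN0 m) (fun a ha => by rw [smul_comm, hN' m a ha, smul_zero]) _
        (hρ _ (hN0 m) r'))
  have hleft : ∀ m : M, TensorProduct.lift B ((1 : R') ⊗ₜ[R] m) = m := by
    intro m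
    rw [TensorProduct.lift.tmul]
    change ψ 1 m = m
    rw [hψ 1 m _ (hN0 m) (hN' m) 1 (by simp), one_smul]
  refine ⟨fun m₁ m₂ h => by simpa [hleft] using congrArg (TensorProduct.lift B) h, fun x => ?_⟩
  induction x using TensorProduct.induction_on with
  | zero => exact ⟨0, TensorProduct.tmul_zero _ _⟩
  | add x y hx hy =>
    obtain ⟨a, rfl⟩ := hx
    obtain ⟨b, rfl⟩ := hy
    exact ⟨a + b, TensorProduct.tmul_add _ _ _⟩
  | tmul r' m =>
    refine ⟨ρ (N m) (hN0 m) r' • m, ?_⟩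
    have h := hρ (N m) (hN0 m) r'
    have hz : ∀ z ∈ (I ^ N m).map φ, z ⊗ₜ[R] m = (0 : R' ⊗[R] M) := by
      intro z hz
      induction hz using Submodule.span_induction with
      | mem z hz =>
        obtain ⟨a, ha, rfl⟩ := hz
        change algebraMap R R' a ⊗ₜ[R] m = 0
        rw [Algebra.algebraMap_eq_smul_one, TensorProduct.smul_tmul, hN' m a ha,
          TensorProduct.tmul_zero]
      | zero => exact TensorProduct.zero_tmul _ _
      | add a b _ _ ha hb => rw [TensorProduct.add_tmul, ha, hb, add_zero]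
      | smul c a _ ha =>
        rw [← TensorProduct.smul_tmul', ha, smul_zero]
    have := hz _ h
    rw [TensorProduct.sub_tmul, sub_eq_zero] at this
    rw [this]
    change (1 : R') ⊗ₜ[R] (ρ (N m) (hN0 m) r' • m) = algebraMap R R' _ ⊗ₜ[R] m
    rw [Algebra.algebraMap_eq_smul_one, TensorProduct.smul_tmul]

end Groth.Agent.S7041
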