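import Groth.Statements.S7043
import Groth.Agent.DerComplete.Criterion


set_option autoImplicit false
universe u
attribute [local instance] HasDerivedCategory.standard
open DRing

namespace Groth.Agent.S7043

/-- Let f be an element of a commutative ring A and let M be an A-module which, placed in degree 0, is
derived complete with respect to the ideal (f). Then the ideal J = ⋂ f^n A annihilates the submodule
⋂ f^n M, which is the kernel of M → lim M/f^n M. (The case M = A says that J has square zero when A
itself is derived complete.) -/
theorem result {A : Type u} [CommRing A] (f : A)
    (M : Type u) [AddCommGroup M] [Module A M]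
    (hc : DRing.IsDerivedComplete (Ideal.span {f}) (Dual.inD A M)) :
    (⨅ n : ℕ, Ideal.span {f ^ n}) • (⨅ n : ℕ, (Ideal.span {f ^ n}) • (⊤ : Submodule A M)) = (⊥ : Submodule A M) := by
  exact Groth.DerComplete.iInf_smul_iInf_eq_bot
    ((Groth.DerComplete.isDerivedComplete_inD_iff _ M).1 hc f (Ideal.mem_span_singleton_self f))

end Groth.Agent.S7043
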