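import Groth.Statements.S7046
import Groth.Agent.DerComplete.Criterion


set_option autoImplicit false
universe u
attribute [local instance] HasDerivedCategory.standard
open DRing

namespace Groth.Agent.S7046

/-- A reduced commutative ring A which, placed in degree 0 of D(A), is derived complete with respect to
a finitely generated ideal I is I-adically complete, i.e. separated and complete for the I-adic
topology. -/
theorem result {A : Type u} [CommRing A] [IsReduced A]
    (I : Ideal A) (hI : I.FG) (hc : DRing.IsDerivedComplete I (Dual.inD A A)) :
    IsAdicComplete I A := by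
  have h := (Groth.DerComplete.isDerivedComplete_inD_iff I A).1 hc
  obtain ⟨s, rfl⟩ := hI
  refine { haus' := fun x hx => ?_, prec' := fun f hf => ?_ }
  · have hmem : x ∈ ⨅ n : ℕ, Ideal.span (s : Set A) ^ n := by
      rw [Submodule.mem_iInf]
      intro n
      simpa [SModEq.zero] using hx n
    have h0 := Groth.DerComplete.iInf_pow_smul_eq_zero s A (fun t ht => h t (Ideal.subset_span ht)) ⊥
      (fun e he m => by rw [(Ideal.mem_bot).1 he, zero_smul]) (x ^ (2 ^ s.card))
      (by simpa using Ideal.pow_mem_pow hmem _) 1
    simpa using h0
  · obtain ⟨L, hL⟩ := Groth.DerComplete.surjective_of_completion _ ⟨s, rfl⟩ h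
      (AdicCompletion.mk _ A ⟨f, fun hmn => hf hmn⟩)
    exact ⟨L, fun n => ((Submodule.Quotient.eq _).2 (SModEq.sub_mem.1
      (congrArg (fun z : AdicCompletion (Ideal.span (s : Set A)) A => z.val n) hL).symm))⟩

end Groth.Agent.S7046
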