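import Groth.Statements.S7054
import Groth.Agent.DerComplete.ChangeRing


set_option autoImplicit false
universe u
attribute [local instance] HasDerivedCategory.standard
open DRing

namespace Groth.Agent.S7054

/-- For a commutative ring A and an ideal I such that A, placed in degree 0, is derived complete with
respect to I, every object of D(A) isomorphic to a bounded above complex of finite free A-modules is
derived complete with respect to I. -/
theorem result {A : Type u} [CommRing A] (I : Ideal A)
    (hA : DRing.IsDerivedComplete I (Dual.inD A A)) (K : Dual.D A) (hK : DRing.IsPseudoCoherent' A K) :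
    DRing.IsDerivedComplete I K := by
  rw [DerComplete.isDerivedComplete_inD_iff] at hA
  rw [DerComplete.isDerivedComplete_iff]
  obtain ⟨E, b, -, hE, ⟨e⟩⟩ := hK
  intro f hf n
  have hX : ∀ i, DerComplete.DC f (E.X i) := fun i => by
    have := (hE i).1
    have := (hE i).2
    exact ((hA f hf).pi (ι := Module.Free.ChooseBasisIndex A (E.X i))).congr
      (Module.Free.chooseBasis A (E.X i)).equivFun.symm
  refine DerComplete.DC.congr ((DerivedCategory.homologyFunctorFactors _ n).symm.app E ≪≫
    (DerivedCategory.homologyFunctor _ n).mapIso e).toLinearEquiv ?_
  refine DerComplete.DC.congr (FlatCxBase.homologyEquivQuot E rfl rfl) ?_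
  refine ((hX n).ker (hX _) _).quot _ (DerComplete.DC.congr (Submodule.comapSubtypeEquivOfLe ?_).symm
    ((hX _).range (hX n) _))
  rintro _ ⟨x, rfl⟩
  exact CategoryTheory.ConcreteCategory.congr_hom (E.d_comp_d _ _ _) x

end Groth.Agent.S7054
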