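import Groth.Statements.S7055
import Groth.Agent.DAlg.DCompletionNAK


set_option autoImplicit false
universe u
attribute [local instance] HasDerivedCategory.standard
open CategoryTheory
open DRing

namespace Groth.Agent.S7055

/-- For a commutative ring A, a finitely generated ideal I and an object K of D(A) which is derived
complete with respect to I, if K ⊗^L_A A/I vanishes then K vanishes. The derived tensor product with
the module A/I is the total left derived functor, assumed to exist. -/
theorem result {A : Type u} [CommRing A] (I : Ideal A) (hI : I.FG)
    [DRing.HasLTensor A (ModuleCat.of A (A ⧸ I))]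
    (K : Dual.D A) (hc : DRing.IsDerivedComplete I K)
    (h0 : Limits.IsZero ((DRing.LTensor A (ModuleCat.of A (A ⧸ I))).obj K)) : Limits.IsZero K := by
  exact Groth.DAlg.DCompletionNAK.isZero_of_isZero I hI K hc h0

end Groth.Agent.S7055
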