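import Groth.Statements.S7058
import Groth.Agent.DerComplete.ChangeRing


set_option autoImplicit false
universe u
attribute [local instance] HasDerivedCategory.standard
open CategoryTheory
open DRing

namespace Groth.Agent.S7058

/-- Let A be a commutative ring, I a finitely generated ideal, and assume the derived completion functor
(left adjoint to the inclusion of derived complete objects of D(A)) exists. If K is a cochain
complex of A-modules and some f in I acts bijectively on every term of K, then the derived
completion of K is zero. -/
theorem result {A : Type u} [CommRing A] (I : Ideal A) (hI : I.FG)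
    [DRing.HasDerivedCompletion I] (K : DRing.Cx A) (f : A) (hf : f ∈ I)
    (hK : ∀ i : ℤ, Function.Bijective (fun x : K.X i => f • x)) :
    Limits.IsZero ((DRing.derivedCompletion I).obj (DRing.toD K)).obj := by
  rw [Limits.IsZero.iff_id_eq_zero]
  have h : Subsingleton (DRing.toD K ⟶ (DRing.IsDerivedComplete I).ι.obj ((DRing.derivedCompletion I).obj (DRing.toD K))) :=
    DerComplete.subsingleton_hom_of_bijective hK
    ((DerComplete.isDerivedComplete_iff I _).1 ((DRing.derivedCompletion I).obj (DRing.toD K)).property f hf)
  have e := (DRing.derivedCompletionAdj I).homEquiv (DRing.toD K) ((DRing.derivedCompletion I).obj (DRing.toD K))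
  exact congrArg (fun φ => φ.hom) (@Subsingleton.elim _ e.subsingleton (𝟙 _) 0)

end Groth.Agent.S7058
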