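import Groth.Statements.S7062
import Mathlib
import Groth.Agent.Calg3.GlueTor

set_option autoImplicit false
universe u
open EtGlue

namespace Groth.Agent.S7062

/-- For a glueing pair (R → R', f), i.e. R/f^nR → R'/f^nR' is bijective for all n > 0 and the sequence 0
→ R → R' ⊕ R_f → R'_f → 0 is exact, the group Tor_1^R(R', f^n R) vanishes for every n > 0 (Tor
computed by resolving the second argument, the ideal f^n R). -/
theorem result {R R' : Type u} [CommRing R] [CommRing R'] [Algebra R R']
    (f : R) (h : EtGlue.IsGlueingPair R R' f) (n : ℕ) (hn : 0 < n) :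
    Subsingleton (DRing.Tor R 1 R' ↥(Ideal.span ({f ^ n} : Set R))) := by
  let I : Ideal R := Ideal.span {f ^ n}
  let π : (PUnit.{u+1} →₀ R) →ₗ[R] I :=
    (LinearMap.toSpanSingleton R I ⟨f ^ n, Ideal.subset_span rfl⟩).comp (Finsupp.lapply PUnit.unit)
  refine Groth.Calg3.GlueTor.subsingleton_tor π ?_ (Groth.Calg3.GlueTor.injective_of_tors h (Groth.EtaleAlgebra.Glue.torsInj_finsupp h _) _ fun k => ⟨n, ?_⟩)
  · rintro ⟨y, hy⟩
    obtain ⟨c, rfl⟩ := Ideal.mem_span_singleton'.mp hy
    exact ⟨Finsupp.single PUnit.unit c, Subtype.ext (by simp [π, I])⟩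
  · have hk : (k : PUnit.{u+1} →₀ R) PUnit.unit * f ^ n = 0 := congrArg Subtype.val (LinearMap.mem_ker.mp k.2)
    apply Subtype.ext
    ext
    simpa [mul_comm] using hk
end Groth.Agent.S7062
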