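import Groth.Statements.S7063
import Mathlib
import Groth.Agent.Calg3.GlueTor

set_option autoImplicit false
universe u
open EtGlue

namespace Groth.Agent.S7063

/-- For a glueing pair (R → R', f), the group Tor_1^R(R', R/R[f^∞]) vanishes, where R[f^∞] is the
submodule of elements of R killed by a power of f (Tor computed by resolving the second argument). -/
theorem result {R R' : Type u} [CommRing R] [CommRing R']
    [Algebra R R'] (f : R) (h : EtGlue.IsGlueingPair R R' f) :
    Subsingleton (DRing.Tor R 1 R' (R ⧸ DRing.torsionSub (Ideal.span ({f} : Set R)) R)) := by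
  let T := DRing.torsionSub (Ideal.span ({f} : Set R)) R
  let π : (PUnit.{u+1} →₀ R) →ₗ[R] R ⧸ T := (Submodule.mkQ T).comp (Finsupp.lapply PUnit.unit)
  refine Groth.Calg3.GlueTor.subsingleton_tor π ?_ (Groth.Calg3.GlueTor.injective_of_tors h (Groth.EtaleAlgebra.Glue.torsInj_finsupp h _) _ fun k => ?_)
  · intro y
    obtain ⟨c, rfl⟩ := T.mkQ_surjective y
    exact ⟨Finsupp.single PUnit.unit c, by simp [π]⟩
  · have hk : (k : PUnit.{u+1} →₀ R) PUnit.unit ∈ T := (Submodule.Quotient.mk_eq_zero T).mp (LinearMap.mem_ker.mp k.2)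
    obtain ⟨n, hn⟩ := hk
    refine ⟨n, ?_⟩
    apply Subtype.ext
    ext
    simpa using hn (f ^ n) (Ideal.pow_mem_pow (Ideal.mem_span_singleton_self f) n)
end Groth.Agent.S7063
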