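import Groth.Statements.S7064
import Mathlib
import Groth.Agent.Calg3.GlueTor

set_option autoImplicit false
universe u
open EtGlue

namespace Groth.Agent.S7064

/-- For a glueing pair (R → R', f) and any R-module M, the group Tor_1^R(R', Coker(M → M_f)) vanishes,
where M_f is the localization of M at the powers of f (Tor computed by resolving the second
argument). -/
theorem result {R R' : Type u} [CommRing R] [CommRing R']
    [Algebra R R'] (f : R) (h : EtGlue.IsGlueingPair R R' f) (M : Type u) [AddCommGroup M] [Module R M] :
    Subsingleton (DRing.Tor R 1 R'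
      (LocalizedModule (Submonoid.powers f) M ⧸
        LinearMap.range (LocalizedModule.mkLinearMap (Submonoid.powers f) M))) := by
  let Q := LocalizedModule (Submonoid.powers f) M ⧸
    LinearMap.range (LocalizedModule.mkLinearMap (Submonoid.powers f) M)
  let π : (Q →₀ R) →ₗ[R] Q := Finsupp.linearCombination R id
  refine Groth.Calg3.GlueTor.subsingleton_tor π (Finsupp.linearCombination_id_surjective R Q)
    (Groth.Calg3.GlueTor.injective_of_quot_tors h (Groth.EtaleAlgebra.Glue.torsInj_finsupp h _) _ fun x => ?_)
  obtain ⟨z, hz⟩ := Submodule.mkQ_surjective _ (π x)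
  induction z using LocalizedModule.induction_on with
  | h m s =>
    obtain ⟨_, n, rfl⟩ := s
    refine ⟨n, ?_⟩
    rw [LinearMap.mem_ker, map_smul, ← hz, ← map_smul, Submodule.mkQ_apply, Submodule.Quotient.mk_eq_zero]
    refine ⟨m, ?_⟩
    rw [LocalizedModule.mkLinearMap_apply, LocalizedModule.smul'_mk, LocalizedModule.mk_eq]
    exact ⟨1, by simp [Submonoid.smul_def]⟩
end Groth.Agent.S7064
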