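import Groth.Statements.S7065
import Mathlib.RingTheory.Spectrum.Prime.Topology
-- import your own Groth.Agent.* helpers here

set_option autoImplicit false
universe u
open EtGlue

namespace Groth.Agent.S7065

/-- Let R → R' be a homomorphism of commutative rings and f an element of R such that the induced map
R/fR → R'/fR' is bijective. Then Spec(R') ⊔ Spec(R_f) → Spec(R) is surjective: every prime of R is
the contraction of a prime of R' or of a prime of R_f. -/
theorem result {R R' : Type u} [CommRing R] [CommRing R']
    [Algebra R R'] (f : R)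
    (hq : Function.Bijective
      (Ideal.quotientMap (Ideal.map (algebraMap R R') (Ideal.span {f})) (algebraMap R R') Ideal.le_comap_map))
    (p : PrimeSpectrum R) :
    (∃ q : PrimeSpectrum R', PrimeSpectrum.comap (algebraMap R R') q = p) ∨
      ∃ q : PrimeSpectrum (Localization.Away f), PrimeSpectrum.comap (algebraMap R (Localization.Away f)) q = p := by
  by_cases hf : f ∈ p.asIdeal
  · left
    let I := Ideal.span {f}
    let J := I.map (algebraMap R R')
    let φ := RingEquiv.ofBijective _ hq
    have hI : I ≤ p.asIdeal := (Ideal.span_singleton_le_iff_mem _).2 hf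
    have hp : (p.asIdeal.map (Ideal.Quotient.mk I)).IsPrime :=
      Ideal.map_isPrime_of_surjective Ideal.Quotient.mk_surjective (by rwa [Ideal.mk_ker])
    let Q : Ideal R' := (Ideal.comap φ.symm.toRingHom (p.asIdeal.map (Ideal.Quotient.mk I))).comap (Ideal.Quotient.mk J)
    refine ⟨⟨Q, inferInstance⟩, PrimeSpectrum.ext (Ideal.ext fun x => ?_)⟩
    have hx : φ.symm (Ideal.Quotient.mk J (algebraMap R R' x)) = Ideal.Quotient.mk I x := by
      rw [RingEquiv.symm_apply_eq]; rfl
    show φ.symm (Ideal.Quotient.mk J (algebraMap R R' x)) ∈ p.asIdeal.map (Ideal.Quotient.mk I) ↔ _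
    rw [hx, ← Ideal.mem_comap, Ideal.comap_map_of_surjective' _ Ideal.Quotient.mk_surjective,
      Ideal.mk_ker, sup_eq_left.2 hI]
  · right
    have h : p ∈ Set.range (PrimeSpectrum.comap (algebraMap R (Localization.Away f))) := by
      rw [PrimeSpectrum.localization_away_comap_range (Localization.Away f) f]
      exact hf
    exact h

end Groth.Agent.S7065
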