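import Groth.Statements.S7066
import Groth.Agent.KoszulLCI.TorPolynomial

set_option autoImplicit false
universe u
attribute [local instance] HasDerivedCategory.standard
open MoreMor

namespace Groth.Agent.S7066

/-- A homomorphism of commutative rings A → B is perfect, i.e. pseudo-coherent with B of finite tor
dimension as an A-module, if and only if B is a quotient of a polynomial ring A[x_1, …, x_n] over
which B is a perfect module, i.e. B placed in degree 0 is isomorphic in the derived category of the
polynomial ring to a bounded complex of finite projective modules. -/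
theorem result (A B : Type u) [CommRing A] [CommRing B] [Algebra A B] :
    MoreMor.IsPerfectHom A B ↔
      ∃ (n : ℕ) (φ : MvPolynomial (Fin n) A →ₐ[A] B), Function.Surjective φ ∧
        letI := φ.toRingHom.toAlgebra
        DRing.IsPerfectModule (MvPolynomial (Fin n) A) B := by
  constructor
  · rintro ⟨⟨n, φ, hφ, hpc⟩, htor⟩
    refine ⟨n, φ, hφ, ?_⟩
    let _ := φ.toRingHom.toAlgebra
    have : IsScalarTower A (MvPolynomial (Fin n) A) B := IsScalarTower.of_algebraMap_eq fun a => (φ.commutes a).symm
    obtain ⟨d, hd⟩ := (Groth.KoszulLCI.hasFiniteTorDim_iff B).1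
      (Groth.KoszulLCI.hasFiniteTorDim_mvPolynomial (m := n) B htor)
    exact Groth.DAlg.isPerfect_iff.2 ⟨hpc, _, _, hd⟩
  · rintro ⟨n, φ, hφ, hP⟩
    let _ := φ.toRingHom.toAlgebra
    have : IsScalarTower A (MvPolynomial (Fin n) A) B := IsScalarTower.of_algebraMap_eq fun a => (φ.commutes a).symm
    refine ⟨⟨n, φ, hφ, Groth.DAlg.IsPerfect.isPseudoCoherent' hP⟩, ?_⟩
    obtain ⟨a, b, hab⟩ := (Groth.DAlg.isPerfect_iff.1 hP).2
    exact (Groth.KoszulLCI.hasFiniteTorDim_iff B).2 ⟨(-a).toNat,
      Groth.KoszulLCI.hasTorAmp_restrictScalars (P := MvPolynomial (Fin n) A) _ B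
        (Groth.DAlg.TorAmp.top (Groth.DAlg.TorAmp.mono hab (by omega) le_rfl)
          fun i hi => Groth.DAlg.subsingleton_HD_mD _ (ne_of_gt hi))⟩

end Groth.Agent.S7066
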