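import Groth.Statements.S7072
import Groth.Agent.FlatmorThree.NLComplex
import Groth.Agent.Syntomic.CotangentProj
import Groth.Agent.FrobLCI.NLFlat.Amp
import Groth.Prelude.Def_SheafNL

set_option autoImplicit false
universe u
attribute [local instance] HasDerivedCategory.standard
open LCI

namespace Groth.Agent.S7072

open CategoryTheory HomologicalComplex

/-- A finite projective conormal module of an extension, as a module over the target. -/
theorem finite_projective_of_quotient {A B : Type u} [CommRing A] [CommRing B] [Algebra A B]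
    (Q : Algebra.Extension.{u} A B) (h₁ : Module.Finite (Q.Ring ⧸ Q.ker) Q.ker.Cotangent)
    (h₂ : Module.Projective (Q.Ring ⧸ Q.ker) Q.ker.Cotangent) :
    Module.Finite B Q.Cotangent ∧ Module.Projective B Q.Cotangent := by
  let σ : (Q.Ring ⧸ Q.ker) ≃+* B := RingHom.quotientKerEquivOfSurjective Q.algebraMap_surjective
  let e : Q.ker.Cotangent ≃+ Q.Cotangent := Q.cotangentEquivCotangentKer.symm.toAddEquiv
  have he : ∀ (r : Q.Ring ⧸ Q.ker) (x : Q.ker.Cotangent), e (r • x) = σ r • e x := fun r x => by
    obtain ⟨p, rfl⟩ := Ideal.Quotient.mk_surjective r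
    refine Algebra.Extension.Cotangent.ext ?_
    show Ideal.Quotient.mk Q.ker p • x = Q.σ (algebraMap Q.Ring B p) • x
    rw [← Ideal.Quotient.algebraMap_eq, algebraMap_smul, ← sub_eq_zero, ← sub_smul]
    refine Algebra.Extension.Cotangent.smul_eq_zero_of_mem (P := Q) _ ?_ _
    simp [RingHom.mem_ker]
  let := RingHomInvPair.of_ringEquiv σ
  let := RingHomInvPair.of_ringEquiv σ.symm
  let e' : Q.ker.Cotangent ≃ₛₗ[(σ : (Q.Ring ⧸ Q.ker) →+* B)] Q.Cotangent :=
    { e with map_smul' := he }
  refine ⟨Module.Finite.of_surjective e'.toLinearMap e'.surjective, ?_⟩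
  exact Module.Projective.of_equiv (M := Q.ker.Cotangent) e'

/-- A complex of finite projective modules in degrees `-1, 0` is perfect of amplitude `[-1, 0]`. -/
theorem perfect_double {R : Type u} [CommRing R] {C F : ModuleCat.{u} R} (d : C ⟶ F)
    [Module.Finite R C] [Module.Projective R C] [Module.Finite R F] [Module.Projective R F] :
    DRing.VanishesOutside (double d (show (ComplexShape.up ℤ).Rel (-1) 0 by simp)) (-1) 0 ∧
      DRing.TermwiseFiniteProjective (double d (show (ComplexShape.up ℤ).Rel (-1) 0 by simp)) := by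
  refine ⟨fun i hi => isZero_double_X _ _ i (by omega) (by omega), fun i => ?_⟩
  by_cases h : i = -1
  · subst h
    exact ⟨Module.Finite.equiv (doubleXIso₀ d _).toLinearEquiv.symm,
      Module.Projective.of_equiv' (doubleXIso₀ d _).toLinearEquiv.symm⟩
  by_cases h' : i = 0
  · subst h'
    exact ⟨Module.Finite.equiv (doubleXIso₁ d _ (by decide)).toLinearEquiv.symm,
      Module.Projective.of_equiv' (doubleXIso₁ d _ (by decide)).toLinearEquiv.symm⟩
  · have := ModuleCat.subsingleton_of_isZero (isZero_double_X d (show (ComplexShape.up ℤ).Rel (-1) 0 by simp) i h h')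
    exact ⟨inferInstance, Module.Projective.of_free⟩

/-- For a local complete intersection homomorphism of commutative rings A → B, the naive cotangent
complex NL_{B/A} is a perfect object of D(B) and has tor amplitude in [-1, 0]. -/
theorem result {A B : Type u} [CommRing A] [CommRing B] [Algebra A B]
    (h : LCI.IsLCI A B) :
    DRing.IsPerfect B (LCI.NL A B) ∧ DRing.HasTorAmplitudeIn B (-1) 0 (LCI.NL A B) := by
  obtain ⟨-, n, φ, hφ, hreg⟩ := h
  have hφ' : MvPolynomial.aeval (fun i => φ (MvPolynomial.X i)) = φ := (MvPolynomial.aeval_unique φ).symm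
  let G : Algebra.Generators A B (Fin n) := Algebra.Generators.ofSurjective (fun i => φ (MvPolynomial.X i))
    (by rw [hφ']; exact hφ)
  have hker : G.toExtension.ker = RingHom.ker φ.toRingHom :=
    Ideal.ext fun x => Iff.of_eq (congrArg (· = 0) ((G.algebraMap_apply x).trans (AlgHom.congr_fun hφ' x)))
  have hreg' : LCI.IsKoszulRegularIdeal G.toExtension.ker := hker.symm ▸ hreg
  obtain ⟨h₁, h₂⟩ := Groth.Syntomic.finite_projective_cotangent _ hreg'
  obtain ⟨_, _⟩ := finite_projective_of_quotient G.toExtension h₁ h₂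
  have : Module.Free B G.toExtension.CotangentSpace := Module.Free.of_basis G.cotangentSpaceBasis
  have : Module.Finite B G.toExtension.CotangentSpace := Module.Finite.of_basis G.cotangentSpaceBasis
  have hE := perfect_double (ModuleCat.ofHom G.toExtension.cotangentComplex)
  let f := NLCx.map ((G.defaultHom (Algebra.Generators.self A B)).toExtensionHom)
  let g := NLCx.map (((Algebra.Generators.self A B).defaultHom G).toExtensionHom)
  let eh : HomotopyEquiv (NLCx.cx G.toExtension) (NLCx.cx (Algebra.Generators.self A B).toExtension) :=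
    { hom := f, inv := g
      homotopyHomInvId := ((Homotopy.ofEq (Groth.FlatmorThree.NL.map_comp _ _)).trans
        (Groth.FlatmorThree.NL.mapHomotopy _ (Algebra.Extension.Hom.id _))).trans
          (Homotopy.ofEq Groth.FlatmorThree.NL.map_id)
      homotopyInvHomId := ((Homotopy.ofEq (Groth.FlatmorThree.NL.map_comp _ _)).trans
        (Groth.FlatmorThree.NL.mapHomotopy _ (Algebra.Extension.Hom.id _))).trans
          (Homotopy.ofEq Groth.FlatmorThree.NL.map_id) }
  have : QuasiIso eh.hom := eh.quasiIso_hom
  have hiso : IsIso (DerivedCategory.Q.map eh.hom) := (DerivedCategory.isIso_Q_map_iff_quasiIso (φ := eh.hom)).mpr this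
  let i : DRing.toD (NLCx.cx G.toExtension) ≅ LCI.NL A B := @asIso _ _ _ _ _ hiso
  refine ⟨⟨_, -1, 0, hE.1, hE.2, ⟨i⟩⟩, _, hE.1, fun j => ?_, ⟨i⟩⟩
  obtain ⟨_, _⟩ := hE.2 j
  exact Module.Flat.of_projective

end Groth.Agent.S7072
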