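import Groth.Statements.S7074
import Groth.Agent.DAlg.RelPerfectBC
import Groth.Agent.DAlg.FlatFPModulePC
import Groth.Agent.S6938

set_option autoImplicit false
universe u
attribute [local instance] HasDerivedCategory.standard
open CategoryTheory
open Dual2

open CategoryTheory.Limits HomologicalComplex Groth.DAlg Groth.FlatCxBase

namespace Groth.Agent.S7074

variable {R A : Type u} [CommRing R] [CommRing A] [Algebra R A]

lemma flat_of_exact_surj {M N Q : Type u} [AddCommGroup M] [Module R M] [AddCommGroup N] [Module R N]
    [AddCommGroup Q] [Module R Q] (d : M →ₗ[R] N) (f : N →ₗ[R] Q) (hf : Function.Surjective f)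
    (hex : Function.Exact d f) (h : Module.Flat R (N ⧸ LinearMap.range d)) : Module.Flat R Q :=
  Module.Flat.of_linearEquiv (hex.linearEquivOfSurjective hf).symm

lemma flat_res_coker (G : DRing.Cx A) (i j : ℤ)
    (h : Module.Flat R (Coker ((DRing.restrictCx (algebraMap R A)).obj G) i j)) :
    Module.Flat R ((ModuleCat.restrictScalars (algebraMap R A)).obj (ModuleCat.of A (Coker G i j))) := by
  refine flat_of_exact_surj (((DRing.restrictCx (algebraMap R A)).obj G).d i j).hom
    ((ModuleCat.restrictScalars (algebraMap R A)).map (ModuleCat.ofHom (cokerπ G i j))).hom ?_ ?_ h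
  · intro q
    exact Submodule.mkQ_surjective _ q
  · intro x
    exact exact_cokerπ G i j x

/-- For a flat homomorphism of finite presentation R → A of commutative rings and an object K of D(A), K
is R-perfect (pseudo-coherent over A and of finite tor dimension over R) if and only if K is
isomorphic in D(A) to a bounded complex whose terms are finitely presented A-modules that are flat
as R-modules. -/
theorem result (R A : Type u) [CommRing R] [CommRing A] [Algebra R A]
    [Module.Flat R A] [Algebra.FinitePresentation R A] (K : Dual.D A) :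
    Dual2.IsRelPerfect R A K ↔
      ∃ (E : DRing.Cx A) (a b : ℤ), DRing.VanishesOutside E a b ∧
        (∀ i : ℤ, Module.FinitePresentation A (E.X i) ∧
          Module.Flat R ((ModuleCat.restrictScalars (algebraMap R A)).obj (E.X i))) ∧
        Nonempty (DRing.toD E ≅ K) := by
  constructor
  · rintro ⟨hpc, a, b, htd⟩
    obtain ⟨G, g, hG, hGF, ⟨eG⟩⟩ := id hpc
    have hflat : DRing.TermwiseFlat G := fun i => haveI := (hGF i).2; inferInstance
    have hXf := termwiseFlat_restrictCx (R := R) hflat
    have hXb : DRing.VanishesAbove ((DRing.restrictCx (algebraMap R A)).obj G) g :=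
      fun i hi => (ModuleCat.restrictScalars _).map_isZero (hG i hi)
    have hX := TorAmp.of_iso htd ((DRing.restrictD (algebraMap R A)).mapIso eG.symm ≪≫ resQIso _ G)
    have hQ := flat_res_coker (R := R) G (a - 1) a
      (@flat_coker_of_isZero _ _ _ hXf a fun M => isZero_of_torAmplitude _ hXb hXf hX M (a - 1) (Or.inl (by omega)))
    have hz : ∀ i < a, IsZero (G.homology i) := fun i hi => isZero_homology_of_subsingleton
      ((resHD_subsingleton_iff (algebraMap R A) _ i).1 (TorAmp.subsingleton_HD
        (TorAmp.of_iso htd ((DRing.restrictD (algebraMap R A)).mapIso eG.symm)) (Or.inl hi)))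
    obtain ⟨et⟩ := nonempty_truncGE_iso hz
    let Φ : ObjectProperty (ModuleCat.{u} A) := fun X => Module.FinitePresentation A X ∧
      Module.Flat R ((ModuleCat.restrictScalars (algebraMap R A)).obj X)
    haveI : Φ.IsClosedUnderIsomorphisms := ⟨fun {X Y} e hX => ⟨haveI := hX.1; Module.FinitePresentation.of_equiv e.toLinearEquiv,
      haveI := hX.2; Module.Flat.of_linearEquiv ((ModuleCat.restrictScalars (algebraMap R A)).mapIso e).symm.toLinearEquiv⟩⟩
    refine ⟨G.truncGE a, a, g, vanishesOutside_truncGE G a hG, fun i => ?_, ⟨et ≪≫ eG⟩⟩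
    refine truncGE_X_of_prop Φ G a (fun X hX => ?_) (fun i _ => ?_) ?_ i
    · haveI := ModuleCat.subsingleton_of_isZero hX
      haveI := ModuleCat.subsingleton_of_isZero ((ModuleCat.restrictScalars (algebraMap R A)).map_isZero hX)
      haveI : Module.Free R ((ModuleCat.restrictScalars (algebraMap R A)).obj X) := Module.Free.of_subsingleton _ _
      haveI : Module.Free A X := Module.Free.of_subsingleton A X
      haveI : Module.Projective A X := Module.Projective.of_free
      haveI : Module.Finite A X := ⟨⟨∅, Subsingleton.elim _ _⟩⟩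
      exact ⟨Module.finitePresentation_of_projective A X, Module.Flat.of_free⟩
    · haveI := (hGF i).1
      haveI := (hGF i).2
      exact ⟨Module.finitePresentation_of_projective A _, hXf i⟩
    · haveI := (hGF (a - 1)).1
      haveI := (hGF a).1
      haveI := (hGF a).2
      exact ⟨finitePresentation_coker (P := G) (a - 1) a, hQ⟩
  · rintro ⟨E, a, b, hE, hEM, ⟨e⟩⟩
    refine ⟨?_, a, b, ?_⟩
    · obtain ⟨F, c, hF, hFF, ⟨eF⟩⟩ := (Groth.Agent.S6938.result A 0 E b fun i hi => hE i (Or.inr hi)).2 fun i => by
        letI : Module R (E.X i) := Module.compHom (E.X i) (algebraMap R A)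
        haveI : IsScalarTower R A (E.X i) := IsScalarTower.of_algebraMap_smul fun _ _ => rfl
        haveI := (hEM i).1
        haveI : Module.Flat R (E.X i) := (hEM i).2
        exact isPseudoCoherentModule'_of_flat_finitePresentation R A (E.X i)
      exact ⟨F, c, hF, hFF, ⟨eF ≪≫ e⟩⟩
    · exact ⟨(DRing.restrictCx (algebraMap R A)).obj E,
        fun i hi => (ModuleCat.restrictScalars _).map_isZero (hE i hi), fun i => (hEM i).2,
        ⟨(resQIso _ E).symm ≪≫ (DRing.restrictD (algebraMap R A)).mapIso e⟩⟩

end Groth.Agent.S7074
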