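import Groth.Statements.S7076
import Groth.Agent.DAlg.RelPerfectBC
import Groth.Agent.DAlg.NilpotentAmp
import Mathlib.RingTheory.Ideal.Maps

set_option autoImplicit false
universe u
attribute [local instance] HasDerivedCategory.standard
open TensorProduct
open Dual2

open CategoryTheory Groth.DAlg

attribute [local instance] Algebra.TensorProduct.rightAlgebra

namespace Groth.Agent.S7076

theorem aux (R' A' R : Type u) [CommRing R'] [CommRing A'] [Algebra R' A'] [CommRing R] [Algebra R' R]
    [Module.Flat R' A'] (hs : Function.Surjective (algebraMap R' R))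
    (hn : IsNilpotent (RingHom.ker (algebraMap R' R))) [DRing.HasLBaseChange (algebraMap A' (R ⊗[R'] A'))]
    (K' : Dual.D A')
    (hK : Dual2.IsRelPerfect R (R ⊗[R'] A') ((DRing.LBaseChange (algebraMap A' (R ⊗[R'] A'))).obj K')) :
    Dual2.IsRelPerfect R' A' K' := by
  obtain ⟨hpc, a, b, htd⟩ := hK
  haveI : Algebra.IsPushout R' R A' (R ⊗[R'] A') := inferInstance
  have hS : Function.Surjective (algebraMap A' (R ⊗[R'] A')) := TensorProduct.mk_surjective R' A' R hs
  have hker : RingHom.ker (algebraMap A' (R ⊗[R'] A')) ≤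
      (RingHom.ker (algebraMap R' R)).map (algebraMap R' A') := fun x hx => by
    have hx' : (1 : R) ⊗ₜ[R'] x = 0 := (RingHom.mem_ker (f := algebraMap A' (R ⊗[R'] A'))).1 hx
    have h := mem_ker_smul_top hs x hx'
    rw [Ideal.smul_top_eq_map] at h
    exact h
  have hn' : IsNilpotent (RingHom.ker (algebraMap A' (R ⊗[R'] A'))) := by
    obtain ⟨n, hn⟩ := hn
    refine ⟨n, eq_bot_iff.2 ((Ideal.pow_right_mono hker n).trans ?_)⟩
    rw [← Ideal.map_pow, hn]
    exact le_of_eq Ideal.map_bot
  have hpc' := (isPseudoCoherent'_lBaseChange_iff hS hn' K').1 hpc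
  obtain ⟨G, g, hG, -, ⟨eG⟩⟩ := id hpc'
  haveI := hasLBaseChange (algebraMap R' R)
  obtain ⟨e⟩ := nonempty_res_lBaseChange_iso (R := R') (A := A') (R' := R) (A' := R ⊗[R'] A') (K := K') (b := g)
    fun i hi => subsingleton_HD_of_iso eG (hG i hi)
  exact ⟨hpc', a, b, (torAmp_lBaseChange_iff hs hn _ a b).1 (TorAmp.of_iso htd e.symm)⟩

/-- Let R' → A' be a flat homomorphism of finite presentation of commutative rings, R' → R a surjective
homomorphism of rings with nilpotent kernel, A = R ⊗_{R'} A', and K' an object of D(A'). If the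
derived base change K' ⊗^L_{A'} A (total left derived functor of extension of scalars, assumed to
exist) is R-perfect in D(A), then K' is R'-perfect in D(A'). -/
theorem result (R' A' R : Type u) [CommRing R'] [CommRing A'] [Algebra R' A']
    [CommRing R] [Algebra R' R] [Module.Flat R' A'] [Algebra.FinitePresentation R' A']
    (hs : Function.Surjective (algebraMap R' R)) (hn : IsNilpotent (RingHom.ker (algebraMap R' R)))
    [DRing.HasLBaseChange (Algebra.TensorProduct.includeRight.toRingHom : A' →+* R ⊗[R'] A')]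
    (K' : Dual.D A')
    (hK : Dual2.IsRelPerfect R (R ⊗[R'] A')
      ((DRing.LBaseChange (Algebra.TensorProduct.includeRight.toRingHom : A' →+* R ⊗[R'] A')).obj K')) :
    Dual2.IsRelPerfect R' A' K' := by
  haveI := hasLBaseChange (algebraMap A' (R ⊗[R'] A'))
  exact aux R' A' R hs hn K' hK

end Groth.Agent.S7076
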