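import Groth.Statements.S7077
import Groth.Agent.DAlg.Rep


set_option autoImplicit false
universe u
attribute [local instance] HasDerivedCategory.standard
open CategoryTheory
open DRing

namespace Groth.Agent.S7077

/-- (1)⇔(2): let R be a commutative ring and K an object of D(R) whose cohomology modules vanish outside
degrees -1 and 0. Then H^{-1}(K) vanishes and H^0(K) is a projective R-module if and only if
Ext^1_R(K, M) = Hom_{D(R)}(K, M[1]) vanishes for every R-module M. -/
theorem result {R : Type u} [CommRing R] (K : Dual.D R)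
    (hK : ∀ i : ℤ, i ≠ -1 → i ≠ 0 → Subsingleton (Dual.HD R K i)) :
    (Subsingleton (Dual.HD R K (-1)) ∧ Module.Projective R (Dual.HD R K 0)) ↔
      ∀ (M : Type u) [AddCommGroup M] [Module R M], Subsingleton (K ⟶ (Dual.inD R M)⟦(1 : ℤ)⟧) := by
  obtain ⟨E, hE, hP, ⟨e⟩⟩ := Groth.DAlg.exists_rep_projective K hK
  obtain ⟨e0⟩ := Groth.DAlg.nonempty_homology_zero_equiv hE
  obtain ⟨e1⟩ := Groth.DAlg.nonempty_homology_neg_one_equiv hE
  let f0 := (Groth.DAlg.HDCongr e 0).symm.trans ((Groth.DAlg.HDEquiv E 0).trans e0)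
  let f1 := (Groth.DAlg.HDCongr e (-1)).symm.trans ((Groth.DAlg.HDEquiv E (-1)).trans e1)
  constructor
  · rintro ⟨hs, hp⟩
    intro M _ _
    have := Module.Projective.of_equiv f0
    have := f1.symm.toEquiv.subsingleton
    have hinj : Function.Injective (E.d (-1) 0).hom :=
      LinearMap.ker_eq_bot.1 (Submodule.subsingleton_iff_eq_bot.1 this)
    let D := (E.d (-1) 0).hom
    obtain ⟨s, hs⟩ := Module.projective_lifting_property (LinearMap.range D).mkQ LinearMap.id
      (Submodule.mkQ_surjective _)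
    have hr : ∀ x, ((LinearMap.id : E.X 0 →ₗ[R] E.X 0) - s.comp (LinearMap.range D).mkQ) x ∈ LinearMap.range D := fun x => by
      rw [← Submodule.Quotient.mk_eq_zero, LinearMap.sub_apply, Submodule.Quotient.mk_sub, sub_eq_zero]
      exact (LinearMap.congr_fun hs ((LinearMap.range D).mkQ x)).symm
    let r : E.X 0 →ₗ[R] E.X (-1) := (LinearEquiv.ofInjective D hinj).symm.toLinearMap.comp
      (((LinearMap.id : E.X 0 →ₗ[R] E.X 0) - s.comp (LinearMap.range D).mkQ).codRestrict _ hr)
    have hrd : ∀ x, r (D x) = x := fun x => by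
      apply (LinearEquiv.ofInjective D hinj).injective
      rw [show (LinearEquiv.ofInjective D hinj) (r (D x)) = _ from
        (LinearEquiv.ofInjective D hinj).apply_symm_apply _]
      apply Subtype.ext
      simp [(Submodule.Quotient.mk_eq_zero _).2 (LinearMap.mem_range_self D x)]
    have hz : ∀ ξ : DRing.toD E ⟶ (Dual.inD R M)⟦(1 : ℤ)⟧, ξ = 0 := fun ξ => by
      obtain ⟨u, hu, rfl⟩ := Groth.DAlg.exists_extCl (Groth.DAlg.two_above hE) hP ξ
      rw [Groth.DAlg.extCl_eq_zero_iff (Groth.DAlg.two_above hE) hP]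
      exact ⟨ModuleCat.ofHom r ≫ u, ModuleCat.hom_ext (LinearMap.ext fun x => congrArg u (hrd x))⟩
    exact ⟨fun x y => (cancel_epi e.hom).1 ((hz _).trans (hz _).symm)⟩
  · intro H
    have h1 : Groth.DAlg.extCl (𝟙 (E.X (-1))) (Groth.DAlg.d_comp_eq_zero hE _) = 0 := by
      have := H (E.X (-1))
      exact (cancel_epi e.inv).1 (this.elim _ _)
    rw [Groth.DAlg.extCl_eq_zero_iff (Groth.DAlg.two_above hE) hP] at h1
    obtain ⟨h, hh⟩ := h1
    have hh' : ∀ x, h (E.d (-1) 0 x) = x := CategoryTheory.ConcreteCategory.congr_hom hh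
    constructor
    · have : Subsingleton (LinearMap.ker (E.d (-1) 0).hom) := Submodule.subsingleton_iff_eq_bot.2
        (LinearMap.ker_eq_bot.2 fun x y hxy => by rw [← hh' x, ← hh' y]; exact congrArg h hxy)
      exact f1.toEquiv.subsingleton
    · suffices hp : Module.Projective R (E.X 0 ⧸ LinearMap.range (E.d (-1) 0).hom) from
        Module.Projective.of_equiv f0.symm
      refine Module.Projective.of_split ((LinearMap.range (E.d (-1) 0).hom).liftQ
        (LinearMap.id - (E.d (-1) 0).hom.comp h.hom) ?_) (Submodule.mkQ _) ?_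
      · rintro _ ⟨w, rfl⟩
        simp [hh']
      · refine Submodule.linearMap_qext _ (LinearMap.ext fun x => ?_)
        simp

end Groth.Agent.S7077
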