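import Groth.Statements.S7079
import Groth.Agent.DAlg.Rep


set_option autoImplicit false
universe u
attribute [local instance] HasDerivedCategory.standard
open CategoryTheory
open DRing

namespace Groth.Agent.S7079

/-- For a Noetherian commutative ring R and an object K of D(R) whose cohomology modules vanish outside
degrees -1 and 0 and are finite modules in those two degrees, K is represented by a two-term complex
K^{-1} → K^0 with K^0 finite free and K^{-1} finite. -/
theorem result {R : Type u} [CommRing R] [IsNoetherianRing R] (K : Dual.D R)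
    (hK : ∀ i : ℤ, i ≠ -1 → i ≠ 0 → Subsingleton (Dual.HD R K i))
    (h1 : Module.Finite R (Dual.HD R K (-1))) (h0 : Module.Finite R (Dual.HD R K 0)) :
    ∃ E : DRing.Cx R, DRing.VanishesOutside E (-1) 0 ∧ Module.Free R (E.X 0) ∧ Module.Finite R (E.X 0) ∧
      Module.Finite R (E.X (-1)) ∧ Nonempty (DRing.toD E ≅ K) := by
  obtain ⟨E, hE, ⟨e⟩⟩ := Groth.DAlg.exists_rep (K := K) (a := -1) (b := 0)
    fun i hi => hK i (by omega) (by omega)
  obtain ⟨e0⟩ := Groth.DAlg.nonempty_homology_zero_equiv hE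
  obtain ⟨e1⟩ := Groth.DAlg.nonempty_homology_neg_one_equiv hE
  have := h1
  have := h0
  have : Module.Finite R (LinearMap.ker (E.d (-1) 0).hom) :=
    Module.Finite.equiv ((Groth.DAlg.HDCongr e (-1)).symm.trans ((Groth.DAlg.HDEquiv E (-1)).trans e1))
  have : Module.Finite R (E.X 0 ⧸ LinearMap.range (E.d (-1) 0).hom) :=
    Module.Finite.equiv ((Groth.DAlg.HDCongr e 0).symm.trans ((Groth.DAlg.HDEquiv E 0).trans e0))
  obtain ⟨n, π, hπ⟩ := Module.Finite.exists_fin' R (E.X 0 ⧸ LinearMap.range (E.d (-1) 0).hom)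
  obtain ⟨g, hg⟩ := Module.projective_lifting_property (Submodule.mkQ _) π (Submodule.mkQ_surjective _)
  have hg' : ∀ y : E.X 0, ∃ x w, g x + E.d (-1) 0 w = y := fun y => by
    obtain ⟨x, hx⟩ := hπ (Submodule.Quotient.mk y)
    rw [← hg] at hx
    obtain ⟨w, hw⟩ := (Submodule.Quotient.eq _).1 hx.symm
    exact ⟨x, w, (congrArg (g x + ·) hw).trans (add_sub_cancel _ _)⟩
  obtain ⟨E₁, hE₁, ⟨f0⟩, ⟨f1⟩, q, hq⟩ := Groth.DAlg.exists_pullback hE (ModuleCat.of R (Fin n → R))
    (ModuleCat.ofHom g) hg'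
  let L : E.X (-1) × (Fin n → R) →ₗ[R] E.X 0 := (E.d (-1) 0).hom.coprod (-g)
  let ι : LinearMap.ker (E.d (-1) 0).hom →ₗ[R] LinearMap.ker L :=
    ((LinearMap.inl R _ _).comp (LinearMap.ker (E.d (-1) 0).hom).subtype).codRestrict _ fun x => by
      simp [L, show E.d (-1) 0 x.1 = 0 from x.2]
  have : IsNoetherian R (LinearMap.ker L) := by
    refine isNoetherian_of_range_eq_ker ι ((LinearMap.snd R _ _).comp (LinearMap.ker L).subtype) ?_
    ext ⟨⟨y, x⟩, hp⟩
    constructor
    · rintro ⟨z, hz⟩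
      rw [← hz]
      rfl
    · intro hx
      have hx0 : x = 0 := hx
      subst hx0
      exact ⟨⟨y, by simpa [L] using hp⟩, rfl⟩
  exact ⟨E₁, hE₁, Module.Free.of_equiv f0.toLinearEquiv.symm, Module.Finite.equiv f0.toLinearEquiv.symm,
    Module.Finite.equiv f1.toLinearEquiv.symm, ⟨asIso (DerivedCategory.Q.map q) ≪≫ e⟩⟩

end Groth.Agent.S7079
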