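import Groth.Statements.S7081
import Groth.Agent.DAlg.Rep


set_option autoImplicit false
universe u
attribute [local instance] HasDerivedCategory.standard
open CategoryTheory
open DRing

namespace Groth.Agent.S7081

/-- Let R be a commutative ring and φ : K₁ → K₂, ψ : K₂ → K₃ morphisms in D(R) between objects whose
cohomology vanishes outside degrees -1 and 0. If φ induces the zero map on H^0 and ψ induces the
zero map on H^{-1}, then the composite K₁ → K₃ is zero. -/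
theorem result {R : Type u} [CommRing R] {K₁ K₂ K₃ : Dual.D R}
    (φ : K₁ ⟶ K₂) (ψ : K₂ ⟶ K₃)
    (h₁ : ∀ i : ℤ, i ≠ -1 → i ≠ 0 → Subsingleton (Dual.HD R K₁ i))
    (h₂ : ∀ i : ℤ, i ≠ -1 → i ≠ 0 → Subsingleton (Dual.HD R K₂ i))
    (h₃ : ∀ i : ℤ, i ≠ -1 → i ≠ 0 → Subsingleton (Dual.HD R K₃ i))
    (hφ : (DerivedCategory.homologyFunctor (ModuleCat.{u} R) 0).map φ = 0)
    (hψ : (DerivedCategory.homologyFunctor (ModuleCat.{u} R) (-1)).map ψ = 0) :
    φ ≫ ψ = 0 := by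
  obtain ⟨E₁, hE₁, hP₁, ⟨e₁⟩⟩ := Groth.DAlg.exists_rep_projective K₁ h₁
  obtain ⟨E₂, hE₂, hP₂, ⟨e₂⟩⟩ := Groth.DAlg.exists_rep_projective K₂ h₂
  obtain ⟨E₃, hE₃, -, ⟨e₃⟩⟩ := Groth.DAlg.exists_rep_projective K₃ h₃
  obtain ⟨a, ha⟩ := Groth.DAlg.exists_Q_map_eq (Groth.DAlg.two_above hE₁) hP₁ (Groth.DAlg.two_below hE₂)
    (e₁.hom ≫ φ ≫ e₂.inv)
  obtain ⟨b, hb⟩ := Groth.DAlg.exists_Q_map_eq (Groth.DAlg.two_above hE₂) hP₂ (Groth.DAlg.two_below hE₃)
    (e₂.hom ≫ ψ ≫ e₃.inv)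
  suffices h : DerivedCategory.Q.map (a ≫ b) = 0 by
    rw [Functor.map_comp, ha, hb] at h
    rw [← cancel_mono e₃.inv, ← cancel_epi e₁.hom]
    simpa using h
  have hrel : (ComplexShape.up ℤ).Rel (-1) 0 := by simp
  have ha0 : (DerivedCategory.homologyFunctor (ModuleCat.{u} R) 0).map (DerivedCategory.Q.map a) = 0 := by
    rw [ha, Functor.map_comp, Functor.map_comp, hφ, Limits.zero_comp, Limits.comp_zero]
  have hb1 : (DerivedCategory.homologyFunctor (ModuleCat.{u} R) (-1)).map (DerivedCategory.Q.map b) = 0 := by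
    rw [hb, Functor.map_comp, Functor.map_comp, hψ, Limits.zero_comp, Limits.comp_zero]
  have hra : ∀ x, a.f 0 x ∈ LinearMap.range (E₂.d (-1) 0).hom := fun x =>
    Groth.DAlg.exists_boundary_of_map_eq_zero a ((ComplexShape.up ℤ).prev_eq' hrel)
      ((ComplexShape.up ℤ).next_eq' (show (ComplexShape.up ℤ).Rel 0 1 by simp)) ha0 x (Groth.DAlg.two_cycle hE₁ x)
  obtain ⟨g, hg⟩ := Module.projective_lifting_property (E₂.d (-1) 0).hom.rangeRestrict
    ((a.f 0).hom.codRestrict _ hra) (LinearMap.surjective_rangeRestrict _)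
  have hg' : ∀ x, E₂.d (-1) 0 (g x) = a.f 0 x := fun x => congrArg Subtype.val (LinearMap.congr_fun hg x)
  rw [Groth.DAlg.Q_map_eq_zero_iff (Groth.DAlg.two_above hE₁) hP₁ (Groth.DAlg.two_below hE₃)]
  refine ⟨ModuleCat.ofHom g ≫ b.f (-1), ModuleCat.hom_ext (LinearMap.ext fun x => ?_),
    ModuleCat.hom_ext (LinearMap.ext fun x => ?_)⟩
  · show b.f (-1) (a.f (-1) x) = b.f (-1) (g (E₁.d (-1) 0 x))
    rw [← sub_eq_zero, ← map_sub]
    obtain ⟨w, hw⟩ := Groth.DAlg.exists_boundary_of_map_eq_zero b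
      ((ComplexShape.up ℤ).prev_eq' (show (ComplexShape.up ℤ).Rel (-2) (-1) by simp))
      ((ComplexShape.up ℤ).next_eq' hrel) hb1 (a.f (-1) x - g (E₁.d (-1) 0 x))
      (by rw [map_sub, hg', Groth.DAlg.comm_apply, sub_self])
    have := ModuleCat.subsingleton_of_isZero (Groth.DAlg.two_below hE₃ (-2) le_rfl)
    rw [← hw, Subsingleton.elim w 0, map_zero]
  · show b.f 0 (a.f 0 x) = E₃.d (-1) 0 (b.f (-1) (g x))
    rw [Groth.DAlg.comm_apply, hg']

end Groth.Agent.S7081
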