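import Groth.Statements.S7084
import Groth.Agent.LocCohBase.TensorKilled

set_option autoImplicit false
universe u
attribute [local instance] HasDerivedCategory.standard
open CategoryTheory
open LocCoh

namespace Groth.Agent.S7084

/-- Parts (1)–(2) in the case of a module killed by a power of the ideal: let R be a commutative ring, I
an ideal and K an object of D(R) such that K ⊗^L_R R/I has no cohomology in positive degrees. Then
for every R-module N annihilated by some power of I, K ⊗^L_R N has no cohomology in positive
degrees. (The published statement allows any I-power torsion module N; this row takes N annihilated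
by a single power of I, the case the published argument carries out in full, which contains the case
N = R/I^n.) The derived tensor products with modules are total left derived functors, assumed to
exist. -/
theorem result {R : Type u} [CommRing R] (I : Ideal R)
    [DRing.HasLTensor R (ModuleCat.of R (R ⧸ I))] (K : Dual.D R)
    (hK : ∀ i : ℤ, 0 < i → Subsingleton (Dual.HD R ((DRing.LTensor R (ModuleCat.of R (R ⧸ I))).obj K) i))
    (N : Type u) [AddCommGroup N] [Module R N] (n : ℕ) (hN : I ^ n • (⊤ : Submodule R N) = ⊥)
    [DRing.HasLTensor R (ModuleCat.of R N)] (i : ℤ) (hi : 0 < i) :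
    Subsingleton (Dual.HD R ((DRing.LTensor R (ModuleCat.of R N)).obj K) i) := by
  obtain ⟨P, hP, hPf, ⟨e⟩⟩ := Groth.DAlg.exists_kProjective_rep K
  haveI := hP
  haveI : ∀ j, Module.Flat R (P.X j) := fun j => by
    haveI := hPf j
    infer_instance
  haveI := Groth.DAlg.isKProjective_extCx (algebraMap R (R ⧸ I)) P
  have h0 : ∀ j : ℤ, 0 < j →
      Limits.IsZero ((DRing.tensorCx P (ModuleCat.of R (R ⧸ I))).homology j) := fun j hj => by
    refine Groth.DAlg.isZero_homology_of_subsingleton ?_
    have := hK j hj
    exact (Groth.DAlg.HDCongr ((DRing.LTensor R (ModuleCat.of R (R ⧸ I))).mapIso e.symm ≪≫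
      Groth.DAlg.lTensorIso (ModuleCat.of R (R ⧸ I)) P) j).symm.toEquiv.subsingleton
  have h1 : ∀ (M : Type u) [AddCommGroup M] [Module R M], I • (⊤ : Submodule R M) = ⊥ →
      ∀ j : ℤ, 0 < j → Limits.IsZero ((DRing.tensorCx P (ModuleCat.of R M)).homology j) := by
    intro M _ _ hM j hj
    letI : Module (R ⧸ I) M := Module.IsTorsionBySet.module (I := I) (fun m a => by
      have h : (a : R) • m ∈ I • (⊤ : Submodule R M) := Submodule.smul_mem_smul a.2 Submodule.mem_top
      rw [hM, Submodule.mem_bot] at h
      exact h)
    haveI : IsScalarTower R (R ⧸ I) M := Module.IsTorsionBySet.isScalarTower _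
    exact (Groth.DAlg.isZero_extCx_tensor_iff P M j).1
      (Groth.LocCohBase.TensorKilled.isZero_tensor_of_le (Groth.DAlg.extCx (algebraMap R (R ⧸ I)) P)
        (fun i hi => (Groth.DAlg.isZero_extCx_iff P i).2 (h0 i hi)) M j hj)
  have h2 := Groth.LocCohBase.TensorKilled.isZero_tensor_of_pow P i I
    (fun M _ _ hM => h1 M hM i hi) n N hN
  have := Groth.DAlg.subsingleton_HD_toD h2
  exact (Groth.DAlg.HDCongr ((DRing.LTensor R (ModuleCat.of R N)).mapIso e.symm ≪≫
    Groth.DAlg.lTensorIso (ModuleCat.of R N) P) i).toEquiv.subsingleton

end Groth.Agent.S7084
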