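import Groth.Statements.S7085
import Groth.Agent.LocCohBase.Torsion

set_option autoImplicit false
universe u
open LocCoh

namespace Groth.Agent.S7085

/-- Let R be a commutative ring, I an ideal generated by finitely many elements f_1, …, f_t, and M an
R-module. Then: M has no nonzero element killed by I if and only if it has no nonzero element killed
by I^n for every n ≥ 1; and M has no nonzero element killed by I if and only if an element of M
vanishing in every localization M_{f_i} is zero. -/
theorem result {R : Type u} [CommRing R] {t : ℕ} (f : Fin t → R)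
    (I : Ideal R) (hI : Ideal.span (Set.range f) = I) (M : Type u) [AddCommGroup M] [Module R M] :
    (LocCoh.torsionBy I M = ⊥ ↔ ∀ n : ℕ, 1 ≤ n → LocCoh.torsionBy (I ^ n) M = ⊥) ∧
    (LocCoh.torsionBy I M = ⊥ ↔
      ∀ m : M, (∀ i : Fin t, LocalizedModule.mkLinearMap (Submonoid.powers (f i)) M m = 0) → m = 0) := by
  have key : ∀ n : ℕ, LocCoh.torsionBy I M = ⊥ → ∀ m : M, (∀ a ∈ I ^ n, a • m = 0) → m = 0 := by
    intro n h
    induction n with
    | zero =>
      intro m hm
      simpa using hm 1 (by simp)
    | succ n ih =>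
      intro m hm
      refine ih m fun a ha => ?_
      have : a • m ∈ LocCoh.torsionBy I M := by
        refine (Submodule.mem_torsionBySet_iff _ _).2 fun ⟨b, hb⟩ => ?_
        rw [smul_smul]
        exact hm _ (by rw [pow_succ']; exact Ideal.mul_mem_mul hb ha)
      rw [h] at this
      exact this
  refine ⟨⟨fun h n _ => le_bot_iff.1 fun m hm => key n h m fun a ha =>
      (Submodule.mem_torsionBySet_iff _ _).1 hm ⟨a, ha⟩,
    fun h => by simpa using h 1 le_rfl⟩, ⟨fun h m hm => ?_, fun h => le_bot_iff.1 fun m hm => ?_⟩⟩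
  · have hrad : I ≤ ((R ∙ m).annihilator).radical := by
      rw [← hI, Ideal.span_le]
      rintro _ ⟨i, rfl⟩
      have h0 := hm i
      rw [LocalizedModule.mkLinearMap_apply, ← LocalizedModule.zero_mk 1,
        LocalizedModule.mk_eq] at h0
      obtain ⟨⟨c, k, rfl⟩, hc⟩ := h0
      exact ⟨k, (Submodule.mem_annihilator_span_singleton m _).2 (by simpa [Submonoid.smul_def] using hc)⟩
    obtain ⟨n, hn⟩ := Ideal.exists_pow_le_of_le_radical_of_fg hrad
      (hI ▸ Submodule.fg_span (Set.finite_range f))
    exact key n h m fun a ha => (Submodule.mem_annihilator_span_singleton m a).1 (hn ha)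
  · refine h m fun i => ?_
    rw [LocalizedModule.mkLinearMap_apply, ← LocalizedModule.zero_mk 1, LocalizedModule.mk_eq]
    refine ⟨⟨f i, Submonoid.mem_powers _⟩, ?_⟩
    simpa using (Submodule.mem_torsionBySet_iff _ _).1 hm
      ⟨f i, hI ▸ Ideal.subset_span ⟨i, rfl⟩⟩

end Groth.Agent.S7085
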