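import Groth.Statements.S7089
import Mathlib.Algebra.Homology.ShortComplex.ModuleCat
import Mathlib.Algebra.Category.ModuleCat.EpiMono

set_option autoImplicit false
universe u
open CategoryTheory
open LocCoh

namespace Groth.Agent.S7089

section
variable {R : Type u} [CommRing R] (I : Ideal R)

/-- exponent killing an element -/
noncomputable def expo (M : ModuleCat.{u} R) (hM : LocCoh.IsPowerTorsion I M) (m : M) : ℕ :=
  (hM m).choose

lemma expo_spec (M : ModuleCat.{u} R) (hM : LocCoh.IsPowerTorsion I M) (m : M) :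
    ∀ a ∈ I ^ expo I M hM m, a • m = 0 :=
  (hM m).choose_spec

noncomputable def cover (M : ModuleCat.{u} R) (hM : LocCoh.IsPowerTorsion I M) : ModuleCat.{u} R :=
  ModuleCat.of R (DirectSum M fun m => R ⧸ I ^ expo I M hM m)

lemma isPowerTorsion_cover (M : ModuleCat.{u} R) (hM : LocCoh.IsPowerTorsion I M) :
    LocCoh.IsPowerTorsion I (cover I M hM) := by
  classical
  show ∀ x : DirectSum M fun m => R ⧸ I ^ expo I M hM m, ∃ n : ℕ, ∀ a ∈ I ^ n, a • x = 0
  intro x
  induction x using DirectSum.induction_on with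
  | zero => exact ⟨0, fun a _ => smul_zero a⟩
  | of m q =>
    refine ⟨expo I M hM m, fun a ha => ?_⟩
    obtain ⟨r, rfl⟩ := Ideal.Quotient.mk_surjective q
    change a • DirectSum.lof R M (fun m => R ⧸ I ^ expo I M hM m) m (Ideal.Quotient.mk _ r) = 0
    rw [← map_smul]
    convert map_zero (DirectSum.lof R M (fun m => R ⧸ I ^ expo I M hM m) m)
    exact Ideal.Quotient.eq_zero_iff_mem.2 (Ideal.mul_mem_right _ _ ha)
  | add x y hx hy =>
    obtain ⟨a, ha⟩ := hx
    obtain ⟨b, hb⟩ := hy
    refine ⟨a + b, fun c hc => ?_⟩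
    rw [smul_add, ha c (Ideal.pow_le_pow_right (Nat.le_add_right a b) hc),
      hb c (Ideal.pow_le_pow_right (Nat.le_add_left b a) hc), add_zero]

noncomputable def coverπ (M : ModuleCat.{u} R) (hM : LocCoh.IsPowerTorsion I M) : cover I M hM ⟶ M :=
  ModuleCat.ofHom (by
    classical
    exact DirectSum.toModule R M M fun m =>
      Submodule.liftQ (I ^ expo I M hM m) (LinearMap.toSpanSingleton R M m)
        fun a ha => expo_spec I M hM m a ha)

lemma coverπ_surjective (M : ModuleCat.{u} R) (hM : LocCoh.IsPowerTorsion I M) :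
    Function.Surjective (coverπ I M hM).hom := by
  classical
  intro m
  refine ⟨DirectSum.lof R M (fun m => R ⧸ I ^ expo I M hM m) m (Submodule.Quotient.mk 1), ?_⟩
  unfold coverπ
  erw [DirectSum.toModule_lof]
  exact one_smul R m

/-- next syzygy -/
noncomputable def nextK (Z : {M : ModuleCat.{u} R // LocCoh.IsPowerTorsion I M}) :
    {M : ModuleCat.{u} R // LocCoh.IsPowerTorsion I M} :=
  ⟨ModuleCat.of R (LinearMap.ker (coverπ I Z.1 Z.2).hom), fun x => by
    obtain ⟨n, hn⟩ := isPowerTorsion_cover I Z.1 Z.2 x.1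
    exact ⟨n, fun a ha => Subtype.ext (hn a ha)⟩⟩

variable (M : ModuleCat.{u} R) (hM : LocCoh.IsPowerTorsion I M)

noncomputable def syz : ℕ → {M : ModuleCat.{u} R // LocCoh.IsPowerTorsion I M}
  | 0 => ⟨M, hM⟩
  | n + 1 => nextK I (syz n)

noncomputable def term (n : ℕ) : ModuleCat.{u} R := cover I (syz I M hM n).1 (syz I M hM n).2

noncomputable def dK (n : ℕ) : term I M hM (n + 1) ⟶ term I M hM n :=
  ModuleCat.ofHom (Y := term I M hM n)
    ((LinearMap.ker (coverπ I (syz I M hM n).1 (syz I M hM n).2).hom).subtype ∘ₗ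
      (coverπ I (syz I M hM (n + 1)).1 (syz I M hM (n + 1)).2).hom)

lemma dK_mem (n : ℕ) (x : term I M hM (n + 1)) :
    (coverπ I (syz I M hM n).1 (syz I M hM n).2).hom ((dK I M hM n).hom x) = 0 :=
  ((coverπ I (syz I M hM (n + 1)).1 (syz I M hM (n + 1)).2).hom x).2

lemma dK_range (n : ℕ) (y : term I M hM n)
    (hy : (coverπ I (syz I M hM n).1 (syz I M hM n).2).hom y = 0) :
    ∃ x, (dK I M hM n).hom x = y := by
  obtain ⟨x, hx⟩ := coverπ_surjective I (syz I M hM (n + 1)).1 (syz I M hM (n + 1)).2 ⟨y, hy⟩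
  exact ⟨x, congrArg Subtype.val hx⟩

lemma dK_eq_zero_iff (n : ℕ) (x : term I M hM (n + 1)) :
    (dK I M hM n).hom x = 0 ↔ (coverπ I (syz I M hM (n + 1)).1 (syz I M hM (n + 1)).2).hom x = 0 :=
  ⟨fun h => Subtype.ext h, fun h => congrArg Subtype.val h⟩

lemma dK_comp (n : ℕ) : dK I M hM (n + 1) ≫ dK I M hM n = 0 := by
  ext x
  exact (dK_eq_zero_iff I M hM n _).2 (dK_mem I M hM (n + 1) x)

noncomputable def cx : ChainComplex (ModuleCat.{u} R) ℕ :=
  ChainComplex.of (term I M hM) (dK I M hM) (dK_comp I M hM)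

lemma cx_d (n : ℕ) : (cx I M hM).d (n + 1) n = dK I M hM n :=
  ChainComplex.of_d _ _ n

lemma cx_exactAt_succ (n : ℕ) : (cx I M hM).ExactAt (n + 1) := by
  rw [HomologicalComplex.exactAt_iff' _ (n + 1 + 1) (n + 1) n (by simp) (by simp),
    ShortComplex.moduleCat_exact_iff]
  intro x hx
  have hx' : (dK I M hM n).hom x = 0 := by rw [← cx_d]; exact hx
  obtain ⟨w, hw⟩ := dK_range I M hM (n + 1) x ((dK_eq_zero_iff I M hM n x).1 hx')
  exact ⟨w, by
    change ((cx I M hM).d (n + 1 + 1) (n + 1)).hom w = x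
    rw [cx_d]; exact hw⟩

noncomputable def aug : cx I M hM ⟶ (ChainComplex.single₀ (ModuleCat.{u} R)).obj M :=
  (ChainComplex.toSingle₀Equiv (cx I M hM) M).symm ⟨coverπ I M hM, by
    rw [cx_d]
    ext x
    exact dK_mem I M hM 0 x⟩

lemma quasiIso_aug : QuasiIso (aug I M hM) := ⟨fun n => by
  cases n with
  | zero =>
    rw [ChainComplex.quasiIsoAt₀_iff, ShortComplex.quasiIso_iff_of_zeros']
    · let S := ShortComplex.mk (dK I M hM 0) (coverπ I M hM) (by
          ext x; exact dK_mem I M hM 0 x)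
      refine (ShortComplex.exact_and_epi_g_iff_of_iso ?_).2
        (show S.Exact ∧ Epi S.g from ⟨(ShortComplex.moduleCat_exact_iff _).2 fun x hx =>
          dK_range I M hM 0 x hx,
          (ModuleCat.epi_iff_surjective _).2 (coverπ_surjective I M hM)⟩)
      exact ShortComplex.isoMk (Iso.refl _) (Iso.refl _) (Iso.refl _)
          (by simp [S, cx_d]; rfl) (by simp [S, aug]; rfl)
    all_goals rfl
  | succ n =>
    rw [quasiIsoAt_iff_exactAt']
    · exact cx_exactAt_succ I M hM n
    · exact HomologicalComplex.exactAt_single_obj _ _ _ _ (by simp)⟩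

end

/-- Let R be a commutative ring, I an ideal and M an R-module in which every element is killed by a
power of I. Then M has a left resolution by modules each of which is a direct sum of copies of R/I^n
for varying n: there are a chain complex K of R-modules, a quasi-isomorphism from K to M placed in
degree 0, and for each i an isomorphism of K_i with such a direct sum. -/
theorem result {R : Type u} [CommRing R] (I : Ideal R)
    (M : Type u) [AddCommGroup M] [Module R M] (hM : LocCoh.IsPowerTorsion I M) :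
    ∃ (K : ChainComplex (ModuleCat.{u} R) ℕ) (π : K ⟶ (ChainComplex.single₀ (ModuleCat.{u} R)).obj (ModuleCat.of R M)),
      QuasiIso π ∧ ∀ i : ℕ, ∃ (ι : Type u) (n : ι → ℕ),
        Nonempty (K.X i ≅ ModuleCat.of R (DirectSum ι fun j => R ⧸ I ^ n j)) :=
  ⟨cx I (ModuleCat.of R M) hM, aug I (ModuleCat.of R M) hM, quasiIso_aug I (ModuleCat.of R M) hM,
    fun i => ⟨_, _, ⟨Iso.refl _⟩⟩⟩

end Groth.Agent.S7089
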