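import Groth.Statements.S7090
import Groth.Agent.EtaleAlgebra.TorsionGlue
-- import your own Groth.Agent.* helpers here

set_option autoImplicit false
universe u
open TensorProduct
open EtAlg

namespace Groth.Agent.S7090

/-- Let R → S be a flat homomorphism of commutative rings and I = (f_1, …, f_t) a finitely generated
ideal such that R/I → S/IS is bijective. Then for every R-module M the glueing complex 0 → M → (S
⊗_R M) × ∏ M_{f_i} → ∏ (S ⊗_R M)_{f_i} × ∏ M_{f_i f_j} is exact. Concretely: an element of M with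
zero image in S ⊗_R M and in every M_{f_i} is zero; and given x in S ⊗_R M and elements m_1, …, m_t
of M and N ≥ 0 such that x and m_i / f_i^N have the same image in (S ⊗_R M)_{f_i} for each i, and
m_i / f_i^N, m_j / f_j^N have the same image in M_{f_i f_j} for all i, j, there is m in M with 1 ⊗ m
= x and m / 1 = m_i / f_i^N in M_{f_i} for every i. -/
theorem result {R S : Type u} [CommRing R] [CommRing S] [Algebra R S] [Module.Flat R S]
    {t : ℕ} (f : Fin t → R) (I : Ideal R) (hI : Ideal.span (Set.range f) = I)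
    (hq : Function.Bijective
      (Ideal.quotientMap (Ideal.map (algebraMap R S) I) (algebraMap R S) Ideal.le_comap_map))
    (M : Type u) [AddCommGroup M] [Module R M] :
    (∀ m : M, (1 : S) ⊗ₜ[R] m = 0 →
        (∀ i : Fin t, LocalizedModule.mkLinearMap (Submonoid.powers (f i)) M m = 0) → m = 0) ∧
    ∀ (x : S ⊗[R] M) (N : ℕ) (m : Fin t → M),
      (∀ i : Fin t, EtGlue.locOfTensor R S (f i) M x =
          EtGlue.tensorOfLoc R S (f i) M (LocalizedModule.mk (m i) ⟨f i ^ N, Submonoid.pow_mem _ (Submonoid.mem_powers (f i)) N⟩)) →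
      (∀ i j : Fin t, ∃ e : ℕ, (f i * f j) ^ e • (f j ^ N • m i - f i ^ N • m j) = 0) →
        ∃ μ : M, (1 : S) ⊗ₜ[R] μ = x ∧
          ∀ i : Fin t, LocalizedModule.mkLinearMap (Submonoid.powers (f i)) M μ =
            LocalizedModule.mk (m i) ⟨f i ^ N, Submonoid.pow_mem _ (Submonoid.mem_powers (f i)) N⟩ := by
  classical
  have hev : ∀ {M : Type u} [AddCommGroup M] [Module R M] (r : R) (z : M) (a b : ℕ),
      a ≤ b → r ^ a • z = 0 → r ^ b • z = 0 := by
    intro M _ _ r z a b hab h
    obtain ⟨c, rfl⟩ := Nat.exists_eq_add_of_le hab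
    rw [pow_add, mul_comm, mul_smul, h, smul_zero]
  refine ⟨fun m hm hloc => ?_, fun x N m hx hm => ?_⟩
  · have h1 : ∀ i, ∃ a : ℕ, f i ^ a • m = 0 := fun i => by
      obtain ⟨⟨_, a, rfl⟩, ha⟩ :=
        (IsLocalizedModule.eq_zero_iff (Submonoid.powers (f i)) (LocalizedModule.mkLinearMap _ M)).mp (hloc i)
      exact ⟨a, ha⟩
    choose a ha using h1
    obtain ⟨n, hn⟩ := Groth.Agent.EtaleAlgebra.TorsionGlue.kill I hI (K := Finset.univ.sup a) (m := m)
      fun i => hev _ _ _ _ (Finset.le_sup (Finset.mem_univ i)) (ha i)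
    exact Groth.Agent.EtaleAlgebra.TorsionGlue.eq_zero I hq hn hm
  · have hx' : ∀ i, ∃ a : ℕ, f i ^ a • (f i ^ N • x - (1 : S) ⊗ₜ[R] m i) = 0 := by
      intro i
      have h := hx i
      rw [IsLocalizedModule.mk_eq_mk', IsLocalizedModule.map_mk', ← IsLocalizedModule.mk_eq_mk',
        LocalizedModule.mkLinearMap_apply, LocalizedModule.mk_eq] at h
      obtain ⟨⟨_, a, rfl⟩, ha⟩ := h
      refine ⟨a, ?_⟩
      simp only [Submonoid.smul_def, one_smul, Submonoid.coe_one, TensorProduct.mk_apply] at ha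
      rw [smul_sub, sub_eq_zero]
      exact ha
    choose a ha using hx'
    choose e he using hm
    let L := Finset.univ.sup a ⊔ Finset.univ.sup (fun p : Fin t × Fin t => e p.1 p.2)
    have haL : ∀ i, f i ^ L • (f i ^ N • x - (1 : S) ⊗ₜ[R] m i) = 0 := fun i =>
      hev (f i) (f i ^ N • x - (1 : S) ⊗ₜ[R] m i) (a i) L (le_trans (Finset.le_sup (Finset.mem_univ i)) le_sup_left) (ha i)
    have heL : ∀ i j, (f i * f j) ^ L • (f j ^ N • m i - f i ^ N • m j) = 0 := fun i j =>
      hev (f i * f j) (f j ^ N • m i - f i ^ N • m j) (e i j) L (le_trans (Finset.le_sup (f := fun p : Fin t × Fin t => e p.1 p.2)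
        (Finset.mem_univ (i, j))) le_sup_right) (he i j)
    obtain ⟨μ, hμ, hμ'⟩ := Groth.Agent.EtaleAlgebra.TorsionGlue.exists_glue I hq f hI
      (K := L + N) (fun i => f i ^ L • m i) x (fun i j => by
        have h := heL i j
        rw [smul_sub, sub_eq_zero, smul_smul, smul_smul] at h
        rw [smul_smul, smul_smul]
        convert h using 2 <;> ring) (fun i => by
        have h := haL i
        rw [smul_sub, sub_eq_zero, smul_smul, ← pow_add] at h
        rw [TensorProduct.tmul_smul, ← h])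
    refine ⟨μ, hμ, fun i => ?_⟩
    rw [LocalizedModule.mkLinearMap_apply, LocalizedModule.mk_eq]
    refine ⟨⟨f i ^ L, L, rfl⟩, ?_⟩
    simp only [Submonoid.smul_def, one_smul, Submonoid.coe_one]
    rw [smul_smul, ← pow_add, hμ']

end Groth.Agent.S7090
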