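import Groth.Statements.S7091
import Groth.Agent.DAlg.DCompletionAmp


set_option autoImplicit false
universe u
attribute [local instance] HasDerivedCategory.standard
open CategoryTheory
open DRing

namespace Groth.Agent.S7091

/-- Let A be a commutative ring, I a finitely generated ideal, and assume the derived completion functor
(left adjoint to the inclusion of derived complete objects) exists. If a morphism K → L in D(A)
induces isomorphisms on cohomology in degrees ≥ 1 and a surjection in degree 0, then so does the
induced morphism between the derived completions. -/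
theorem result {A : Type u} [CommRing A] (I : Ideal A) (hI : I.FG)
    [DRing.HasDerivedCompletion I] {K L : Dual.D A} (φ : K ⟶ L)
    (hiso : ∀ i : ℤ, 1 ≤ i → IsIso ((DerivedCategory.homologyFunctor (ModuleCat.{u} A) i).map φ))
    (hepi : Epi ((DerivedCategory.homologyFunctor (ModuleCat.{u} A) 0).map φ)) :
    (∀ i : ℤ, 1 ≤ i → IsIso ((DerivedCategory.homologyFunctor (ModuleCat.{u} A) i).map
        ((DRing.derivedCompletion I).map φ).hom)) ∧
      Epi ((DerivedCategory.homologyFunctor (ModuleCat.{u} A) 0).map ((DRing.derivedCompletion I).map φ).hom) := by
  obtain ⟨s, hs⟩ := hI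
  have key : ∀ n : ℤ, 0 ≤ n → Epi ((DerivedCategory.homologyFunctor (ModuleCat.{u} A) n).map
        ((DRing.derivedCompletion I).map φ).hom) ∧
      Mono ((DerivedCategory.homologyFunctor (ModuleCat.{u} A) (n + 1)).map ((DRing.derivedCompletion I).map φ).hom) :=
    fun n hn => Groth.DAlg.DCompletionAmp.epi_mono_completion I s hs φ n fun i hi _ => by
      have hmono := hiso (i + 1) (by omega)
      refine ⟨?_, inferInstance⟩
      rcases eq_or_lt_of_le (hn.trans hi) with h | h
      · subst h; exact hepi
      · have := hiso i (by omega); infer_instance
  refine ⟨fun i hi => ?_, (key 0 le_rfl).1⟩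
  have := (key i (by omega)).1
  have h := (key (i - 1) (by omega)).2
  rw [sub_add_cancel] at h
  exact isIso_of_mono_of_epi _

end Groth.Agent.S7091
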