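import Groth.Statements.S7092
import Groth.Agent.DAlg.DCompletionAmp


set_option autoImplicit false
universe u
attribute [local instance] HasDerivedCategory.standard
open CategoryTheory
open DRing

namespace Groth.Agent.S7092

/-- Let A be a commutative ring, I an ideal generated by a finite set of r elements, and assume the
derived completion functor exists. If a morphism K → L in D(A) induces isomorphisms on cohomology in
degrees ≤ -1 and an injection in degree 0, then the induced morphism of derived completions induces
isomorphisms on cohomology in degrees ≤ -r-1 and an injection in degree -r. -/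
theorem result {A : Type u} [CommRing A] (I : Ideal A) (s : Finset A)
    (hs : Ideal.span (s : Set A) = I) [DRing.HasDerivedCompletion I] {K L : Dual.D A} (φ : K ⟶ L)
    (hiso : ∀ i : ℤ, i ≤ -1 → IsIso ((DerivedCategory.homologyFunctor (ModuleCat.{u} A) i).map φ))
    (hmono : Mono ((DerivedCategory.homologyFunctor (ModuleCat.{u} A) 0).map φ)) :
    (∀ i : ℤ, i ≤ -(s.card : ℤ) - 1 → IsIso ((DerivedCategory.homologyFunctor (ModuleCat.{u} A) i).map
        ((DRing.derivedCompletion I).map φ).hom)) ∧
      Mono ((DerivedCategory.homologyFunctor (ModuleCat.{u} A) (-(s.card : ℤ))).map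
        ((DRing.derivedCompletion I).map φ).hom) := by
  have key : ∀ n : ℤ, n ≤ -(s.card : ℤ) - 1 → Epi ((DerivedCategory.homologyFunctor (ModuleCat.{u} A) n).map
        ((DRing.derivedCompletion I).map φ).hom) ∧
      Mono ((DerivedCategory.homologyFunctor (ModuleCat.{u} A) (n + 1)).map ((DRing.derivedCompletion I).map φ).hom) :=
    fun n hn => Groth.DAlg.DCompletionAmp.epi_mono_completion I s hs φ n fun i hi hi2 => by
      have := hiso i (by omega)
      refine ⟨inferInstance, ?_⟩
      rcases eq_or_lt_of_le (show i + 1 ≤ 0 by omega) with h | h
      · rw [h]; exact hmono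
      · have := hiso (i + 1) (by omega); infer_instance
  refine ⟨fun i hi => ?_, ?_⟩
  · have := (key i hi).1
    have h := (key (i - 1) (by omega)).2
    rw [sub_add_cancel] at h
    exact isIso_of_mono_of_epi _
  · have h := (key _ le_rfl).2
    rwa [sub_add_cancel] at h

end Groth.Agent.S7092
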