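import Groth.Statements.S7093
import Groth.Agent.DAlg.TorAmp
import Groth.Agent.DAlg.Classes
import Groth.Agent.S6937
import Groth.Agent.S7017
import Mathlib.CategoryTheory.Triangulated.Subcategory

set_option autoImplicit false
universe u
attribute [local instance] HasDerivedCategory.standard
open CategoryTheory CategoryTheory.Limits
open Dual2

namespace Groth.Agent.S7093

/-- For a flat homomorphism of finite presentation R → A of commutative rings, the R-perfect objects of
D(A) (pseudo-coherent over A, finite tor dimension over R) form a strictly full, saturated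
triangulated subcategory: the property is a triangulated object property (contains zero, stable
under shifts and under extensions in distinguished triangles), is closed under isomorphisms, and
passes to direct summands. -/
theorem result (R A : Type u) [CommRing R] [CommRing A] [Algebra R A]
    [Module.Flat R A] [Algebra.FinitePresentation R A] :
    ObjectProperty.IsTriangulated (C := Dual.D A) (fun K => Dual2.IsRelPerfect R A K) ∧
      ObjectProperty.IsClosedUnderIsomorphisms (C := Dual.D A) (fun K => Dual2.IsRelPerfect R A K) ∧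
      ∀ X Y : Dual.D A, Dual2.IsRelPerfect R A (X ⊞ Y) → Dual2.IsRelPerfect R A X ∧ Dual2.IsRelPerfect R A Y := by
  let F := DRing.restrictD (algebraMap R A)
  have hzero : ∀ K : Dual.D A, IsZero K → DRing.IsPseudoCoherent' A K := fun K hK =>
    ⟨HomologicalComplex.zero, 0, fun i _ => Groth.PCohPunctual.isZero_zeroComplex_X i,
      fun i => by
        haveI := ModuleCat.subsingleton_of_isZero (Groth.PCohPunctual.isZero_zeroComplex_X (C := ModuleCat.{u} A) i)
        exact ⟨inferInstance, inferInstance⟩,
      ⟨(Groth.DAlg.isZero_Q_obj fun i => Groth.PCohPunctual.isZero_zeroComplex_X i).iso hK⟩⟩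
  have hiso : ∀ K L : Dual.D A, (K ≅ L) → Dual2.IsRelPerfect R A K → Dual2.IsRelPerfect R A L := by
    rintro K L e ⟨⟨E, b, hE, hF, ⟨e'⟩⟩, a, b', h⟩
    exact ⟨⟨E, b, hE, hF, ⟨e' ≪≫ e⟩⟩, a, b', Groth.DAlg.TorAmp.of_iso h (F.mapIso e)⟩
  have : ObjectProperty.IsClosedUnderIsomorphisms (C := Dual.D A) (fun K => Dual2.IsRelPerfect R A K) :=
    ⟨fun e h => hiso _ _ e h⟩
  refine ⟨{ exists_zero := ⟨(HasZeroObject.zero' (Dual.D A)).zero, isZero_zero _, hzero _ (isZero_zero _), 0, 0,
              Groth.DAlg.TorAmp.of_isZero (F.map_isZero (isZero_zero _)) _ _⟩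
            isStableUnderShiftBy := fun n => ⟨?_⟩
            ext₂' := ?_ }, inferInstance, ?_⟩
  · rintro K ⟨hpc, a, b, hta⟩
    refine ⟨?_, a - n, b - n, Groth.DAlg.TorAmp.of_iso (Groth.DAlg.TorAmp.shift hta n) ((F.commShiftIso n).app K).symm⟩
    rw [Groth.DAlg.isPseudoCoherent'_iff_isPC] at hpc ⊢
    intro m
    have := Groth.PCohPunctual.PCn.shift (hpc (m + n)) n
    rw [add_sub_cancel_right] at this
    exact this
  · rintro T hT ⟨h₁, a, b, ha⟩ ⟨h₃, a', b', ha'⟩
    refine ObjectProperty.le_isoClosure _ _ ⟨(Groth.Agent.S7017.result A T hT).2.1 h₁ h₃, min a a', max b b', ?_⟩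
    exact Groth.DAlg.TorAmp.ext (T := F.mapTriangle.obj T) (F.map_distinguished T hT)
      (Groth.DAlg.TorAmp.mono ha (min_le_left _ _) (le_max_left _ _))
      (Groth.DAlg.TorAmp.mono ha' (min_le_right _ _) (le_max_right _ _))
  · rintro X Y ⟨hpc, a, b, hta⟩
    obtain ⟨hX, hY⟩ := (Groth.Agent.S6937.result A 0 X Y).2 hpc
    exact ⟨⟨hX, a, b, Groth.DAlg.TorAmp.retract (F.map (biprod.inl (X := X) (Y := Y))) (F.map biprod.fst)
        (by rw [← F.map_comp, biprod.inl_fst, F.map_id]) hta⟩,
      ⟨hY, a, b, Groth.DAlg.TorAmp.retract (F.map (biprod.inr (X := X) (Y := Y))) (F.map biprod.snd)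
        (by rw [← F.map_comp, biprod.inr_snd, F.map_id]) hta⟩⟩

end Groth.Agent.S7093
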