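import Groth.Statements.S7102
import Groth.Agent.DAlg.TorAmp
import Groth.Agent.DAlg.TorAmpTot
import Mathlib.CategoryTheory.Functor.Derived.PointwiseLeftDerived

set_option autoImplicit false
universe u
attribute [local instance] HasDerivedCategory.standard
open Dual2

open CategoryTheory CategoryTheory.Limits HomologicalComplex MonoidalCategory Groth.DAlg Groth.DAlg.KFlatMod

namespace Groth.Agent.S7102

/-- Let R → A be a flat homomorphism of finite presentation of commutative rings, E a bounded cochain
complex of finite projective A-modules (a perfect object of D(A)) for which the derived functor −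
⊗^L_A E exists, and M an R-perfect object of D(A). Then M ⊗^L_A E is R-perfect. -/
theorem result (R A : Type u) [CommRing R] [CommRing A] [Algebra R A]
    [Module.Flat R A] [Algebra.FinitePresentation R A] (E : DRing.Cx A) (a b : ℤ)
    (hEb : DRing.VanishesOutside E a b) (hEp : DRing.TermwiseFiniteProjective E) [DRing.HasLTensorCx A E]
    (M : Dual.D A) (hM : Dual2.IsRelPerfect R A M) :
    Dual2.IsRelPerfect R A ((DRing.LTensorCx A E).obj M) := by
  obtain ⟨hpc, c, d, htd⟩ := hM
  have hE : DRing.IsPerfect A (DRing.toD E) := ⟨E, a, b, hEb, hEp, ⟨Iso.refl _⟩⟩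
  refine ⟨isPC_lTensorCx hpc E (IsPerfect.isPseudoCoherent' hE), a + c, b + d, ?_⟩
  obtain ⟨G, g, hG, hGF, ⟨eG⟩⟩ := id hpc
  have hGk : IsKFlatCx A G := isKFlatCx_of_flat G hG fun i => haveI := (hGF i).2; inferInstance
  have hEk : IsKFlatCx A E := isKFlatCx_of_flat E (fun i hi => hEb i (Or.inr hi))
    fun i => haveI := (hEp i).2; inferInstance
  haveI : DRing.HasLTensorCx A G := by
    haveI := (DRing.tensorCxQ A G).hasPointwiseLeftDerivedFunctor_of_inverts
      (W := HomologicalComplex.quasiIso (ModuleCat.{u} A) (ComplexShape.up ℤ)) (fun X Y f hf => by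
        haveI : QuasiIso f := (HomologicalComplex.mem_quasiIso_iff f).1 hf
        exact (DerivedCategory.isIso_Q_map_iff_quasiIso _ _).2 ((isKFlatCx_iff.1 hGk).quasiIso_totL f))
    exact Functor.hasLeftDerivedFunctor_of_hasPointwiseLeftDerivedFunctor _ _
  have hL : DRing.HasTorAmplitudeIn R c d (DRing.toD ((DRing.restrictCx (algebraMap R A)).obj G)) :=
    TorAmp.of_iso htd ((DRing.restrictD (algebraMap R A)).mapIso eG.symm ≪≫ resQIso _ G)
  refine TorAmp.of_iso (torAmp_res_lTensorCx (algebraMap R A) (DRing.toD E) a b c d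
    (TorAmp.of_finProj hEb hEp (Iso.refl _)) G hL) ((DRing.restrictD (algebraMap R A)).mapIso ?_)
  exact lTensorCxIso G E hEk ≪≫
    DerivedCategory.Q.mapIso ((mapBifunctorFlipIso E G (T A) (ComplexShape.up ℤ)).symm ≪≫
      (HomologicalComplex₂.totalFunctor (ModuleCat.{u} A) (ComplexShape.up ℤ) (ComplexShape.up ℤ)
        (ComplexShape.up ℤ)).mapIso (biFlipIso G E)) ≪≫
    (lTensorCxIso E G hGk).symm ≪≫ (DRing.LTensorCx A E).mapIso eG

end Groth.Agent.S7102
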