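import Groth.Statements.S7104
import Groth.Agent.DAlg.RelPerfectBC
import Groth.Agent.DAlg.RelPerfectPoly
import Groth.Agent.PCohHom.Hom

set_option autoImplicit false
universe u
attribute [local instance] HasDerivedCategory.standard
open CategoryTheory
open Dual2

open CategoryTheory.Limits HomologicalComplex Groth.DAlg

namespace Groth.Agent.S7104

/-- Let R be a commutative ring and A an R-algebra which is flat, of finite presentation, and a quotient
of the polynomial ring R[x_1, …, x_d]. Let q be a prime of A lying over the prime p of R, and K a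
pseudo-coherent object of D(A). Write K_q for the derived base change of K to A_q (assumed to exist)
and view it in D(R_p) and in D(R) by restriction of scalars. If the cohomology of K_q ⊗^L_{R_p} κ(p)
(derived tensor with the residue field, assumed to exist) vanishes outside the degrees in [a, b],
then K_q has tor amplitude in [a - d, b] as a complex of R-modules. -/
theorem result (R A : Type u) [CommRing R] [CommRing A] [Algebra R A]
    [Module.Flat R A] [Algebra.FinitePresentation R A] (d : ℕ)
    (ψ : MvPolynomial (Fin d) R →ₐ[R] A) (hψ : Function.Surjective ψ)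
    (q : Ideal A) [q.IsPrime] (p : Ideal R) [p.IsPrime] (hpq : p = Ideal.comap (algebraMap R A) q)
    [DRing.HasLBaseChange (algebraMap A (Localization.AtPrime q))]
    [DRing.HasLTensor (Localization.AtPrime p) (ModuleCat.of (Localization.AtPrime p) p.ResidueField)]
    (K : Dual.D A) (hK : DRing.IsPseudoCoherent' A K) (a b : ℤ)
    (hfib : ∀ i : ℤ, i < a ∨ b < i → Subsingleton (Dual.HD (Localization.AtPrime p)
      ((DRing.LTensor (Localization.AtPrime p) (ModuleCat.of (Localization.AtPrime p) p.ResidueField)).obj
        ((DRing.restrictD (Localization.localRingHom p q (algebraMap R A) hpq)).obj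
          ((DRing.LBaseChange (algebraMap A (Localization.AtPrime q))).obj K))) i)) :
    DRing.HasTorAmplitudeIn R (a - d) b
      ((DRing.restrictD (algebraMap R (Localization.AtPrime q))).obj
        ((DRing.LBaseChange (algebraMap A (Localization.AtPrime q))).obj K)) := by
  letI : Algebra (MvPolynomial (Fin d) R) A := ψ.toRingHom.toAlgebra
  haveI : IsScalarTower R (MvPolynomial (Fin d) R) A :=
    IsScalarTower.of_algebraMap_eq fun r => (ψ.commutes r).symm
  have hA : PCMap (algebraMap (MvPolynomial (Fin d) R) A) := pcMap_algebraMap_iff.2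
    (PCohHom.pcAlong_algebraMap.1 ((PCohHom.pcHom_iff ψ hψ).1 (PCohHom.pcHom_of_flat_finitePresentation R A)))
  obtain ⟨F, B, hB, hFF, ⟨e⟩⟩ : DRing.IsPseudoCoherent' (MvPolynomial (Fin d) R)
      ((DRing.restrictD (algebraMap (MvPolynomial (Fin d) R) A)).obj K) :=
    isPseudoCoherent'_iff_isPC.2 fun n => hA.res (isPseudoCoherent'_iff_isPC.1 hK n)
  haveI : ∀ i, Module.Finite (MvPolynomial (Fin d) R) (F.X i) := fun i => (hFF i).1
  haveI : ∀ i, Module.Projective (MvPolynomial (Fin d) R) (F.X i) := fun i => haveI := (hFF i).2; inferInstance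
  let qb : Ideal (MvPolynomial (Fin d) R) := q.comap (algebraMap (MvPolynomial (Fin d) R) A)
  have hpqb : p = qb.comap (algebraMap R (MvPolynomial (Fin d) R)) := by
    rw [Ideal.comap_comap, ← IsScalarTower.algebraMap_eq, hpq]
  let T := Localization.AtPrime qb
  let Aq := Localization.AtPrime q
  letI : Algebra T Aq := (Localization.localRingHom qb q (algebraMap (MvPolynomial (Fin d) R) A) rfl).toAlgebra
  haveI : IsScalarTower (MvPolynomial (Fin d) R) T Aq := IsScalarTower.of_algebraMap_eq fun x => by
    rw [RingHom.algebraMap_toAlgebra, Localization.localRingHom_to_map,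
      ← IsScalarTower.algebraMap_apply (MvPolynomial (Fin d) R) A Aq]
  have hsub : Algebra.algebraMapSubmonoid A qb.primeCompl = q.primeCompl := by
    ext a
    constructor
    · rintro ⟨x, hx, rfl⟩
      exact hx
    · intro ha
      obtain ⟨x, rfl⟩ := hψ a
      exact ⟨x, ha, rfl⟩
  haveI : IsLocalization (Algebra.algebraMapSubmonoid A qb.primeCompl) Aq := by
    rw [hsub]
    infer_instance
  haveI : Algebra.IsPushout (MvPolynomial (Fin d) R) T A Aq :=
    (Algebra.isPushout_of_isLocalization qb.primeCompl T A Aq).symm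
  haveI := hasLBaseChange (algebraMap (MvPolynomial (Fin d) R) T)
  have hT : (algebraMap (MvPolynomial (Fin d) R) T).Flat :=
    RingHom.flat_algebraMap_iff.2 (IsLocalization.flat T qb.primeCompl)
  have hAq : (algebraMap A Aq).Flat := RingHom.flat_algebraMap_iff.2 (IsLocalization.flat Aq q.primeCompl)
  let G := (DerivedCategory.Q (C := ModuleCat.{u} A)).objPreimage K
  let eG : DRing.toD G ≅ K := (DerivedCategory.Q (C := ModuleCat.{u} A)).objObjPreimageIso K
  obtain ⟨eF⟩ := nonempty_lBaseChange_extCx _ hT F
  obtain ⟨eX⟩ := nonempty_lBaseChange_extCx _ hT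
    ((DRing.restrictCx (algebraMap (MvPolynomial (Fin d) R) A)).obj G)
  obtain ⟨eA⟩ := nonempty_lBaseChange_extCx _ hAq G
  let FT := extCx (algebraMap (MvPolynomial (Fin d) R) T) F
  let eT : DRing.toD FT ≅ (DRing.restrictD (algebraMap T Aq)).obj ((DRing.LBaseChange (algebraMap A Aq)).obj K) :=
    eF.symm ≪≫ (DRing.LBaseChange _).mapIso
      (e ≪≫ (DRing.restrictD _).mapIso eG.symm ≪≫ resQIso _ G) ≪≫ eX ≪≫
    DerivedCategory.Q.mapIso (resExtCxIso G) ≪≫ (resQIso _ _).symm ≪≫
    (DRing.restrictD _).mapIso (eA.symm ≪≫ (DRing.LBaseChange _).mapIso eG)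
  letI : Algebra (Localization.AtPrime p) T :=
    (Localization.localRingHom p qb (algebraMap R _) hpqb).toAlgebra
  haveI : IsScalarTower R (Localization.AtPrime p) T := IsScalarTower.of_algebraMap_eq fun r => by
    rw [RingHom.algebraMap_toAlgebra, Localization.localRingHom_to_map,
      ← IsScalarTower.algebraMap_apply R (MvPolynomial (Fin d) R) T]
  have hcomp : Localization.localRingHom p q (algebraMap R A) hpq =
      (algebraMap T Aq).comp (algebraMap (Localization.AtPrime p) T) := by
    refine Localization.localRingHom_unique _ _ _ _ fun r => ?_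
    rw [RingHom.comp_apply, ← IsScalarTower.algebraMap_apply R (Localization.AtPrime p) T,
      IsScalarTower.algebraMap_apply R (MvPolynomial (Fin d) R) T,
      ← IsScalarTower.algebraMap_apply (MvPolynomial (Fin d) R) T Aq,
      IsScalarTower.algebraMap_apply (MvPolynomial (Fin d) R) A Aq,
      ← IsScalarTower.algebraMap_apply R (MvPolynomial (Fin d) R) A]
  haveI : Module.Flat (MvPolynomial (Fin d) R) T := IsLocalization.flat T qb.primeCompl
  haveI hRT : Module.Flat R T := Module.Flat.trans R (MvPolynomial (Fin d) R) T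
  haveI : Module.Flat (Localization.AtPrime p) T :=
    (Module.flat_iff_of_isLocalization (Localization.AtPrime p) p.primeCompl T).2 hRT
  have hFTb : DRing.VanishesAbove FT B := fun i hi => (ModuleCat.extendScalars _).map_isZero (hB i hi)
  have hFTp : DRing.TermwiseFiniteProjective FT := fun i => ⟨inferInstance, inferInstance⟩
  have hFTf : DRing.TermwiseFlat FT := fun i => haveI := (hFTp i).2; inferInstance
  obtain ⟨ec⟩ := nonempty_res_comp (algebraMap (Localization.AtPrime p) T) (algebraMap T Aq)
    ((DRing.LBaseChange (algebraMap A Aq)).obj K)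
  rw [← hcomp] at ec
  have h := torAmp_of_localFibre p qb hpqb FT hFTb hFTp a b fun i hi => by
    obtain ⟨et⟩ := nonempty_lTensorFlatIso ((DRing.restrictCx (algebraMap (Localization.AtPrime p) T)).obj FT)
      (b := B) (fun i hi => (ModuleCat.restrictScalars _).map_isZero (hFTb i hi)) (termwiseFlat_restrictCx hFTf)
      (ModuleCat.of (Localization.AtPrime p) p.ResidueField)
    haveI := hfib i hi
    exact isZero_homology_of_subsingleton (HDCongr (et.symm ≪≫ (DRing.LTensor _ _).mapIso
      ((resQIso _ FT).symm ≪≫ (DRing.restrictD _).mapIso eT ≪≫ ec)) i).toEquiv.subsingleton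
  have hflatT : DRing.HasTorAmplitudeIn R (-((0 : ℕ) : ℤ)) 0 (mD (ModuleCat.of R T)) := by
    simpa using torAmp_mD_of_flat (ModuleCat.of R T)
  obtain ⟨ec'⟩ := nonempty_res_comp (algebraMap R T) (algebraMap T Aq) ((DRing.LBaseChange (algebraMap A Aq)).obj K)
  have hR : (algebraMap T Aq).comp (algebraMap R T) = algebraMap R Aq := by
    rw [IsScalarTower.algebraMap_eq R (MvPolynomial (Fin d) R) T, ← RingHom.comp_assoc,
      ← IsScalarTower.algebraMap_eq (MvPolynomial (Fin d) R) T Aq, ← IsScalarTower.algebraMap_eq]
  rw [hR] at ec'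
  have h' := TorAmp.restrict hflatT (TorAmp.of_iso h eT)
  rw [Nat.cast_zero, sub_zero] at h'
  exact TorAmp.of_iso h' ec'

end Groth.Agent.S7104
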