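import Mathlib
import Groth.Statements.S7107

set_option autoImplicit false
universe u
open CAlg

namespace Groth.Agent.S7107

/-- Let R be a ring and P, Q modules such that P ⊕ Q is isomorphic to a free module F on an infinite
basis. Then P ⊕ F is isomorphic to F. -/
theorem result (R : Type u) [CommRing R] (P Q : Type u) [AddCommGroup P] [Module R P]
    [AddCommGroup Q] [Module R Q] (ι : Type u) [Infinite ι] (e : (P × Q) ≃ₗ[R] (ι →₀ R)) :
    Nonempty ((P × (ι →₀ R)) ≃ₗ[R] (ι →₀ R)) := by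
  classical
  obtain ⟨f⟩ : Nonempty (ℕ × ι ≃ ι) := Cardinal.eq.mp (by
    rw [Cardinal.mk_prod]; simp [Cardinal.mul_eq_right, Cardinal.aleph0_le_mk])
  let FF : (ℕ →₀ P × Q) ≃ₗ[R] (ι →₀ R) :=
    (Finsupp.mapRange.linearEquiv e).trans <| (Finsupp.curryLinearEquiv R).symm.trans (Finsupp.domLCongr f)
  let pq : (ℕ →₀ P × Q) ≃ₗ[R] (ℕ →₀ P) × (ℕ →₀ Q) :=
    { toFun := fun v => (v.mapRange Prod.fst rfl, v.mapRange Prod.snd rfl)
      invFun := fun v => v.1.mapRange (fun p => (p, (0:Q))) rfl + v.2.mapRange (fun q => ((0:P), q)) rfl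
      map_add' := fun a b => by ext <;> simp
      map_smul' := fun a b => by ext <;> simp
      left_inv := fun a => by ext <;> simp
      right_inv := fun a => by ext <;> simp }
  let g : (P × (ℕ →₀ P)) ≃ₗ[R] (ℕ →₀ P) :=
    ((Finsupp.domLCongr (Denumerable.eqv (Option ℕ)).symm).trans
      ({ Finsupp.optionEquiv with
          map_add' := fun a b => by ext <;> simp [Finsupp.optionEquiv]
          map_smul' := fun c a => by ext <;> simp [Finsupp.optionEquiv] } : (Option ℕ →₀ P) ≃ₗ[R] P × (ℕ →₀ P))).symm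
  exact ⟨((LinearEquiv.refl R P).prodCongr (FF.symm.trans pq)).trans <|
    (LinearEquiv.prodAssoc R P _ _).symm.trans <|
    (g.prodCongr (LinearEquiv.refl R _)).trans (FF.symm.trans pq).symm⟩

end Groth.Agent.S7107
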