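import Mathlib
import Groth.Statements.S7108
import Groth.Agent.S7107

set_option autoImplicit false
universe u
open CAlg

namespace Groth.Agent.S7108
open scoped TensorProduct

/-- Every projective module P over a ring R becomes free after adding a suitable free module: P ⊕ F is
free for some free module F (here F is the free module on some index type). -/
theorem result (R : Type u) [CommRing R] (P : Type u) [AddCommGroup P]
    [Module R P] [Module.Projective R P] : ∃ ι : Type u, Module.Free R (P × (ι →₀ R)) := by
  classical
  letI : AddCommGroup (ULift.{u} ℕ →₀ R) := Finsupp.instAddCommGroup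
  obtain ⟨s, hs⟩ := (inferInstance : Module.Projective R P).out
  let π := Finsupp.linearCombination R (id : P → P)
  let Q := LinearMap.ker π
  have hπ : π ∘ₗ s = LinearMap.id := LinearMap.ext hs
  let e : (P × Q) ≃ₗ[R] (P →₀ R) :=
    { toFun := fun v => s v.1 + (v.2 : P →₀ R)
      invFun := fun v => (π v, ⟨v - s (π v), by simp [Q, π, hs (π v)]⟩)
      map_add' := fun a b => by simp; abel
      map_smul' := fun a b => by simp
      left_inv := fun a => by
        have h1 : π (a.2 : P →₀ R) = 0 := a.2.2
        have h2 : π (s a.1) = a.1 := hs a.1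
        ext <;> simp [h1, h2]
      right_inv := fun a => by simp }
  let e' : (P × (Q × (ULift.{u} ℕ →₀ R))) ≃ₗ[R] (P ⊕ ULift.{u} ℕ →₀ R) :=
    (LinearEquiv.prodAssoc R P Q _).symm.trans <|
      (e.prodCongr (LinearEquiv.refl R _)).trans (Finsupp.sumFinsuppLEquivProdFinsupp R).symm
  obtain ⟨h⟩ := Groth.Agent.S7107.result R P (Q × (ULift.{u} ℕ →₀ R)) (P ⊕ ULift.{u} ℕ) e'
  exact ⟨_, Module.Free.of_equiv h.symm⟩

end Groth.Agent.S7108
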