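import Groth.Statements.S7109
import Mathlib.LinearAlgebra.Projection
import Mathlib.LinearAlgebra.Finsupp.VectorSpace
import Mathlib.RingTheory.Finiteness.Basic
import Mathlib.LinearAlgebra.FreeModule.Finite.Basic
import Mathlib.Algebra.Module.Projective
-- import your own Groth.Agent.* helpers here

set_option autoImplicit false
universe u
open CAlg

namespace Groth.Agent.S7109

/-- Let P be a projective module over a ring R and s an element of P. Then there are a finite free
module R^n and a direct summand K of R^n ⊕ P which is finite free and contains (0, s). -/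
theorem result (R : Type u) [CommRing R] (P : Type u) [AddCommGroup P]
    [Module R P] [Module.Projective R P] (s : P) :
    ∃ (n : ℕ) (K K' : Submodule R ((Fin n → R) × P)), IsCompl K K' ∧ Module.Free R K ∧ Module.Finite R K ∧
      ((0, s) : (Fin n → R) × P) ∈ K := by
  obtain ⟨σ, hσ⟩ := (Module.projective_def (R := R) (P := P)).1 inferInstance
  let J : Finset P := (σ s).support
  let eJ : Fin J.card ≃ J := J.equivFin.symm
  let α : P →ₗ[R] (Fin J.card → R) := LinearMap.pi fun i => Finsupp.lapply (eJ i : P) ∘ₗ σ
  let β : (Fin J.card → R) →ₗ[R] P := Fintype.linearCombination R fun i => (eJ i : P)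
  have hβα : β (α s) = s := by
    have h1 := hσ s
    rw [Finsupp.linearCombination_apply, Finsupp.sum, ← Finset.sum_coe_sort, ← eJ.sum_comp] at h1
    rw [Fintype.linearCombination_apply]
    exact h1
  let inj : (Fin J.card → R) →ₗ[R] (Fin J.card → R) × P := (LinearMap.id - α ∘ₗ β).prod β
  let ret : (Fin J.card → R) × P →ₗ[R] (Fin J.card → R) := LinearMap.coprod LinearMap.id α
  have hret : ∀ w, ret (inj w) = w := fun w => by
    simp [ret, inj]
  refine ⟨J.card, LinearMap.range inj, LinearMap.ker ret, ?_, ?_, inferInstance, α s, ?_⟩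
  · refine ⟨?_, ?_⟩
    · rw [Submodule.disjoint_def]
      rintro _ ⟨w, rfl⟩ hw
      rw [LinearMap.mem_ker, hret] at hw
      rw [hw, map_zero]
    · rw [codisjoint_iff, eq_top_iff]
      intro z _
      exact Submodule.mem_sup.2 ⟨inj (ret z), ⟨_, rfl⟩, z - inj (ret z),
        by rw [LinearMap.mem_ker, map_sub, hret, sub_self], add_sub_cancel _ _⟩
  · exact Module.Free.of_equiv
      (LinearEquiv.ofInjective inj (Function.LeftInverse.injective hret))
  · simp [inj, hβα]

end Groth.Agent.S7109
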