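import Groth.Statements.S7111
import Mathlib
import Groth.Agent.Calg3.Bass

set_option autoImplicit false
universe u
open CAlg

namespace Groth.Agent.S7111

/-- Let R be a ring whose quotient by its Jacobson radical is Noetherian and P a projective R-module
such that for every maximal ideal m the localization P_m is not finitely generated over R_m (P has
infinite rank everywhere). Then every element s of P lies in a direct summand of P which is a finite
stably free module. -/
theorem result (R : Type u) [CommRing R]
    [IsNoetherianRing (R ⧸ (⊥ : Ideal R).jacobson)]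
    (P : Type u) [AddCommGroup P] [Module R P] [Module.Projective R P]
    (hP : ∀ (m : Ideal R) [m.IsMaximal],
      ¬ Module.Finite (Localization.AtPrime m) (LocalizedModule m.primeCompl P))
    (s : P) :
    ∃ (K K' : Submodule R P), IsCompl K K' ∧ Module.Finite R K ∧ Module.IsStablyFree R K ∧ s ∈ K := by
  classical
  obtain ⟨n, ψ, p, hp, hs⟩ :=
    Groth.Calg3.Bass.exists_free_summand' (Groth.Calg3.Bass.big_top_of_infinite_rank hP) s
  have hinj : Function.Injective ψ := fun a b h => by
    exact (LinearMap.congr_fun hp a).symm.trans ((congrArg p h).trans (LinearMap.congr_fun hp b))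
  let K := LinearMap.range ψ
  let e := LinearEquiv.ofInjective ψ hinj
  haveI : Module.Free R K := Module.Free.of_equiv e
  refine ⟨K, LinearMap.ker p, ⟨?_, ?_⟩, Module.Finite.range ψ, inferInstance, hs⟩
  · rw [Submodule.disjoint_def]
    rintro _ ⟨v, rfl⟩ hv
    have : p (ψ v) = v := LinearMap.congr_fun hp v
    rw [← this, LinearMap.mem_ker.mp hv, map_zero]
  · rw [codisjoint_iff, eq_top_iff]
    intro x _
    refine Submodule.mem_sup.mpr ⟨ψ (p x), LinearMap.mem_range_self _ _, x - ψ (p x), ?_, add_sub_cancel _ _⟩
    rw [LinearMap.mem_ker, map_sub, show p (ψ (p x)) = p x from LinearMap.congr_fun hp _, sub_self]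

end Groth.Agent.S7111
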