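import Groth.Statements.S7114
import Mathlib
-- import your own Groth.Agent.* helpers here

set_option autoImplicit false
universe u
open CAlg

namespace Groth.Agent.S7114

/-- Let R be a Noetherian local ring of Krull dimension one and x an element of the maximal ideal lying
in no minimal prime of R. Then for every n the length of R/xⁿR is at most n times the length of
R/xR, and equality holds when x is a nonzerodivisor. -/
theorem result (R : Type u) [CommRing R] [IsNoetherianRing R] [IsLocalRing R]
    (hdim : ringKrullDim R = 1) (x : R) (hx : x ∈ IsLocalRing.maximalIdeal R)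
    (hmin : ∀ p ∈ minimalPrimes R, x ∉ p) (n : ℕ) :
    Module.length R (R ⧸ Ideal.span {x ^ n}) ≤ (n : ℕ∞) * Module.length R (R ⧸ Ideal.span {x}) ∧
      (x ∈ nonZeroDivisors R →
        Module.length R (R ⧸ Ideal.span {x ^ n}) = (n : ℕ∞) * Module.length R (R ⧸ Ideal.span {x})) := by
  have hpow : ∀ k : ℕ, Ideal.span {x ^ (k+1)} ≤ Ideal.span {x ^ k} := fun k =>
    Ideal.span_singleton_le_span_singleton.2 (pow_dvd_pow x (Nat.le_succ k))
  let g : ∀ k : ℕ, (R ⧸ Ideal.span {x ^ (k+1)}) →ₗ[R] R ⧸ Ideal.span {x ^ k} := fun k => Submodule.factor (hpow k)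
  let f : ∀ k : ℕ, (R ⧸ Ideal.span {x}) →ₗ[R] R ⧸ Ideal.span {x ^ (k+1)} := fun k =>
    Submodule.mapQ _ _ (LinearMap.mulLeft R (x ^ k)) (fun y hy => by
      obtain ⟨c, rfl⟩ := Ideal.mem_span_singleton'.1 hy
      show x ^ k * (c * x) ∈ Ideal.span {x ^ (k+1)}
      exact Ideal.mem_span_singleton'.2 ⟨c, by ring⟩)
  have hg : ∀ k, Function.Surjective (g k) := fun k => Submodule.factor_surjective (hpow k)
  have hex : ∀ k, LinearMap.ker (g k) = LinearMap.range (f k) := by
    intro k
    ext y
    obtain ⟨y, rfl⟩ := Submodule.Quotient.mk_surjective _ y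
    show Submodule.Quotient.mk y = 0 ↔ _
    rw [Submodule.Quotient.mk_eq_zero, LinearMap.mem_range]
    constructor
    · intro hy
      obtain ⟨c, rfl⟩ := Ideal.mem_span_singleton'.1 hy
      exact ⟨Submodule.Quotient.mk c, congrArg Submodule.Quotient.mk (mul_comm _ _)⟩
    · rintro ⟨c, hc⟩
      obtain ⟨c, rfl⟩ := Submodule.Quotient.mk_surjective _ c
      have h1 : x ^ k * c - y ∈ Ideal.span {x ^ (k+1)} := (Submodule.Quotient.eq _).1 hc
      simpa using (Ideal.span {x ^ k}).sub_mem (Ideal.mem_span_singleton'.2 ⟨c, mul_comm c (x ^ k)⟩) (hpow k h1)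
  have hstep : ∀ k, Module.length R (R ⧸ Ideal.span {x ^ (k+1)}) =
      Module.length R (LinearMap.range (f k)) + Module.length R (R ⧸ Ideal.span {x ^ k}) := fun k =>
    Module.length_eq_add_of_exact (LinearMap.range (f k)).subtype (g k) Subtype.val_injective (hg k)
      (LinearMap.exact_iff.2 (by rw [Submodule.range_subtype]; exact hex k))
  have h0 : Module.length R (R ⧸ Ideal.span {x ^ 0}) = 0 := by
    rw [Module.length_eq_zero_iff, Submodule.Quotient.subsingleton_iff]
    simp
  constructor
  · induction n with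
    | zero => simp [h0]
    | succ k ih =>
      rw [hstep k, Nat.cast_succ, add_mul, one_mul, add_comm]
      exact add_le_add ih (Module.length_le_of_surjective (f k).rangeRestrict (LinearMap.surjective_rangeRestrict _))
  · intro hnzd
    induction n with
    | zero => simp [h0]
    | succ k ih =>
      have hinj : Function.Injective (f k) := by
        rw [injective_iff_map_eq_zero]
        intro c hc
        obtain ⟨c, rfl⟩ := Submodule.Quotient.mk_surjective _ c
        obtain ⟨d, hd⟩ := Ideal.mem_span_singleton'.1 ((Submodule.Quotient.mk_eq_zero _).1 hc)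
        refine (Submodule.Quotient.mk_eq_zero _).2 (Ideal.mem_span_singleton'.2 ⟨d, ?_⟩)
        refine (mul_cancel_left_mem_nonZeroDivisors (pow_mem hnzd k)).1 ?_
        calc x ^ k * (d * x) = d * x ^ (k+1) := by ring
          _ = x ^ k * c := hd
      rw [hstep k, ← (LinearEquiv.ofInjective (f k) hinj).length_eq, ih, Nat.cast_succ, add_mul, one_mul, add_comm]

end Groth.Agent.S7114
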