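import Groth.Statements.S7115
import Groth.Agent.MiscGeom.SopAvoid

set_option autoImplicit false
universe u
open CAlg
open Groth.MiscGeom

namespace Groth.Agent.S7115

/-- Let R be a Noetherian local ring of Krull dimension d > 1 with maximal ideal m, let f be an element
of m contained in no minimal prime, and let k be a natural number. Then there are elements g_1, ...,
g_{d-1} of m lying in m^k such that f, g_1, ..., g_{d-1} form a system of parameters: these d
elements of m generate an ideal whose radical is m. -/
theorem result (R : Type u) [CommRing R] [IsNoetherianRing R] [IsLocalRing R]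
    (d : ℕ) (hd : ringKrullDim R = d) (h1 : 1 < d) (f : R) (hf : f ∈ IsLocalRing.maximalIdeal R)
    (hmin : ∀ p ∈ minimalPrimes R, f ∉ p) (k : ℕ) :
    ∃ g : Fin (d - 1) → R, (∀ i, g i ∈ IsLocalRing.maximalIdeal R ^ k) ∧ (∀ i, g i ∈ IsLocalRing.maximalIdeal R) ∧
      IsLocalRing.maximalIdeal R ≤ (Ideal.span (insert f (Set.range g))).radical := by
  obtain ⟨g, hg, hr⟩ := SopAvoid.exists_extend k hd hf hmin
  exact ⟨g, fun i => Ideal.pow_le_pow_right (Nat.le_succ k) (hg i),
    fun i => Ideal.pow_le_self (Nat.succ_ne_zero k) (hg i), hr⟩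

end Groth.Agent.S7115
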