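import Groth.Statements.S7116
import Groth.Agent.MiscGeom.SopAvoid

set_option autoImplicit false
universe u
open CAlg
open Groth.MiscGeom

namespace Groth.Agent.S7116

/-- Let R be a Noetherian local ring of Krull dimension d with maximal ideal m and let f be an element
of m contained in no minimal prime. Then there are g_1, ..., g_{d-1} in m and a natural number N
such that f, g_1, ..., g_{d-1} is a system of parameters (these d elements of m generate an ideal
with radical m) and, for every h in m^N, the elements f + h, g_1, ..., g_{d-1} again form a system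
of parameters and the lengths of R/(f, g_1, ..., g_{d-1}) and R/(f + h, g_1, ..., g_{d-1}) agree. -/
theorem result (R : Type u) [CommRing R] [IsNoetherianRing R] [IsLocalRing R]
    (d : ℕ) (hd : ringKrullDim R = d) (f : R) (hf : f ∈ IsLocalRing.maximalIdeal R)
    (hmin : ∀ p ∈ minimalPrimes R, f ∉ p) :
    ∃ (g : Fin (d - 1) → R) (N : ℕ), (∀ i, g i ∈ IsLocalRing.maximalIdeal R) ∧
      IsLocalRing.maximalIdeal R ≤ (Ideal.span (insert f (Set.range g))).radical ∧
      ∀ h ∈ IsLocalRing.maximalIdeal R ^ N,
        IsLocalRing.maximalIdeal R ≤ (Ideal.span (insert (f + h) (Set.range g))).radical ∧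
        Module.length R (R ⧸ Ideal.span (insert f (Set.range g))) =
          Module.length R (R ⧸ Ideal.span (insert (f + h) (Set.range g))) := by
  obtain ⟨g, hg, hr⟩ := SopAvoid.exists_extend 0 hd hf hmin
  set J := Ideal.span (insert f (Set.range g))
  obtain ⟨N, hN⟩ := J.exists_radical_pow_le_of_fg (IsNoetherian.noetherian _)
  have hpow : IsLocalRing.maximalIdeal R ^ N ≤ J := (Ideal.pow_right_mono hr N).trans hN
  have hJm : J ≤ IsLocalRing.maximalIdeal R := Ideal.span_le.2 (by
    rintro _ (rfl | ⟨i, rfl⟩)
    · exact hf
    · exact Ideal.pow_le_self one_ne_zero (by simpa using hg i))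
  refine ⟨g, N + 1, fun i => Ideal.pow_le_self one_ne_zero (by simpa using hg i), hr, fun h hh => ?_⟩
  have hh' : h ∈ IsLocalRing.maximalIdeal R • J := by
    rw [pow_succ'] at hh
    exact Ideal.mul_mono le_rfl hpow hh
  have heq : Ideal.span (insert (f + h) (Set.range g)) = J := by
    refine le_antisymm (Ideal.span_le.2 ?_) (Submodule.le_of_le_smul_of_le_jacobson_bot
      (IsNoetherian.noetherian J) (IsLocalRing.maximalIdeal_le_jacobson _) (Ideal.span_le.2 ?_))
    · rintro _ (rfl | ⟨i, rfl⟩)
      · exact add_mem (Ideal.subset_span (Or.inl rfl)) (Submodule.smul_le_right hh')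
      · exact Ideal.subset_span (Or.inr ⟨i, rfl⟩)
    · rintro y (hy | ⟨i, rfl⟩)
      · rw [hy]
        have h1 := add_mem (Submodule.mem_sup_left (T := IsLocalRing.maximalIdeal R • J)
            (Ideal.subset_span (Or.inl rfl) : f + h ∈ Ideal.span (insert (f + h) (Set.range g))))
          (Submodule.mem_sup_right (neg_mem hh'))
        rwa [add_neg_cancel_right] at h1
      · exact Submodule.mem_sup_left (Ideal.subset_span (Or.inr ⟨i, rfl⟩))
  rw [heq]
  exact ⟨hr, rfl⟩

end Groth.Agent.S7116
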