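import Groth.Statements.S7117
import Groth.Agent.PropsBasic.TopPrimeCount

set_option autoImplicit false
universe u
open CAlg

namespace Groth.Agent.S7117

/-- Let R be a Noetherian local ring of Krull dimension d with maximal ideal m, and suppose g_1, ...,
g_d in m form a system of parameters (they generate an ideal with radical m). Then the number of
minimal prime ideals p of R with R/p of Krull dimension d is at most the length of R/(g_1, ...,
g_d). -/
theorem result (R : Type u) [CommRing R] [IsNoetherianRing R] [IsLocalRing R]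
    (d : ℕ) (hd : ringKrullDim R = d) (g : Fin d → R) (hg : ∀ i, g i ∈ IsLocalRing.maximalIdeal R)
    (hsop : IsLocalRing.maximalIdeal R ≤ (Ideal.span (Set.range g)).radical) :
    (Set.ncard {p : Ideal R | p ∈ minimalPrimes R ∧ ringKrullDim (R ⧸ p) = d} : ℕ∞) ≤
      Module.length R (R ⧸ Ideal.span (Set.range g)) := by
  classical
  set I := Ideal.span (Set.range g) with hI
  set Q := R ⧸ I • (⊤ : Submodule R R)
  let e : Q ≃ₗ[R] R ⧸ I := Submodule.quotEquivOfEq _ _ (by rw [smul_eq_mul, Ideal.mul_top])
  have hfin : IsFiniteLength R Q := by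
    refine Module.length_ne_top_iff.1 (Groth.MilnorKLambda.Per.length_ne_top_of_support fun p hp => ?_)
    rw [e.support_eq, Module.support_eq_zeroLocus, Ideal.annihilator_quotient] at hp
    exact le_antisymm (IsLocalRing.le_maximalIdeal p.2.ne_top)
      (hsop.trans ((Ideal.radical_mono (show I ≤ p.asIdeal from hp)).trans p.2.radical.le))
  set S := {p : Ideal R | p ∈ minimalPrimes R ∧ ringKrullDim (R ⧸ p) = d}
  have hS : S.Finite := (minimalPrimes.finite_of_isNoetherianRing R).subset fun p hp => hp.1
  have hprime : ∀ p ∈ hS.toFinset, p.IsPrime := fun p hp => (hS.mem_toFinset.1 hp).1.1.1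
  let T : Finset (PrimeSpectrum R) := hS.toFinset.attach.image fun p => ⟨p.1, hprime p.1 p.2⟩
  have hT : ∀ p ∈ T, p ∈ Module.support R R ∧ Module.supportDim R (R ⧸ p.asIdeal) = d := fun p hp => by
    obtain ⟨⟨q, hq⟩, -, rfl⟩ := Finset.mem_image.1 hp
    refine ⟨?_, by rw [Module.supportDim_quotient_eq_ringKrullDim]; exact (hS.mem_toFinset.1 hq).2⟩
    rw [Module.support_eq_zeroLocus]
    intro r hr
    have h0 : r = 0 := by simpa using Module.mem_annihilator.1 hr 1
    exact h0 ▸ zero_mem _
  have hcard : (S.ncard : ℕ∞) = T.card := by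
    rw [Finset.card_image_of_injective _ fun a b h => Subtype.ext (congrArg PrimeSpectrum.asIdeal h),
      Finset.card_attach, Set.ncard_eq_toFinset_card _ hS]
  rw [hcard, ← e.length_eq]
  refine le_trans ?_ (Groth.TopPrimeCount.main d R g hg hfin T hT)
  rw [Finset.card_eq_sum_ones, Nat.cast_sum]
  refine Finset.sum_le_sum fun p hp => ?_
  rw [Nat.cast_one, Order.one_le_iff_ne_zero]
  exact Groth.MilnorKLambda.Per.lq_pos_of_mem p.asIdeal (hT p hp).1

end Groth.Agent.S7117
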