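import Groth.Statements.S7118
import Mathlib
import Groth.Agent.Calg7.ReducedPrincipal
-- import your own Groth.Agent.* helpers here

set_option autoImplicit false
universe u
open CAlg

namespace Groth.Agent.S7118

/-- Let A be a Noetherian normal local domain of Krull dimension 2 and a a nonzero element of the
maximal ideal. Then there is a nonzero element c of A such that A/cA is reduced and a divides some
power cⁿ. (The published statement does not require c to be nonzero and is then satisfied by c = 0;
this row requires c ≠ 0.) -/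
theorem result (A : Type u) [CommRing A] [IsDomain A] [IsNoetherianRing A]
    [IsLocalRing A] [IsIntegrallyClosed A] (hdim : ringKrullDim A = 2) (a : A)
    (ha : a ∈ IsLocalRing.maximalIdeal A) (ha0 : a ≠ 0) :
    ∃ c : A, c ≠ 0 ∧ IsReduced (A ⧸ Ideal.span {c}) ∧ ∃ n : ℕ, a ∣ c ^ n := by
  have ha' : Ideal.span {a} ≠ (⊥ : Ideal A) := by simpa using ha0
  obtain ⟨c, hc, hc0, hred⟩ := Groth.Calg7.ReducedPrincipal.exists_isReduced (fun q h hq hq1 hh P hP => by
    have h1 := Ideal.height_le_ringKrullDim_of_ne_top hP.1.1.ne_top
    rw [hdim] at h1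
    exact WithBot.coe_le_coe.1 h1) (Ideal.radical_isRadical (Ideal.span {a}))
    (fun e => ha' (le_bot_iff.1 (e ▸ Ideal.le_radical)))
  obtain ⟨n, hn⟩ := hc
  exact ⟨c, hc0, hred, n, Ideal.mem_span_singleton.1 hn⟩

end Groth.Agent.S7118
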