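import Groth.Statements.S7119
import Mathlib
import Groth.Agent.Calg7.ReducedPrincipal
-- import your own Groth.Agent.* helpers here

set_option autoImplicit false
universe u
open CAlg

namespace Groth.Agent.S7119

/-- Let R be a Noetherian normal local domain of Krull dimension 2 and let p_1, ..., p_r be finitely
many prime ideals of height one. Then there is a nonzero element f lying in all the p_i such that
R/fR is reduced. -/
theorem result (R : Type u) [CommRing R] [IsDomain R]
    [IsNoetherianRing R] [IsLocalRing R] [IsIntegrallyClosed R] (hdim : ringKrullDim R = 2)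
    (s : Finset (Ideal R)) (hs : ∀ p ∈ s, p.IsPrime ∧ p.height = 1) :
    ∃ f : R, f ≠ 0 ∧ (∀ p ∈ s, f ∈ p) ∧ IsReduced (R ⧸ Ideal.span {f}) := by
  classical
  by_cases hJ0 : s.inf id = (⊥ : Ideal R)
  · exfalso
    obtain ⟨p, hp, hle⟩ := ((Ideal.bot_prime : (⊥ : Ideal R).IsPrime).inf_le' (s := s) (f := id)).1 hJ0.le
    exact Ideal.ne_bot_of_height_eq_one (hs p hp).2 (le_bot_iff.1 hle)
  have hrad : (s.inf id).IsRadical := fun x ⟨n, hn⟩ => by
    rw [Submodule.mem_finsetInf] at hn ⊢
    exact fun p hp => (hs p hp).1.mem_of_pow_mem n (hn p hp)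
  obtain ⟨f, hf, hf0, hred⟩ := Groth.Calg7.ReducedPrincipal.exists_isReduced (fun q h hq hq1 hh P hP => by
    have h1 := Ideal.height_le_ringKrullDim_of_ne_top hP.1.1.ne_top
    rw [hdim] at h1
    exact WithBot.coe_le_coe.1 h1) hrad hJ0
  exact ⟨f, hf0, fun p hp => Submodule.mem_finsetInf.1 hf p hp, hred⟩

end Groth.Agent.S7119
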