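import Groth.Statements.S7121
import Mathlib
import Groth.Agent.Calg3.Bezout

set_option autoImplicit false
universe u
open CAlg

namespace Groth.Agent.S7121

/-- Over a Bézout domain R, a finitely presented module M splits as R^r ⊕ M_tors for some r, and its
torsion part M_tors is a retract (direct summand) of R/f_1R ⊕ … ⊕ R/f_nR for some nonzero f_1, …,
f_n. -/
theorem result (R : Type u) [CommRing R] [IsDomain R] [IsBezout R]
    (M : Type u) [AddCommGroup M] [Module R M] [Module.FinitePresentation R M] :
    (∃ r : ℕ, Nonempty (M ≃ₗ[R] ((Fin r → R) × Submodule.torsion R M))) ∧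
      ∃ (n : ℕ) (f : Fin n → R), (∀ j, f j ≠ 0) ∧
        ∃ (i : Submodule.torsion R M →ₗ[R] ((j : Fin n) → R ⧸ Ideal.span {f j}))
          (p : ((j : Fin n) → R ⧸ Ideal.span {f j}) →ₗ[R] Submodule.torsion R M),
          p ∘ₗ i = LinearMap.id := by
  classical
  haveI : Module.Free R (M ⧸ Submodule.torsion R M) := Groth.Calg3.Bezout.free_of_torsionFree _
  set T := Submodule.torsion R M with hT
  let e0 := (Module.finBasis R (M ⧸ T)).equivFun
  obtain ⟨s, hs⟩ := Module.projective_lifting_property T.mkQ LinearMap.id T.mkQ_surjective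
  have hs' : ∀ y, T.mkQ (s y) = y := LinearMap.congr_fun hs
  let r : M →ₗ[R] T := (LinearMap.id - s ∘ₗ T.mkQ).codRestrict T fun x => by
    refine (Submodule.Quotient.mk_eq_zero T).mp (?_ : T.mkQ _ = 0)
    simp only [LinearMap.sub_apply, LinearMap.id_apply, LinearMap.comp_apply, map_sub, hs', sub_self]
  have hr : ∀ x : T, r x = x := fun x => Subtype.ext (by
    have : T.mkQ (x : M) = 0 := (Submodule.Quotient.mk_eq_zero T).mpr x.2
    simp only [r, LinearMap.codRestrict_apply, LinearMap.sub_apply, LinearMap.id_apply, LinearMap.comp_apply]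
    rw [this, map_zero, sub_zero])
  refine ⟨⟨_, ⟨LinearEquiv.ofLinearMap (f := ((T.mkQ.prod r)))
    (g := s.coprod T.subtype) ?_ ?_ ≪≫ₗ e0.prodCongr (LinearEquiv.refl R T)⟩⟩, ?_⟩
  · refine LinearMap.prod_ext ?_ ?_
    · apply LinearMap.ext
      intro y
      have hr0 : r (s y) = 0 := Subtype.ext (by simp [r, hs' y, show Submodule.Quotient.mk (p := T) (s y) = y from hs' y])
      simpa [hr0] using hs' y
    · apply LinearMap.ext
      intro x
      have h0 : T.mkQ (x : M) = 0 := (Submodule.Quotient.mk_eq_zero T).mpr x.2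
      simpa [hr x] using h0
  · apply LinearMap.ext
    intro x
    simp [r]
  haveI : Module.FinitePresentation R (M ⧸ T) := Module.finitePresentation_of_projective R _
  haveI : Module.FinitePresentation R T := by
    refine Module.finitePresentation_of_surjective r (fun x => ⟨x, hr x⟩) ?_
    have : LinearMap.ker r = LinearMap.range s := by
      ext x
      constructor
      · intro h
        have := congrArg Subtype.val (LinearMap.mem_ker.mp h)
        exact ⟨T.mkQ x, (sub_eq_zero.mp this).symm⟩
      · rintro ⟨y, rfl⟩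
        exact Subtype.ext (by simp [r, show Submodule.Quotient.mk (p := T) (s y) = y from hs' y])
    rw [this]
    exact Module.Finite.iff_fg.mp (Module.Finite.range s)
  obtain ⟨ι, hι, c, hc, i, p, hp⟩ := Groth.Calg3.Bezout.factors_one T
    (fun x => by
      obtain ⟨a, ha⟩ := (Submodule.mem_torsion_iff (x : M)).mp x.2
      exact ⟨a, Subtype.ext ha⟩)
  let ei := (Fintype.equivFin ι).symm
  let E := LinearEquiv.piCongrLeft R (fun j => R ⧸ Ideal.span {c j}) ei
  refine ⟨_, c ∘ ei, fun j => hc _, E.symm.toLinearMap ∘ₗ i, p ∘ₗ E.toLinearMap, ?_⟩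
  apply LinearMap.ext
  intro x
  show p (E (E.symm (i x))) = x
  rw [LinearEquiv.apply_symm_apply, hp, one_smul]

end Groth.Agent.S7121
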