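import Groth.Statements.S7122
import Mathlib
import Groth.Agent.Calg3.Bezout

set_option autoImplicit false
universe u
open CAlg

namespace Groth.Agent.S7122

/-- Let R be a Bézout domain, n ≥ 1, and f_1, ..., f_n elements generating the unit ideal. Then some
invertible n × n matrix over R has (f_1, ..., f_n) as its first row. -/
theorem result (R : Type u) [CommRing R] [IsDomain R] [IsBezout R]
    (n : ℕ) (f : Fin (n + 1) → R) (hf : Ideal.span (Set.range f) = ⊤) :
    ∃ A : Matrix (Fin (n + 1)) (Fin (n + 1)) R, IsUnit A.det ∧ A 0 = f := by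
  classical
  obtain ⟨c, hc⟩ := (Submodule.mem_span_range_iff_exists_fun R).mp
    (show (1 : R) ∈ Submodule.span R (Set.range f) by rw [show Submodule.span R (Set.range f) = ⊤ from hf]; trivial)
  let φ : (Fin (n + 1) → R) →ₗ[R] R := Fintype.linearCombination R f
  have hφc : φ c = 1 := hc
  let r : (Fin (n + 1) → R) →ₗ[R] LinearMap.ker φ :=
    (LinearMap.id - (LinearMap.toSpanSingleton R _ c) ∘ₗ φ).codRestrict (LinearMap.ker φ) fun w => by
      simp [hφc]
  have hr : ∀ x : LinearMap.ker φ, r x = x := fun x => Subtype.ext (by simp [r, LinearMap.mem_ker.mp x.2])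
  haveI : Module.Finite R (LinearMap.ker φ) := Module.Finite.of_surjective r fun x => ⟨x, hr x⟩
  haveI : Module.Free R (LinearMap.ker φ) :=
    Groth.Calg3.Bezout.free_of_injective_pi _ _ (LinearMap.ker φ).subtype (LinearMap.ker φ).injective_subtype
  let E : (Fin (n + 1) → R) ≃ₗ[R] R × LinearMap.ker φ := LinearEquiv.ofLinearMap (f := φ.prod r)
    (g := (LinearMap.toSpanSingleton R _ c).coprod (LinearMap.ker φ).subtype)
    (by
      refine LinearMap.prod_ext ?_ ?_ <;> ext x <;> simp [r, hφc])
    (by
      apply LinearMap.ext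
      intro w
      simp [r])
  have hrank : Module.finrank R (LinearMap.ker φ) = n := by
    have := E.finrank_eq
    rw [Module.finrank_fin_fun, Module.finrank_prod, Module.finrank_self] at this
    omega
  let B : LinearMap.ker φ ≃ₗ[R] (Fin n → R) := (Module.finBasisOfFinrankEq R _ hrank).equivFun
  let F : (Fin (n + 1) → R) ≃ₗ[R] (Fin (n + 1) → R) :=
    E ≪≫ₗ (LinearEquiv.refl R R).prodCongr B ≪≫ₗ (Fin.consLinearEquiv R fun _ : Fin (n + 1) => R)
  refine ⟨LinearMap.toMatrix' F.toLinearMap, ?_, ?_⟩
  · rw [LinearMap.det_toMatrix']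
    exact LinearEquiv.isUnit_det' F
  · funext j
    simp [LinearMap.toMatrix'_apply, F, E, φ, Fintype.linearCombination_apply, Pi.single_apply]

end Groth.Agent.S7122
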