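import Groth.Statements.S7123
import Mathlib
import Groth.Agent.Calg3.Bezout

set_option autoImplicit false
universe u
open CAlg

namespace Groth.Agent.S7123

open DirectSum in
/-- For a module P over a ring R these two conditions are equivalent: (1) P is a retract (direct
summand) of a direct sum of cyclic modules R/fR, f ranging over R; (2) for every surjection of
R-modules π : B → C whose kernel A satisfies fA = A ∩ fB for every f in R, each linear map P → C
lifts through π. -/
theorem result (R : Type u) [CommRing R] (P : Type u)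
    [AddCommGroup P] [Module R P] :
    (∃ (ι : Type u) (f : ι → R) (i : P →ₗ[R] (⨁ j, R ⧸ Ideal.span {f j}))
        (p : (⨁ j, R ⧸ Ideal.span {f j}) →ₗ[R] P), p ∘ₗ i = LinearMap.id) ↔
      ∀ (B C : Type u) [AddCommGroup B] [Module R B] [AddCommGroup C] [Module R C] (π : B →ₗ[R] C),
        Function.Surjective π →
        (∀ (f : R) (b : B), π (f • b) = 0 → ∃ a : B, π a = 0 ∧ f • a = f • b) →
        ∀ ψ : P →ₗ[R] C, ∃ φ : P →ₗ[R] B, π ∘ₗ φ = ψ := by
  classical
  constructor
  · rintro ⟨ι, f, i, p, hpi⟩ B C _ _ _ _ π hπ hpure ψ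
    have key : ∀ j, ∃ g : (R ⧸ Ideal.span {f j}) →ₗ[R] B, π ∘ₗ g = ψ ∘ₗ p ∘ₗ DirectSum.lof R ι (fun j => R ⧸ Ideal.span {f j}) j := by
      intro j
      set χ := ψ ∘ₗ p ∘ₗ DirectSum.lof R ι (fun j => R ⧸ Ideal.span {f j}) j
      obtain ⟨b, hb⟩ := hπ (χ (Submodule.Quotient.mk 1))
      have h0 : π (f j • b) = 0 := by
        rw [map_smul, hb, ← map_smul, ← Submodule.Quotient.mk_smul, smul_eq_mul, mul_one,
          (Submodule.Quotient.mk_eq_zero _).mpr (Ideal.mem_span_singleton_self _), map_zero]
      obtain ⟨a, ha, hfa⟩ := hpure _ _ h0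
      refine ⟨Submodule.liftQ _ (LinearMap.toSpanSingleton R B (b - a)) ?_, ?_⟩
      · refine Ideal.span_le.mpr ?_
        rintro _ rfl
        show f j • (b - a) = 0
        rw [smul_sub, hfa, sub_self]
      · refine Submodule.linearMap_qext _ (LinearMap.ext_ring ?_)
        simp only [LinearMap.comp_apply, Submodule.mkQ_apply, Submodule.liftQ_apply,
          LinearMap.toSpanSingleton_apply, one_smul, map_sub, ha, sub_zero, hb]
    choose g hg using key
    refine ⟨DirectSum.toModule R ι B g ∘ₗ i, ?_⟩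
    have : π ∘ₗ DirectSum.toModule R ι B g = ψ ∘ₗ p := DirectSum.linearMap_ext R fun j => by
      rw [LinearMap.comp_assoc, show DirectSum.toModule R ι B g ∘ₗ DirectSum.lof R ι _ j = g j from
        LinearMap.ext fun x => DirectSum.toModule_lof R (M := fun j => R ⧸ Ideal.span {f j}) (φ := g) j x, hg j]
      rfl
    rw [← LinearMap.comp_assoc, this, LinearMap.comp_assoc, hpi, LinearMap.comp_id]
  · intro h
    let ι := {xf : P × R // xf.2 • xf.1 = 0}
    let f : ι → R := fun j => j.1.2
    let g : ∀ j : ι, (R ⧸ Ideal.span {f j}) →ₗ[R] P := fun j =>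
      Submodule.liftQ _ (LinearMap.toSpanSingleton R P j.1.1) (by
        refine Ideal.span_le.mpr ?_
        rintro _ rfl
        exact j.2)
    let p : (⨁ j, R ⧸ Ideal.span {f j}) →ₗ[R] P := DirectSum.toModule R ι P g
    let e : ∀ (x : P) (c : R), c • x = 0 → ⨁ j, R ⧸ Ideal.span {f j} := fun x c hc =>
      DirectSum.lof R ι (fun j => R ⧸ Ideal.span {f j}) ⟨(x, c), hc⟩ (Submodule.Quotient.mk 1)
    have hpe : ∀ x c hc, p (e x c hc) = x := fun x c hc => by
      simp only [p, e, g, DirectSum.toModule_lof, Submodule.liftQ_apply, LinearMap.toSpanSingleton_apply, one_smul]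
    have hce : ∀ x c hc, c • e x c hc = 0 := fun x c hc => by
      simp only [e]
      rw [← map_smul, ← Submodule.Quotient.mk_smul, smul_eq_mul, mul_one,
        (Submodule.Quotient.mk_eq_zero _).mpr (Ideal.mem_span_singleton_self _), map_zero]
    obtain ⟨i, hi⟩ := h _ P p (fun x => ⟨e x 0 (zero_smul R x), hpe _ _ _⟩) (fun c b hb => by
      rw [map_smul] at hb
      refine ⟨b - e (p b) c hb, by rw [map_sub, hpe, sub_self], ?_⟩
      rw [smul_sub, hce, sub_zero]) LinearMap.id
    exact ⟨ι, f, i, p, hi⟩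

end Groth.Agent.S7123
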