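import Groth.Statements.S7124
import Mathlib

set_option autoImplicit false
universe u
open CAlg

namespace Groth.Agent.S7124

theorem indep {A B K L : Type u} [CommRing A] [IsDomain A] [ValuationRing A] [CommRing B] [IsDomain B]
    [ValuationRing B] [Field K] [Field L] [Algebra A K] [IsFractionRing A K] [Algebra B L]
    [IsFractionRing B L] [Algebra A B] [Algebra K L] [Algebra A L] [IsScalarTower A K L]
    [IsScalarTower A B L] [IsLocalHom (algebraMap A B)] {ι κ : Type*} [Fintype ι] [Fintype κ]
    (γ : ι → Lˣ) (hγ : ∀ i i', i ≠ i' → ∀ (k : K) (w : Bˣ),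
      (γ i' : L) ≠ algebraMap K L k * algebraMap B L w * γ i)
    (b : κ → B) (hb : LinearIndependent (IsLocalRing.ResidueField A) fun j => IsLocalRing.residue B (b j)) :
    LinearIndependent K fun p : ι × κ => (γ p.1 : L) * algebraMap B L (b p.2) := by
  classical
  rw [Fintype.linearIndependent_iff]
  intro c hc
  let v := ValuationRing.valuation B L
  let vA := ValuationRing.valuation A K
  let s : ι → L := fun i => ∑ j, algebraMap K L (c (i, j)) * algebraMap B L (b j)
  have hkey : ∀ i, (∃ j, c (i, j) ≠ 0) → ∃ (k : K) (w : Bˣ), k ≠ 0 ∧ s i = algebraMap K L k * algebraMap B L w := by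
    rintro i ⟨j₁, hj₁⟩
    obtain ⟨j₀, -, hj₀⟩ := Finset.exists_max_image Finset.univ (fun j => vA (c (i, j)))
      ⟨j₁, Finset.mem_univ _⟩
    have hk : c (i, j₀) ≠ 0 := by
      intro h
      have := hj₀ j₁ (Finset.mem_univ _)
      rw [h, map_zero, le_zero_iff, map_eq_zero] at this
      exact hj₁ this
    have : ∀ j, ∃ a : A, algebraMap A K a = c (i, j) / c (i, j₀) := fun j => by
      refine (ValuationRing.mem_integer_iff A K _).mp ?_
      show vA _ ≤ 1
      rw [map_div₀]
      exact (div_le_one₀ (zero_lt_iff.mpr ((map_ne_zero _).mpr hk))).mpr (hj₀ j (Finset.mem_univ _))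
    choose a ha using this
    have hu : IsUnit (∑ j, algebraMap A B (a j) * b j) := by
      by_contra hn
      have h0 : IsLocalRing.residue B (∑ j, algebraMap A B (a j) * b j) = 0 :=
        (IsLocalRing.residue_eq_zero_iff _).mpr ((IsLocalRing.mem_maximalIdeal _).mpr hn)
      have := Fintype.linearIndependent_iff.mp hb (fun j => IsLocalRing.residue A (a j)) (by
        rw [← h0, map_sum]
        refine Finset.sum_congr rfl fun j _ => ?_
        rw [map_mul, Algebra.smul_def]
        rfl) j₀
      have h1 : a j₀ = 1 := IsFractionRing.injective A K (by rw [ha, div_self hk, map_one])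
      rw [h1, map_one] at this
      exact one_ne_zero this
    refine ⟨c (i, j₀), hu.unit, hk, ?_⟩
    rw [IsUnit.unit_spec, map_sum, Finset.mul_sum]
    refine Finset.sum_congr rfl fun j _ => ?_
    rw [map_mul, ← IsScalarTower.algebraMap_apply, IsScalarTower.algebraMap_apply A K L, ha, ← mul_assoc,
      ← map_mul, mul_div_cancel₀ _ hk]
  have hsum : ∑ i, (γ i : L) * s i = 0 := by
    rw [← hc, Fintype.sum_prod_type]
    refine Finset.sum_congr rfl fun i _ => ?_
    rw [Finset.mul_sum]
    refine Finset.sum_congr rfl fun j _ => ?_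
    rw [Algebra.smul_def]; ring
  intro p
  by_contra hp
  let T := Finset.univ.filter fun i => ∃ j, c (i, j) ≠ 0
  have hT : ∀ i ∉ T, s i = 0 := fun i hi => by
    simp only [T, Finset.mem_filter, Finset.mem_univ, true_and, not_exists, not_not] at hi
    simp [s, hi]
  obtain ⟨i₀, hi₀, hmax⟩ := Finset.exists_max_image T (fun i => v ((γ i : L) * s i))
    ⟨p.1, Finset.mem_filter.mpr ⟨Finset.mem_univ _, p.2, hp⟩⟩
  have hsumT : ∑ i ∈ T, (γ i : L) * s i = 0 := by
    rw [← hsum]
    exact Finset.sum_subset (Finset.subset_univ _) fun i _ hi => by rw [hT i hi, mul_zero]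
  obtain ⟨k₀, w₀, hk₀, hs₀⟩ := hkey i₀ (Finset.mem_filter.mp hi₀).2
  have hne0 : (γ i₀ : L) * s i₀ ≠ 0 := by
    rw [hs₀]
    exact mul_ne_zero (γ i₀).ne_zero (mul_ne_zero ((map_ne_zero _).mpr hk₀)
      ((w₀.map (algebraMap B L).toMonoidHom).ne_zero))
  have hv := Valuation.map_sum_eq_of_lt v hi₀ (f := fun i => (γ i : L) * s i) fun i hi => by
    obtain ⟨hi, hii₀⟩ := Finset.mem_sdiff.mp hi
    obtain ⟨k, w, hk, hs⟩ := hkey i (Finset.mem_filter.mp hi).2
    refine lt_of_le_of_ne (hmax i hi) fun heq => ?_
    have hne : (γ i : L) * s i ≠ 0 := fun h => by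
      rw [h, map_zero, eq_comm, map_eq_zero] at heq
      exact hne0 heq
    have h1 : ∀ x y : L, y ≠ 0 → v x = v y → ∃ a : B, algebraMap B L a = x / y := fun x y hy h =>
      (ValuationRing.mem_integer_iff B L _).mp (by
        show v _ ≤ 1
        rw [map_div₀, h, div_self ((map_ne_zero _).mpr hy)])
    obtain ⟨a, ha⟩ := h1 _ _ hne heq.symm
    obtain ⟨a', ha'⟩ := h1 _ _ hne0 heq
    have hu : a * a' = 1 := IsFractionRing.injective B L (by
      rw [map_mul, ha, ha', map_one, div_mul_div_cancel₀ hne, div_self hne0])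
    refine hγ i i₀ (by simpa using hii₀) (k / k₀) (Units.mkOfMulEqOne a a' hu * w * w₀⁻¹) ?_
    rw [hs, hs₀, eq_div_iff (hs ▸ hne)] at ha
    simp only [Units.val_mul, Units.val_mkOfMulEqOne, map_mul, map_div₀, map_units_inv]
    field_simp [(map_ne_zero (algebraMap K L)).mpr hk₀]
    linear_combination (-1 : L) * ha
  rw [hsumT, map_zero, eq_comm, map_eq_zero] at hv
  exact hne0 hv


/-- Let A ⊆ B be an extension of valuation rings (both valuation domains, the inclusion injective and
local) with fraction fields K ⊆ L such that L/K is finite. Then the residue field of B is finite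
over that of A, the value group of A has finite index in the value group of B, and (index of value
groups) · (residue degree) ≤ [L : K]. Here the value group of B is written as Lˣ modulo the units of
B, and that of A as the image of Kˣ in it. -/
theorem result (A B K L : Type u) [CommRing A] [IsDomain A]
    [ValuationRing A] [CommRing B] [IsDomain B] [ValuationRing B] [Field K] [Field L]
    [Algebra A K] [IsFractionRing A K] [Algebra B L] [IsFractionRing B L] [Algebra A B] [Algebra K L]
    [Algebra A L] [IsScalarTower A K L] [IsScalarTower A B L] (hinj : Function.Injective (algebraMap A B))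
    [IsLocalHom (algebraMap A B)] [FiniteDimensional K L] :
    let UB : Subgroup Lˣ := (Units.map (algebraMap B L).toMonoidHom).range
    let ΓA : Subgroup (Lˣ ⧸ UB) := ((QuotientGroup.mk' UB).comp (Units.map (algebraMap K L).toMonoidHom)).range
    Module.Finite (IsLocalRing.ResidueField A) (IsLocalRing.ResidueField B) ∧ ΓA.index ≠ 0 ∧
      ΓA.index * Module.finrank (IsLocalRing.ResidueField A) (IsLocalRing.ResidueField B) ≤
        Module.finrank K L := by
  classical
  intro UB ΓA
  have hno : ∀ {ι : Type u} (q : ι → (Lˣ ⧸ UB) ⧸ ΓA) (_ : Function.Injective q), ∃ γ : ι → Lˣ,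
      ∀ i i', i ≠ i' → ∀ (k : K) (w : Bˣ), (γ i' : L) ≠ algebraMap K L k * algebraMap B L w * γ i := by
    intro ι q hq
    choose γ₁ hγ₁ using fun i => QuotientGroup.mk_surjective (q i)
    choose γ hγ using fun i => QuotientGroup.mk'_surjective UB (γ₁ i)
    refine ⟨γ, fun i i' hne k w heq => hne (hq ?_)⟩
    rw [← hγ₁ i, ← hγ₁ i', ← hγ i, ← hγ i', QuotientGroup.eq]
    have hk : k ≠ 0 := by
      rintro rfl
      exact (γ i').ne_zero (by simpa using heq)
    refine ⟨Units.mk0 k hk, ?_⟩
    have hU : QuotientGroup.mk' UB (Units.map (algebraMap B L).toMonoidHom w) = 1 :=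
      (QuotientGroup.eq_one_iff _).mpr ⟨w, rfl⟩
    rw [MonoidHom.comp_apply, eq_inv_mul_iff_mul_eq, ← mul_one (QuotientGroup.mk' UB (γ i) * _), ← hU,
      ← map_mul, ← map_mul]
    congr 1
    apply Units.ext
    simp [heq]
    ring
  have hbound : ∀ {ι : Type u} [Fintype ι] (q : ι → (Lˣ ⧸ UB) ⧸ ΓA), Function.Injective q →
      ∀ {κ : Type u} [Fintype κ] (x : κ → IsLocalRing.ResidueField B),
      LinearIndependent (IsLocalRing.ResidueField A) x →
      Fintype.card ι * Fintype.card κ ≤ Module.finrank K L := by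
    intro ι _ q hq κ _ x hx
    obtain ⟨γ, hγ⟩ := hno q hq
    choose b hb using fun j => IsLocalRing.residue_surjective (x j)
    have hb' : (fun j => IsLocalRing.residue B (b j)) = x := funext hb
    have := (indep γ hγ b (hb'.symm ▸ hx)).fintype_card_le_finrank
    rwa [Fintype.card_prod] at this
  haveI hfin : Module.Finite (IsLocalRing.ResidueField A) (IsLocalRing.ResidueField B) := by
    refine Module.rank_lt_aleph0_iff.mp (lt_of_le_of_lt (rank_le (n := Module.finrank K L) ?_)
      (Cardinal.natCast_lt_aleph0))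
    intro s hs
    have := hbound (ι := PUnit.{u+1}) (fun _ => QuotientGroup.mk (1 : Lˣ ⧸ UB)) (fun a b _ => rfl) (κ := s) (fun x => (x : IsLocalRing.ResidueField B)) hs
    simpa using this
  let bs := Module.finBasis (IsLocalRing.ResidueField A) (IsLocalRing.ResidueField B)
  set f := Module.finrank (IsLocalRing.ResidueField A) (IsLocalRing.ResidueField B) with hf
  have hf0 : 0 < f := Module.finrank_pos
  have hprod : ∀ s : Finset ((Lˣ ⧸ UB) ⧸ ΓA), s.card * f ≤ Module.finrank K L := fun s => by
    have := hbound (ι := s) Subtype.val Subtype.val_injective (κ := ULift.{u} (Fin f)) (fun j => bs j.down)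
      (bs.linearIndependent.comp _ ULift.down_injective)
    simpa using this
  haveI : Finite ((Lˣ ⧸ UB) ⧸ ΓA) := by
    by_contra h
    rw [not_finite_iff_infinite] at h
    obtain ⟨s, hs⟩ := Infinite.exists_subset_card_eq ((Lˣ ⧸ UB) ⧸ ΓA) (Module.finrank K L + 1)
    have := hprod s
    rw [hs] at this
    nlinarith
  haveI := Fintype.ofFinite ((Lˣ ⧸ UB) ⧸ ΓA)
  refine ⟨hfin, ?_, ?_⟩
  · rw [Subgroup.index_eq_card]
    exact Nat.card_pos.ne'
  · rw [Subgroup.index_eq_card, Nat.card_eq_fintype_card]
    exact hprod Finset.univ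

end Groth.Agent.S7124
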