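import Groth.Statements.S7125
import Mathlib
import Groth.Agent.RefRank.Algebra

set_option autoImplicit false
universe u
open CAlg
open scoped TensorProduct

namespace Groth.Agent.S7125

/-- Let A and B be Noetherian local normal domains and A → B a flat homomorphism that is local, and let
f in A, h in B, n > 1 and a unit w of B satisfy f = w·hⁿ in B. Assume that for every height-one
prime p of A there is a height-one prime q of B lying over p such that A_p ⊆ B_q is weakly
unramified, i.e. p generates the maximal ideal of B_q. Then f = u·gⁿ for some g in A and some unit u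
of A. -/
theorem result (A B : Type u) [CommRing A] [IsDomain A]
    [IsNoetherianRing A] [IsLocalRing A] [IsIntegrallyClosed A] [CommRing B] [IsDomain B] [IsNoetherianRing B]
    [IsLocalRing B] [IsIntegrallyClosed B] [Algebra A B] [IsLocalHom (algebraMap A B)] [Module.Flat A B]
    (f : A) (h : B) (n : ℕ) (hn : 1 < n) (w : Bˣ) (hf : algebraMap A B f = (w : B) * h ^ n)
    (hram : ∀ (p : Ideal A) [p.IsPrime], p.height = 1 →
      ∃ (q : Ideal B) (_ : q.IsPrime), q.height = 1 ∧ q.comap (algebraMap A B) = p ∧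
        Ideal.map (algebraMap B (Localization.AtPrime q)) (Ideal.map (algebraMap A B) p) =
          IsLocalRing.maximalIdeal (Localization.AtPrime q)) :
    ∃ (g : A) (u : Aˣ), f = (u : A) * g ^ n := by
  classical
  haveI : Module.FaithfullyFlat A B := Module.FaithfullyFlat.of_flat_of_isLocalHom
  set φ := algebraMap A B with hφ
  have hinj : Function.Injective φ := FaithfulSMul.algebraMap_injective A B
  by_cases hf0 : f = 0
  · exact ⟨0, 1, by simp [hf0, zero_pow (show n ≠ 0 by omega)]⟩
  have hh0 : h ≠ 0 := fun e => hf0 (hinj (by rw [hf, e, zero_pow (show n ≠ 0 by omega), mul_zero, map_zero]))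
  have hdesc : ∀ a b : A, φ a ∣ φ b → a ∣ b := fun a b hab => by
    have hmem : b ∈ ((Ideal.span {a}).map φ).comap φ := by
      rw [Ideal.map_span, Set.image_singleton, Ideal.mem_comap, Ideal.mem_span_singleton]; exact hab
    rw [Ideal.comap_map_eq_self_of_faithfullyFlat (B := B), Ideal.mem_span_singleton] at hmem
    exact hmem
  let I : Ideal A := (Ideal.span {h}).comap φ
  have hI1 : ∀ x, x ∈ I → f ∣ x ^ n := fun x hx => by
    apply hdesc
    have := pow_dvd_pow_of_dvd (Ideal.mem_span_singleton.mp hx) n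
    rw [← map_pow] at this
    rwa [hf, Units.mul_left_dvd]
  have hI2 : ∀ x, f ∣ x ^ n → x ∈ I := fun x hx => by
    refine Ideal.mem_span_singleton.mpr ((IsIntegrallyClosed.pow_dvd_pow_iff (show n ≠ 0 by omega)).mp ?_)
    have := map_dvd φ hx
    rwa [hf, map_pow, Units.mul_left_dvd] at this
  have key : h ∈ I.map φ := by
    let 𝔞 : Ideal A :=
      { carrier := {a | φ a * h ∈ I.map φ}
        zero_mem' := by simp
        add_mem' := fun {a b} (ha : φ a * h ∈ I.map φ) (hb : φ b * h ∈ I.map φ) => by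
          show φ (a + b) * h ∈ I.map φ
          rw [map_add, add_mul]; exact add_mem ha hb
        smul_mem' := fun c a (ha : φ a * h ∈ I.map φ) => by
          show φ (c * a) * h ∈ I.map φ
          rw [map_mul, mul_assoc]; exact Ideal.mul_mem_left _ _ ha }
    have hP : ∀ P ∈ associatedPrimes A (A ⧸ I), ¬ 𝔞 ≤ P := by
      intro P hP
      obtain ⟨hPp, x', hx'⟩ := isAssociatedPrime_iff.mp hP
      obtain ⟨x, rfl⟩ := Ideal.Quotient.mk_surjective x'
      have hmemP : ∀ r, r ∈ P ↔ r * x ∈ I := fun r => by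
        rw [hx', Submodule.mem_colon_singleton, Submodule.mem_bot, Algebra.smul_def,
          Ideal.Quotient.algebraMap_eq, ← map_mul, Ideal.Quotient.eq_zero_iff_mem]
      have hxI : x ∉ I := fun hx => hPp.ne_top ((Ideal.eq_top_iff_one P).mpr ((hmemP 1).mpr (by rwa [one_mul])))
      obtain ⟨Q, hQ, hle⟩ := exists_le_isAssociatedPrime_of_isNoetherianRing A
        (Ideal.Quotient.mk (Ideal.span {f}) (x ^ n))
        (fun h0 => hxI (hI2 x (Ideal.mem_span_singleton.mp (Ideal.Quotient.eq_zero_iff_mem.mp h0))))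
      obtain ⟨hQp, y', hy'⟩ := isAssociatedPrime_iff.mp hQ
      obtain ⟨y, rfl⟩ := Ideal.Quotient.mk_surjective y'
      have hmemQ : ∀ r, r ∈ Q ↔ f ∣ r * y := fun r => by
        rw [hy', Submodule.mem_colon_singleton, Submodule.mem_bot, Algebra.smul_def,
          Ideal.Quotient.algebraMap_eq, ← map_mul, Ideal.Quotient.eq_zero_iff_mem, Ideal.mem_span_singleton]
      have hny : ¬ f ∣ y := fun hd => hQp.ne_top ((Ideal.eq_top_iff_one Q).mpr ((hmemQ 1).mpr (by rwa [one_mul])))
      have hQy : ∀ q ∈ Q, f ∣ q * y := fun q hq => (hmemQ q).mp hq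
      have hPQ : P ≤ Q := fun a ha => hQp.mem_of_pow_mem n (hle (by
        rw [Submodule.mem_colon_singleton, Submodule.mem_bot, Algebra.smul_def,
          Ideal.Quotient.algebraMap_eq, ← map_mul, Ideal.Quotient.eq_zero_iff_mem, Ideal.mem_span_singleton,
          ← mul_pow]
        exact hI1 _ ((hmemP a).mp ha)))
      have hfP : f ∈ P := (hmemP f).mpr (hI2 _ (by
        rw [mul_pow]
        exact Dvd.dvd.mul_right (dvd_pow_self f (show n ≠ 0 by omega)) _))
      have hP0 : P ≠ ⊥ := fun e => hf0 (by simpa [e] using hfP)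
      haveI := hQp
      have hQ0 : Q ≠ ⊥ := fun e => hP0 (le_bot_iff.mp (hPQ.trans e.le))
      have hQ1 : Q.height = 1 := Groth.RefRank.height_eq_one_of_colon hQ0 hf0 hny hQy
      obtain ⟨π, hπ, s₀, hs₀, hgen⟩ := Groth.RefRank.exists_generator_up_to hQ0 hf0 hny hQy
      obtain ⟨q, hqp, -, hqc, hqmax⟩ := hram Q hQ1
      set L := Localization.AtPrime q
      set g : B →+* L := algebraMap B L with hg
      have hgi : Function.Injective g := IsLocalization.injective L q.primeCompl_le_nonZeroDivisors
      have hmemq : ∀ a, a ∈ Q ↔ φ a ∈ q := fun a => by rw [← hqc]; exact Iff.rfl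
      have hunit : ∀ a, a ∉ Q → IsUnit (g (φ a)) := fun a ha =>
        IsLocalization.map_units L (⟨φ a, fun h' => ha ((hmemq a).mpr h')⟩ : q.primeCompl)
      set ϖ := g (φ π)
      have hmax : IsLocalRing.maximalIdeal L = Ideal.span {ϖ} := by
        refine le_antisymm ?_ ?_
        · rw [← hqmax, Ideal.map_map, Ideal.map_le_iff_le_comap]
          intro a ha
          obtain ⟨t, ht⟩ := hgen a ha
          rw [Ideal.mem_comap, Ideal.mem_span_singleton]
          have := congrArg (g.comp φ) ht
          simp only [RingHom.comp_apply, map_mul] at this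
          exact (hunit _ hs₀).dvd_mul_left.mp ⟨g (φ t), this.trans (mul_comm _ _)⟩
        · rw [Ideal.span_singleton_le_iff_mem, ← hqmax]
          exact Ideal.mem_map_of_mem _ (Ideal.mem_map_of_mem _ hπ)
      have hnu : ¬ IsUnit ϖ := by
        rw [← mem_nonunits_iff, ← IsLocalRing.mem_maximalIdeal, hmax]
        exact Ideal.mem_span_singleton_self _
      have hπ0 : π ≠ 0 := fun e => by
        obtain ⟨t, ht⟩ := hgen f (hPQ hfP)
        rw [e, mul_zero] at ht
        exact (mul_ne_zero (fun e' => hs₀ (by rw [e']; exact Q.zero_mem)) hf0) ht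
      have hϖ0 : ϖ ≠ 0 := fun e => hπ0 (hinj (hgi (e.trans (by rw [map_zero, map_zero]))))
      obtain ⟨k, u, hndvd, hk⟩ :=
        WfDvdMonoid.max_power_factor' (a₀ := g h) (fun e => hh0 (hgi (e.trans (map_zero g).symm))) hnu
      have hu : IsUnit u := by
        by_contra hnot
        refine hndvd (Ideal.mem_span_singleton.mp ?_)
        rw [← hmax]
        exact (IsLocalRing.mem_maximalIdeal _).mpr hnot
      have hfk : ∃ v, IsUnit v ∧ g (φ f) = ϖ ^ (n * k) * v := by
        refine ⟨g w * u ^ n, (w.isUnit.map g).mul (hu.pow n), ?_⟩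
        rw [hf, map_mul, map_pow, hk, mul_pow, ← pow_mul, mul_comm k n]; ring
      obtain ⟨v, hv, hfv⟩ := hfk
      have hstep : ∀ j ≤ n * k, ∃ t r, t ∉ Q ∧ t * f = π ^ j * r ∧
          g (φ r) = ϖ ^ (n * k - j) * (v * g (φ t)) := by
        intro j
        induction j with
        | zero =>
          exact fun _ => ⟨1, f, fun h1 => hQp.ne_top ((Ideal.eq_top_iff_one Q).mpr h1), by simp, by simp [hfv]⟩
        | succ j ih =>
          intro hj
          obtain ⟨t, r, ht, heq, hgr⟩ := ih (by omega)
          have hr : r ∈ Q := by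
            by_contra hr
            have := hunit r hr
            rw [hgr, show n * k - j = (n * k - (j + 1)) + 1 by omega, pow_succ] at this
            exact hnu (isUnit_of_mul_isUnit_right (isUnit_of_mul_isUnit_left this))
          obtain ⟨t', ht'⟩ := hgen r hr
          refine ⟨s₀ * t, t', hQp.mul_notMem hs₀ ht, ?_, ?_⟩
          · rw [mul_assoc, heq, pow_succ]; linear_combination π ^ j * ht'
          · refine mul_right_cancel₀ hϖ0 ?_
            have := congrArg (g.comp φ) ht'
            simp only [RingHom.comp_apply, map_mul] at this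
            rw [show n * k - j = (n * k - (j + 1)) + 1 by omega, pow_succ] at hgr
            rw [show ϖ = g (φ π) from rfl] at hgr ⊢
            rw [map_mul, map_mul, ← this, hgr]; ring
      obtain ⟨t, r, ht, heq, hgr⟩ := hstep (n * k) le_rfl
      have hr : r ∉ Q := fun hr => by
        have hru : IsUnit (g (φ r)) := by rw [hgr, Nat.sub_self, pow_zero, one_mul]; exact hv.mul (hunit t ht)
        exact ((IsLocalization.AtPrime.isUnit_to_map_iff L q _).mp hru) ((hmemq r).mp hr)
      intro hle𝔞
      refine hQp.mul_notMem hr ht (hPQ (hle𝔞 ?_))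
      show φ (r * t) * h ∈ I.map φ
      have hxI : π ^ k * r ∈ I := hI2 _ (by
        refine ⟨t * r ^ (n - 1), ?_⟩
        rw [mul_pow, ← pow_mul, ← mul_assoc, mul_comm f t, heq, mul_comm k n, mul_assoc, ← pow_succ',
          show n - 1 + 1 = n by omega])
      obtain ⟨z, hz⟩ : φ π ^ k ∣ φ t * h := by
        refine (IsIntegrallyClosed.pow_dvd_pow_iff (show n ≠ 0 by omega)).mp
          ⟨(↑w⁻¹ : B) * φ t ^ (n - 1) * φ r, ?_⟩
        have h1 := congrArg φ heq
        rw [map_mul, map_mul, map_pow, hf, mul_comm n k, pow_mul] at h1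
        have h2 : φ t ^ n = φ t ^ (n - 1) * φ t := by
          rw [← pow_succ]; congr 1; omega
        rw [mul_pow, h2]
        calc φ t ^ (n - 1) * φ t * h ^ n
            = ((↑w⁻¹ : B) * ↑w) * (φ t ^ (n - 1) * φ t * h ^ n) := by rw [Units.inv_mul, one_mul]
          _ = (↑w⁻¹ : B) * φ t ^ (n - 1) * (φ t * (↑w * h ^ n)) := by ring
          _ = _ := by rw [h1]; ring
      rw [map_mul, mul_assoc, hz, ← mul_assoc, mul_comm (φ r), ← map_pow, ← map_mul]
      exact Ideal.mul_mem_right _ _ (Ideal.mem_map_of_mem φ hxI)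
    have hnle : ¬ (𝔞 : Set A) ⊆ ⋃ P ∈ (↑(associatedPrimes.finite A (A ⧸ I)).toFinset : Set (Ideal A)), (P : Set A) := by
      intro hsub
      obtain ⟨P, hP', hle⟩ := (Ideal.subset_union_prime (f := fun P : Ideal A => P) ⊥ ⊥ (fun P hP _ _ =>
        IsAssociatedPrime.isPrime ((Set.Finite.mem_toFinset _).mp hP))).mp hsub
      exact hP P ((Set.Finite.mem_toFinset _).mp hP') hle
    obtain ⟨s, hs, hsP⟩ := Set.not_subset.mp hnle
    have hreg : IsSMulRegular (A ⧸ I) s := by
      rw [isSMulRegular_iff_right_eq_zero_of_smul]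
      intro z hz
      by_contra hz0
      obtain ⟨P, hP', hle⟩ := exists_le_isAssociatedPrime_of_isNoetherianRing A z hz0
      refine hsP (Set.mem_biUnion ((Set.Finite.mem_toFinset _).mpr hP') (hle ?_))
      rw [Submodule.mem_colon_singleton, Submodule.mem_bot]; exact hz
    have hregB : IsSMulRegular (B ⊗[A] (A ⧸ I)) s := hreg.lTensor B
    rw [← Ideal.Quotient.eq_zero_iff_mem]
    apply (Algebra.TensorProduct.quotIdealMapEquivTensorQuot B I).injective
    rw [map_zero]
    refine hregB ?_
    show s • (Algebra.TensorProduct.quotIdealMapEquivTensorQuot B I) (Ideal.Quotient.mk (I.map φ) h) = s • 0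
    rw [smul_zero, ← IsScalarTower.algebraMap_smul B s
      ((Algebra.TensorProduct.quotIdealMapEquivTensorQuot B I) (Ideal.Quotient.mk (I.map φ) h)), ← map_smul]
    refine (congrArg _ ?_).trans (map_zero _)
    rw [Algebra.smul_def, Ideal.Quotient.algebraMap_eq, ← map_mul, Ideal.Quotient.eq_zero_iff_mem]
    exact hs
  obtain ⟨g, hgI, c, hc, hgc⟩ : ∃ g ∈ I, ∃ c, IsUnit c ∧ φ g = h * c := by
    by_contra hno
    have hle : I.map φ ≤ Ideal.span {h} * IsLocalRing.maximalIdeal B := by
      rw [Ideal.map_le_iff_le_comap]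
      intro x hx
      obtain ⟨c, hc⟩ := Ideal.mem_span_singleton.mp hx
      rw [Ideal.mem_comap, hc]
      exact Ideal.mul_mem_mul (Ideal.mem_span_singleton_self h)
        ((IsLocalRing.mem_maximalIdeal _).mpr fun hu => hno ⟨x, hx, c, hu, hc⟩)
    obtain ⟨c, hc, hhc⟩ := Ideal.mem_span_singleton_mul.mp (hle key)
    have : c = 1 := mul_left_cancel₀ hh0 (hhc.trans (mul_one h).symm)
    exact (IsLocalRing.maximalIdeal.isMaximal B).ne_top ((Ideal.eq_top_iff_one _).mpr (this ▸ hc))
  obtain ⟨u, hu⟩ : g ^ n ∣ f := by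
    apply hdesc
    rw [map_pow, hgc, mul_pow, hf, (hc.pow n).mul_right_dvd]
    exact dvd_mul_left _ _
  have huu : IsUnit (φ u) := by
    have h1 : φ g ^ n * φ u = ↑w * h ^ n := by rw [← map_pow, ← map_mul, ← hu, hf]
    rw [hgc, mul_pow, mul_assoc, mul_comm (↑w : B)] at h1
    have h2 := mul_left_cancel₀ (pow_ne_zero n hh0) h1
    exact isUnit_of_mul_isUnit_right (h2 ▸ w.isUnit)
  exact ⟨g, (IsUnit.of_map φ u huu).unit, by rw [IsUnit.unit_spec, hu, mul_comm]⟩

end Groth.Agent.S7125
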