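import Groth.Statements.S7127
import Groth.Agent.EtaleAlgebra.WeaklyEtale
-- import your own Groth.Agent.* helpers here

set_option autoImplicit false
universe u
open EtAlg

namespace Groth.Agent.S7127

/-- Let A be a ring and B → C an A-algebra homomorphism between weakly étale A-algebras. Then C is
weakly étale over B. -/
theorem result (A B C : Type u) [CommRing A] [CommRing B] [CommRing C]
    [Algebra A B] [Algebra A C] [Algebra B C] [IsScalarTower A B C] [Algebra.WeaklyEtale A B]
    [Algebra.WeaklyEtale A C] : Algebra.WeaklyEtale B C := by
  exact Groth.EtaleAlgebra.weaklyEtale_of_tower A B C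

end Groth.Agent.S7127
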