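import Groth.Statements.S7130
import Groth.Agent.EtaleAlgebra.AbsFlat
import Mathlib.Tactic.TFAE
import Mathlib.RingTheory.Localization.AtPrime.Basic
-- import your own Groth.Agent.* helpers here

set_option autoImplicit false
universe u
open EtAlg

namespace Groth.Agent.S7130

/-- (2) ⇔ (3) ⇔ (4): for a ring A the following are equivalent: every A-module is flat; A is reduced of
Krull dimension zero, in the sense that every prime ideal of A is maximal; the local ring A_p is a
field for every prime p. (The further equivalent condition 'A has weak dimension at most zero'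
coincides with the first condition by definition and is not listed separately.) -/
theorem result (A : Type u) [CommRing A] :
    List.TFAE [∀ (M : Type u) [AddCommGroup M] [Module A M], Module.Flat A M,
      IsReduced A ∧ ∀ p : Ideal A, p.IsPrime → p.IsMaximal,
      ∀ (p : Ideal A) [p.IsPrime], IsField (Localization.AtPrime p)] := by
  tfae_have 1 → 2 := fun h =>
    have hr := Groth.EtaleAlgebra.regular_of_flat h
    ⟨Groth.EtaleAlgebra.isReduced_of_regular hr, fun p hp => Groth.EtaleAlgebra.isMaximal_of_regular hr p⟩
  tfae_have 2 → 3 := fun ⟨hred, h⟩ p _ => by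
    have : IsReduced (Localization.AtPrime p) := inferInstance
    rw [IsLocalRing.isField_iff_maximalIdeal_eq]
    refine le_bot_iff.1 fun x hx => ?_
    refine IsNilpotent.eq_zero (mem_nilradical.1 ?_)
    rw [nilradical_eq_sInf, Ideal.mem_sInf]
    intro Q hQ
    have hQ' : Q.IsPrime := hQ
    have hle : Q.comap (algebraMap A (Localization.AtPrime p)) ≤ p := by
      intro a ha
      by_contra hap
      exact hQ'.ne_top (Q.eq_top_of_isUnit_mem ha (IsLocalization.map_units (M := p.primeCompl) _ ⟨a, hap⟩))
    have he := (h _ inferInstance).eq_of_le (Ideal.IsPrime.ne_top ‹_›) hle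
    have : (IsLocalRing.maximalIdeal (Localization.AtPrime p)) ≤ Q := by
      rw [← Localization.AtPrime.map_eq_maximalIdeal, Ideal.map_le_iff_le_comap, he]
    exact this hx
  tfae_have 3 → 1 := fun h M _ _ =>
    Groth.EtaleAlgebra.flat_of_regular (Groth.EtaleAlgebra.regular_of_isField_localization fun p _ => h p) M
  tfae_finish

end Groth.Agent.S7130
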