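import Groth.Statements.S7132
import Groth.Agent.EtaleAlgebra.RamBound
-- import your own Groth.Agent.* helpers here

set_option autoImplicit false
universe u
open EtAlg

namespace Groth.Agent.S7132

/-- For an injective local homomorphism A → B of discrete valuation rings whose fraction fields K ⊆ L
form a finite extension, the residue field of B is finite over that of A, and the ramification index
e times the residue degree f is at most [L : K]. -/
theorem result (A B K L : Type u) [CommRing A] [IsDomain A]
    [IsDiscreteValuationRing A] [CommRing B] [IsDomain B] [IsDiscreteValuationRing B] [Algebra A B]
    (hinj : Function.Injective (algebraMap A B)) [IsLocalHom (algebraMap A B)]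
    [Field K] [Field L] [Algebra A K] [IsFractionRing A K] [Algebra B L] [IsFractionRing B L]
    [Algebra K L] [Algebra A L] [IsScalarTower A K L] [IsScalarTower A B L] [FiniteDimensional K L] :
    Module.Finite (IsLocalRing.ResidueField A) (IsLocalRing.ResidueField B) ∧
      Ideal.ramificationIdx' (IsLocalRing.maximalIdeal A) (IsLocalRing.maximalIdeal B) *
          Module.finrank (IsLocalRing.ResidueField A) (IsLocalRing.ResidueField B) ≤
        Module.finrank K L := by
  exact Groth.EtaleAlgebra.finite_residueField_and_ramificationIdx_mul_finrank_le A B hinj K L

end Groth.Agent.S7132
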