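import Groth.Statements.S7133
import Groth.Agent.EtaleAlgebra.EtRamBasic
-- import your own Groth.Agent.* helpers here

set_option autoImplicit false
universe u
open EtAlg

namespace Groth.Agent.S7133

/-- For an injective local homomorphism A → B of discrete valuation rings whose fields of fractions are
K ⊆ L: if K has characteristic p > 0 and L/K is purely inseparable, then the ramification index of B
over A is a power of p. -/
theorem result (A B K L : Type u) [CommRing A] [IsDomain A]
    [IsDiscreteValuationRing A] [CommRing B] [IsDomain B] [IsDiscreteValuationRing B] [Algebra A B]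
    (hinj : Function.Injective (algebraMap A B)) [IsLocalHom (algebraMap A B)]
    [Field K] [Field L] [Algebra A K] [IsFractionRing A K] [Algebra B L] [IsFractionRing B L]
    [Algebra K L] [Algebra A L] [IsScalarTower A K L] [IsScalarTower A B L]
    (p : ℕ) (hp : p.Prime) [CharP K p] [IsPurelyInseparable K L] :
    ∃ k : ℕ, Ideal.ramificationIdx' (IsLocalRing.maximalIdeal A) (IsLocalRing.maximalIdeal B) =
      p ^ k := by
  have : Fact p.Prime := ⟨hp⟩
  have : ExpChar K p := ExpChar.prime hp
  obtain ⟨e, -, he, he'⟩ := Groth.EtaleAlgebra.exists_map_maximalIdeal_eq_pow A B hinj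
  obtain ⟨ϖ, hϖ⟩ := IsDiscreteValuationRing.exists_irreducible B
  obtain ⟨τ, hτ⟩ := IsDiscreteValuationRing.exists_irreducible A
  obtain ⟨k, c, hc⟩ := IsPurelyInseparable.pow_mem K p (algebraMap B L ϖ)
  obtain ⟨a, b, hb, rfl⟩ := IsFractionRing.div_surjective A c
  have hbL : algebraMap A L b ≠ 0 := by
    rw [IsScalarTower.algebraMap_apply A K L]
    exact (map_ne_zero _).2 ((map_ne_zero_iff _ (IsFractionRing.injective A K)).2
      (nonZeroDivisors.ne_zero hb))
  rw [map_div₀, ← IsScalarTower.algebraMap_apply, ← IsScalarTower.algebraMap_apply,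
    div_eq_iff hbL, IsScalarTower.algebraMap_apply A B L, IsScalarTower.algebraMap_apply A B L,
    ← map_pow, ← map_mul] at hc
  have hab : algebraMap A B a = ϖ ^ p ^ k * algebraMap A B b := IsFractionRing.injective B L hc
  have ha0 : a ≠ 0 := by
    rintro rfl
    rw [map_zero, eq_comm, mul_eq_zero] at hab
    rcases hab with h | h
    · exact hϖ.ne_zero (eq_zero_of_pow_eq_zero h)
    · exact nonZeroDivisors.ne_zero hb (hinj (h.trans (map_zero _).symm))
  obtain ⟨i, hi⟩ := IsDiscreteValuationRing.ideal_eq_span_pow_irreducible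
    (mt Ideal.span_singleton_eq_bot.1 ha0) hτ
  obtain ⟨j, hj⟩ := IsDiscreteValuationRing.ideal_eq_span_pow_irreducible
    (mt Ideal.span_singleton_eq_bot.1 (nonZeroDivisors.ne_zero hb)) hτ
  rw [← Ideal.span_singleton_pow, ← hτ.maximalIdeal_eq] at hi hj
  have hspan : Ideal.map (algebraMap A B) (Ideal.span {a}) =
      IsLocalRing.maximalIdeal B ^ p ^ k * Ideal.map (algebraMap A B) (Ideal.span {b}) := by
    rw [Ideal.map_span, Ideal.map_span, Set.image_singleton, Set.image_singleton, hab,
      hϖ.maximalIdeal_eq, Ideal.span_singleton_pow, Ideal.span_singleton_mul_span_singleton]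
  rw [hi, hj, Ideal.map_pow, Ideal.map_pow, he, ← pow_mul, ← pow_mul, ← pow_add] at hspan
  have heq : e * i = p ^ k + e * j := Groth.EtaleAlgebra.pow_maximalIdeal_injective B hspan
  have hdvd : e ∣ p ^ k := ⟨i - j, by rw [Nat.mul_sub]; omega⟩
  obtain ⟨l, -, hl⟩ := (Nat.dvd_prime_pow hp).1 hdvd
  exact ⟨l, he'.trans hl⟩

end Groth.Agent.S7133
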