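import Groth.Statements.S7134
import Groth.Agent.Ega41Flat.Smooth
import Groth.Agent.S0558
import Groth.Agent.Ega41Sep.Separable
import Groth.Agent.Ega41Adic.RegularOfSmooth

set_option autoImplicit false
universe u
open EtAlg

namespace Groth.Agent.S7134

open IsLocalRing

/-- For an injective local homomorphism A → B of discrete valuation rings, A → B is formally smooth for
the adic topology of the maximal ideal of B if and only if A → B is weakly unramified and the
residue field of B is a separable (possibly transcendental, i.e. geometrically reduced) extension of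
the residue field of A. -/
theorem result (A B : Type u) [CommRing A]
    [IsDomain A] [IsDiscreteValuationRing A] [CommRing B] [IsDomain B] [IsDiscreteValuationRing B] [Algebra A B]
    (hinj : Function.Injective (algebraMap A B)) [IsLocalHom (algebraMap A B)] :
    CAlgX.IsAdicFormallySmooth A B (IsLocalRing.maximalIdeal B) ↔
      EtRam.IsWeaklyUnramified A B ∧
        Algebra.IsGeometricallyReduced (IsLocalRing.ResidueField A) (IsLocalRing.ResidueField B) := by
  have : IsScalarTower A B B := inferInstance
  have : Module.IsTorsionFree A B := Module.isTorsionFree_iff_algebraMap_injective.mpr hinj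
  have : Module.Flat A B := Module.Flat.flat_iff_torsion_eq_bot_of_isBezout.mpr
    (Submodule.isTorsionFree_iff_torsion_eq_bot.mp inferInstance)
  let J := (maximalIdeal A).map (algebraMap A B)
  let F := B ⧸ J
  have hne : J ≠ ⊥ := fun h => IsDiscreteValuationRing.not_a_field A
    ((Ideal.map_eq_bot_iff_of_injective hinj).mp h)
  have hsep : Algebra.IsGeometricallyReduced (ResidueField A) (ResidueField B) ↔
      Algebra.FormallySmooth (ResidueField A) (ResidueField B) :=
    (Groth.Ega41Sep.formallySmooth_iff_isGeometricallyReduced _ _).symm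
  rw [Groth.Ega41Flat.isAdicFormallySmooth_iff_local, hsep]
  let : Field (A ⧸ maximalIdeal A) := Ideal.Quotient.field _
  let : Algebra (A ⧸ maximalIdeal A) (ResidueField B) := (inferInstance : Algebra (ResidueField A) (ResidueField B))
  refine ⟨fun h => ?_, fun ⟨hw, hs⟩ => ?_⟩
  · have : Nontrivial F := Ideal.Quotient.nontrivial_iff.mpr
      (ne_top_of_le_ne_top (maximalIdeal.isMaximal B).ne_top Groth.Ega41Flat.map_maximalIdeal_le)
    have : IsLocalRing F := IsLocalRing.of_surjective' _ Ideal.Quotient.mk_surjective
    have : IsRegularLocalRing F := Groth.Ega41Flat.isRegularLocalRing_fibre h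
    have : IsDomain F := Groth.Agent.S0558.result F
    have hp : J.IsPrime := (Ideal.Quotient.isDomain_iff_prime J).mp this
    have hw : J = maximalIdeal B := IsLocalRing.eq_maximalIdeal (hp.isMaximal hne)
    refine ⟨hw, ?_⟩
    have h0 := Groth.Ega41Flat.isFormallySmoothAdic_quotient h
    have : Algebra.FormallySmooth (A ⧸ maximalIdeal A) F := by
      refine Algebra.FormallySmooth.of_comp_surjective fun C _ _ I hI ψ => ?_
      refine Groth.Ega41Adic.isAdicFormallySmooth_iff.mpr h0 C I hI ψ ⟨1, fun x hx => ?_⟩
      rw [pow_one, ← hw, Ideal.map_quotient_self, Ideal.mem_bot] at hx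
      rw [hx, map_zero]
    let e : F ≃ₐ[A ⧸ maximalIdeal A] ResidueField B :=
      AlgEquiv.ofRingEquiv (f := Ideal.quotEquivOfEq hw) fun x => by
        obtain ⟨a, rfl⟩ := Ideal.Quotient.mk_surjective x
        rfl
    exact Algebra.FormallySmooth.of_equiv (R := A ⧸ maximalIdeal A) e
  · have hw' : J = maximalIdeal B := hw
    let e : ResidueField B ≃ₐ[A ⧸ maximalIdeal A] F :=
      AlgEquiv.ofRingEquiv (f := Ideal.quotEquivOfEq hw'.symm) fun x => by
        obtain ⟨a, rfl⟩ := Ideal.Quotient.mk_surjective x
        rfl
    have : Algebra.FormallySmooth (A ⧸ maximalIdeal A) (ResidueField B) := hs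
    have : Algebra.FormallySmooth (A ⧸ maximalIdeal A) F := Algebra.FormallySmooth.of_equiv e
    refine Groth.Ega41Flat.isFormallySmoothAdic_of_flat ?_
    rw [← hw', Ideal.map_quotient_self]
    exact Groth.Ega41Adic.isFormallySmoothAdic_bot_of_formallySmooth

end Groth.Agent.S7134
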