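import Groth.Statements.S7135
import Mathlib
import Groth.Agent.Calg3.HomQuot

set_option autoImplicit false
universe u
open CAlg

namespace Groth.Agent.S7135

/-- Let A be a Noetherian ring, I an ideal and M, N finite A-modules. If M/IⁿM and N/IⁿN are isomorphic
for every n, then the I-adic completions of M and N are isomorphic as modules over the I-adic
completion of A. -/
theorem result (A : Type u) [CommRing A] [IsNoetherianRing A] (I : Ideal A)
    (M N : Type u) [AddCommGroup M] [Module A M] [Module.Finite A M] [AddCommGroup N] [Module A N]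
    [Module.Finite A N]
    (h : ∀ n : ℕ, Nonempty ((M ⧸ (I ^ n • ⊤ : Submodule A M)) ≃ₗ[A] (N ⧸ (I ^ n • ⊤ : Submodule A N)))) :
    Nonempty (AdicCompletion I M ≃ₗ[AdicCompletion I A] AdicCompletion I N) := by
  classical
  have key : ∀ (P Q : Type u) [AddCommGroup P] [Module A P] [Module.Finite A P] [AddCommGroup Q] [Module A Q]
      [Module.Finite A Q], (∀ n : ℕ, Nonempty ((P ⧸ (I ^ n • ⊤ : Submodule A P)) ≃ₗ[A] (Q ⧸ (I ^ n • ⊤ : Submodule A Q)))) →
      ∃ φ : P →ₗ[A] Q, ∀ n : ℕ, (⊤ : Submodule A Q) ≤ LinearMap.range φ ⊔ I ^ n • ⊤ := by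
    intro P Q _ _ _ _ _ _ hPQ
    obtain ⟨c, hc⟩ := Groth.Calg3.hom_quot I P Q
    obtain ⟨e⟩ := hPQ (1 + c)
    obtain ⟨φ, hφ⟩ := (hc 1).1 (e.toLinearMap ∘ₗ Submodule.mkQ _)
    have h1 : (⊤ : Submodule A Q) ≤ LinearMap.range φ ⊔ I • ⊤ := by
      intro y _
      obtain ⟨x, hx⟩ := Submodule.Quotient.mk_surjective _ (e.symm (Submodule.Quotient.mk y))
      have := hφ x y (by simp [hx])
      rw [pow_one] at this
      rw [← sub_sub_cancel (φ x) y]
      exact sub_mem (Submodule.mem_sup_left ⟨x, rfl⟩) (Submodule.mem_sup_right this)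
    refine ⟨φ, fun n => ?_⟩
    induction n with
    | zero => simp
    | succ n ih =>
      refine h1.trans (sup_le le_sup_left ?_)
      refine (Submodule.smul_mono le_rfl ih).trans ?_
      rw [Submodule.smul_sup, ← Submodule.mul_smul, ← pow_succ']
      exact sup_le_sup_right Submodule.smul_le_right _
  obtain ⟨φ, hφ⟩ := key M N h
  obtain ⟨ψ, hψ⟩ := key N M fun n => (h n).map LinearEquiv.symm
  let red : ∀ (n : ℕ) {P Q : Type u} [AddCommGroup P] [Module A P] [AddCommGroup Q] [Module A Q],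
      (P →ₗ[A] Q) → ((P ⧸ (I ^ n • ⊤ : Submodule A P)) →ₗ[A] (Q ⧸ (I ^ n • ⊤ : Submodule A Q))) :=
    fun n {P Q} _ _ _ _ g => Submodule.mapQ _ _ g (Submodule.map_le_iff_le_comap.mp
      (by rw [Submodule.map_smul'']; exact Submodule.smul_mono le_rfl le_top))
  have hsurj : ∀ (n : ℕ) {P Q : Type u} [AddCommGroup P] [Module A P] [AddCommGroup Q] [Module A Q]
      (g : P →ₗ[A] Q), (⊤ : Submodule A Q) ≤ LinearMap.range g ⊔ I ^ n • ⊤ → Function.Surjective (red n g) := by
    intro n P Q _ _ _ _ g hg y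
    obtain ⟨y, rfl⟩ := Submodule.Quotient.mk_surjective _ y
    obtain ⟨_, ⟨x, rfl⟩, t, ht, rfl⟩ := Submodule.mem_sup.mp (hg (Submodule.mem_top (x := y)))
    exact ⟨Submodule.Quotient.mk x, (Submodule.Quotient.eq _).mpr (by simpa using neg_mem ht)⟩
  have hbij : ∀ n, Function.Bijective (red n φ) := fun n => by
    refine ⟨?_, hsurj n φ (hφ n)⟩
    have h2 : Function.Injective (red n ψ ∘ₗ red n φ) :=
      OrzechProperty.injective_of_surjective_endomorphism _
        ((hsurj n ψ (hψ n)).comp (hsurj n φ (hφ n)))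
    exact Function.Injective.of_comp h2
  have hval : ∀ n (x : AdicCompletion I M), (AdicCompletion.map I φ x).val n = red n φ (x.val n) := by
    intro n x
    rw [AdicCompletion.map_val_apply]
    obtain ⟨y, hy⟩ := Submodule.Quotient.mk_surjective _ (x.val n)
    rw [← hy]
    rfl
  refine ⟨LinearEquiv.ofBijective (AdicCompletion.map I φ) ⟨fun x y hxy => ?_, fun y => ?_⟩⟩
  · refine AdicCompletion.ext fun n => (hbij n).1 ?_
    rw [← hval, ← hval, hxy]
  · choose x hx using fun n => (hbij n).2 (y.val n)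
    have hx' : ∀ {m n} (hmn : m ≤ n), AdicCompletion.transitionMap I M hmn (x n) = x m := by
      intro m n hmn
      refine (hbij m).1 ?_
      rw [hx]
      have : red m φ (AdicCompletion.transitionMap I M hmn (x n)) =
          AdicCompletion.transitionMap I N hmn (red n φ (x n)) := by
        obtain ⟨w, hw⟩ := Submodule.Quotient.mk_surjective _ (x n)
        rw [← hw]; rfl
      rw [this, hx]
      exact y.prop hmn
    exact ⟨⟨x, fun hmn => hx' hmn⟩, AdicCompletion.ext fun n => (hval n _).trans (hx n)⟩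

end Groth.Agent.S7135
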