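import Groth.Statements.S7138
import Groth.Agent.S1965
import Groth.Agent.S4564
import Groth.Agent.Calg1.CompletionLocal
import Mathlib.FieldTheory.PrimitiveElement
import Mathlib.RingTheory.DedekindDomain.IntegralClosure
import Mathlib.RingTheory.Polynomial.IntegralNormalization
-- import your own Groth.Agent.* helpers here

set_option autoImplicit false
set_option linter.style.haveILetI false
universe u
open EtAlg

namespace Groth.Agent.S7138

section Helper
open IsLocalRing Polynomial

/-- Approximation in the completion. -/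
theorem exists_approx (A : Type u) [CommRing A] [IsLocalRing A] [IsNoetherianRing A] (n : ℕ)
    (x : AdicCompletion (maximalIdeal A) A) :
    ∃ a : A, algebraMap A (AdicCompletion (maximalIdeal A) A) a - x ∈
      maximalIdeal (AdicCompletion (maximalIdeal A) A) ^ n := by
  rcases Ideal.Quotient.mk_surjective (x.1 n) with ⟨z, hz⟩
  refine ⟨z, ?_⟩
  rw [AdicCompletion.maximalIdeal_eq_map, ← Ideal.map_pow, ← Submodule.restrictScalars_mem A,
    ← Ideal.smul_top_eq_map, AdicCompletion.algebraMap_apply,
    AdicCompletion.pow_smul_top_eq_ker_eval (maximalIdeal A).fg_of_isNoetherianRing]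
  simpa [AdicCompletion.eval, sub_eq_zero] using hz

/-- Perturbations of a power basis stay linearly independent. -/
theorem exists_stable {Â R : Type u} [CommRing Â] [IsDomain Â] [IsDiscreteValuationRing Â]
    [CommRing R] [IsDomain R] [IsLocalRing R] [IsNoetherianRing R] [Algebra Â R] [Module.Finite Â R]
    (hdimR : ∀ P : Ideal R, P.IsPrime → P ≠ ⊥ → P = maximalIdeal R)
    (hinj : Function.Injective (algebraMap Â R)) (α : R) (d : ℕ)
    (hind : LinearIndependent Â fun i : Fin d => α ^ (i : ℕ))
    (hspan : ∀ r : R, ∃ y : Â, y ≠ 0 ∧ y • r ∈ Submodule.span Â (Set.range fun i : Fin d => α ^ (i : ℕ))) :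
    ∃ c : ℕ, ∀ β : R, β - α ∈ maximalIdeal R ^ c → LinearIndependent Â fun i : Fin d => β ^ (i : ℕ) := by
  classical
  let N := Submodule.span Â (Set.range fun i : Fin d => α ^ (i : ℕ))
  obtain ⟨G, hG⟩ := (Module.Finite.fg_top : (⊤ : Submodule Â R).FG)
  choose y hy0 hy using hspan
  let Y : Â := ∏ g ∈ G, y g
  have hY : ∀ r : R, Y • r ∈ N := fun r => by
    have hr : r ∈ Submodule.span Â (G : Set R) := hG ▸ Submodule.mem_top
    induction hr using Submodule.span_induction with
    | mem g hg =>
      rw [show Y = (∏ x ∈ G.erase g, y x) * y g from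
        (Finset.prod_erase_mul G y hg).symm, mul_smul]
      exact N.smul_mem _ (hy g)
    | zero => rw [smul_zero]; exact N.zero_mem
    | add a b _ _ ha hb => rw [smul_add]; exact N.add_mem ha hb
    | smul a b _ hb => rw [smul_comm]; exact N.smul_mem _ hb
  obtain ⟨π, hπ⟩ := IsDiscreteValuationRing.exists_irreducible Â
  have hYπ : algebraMap Â R (π * Y) ≠ 0 :=
    (map_ne_zero_iff _ hinj).2 (mul_ne_zero hπ.ne_zero (Finset.prod_ne_zero_iff.2 fun g _ => hy0 g))
  obtain ⟨c, hc⟩ : ∃ c : ℕ, maximalIdeal R ^ c ≤ Ideal.span {algebraMap Â R (π * Y)} := by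
    refine Ideal.exists_pow_le_of_le_radical_of_fg ?_ (IsNoetherian.noetherian _)
    rw [Ideal.radical_eq_sInf]
    refine le_sInf fun P ⟨hP, hPp⟩ => le_of_eq (hdimR P hPp fun h0 => hYπ ?_).symm
    exact Ideal.mem_bot.1 (h0 ▸ hP (Ideal.mem_span_singleton_self _))
  refine ⟨c, fun β hβ => Fintype.linearIndependent_iff.2 fun a ha i => ?_⟩
  have key : ∀ a : Fin d → Â, ∑ i, a i • β ^ (i : ℕ) = 0 → ∀ i, π ∣ a i := by
    intro a ha
    have h1 : ∑ i, a i • α ^ (i : ℕ) ∈ maximalIdeal R ^ c := by
      have : ∑ i, a i • α ^ (i : ℕ) = -∑ i, a i • (β ^ (i : ℕ) - α ^ (i : ℕ)) := by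
        simp only [smul_sub, Finset.sum_sub_distrib, ha, zero_sub, neg_neg]
      rw [this, neg_mem_iff]
      refine Ideal.sum_mem _ fun i _ => ?_
      rw [Algebra.smul_def]
      exact Ideal.mul_mem_left _ _ (Ideal.mem_of_dvd _ (sub_dvd_pow_sub_pow β α i) hβ)
    obtain ⟨r, hr⟩ := Ideal.mem_span_singleton.1 (hc h1)
    obtain ⟨b, hb⟩ := (Submodule.mem_span_range_iff_exists_fun Â).1 (hY r)
    intro i
    refine ⟨b i, ?_⟩
    have h2 : ∑ i, (a i - π * b i) • α ^ (i : ℕ) = 0 := by
      simp only [sub_smul, mul_smul, Finset.sum_sub_distrib, ← Finset.smul_sum, hb]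
      rw [hr, Algebra.smul_def, Algebra.smul_def, map_mul]
      ring
    exact sub_eq_zero.1 (Fintype.linearIndependent_iff.1 hind _ h2 i)
  have main : ∀ (k : ℕ) (a : Fin d → Â), ∑ i, a i • β ^ (i : ℕ) = 0 → ∀ i, π ^ k ∣ a i := by
    intro k
    induction k with
    | zero => exact fun a _ i => by simp
    | succ k ih =>
      intro a ha i
      choose b hb using key a ha
      have : ∑ i, b i • β ^ (i : ℕ) = 0 := by
        have h3 : algebraMap Â R π * ∑ i, b i • β ^ (i : ℕ) = 0 := by
          rw [Finset.mul_sum, ← ha]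
          refine Finset.sum_congr rfl fun i _ => ?_
          rw [hb i, Algebra.smul_def, Algebra.smul_def, map_mul, mul_assoc]
        exact (mul_eq_zero.1 h3).resolve_left ((map_ne_zero_iff _ hinj).2 hπ.ne_zero)
      rw [hb i, pow_succ']
      exact mul_dvd_mul_left π (ih b this i)
  have h : a i ∈ ⨅ k : ℕ, maximalIdeal Â ^ k := (Submodule.mem_iInf _).2 fun k => by
    rw [hπ.maximalIdeal_eq, Ideal.span_singleton_pow, Ideal.mem_span_singleton]
    exact main k a ha i
  rwa [Ideal.iInf_pow_eq_bot_of_isLocalRing _ (maximalIdeal.isMaximal Â).ne_top, Ideal.mem_bot] at h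

end Helper

open TensorProduct in
set_option maxHeartbeats 800000 in
open Polynomial in
/-- Let A be a discrete valuation ring, K its field of fractions, A^ its completion and K^ the fraction
field of A^. Every finite separable extension M of K^ arises by base change: M ≅ K^ ⊗_K L as
K^-algebras for some finite separable extension L/K. -/
theorem result (A K : Type u) [CommRing A] [IsDomain A]
    [IsDiscreteValuationRing A] [Field K] [Algebra A K] [IsFractionRing A K]
    (Kh : Type u) [Field Kh] [Algebra (AdicCompletion (IsLocalRing.maximalIdeal A) A) Kh]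
    [IsFractionRing (AdicCompletion (IsLocalRing.maximalIdeal A) A) Kh] [Algebra A Kh] [Algebra K Kh]
    [IsScalarTower A (AdicCompletion (IsLocalRing.maximalIdeal A) A) Kh] [IsScalarTower A K Kh]
    (M : Type u) [Field M] [Algebra Kh M] [FiniteDimensional Kh M] [Algebra.IsSeparable Kh M] :
    ∃ (L : Type u) (_ : Field L) (_ : Algebra K L), FiniteDimensional K L ∧ Algebra.IsSeparable K L ∧
      Nonempty ((Kh ⊗[K] L) ≃ₐ[Kh] M) := by
  classical
  let Â := AdicCompletion (IsLocalRing.maximalIdeal A) A
  obtain ⟨hdom, hdvr⟩ := (Groth.Calg1.isDVR_iff_adicCompletion A).1 ⟨inferInstance, inferInstance⟩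
  haveI : IsDomain Â := hdom
  haveI : IsDiscreteValuationRing Â := hdvr
  haveI hcomplete : IsAdicComplete (IsLocalRing.maximalIdeal Â) Â := inferInstance
  letI aÂM : Algebra Â M := ((algebraMap Kh M).comp (algebraMap Â Kh)).toAlgebra
  haveI : IsScalarTower Â Kh M := IsScalarTower.of_algebraMap_eq fun _ => rfl
  let R := integralClosure Â M
  haveI hfinR : Module.Finite Â R := IsIntegralClosure.finite Â Kh M R
  haveI : IsNoetherianRing R := IsNoetherianRing.of_finite Â R
  letI : Algebra (FractionRing Â) M :=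
    ((algebraMap Kh M).comp (FractionRing.algEquiv Â Kh).toRingEquiv.toRingHom).toAlgebra
  haveI : IsScalarTower Â (FractionRing Â) M := IsScalarTower.of_algebraMap_eq fun x => by
    show algebraMap Kh M (algebraMap Â Kh x) = algebraMap Kh M ((FractionRing.algEquiv Â Kh) _)
    rw [AlgEquiv.commutes]
  haveI : FiniteDimensional (FractionRing Â) M := by
    obtain ⟨G, hG⟩ := (Module.Finite.fg_top : (⊤ : Submodule Kh M).FG)
    refine ⟨⟨G, top_le_iff.1 fun z hz' => ?_⟩⟩
    clear hz'
    have hz : z ∈ Submodule.span Kh (G : Set M) := hG ▸ Submodule.mem_top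
    induction hz using Submodule.span_induction with
    | mem x hx => exact Submodule.subset_span hx
    | zero => exact zero_mem _
    | add x y _ _ hx hy => exact add_mem hx hy
    | smul c x _ hx =>
      have : c • x = ((FractionRing.algEquiv Â Kh).symm c) • x := by
        rw [Algebra.smul_def, Algebra.smul_def]
        show _ = algebraMap Kh M ((FractionRing.algEquiv Â Kh) _) * x
        rw [AlgEquiv.apply_symm_apply]
      rw [this]
      exact Submodule.smul_mem _ _ hx
  obtain ⟨hRl, hRc⟩ := Groth.Agent.S4564.result (A := Â) (K' := M)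
  haveI : IsDomain R := inferInstance
  haveI hDed : IsDedekindDomain R := IsIntegralClosure.isDedekindDomain Â Kh M R
  have hinjR : Function.Injective (algebraMap Â R) := fun x y h =>
    IsFractionRing.injective Â Kh ((algebraMap Kh M).injective (congrArg Subtype.val h))
  have hRnf : ¬ IsField R := by
    intro hF
    exact IsDiscreteValuationRing.not_isField Â (isField_of_isIntegral_of_isField hinjR hF)
  have hdimP : ∀ P : Ideal R, P.IsPrime → P ≠ ⊥ → P = IsLocalRing.maximalIdeal R := fun P hP h0 =>
    IsLocalRing.eq_maximalIdeal (Ideal.IsPrime.isMaximal hP h0)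
  haveI hRdvr : IsDiscreteValuationRing R :=
    ((IsDiscreteValuationRing.TFAE R hRnf).out 2 0).mp hDed
  -- an integral primitive element
  obtain ⟨θ, hθ⟩ := Field.exists_primitive_element Kh M
  obtain ⟨α₀, y, hy0, hyα⟩ : ∃ (α : R) (y : Â), y ≠ 0 ∧ (α : M) = y • θ := by
    haveI := IsIntegralClosure.isLocalization Â Kh M R
    obtain ⟨⟨α, s⟩, hs⟩ := IsLocalization.surj (Algebra.algebraMapSubmonoid R (nonZeroDivisors Â)) θ
    obtain ⟨y, hy, hy'⟩ := s.2
    exact ⟨α, y, nonZeroDivisors.ne_zero hy, by
      rw [Algebra.smul_def, mul_comm]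
      refine hs.symm.trans ?_
      rw [← hy']
      rfl⟩
  let α := α₀
  have hgenα : IntermediateField.adjoin Kh {(α : M)} = ⊤ := by
    rw [← top_le_iff, ← hθ, IntermediateField.adjoin_le_iff, Set.singleton_subset_iff]
    have hy' : algebraMap Â Kh y ≠ 0 := (map_ne_zero_iff _ (IsFractionRing.injective Â Kh)).2 hy0
    have : θ = (algebraMap Â Kh y)⁻¹ • (α : M) := by
      rw [hyα, ← algebraMap_smul Kh y θ, inv_smul_smul₀ hy']
    rw [SetLike.mem_coe, this]
    exact IntermediateField.smul_mem _ (IntermediateField.mem_adjoin_simple_self Kh _)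
  have hαint : IsIntegral Â (α : M) := α.2
  let g := minpoly Â (α : M)
  have hgK : g.map (algebraMap Â Kh) = minpoly Kh (α : M) :=
    (minpoly.isIntegrallyClosed_eq_field_fractions Kh M hαint).symm
  let d := g.natDegree
  have hgm : g.Monic := minpoly.monic hαint
  have hdK : (minpoly Kh (α : M)).natDegree = d := by rw [← hgK, hgm.natDegree_map]
  have hdM : Module.finrank Kh M = d := by
    rw [← hdK, ← IntermediateField.adjoin.finrank (Algebra.IsIntegral.isIntegral (α : M)), hgenα,
      IntermediateField.finrank_top']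
  let ιR : R →ₗ[Â] M := (Subalgebra.val R).toLinearMap
  have hindM : LinearIndependent Kh fun i : Fin d => (α : M) ^ (i : ℕ) := hdK ▸ linearIndependent_pow _
  have hind : LinearIndependent Â fun i : Fin d => α ^ (i : ℕ) :=
    LinearIndependent.of_comp ιR ((LinearIndependent.iff_fractionRing Â Kh).2 hindM)
  have hspanK : Submodule.span Kh (Set.range fun i : Fin d => (α : M) ^ (i : ℕ)) = ⊤ :=
    hindM.span_eq_top_of_card_eq_finrank' (by simp [hdM])
  have hspan : ∀ r : R, ∃ y : Â, y ≠ 0 ∧
      y • r ∈ Submodule.span Â (Set.range fun i : Fin d => α ^ (i : ℕ)) := by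
    intro r
    obtain ⟨b, hb⟩ := (Submodule.mem_span_range_iff_exists_fun Kh).1 (hspanK ▸ Submodule.mem_top : (r : M) ∈ _)
    obtain ⟨y, hy⟩ := IsLocalization.exist_integer_multiples_of_finite (nonZeroDivisors Â) b
    choose a ha using hy
    refine ⟨y, nonZeroDivisors.ne_zero y.2, (Submodule.mem_span_range_iff_exists_fun Â).2 ⟨a, Subtype.ext ?_⟩⟩
    show ιR (∑ i, a i • α ^ (i : ℕ)) = ιR ((y : Â) • r)
    rw [map_sum, map_smul]
    show ∑ i, ιR (a i • α ^ (i : ℕ)) = (y : Â) • (r : M)
    rw [← hb, Finset.smul_sum]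
    refine Finset.sum_congr rfl fun i _ => ?_
    rw [map_smul, ← algebraMap_smul Kh (a i), ha i, smul_assoc]
    rfl
  obtain ⟨c, hc⟩ := exists_stable hdimP hinjR α d hind hspan
  let P := g.map (algebraMap Â R)
  have hP0 : P.eval α = 0 := by
    apply Subtype.val_injective
    show ((Subalgebra.val R).toRingHom) (P.eval α) = 0
    rw [eval_map, hom_eval₂]
    exact minpoly.aeval Â (α : M)
  have hP' : (derivative P).eval α ≠ 0 := by
    intro h
    have h1 := congrArg ((Subalgebra.val R).toRingHom) h
    rw [derivative_map, eval_map, hom_eval₂, map_zero] at h1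
    have hsep : (minpoly Kh (α : M)).Separable := Algebra.IsSeparable.isSeparable Kh (α : M)
    refine hsep.aeval_derivative_ne_zero (minpoly.aeval Kh (α : M)) ?_
    rw [← hgK, derivative_map, aeval_map_algebraMap]
    exact h1
  obtain ⟨n, hn⟩ := Groth.Agent.S1965.result R (IsDiscreteValuationRing.ringKrullDim_eq_one R) P α hP0 hP' c
  choose a ha using fun i => exists_approx A n (g.coeff i)
  let f : A[X] := Polynomial.X ^ d + ∑ i ∈ Finset.range d, Polynomial.C (a i) * Polynomial.X ^ i
  have hfdeg : (∑ i ∈ Finset.range d, Polynomial.C (a i) * Polynomial.X ^ i).degree < (d : WithBot ℕ) :=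
    lt_of_le_of_lt (degree_sum_le _ _) ((Finset.sup_lt_iff (WithBot.bot_lt_coe d)).2 fun i hi =>
      lt_of_le_of_lt (degree_C_mul_X_pow_le _ _) (WithBot.coe_lt_coe.2 (Finset.mem_range.1 hi)))
  have hfm : f.Monic := monic_X_pow_add hfdeg
  have hfd : f.natDegree = d := by
    refine natDegree_eq_of_degree_eq_some ?_
    rw [degree_add_eq_left_of_degree_lt (by rwa [degree_X_pow]), degree_X_pow]
  let fh := f.map (algebraMap A Â)
  have hclose : ∀ i, fh.coeff i - g.coeff i ∈ IsLocalRing.maximalIdeal Â ^ n := by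
    intro i
    show (f.map (algebraMap A Â)).coeff i - _ ∈ _
    rw [coeff_map]
    rcases lt_trichotomy i d with hi | hi | hi
    · rw [show f.coeff i = a i by
        simp [f, coeff_X_pow, hi.ne, hi]]
      exact ha i
    · rw [hi, show f.coeff d = 1 from hfd ▸ hfm.coeff_natDegree, hgm.coeff_natDegree, map_one, sub_self]
      exact zero_mem _
    · rw [coeff_eq_zero_of_natDegree_lt (hfd ▸ hi), coeff_eq_zero_of_natDegree_lt hi, map_zero, sub_zero]
      exact zero_mem _
  haveI hloc : IsLocalHom (algebraMap Â R) :=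
    (algebraMap_isIntegral_iff.2 inferInstance).isLocalHom hinjR
  obtain ⟨β, hβ, hβα⟩ := hn (fh.map (algebraMap Â R) - P) fun i => by
    rw [coeff_sub, coeff_map (algebraMap Â R), show P.coeff i = algebraMap Â R (g.coeff i) from coeff_map _ i,
      ← map_sub]
    have h1 : (IsLocalRing.maximalIdeal Â).map (algebraMap Â R) ≤ IsLocalRing.maximalIdeal R :=
      ((IsLocalRing.local_hom_TFAE (algebraMap Â R)).out 0 2 rfl rfl).1 inferInstance
    have h2 := Ideal.mem_map_of_mem (algebraMap Â R) (hclose i)
    rw [Ideal.map_pow] at h2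
    exact Ideal.pow_right_mono h1 n h2
  rw [add_sub_cancel] at hβ
  have hindβ : LinearIndependent Kh fun i : Fin d => (β : M) ^ (i : ℕ) :=
    (LinearIndependent.iff_fractionRing Â Kh).1 ((hc β hβα).map' ιR
      (LinearMap.ker_eq_bot.2 Subtype.val_injective))
  have hspanβ : Submodule.span Kh (Set.range fun i : Fin d => (β : M) ^ (i : ℕ)) = ⊤ :=
    hindβ.span_eq_top_of_card_eq_finrank' (by simp [hdM])
  have hgenβ : Algebra.adjoin Kh {(β : M)} = ⊤ := by
    rw [← top_le_iff]
    intro z hz
    clear hz
    have hz : z ∈ Submodule.span Kh (Set.range fun i : Fin d => (β : M) ^ (i : ℕ)) := hspanβ ▸ Submodule.mem_top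
    refine (Submodule.span_le (p := Subalgebra.toSubmodule (Algebra.adjoin Kh {(β : M)}))).2 ?_ hz
    rintro _ ⟨i, rfl⟩
    exact pow_mem (Algebra.self_mem_adjoin_singleton Kh _) _
  let fK : K[X] := f.map (algebraMap A K)
  have hfK : fK.map (algebraMap K Kh) = fh.map (algebraMap Â Kh) := by
    rw [Polynomial.map_map, Polynomial.map_map, ← IsScalarTower.algebraMap_eq, ← IsScalarTower.algebraMap_eq]
  have hroot : aeval (β : M) (fK.map (algebraMap K Kh)) = 0 := by
    rw [hfK, aeval_map_algebraMap]
    have h1 := congrArg ((Subalgebra.val R).toRingHom) hβ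
    rw [eval_map, hom_eval₂, map_zero] at h1
    exact h1
  have hmin : fK.map (algebraMap K Kh) = minpoly Kh (β : M) := by
    have hβint : IsIntegral Kh (β : M) := Algebra.IsIntegral.isIntegral _
    have hdeg : (minpoly Kh (β : M)).natDegree = d := by
      rw [← IntermediateField.adjoin.finrank hβint, show IntermediateField.adjoin Kh {(β : M)} = ⊤ from
        IntermediateField.toSubalgebra_injective (by
          rw [IntermediateField.adjoin_simple_toSubalgebra_of_isAlgebraic hβint.isAlgebraic, hgenβ]; rfl),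
        IntermediateField.finrank_top', hdM]
    refine (eq_of_monic_of_dvd_of_natDegree_le (minpoly.monic hβint) ((hfm.map _).map _)
      (minpoly.dvd _ _ hroot) (le_of_eq ?_))
    rw [hdeg, (hfm.map _).natDegree_map, hfm.natDegree_map, hfd]
  have hirr : Irreducible fK := by
    refine Monic.irreducible_of_irreducible_map (algebraMap K Kh) _ (hfm.map _) ?_
    rw [hmin]
    exact minpoly.irreducible (Algebra.IsIntegral.isIntegral _)
  have hsepK : fK.Separable := by
    rw [← separable_map (algebraMap K Kh), hmin]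
    exact Algebra.IsSeparable.isSeparable Kh (β : M)
  haveI : Fact (Irreducible fK) := ⟨hirr⟩
  let L := AdjoinRoot fK
  haveI hfinL : FiniteDimensional K L := (AdjoinRoot.powerBasis hirr.ne_zero).finite
  haveI hsepL : Algebra.IsSeparable K L := by
    have hsep : IsSeparable K (AdjoinRoot.root fK) := by
      unfold IsSeparable
      rw [AdjoinRoot.minpoly_root hirr.ne_zero, (hfm.map _).leadingCoeff, inv_one, Polynomial.C_1, mul_one]
      exact hsepK
    have htop : IntermediateField.adjoin K {AdjoinRoot.root fK} = ⊤ :=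
      IntermediateField.toSubalgebra_injective (by
        rw [IntermediateField.adjoin_simple_toSubalgebra_of_isAlgebraic
          (Algebra.IsAlgebraic.isAlgebraic _), AdjoinRoot.adjoinRoot_eq_top]; rfl)
    have h2 := (IntermediateField.isSeparable_adjoin_simple_iff_isSeparable K L).2 hsep
    rw [htop] at h2
    exact Algebra.IsSeparable.of_algHom K _ (IntermediateField.topEquiv (F := K) (E := L)).symm.toAlgHom
  refine ⟨L, inferInstance, inferInstance, hfinL, hsepL, ?_⟩
  letI : Algebra K M := ((algebraMap Kh M).comp (algebraMap K Kh)).toAlgebra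
  haveI : IsScalarTower K Kh M := IsScalarTower.of_algebraMap_eq fun _ => rfl
  let h₂ : L →ₐ[K] M := AdjoinRoot.liftAlgHom fK (Algebra.ofId K M) (β : M) (by
    show eval₂ (algebraMap K M) (β : M) fK = 0
    rw [← aeval_def, ← aeval_map_algebraMap Kh]
    exact hroot)
  let Φ : Kh ⊗[K] L →ₐ[Kh] M := Algebra.TensorProduct.lift (Algebra.ofId Kh M) h₂ fun _ _ => Commute.all _ _
  have hsurj : Function.Surjective Φ := by
    rw [← AlgHom.range_eq_top, ← top_le_iff, ← hgenβ, Algebra.adjoin_le_iff, Set.singleton_subset_iff]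
    refine ⟨1 ⊗ₜ AdjoinRoot.root fK, ?_⟩
    show Φ _ = _
    rw [Algebra.TensorProduct.lift_tmul, map_one, one_mul, AdjoinRoot.liftAlgHom_root]
  have hrk : Module.finrank Kh (Kh ⊗[K] L) = Module.finrank Kh M := by
    rw [Module.finrank_baseChange, hdM, (AdjoinRoot.powerBasis hirr.ne_zero).finrank,
      AdjoinRoot.powerBasis_dim, hfm.natDegree_map, hfd]
  exact ⟨AlgEquiv.ofBijective Φ
    ⟨(LinearMap.injective_iff_surjective_of_finrank_eq_finrank (f := Φ.toLinearMap) hrk).2 hsurj, hsurj⟩⟩

end Groth.Agent.S7138
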