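import Groth.Statements.S7139
import Groth.Agent.Purity.Inertia
-- import your own Groth.Agent.* helpers here

set_option autoImplicit false
universe u
open EtAlg

namespace Groth.Agent.S7139
theorem etale_atPrime (A B' : Type u) [CommRing A] [IsDomain A] [IsDiscreteValuationRing A] [CommRing B'] [IsDomain B']
    [Algebra A B'] [Module.Finite A B'] (hinj : Function.Injective (algebraMap A B')) (q : Ideal B') [q.IsMaximal] (g : B') (hg : g ∉ q)
    [Algebra.Etale A (Localization.Away g)] : Algebra.Etale A (Localization.AtPrime q) := by
  classical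
  haveI : Algebra.IsIntegral A B' := Algebra.IsIntegral.of_finite A B'
  haveI : Algebra.FinitePresentation A B' := Algebra.FinitePresentation.of_finiteType.mp inferInstance
  let S : Set (Ideal B') := {P | P.IsMaximal ∧ P ≠ q}
  have hS : S.Finite := by
    refine Set.Finite.subset (Algebra.QuasiFinite.finite_primesOver (S := B') (IsLocalRing.maximalIdeal A))
      fun P hP => ⟨hP.1.isPrime, ⟨?_⟩⟩
    haveI := hP.1
    exact (IsLocalRing.eq_maximalIdeal (Ideal.isMaximal_comap_of_isIntegral_of_isMaximal P)).symm
  have hle : ¬ hS.toFinset.prod id ≤ q := fun h => by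
    obtain ⟨P, hP, hPq⟩ := (Ideal.IsPrime.prod_le (‹q.IsMaximal›).isPrime).mp h
    rw [Set.Finite.mem_toFinset] at hP
    exact hP.2 (hP.1.eq_of_le (‹q.IsMaximal›).ne_top hPq)
  obtain ⟨h, hh, hhq⟩ := SetLike.not_le_iff_exists.mp hle
  have hghq : g * h ∉ q := (‹q.IsMaximal›).isPrime.mul_notMem hg hhq
  haveI : Algebra.Etale A (Localization.Away (g * h)) := by
    rw [← Algebra.basicOpen_subset_etaleLocus_iff_etale]
    exact fun x hx => Algebra.basicOpen_subset_etaleLocus_iff_etale.mpr ‹Algebra.Etale A (Localization.Away g)› (PrimeSpectrum.basicOpen_mul_le_left g h hx)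
  haveI : IsLocalization q.primeCompl (Localization.Away (g * h)) :=
    IsLocalization.of_le_of_exists_dvd (Submonoid.powers (g * h)) _
      (Submonoid.powers_le.mpr hghq) fun x hx => by
        have : g * h ∈ (Ideal.span {x}).radical := by
          rw [Ideal.radical_eq_sInf, Submodule.mem_sInf]
          intro P hP'
          obtain ⟨hPx, hP⟩ := hP'
          haveI := hP
          have hxP : x ∈ P := hPx (Ideal.mem_span_singleton_self x)
          have hP0 : P ≠ ⊥ := fun h0 => hx (by rw [h0, Ideal.mem_bot] at hxP; rw [hxP]; exact q.zero_mem)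
          have hc : Ideal.comap (algebraMap A B') P ≠ ⊥ := fun h0 => hP0 (Ideal.eq_bot_of_comap_eq_bot h0)
          haveI : (Ideal.comap (algebraMap A B') P).IsMaximal := Ideal.IsPrime.isMaximal inferInstance hc
          have hPm : Ideal.IsMaximal P := Ideal.isMaximal_of_isIntegral_of_isMaximal_comap P ‹_›
          have hPS : P ∈ hS.toFinset := hS.mem_toFinset.mpr ⟨hPm, fun hPq => hx (hPq ▸ hxP)⟩
          exact Ideal.mul_mem_left P g (Ideal.le_of_dvd (Finset.dvd_prod_of_mem id hPS) hh)
        obtain ⟨n, hn⟩ := this
        exact ⟨(g * h) ^ n, ⟨n, rfl⟩, Ideal.mem_span_singleton.mp hn⟩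
  exact Algebra.Etale.of_equiv ((IsLocalization.algEquiv q.primeCompl (Localization.Away (g * h))
    (Localization.AtPrime q)).restrictScalars A)


/-- A is a discrete valuation ring, K its field of fractions, and L/K is finite Galois with Galois group
G. Write B for the integral closure of A in L, equipped with the induced G-action, m a maximal ideal
of B and I ⊆ G its inertia group. Denote by B' the integral closure of A inside the fixed field L^I,
with a map to B compatible with L^I ⊆ L. Then the image of B' in B is the ring of invariants B^I,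
and A → B'_{m'} is étale, where m' = m ∩ B'. -/
theorem result (A K L B : Type u) [CommRing A] [IsDomain A]
    [IsDiscreteValuationRing A] [Field K] [Field L] [Algebra A K] [IsFractionRing A K] [Algebra K L]
    [Algebra A L] [IsScalarTower A K L] [FiniteDimensional K L] [IsGalois K L]
    [CommRing B] [Algebra A B] [Algebra B L] [IsScalarTower A B L] [IsIntegralClosure B A L]
    [MulSemiringAction (L ≃ₐ[K] L) B]
    (hact : ∀ (σ : L ≃ₐ[K] L) (b : B), algebraMap B L (σ • b) = σ (algebraMap B L b))
    (m : Ideal B) [m.IsMaximal]
    (B' : Type u) [CommRing B'] [Algebra A B'] [Algebra B' B] [IsScalarTower A B' B] [Algebra B' L]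
    [IsScalarTower B' B L]
    [Algebra B' (IntermediateField.fixedField (m.inertia (L ≃ₐ[K] L)))]
    [IsScalarTower B' (IntermediateField.fixedField (m.inertia (L ≃ₐ[K] L))) L]
    [IsIntegralClosure B' A (IntermediateField.fixedField (m.inertia (L ≃ₐ[K] L)))] :
    (∀ b : B, (∀ σ ∈ m.inertia (L ≃ₐ[K] L), σ • b = b) ↔ b ∈ Set.range (algebraMap B' B)) ∧
      Algebra.Etale A (Localization.AtPrime (m.comap (algebraMap B' B))) := by
  classical
  let G := L ≃ₐ[K] L
  let I := m.inertia G
  let E := IntermediateField.fixedField I
  haveI : IsScalarTower A E L := IsScalarTower.of_algebraMap_eq fun a => rfl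
  haveI : IsScalarTower A B' E := IsScalarTower.of_algebraMap_eq fun a => (algebraMap E L).injective (by
    rw [← IsScalarTower.algebraMap_apply, ← IsScalarTower.algebraMap_apply, IsScalarTower.algebraMap_apply A B L,
      IsScalarTower.algebraMap_apply A B' B, ← IsScalarTower.algebraMap_apply B' B L])
  have hBL : Function.Injective (algebraMap B L) := IsIntegralClosure.algebraMap_injective B A L
  have hB'E : Function.Injective (algebraMap B' E) := IsIntegralClosure.algebraMap_injective B' A E
  have hB'L : Function.Injective (algebraMap B' L) := by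
    rw [IsScalarTower.algebraMap_eq B' E L]
    exact (algebraMap E L).injective.comp hB'E
  have hB'B : Function.Injective (algebraMap B' B) := by
    have h := hB'L
    rw [IsScalarTower.algebraMap_eq B' B L] at h
    exact Function.Injective.of_comp h
  have hfix : ∀ b : B, (∀ σ ∈ I, σ • b = b) ↔ b ∈ Set.range (algebraMap B' B) := by
    refine fun b => ⟨fun hb => ?_, ?_⟩
    · have hE : algebraMap B L b ∈ E := (IntermediateField.mem_fixedField_iff _ _).mpr fun σ hσ => by
        rw [← hact, hb σ hσ]
      have hint : IsIntegral A (⟨algebraMap B L b, hE⟩ : E) :=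
        (isIntegral_algHom_iff (IsScalarTower.toAlgHom A E L) (algebraMap E L).injective).mp
          ((IsIntegralClosure.isIntegral_iff (A := B)).mpr ⟨b, rfl⟩)
      obtain ⟨b', hb'⟩ := (IsIntegralClosure.isIntegral_iff (A := B')).mp hint
      refine ⟨b', hBL ?_⟩
      rw [← IsScalarTower.algebraMap_apply, IsScalarTower.algebraMap_apply B' E L, hb']
      rfl
    · rintro ⟨b', rfl⟩ σ hσ
      apply hBL
      rw [hact, ← IsScalarTower.algebraMap_apply, IsScalarTower.algebraMap_apply B' E L]
      exact (IntermediateField.mem_fixedField_iff _ _).mp (algebraMap B' E b').2 σ hσ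
  refine ⟨hfix, ?_⟩
  let eB : B' ≃+* FixedPoints.subring B I := RingEquiv.ofBijective
    ((algebraMap B' B).codRestrict (FixedPoints.subring B I) fun b' σ => (hfix _).mpr ⟨b', rfl⟩ σ.1 σ.2)
    ⟨fun a b h => hB'B (congrArg Subtype.val h), fun z => by
      obtain ⟨b', hb'⟩ := (hfix z.1).mp fun σ hσ => z.2 ⟨σ, hσ⟩
      exact ⟨b', Subtype.ext hb'⟩⟩
  haveI : IsIntegrallyClosed A := inferInstance
  have hAB : Function.Injective (algebraMap A B) := by
    have h : Function.Injective (algebraMap A L) := by
      rw [IsScalarTower.algebraMap_eq A K L]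
      exact (algebraMap K L).injective.comp (IsFractionRing.injective A K)
    rw [IsScalarTower.algebraMap_eq A B L] at h
    exact Function.Injective.of_comp h
  let eA : A ≃+* FixedPoints.subring B G := RingEquiv.ofBijective
    ((algebraMap A B).codRestrict (FixedPoints.subring B G) fun a σ => hBL (by
      rw [hact, ← IsScalarTower.algebraMap_apply, IsScalarTower.algebraMap_apply A K L, σ.commutes]))
    ⟨fun a b h => hAB (congrArg Subtype.val h), fun z => by
      obtain ⟨k, hk⟩ := (IsGalois.mem_range_algebraMap_iff_fixed (F := K) (algebraMap B L z.1)).mpr fun σ => by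
        rw [← hact, z.2 σ]
      have hint : IsIntegral A k := (isIntegral_algHom_iff (IsScalarTower.toAlgHom A K L) (algebraMap K L).injective).mp
        (by rw [IsScalarTower.coe_toAlgHom', hk]; exact (IsIntegralClosure.isIntegral_iff (A := B)).mpr ⟨_, rfl⟩)
      obtain ⟨a, ha⟩ := IsIntegrallyClosed.isIntegral_iff.mp hint
      refine ⟨a, Subtype.ext (hBL ?_)⟩
      show algebraMap B L (algebraMap A B a) = _
      rw [← hk, ← ha, ← IsScalarTower.algebraMap_apply, ← IsScalarTower.algebraMap_apply]⟩
  obtain ⟨g, hg, het⟩ := Groth.Purity.exists_etale_away (G := G) (R := B) m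
  letI := Groth.Purity.inclAlg G B I
  letI : Algebra B' (Localization.Away g) :=
    ((algebraMap (FixedPoints.subring B I) (Localization.Away g)).comp eB.toRingHom).toAlgebra
  haveI : IsLocalization.Away (eB.symm g) (Localization.Away g) := by
    have h := IsLocalization.isLocalization_of_base_ringEquiv (Submonoid.powers g) (Localization.Away g) eB.symm
    rw [show (Submonoid.powers g).map (eB.symm : FixedPoints.subring B I ≃+* B') = Submonoid.powers (eB.symm g) from
      Submonoid.map_powers _ g] at h
    exact h
  letI : Algebra A (Localization.Away g) :=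
    ((algebraMap (FixedPoints.subring B G) (Localization.Away g)).comp eA.toRingHom).toAlgebra
  haveI : IsScalarTower A B' (Localization.Away g) := IsScalarTower.of_algebraMap_eq fun a => by
    show algebraMap (FixedPoints.subring B G) (Localization.Away g) (eA a) = algebraMap _ _ (eB (algebraMap A B' a))
    rw [IsScalarTower.algebraMap_apply (FixedPoints.subring B G) (FixedPoints.subring B I) (Localization.Away g)]
    refine congrArg _ (Subtype.ext ?_)
    show algebraMap A B a = algebraMap B' B (algebraMap A B' a)
    rw [← IsScalarTower.algebraMap_apply]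
  haveI : Algebra.Etale A (Localization.Away g) := by
    rw [← RingHom.etale_algebraMap]
    exact RingHom.Etale.respectsIso.2 _ eA (RingHom.etale_algebraMap.mpr het)
  haveI : Algebra.Etale A (Localization.Away (eB.symm g)) :=
    Algebra.Etale.of_equiv ((IsLocalization.algEquiv (Submonoid.powers (eB.symm g)) (Localization.Away g)
      (Localization.Away (eB.symm g))).restrictScalars A)
  haveI : IsDomain B' := hB'E.isDomain (algebraMap B' E)
  haveI : FiniteDimensional K E := inferInstance
  haveI : Module.Finite A B' := IsIntegralClosure.finite A K E B'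
  haveI : Algebra.IsIntegral B' B := by
    haveI : Algebra.IsIntegral A B := IsIntegralClosure.isIntegral_algebra A L
    exact Algebra.IsIntegral.tower_top A
  haveI : (m.comap (algebraMap B' B)).IsMaximal := Ideal.isMaximal_comap_of_isIntegral_of_isMaximal m
  have hAB' : Function.Injective (algebraMap A B') := by
    rw [IsScalarTower.algebraMap_eq A B' B] at hAB
    exact Function.Injective.of_comp hAB
  refine etale_atPrime A B' hAB' _ (eB.symm g) fun h => hg ?_
  show (g : B) ∈ m
  have h2 : algebraMap B' B (eB.symm g) = (g : B) := congrArg Subtype.val (eB.apply_symm_apply g)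
  exact h2 ▸ h

end Groth.Agent.S7139
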