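import Groth.Statements.S7140
import Mathlib
-- import your own Groth.Agent.* helpers here

set_option autoImplicit false
universe u
open EtAlg

namespace Groth.Agent.S7140

open Polynomial in
/-- Let p be a prime and A a ring with an element ζ satisfying 1 + ζ + ... + ζ^(p-1) = 0 (so that A is
an algebra over the ring of integers of the p-th cyclotomic field); set w = 1 - ζ. Then the
polynomial ((1 + wz)^p - 1)/w^p makes sense in A[z]: there is P in A[z] with w^p·P = (1 + wz)^p - 1,
of the form z^p - z + Σ_{0<i<p} a_i z^i with all a_i in the ideal (w), and P(z₁ + z₂ + w z₁ z₂) =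
P(z₁) + P(z₂) + w^p P(z₁)P(z₂) for all z₁, z₂ in any A-algebra. (The published statement asks only
for a primitive p-th root of unity; this row asks that ζ be a root of the p-th cyclotomic
polynomial, the case its proof treats. With ζ only of multiplicative order p the published statement
fails, for example for ζ = (1, e^{2πi/p}) in ℂ × ℂ.) -/
theorem result (p : ℕ) (hp : p.Prime) (A : Type u) [CommRing A] (ζ : A)
    (hζ : aeval ζ (cyclotomic p ℤ) = 0) :
    ∃ P : A[X], C ((1 - ζ) ^ p) * P = (1 + C (1 - ζ) * X) ^ p - 1 ∧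
      (∃ a : ℕ → A, (∀ i, a i ∈ Ideal.span {1 - ζ}) ∧
        P = X ^ p - X + (Finset.Ioo 0 p).sum (fun i => C (a i) * X ^ i)) ∧
      ∀ (S : Type u) [CommRing S] [Algebra A S] (z₁ z₂ : S),
        aeval (z₁ + z₂ + algebraMap A S (1 - ζ) * z₁ * z₂) P =
          aeval z₁ P + aeval z₂ P + algebraMap A S ((1 - ζ) ^ p) * aeval z₁ P * aeval z₂ P := by
  open Polynomial in
    classical
    haveI hpf : Fact p.Prime := ⟨hp⟩
    obtain ⟨R0, _, _, r, hr, φ, hφr⟩ : ∃ (R0 : Type) (_ : CommRing R0) (_ : IsDomain R0) (r : R0)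
        (_ : IsPrimitiveRoot r p) (φ : R0 →+* A), φ r = ζ := by
      haveI : IsDomain (AdjoinRoot (cyclotomic p ℤ)) :=
        AdjoinRoot.isDomain_of_prime (cyclotomic.irreducible hp.pos).prime
      have hi : Function.Injective (AdjoinRoot.of (cyclotomic p ℤ)) :=
        AdjoinRoot.of.injective_of_degree_ne_zero (degree_cyclotomic_pos p ℤ hp.pos).ne'
      haveI : NeZero ((p : ℕ) : AdjoinRoot (cyclotomic p ℤ)) := ⟨fun h => by
        rw [← map_natCast (AdjoinRoot.of (cyclotomic p ℤ))] at h
        exact hp.ne_zero (by exact_mod_cast hi (h.trans (map_zero _).symm))⟩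
      refine ⟨AdjoinRoot (cyclotomic p ℤ), inferInstance, inferInstance,
        AdjoinRoot.root (cyclotomic p ℤ), ?_,
        AdjoinRoot.lift (Int.castRingHom A) ζ hζ, AdjoinRoot.lift_root hζ⟩
      apply isRoot_cyclotomic_iff.mp
      have h := AdjoinRoot.eval₂_root (cyclotomic p ℤ)
      rw [RingHom.ext_int (AdjoinRoot.of (cyclotomic p ℤ)) (Int.castRingHom _), ← eval_map,
        map_cyclotomic_int] at h
      exact h
    set w : R0 := 1 - r with hw
    have hw0 : w ≠ 0 := sub_ne_zero.mpr (fun h => hp.one_lt.ne' (hr.unique (h ▸ IsPrimitiveRoot.one)))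
    have hφw : φ w = 1 - ζ := by rw [hw, map_sub, map_one, hφr]
    obtain ⟨q, rfl⟩ : ∃ q, p = q + 1 := ⟨p - 1, (Nat.succ_pred_eq_of_pos hp.pos).symm⟩
    -- p = w ^ q * v with v = -1 mod w
    set v : R0 := ∏ k ∈ Finset.range q, ∑ j ∈ Finset.range (k + 1), r ^ j with hv
    have hpv : ((q + 1 : ℕ) : R0) = w ^ q * v := by
      rw [hv]
      have := IsPrimitiveRoot.prod_one_sub_pow_eq_order hr
      push_cast
      rw [← this]
      rw [show w ^ q = ∏ _k ∈ Finset.range q, w by rw [Finset.prod_const, Finset.card_range],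
        ← Finset.prod_mul_distrib]
      exact Finset.prod_congr rfl fun k _ => (mul_neg_geom_sum r (k + 1)).symm
    have hmk : Ideal.Quotient.mk (Ideal.span {w}) r = 1 := by
      rw [← map_one (Ideal.Quotient.mk (Ideal.span {w})), Ideal.Quotient.eq,
        Ideal.mem_span_singleton]
      exact ⟨-1, by rw [hw]; ring⟩
    have hq0 : 0 < q := by have := hp.one_lt; omega
    have hpw : ((q + 1 : ℕ) : R0) ∈ Ideal.span {w} := by
      rw [hpv, Ideal.mem_span_singleton]
      exact dvd_mul_of_dvd_left (dvd_pow_self w hq0.ne') v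
    have hv1 : v + 1 ∈ Ideal.span {w} := by
      rw [← Ideal.Quotient.eq_zero_iff_mem, hv, map_add, map_one, map_prod]
      simp only [map_sum, map_pow, hmk, one_pow, Finset.sum_const, Finset.card_range, nsmul_eq_mul,
        mul_one]
      rw [← Nat.cast_prod, Finset.prod_range_add_one_eq_factorial]
      have h1 : (q + 1) ∣ Nat.factorial q + 1 := by
        have := ZMod.wilsons_lemma (q + 1)
        rw [← ZMod.natCast_eq_zero_iff]
        simp only [Nat.add_sub_cancel] at this
        push_cast
        rw [this]; ring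
      obtain ⟨k, hk⟩ := h1
      rw [← Nat.cast_add_one, hk, Nat.cast_mul]
      rw [← map_natCast (Ideal.Quotient.mk (Ideal.span {w})) (q + 1),
        Ideal.Quotient.eq_zero_iff_mem.mpr hpw, zero_mul]
    let b : ℕ → R0 := fun i =>
      if i = 1 then v + 1 else ((Nat.choose (q + 1) i / (q + 1) : ℕ) : R0) * v * w ^ (i - 1)
    have hb : ∀ i, 2 ≤ i → b i ∈ Ideal.span {w} := by
      intro i hi
      simp only [b, if_neg (show i ≠ 1 by omega), Ideal.mem_span_singleton]
      exact dvd_mul_of_dvd_right (dvd_pow_self w (by omega)) _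
    let P0 : R0[X] := X ^ (q + 1) - X + (Finset.Ioo 0 (q + 1)).sum (fun i => C (b i) * X ^ i)
    have hP0 : C (w ^ (q + 1)) * P0 = (1 + C w * X) ^ (q + 1) - 1 := by
      have hcoef : ∀ i ∈ Finset.Ioo 0 (q + 1), C (w ^ (q + 1)) * (C (b i) * X ^ i) =
          (C w * X) ^ i * ((Nat.choose (q + 1) i : ℕ) : R0[X]) +
            (if i = 1 then C (w ^ (q + 1)) * X else 0) := by
        intro i hi
        rw [Finset.mem_Ioo] at hi
        by_cases h1 : i = 1
        · subst h1
          simp only [b, if_pos rfl, Nat.choose_one_right, pow_one]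
          rw [show ((q + 1 : ℕ) : R0[X]) = C ((q + 1 : ℕ) : R0) from (map_natCast C (q + 1)).symm, hpv]
          simp only [map_mul, map_pow, map_add, map_one, if_true]
          ring
        · simp only [b, if_neg h1, add_zero]
          obtain ⟨c, hc⟩ := hp.dvd_choose_self hi.1.ne' hi.2
          rw [hc, Nat.mul_div_cancel_left _ (Nat.succ_pos q),
            show (((q + 1) * c : ℕ) : R0[X]) = C ((((q + 1) * c : ℕ)) : R0) from (map_natCast C _).symm,
            Nat.cast_mul, hpv]
          obtain ⟨j, rfl⟩ : ∃ j, i = j + 1 := ⟨i - 1, by omega⟩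
          simp only [map_mul, map_pow, Nat.add_sub_cancel, mul_pow]
          ring
      have hsplit : ∑ i ∈ Finset.range (q + 1 + 1), (C w * X) ^ i * ((Nat.choose (q + 1) i : ℕ) : R0[X])
          = 1 + ∑ i ∈ Finset.Ioo 0 (q + 1), (C w * X) ^ i * ((Nat.choose (q + 1) i : ℕ) : R0[X])
            + (C w * X) ^ (q + 1) := by
        have hR : Finset.range (q + 1) = insert 0 (Finset.Ioo 0 (q + 1)) := by
          ext x; simp only [Finset.mem_range, Finset.mem_insert, Finset.mem_Ioo]; omega
        rw [Finset.sum_range_succ, hR, Finset.sum_insert (by simp)]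
        simp
      simp only [P0, mul_add, Finset.mul_sum]
      rw [Finset.sum_congr rfl hcoef, Finset.sum_add_distrib, Finset.sum_ite_eq', if_pos
        (Finset.mem_Ioo.mpr ⟨one_pos, by omega⟩), add_comm (1 : R0[X]), add_pow]
      simp only [one_pow, mul_one]
      rw [hsplit, map_pow, mul_pow]
      ring
    refine ⟨P0.map φ, ?_, ⟨fun i => φ (if 0 < i ∧ i < q + 1 then b i else 0), fun i => ?_, ?_⟩, ?_⟩
    · have := congrArg (Polynomial.map φ) hP0
      simpa [Polynomial.map_mul, hφw] using this
    · have hmap : ∀ x ∈ Ideal.span {w}, φ x ∈ Ideal.span {1 - ζ} := by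
        intro x hx
        rw [Ideal.mem_span_singleton] at hx ⊢
        simpa [hφw] using map_dvd φ hx
      show φ (if 0 < i ∧ i < q + 1 then b i else 0) ∈ _
      split_ifs with h
      · apply hmap
        by_cases h1 : i = 1
        · simpa [b, h1] using hv1
        · exact hb i (by omega)
      · simp
    · simp only [P0, Polynomial.map_add, Polynomial.map_sub, Polynomial.map_pow, Polynomial.map_X,
        Polynomial.map_sum, Polynomial.map_mul, Polynomial.map_C]
      congr 1
      refine Finset.sum_congr rfl fun i hi => ?_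
      rw [if_pos (Finset.mem_Ioo.mp hi)]
    · intro S _ _ z₁ z₂
      let y1 : MvPolynomial (Fin 2) R0 := MvPolynomial.X 0
      let y2 : MvPolynomial (Fin 2) R0 := MvPolynomial.X 1
      have hE : ∀ z : MvPolynomial (Fin 2) R0, MvPolynomial.C w ^ (q + 1) * aeval z P0 =
          (1 + MvPolynomial.C w * z) ^ (q + 1) - 1 := fun z => by
        simpa using congrArg (aeval z) hP0
      have hU : aeval (y1 + y2 + MvPolynomial.C w * y1 * y2) P0 = aeval y1 P0 + aeval y2 P0 +
          MvPolynomial.C w ^ (q + 1) * aeval y1 P0 * aeval y2 P0 := by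
        apply mul_left_cancel₀ (pow_ne_zero (q + 1) (by simpa using hw0) :
          (MvPolynomial.C w : MvPolynomial (Fin 2) R0) ^ (q + 1) ≠ 0)
        rw [mul_add, mul_add,
          show MvPolynomial.C w ^ (q + 1) * (MvPolynomial.C w ^ (q + 1) * aeval y1 P0 * aeval y2 P0) =
            (MvPolynomial.C w ^ (q + 1) * aeval y1 P0) * (MvPolynomial.C w ^ (q + 1) * aeval y2 P0) by ring,
          hE, hE, hE,
          show (1 : MvPolynomial (Fin 2) R0) + MvPolynomial.C w * (y1 + y2 + MvPolynomial.C w * y1 * y2) =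
            (1 + MvPolynomial.C w * y1) * (1 + MvPolynomial.C w * y2) by ring, mul_pow]
        ring
      let ψ : MvPolynomial (Fin 2) R0 →+* S :=
        MvPolynomial.eval₂Hom ((algebraMap A S).comp φ) ![z₁, z₂]
      have hψ : ∀ z, ψ (aeval z P0) = aeval (ψ z) (P0.map φ) := by
        intro z
        rw [aeval_def, aeval_def, hom_eval₂, eval₂_map]
        congr 1
        ext x <;> simp [ψ]
      have := congrArg ψ hU
      simp only [map_add, map_mul, map_pow, hψ] at this
      simpa [ψ, y1, y2, hφw] using this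

end Groth.Agent.S7140
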