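import Groth.Statements.S7142
import Groth.Agent.KTheory.PerfK0
import Mathlib.Algebra.Category.ModuleCat.Projective

set_option autoImplicit false
universe u
open CategoryTheory CategoryTheory.Limits
attribute [local instance] HasDerivedCategory.standard
open KZero

namespace Groth.Agent.S7142

/-- Let R be a ring. There is an isomorphism K₀(R) ≅ K₀(D_perf(R)) between the Grothendieck group of
finite projective R-modules and that of the triangulated category of perfect objects of D(R),
sending the class of a finite projective module M to the class of M placed in degree 0; under its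
inverse the class of a bounded complex M^• of finite projective modules (vanishing outside [a, b])
goes to Σ_i (-1)^i [M^i]. -/
theorem result (R : Type u) [CommRing R] :
    ∃ φ : KZero.K0sub (fun M : ModuleCat.{u} R => Module.Finite R M ∧ Module.Projective R M) ≃+
        KZero.K0tr (fun K : Dual.D R => DRing.IsPerfect R K),
      (∀ (M : Type u) [AddCommGroup M] [Module R M], Module.Finite R M → Module.Projective R M →
        φ (KZero.clSub (fun M : ModuleCat.{u} R => Module.Finite R M ∧ Module.Projective R M) (ModuleCat.of R M)) =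
          KZero.clTr (fun K : Dual.D R => DRing.IsPerfect R K) (Dual.inD R M)) ∧
      ∀ (E : DRing.Cx R) (a b : ℤ), DRing.VanishesOutside E a b → DRing.TermwiseFiniteProjective E →
        φ.symm (KZero.clTr (fun K : Dual.D R => DRing.IsPerfect R K) (DRing.toD E)) =
          (Finset.Icc a b).sum (fun i => (i.negOnePow : ℤ) •
            KZero.clSub (fun M : ModuleCat.{u} R => Module.Finite R M ∧ Module.Projective R M) (E.X i)) := by
  let P : CategoryTheory.ObjectProperty (ModuleCat.{u} R) := Groth.DAlg.finProj R
  have hP := Groth.DAlg.isAdditiveSub_finProj R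
  haveI : P.IsClosedUnderIsomorphisms := hP.closedIso
  obtain ⟨φ, h1, h2⟩ := Groth.KTheory.PerfK0.exists_equiv (P := P)
    (fun X hX => (IsProjective.iff_projective (R := R) X).1 hX.2)
    (fun f hf hX hY => Groth.DAlg.isStableKer_finProj R _ _ f hf hX hY)
    hP.zero (fun X Y hX hY => P.prop_of_iso (biprod.isoProd X Y).symm (hP.prod X Y hX hY))
    (fun K : Dual.D R => DRing.IsPerfect R K)
    (fun K => ⟨fun ⟨E, a, b, hE, hp, e⟩ => ⟨E, ⟨hp, a, b, hE⟩, e⟩,
      fun ⟨E, ⟨hp, a, b, hE⟩, e⟩ => ⟨E, a, b, hE, hp, e⟩⟩)
    (fun T hT h₁ h₃ => Groth.DAlg.IsPerfect.ext hT h₁ h₃)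
    (fun K n h => Groth.DAlg.IsPerfect.shift h n)
  exact ⟨φ, fun M _ _ hM hM' => h1 _ ⟨hM, hM'⟩, fun E a b hE hp => h2 E a b hp hE⟩

end Groth.Agent.S7142
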