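import Groth.Statements.S7143
import Mathlib
-- import your own Groth.Agent.* helpers here

set_option autoImplicit false
universe u
open CategoryTheory
open EtAlg

namespace Groth.Agent.S7143

section
variable {ι : Type u} (W : ι → Type u) [∀ i, CommRing (W i)] [∀ i, IsDomain (W i)] [∀ i, ValuationRing (W i)]

instance isBezout_pi : IsBezout (∀ i, W i) := by
  classical
  rw [IsBezout.iff_span_pair_isPrincipal]
  intro a b
  let e : ∀ i, W i := fun i => if a i ∣ b i then 1 else 0
  let d : ∀ i, W i := e * a + (1 - e) * b
  have hd : ∀ i, d i ∣ a i ∧ d i ∣ b i := fun i => by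
    simp only [d, e, Pi.add_apply, Pi.mul_apply, Pi.sub_apply, Pi.one_apply]
    split_ifs with h
    · simpa using h
    · simpa using (ValuationRing.dvd_total (a i) (b i)).resolve_left h
  choose ca hca using fun i => (hd i).1
  choose cb hcb using fun i => (hd i).2
  refine ⟨d, le_antisymm (Ideal.span_le.2 ?_) (Submodule.span_le.2 ?_)⟩
  · rintro x (rfl | rfl)
    · exact Submodule.mem_span_singleton.2 ⟨ca, funext fun i => by rw [smul_eq_mul, Pi.mul_apply, hca i, mul_comm]⟩
    · exact Submodule.mem_span_singleton.2 ⟨cb, funext fun i => by rw [smul_eq_mul, Pi.mul_apply, hcb i, mul_comm]⟩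
  · rintro x rfl
    exact Ideal.mem_span_pair.2 ⟨e, 1 - e, rfl⟩

theorem projective_span_singleton (a : ∀ i, W i) : Module.Projective (∀ i, W i) (Ideal.span {a} : Ideal (∀ i, W i)) := by
  classical
  let e : ∀ i, W i := fun i => if a i = 0 then 0 else 1
  have hea : e * a = a := funext fun i => by
    simp only [e, Pi.mul_apply]; split_ifs with h <;> simp [h]
  have huniq : ∀ r r' : ∀ i, W i, r * a = r' * a → e * r = e * r' := fun r r' h => funext fun i => by
    simp only [e, Pi.mul_apply]
    split_ifs with h0
    · simp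
    · simp only [one_mul]; exact mul_right_cancel₀ h0 (congrFun h i)
  choose r hr using fun x : (Ideal.span {a} : Ideal (∀ i, W i)) => Ideal.mem_span_singleton'.1 x.2
  let s : (Ideal.span {a} : Ideal (∀ i, W i)) →ₗ[∀ i, W i] (∀ i, W i) :=
    { toFun := fun x => e * r x
      map_add' := fun x y => by
        rw [← mul_add]; exact huniq _ _ (by rw [hr, add_mul, hr, hr]; rfl)
      map_smul' := fun c x => by
        rw [RingHom.id_apply, smul_eq_mul, mul_left_comm]
        exact huniq _ _ (by rw [hr, mul_assoc, hr]; rfl) }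
  refine Module.Projective.of_split s
    ((LinearMap.toSpanSingleton _ _ a).codRestrict _ fun c => Ideal.mul_mem_left _ c (Ideal.mem_span_singleton_self a)) ?_
  refine LinearMap.ext fun x => Subtype.ext ?_
  show e * r x * a = x
  rw [mul_right_comm, hea, mul_comm, hr]

theorem flat_ideal (I : Ideal (∀ i, W i)) : Module.Flat (∀ i, W i) I := by
  classical
  refine Module.Flat.of_forall_isTrivialRelation fun {l f x} hfx => ?_
  let I₀ : Ideal (∀ i, W i) := Ideal.span (Set.range fun k => (x k : ∀ i, W i))
  have hle : I₀ ≤ I := Ideal.span_le.2 (by rintro _ ⟨k, rfl⟩; exact (x k).2)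
  haveI : Module.Flat (∀ i, W i) I₀ := by
    obtain ⟨a, ha⟩ : I₀.IsPrincipal := IsBezout.isPrincipal_of_FG _ ⟨Finset.univ.image fun k => (x k : ∀ i, W i), by simp [I₀]⟩
    haveI := projective_span_singleton W a
    exact Module.Flat.of_linearEquiv (LinearEquiv.ofEq I₀ (Ideal.span {a}) ha)
  let x₀ : Fin l → I₀ := fun k => ⟨x k, Ideal.subset_span ⟨k, rfl⟩⟩
  have h0 : ∑ k, f k • x₀ k = 0 := Subtype.ext (by
    have := congrArg Subtype.val hfx
    simp only [AddSubmonoidClass.coe_finsetSum, SetLike.val_smul] at this ⊢
    exact this)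
  obtain ⟨n, A', y, h1, h2⟩ := Module.Flat.isTrivialRelation_of_sum_smul_eq_zero h0
  refine ⟨n, A', fun j => Submodule.inclusion hle (y j), fun k => ?_, h2⟩
  have := congrArg (Submodule.inclusion hle) (h1 k)
  rw [map_sum] at this
  simp only [map_smul] at this
  exact (Subtype.ext rfl : x k = Submodule.inclusion hle (x₀ k)).trans this

end

/-- Every normal domain A with fraction field K is the fibre product V ×_L K for suitable rings V and L
with maps A → V, V → L, K → L (together with the given A → K), where every ideal of V is flat (weak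
dimension at most one) and V → L is flat, injective and an epimorphism of rings. -/
theorem result (A K : Type u) [CommRing A] [IsDomain A] [Field K] [Algebra A K]
    [IsFractionRing A K] [IsIntegrallyClosed A] :
    ∃ (V L : Type u) (_ : CommRing V) (_ : CommRing L) (f : A →+* V) (g : V →+* L) (h : K →+* L),
      g.comp f = h.comp (algebraMap A K) ∧
      (∀ I : Ideal V, Module.Flat V I) ∧ g.Flat ∧ Function.Injective g ∧ Epi (CommRingCat.ofHom g) ∧
      ∀ (v : V) (k : K), g v = h k → ∃! a : A, f a = v ∧ algebraMap A K a = k := by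
  classical
  let ι := {W : ValuationSubring K // Set.range (algebraMap A K) ⊆ (W : Set K)}
  let V := ∀ W : ι, W.1
  let L := ι → K
  let f : A →+* V := Pi.ringHom fun W => (algebraMap A K).codRestrict W.1.toSubring fun a => W.2 ⟨a, rfl⟩
  let g : V →+* L := Pi.ringHom fun W => W.1.subtype.comp (Pi.evalRingHom _ W)
  let h : K →+* L := Pi.ringHom fun _ => RingHom.id K
  haveI hne : Nonempty ι := ⟨⟨⊤, fun x _ => trivial⟩⟩
  letI : Algebra V L := g.toAlgebra
  haveI : IsLocalization (nonZeroDivisors V) L := by
    refine (isLocalization_iff _ _).2 ⟨?_, ?_, ?_⟩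
    · rintro ⟨v, hv⟩
      rw [Pi.isUnit_iff]
      intro W
      rw [isUnit_iff_ne_zero]
      intro h0
      have h1 : (v : V) * Pi.single W 1 = 0 := funext fun W' => by
        by_cases hW : W' = W
        · subst hW
          show (v : V) W' * Pi.single (M := fun W : ι => W.1) W' 1 W' = 0
          rw [Pi.single_eq_same, mul_one]
          exact Subtype.ext h0
        · show (v : V) W' * Pi.single (M := fun W : ι => W.1) W 1 W' = 0
          rw [Pi.single_eq_of_ne hW, mul_zero]
      have := congrFun ((mem_nonZeroDivisors_iff.1 hv).1 _ h1) W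
      rw [Pi.single_eq_same] at this
      exact one_ne_zero this
    · intro z
      have : ∀ W : ι, ∃ a b : W.1, b ≠ 0 ∧ z W * (b : K) = a := by
        intro W
        rcases W.1.mem_or_inv_mem (z W) with h' | h'
        · exact ⟨⟨_, h'⟩, 1, one_ne_zero, by simp⟩
        · by_cases hz : z W = 0
          · exact ⟨0, 1, one_ne_zero, by simp [hz]⟩
          · exact ⟨1, ⟨_, h'⟩, fun e => inv_ne_zero hz (congrArg Subtype.val e), by simp [hz]⟩
      choose a b hb hab using this
      refine ⟨⟨a, ⟨b, mem_nonZeroDivisors_iff.2 ⟨fun x hx => funext fun W => ?_, fun x hx => funext fun W => ?_⟩⟩⟩, funext fun W => hab W⟩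
      · exact (mul_eq_zero.1 (congrFun hx W)).resolve_left (hb W)
      · exact (mul_eq_zero.1 (congrFun hx W)).resolve_right (hb W)
    · intro x y hxy
      exact ⟨1, by rw [show x = y from funext fun W => Subtype.ext (congrFun hxy W)]⟩
  refine ⟨V, L, inferInstance, inferInstance, f, g, h, rfl, flat_ideal (fun W : ι => W.1), ?_, ?_,
    IsLocalization.epi (nonZeroDivisors V) L, fun v k hvk => ?_⟩
  · exact (IsLocalization.flat L (nonZeroDivisors V) : Module.Flat V L)
  · exact fun x y hxy => funext fun W => Subtype.ext (congrFun hxy W)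
  · have hk : ∀ W : ValuationSubring K, Set.range (algebraMap A K) ⊆ (W : Set K) → k ∈ W := fun W hW => by
      have : (v ⟨W, hW⟩ : K) = k := congrFun hvk ⟨W, hW⟩
      exact this ▸ (v ⟨W, hW⟩).2
    obtain ⟨a, ha⟩ : k ∈ Set.range (algebraMap A K) := by
      by_contra hne'
      haveI : IsIntegrallyClosedIn (algebraMap A K).range K := by
        refine isIntegrallyClosedIn_iff.2 ⟨Subtype.val_injective, fun {x} hx => ?_⟩
        letI : Algebra A (algebraMap A K).range := (algebraMap A K).rangeRestrict.toAlgebra
        haveI : IsScalarTower A (algebraMap A K).range K := IsScalarTower.of_algebraMap_eq fun _ => rfl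
        haveI : Algebra.IsIntegral A (algebraMap A K).range := ⟨fun y => by
          obtain ⟨_, a, rfl⟩ := y
          exact (isIntegral_algebraMap : IsIntegral A (algebraMap A (algebraMap A K).range a))⟩
        obtain ⟨a, ha⟩ := IsIntegrallyClosed.algebraMap_eq_of_integral (R := A) (K := K) (isIntegral_trans (A := (algebraMap A K).range) x hx)
        exact ⟨⟨x, a, ha⟩, rfl⟩
      obtain ⟨W, hW, hkW⟩ := Subring.exists_le_valuationSubring_of_isIntegrallyClosedIn (R := (algebraMap A K).range) hne'
      exact hkW (hk W hW)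
    refine ⟨a, ⟨funext fun W => Subtype.ext ?_, ha⟩, fun a' ha' => IsFractionRing.injective A K (ha'.2.trans ha.symm)⟩
    show algebraMap A K a = (v W : K)
    rw [ha]
    exact (congrFun hvk W).symm

end Groth.Agent.S7143
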