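import Mathlib
import Groth.Statements.S7144

set_option autoImplicit false
universe u
open CAlg

namespace Groth.Agent.S7144

/-- (1) ⇔ (2): let R be a nonzero ring. Then for all a, b in R one of a, b divides the other if and only
if R is local and every finitely generated ideal of R is principal. (The further equivalence with
the total ordering of the set of ideals by inclusion is standard and not restated here.) -/
theorem result (R : Type u) [CommRing R] [Nontrivial R] :
    PreValuationRing R ↔ IsLocalRing R ∧ IsBezout R := by
  constructor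
  · intro h
    refine ⟨?_, ?_⟩
    · refine IsLocalRing.of_nonunits_add fun a b ha hb hu => ?_
      rcases (PreValuationRing.iff_dvd_total.mp h).total a b with ⟨c, rfl⟩ | ⟨c, rfl⟩
      · exact ha (isUnit_of_mul_isUnit_left (y := 1 + c) (by rwa [mul_add, mul_one]))
      · exact hb (isUnit_of_mul_isUnit_left (y := c + 1) (by rwa [mul_add, mul_one]))
    · rw [IsBezout.iff_span_pair_isPrincipal]
      intro a b
      rcases (PreValuationRing.iff_dvd_total.mp h).total a b with ⟨c, rfl⟩ | ⟨c, rfl⟩
      · exact ⟨⟨a, le_antisymm (Ideal.span_le.mpr fun z hz => by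
          rcases hz with rfl | rfl
          · exact Ideal.subset_span rfl
          · exact Ideal.mul_mem_right _ _ (Ideal.subset_span rfl))
          (Ideal.span_mono (by simp))⟩⟩
      · exact ⟨⟨b, le_antisymm (Ideal.span_le.mpr fun z hz => by
          rcases hz with rfl | rfl
          · exact Ideal.mul_mem_right _ _ (Ideal.subset_span rfl)
          · exact Ideal.subset_span rfl)
          (Ideal.span_mono (by simp))⟩⟩
  · rintro ⟨hl, hB⟩
    rw [PreValuationRing.iff_dvd_total]
    refine ⟨fun a b => ?_⟩
    obtain ⟨x, y, hxy⟩ := IsBezout.gcd_eq_sum a b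
    obtain ⟨a', ha⟩ := IsBezout.gcd_dvd_left a b
    obtain ⟨b', hb⟩ := IsBezout.gcd_dvd_right a b
    set d := IsBezout.gcd a b
    by_cases h1 : IsUnit a'
    · left; rw [ha, hb]; exact mul_dvd_mul_left d h1.dvd
    by_cases h2 : IsUnit b'
    · right; rw [ha, hb]; exact mul_dvd_mul_left d h2.dvd
    have h3 : IsUnit (1 - (x * a' + y * b')) := by
      rcases IsLocalRing.isUnit_or_isUnit_one_sub_self (x * a' + y * b') with h | h
      · exfalso
        have hn : x * a' + y * b' ∈ IsLocalRing.maximalIdeal R :=
          Ideal.add_mem _ (Ideal.mul_mem_left _ _ h1) (Ideal.mul_mem_left _ _ h2)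
        exact hn h
      · exact h
    have h4 : d * (1 - (x * a' + y * b')) = 0 := by linear_combination (-1 : R) * hxy + x * ha + y * hb
    left
    have h5 : d = 0 := h3.mul_left_eq_zero.mp h4
    simp [ha, hb, h5]

end Groth.Agent.S7144
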