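import Groth.Statements.S7145
import Mathlib.LinearAlgebra.FreeModule.Basic
import Mathlib.Algebra.Category.ModuleCat.Abelian
import Mathlib.LinearAlgebra.Basis.Submodule
import Mathlib.RingTheory.Finiteness.Basic
-- import your own Groth.Agent.* helpers here

set_option autoImplicit false
universe u
open CategoryTheory CategoryTheory.Limits
open CAlg

namespace Groth.Agent.S7145

/-- Let R be a ring and F a cochain complex of free R-modules that is zero in all sufficiently large
degrees. Given finitely many elements f_i of F, f_i lying in degree n_i, there is a subcomplex G of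
F (a map of complexes G → F injective in every degree) through which every f_i passes, such that G
is zero outside a finite range of degrees and each term of G is a finitely generated free R-module. -/
theorem result (R : Type u) [CommRing R]
    (F : CochainComplex (ModuleCat.{u} R) ℤ) (hfree : ∀ n : ℤ, Module.Free R (F.X n))
    (b : ℤ) (hb : ∀ n : ℤ, b < n → IsZero (F.X n))
    (N : ℕ) (deg : Fin N → ℤ) (f : ∀ i : Fin N, F.X (deg i)) :
    ∃ (G : CochainComplex (ModuleCat.{u} R) ℤ) (ι : G ⟶ F),
      (∀ n : ℤ, Function.Injective (ι.f n)) ∧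
      (∃ a c : ℤ, ∀ n : ℤ, (n < a ∨ c < n) → IsZero (G.X n)) ∧
      (∀ n : ℤ, Module.Finite R (G.X n) ∧ Module.Free R (G.X n)) ∧
      ∀ i : Fin N, f i ∈ Set.range (ι.f (deg i)) := by
  classical
  let bs := fun n => Module.Free.chooseBasis R (F.X n)
  obtain ⟨a, ha⟩ : ∃ a : ℤ, ∀ i, a ≤ deg i := by
    obtain ⟨a, ha⟩ := (Set.finite_range deg).bddBelow
    exact ⟨a, fun i => ha ⟨i, rfl⟩⟩
  let base : ∀ n : ℤ, Finset (Module.Free.ChooseBasisIndex R (F.X n)) := fun n =>
    Finset.univ.biUnion fun i : Fin N =>
      if h : deg i = n then ((bs n).repr (h ▸ f i)).support else ∅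
  let g : ℕ → ∀ n : ℤ, Finset (Module.Free.ChooseBasisIndex R (F.X n)) := fun k => Nat.rec
    (fun n => base n)
    (fun _ gk n => base n ∪ (gk (n - 1)).biUnion fun j =>
      ((bs n).repr ((F.d (n - 1) n).hom (bs (n - 1) j))).support) k
  let T : ∀ n : ℤ, Finset (Module.Free.ChooseBasisIndex R (F.X n)) := fun n =>
    if n < a then ∅ else g (n - a).toNat n
  let S : ∀ n : ℤ, Submodule R (F.X n) := fun n => Submodule.span R (bs n '' (T n : Set _))
  have hmemS : ∀ n (x : F.X n), ((bs n).repr x).support ⊆ T n → x ∈ S n := fun n x hx => by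
    show x ∈ Submodule.span R _
    rw [Module.Basis.mem_span_image]
    exact Finset.coe_subset.2 hx
  have hd : ∀ i j : ℤ, ∀ x ∈ S i, (F.d i j).hom x ∈ S j := by
    intro i j
    by_cases hij : i + 1 = j
    swap
    · intro x _
      rw [F.shape i j hij]
      simp
    obtain rfl : i = j - 1 := by omega
    intro x hx
    refine (Submodule.span_le.2 ?_ : S (j - 1) ≤ (S j).comap (F.d (j - 1) j).hom) hx
    rintro _ ⟨l, hl, rfl⟩
    refine hmemS j _ fun y hy => ?_
    have hj : ¬ j - 1 < a := fun h => by
      have h' : T (j - 1) = ∅ := if_pos h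
      rw [Finset.mem_coe, h'] at hl
      exact absurd hl (Finset.notMem_empty l)
    have hl' : l ∈ g (j - 1 - a).toNat (j - 1) := by
      have h' : T (j - 1) = g (j - 1 - a).toNat (j - 1) := if_neg hj
      rw [Finset.mem_coe, h'] at hl
      exact hl
    have hk : (j - a).toNat = (j - 1 - a).toNat + 1 := by omega
    show y ∈ T j
    simp only [T, if_neg (show ¬ j < a by omega), hk]
    exact Finset.mem_union_right _ (Finset.mem_biUnion.2 ⟨l, hl', hy⟩)
  have hf : ∀ i, f i ∈ S (deg i) := fun i => by
    refine hmemS _ _ fun y hy => ?_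
    have hb' : y ∈ base (deg i) :=
      Finset.mem_biUnion.2 ⟨i, Finset.mem_univ _, by rw [dif_pos rfl]; exact hy⟩
    show y ∈ T (deg i)
    simp only [T, if_neg (not_lt.2 (ha i))]
    rcases (deg i - a).toNat with _ | k
    · exact hb'
    · exact Finset.mem_union_left _ hb'
  let G : CochainComplex (ModuleCat.{u} R) ℤ :=
    { X := fun n => ModuleCat.of R (S n)
      d := fun i j => ModuleCat.ofHom ((F.d i j).hom.restrict (hd i j))
      shape := fun i j h => by
        ext x
        show (F.d i j).hom (x : F.X i) = 0
        rw [F.shape i j h]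
        rfl
      d_comp_d' := fun i j k _ _ => by
        ext x
        show (F.d j k).hom ((F.d i j).hom (x : F.X i)) = 0
        rw [← ModuleCat.comp_apply, F.d_comp_d]
        rfl }
  let ι : G ⟶ F :=
    { f := fun n => ModuleCat.ofHom (S n).subtype
      comm' := fun i j _ => rfl }
  refine ⟨G, ι, fun n => Subtype.val_injective, ⟨a, b, fun n hn => ?_⟩, fun n => ⟨?_, ?_⟩,
    fun i => ⟨⟨f i, hf i⟩, rfl⟩⟩
  · have : Subsingleton (S n) := by
      rcases hn with hn | hn
      · have : S n = ⊥ := by simp [S, T, hn]
        rw [this]; infer_instance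
      · have := ModuleCat.subsingleton_of_isZero (hb n hn)
        infer_instance
    exact ModuleCat.isZero_of_subsingleton _
  · exact Module.Finite.iff_fg.2 (Submodule.fg_span ((T n).finite_toSet.image _))
  · let t : Set (Module.Free.ChooseBasisIndex R (F.X n)) := ↑(T n)
    have hli : LinearIndependent R fun x : t => bs n x.1 :=
      (bs n).linearIndependent.comp (Subtype.val : t → _) Subtype.val_injective
    have hS : S n = Submodule.span R (Set.range fun x : t => bs n x.1) := by
      simp only [S, Set.image_eq_range]
      rfl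
    have := Module.Free.of_basis (Module.Basis.span hli)
    exact Module.Free.of_equiv (LinearEquiv.ofEq _ _ hS.symm)

end Groth.Agent.S7145
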