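import Groth.Statements.S7146
import Mathlib
-- import your own Groth.Agent.* helpers here

set_option autoImplicit false
universe u
open Filter
open CAlg

namespace Groth.Agent.S7146

theorem length_le (R : Type u) [CommRing R] (d : ℕ) (g : Fin d → R) (k : ℕ) :
    Module.length R (R ⧸ Ideal.span (Set.range g) ^ (k + 1)) ≤
      (Nat.multichoose (d + 1) k : ℕ∞) * Module.length R (R ⧸ Ideal.span (Set.range g)) := by
  classical
  set I := Ideal.span (Set.range g) with hI
  induction k with
  | zero =>
    rw [Nat.multichoose_zero_right, Nat.cast_one, one_mul, zero_add]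
    exact le_of_eq (Submodule.quotEquivOfEq _ _ (pow_one I)).length_eq
  | succ k ih =>
    have hle : I ^ (k + 2) ≤ I ^ (k + 1) := Ideal.pow_le_pow_right (by omega)
    let v : Sym (Fin d) (k + 1) → R := fun s => ((s : Multiset (Fin d)).map g).prod
    have hv : Submodule.span R (Set.range v) = I ^ (k + 1) := by
      refine le_antisymm (Submodule.span_le.2 ?_) ?_
      · rintro _ ⟨s, rfl⟩
        have : ∀ m : Multiset (Fin d), (m.map g).prod ∈ I ^ m.card := by
          intro m
          induction m using Multiset.induction with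
          | empty => simp
          | cons a m ihm =>
            rw [Multiset.map_cons, Multiset.prod_cons, Multiset.card_cons, pow_succ']
            exact Ideal.mul_mem_mul (Ideal.subset_span ⟨a, rfl⟩) ihm
        have h := this s
        rwa [Sym.card_coe] at h
      · rw [hI, Ideal.span, Submodule.span_pow]
        refine Submodule.span_le.2 fun x hx => ?_
        obtain ⟨f, rfl⟩ := Set.mem_pow.1 hx
        choose i hi using fun j => (f j).2
        refine Submodule.subset_span ⟨Sym.mk ((List.ofFn i : List (Fin d)) : Multiset (Fin d)) (by simp), ?_⟩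
        show (Multiset.map g ((List.ofFn i : List (Fin d)) : Multiset (Fin d))).prod = _
        rw [Multiset.map_coe, Multiset.prod_coe, List.map_ofFn]
        congr 1
        exact congrArg List.ofFn (funext hi)
    let π : (R ⧸ I ^ (k + 2)) →ₗ[R] R ⧸ I ^ (k + 1) := Submodule.factor hle
    let F : (Sym (Fin d) (k + 1) → R) →ₗ[R] R ⧸ I ^ (k + 2) :=
      (Submodule.mkQ _).comp (Fintype.linearCombination R v)
    have hker : LinearMap.range F = LinearMap.ker π := by
      rw [LinearMap.range_comp, Fintype.range_linearCombination, hv]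
      show _ = LinearMap.ker (Submodule.mapQ _ _ LinearMap.id _)
      rw [Submodule.mapQ, Submodule.ker_liftQ, LinearMap.comp_id, Submodule.ker_mkQ]
    let G : (Sym (Fin d) (k + 1) → R) →ₗ[R] (Sym (Fin d) (k + 1) → R ⧸ I) :=
      LinearMap.pi fun s => (Submodule.mkQ I).comp (LinearMap.proj s)
    have hG : Function.Surjective G := fun y => by
      choose x hx using fun s => Submodule.mkQ_surjective I (y s)
      exact ⟨x, funext hx⟩
    have hGF : LinearMap.ker G ≤ LinearMap.ker F := by
      intro x hx
      rw [LinearMap.mem_ker] at hx ⊢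
      rw [LinearMap.comp_apply, Submodule.mkQ_apply, Submodule.Quotient.mk_eq_zero, Fintype.linearCombination_apply]
      refine Ideal.sum_mem _ fun s _ => ?_
      rw [smul_eq_mul, pow_succ' I (k + 1)]
      refine Ideal.mul_mem_mul ?_ (hv ▸ Submodule.subset_span ⟨s, rfl⟩)
      exact (Submodule.Quotient.mk_eq_zero I).1 (congrFun hx s)
    have h1 : Module.length R (LinearMap.ker π) ≤
        (Nat.multichoose d (k + 1) : ℕ∞) * Module.length R (R ⧸ I) := by
      let F' := ((LinearMap.ker G).liftQ F hGF).comp (LinearMap.quotKerEquivOfSurjective G hG).symm.toLinearMap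
      have hF' : LinearMap.range F' = LinearMap.ker π := by
        rw [LinearMap.range_comp, LinearEquiv.range, Submodule.map_top, Submodule.range_liftQ, hker]
      calc Module.length R (LinearMap.ker π) = Module.length R (LinearMap.range F') := by rw [hF']
        _ ≤ Module.length R (Sym (Fin d) (k + 1) → R ⧸ I) :=
          Module.length_le_of_surjective F'.rangeRestrict F'.surjective_rangeRestrict
        _ = _ := by rw [Module.length_pi, ENat.card_eq_coe_fintype_card, Sym.card_sym_fin_eq_multichoose]
    have h2 := Module.length_eq_add_of_exact (LinearMap.ker π).subtype π (Submodule.subtype_injective _)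
      (Submodule.factor_surjective hle) (LinearMap.exact_subtype_ker_map π)
    rw [show k + 1 + 1 = k + 2 from rfl, h2, Nat.multichoose_succ_succ, Nat.cast_add, add_mul]
    exact add_le_add h1 ih

/-- Let R be a Noetherian local ring of Krull dimension d and I the ideal generated by a system of
parameters g_1, ..., g_d (d elements of the maximal ideal generating an ideal with radical the
maximal ideal); let e_I be the multiplicity of I, i.e. d! times the top coefficient of the numerical
polynomial n ↦ length(R/I^(n+1)), equivalently the limit of d!·length(R/Iⁿ)/n^d. Then e_I ≤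
length(R/I). (Stated for a natural number e equal to that limit.) -/
theorem result (R : Type u) [CommRing R] [IsNoetherianRing R] [IsLocalRing R]
    (d : ℕ) (hd : ringKrullDim R = d) (g : Fin d → R) (hg : ∀ i, g i ∈ IsLocalRing.maximalIdeal R)
    (hsop : IsLocalRing.maximalIdeal R ≤ (Ideal.span (Set.range g)).radical) (e : ℕ)
    (he : Tendsto (fun n : ℕ => (d.factorial : ℝ) * ((Module.length R (R ⧸ Ideal.span (Set.range g) ^ n)).toNat : ℝ) / (n : ℝ) ^ d)
      atTop (nhds (e : ℝ))) :
    (e : ℕ∞) ≤ Module.length R (R ⧸ Ideal.span (Set.range g)) := by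
  set I := Ideal.span (Set.range g) with hI
  have hfin : IsFiniteLength R (R ⧸ I) := by
    rw [isFiniteLength_iff_isNoetherian_isArtinian]
    refine ⟨inferInstance, ?_⟩
    have : IsArtinianRing (R ⧸ I) := by
      rw [isArtinianRing_iff_isNoetherianRing_krullDimLE_zero]
      refine ⟨inferInstance, Ring.krullDimLE_zero_iff.2 fun Q hQ => ?_⟩
      have hQ' := Ideal.comap_isPrime (Ideal.Quotient.mk I) Q
      have hle : IsLocalRing.maximalIdeal R ≤ Q.comap (Ideal.Quotient.mk I) := by
        refine hsop.trans (hQ'.radical_le_iff.2 fun x hx => ?_)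
        rw [Ideal.mem_comap, Ideal.Quotient.eq_zero_iff_mem.2 hx]
        exact Q.zero_mem
      have h5 : (Q.comap (Ideal.Quotient.mk I)).IsMaximal :=
        le_antisymm (IsLocalRing.le_maximalIdeal hQ'.ne_top) hle ▸ IsLocalRing.maximalIdeal.isMaximal _
      rw [← Ideal.map_comap_of_surjective (Ideal.Quotient.mk I) Ideal.Quotient.mk_surjective Q]
      exact (Ideal.map_eq_top_or_isMaximal_of_surjective _ Ideal.Quotient.mk_surjective h5).resolve_left
        (by rw [Ideal.map_comap_of_surjective _ Ideal.Quotient.mk_surjective]; exact hQ.ne_top)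
    exact isArtinian_of_surjective_algebraMap (Ideal.Quotient.mk_surjective : Function.Surjective (algebraMap R (R ⧸ I)))
  obtain ⟨L, hL⟩ := ENat.ne_top_iff_exists.1 (Module.length_ne_top_iff.2 hfin)
  rw [← hL]
  refine Nat.cast_le.2 ((Nat.cast_le (α := ℝ)).1 ?_)
  have hbound : ∀ n : ℕ, 1 ≤ n → (d.factorial : ℝ) * ((Module.length R (R ⧸ I ^ n)).toNat : ℝ) / (n : ℝ) ^ d
      ≤ (L : ℝ) * (1 + (d : ℝ) / n) ^ d := by
    intro n hn
    obtain ⟨k, rfl⟩ : ∃ k, n = k + 1 := ⟨n - 1, by omega⟩
    have h1 := length_le R d g k
    rw [← hI, ← hL, ← Nat.cast_mul] at h1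
    have h2 : ((Module.length R (R ⧸ I ^ (k + 1))).toNat : ℝ) ≤ (Nat.multichoose (d + 1) k : ℝ) * L := by
      rw [← Nat.cast_mul, Nat.cast_le]
      exact ENat.toNat_le_of_le_coe h1
    have h3 : (Nat.multichoose (d + 1) k : ℝ) ≤ ((k + 1 : ℕ) + d : ℝ) ^ d / d.factorial := by
      have h4 : Nat.multichoose (d + 1) k = (k + d).choose d := by
        rw [Nat.multichoose_eq, show d + 1 + k - 1 = k + d by omega, Nat.choose_symm_add]
      rw [h4]
      refine (Nat.choose_le_pow_div d (k + d)).trans ?_
      gcongr
      push_cast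
      linarith
    rw [div_le_iff₀ (by positivity), mul_assoc, ← mul_pow, add_mul, one_mul, div_mul_cancel₀ _ (by positivity)]
    calc (d.factorial : ℝ) * _ ≤ (d.factorial : ℝ) * ((((k + 1 : ℕ) + d : ℝ) ^ d / d.factorial) * L) :=
          mul_le_mul_of_nonneg_left (h2.trans (mul_le_mul_of_nonneg_right h3 (by positivity))) (by positivity)
      _ = _ := by field_simp
  have hlim : Tendsto (fun n : ℕ => (L : ℝ) * (1 + (d : ℝ) / n) ^ d) atTop (nhds ((L : ℝ) * (1 + 0) ^ d)) :=
    ((tendsto_const_div_atTop_nhds_zero_nat (d : ℝ)).const_add 1).pow d |>.const_mul _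
  rw [add_zero, one_pow, mul_one] at hlim
  exact le_of_tendsto_of_tendsto he hlim (eventually_atTop.2 ⟨1, hbound⟩)

end Groth.Agent.S7146
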