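import Groth.Statements.S7163
import Mathlib
import Groth.Agent.Calg3.Serre

set_option autoImplicit false
universe u
open CAlg

namespace Groth.Agent.S7163
open Groth.Calg3

theorem ker_quot {R : Type u} [CommRing R] {M : Type u} [AddCommGroup M] [Module R M] (x : Ideal R) :
    LinearMap.ker (((Submodule.span (R ⧸ x) ((x • ⊤ : Submodule R M).mkQ '' {m : M | ∀ φ : M →ₗ[R] R, φ m ∈ x})).mkQ.restrictScalars R) ∘ₗ
      (x • ⊤ : Submodule R M).mkQ) = formKer M x := by
  have e : (Submodule.span (R ⧸ x) ((x • ⊤ : Submodule R M).mkQ '' {m : M | ∀ φ : M →ₗ[R] R, φ m ∈ x})).restrictScalars R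
      = (formKer M x).map (x • ⊤ : Submodule R M).mkQ := by
    rw [Submodule.restrictScalars_span R (R ⧸ x) Ideal.Quotient.mk_surjective,
      ← Submodule.span_eq (formKer M x), Submodule.map_span]
    rfl
  ext m
  rw [LinearMap.mem_ker, LinearMap.comp_apply, LinearMap.restrictScalars_apply, Submodule.mkQ_apply,
    Submodule.Quotient.mk_eq_zero, ← Submodule.restrictScalars_mem R, e, ← Submodule.mem_comap,
    Submodule.comap_map_eq, Submodule.ker_mkQ, sup_eq_left.2 (smul_top_le_formKer x)]


/-- Let R be a ring whose set Ω of closed points of Spec R is a Noetherian topological space and M a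
finitely presented R-module; for x in Ω write M(x) = M/xM, B(x) for the classes of elements m with
φ(m) in x for every linear form φ, and V(x) = M(x)/B(x). Let s_1, ..., s_h be elements of M, F ⊆ Ω a
closed subset containing the set Z(s_1, ..., s_h) of points where the images of the s_i in V(x) are
linearly dependent, x_1, ..., x_n pairwise distinct points of F, v_i elements of M(x_i), and k ≥ 0
an integer with h + k ≤ dim V(x) for all x in Ω. Then there are s in M and a closed F' ⊆ Ω such that
(a) s(x_i) and v_i have the same image in V(x_i), (b) Z(s_1, ..., s_h, s) ⊆ F ∪ F', and (c) each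
irreducible component of F′ is of codimension at least k in Ω (equivalently, so is each irreducible
closed subset of Ω lying in F′). -/
theorem result (R : Type u) [CommRing R] [TopologicalSpace.NoetherianSpace (MaximalSpectrum R)]
    (M : Type u) [AddCommGroup M] [Module R M] [Module.FinitePresentation R M]
    (h : ℕ) (s : Fin h → M) (F : Set (MaximalSpectrum R)) (hF : IsClosed F)
    (n : ℕ) (xs : Fin n → MaximalSpectrum R) (hxs : Function.Injective xs) (hxF : ∀ i, xs i ∈ F)
    (v : ∀ i : Fin n, M ⧸ ((xs i).asIdeal • ⊤ : Submodule R M)) (k : ℕ) :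
    let Bq : ∀ x : MaximalSpectrum R, Submodule (R ⧸ x.asIdeal) (M ⧸ (x.asIdeal • ⊤ : Submodule R M)) :=
      fun x => Submodule.span (R ⧸ x.asIdeal)
        ((x.asIdeal • ⊤ : Submodule R M).mkQ '' {m : M | ∀ φ : M →ₗ[R] R, φ m ∈ x.asIdeal})
    let img : ∀ x : MaximalSpectrum R, M → (M ⧸ (x.asIdeal • ⊤ : Submodule R M)) ⧸ Bq x :=
      fun x m => (Bq x).mkQ ((x.asIdeal • ⊤ : Submodule R M).mkQ m)
    (∀ x : MaximalSpectrum R, h + k ≤ Module.finrank (R ⧸ x.asIdeal) ((M ⧸ (x.asIdeal • ⊤ : Submodule R M)) ⧸ Bq x)) →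
    (∀ x : MaximalSpectrum R, ¬ LinearIndependent (R ⧸ x.asIdeal) (fun i => img x (s i)) → x ∈ F) →
    ∃ (t : M) (F' : Set (MaximalSpectrum R)), IsClosed F' ∧
      (∀ i : Fin n, img (xs i) t = (Bq (xs i)).mkQ (v i)) ∧
      (∀ x : MaximalSpectrum R,
        ¬ LinearIndependent (R ⧸ x.asIdeal) (Fin.snoc (fun i => img x (s i)) (img x t)) → x ∈ F ∪ F') ∧
      ∀ Z : TopologicalSpace.IrreducibleCloseds (MaximalSpectrum R), (Z : Set (MaximalSpectrum R)) ⊆ F' →
        (k : ℕ∞) ≤ Order.coheight Z := by
  intro Bq img hdim hF'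
  classical
  have hker : ∀ x : MaximalSpectrum R,
      LinearMap.ker (((Bq x).mkQ.restrictScalars R) ∘ₗ (x.asIdeal • ⊤ : Submodule R M).mkQ) = formKer M x.asIdeal :=
    fun x => ker_quot x.asIdeal
  have hli : ∀ (x : MaximalSpectrum R) {m : ℕ} (w : Fin m → M),
      LinearIndependent (R ⧸ x.asIdeal) (fun i => img x (w i)) ↔ Indep x.asIdeal w :=
    fun x _ w => linearIndependent_iff_indep x.asIdeal _ (hker x) w
  have hd : ∀ x : MaximalSpectrum R, ∃ w : Fin (h + k) → M, Indep x.asIdeal w := by
    intro x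
    letI := Ideal.Quotient.field x.asIdeal
    obtain ⟨w, hw⟩ := exists_linearIndependent_of_le_finrank (hdim x)
    choose a ha using fun i => Submodule.mkQ_surjective (Bq x) (w i)
    choose b hb using fun i => Submodule.mkQ_surjective (x.asIdeal • ⊤ : Submodule R M) (a i)
    refine ⟨b, (hli x b).1 ?_⟩
    convert hw using 1
    funext i
    simp only [img, hb, ha]
  choose vl hvl using fun i => Submodule.mkQ_surjective ((xs i).asIdeal • ⊤ : Submodule R M) (v i)
  let vv : MaximalSpectrum R → M := fun x => if hx : ∃ i, xs i = x then vl hx.choose else 0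
  obtain ⟨t, F', hF'c, htT, htF, htk⟩ := exists_general_position k s F hF
    (fun x hx => hF' x (fun hh => hx ((hli x s).1 hh))) hd (Finset.univ.image xs)
    (fun x hx => by obtain ⟨i, -, rfl⟩ := Finset.mem_image.1 hx; exact hxF i) vv
  refine ⟨t, F', hF'c, fun i => ?_, fun x hx => htF x (fun hh => hx ?_), htk⟩
  · have hm := htT (xs i) (Finset.mem_image_of_mem _ (Finset.mem_univ i))
    have hvv : vv (xs i) = vl i := by
      have hex : ∃ j, xs j = xs i := ⟨i, rfl⟩
      simp only [vv, dif_pos hex, hxs hex.choose_spec]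
    rw [hvv, ← hker, LinearMap.mem_ker, map_sub, sub_eq_zero] at hm
    simpa [img, hvl] using hm
  · have h2 := (hli x (Fin.snoc s t)).2 hh
    convert h2 using 1
    funext i
    induction i using Fin.lastCases <;> simp

end Groth.Agent.S7163
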