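import Groth.Statements.S7147
import Mathlib
import Groth.Agent.Calg3.Serre
import Groth.Agent.S7163

set_option autoImplicit false
universe u
open CAlg

namespace Groth.Agent.S7147
open Groth.Calg3

theorem bijective_smul {R : Type u} [CommRing R] {f : R} {r : ℕ} (u : Submonoid.powers f) :
    Function.Bijective (algebraMap R (Module.End R (Fin r → Localization.Away f)) (u : R)) := by
  obtain ⟨w, hw⟩ := IsLocalization.map_units (Localization.Away f) u
  constructor
  · intro a b hab
    ext i
    have := congrFun hab i
    simp only [Module.algebraMap_end_apply, Pi.smul_apply, Algebra.smul_def, ← hw] at this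
    exact w.isUnit.mul_left_cancel this
  · intro b
    refine ⟨fun i => ↑w⁻¹ * b i, funext fun i => ?_⟩
    simp only [Module.algebraMap_end_apply, Pi.smul_apply, Algebra.smul_def, ← hw, ← mul_assoc, Units.mul_inv, one_mul]


/-- Let R be a ring, M a finitely presented R-module and x a maximal ideal of R with residue field κ(x);
write M(x) = M/xM and let B(x) ⊆ M(x) be the orthogonal of the image of Hom_R(M, R) in the dual of
M(x), i.e. the classes of those m in M with φ(m) in x for every linear form φ on M, and V(x) =
M(x)/B(x). For s_1, ..., s_r in M the following are equivalent: (1) there is f in R, f not in x,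
such that the map R_f^r → M_f given by the s_i is the inclusion of a direct summand; (2) the images
of s_1, ..., s_r in V(x) are linearly independent over κ(x). -/
theorem result (R : Type u) [CommRing R] (M : Type u)
    [AddCommGroup M] [Module R M] [Module.FinitePresentation R M] (x : Ideal R) [x.IsMaximal]
    (r : ℕ) (s : Fin r → M) :
    let Mx := M ⧸ (x • ⊤ : Submodule R M)
    let Bx : Submodule (R ⧸ x) Mx :=
      Submodule.span (R ⧸ x) ((x • ⊤ : Submodule R M).mkQ '' {m : M | ∀ φ : M →ₗ[R] R, φ m ∈ x})
    (∃ f : R, f ∉ x ∧
      ∃ g : LocalizedModule (Submonoid.powers f) M →ₗ[Localization.Away f] (Fin r → Localization.Away f),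
        g ∘ₗ Fintype.linearCombination (Localization.Away f)
            (fun i => LocalizedModule.mkLinearMap (Submonoid.powers f) M (s i)) = LinearMap.id) ↔
    LinearIndependent (R ⧸ x) (fun i => Bx.mkQ ((x • ⊤ : Submodule R M).mkQ (s i))) := by
  intro Mx Bx
  classical
  refine Iff.trans ?_ (linearIndependent_iff_indep x _ (Groth.Agent.S7163.ker_quot x) s).symm
  constructor
  · rintro ⟨f, hf, g, hg⟩
    let j := LocalizedModule.mkLinearMap (Submonoid.powers f) M
    choose φ u hφ using fun i => Module.FinitePresentation.exists_lift_of_isLocalizedModule (Submonoid.powers f)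
      (Algebra.linearMap R (Localization.Away f))
      (((LinearMap.proj i : (Fin r → Localization.Away f) →ₗ[Localization.Away f] _) ∘ₗ g).restrictScalars R ∘ₗ j)
    refine ⟨φ, fun hdet => ?_⟩
    let a := algebraMap R (Localization.Away f)
    have e : a.mapMatrix (Matrix.of fun i k => φ i (s k)) = Matrix.diagonal fun i => a (u i) := by
      ext i k
      have h1 := LinearMap.congr_fun (hφ i) (s k)
      simp only [LinearMap.comp_apply, Algebra.linearMap_apply, LinearMap.smul_apply,
        LinearMap.restrictScalars_apply, LinearMap.proj_apply] at h1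
      have h2 : g (j (s k)) = Pi.single k 1 := by
        have := LinearMap.congr_fun hg (Pi.single k 1)
        simpa [Fintype.linearCombination_apply_single, j] using this
      rw [RingHom.mapMatrix_apply, Matrix.map_apply, Matrix.of_apply, h1, h2, Submonoid.smul_def,
        Algebra.smul_def, Matrix.diagonal_apply, Pi.single_apply]
      split_ifs <;> simp_all [a]
    have hu : IsUnit (a (Matrix.of fun i k => φ i (s k)).det) := by
      rw [RingHom.map_det, e, Matrix.det_diagonal]
      exact IsUnit.prod_iff.2 fun i _ => IsLocalization.map_units _ (u i)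
    obtain ⟨n, hn⟩ := (IsLocalization.Away.algebraMap_isUnit_iff f).1 hu
    have hx : x.IsPrime := inferInstance
    exact hf (hx.mem_of_pow_mem n (x.mem_of_dvd hn hdet))
  · rintro ⟨φ, hd⟩
    refine ⟨_, hd, ?_⟩
    set f := (Matrix.of fun i k => φ i (s k)).det with hf
    let L := Localization.Away f
    let A : Matrix (Fin r) (Fin r) L := (algebraMap R L).mapMatrix (Matrix.of fun i k => φ i (s k))
    have hA : IsUnit A.det := by
      rw [← RingHom.map_det]; exact IsLocalization.map_units L (⟨f, Submonoid.mem_powers f⟩ : Submonoid.powers f)
    let Φ : M →ₗ[R] (Fin r → L) := LinearMap.pi fun i => Algebra.linearMap R L ∘ₗ φ i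
    let G : LocalizedModule (Submonoid.powers f) M →ₗ[L] (Fin r → L) :=
      LinearMap.extendScalarsOfIsLocalization (Submonoid.powers f) L
        (LocalizedModule.lift (Submonoid.powers f) Φ fun u => by
          exact (Module.End.isUnit_iff _).2 (bijective_smul u))
    refine ⟨A⁻¹.mulVecLin ∘ₗ G, (Pi.basisFun L (Fin r)).ext fun k => ?_⟩
    simp only [Pi.basisFun_apply, LinearMap.comp_apply, Fintype.linearCombination_apply_single, one_smul,
      Matrix.mulVecLin_apply, LinearMap.id_apply]
    have hG : G (LocalizedModule.mkLinearMap (Submonoid.powers f) M (s k)) = A.col k := by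
      simp [G, Φ, A, LocalizedModule.lift_mk]
      rfl
    rw [hG, show A.col k = A.mulVec (Pi.single k 1) by simp, Matrix.mulVec_mulVec, Matrix.nonsing_inv_mul _ hA,
      Matrix.one_mulVec]

end Groth.Agent.S7147
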