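import Groth.Statements.S7149
import Mathlib
import Groth.Agent.Calg3.PcArtinRees

set_option autoImplicit false
universe u
open CategoryTheory
attribute [local instance] HasDerivedCategory.standard
open CAlg

namespace Groth.Agent.S7149
open Groth.Calg3


/-- Let A be a Noetherian ring, I an ideal, K a pseudo-coherent object of D(A) and M a finite A-module.
For each integer p there is c such that for all n ≥ c the image of Ext^p_A(K, IⁿM) → Ext^p_A(K, M)
is contained in I^(n-c)·Ext^p_A(K, M); here Ext^p(K, X) = Hom_{D(A)}(K, X[p]) with its natural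
A-module structure. -/
theorem result (A : Type u) [CommRing A] [IsNoetherianRing A] (I : Ideal A)
    (K : Dual.D A) (hK : DRing.IsPseudoCoherent' A K) (M : Type u) [AddCommGroup M] [Module A M] [Module.Finite A M]
    (p : ℤ) :
    ∃ c : ℕ, ∀ n : ℕ, c ≤ n →
      ∀ e : K ⟶ (Dual.inD A ↥(I ^ n • ⊤ : Submodule A M))⟦p⟧,
        e ≫ ((DerivedCategory.singleFunctor (ModuleCat.{u} A) 0).map
              (ModuleCat.ofHom (I ^ n • ⊤ : Submodule A M).subtype))⟦p⟧' ∈
          (I ^ (n - c) • ⊤ : Submodule A (K ⟶ (Dual.inD A M)⟦p⟧)) := by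
  obtain ⟨E, b, hb, hE, ⟨eK⟩⟩ := hK
  have hfin : ∀ j, Module.Finite A (E.X j) := fun j => (hE j).1
  have hfree : ∀ j, Module.Free A (E.X j) := fun j => (hE j).2
  have hproj : ∀ j, Module.Projective A (E.X j) := fun j => inferInstance
  have hpq : p + -p = 0 := add_neg_cancel p
  set q : ℤ := -p
  obtain ⟨c, hc⟩ := I.exists_pow_inf_eq_pow_smul (LinearMap.ker (predif E M (q - 1) q))
  refine ⟨c, fun n hn e => ?_⟩
  obtain ⟨φ, rfl⟩ := classMap_surjective eK hpq hb hproj e
  let ι := (I ^ n • ⊤ : Submodule A M).subtype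
  have hz : ι ∘ₗ φ.1 ∈ Zc E M q := by
    rw [LinearMap.mem_ker]
    exact LinearMap.ext fun x => congrArg Subtype.val (LinearMap.congr_fun (LinearMap.mem_ker.1 φ.2) x)
  rw [classMap_naturality eK hpq ι φ ⟨_, hz⟩ rfl]
  have h : ι ∘ₗ φ.1 ∈ I ^ (n - c) • LinearMap.ker (predif E M (q - 1) q) := by
    have h1 : ι ∘ₗ φ.1 ∈ I ^ n • (⊤ : Submodule A (E.X q →ₗ[A] M)) ⊓ LinearMap.ker (predif E M (q - 1) q) :=
      ⟨mem_smul_top_of_range _ _ fun x => (φ.1 x).2, hz⟩
    rw [hc n hn] at h1
    exact Submodule.smul_mono le_rfl inf_le_right h1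
  have h2 : (⟨_, hz⟩ : Zc E M q) ∈ I ^ (n - c) • (⊤ : Submodule A (Zc E M q)) := by
    have e : LinearMap.ker (predif E M (q - 1) q) = (⊤ : Submodule A (Zc E M q)).map (Zc E M q).subtype := by
      rw [Submodule.map_top, Submodule.range_subtype]
    rw [e, ← Submodule.map_smul''] at h
    obtain ⟨x, hx, hxe⟩ := h
    rwa [show (⟨_, hz⟩ : Zc E M q) = x from Subtype.ext hxe.symm]
  have h3 := Submodule.mem_map_of_mem (f := classMap eK hpq) h2
  rw [Submodule.map_smul''] at h3
  exact Submodule.smul_mono le_rfl le_top h3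

end Groth.Agent.S7149
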