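import Groth.Statements.S7150
import Groth.Agent.Ega41Sep.Separable
-- import your own Groth.Agent.* helpers here

set_option autoImplicit false
universe u
open EtAlg

namespace Groth.Agent.S7150

/-- Suppose p is a prime with p·1 = 0 in the local ring A and some power of the maximal ideal of A is
zero. Then the residue map A → κ_A has a section σ : κ_A → A that is a ring map. If moreover A → A'
is a local homomorphism to another local ring whose maximal ideal has a vanishing power, and the
residue field extension κ_{A'}/κ_A is separable (possibly transcendental, i.e. geometrically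
reduced), then for any such σ there is a section σ' : κ_{A'} → A' compatible with σ. -/
theorem result (p : ℕ) (hp : p.Prime) (A : Type u) [CommRing A]
    [IsLocalRing A] [CharP A p] (hnil : ∃ n : ℕ, IsLocalRing.maximalIdeal A ^ n = ⊥) :
    (∃ σ : IsLocalRing.ResidueField A →+* A, (IsLocalRing.residue A).comp σ = RingHom.id _) ∧
    ∀ (A' : Type u) [CommRing A'] [IsLocalRing A'] [Algebra A A'] [IsLocalHom (algebraMap A A')],
      (∃ n : ℕ, IsLocalRing.maximalIdeal A' ^ n = ⊥) →
      Algebra.IsGeometricallyReduced (IsLocalRing.ResidueField A) (IsLocalRing.ResidueField A') →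
      ∀ σ : IsLocalRing.ResidueField A →+* A, (IsLocalRing.residue A).comp σ = RingHom.id _ →
        ∃ σ' : IsLocalRing.ResidueField A' →+* A', (IsLocalRing.residue A').comp σ' = RingHom.id _ ∧
          σ'.comp (IsLocalRing.ResidueField.map (algebraMap A A')) = (algebraMap A A').comp σ := by
  have : Fact p.Prime := ⟨hp⟩
  refine ⟨?_, ?_⟩
  · have : CharP (IsLocalRing.ResidueField A) p := (CharP.charP_iff_prime_eq_zero hp).2 (by
      rw [← map_natCast (IsLocalRing.residue A), CharP.cast_eq_zero, map_zero])
    letI : Algebra (Groth.Ega41Sep.ZModU.{u} p) A := Groth.Ega41Sep.zmodUAlgebra p A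
    haveI := Groth.Ega41Sep.formallySmooth_zmodU p (IsLocalRing.ResidueField A)
    obtain ⟨σ, hσ⟩ := Algebra.FormallySmooth.exists_lift (R := Groth.Ega41Sep.ZModU.{u} p) (B := A)
      (IsLocalRing.maximalIdeal A) hnil
      (AlgHom.id (Groth.Ega41Sep.ZModU.{u} p) (IsLocalRing.ResidueField A))
    exact ⟨σ.toRingHom, RingHom.ext fun x => AlgHom.congr_fun hσ x⟩
  · intro A' _ _ _ _ hnil' hsep σ hσ
    have := (Groth.Ega41Sep.formallySmooth_iff_isGeometricallyReduced
      (IsLocalRing.ResidueField A) (IsLocalRing.ResidueField A')).2 hsep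
    letI : Algebra (IsLocalRing.ResidueField A) A' := ((algebraMap A A').comp σ).toAlgebra
    have key : ∀ x, IsLocalRing.residue A' (algebraMap (IsLocalRing.ResidueField A) A' x) =
        algebraMap (IsLocalRing.ResidueField A) (IsLocalRing.ResidueField A') x := fun x => by
      show IsLocalRing.residue A' (algebraMap A A' (σ x)) = _
      conv_rhs => rw [← show IsLocalRing.residue A (σ x) = x from RingHom.congr_fun hσ x]
      rfl
    let g : IsLocalRing.ResidueField A' →ₐ[IsLocalRing.ResidueField A]
        A' ⧸ IsLocalRing.maximalIdeal A' :=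
      { (RingHom.id (IsLocalRing.ResidueField A') : IsLocalRing.ResidueField A' →+* A' ⧸ IsLocalRing.maximalIdeal A') with
        commutes' := fun x => (key x).symm }
    obtain ⟨σ', hσ'⟩ := Algebra.FormallySmooth.exists_lift (B := A') (IsLocalRing.maximalIdeal A') hnil' g
    exact ⟨σ'.toRingHom, RingHom.ext fun x => AlgHom.congr_fun hσ' x,
      RingHom.ext fun x => σ'.commutes x⟩

end Groth.Agent.S7150
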