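import Groth.Statements.S7152
import Mathlib
-- import your own Groth.Agent.* helpers here

set_option autoImplicit false
universe u
open EtAlg

namespace Groth.Agent.S7152

theorem exists_pow (A' A : Type u) [CommRing A'] [CommRing A] [Algebra A' A] [Module.Finite A' A] (f : A')
    (hf : algebraMap A' A f ∈ nonZeroDivisors A)
    (hloc : Function.Bijective (IsLocalization.Away.map (Localization.Away f)
      (Localization.Away (algebraMap A' A f)) (algebraMap A' A) f)) :
    ∃ c : ℕ, ∀ a : A, ∃ a', algebraMap A' A a' = algebraMap A' A f ^ c * a := by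
  classical
  set ι := algebraMap A' A
  have hone : ∀ a : A, ∃ c : ℕ, ∃ a', ι a' = ι f ^ c * a := by
    intro a
    obtain ⟨x, hx⟩ := hloc.2 (algebraMap A (Localization.Away (ι f)) a)
    obtain ⟨a', ⟨-, m, rfl⟩, rfl⟩ := IsLocalization.exists_mk'_eq (Submonoid.powers f) x
    rw [IsLocalization.Away.map, IsLocalization.map_mk', IsLocalization.mk'_eq_iff_eq_mul] at hx
    rw [← map_mul] at hx
    have hinj : Function.Injective (algebraMap A (Localization.Away (ι f))) :=
      IsLocalization.injective _ (Submonoid.powers_le.2 hf)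
    refine ⟨m, a', ?_⟩
    have h := hinj hx
    simp only [map_pow] at h
    rw [h, mul_comm]
  choose c a' hc using hone
  obtain ⟨s, hs⟩ := Module.finite_def.1 (inferInstance : Module.Finite A' A)
  refine ⟨s.sup c, fun a => ?_⟩
  have ha : a ∈ Submodule.span A' (s : Set A) := by rw [hs]; trivial
  refine Submodule.span_induction (fun x hx => ⟨f ^ (s.sup c - c x) * a' x, ?_⟩) ⟨0, by simp [ι]⟩
    (fun x y _ _ ⟨x', hx⟩ ⟨y', hy⟩ => ⟨x' + y', by rw [map_add, hx, hy, mul_add]⟩)
    (fun r x _ ⟨x', hx⟩ => ⟨r * x', by rw [map_mul, hx, Algebra.smul_def]; ring⟩) ha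
  rw [map_mul, map_pow, hc, ← mul_assoc, ← pow_add, Nat.sub_add_cancel (Finset.le_sup hx)]

/-- `b` is a lift of `φ'` of `f ^ c * a`. -/
def Rel {A' A B' : Type u} [CommRing A'] [CommRing A] [Algebra A' A] [CommRing B'] (f : A') (g : B') (c n : ℕ)
    (φ' : (A' ⧸ Ideal.span {f ^ n}) ≃+* (B' ⧸ Ideal.span {g ^ n})) (a : A) (b : B') : Prop :=
  ∃ a', algebraMap A' A a' = algebraMap A' A f ^ c * a ∧
    φ' (Ideal.Quotient.mk (Ideal.span {f ^ n}) a') = Ideal.Quotient.mk (Ideal.span {g ^ n}) b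

theorem lift_finite {A' A : Type u} [CommRing A'] [CommRing A] [Algebra A' A]
    (hinj : Function.Injective (algebraMap A' A)) [Module.Finite A' A] (f : A')
    (hf : algebraMap A' A f ∈ nonZeroDivisors A) (c : ℕ)
    (hc : ∀ a : A, ∃ a', algebraMap A' A a' = algebraMap A' A f ^ c * a) (n : ℕ) (hn : 2 * c + 1 ≤ n)
    {B' : Type u} [CommRing B'] (g : B') (hg : g ∈ nonZeroDivisors B')
    (φ' : (A' ⧸ Ideal.span {f ^ n}) ≃+* (B' ⧸ Ideal.span {g ^ n}))
    (hφ : φ' (Ideal.Quotient.mk (Ideal.span {f ^ n}) f) = Ideal.Quotient.mk (Ideal.span {g ^ n}) g) :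
    ∃ (B : Type u) (_ : CommRing B) (_ : Algebra B' B),
      Function.Injective (algebraMap B' B) ∧ Module.Finite B' B ∧
      ∃ φ : (A ⧸ Ideal.span {algebraMap A' A f}) ≃+* (B ⧸ Ideal.span {algebraMap B' B g}),
        ∀ (a' : A') (b' : B'),
          φ' (Ideal.Quotient.mk (Ideal.span {f ^ n}) a') = Ideal.Quotient.mk (Ideal.span {g ^ n}) b' →
          φ (Ideal.Quotient.mk (Ideal.span {algebraMap A' A f}) (algebraMap A' A a')) =
            Ideal.Quotient.mk (Ideal.span {algebraMap B' B g}) (algebraMap B' B b') := by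
  classical
  set ι := algebraMap A' A
  let mB := Ideal.Quotient.mk (Ideal.span {g ^ n})
  let mA := Ideal.Quotient.mk (Ideal.span {f ^ n})
  let R : A → B' → Prop := Rel f g c n φ'
  have hlift : ∀ r : B', ∃ s : A', φ' (mA s) = mB r := fun r => by
    obtain ⟨s, hs⟩ := Ideal.Quotient.mk_surjective (φ'.symm (mB r))
    exact ⟨s, by simp only [mA]; rw [hs, φ'.apply_symm_apply]⟩
  have hex : ∀ a, ∃ b, R a b := fun a => by
    obtain ⟨a', ha⟩ := hc a
    obtain ⟨b, hb⟩ := Ideal.Quotient.mk_surjective (φ' (mA a'))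
    exact ⟨b, a', ha, hb.symm⟩
  have hadd : ∀ {a₁ a₂ b₁ b₂}, R a₁ b₁ → R a₂ b₂ → R (a₁ + a₂) (b₁ + b₂) := by
    rintro a₁ a₂ b₁ b₂ ⟨x, hx, hx'⟩ ⟨y, hy, hy'⟩
    exact ⟨x + y, by rw [map_add, hx, hy, mul_add], by rw [map_add, map_add, map_add, hx', hy']⟩
  have hsmul : ∀ {a b} (s : A') (r : B'), φ' (mA s) = mB r → R a b → R (ι s * a) (r * b) := by
    rintro a b s r hr ⟨x, hx, hx'⟩
    exact ⟨s * x, by rw [map_mul, hx]; ring, by rw [map_mul, map_mul, map_mul, hx']; exact congrArg (· * _) hr⟩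
  have hpow : ∀ k, φ' (mA (f ^ k)) = mB (g ^ k) := fun k => by
    simp only [mA, mB, map_pow, hφ]
  have hzero : R 0 0 := ⟨0, by simp, by simp⟩
  have hneg : ∀ {a b}, R a b → R (-a) (-b) := by
    intro a b h
    simpa using hsmul (-1) (-1) (by simp [mA, mB]) h
  -- lifts of zero
  have hsmall : ∀ (k : ℕ) (w : B'), c ≤ k → ∃ u : A', R (ι (f ^ (k - c) * u)) (g ^ k * w) := fun k w hk => by
    obtain ⟨u, hu⟩ := hlift w
    refine ⟨u, f ^ k * u, ?_, ?_⟩
    · rw [map_mul, map_mul, map_pow, map_pow, ← mul_assoc, ← pow_add, Nat.add_sub_cancel' hk]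
    · rw [map_mul, map_mul, map_mul]
      exact congrArg₂ (· * ·) (hpow k) hu
  have huniq : ∀ {a b₁ b₂}, R a b₁ → R a b₂ → g ^ n ∣ b₁ - b₂ := by
    rintro a b₁ b₂ ⟨x, hx, hx'⟩ ⟨y, hy, hy'⟩
    have : x = y := hinj (hx.trans hy.symm)
    subst this
    rw [← Ideal.mem_span_singleton, ← Ideal.Quotient.eq]
    exact hx'.symm.trans hy'
  have hdet : ∀ {a₁ a₂ b}, R a₁ b → R a₂ b → ι f ∣ a₁ - a₂ := by
    rintro a₁ a₂ b ⟨x, hx, hx'⟩ ⟨y, hy, hy'⟩
    have h1 := φ'.injective (hx'.trans hy'.symm)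
    rw [Ideal.Quotient.eq, Ideal.mem_span_singleton] at h1
    obtain ⟨u, hu⟩ := h1
    refine ⟨ι f ^ (n - c - 1) * ι u, ?_⟩
    refine (mul_cancel_left_mem_nonZeroDivisors (pow_mem hf c)).1 ?_
    rw [mul_sub, ← hx, ← hy, ← map_sub, hu, map_mul, map_pow, ← mul_assoc, ← mul_assoc, ← pow_succ, ← pow_add,
      show c + 1 + (n - c - 1) = n by omega]
  have hone : R 1 (g ^ c) := ⟨f ^ c, by rw [map_pow, mul_one], hpow c⟩
  have halg : ∀ {a' b'}, φ' (mA a') = mB b' → R (ι a') (b' * g ^ c) := fun h => by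
    simpa using hsmul _ _ h hone
  have hmul : ∀ {a₁ a₂ b₁ b₂}, R a₁ b₁ → R a₂ b₂ →
      ∃ a₃ b₃, R a₃ b₃ ∧ b₁ * b₂ = g ^ c * b₃ ∧ ι f ∣ a₃ - a₁ * a₂ := by
    rintro a₁ a₂ b₁ b₂ ⟨x, hx, hx'⟩ ⟨y, hy, hy'⟩
    obtain ⟨z, hz⟩ := hc (a₁ * a₂)
    obtain ⟨b₃, hb₃⟩ := Ideal.Quotient.mk_surjective (φ' (mA z))
    have hxy : x * y = f ^ c * z := hinj (by rw [map_mul, map_mul, hx, hy, hz, map_pow]; ring)
    have h1 : mB (b₁ * b₂) = mB (g ^ c * b₃) := by
      rw [map_mul, map_mul, ← hpow c]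
      simp only [mA, mB] at hb₃ ⊢
      rw [← hx', ← hy', hb₃, ← map_mul φ', ← map_mul φ', ← map_mul (Ideal.Quotient.mk _), ← map_mul (Ideal.Quotient.mk _), hxy]
    rw [Ideal.Quotient.eq, Ideal.mem_span_singleton] at h1
    obtain ⟨w, hw⟩ := h1
    obtain ⟨u, hu⟩ := hsmall (n - c) w (by omega)
    refine ⟨a₁ * a₂ + ι (f ^ (n - c - c) * u), b₃ + g ^ (n - c) * w, hadd ⟨z, hz, hb₃.symm⟩ hu, ?_, ?_⟩
    · rw [mul_add, ← mul_assoc, ← pow_add, Nat.add_sub_cancel' (by omega)]
      linear_combination hw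
    · rw [add_sub_cancel_left, map_mul, map_pow]
      exact Dvd.dvd.mul_right (dvd_pow_self _ (by omega)) _
  set L := Localization.Away g
  set q := algebraMap B' L with hq
  have hgu : IsUnit (q g) := IsLocalization.Away.algebraMap_isUnit g
  have hLinj : Function.Injective q := IsLocalization.injective _ (Submonoid.powers_le.2 hg)
  let B : Subalgebra B' L :=
    { carrier := {z | ∃ a b, R a b ∧ z * q g ^ c = q b}
      add_mem' := by
        rintro z₁ z₂ ⟨a₁, b₁, h₁, e₁⟩ ⟨a₂, b₂, h₂, e₂⟩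
        exact ⟨_, _, hadd h₁ h₂, by rw [add_mul, e₁, e₂, map_add]⟩
      mul_mem' := by
        rintro z₁ z₂ ⟨a₁, b₁, h₁, e₁⟩ ⟨a₂, b₂, h₂, e₂⟩
        obtain ⟨a₃, b₃, h₃, e₃, -⟩ := hmul h₁ h₂
        refine ⟨a₃, b₃, h₃, (hgu.pow c).mul_left_cancel ?_⟩
        rw [show q g ^ c * (z₁ * z₂ * q g ^ c) = (z₁ * q g ^ c) * (z₂ * q g ^ c) by ring, e₁, e₂, ← map_mul, e₃,
          map_mul, map_pow]
      algebraMap_mem' := fun r => by
        obtain ⟨s, hs⟩ := hlift r
        exact ⟨_, _, halg hs, by rw [map_mul, map_pow]⟩ }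
  refine ⟨↥B, inferInstance, inferInstance, fun x y h => hLinj (congrArg Subtype.val h), ?_, ?_⟩
  · -- finiteness
    obtain ⟨s, hs⟩ := Module.finite_def.1 (inferInstance : Module.Finite A' A)
    choose β hβ using hex
    have hmemB : ∀ {a b}, R a b → IsLocalization.mk' L b (⟨g ^ c, c, rfl⟩ : Submonoid.powers g) ∈ B := fun {a b} h =>
      ⟨a, b, h, by rw [← map_pow]; exact IsLocalization.mk'_spec L b _⟩
    let gen : Option s → B := fun o => o.elim ⟨q (g ^ (n - c)), B.algebraMap_mem _⟩ fun i => ⟨_, hmemB (hβ i.1)⟩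
    refine ⟨⟨Finset.univ.image gen, eq_top_iff.2 fun z _ => ?_⟩⟩
    rw [Finset.coe_image, Finset.coe_univ, Set.image_univ, Submodule.mem_span_range_iff_exists_fun]
    obtain ⟨a, b, hab, hz⟩ := z.2
    have ha : a ∈ Submodule.span A' (Set.range fun i : s => (i : A)) := by
      rw [Subtype.range_coe_subtype, Finset.setOf_mem, hs]; trivial
    obtain ⟨co, hco⟩ := (Submodule.mem_span_range_iff_exists_fun A').1 ha
    choose r hr using fun i => Ideal.Quotient.mk_surjective (φ' (mA (co i)))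
    have hsum : R a (∑ i, r i * β i.1) := by
      rw [← hco]
      simp only [Algebra.smul_def]
      induction (Finset.univ : Finset s) using Finset.induction with
      | empty => simpa using hzero
      | insert i t hi ih =>
        rw [Finset.sum_insert hi, Finset.sum_insert hi]
        exact hadd (hsmul _ _ (hr i).symm (hβ i.1)) ih
    obtain ⟨w, hw⟩ := huniq hab hsum
    refine ⟨fun o => o.elim w r, Subtype.ext ((hgu.pow c).mul_right_cancel ?_)⟩
    rw [hz, Fintype.sum_option, show b = g ^ n * w + ∑ i, r i * β i.1 by rw [← hw]; ring]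
    have e0 : ((gen none : B) : L) * q g ^ c = q (g ^ n) := by
      show q (g ^ (n - c)) * q g ^ c = q (g ^ n)
      rw [← map_pow q g c, ← map_mul q (g ^ (n - c)), ← pow_add, Nat.sub_add_cancel (by omega)]
    have e1 : ∀ i, ((gen (some i) : B) : L) * q g ^ c = q (β i.1) := fun i => by
      show IsLocalization.mk' L (β i.1) _ * q g ^ c = _
      rw [← map_pow]; exact IsLocalization.mk'_spec L _ _
    rw [Subalgebra.coe_add, AddSubmonoidClass.coe_finset_sum, add_mul, Finset.sum_mul, map_add, map_mul, map_sum]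
    simp only [Option.elim, Algebra.smul_def, Subalgebra.coe_mul, Subalgebra.coe_algebraMap, mul_assoc, e0, e1, map_mul, ← hq]
    ring
  · -- the isomorphism
    have hB : ∀ z : B, ∃ a, ∃ b, R a b ∧ (z : L) * q g ^ c = q b := fun z => z.2
    choose α β hαβ hzβ using hB
    let mA₁ := Ideal.Quotient.mk (Ideal.span {ι f})
    have hwd : ∀ {z : B} {a b}, R a b → (z : L) * q g ^ c = q b → mA₁ (α z) = mA₁ a := fun {z a b} h e => by
      have : β z = b := hLinj ((hzβ z).symm.trans e)
      rw [Ideal.Quotient.eq, Ideal.mem_span_singleton]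
      exact hdet (hαβ z) (this ▸ h)
    let ψ : B →+* A ⧸ Ideal.span {ι f} :=
      { toFun := fun z => mA₁ (α z)
        map_one' := by
          rw [hwd hone (by rw [map_pow]; exact one_mul _), map_one]
        map_zero' := by
          rw [hwd hzero (by rw [map_zero]; exact zero_mul _), map_zero]
        map_add' := fun x y => by
          rw [hwd (hadd (hαβ x) (hαβ y)) (by rw [map_add, ← hzβ x, ← hzβ y]; exact add_mul _ _ _), map_add]
        map_mul' := fun x y => by
          obtain ⟨a₃, b₃, h₃, e₃, hd⟩ := hmul (hαβ x) (hαβ y)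
          rw [hwd (z := x * y) h₃ ((hgu.pow c).mul_left_cancel ?_), ← map_mul, Ideal.Quotient.eq,
            Ideal.mem_span_singleton]
          · exact hd
          · rw [show q g ^ c * ((↑(x * y) : L) * q g ^ c) = ((x : L) * q g ^ c) * ((y : L) * q g ^ c) by
              rw [Subalgebra.coe_mul]; ring, hzβ, hzβ, ← map_mul, e₃, map_mul, map_pow] }
    have hψ : Function.Surjective ψ := fun x => by
      obtain ⟨a, rfl⟩ := Ideal.Quotient.mk_surjective x
      obtain ⟨b, hb⟩ := hex a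
      have e : IsLocalization.mk' L b (⟨g ^ c, c, rfl⟩ : Submonoid.powers g) * q g ^ c = q b := by
        rw [← map_pow]; exact IsLocalization.mk'_spec L b _
      exact ⟨⟨_, a, b, hb, e⟩, hwd hb e⟩
    have hψa : ∀ {a' b'}, φ' (mA a') = mB b' → ψ (algebraMap B' B b') = mA₁ (ι a') := fun h =>
      hwd (halg h) (by rw [map_mul, map_pow]; rfl)
    have hker : Ideal.span {algebraMap B' B g} = RingHom.ker ψ := by
      refine le_antisymm ((Ideal.span_singleton_le_iff_mem _).2 ?_) fun z hz => ?_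
      · rw [RingHom.mem_ker, hψa (a' := f) hφ, Ideal.Quotient.eq_zero_iff_mem]
        exact Ideal.mem_span_singleton_self _
      · rw [RingHom.mem_ker] at hz
        change mA₁ (α z) = 0 at hz
        rw [Ideal.Quotient.eq_zero_iff_mem, Ideal.mem_span_singleton] at hz
        obtain ⟨a₀, ha₀⟩ := hz
        obtain ⟨b₀, hb₀⟩ := hex a₀
        have h1 := hsmul f g hφ hb₀
        rw [← ha₀] at h1
        obtain ⟨w, hw⟩ := huniq (hαβ z) h1
        obtain ⟨u, hu⟩ := hsmall (n - 1) w (by omega)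
        have e : IsLocalization.mk' L (b₀ + g ^ (n - 1) * w) (⟨g ^ c, c, rfl⟩ : Submonoid.powers g) * q g ^ c =
            q (b₀ + g ^ (n - 1) * w) := by
          rw [← map_pow]; exact IsLocalization.mk'_spec L _ _
        refine Ideal.mem_span_singleton.2 ⟨⟨_, _, _, hadd hb₀ hu, e⟩, Subtype.ext ((hgu.pow c).mul_right_cancel ?_)⟩
        rw [hzβ, Subalgebra.coe_mul, mul_assoc, e,
          show β z = g * (b₀ + g ^ (n - 1) * w) by
            rw [mul_add, ← mul_assoc, ← pow_succ', Nat.sub_add_cancel (by omega : 1 ≤ n)]; linear_combination hw,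
          map_mul]
        rfl
    let e := (Ideal.quotEquivOfEq hker).trans (RingHom.quotientKerEquivOfSurjective hψ)
    refine ⟨e.symm, fun a' b' h => ?_⟩
    rw [RingEquiv.symm_apply_eq]
    exact (hψa h).symm

/-- Let A' ⊆ A be an extension of rings and f an element of A'. Assume A is finite over A', f is a
nonzerodivisor on A, and A'_f = A_f. Then there is n₀ > 0 such that for all n ≥ n₀ the following
holds: given a ring B', a nonzerodivisor g of B' and an isomorphism φ' : A'/fⁿA' → B'/gⁿB' sending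
the class of f to the class of g, one can find a ring B containing B' as a subring and finite as a
B'-module, together with a ring isomorphism φ : A/fA → B/gB that agrees with φ' (i.e. the square
formed by the maps A'/fⁿA' → A/fA and B'/gⁿB' → B/gB commutes). -/
theorem result (A' A : Type u) [CommRing A'] [CommRing A] [Algebra A' A]
    (hinj : Function.Injective (algebraMap A' A)) [Module.Finite A' A] (f : A')
    (hf : algebraMap A' A f ∈ nonZeroDivisors A)
    (hloc : Function.Bijective (IsLocalization.Away.map (Localization.Away f)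
      (Localization.Away (algebraMap A' A f)) (algebraMap A' A) f)) :
    ∃ n₀ : ℕ, 0 < n₀ ∧ ∀ n : ℕ, n₀ ≤ n →
      ∀ (B' : Type u) [CommRing B'] (g : B'), g ∈ nonZeroDivisors B' →
        ∀ φ' : (A' ⧸ Ideal.span {f ^ n}) ≃+* (B' ⧸ Ideal.span {g ^ n}),
        φ' (Ideal.Quotient.mk (Ideal.span {f ^ n}) f) = Ideal.Quotient.mk (Ideal.span {g ^ n}) g →
        ∃ (B : Type u) (_ : CommRing B) (_ : Algebra B' B),
          Function.Injective (algebraMap B' B) ∧ Module.Finite B' B ∧
          ∃ φ : (A ⧸ Ideal.span {algebraMap A' A f}) ≃+* (B ⧸ Ideal.span {algebraMap B' B g}),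
            ∀ (a' : A') (b' : B'),
              φ' (Ideal.Quotient.mk (Ideal.span {f ^ n}) a') = Ideal.Quotient.mk (Ideal.span {g ^ n}) b' →
              φ (Ideal.Quotient.mk (Ideal.span {algebraMap A' A f}) (algebraMap A' A a')) =
                Ideal.Quotient.mk (Ideal.span {algebraMap B' B g}) (algebraMap B' B b') := by
  obtain ⟨c, hc⟩ := exists_pow A' A f hf hloc
  exact ⟨2 * c + 1, by omega, fun n hn B' _ g hg φ' hφ => lift_finite hinj f hf c hc n hn g hg φ' hφ⟩

end Groth.Agent.S7152
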