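import Groth.Statements.S7155
import Groth.Agent.EtaleAlgebra.ASStep
import Groth.Agent.EtaleAlgebra.ASNormal
import Groth.Agent.EtaleAlgebra.InsepStep
import Mathlib.FieldTheory.IsAlgClosed.AlgebraicClosure
import Mathlib.FieldTheory.SeparableDegree
import Mathlib.FieldTheory.Perfect
-- import your own Groth.Agent.* helpers here

set_option autoImplicit false
universe u
open EtAlg Groth.EtaleAlgebra Polynomial IsLocalRing EtRam ASStep

namespace Groth.Agent.S7155

/-- A subfield of a simple extension containing the base and the generator is everything. -/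
theorem subfield_adjoin_eq_top {L E : Type u} [Field L] [Field E] [Algebra L E] (x : E)
    (S : Subfield (IntermediateField.adjoin L {x})) (hL : ∀ l : L, algebraMap L _ l ∈ S)
    (hx : IntermediateField.AdjoinSimple.gen L x ∈ S) : S = ⊤ := by
  let I : IntermediateField L (IntermediateField.adjoin L {x}) := { S with algebraMap_mem' := hL }
  refine eq_top_iff.2 fun y _ => ?_
  have hle : IntermediateField.adjoin L {x} ≤ I.map (IntermediateField.adjoin L {x}).val :=
    IntermediateField.adjoin_le_iff.2 (Set.singleton_subset_iff.2 ⟨_, hx, rfl⟩)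
  obtain ⟨y', hy', he⟩ := hle y.2
  exact Subtype.ext he ▸ hy'

/-- `b / π ^ s` may be replaced by `b' / x ^ (q s)` for `b' ≡ b` and `x ^ q = π (π ^ M x + 1)`. -/
theorem exch {E : Type u} [Field E] (W : ValuationSubring E) {π x : E} {q M s : ℕ} (hs : s ≤ M)
    (hπ : W.valuation π < 1) (hπ0 : π ≠ 0) (hxW : W.valuation x < 1)
    (hx : x ^ q = π * (π ^ M * x + 1)) {b b' c : E} (hb' : b' ∈ W) (hc : c ∈ W)
    (hbb : b - b' = π ^ M * c) : b / π ^ s - b' / x ^ (q * s) ∈ W := by
  let e := π ^ M * x + 1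
  have hπW : π ∈ W := (W.valuation_le_one_iff π).1 hπ.le
  have hxW' : x ∈ W := (W.valuation_le_one_iff x).1 hxW.le
  have he1 : W.valuation (π ^ M * x) < 1 := by
    rw [map_mul, map_pow]
    exact lt_of_le_of_lt (mul_le_of_le_one_left' (pow_le_one' hπ.le M)) hxW
  have he : W.valuation e = 1 := Valuation.map_one_add_of_lt (v := W.valuation) he1 |> fun h => by
    rw [show e = 1 + π ^ M * x from add_comm _ _]; exact h
  have heW : e ∈ W := (W.valuation_le_one_iff e).1 he.le
  have he0 : e ≠ 0 := fun h => by rw [h, map_zero] at he; exact zero_ne_one he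
  have heiW : (e ^ s)⁻¹ ∈ W := (W.valuation_le_one_iff _).1 (by
    rw [map_inv₀, map_pow, he, one_pow, inv_one])
  have hgs : (e - 1) * ∑ j ∈ Finset.range s, e ^ j = e ^ s - 1 := mul_geom_sum e s
  have key : b / π ^ s - b' / x ^ (q * s) =
      π ^ (M - s) * c + b' * (π ^ (M - s) * x * (∑ j ∈ Finset.range s, e ^ j) * (e ^ s)⁻¹) := by
    rw [pow_mul, hx, mul_pow]
    change b / π ^ s - b' / (π ^ s * e ^ s) = _
    have hM : π ^ M = π ^ (M - s) * π ^ s := by rw [← pow_add, Nat.sub_add_cancel hs]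
    rw [show e - 1 = π ^ M * x from add_sub_cancel_right _ _] at hgs
    field_simp
    rw [hM] at hgs hbb
    linear_combination e ^ s * hbb - b' * hgs
  rw [key]
  exact add_mem (mul_mem (pow_mem hπW _) hc) (mul_mem hb' (mul_mem (mul_mem
    (mul_mem (pow_mem hπW _) hxW') (sum_mem fun j _ => pow_mem heW j)) heiW))

/-- Distinct prime-to-`p` parts give distinct exponents. -/
theorem eq_of_mul_pow_eq {p r r' i i' : ℕ} (hp : p.Prime) (hr : ¬ p ∣ r) (hr' : ¬ p ∣ r')
    (h : r * p ^ i = r' * p ^ i') : r = r' := by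
  have aux : ∀ {r r' i i' : ℕ}, ¬ p ∣ r → i ≤ i' → r * p ^ i = r' * p ^ i' → r = r' := by
    intro r r' i i' hr hle h
    obtain ⟨d, rfl⟩ := Nat.exists_eq_add_of_le hle
    rw [pow_add, mul_left_comm, mul_comm r] at h
    have h' : r = r' * p ^ d := Nat.eq_of_mul_eq_mul_left (pow_pos hp.pos i) h
    rcases d with _ | d
    · rw [h', pow_zero, mul_one]
    · exact absurd (h' ▸ Dvd.dvd.mul_left (dvd_pow_self p d.succ_ne_zero) r') hr
  rcases Nat.le_total i i' with hle | hle
  · exact aux hr hle h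
  · exact (aux hr' hle h.symm).symm

set_option maxHeartbeats 4000000 in
set_option synthInstance.maxHeartbeats 400000 in
/-- Let A → B → C be injective local homomorphisms of discrete valuation rings whose fields of fractions
are K ⊆ L ⊆ M, where A → B is weakly unramified, K has characteristic p, M/L is Galois of degree p,
and κ_A, inside κ_B, is exactly the set of elements admitting a pⁿ-th root for every n. Then some
finite separable extension K₁/K that is totally ramified with respect to A is a weak solution for A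
→ C. (The published statement asks for K₁/K Galois; this row asks only that K₁/K be separable, which
is what the printed construction provides.) -/
theorem result (p : ℕ) (hp : p.Prime) (A B C K L M : Type u)
    [CommRing A] [IsDomain A] [IsDiscreteValuationRing A] [CommRing B] [IsDomain B] [IsDiscreteValuationRing B]
    [CommRing C] [IsDomain C] [IsDiscreteValuationRing C]
    [Algebra A B] [Algebra B C] [Algebra A C] [IsScalarTower A B C]
    (hAB : Function.Injective (algebraMap A B)) (hBC : Function.Injective (algebraMap B C))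
    [IsLocalHom (algebraMap A B)] [IsLocalHom (algebraMap B C)]
    [Field K] [Field L] [Field M] [Algebra A K] [IsFractionRing A K] [Algebra B L] [IsFractionRing B L]
    [Algebra C M] [IsFractionRing C M] [Algebra K L] [Algebra L M] [Algebra K M] [IsScalarTower K L M]
    [Algebra A L] [IsScalarTower A K L] [IsScalarTower A B L] [Algebra B M] [IsScalarTower B L M] [IsScalarTower B C M]
    [Algebra A M] [IsScalarTower A K M] [IsScalarTower A C M]
    (hw : EtRam.IsWeaklyUnramified A B) [CharP K p] [IsGalois L M] (hdeg : Module.finrank L M = p)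
    (hk : ∀ x : IsLocalRing.ResidueField B, (∀ n : ℕ, ∃ y : IsLocalRing.ResidueField B, y ^ (p ^ n) = x) ↔
      x ∈ Set.range (algebraMap (IsLocalRing.ResidueField A) (IsLocalRing.ResidueField B))) :
    ∃ (K₁ : Type u) (_ : Field K₁) (_ : Algebra K K₁), FiniteDimensional K K₁ ∧ Algebra.IsSeparable K K₁ ∧
      EtRam.IsTotallyRamified A ((algebraMap K K₁).comp (algebraMap A K)) ∧ EtRam.IsWeakSolution C K M K₁ := by
  classical
  have : Fact p.Prime := ⟨hp⟩
  have : FiniteDimensional L M := Module.finite_of_finrank_pos (hdeg ▸ hp.pos)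
  have hiBL : Function.Injective (algebraMap B L) := IsFractionRing.injective B L
  have hcL : CharP L p := charP_of_injective_ringHom (algebraMap K L).injective p
  have hcM : CharP M p := charP_of_injective_ringHom (algebraMap L M).injective p
  have hcB : CharP B p := (RingHom.charP_iff (algebraMap B L) hiBL p).2 hcL
  have : CharP (ResidueField B) p := (CharP.charP_iff_prime_eq_zero hp).2 (by
    rw [← map_natCast (residue B), CharP.cast_eq_zero, map_zero])
  obtain ⟨π, hπi⟩ := IsDiscreteValuationRing.exists_irreducible A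
  let πB := algebraMap A B π
  have hπB : Irreducible πB := (IsDiscreteValuationRing.irreducible_iff_uniformizer πB).2 (by
    rw [← hw, hπi.maximalIdeal_eq, Ideal.map_span, Set.image_singleton])
  have hπA0 : algebraMap A K π ≠ 0 :=
    (map_ne_zero_iff _ (IsFractionRing.injective A K)).2 hπi.ne_zero
  -- the Artin–Schreier parameter
  obtain ⟨z, hzL, ξ₀, hzξ⟩ := exists_generator_AS hp L M hdeg
  obtain ⟨n, hn, b₀, hb₀⟩ : ∃ n : ℕ, 0 < n ∧ ∃ b₀ : B,
      ξ₀ = algebraMap B L b₀ / algebraMap B L πB ^ n := by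
    obtain ⟨b, d, hd, rfl⟩ := IsFractionRing.div_surjective B ξ₀
    obtain ⟨j, u, rfl⟩ :=
      IsDiscreteValuationRing.eq_unit_mul_pow_irreducible (nonZeroDivisors.ne_zero hd) hπB
    refine ⟨j + 1, j.succ_pos, b * ↑u⁻¹ * πB, ?_⟩
    have hu : algebraMap B L (u : B) ≠ 0 := (map_ne_zero_iff _ hiBL).2 u.ne_zero
    have hu' : algebraMap B L (↑u⁻¹ : B) = (algebraMap B L (u : B))⁻¹ := by
      refine eq_inv_of_mul_eq_one_left ?_
      rw [← map_mul, Units.inv_mul, map_one]
    have hπ0 : algebraMap B L πB ≠ 0 := (map_ne_zero_iff _ hiBL).2 hπB.ne_zero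
    rw [map_mul, map_mul, map_mul, map_pow, hu', pow_succ]
    field_simp
  let P := p ^ n
  let M₀ := n * P
  have hM₀ : 0 < M₀ := Nat.mul_pos hn (pow_pos hp.pos n)
  obtain ⟨s, hsres, hsadd, hspow, hs0⟩ := ASNormal.exists_section p hπB hM₀
  have hssum : ∀ (t : Finset ℕ) (f : ℕ → ResidueField B),
      πB ^ M₀ ∣ s (∑ i ∈ t, f i) - ∑ i ∈ t, s (f i) := by
    intro t f
    induction t using Finset.induction_on with
    | empty => simpa using hs0
    | insert a t ha ih =>
      rw [Finset.sum_insert ha, Finset.sum_insert ha,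
        show s (f a + ∑ i ∈ t, f i) - (s (f a) + ∑ i ∈ t, s (f i)) =
          (s (f a + ∑ i ∈ t, f i) - (s (f a) + s (∑ i ∈ t, f i))) +
            (s (∑ i ∈ t, f i) - ∑ i ∈ t, s (f i)) by ring]
      exact dvd_add (hsadd _ _) ih
  -- expansion
  have hexp : ∀ j, ∃ (c : ℕ → ResidueField B) (r : B),
      b₀ = ∑ i ∈ Finset.range j, s (c i) * πB ^ i + πB ^ j * r := by
    intro j
    induction j with
    | zero => exact ⟨fun _ => 0, b₀, by simp⟩
    | succ j ih =>
      obtain ⟨c, r, hr⟩ := ih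
      obtain ⟨r', hr'⟩ : πB ∣ r - s (residue B r) := by
        rw [← Ideal.mem_span_singleton, ← hπB.maximalIdeal_eq, ← residue_eq_zero_iff, map_sub,
          hsres, sub_self]
      refine ⟨fun i => if i = j then residue B r else c i, r', ?_⟩
      rw [Finset.sum_range_succ, Finset.sum_congr rfl (fun i hi => by
        rw [if_neg (Finset.mem_range.1 hi).ne] :
        ∀ i ∈ Finset.range j, s (if i = j then residue B r else c i) * πB ^ i = s (c i) * πB ^ i)]
      simp only [if_true]
      rw [hr, pow_succ]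
      linear_combination πB ^ j * hr'
  obtain ⟨c, r₀, hr₀⟩ := hexp n
  let BL : Subring L := (algebraMap B L).range
  let πL := algebraMap B L πB
  have hπL0 : πL ≠ 0 := (map_ne_zero_iff _ hiBL).2 hπB.ne_zero
  have hdvd : ∀ {x y : B} {i : ℕ}, πB ^ M₀ ∣ x - y → i ≤ M₀ →
      ASNormal.Rel p BL (algebraMap B L x / πL ^ i) (algebraMap B L y / πL ^ i) := by
    intro x y i h hi
    obtain ⟨d, hd⟩ := h
    refine ASNormal.rel_of_mem ⟨πB ^ (M₀ - i) * d, ?_⟩
    rw [← sub_div, ← map_sub, hd, eq_div_iff (pow_ne_zero _ hπL0), map_mul, map_mul, map_pow,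
      map_pow, mul_right_comm, ← pow_add, Nat.sub_add_cancel hi]
  let rS : ℕ → ℕ := fun i => i / p ^ i.factorization p
  let S : Finset ℕ := (Finset.Icc 1 n).filter (fun r => ¬ p ∣ r)
  let Cr : ℕ → ResidueField B := fun r => ∑ i ∈ (Finset.Icc 1 n).filter (fun i => rS i = r),
    c (n - i) ^ p ^ (n - i.factorization p)
  have hSle : ∀ r ∈ S, r * P ≤ M₀ := fun r hr =>
    Nat.mul_le_mul_right P (Finset.mem_Icc.1 (Finset.mem_filter.1 hr).1).2
  have hξ₁ : ASNormal.Rel p BL ξ₀ (∑ r ∈ S, algebraMap B L (s (Cr r)) / πL ^ (r * P)) := by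
    have h1 : ASNormal.Rel p BL ξ₀ (∑ i ∈ Finset.Icc 1 n, algebraMap B L (s (c (n - i))) / πL ^ i) := by
      refine ASNormal.rel_of_mem ⟨r₀, ?_⟩
      rw [hb₀, hr₀, map_add, add_div, map_sum, Finset.sum_div, map_mul, map_pow,
        mul_div_cancel_left₀ _ (pow_ne_zero n hπL0), add_sub_right_comm, eq_comm, add_eq_right,
        sub_eq_zero]
      refine Finset.sum_bij' (fun i _ => n - i) (fun i _ => n - i) ?_ ?_ ?_ ?_ ?_
      · intro i hi; rw [Finset.mem_range] at hi; rw [Finset.mem_Icc]; omega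
      · intro i hi; rw [Finset.mem_Icc] at hi; rw [Finset.mem_range]; omega
      · intro i hi; rw [Finset.mem_range] at hi; omega
      · intro i hi; rw [Finset.mem_Icc] at hi; omega
      · intro i hi
        rw [Finset.mem_range] at hi
        rw [Nat.sub_sub_self hi.le, map_mul, map_pow, div_eq_div_iff (pow_ne_zero _ hπL0)
          (pow_ne_zero _ hπL0), mul_assoc, ← pow_add, Nat.add_sub_cancel' hi.le]
    refine h1.trans ?_
    rw [← Finset.sum_fiberwise_of_maps_to (s := Finset.Icc 1 n) (t := S) (g := rS) (fun i hi => by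
      rw [Finset.mem_Icc] at hi
      refine Finset.mem_filter.2 ⟨Finset.mem_Icc.2 ⟨Nat.ordCompl_pos p (by omega),
        (Nat.div_le_self _ _).trans hi.2⟩, Nat.not_dvd_ordCompl hp (by omega)⟩)
      (fun i => algebraMap B L (s (c (n - i))) / πL ^ i)]
    refine ASNormal.Rel.sum fun r hr => ?_
    refine ASNormal.Rel.trans ?_ ((hdvd (hssum _ _) (hSle r hr)).symm)
    rw [map_sum, Finset.sum_div]
    refine ASNormal.Rel.sum fun i hi => ?_
    obtain ⟨hi, hri⟩ := Finset.mem_filter.1 hi
    rw [Finset.mem_Icc] at hi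
    have he : i.factorization p ≤ n := by
      refine (Nat.le_of_lt (Nat.lt_pow_self hp.one_lt (n := i.factorization p))).trans ?_
      exact ((Nat.le_of_dvd (by omega) (Nat.ordProj_dvd i p)).trans hi.2)
    have hrP : r * P = i * p ^ (n - i.factorization p) := by
      calc r * P = rS i * (p ^ i.factorization p * p ^ (n - i.factorization p)) := by
            rw [hri, ← pow_add, Nat.add_sub_cancel' he]
        _ = p ^ i.factorization p * rS i * p ^ (n - i.factorization p) := by ring
        _ = i * p ^ (n - i.factorization p) := by rw [Nat.ordProj_mul_ordCompl_eq_self i p]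
    refine ASNormal.Rel.trans ?_ ((hdvd (hspow _ _) (hSle r hr)).symm)
    rw [map_pow, hrP, pow_mul, ← div_pow]
    exact (ASNormal.rel_pow _ _).symm
  -- the constants inside `κ_A`
  have hroot : ∀ (d : ResidueField A) (J : ℕ), ∃ d', d' ^ p ^ J = d := by
    intro d J
    obtain ⟨y, hy⟩ := (hk _).2 ⟨d, rfl⟩ J
    obtain ⟨d', rfl⟩ := (hk y).1 fun i => by
      obtain ⟨w, hw'⟩ := (hk _).2 ⟨d, rfl⟩ (i + J)
      refine ⟨w, iterateFrobenius_inj (ResidueField B) p J ?_⟩
      simp only [iterateFrobenius_def]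
      rw [hy, ← pow_mul, ← pow_add, hw']
    exact ⟨d', (algebraMap (ResidueField A) (ResidueField B)).injective (by rw [map_pow, hy])⟩
  let isA : ℕ → Prop := fun r => Cr r ∈ Set.range (algebraMap (ResidueField A) (ResidueField B))
  have hU : ∀ r, ∃ (D : ResidueField B) (k : ℕ),
      ¬ isA r → Cr r = D ^ p ^ k ∧ ∀ y, y ^ p ≠ D := by
    intro r
    by_cases h : isA r
    · exact ⟨0, 0, fun h' => absurd h h'⟩
    have h' : ∃ i, ¬ ∃ y : ResidueField B, y ^ p ^ i = Cr r := by
      by_contra h2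
      push Not at h2
      exact h ((hk _).1 h2)
    have hi0 : Nat.find h' ≠ 0 := fun h0 =>
      Nat.find_spec h' (h0.symm ▸ ⟨Cr r, by rw [pow_zero, pow_one]⟩)
    obtain ⟨k, hk'⟩ := Nat.exists_eq_succ_of_ne_zero hi0
    obtain ⟨D, hD⟩ := not_not.1 (Nat.find_min h' (m := k) (by omega))
    refine ⟨D, k, fun _ => ⟨hD.symm, fun y hy => Nat.find_spec h' ⟨y, ?_⟩⟩⟩
    rw [hk', Nat.succ_eq_add_one, pow_succ', pow_mul, hy, hD]
  choose D kk hDk using hU
  let N := 1 + S.sup kk
  let q := p ^ N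
  have hq : 1 < q := Nat.one_lt_pow (by omega) hp.one_lt
  let J := M₀ + (N + n)
  have hA : ∀ r, ∃ a : A, isA r → residue B (algebraMap A B a) ^ p ^ J = Cr r := by
    intro r
    by_cases h : isA r
    · obtain ⟨d, hd⟩ := h
      obtain ⟨d', hd'⟩ := hroot d J
      obtain ⟨a, rfl⟩ := residue_surjective d'
      refine ⟨a, fun _ => ?_⟩
      rw [← hd, ← hd', map_pow, ResidueField.algebraMap_residue]
    · exact ⟨0, fun h' => absurd h' h⟩
  choose a ha using hA
  let T : Finset ℕ := S.filter (fun r => isA r ∧ Cr r ≠ 0)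
  let U : Finset ℕ := S.filter (fun r => ¬ isA r)
  have hS0 : ∀ r ∈ S, 0 < r ∧ ¬ p ∣ r := fun r hr => by
    obtain ⟨h1, h2⟩ := Finset.mem_filter.1 hr
    exact ⟨(Finset.mem_Icc.1 h1).1, h2⟩
  -- the totally ramified extension
  let fK : K[X] := (InsepStep.eis q π (π ^ M₀)).map (algebraMap A K)
  have hfm : fK.Monic := (InsepStep.eis_monic hq _ _).map _
  have : Fact (Irreducible fK) := ⟨InsepStep.eis_irreducible K hq hπi _⟩
  let K₁ := AdjoinRoot fK
  have : CharP K₁ p := charP_of_injective_ringHom (algebraMap K K₁).injective p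
  have : FiniteDimensional K K₁ := (AdjoinRoot.powerBasis' hfm).finite
  let x₁ : K₁ := AdjoinRoot.root fK
  have hx₁ : x₁ ^ q = algebraMap A K₁ π * (algebraMap A K₁ (π ^ M₀) * x₁ + 1) := by
    refine InsepStep.eis_aeval ?_
    rw [← aeval_map_algebraMap K, AdjoinRoot.aeval_eq, AdjoinRoot.mk_self]
  have hsep₁ : Algebra.IsSeparable K K₁ := by
    have hsepK : fK.Separable := by
      have hc0 : algebraMap A K π * algebraMap A K (π ^ M₀) ≠ 0 := by
        rw [map_pow]; exact mul_ne_zero hπA0 (pow_ne_zero _ hπA0)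
      refine (separable_def' fK).2 ⟨0, -Polynomial.C (algebraMap A K π * algebraMap A K (π ^ M₀))⁻¹, ?_⟩
      have hq0 : ((q : ℕ) : K) = 0 := by
        rw [Nat.cast_pow, CharP.cast_eq_zero, zero_pow (by omega : N ≠ 0)]
      rw [zero_mul, zero_add]
      simp only [fK, InsepStep.eis_map]
      simp only [InsepStep.eis, derivative_sub, derivative_X_pow, hq0, Polynomial.C_0, zero_mul,
        derivative_add, derivative_mul, derivative_C, derivative_X, mul_one, zero_add, add_zero,
        zero_sub, neg_mul, mul_neg, neg_neg, ← Polynomial.C_mul, inv_mul_cancel₀ hc0, Polynomial.C_1]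
    have htop : IntermediateField.adjoin K {x₁} = ⊤ := by
      refine IntermediateField.toSubfield_injective ?_
      exact InsepStep.subfield_eq_top_of_adjoinRoot _
        (fun k => IntermediateField.algebraMap_mem _ k) (IntermediateField.mem_adjoin_simple_self K x₁)
    have hsx : IsSeparable K x₁ := hsepK.of_dvd (minpoly.dvd K x₁ (by
      rw [AdjoinRoot.aeval_eq, AdjoinRoot.mk_self]))
    have := (IntermediateField.isSeparable_adjoin_simple_iff_isSeparable K K₁).2 hsx
    exact AlgEquiv.Algebra.isSeparable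
      ((IntermediateField.equivOfEq htop).trans IntermediateField.topEquiv)
  -- the Artin–Schreier extension killing the part in `κ_A`
  let η : K₁ := ∑ r ∈ T, algebraMap A K₁ (a r ^ p ^ M₀) / x₁ ^ r
  let Ω := AlgebraicClosure K₁
  have : CharP Ω p := charP_of_injective_ringHom (algebraMap K₁ Ω).injective p
  obtain ⟨θ₀, hθ₀, hθT⟩ : ∃ θ : Ω, θ ^ p - θ = algebraMap K₁ Ω η ∧ (T = ∅ → θ = 0) := by
    by_cases hT : T = ∅
    · refine ⟨0, ?_, fun _ => rfl⟩
      simp [η, hT, zero_pow hp.ne_zero]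
    have hdeg' : (Polynomial.X + Polynomial.C (algebraMap K₁ Ω η)).degree < (p : WithBot ℕ) := by
      rw [degree_X_add_C]; exact WithBot.coe_lt_coe.2 hp.one_lt
    obtain ⟨θ, hθ⟩ := IsAlgClosed.exists_root
      (Polynomial.X ^ p - (Polynomial.X + Polynomial.C (algebraMap K₁ Ω η)))
      (by rw [degree_sub_eq_left_of_degree_lt (by rwa [degree_X_pow]), degree_X_pow]
          exact Nat.cast_ne_zero.2 hp.ne_zero)
    refine ⟨θ, ?_, fun h => absurd h hT⟩
    simp only [IsRoot.def, eval_sub, eval_add, eval_pow, eval_X, eval_C] at hθ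
    linear_combination hθ
  let E₂ : IntermediateField K₁ Ω := IntermediateField.adjoin K₁ {θ₀}
  let f₂ : K₁[X] := Polynomial.X ^ p - (Polynomial.X + Polynomial.C η)
  have hf₂m : f₂.Monic := monic_X_pow_sub (by
    rw [degree_X_add_C]; exact WithBot.coe_lt_coe.2 hp.one_lt)
  have hf₂0 : aeval θ₀ f₂ = 0 := by
    simp only [f₂, map_sub, map_add, map_pow, aeval_X, aeval_C]
    linear_combination hθ₀
  have hint₂ : IsIntegral K₁ θ₀ := ⟨f₂, hf₂m, hf₂0⟩
  have : FiniteDimensional K₁ E₂ := IntermediateField.adjoin.finiteDimensional hint₂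
  have hsep₂ : Algebra.IsSeparable K₁ E₂ := by
    refine (IntermediateField.isSeparable_adjoin_simple_iff_isSeparable K₁ Ω).2
      (Polynomial.Separable.of_dvd ?_ (minpoly.dvd K₁ θ₀ hf₂0))
    exact (separable_def' f₂).2 ⟨0, -1, by simp [f₂, derivative_X_pow, CharP.cast_eq_zero]⟩
  let θ : E₂ := IntermediateField.AdjoinSimple.gen K₁ θ₀
  have hθ : θ ^ p - θ = algebraMap K₁ E₂ η := by
    apply (algebraMap E₂ Ω).injective
    rw [map_sub, map_pow, ← IsScalarTower.algebraMap_apply K₁ E₂ Ω]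
    exact hθ₀
  -- exponents of the uniformizer
  obtain ⟨α, β, s₂, r₁, hTcase⟩ : ∃ α β s₂ r₁ : ℕ, (T = ∅ ∧ α = 1 ∧ β = 0 ∧ s₂ = 1) ∨
      (r₁ ∈ T ∧ (∀ r ∈ T, r ≤ r₁) ∧ α * p = β * r₁ + 1 ∧ s₂ = p) := by
    by_cases hT : T = ∅
    · exact ⟨1, 0, 1, 0, Or.inl ⟨hT, rfl, rfl, rfl⟩⟩
    obtain ⟨r₁, hr₁, hmax⟩ := Finset.exists_max_image T id (Finset.nonempty_iff_ne_empty.2 hT)
    have hr₁' : (r₁ : ZMod p) ≠ 0 := by
      rw [Ne, ZMod.natCast_eq_zero_iff]
      exact (hS0 r₁ (Finset.mem_filter.1 hr₁).1).2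
    let β : ℕ := (-(r₁ : ZMod p)⁻¹).val
    have hdvd' : p ∣ β * r₁ + 1 := by
      rw [← ZMod.natCast_eq_zero_iff, Nat.cast_add, Nat.cast_mul, ZMod.natCast_val,
        ZMod.cast_id, Nat.cast_one, neg_mul, inv_mul_cancel₀ hr₁', neg_add_cancel]
    obtain ⟨α, hα⟩ := hdvd'
    exact ⟨α, β, p, r₁, Or.inr ⟨hr₁, hmax, by rw [hα, mul_comm], rfl⟩⟩
  -- local analysis over a field with uniformizer `x'`
  have step₂ : ∀ {F G : Type u} [Field F] [Field G] [Algebra F G] (φ : K₁ →+* F)
      (V : ValuationSubring F) [IsDiscreteValuationRing V] (W : ValuationSubring G),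
      IsUnif V (φ x₁) → (∀ a : A, φ (algebraMap A K₁ a) ∈ V) →
      (∀ a : A, IsUnit a → V.valuation (φ (algebraMap A K₁ a)) = 1) →
      ∀ w : G, w ^ p - w = algebraMap F G (φ η) → (T = ∅ → w = 0) →
        IntermediateField.adjoin F {w} = ⊤ → W.comap (algebraMap F G) = V →
        IsUnif W (algebraMap F G (φ x₁) ^ α * w ^ β) ∧
          W.valuation (algebraMap F G (φ x₁) ^ α * w ^ β) ^ s₂ =
            W.valuation (algebraMap F G (φ x₁)) ∧
          (∀ g ∈ W, ∃ f ∈ V, W.valuation (g - algebraMap F G f) < 1) ∧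
          ∀ W' : ValuationSubring G, W'.comap (algebraMap F G) = V → W' = W := by
    intro F G _ _ _ φ V _ W hx hA' hA'' w hwη hw0 hgen hW
    rcases hTcase with ⟨hT, rfl, rfl, rfl⟩ | ⟨hr₁, hmax, hαβ, hs₂e⟩
    · have hsurj : Function.Surjective (algebraMap F G) := fun g => by
        have hg : g ∈ IntermediateField.adjoin F {w} := hgen ▸ IntermediateField.mem_top
        rw [hw0 hT, IntermediateField.adjoin_zero, IntermediateField.mem_bot] at hg
        exact hg
      rw [pow_zero, mul_one, pow_one, pow_one]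
      refine ⟨⟨(dominates_of_comap hW).2 _ ((V.valuation_lt_one_iff ⟨_, hx.mem⟩).2 hx.1),
        fun g hg => ?_⟩, rfl, fun g hg => ?_, fun W' hW' => ?_⟩
      · obtain ⟨f, rfl⟩ := hsurj g
        have hf : f ∈ V := hW ▸ ((W.valuation_le_one_iff _).1 hg.le :)
        have hf' : V.valuation f < 1 := by
          by_contra h
          have h1 : IsUnit (⟨f, hf⟩ : V) :=
            (V.valuation_eq_one_iff _).2 (le_antisymm ((V.valuation_le_one_iff f).2 hf) (not_lt.1 h))
          have hdom := dominates_of_comap hW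
          have := h1.map (RingHom.codRestrict _ W hdom.1)
          exact absurd ((W.valuation_eq_one_iff _).1 this) hg.ne
        obtain ⟨d, hd, rfl⟩ := hx.2 f hf'
        exact ⟨algebraMap F G d, (dominates_of_comap hW).1 ⟨d, hd⟩, map_mul _ _ _⟩
      · obtain ⟨f, rfl⟩ := hsurj g
        exact ⟨f, hW ▸ hg, by rw [sub_self, map_zero]; exact zero_lt_one⟩
      · ext g
        obtain ⟨f, rfl⟩ := hsurj g
        rw [← ValuationSubring.mem_comap, ← ValuationSubring.mem_comap, hW, hW']
    · have hr₁S := hS0 r₁ (Finset.mem_filter.1 hr₁).1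
      rw [hs₂e]
      refine as_ramified hp hx hr₁S.1 hr₁S.2 ?_ hwη hgen hαβ hW
      obtain ⟨-, hAr, hC⟩ := Finset.mem_filter.1 hr₁
      have hu : IsUnit (a r₁) := by
        by_contra hu
        refine hC ?_
        rw [← ha r₁ hAr, (residue_eq_zero_iff _).2 ((map_mem_nonunits_iff (algebraMap A B) _).2 hu),
          zero_pow (pow_ne_zero _ hp.ne_zero)]
      have hx0 : φ x₁ ≠ 0 := fun h => hx.valuation_ne_zero (by rw [h, map_zero])
      simp only [η, map_sum, map_div₀, map_pow, Finset.sum_mul]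
      rw [← Finset.add_sum_erase _ _ hr₁, div_mul_cancel₀ _ (pow_ne_zero _ hx0)]
      have h1 : V.valuation (φ (algebraMap A K₁ (a r₁)) ^ p ^ M₀) = 1 := by
        rw [map_pow, hA'' _ hu, one_pow]
      rw [Valuation.map_add_eq_of_lt_left, h1]
      rw [h1]
      refine Valuation.map_sum_lt _ one_ne_zero fun r hr => ?_
      obtain ⟨hne, hrT⟩ := Finset.mem_erase.1 hr
      have hlt : r < r₁ := lt_of_le_of_ne (hmax r hrT) hne
      obtain ⟨d, rfl⟩ := Nat.exists_eq_add_of_lt hlt
      rw [pow_add, pow_add, pow_one, mul_assoc, div_mul_eq_mul_div, mul_left_comm,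
        mul_div_cancel_left₀ _ (pow_ne_zero _ hx0), map_mul, map_mul, map_pow, map_pow]
      exact lt_of_le_of_lt (mul_le_of_le_one_left'
        (pow_le_one' ((V.valuation_le_one_iff _).2 (hA' _)) _))
        (lt_of_le_of_lt (mul_le_of_le_one_left' (pow_le_one' hx.1.le _)) hx.1)
  -- the unique valuation ring of `K₁`
  have hinjA : Function.Injective (algebraMap A K₁) := by
    rw [IsScalarTower.algebraMap_eq A K K₁]
    exact (algebraMap K K₁).injective.comp (IsFractionRing.injective A K)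
  have hgen₁ : Subfield.closure (Set.range (algebraMap A K₁) ∪ {x₁}) = ⊤ := by
    refine InsepStep.subfield_eq_top_of_adjoinRoot _ (fun k => ?_)
      (Subfield.subset_closure (Or.inr rfl))
    obtain ⟨a', b', -, rfl⟩ := IsFractionRing.div_surjective A k
    rw [map_div₀, ← IsScalarTower.algebraMap_apply, ← IsScalarTower.algebraMap_apply]
    exact div_mem (Subfield.subset_closure (Or.inl ⟨a', rfl⟩))
      (Subfield.subset_closure (Or.inl ⟨b', rfl⟩))
  obtain ⟨⟨V₁, hV₁⟩, huniq₁⟩ := InsepStep.root_order (m := M₀) hinjA hq hπi hx₁ hgen₁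
  obtain ⟨-, -, hvx₁, hdiv₁, hres₁⟩ := huniq₁ V₁ hV₁
  have : IsDiscreteValuationRing V₁ := isDiscreteValuationRing_of_dominates A K K₁
    (by rwa [← IsScalarTower.algebraMap_eq])
  have hunitA : ∀ {F : Type u} [Field F] (W : ValuationSubring F) (g : A →+* F),
      (∀ a, g a ∈ W) → ∀ a : A, IsUnit a → W.valuation (g a) = 1 := by
    intro F _ W g hg a' ha'
    exact (W.valuation_eq_one_iff ⟨g a', hg a'⟩).1 (ha'.map (RingHom.codRestrict g W hg))
  refine ⟨E₂, inferInstance, inferInstance, FiniteDimensional.trans K K₁ E₂,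
    Algebra.IsSeparable.trans K K₁ E₂, ?_, ?_⟩
  · -- totally ramified
    have htopE : IntermediateField.adjoin K₁ {θ} = ⊤ := by
      apply IntermediateField.map_injective E₂.val
      rw [IntermediateField.adjoin_map, Set.image_singleton, ← AlgHom.fieldRange_eq_map,
        IntermediateField.fieldRange_val]
      rfl
    have hθ0 : T = ∅ → θ = 0 := fun hT => Subtype.ext (hθT hT)
    have hgA : (algebraMap K E₂).comp (algebraMap A K) =
        (algebraMap K₁ E₂).comp (algebraMap A K₁) := by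
      rw [IsScalarTower.algebraMap_eq K K₁ E₂, RingHom.comp_assoc,
        ← IsScalarTower.algebraMap_eq A K K₁]
    have hres : ∀ W : ValuationSubring E₂,
        Dominates A ((algebraMap K₁ E₂).comp (algebraMap A K₁)) W →
        W.comap (algebraMap K₁ E₂) = V₁ ∧ ∀ g ∈ W, ∃ a' : A,
          W.valuation (g - algebraMap K₁ E₂ (algebraMap A K₁ a')) < 1 := by
      intro W hW
      have h1 := dominates_comp_iff.1 hW
      have hc : W.comap (algebraMap K₁ E₂) = V₁ :=
        ValuationSubring.toSubring_injective ((huniq₁ _ h1).1.trans (huniq₁ _ hV₁).1.symm)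
      refine ⟨hc, fun g hg => ?_⟩
      obtain ⟨-, -, hr, -⟩ := step₂ (RingHom.id K₁) V₁ W ⟨hvx₁, hdiv₁⟩ hV₁.1
        (hunitA V₁ _ hV₁.1) θ hθ hθ0 htopE hc
      obtain ⟨f, hf, hgf⟩ := hr g hg
      obtain ⟨a', ha'⟩ := hres₁ f hf
      refine ⟨a', ?_⟩
      have h2 : W.valuation (algebraMap K₁ E₂ (f - algebraMap A K₁ a')) < 1 :=
        (dominates_of_comap hc).2 _ ((V₁.valuation_lt_one_iff
          ⟨_, (V₁.valuation_le_one_iff _).1 ha'.le⟩).2 ha')
      rw [show g - algebraMap K₁ E₂ (algebraMap A K₁ a') = (g - algebraMap K₁ E₂ f) +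
        algebraMap K₁ E₂ (f - algebraMap A K₁ a') by rw [map_sub]; ring]
      exact Valuation.map_add_lt _ hgf h2
    rw [hgA]
    refine ⟨?_, fun W W' hW hW' => ?_, fun W hW => fun r => ?_⟩
    · obtain ⟨W, hW⟩ := exists_comap_eq V₁ (algebraMap K₁ E₂)
      exact ⟨W, dominates_comp_iff.2 (hW ▸ hV₁)⟩
    · obtain ⟨-, -, -, hu⟩ := step₂ (RingHom.id K₁) V₁ W ⟨hvx₁, hdiv₁⟩ hV₁.1
        (hunitA V₁ _ hV₁.1) θ hθ hθ0 htopE (hres W hW).1
      exact (hu W' (hres W' hW').1).symm
    · obtain ⟨g, rfl⟩ := residue_surjective r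
      obtain ⟨a', ha'⟩ := (hres W hW).2 (g : E₂) g.2
      refine ⟨a', ?_⟩
      show residue W _ = residue W g
      rw [eq_comm, ← sub_eq_zero, ← map_sub, residue_eq_zero_iff]
      exact (W.valuation_lt_one_iff _).2 ha'
  -- weak solution
  intro E _ _ _ _ _ _ hadj W hW
  have : CharP E p := charP_of_injective_ringHom (algebraMap M E).injective p
  let _ : Algebra L E := ((algebraMap M E).comp (algebraMap L M)).toAlgebra
  let _ : Algebra B E := ((algebraMap L E).comp (algebraMap B L)).toAlgebra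
  have : IsScalarTower B L E := IsScalarTower.of_algebraMap_eq fun _ => rfl
  let φ : K₁ →+* E := (algebraMap E₂ E).comp (algebraMap K₁ E₂)
  have hAE : ∀ a' : A, φ (algebraMap A K₁ a') = algebraMap B E (algebraMap A B a') := by
    intro a'
    show algebraMap E₂ E (algebraMap K₁ E₂ (algebraMap A K₁ a')) =
      algebraMap M E (algebraMap L M (algebraMap B L (algebraMap A B a')))
    rw [← IsScalarTower.algebraMap_apply A B L, IsScalarTower.algebraMap_apply A K L,
      ← IsScalarTower.algebraMap_apply K L M, ← IsScalarTower.algebraMap_apply K M E,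
      IsScalarTower.algebraMap_apply A K K₁, ← IsScalarTower.algebraMap_apply K K₁ E₂,
      ← IsScalarTower.algebraMap_apply K E₂ E]
  let xE := φ x₁
  let wE := algebraMap E₂ E θ
  let zE := algebraMap M E z
  have hxE : xE ^ q = algebraMap B E πB * (algebraMap B E (πB ^ M₀) * xE + 1) := by
    rw [← map_pow, hx₁, map_mul, map_add, map_mul, map_one, hAE, hAE, map_pow]
  have hBEinj : Function.Injective (algebraMap B E) :=
    (algebraMap M E).injective.comp ((algebraMap L M).injective.comp hiBL)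
  have hWB : Dominates B (algebraMap B E) W := by
    have hBC' : ∀ b : B, algebraMap B E b = algebraMap M E (algebraMap C M (algebraMap B C b)) :=
      fun b => by
        show algebraMap M E (algebraMap L M (algebraMap B L b)) = _
        rw [← IsScalarTower.algebraMap_apply B L M, ← IsScalarTower.algebraMap_apply B C M]
    exact ⟨fun b => hBC' b ▸ hW.1 _, fun b hb => hBC' b ▸ hW.2 _
      ((mem_maximalIdeal _).2 fun hu' => (mem_maximalIdeal b).1 hb
        ((isUnit_map_iff (algebraMap B C) b).1 hu'))⟩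
  -- `F₁ = L(x)`
  let F₁ : IntermediateField L E := IntermediateField.adjoin L {xE}
  have hxint : IsIntegral L xE :=
    (InsepStep.isIntegral_root hq hxE).tower_top
  have : FiniteDimensional L F₁ := IntermediateField.adjoin.finiteDimensional hxint
  have : IsScalarTower B L F₁ := IsScalarTower.of_algebraMap_eq fun b => rfl
  have : CharP F₁ p := charP_of_injective_ringHom (algebraMap L F₁).injective p
  let W₁ := W.comap (algebraMap F₁ E)
  have hW₁ : Dominates B (algebraMap B F₁) W₁ := dominates_comp_iff.1 (hWB :)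
  have : IsDiscreteValuationRing W₁ := isDiscreteValuationRing_of_dominates B L F₁
    (by rwa [← IsScalarTower.algebraMap_eq])
  let x' : F₁ := ⟨xE, IntermediateField.mem_adjoin_simple_self L xE⟩
  have hx' : x' ^ q = algebraMap B F₁ πB * (algebraMap B F₁ (πB ^ M₀) * x' + 1) :=
    Subtype.ext hxE
  have hgenF : Subfield.closure (Set.range (algebraMap B F₁) ∪ {x'}) = ⊤ := by
    refine subfield_adjoin_eq_top xE _ (fun l => ?_) (Subfield.subset_closure (Or.inr rfl))
    obtain ⟨a', b', -, rfl⟩ := IsFractionRing.div_surjective B l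
    rw [map_div₀, ← IsScalarTower.algebraMap_apply, ← IsScalarTower.algebraMap_apply]
    exact div_mem (Subfield.subset_closure (Or.inl ⟨a', rfl⟩))
      (Subfield.subset_closure (Or.inl ⟨b', rfl⟩))
  obtain ⟨-, huniqF⟩ := InsepStep.root_order (m := M₀)
    (fun b b' h => hBEinj (congrArg Subtype.val h)) hq hπB hx' hgenF
  obtain ⟨-, -, hvx', hdiv', hres'⟩ := huniqF W₁ hW₁
  -- `φ` lands in `F₁`
  have hφF : ∀ y : K₁, φ y ∈ F₁ := by
    intro y
    have h := InsepStep.subfield_eq_top_of_adjoinRoot (F₁.toSubfield.comap φ) (fun k => ?_)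
      (IntermediateField.mem_adjoin_simple_self L xE)
    · have hy : y ∈ F₁.toSubfield.comap φ := h ▸ Subfield.mem_top y
      exact hy
    · show algebraMap E₂ E (algebraMap K₁ E₂ (algebraMap K K₁ k)) ∈ F₁
      rw [← IsScalarTower.algebraMap_apply K K₁ E₂, ← IsScalarTower.algebraMap_apply K E₂ E,
        IsScalarTower.algebraMap_apply K M E, IsScalarTower.algebraMap_apply K L M]
      exact IntermediateField.algebraMap_mem F₁ (algebraMap K L k)
  let φ₁ : K₁ →+* F₁ := φ.codRestrict F₁ hφF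
  have hAF : ∀ a' : A, φ₁ (algebraMap A K₁ a') = algebraMap B F₁ (algebraMap A B a') :=
    fun a' => Subtype.ext (hAE a')
  let πF := algebraMap B F₁ πB
  have hπF : W₁.valuation πF < 1 := hW₁.2 _ (hπB.maximalIdeal_eq.ge (Ideal.mem_span_singleton_self _))
  have hπF0 : πF ≠ 0 := fun h => hπB.ne_zero (hBEinj (by
    rw [map_zero]; exact congrArg Subtype.val h))
  have hxF : x' ^ q = πF * (πF ^ M₀ * x' + 1) := by rw [hx', map_pow]
  have hexch : ∀ {b b' : B} {i : ℕ}, πB ^ M₀ ∣ b - b' → i ≤ M₀ → ASNormal.Rel p W₁.toSubring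
      (algebraMap B F₁ b / πF ^ i) (algebraMap B F₁ b' / x' ^ (q * i)) := by
    intro b b' i hb hi
    obtain ⟨d, hd⟩ := hb
    exact ASNormal.rel_of_mem (exch W₁ hi hπF hπF0 hvx' hxF (hW₁.1 b') (hW₁.1 d)
      (by rw [← map_sub, hd, map_mul, map_pow]))
  let ξ₂ : F₁ := ∑ r ∈ U, algebraMap B F₁ (s (D r)) / x' ^ (r * p ^ (n + N - kk r))
  have hkN : ∀ r ∈ S, kk r < N := fun r hr => by
    have := Finset.le_sup (f := kk) hr
    omega
  have hrel : ASNormal.Rel p W₁.toSubring (algebraMap L F₁ ξ₀) (φ₁ η + ξ₂) := by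
    have h0 := hξ₁.map (R' := W₁.toSubring) (algebraMap L F₁) (fun b hb => by
      obtain ⟨b, rfl⟩ := hb; exact hW₁.1 b)
    refine h0.trans ?_
    have hsplit : ∀ r ∈ S, ASNormal.Rel p W₁.toSubring
        (algebraMap L F₁ (algebraMap B L (s (Cr r)) / πL ^ (r * P)))
        ((if isA r ∧ Cr r ≠ 0 then φ₁ (algebraMap A K₁ (a r ^ p ^ M₀)) / x' ^ r else 0) +
          if ¬ isA r then algebraMap B F₁ (s (D r)) / x' ^ (r * p ^ (n + N - kk r)) else 0) := by
      intro r hr
      rw [map_div₀, map_pow, ← IsScalarTower.algebraMap_apply B L F₁,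
        ← IsScalarTower.algebraMap_apply B L F₁]
      by_cases hAr : isA r
      · rw [if_neg (not_not.2 hAr), add_zero]
        by_cases hC : Cr r = 0
        · rw [if_neg (fun h => h.2 hC), hC]
          have h := hexch (b := s 0) (b' := 0) (by rwa [sub_zero]) (hSle r hr)
          rwa [map_zero, zero_div] at h
        rw [if_pos ⟨hAr, hC⟩, hAF, map_pow]
        have hdv : πB ^ M₀ ∣ s (Cr r) - algebraMap A B (a r) ^ p ^ J := by
          obtain ⟨v, hv⟩ : πB ∣ s (residue B (algebraMap A B (a r))) - algebraMap A B (a r) := by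
            rw [← Ideal.mem_span_singleton, ← hπB.maximalIdeal_eq, ← residue_eq_zero_iff, map_sub,
              hsres, sub_self]
          rw [← ha r hAr, show s (residue B (algebraMap A B (a r)) ^ p ^ J) - algebraMap A B (a r) ^ p ^ J =
            (s (residue B (algebraMap A B (a r)) ^ p ^ J) -
              s (residue B (algebraMap A B (a r))) ^ p ^ J) +
            (s (residue B (algebraMap A B (a r))) - algebraMap A B (a r)) ^ p ^ J by
              rw [sub_pow_char_pow]; ring]
          refine dvd_add (hspow _ _) ?_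
          rw [hv, mul_pow]
          refine Dvd.dvd.mul_right (pow_dvd_pow _ ?_) _
          exact (Nat.le_add_right M₀ (N + n)).trans (Nat.lt_pow_self hp.one_lt).le
        refine (hexch hdv (hSle r hr)).trans ?_
        have he : algebraMap B F₁ (algebraMap A B (a r) ^ p ^ J) / x' ^ (q * (r * P)) =
            (algebraMap B F₁ (algebraMap A B (a r)) ^ p ^ M₀ / x' ^ r) ^ p ^ (N + n) := by
          rw [div_pow, ← pow_mul, ← pow_mul, map_pow, ← pow_add]
          congr 2
          show p ^ N * (r * p ^ n) = r * p ^ (N + n)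
          rw [pow_add]; ring
        rw [he, map_pow (algebraMap B F₁) (algebraMap A B (a r)) (p ^ M₀)]
        exact ASNormal.rel_pow _ _
      · rw [if_neg (fun h => hAr h.1), zero_add, if_pos hAr]
        obtain ⟨hD, -⟩ := hDk r hAr
        have hdv : πB ^ M₀ ∣ s (Cr r) - s (D r) ^ p ^ kk r := by rw [hD]; exact hspow _ _
        refine (hexch hdv (hSle r hr)).trans ?_
        have he : algebraMap B F₁ (s (D r) ^ p ^ kk r) / x' ^ (q * (r * P)) =
            (algebraMap B F₁ (s (D r)) / x' ^ (r * p ^ (n + N - kk r))) ^ p ^ kk r := by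
          rw [div_pow, ← pow_mul, map_pow]
          congr 2
          show p ^ N * (r * p ^ n) = r * p ^ (n + N - kk r) * p ^ kk r
          have := hkN r hr
          rw [mul_assoc r, ← pow_add, Nat.sub_add_cancel (by omega), pow_add]
          ring
        rw [he]
        exact ASNormal.rel_pow _ _
    rw [map_sum]
    refine (ASNormal.Rel.sum hsplit).trans ?_
    rw [Finset.sum_add_distrib, ← Finset.sum_filter, ← Finset.sum_filter]
    simp only [η, map_sum, map_div₀, map_pow, ξ₂, T, U]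
    exact ASNormal.rel_refl _
  obtain ⟨g, bb, hbb, hg⟩ := hrel
  -- `F₂ = F₁(w)`
  let F₂ : IntermediateField F₁ E := IntermediateField.adjoin F₁ {wE}
  have hwE : wE ^ p - wE = algebraMap F₁ E (φ₁ η) := by
    rw [← map_pow, ← map_sub, hθ]; rfl
  have hwint : IsIntegral F₁ wE := by
    refine ⟨Polynomial.X ^ p - (Polynomial.X + Polynomial.C (φ₁ η)), monic_X_pow_sub (by
      rw [degree_X_add_C]; exact WithBot.coe_lt_coe.2 hp.one_lt), ?_⟩
    rw [eval₂_sub, eval₂_add, eval₂_X_pow, eval₂_X, eval₂_C]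
    linear_combination hwE
  have : FiniteDimensional F₁ F₂ := IntermediateField.adjoin.finiteDimensional hwint
  have : CharP F₂ p := charP_of_injective_ringHom (algebraMap F₁ F₂).injective p
  let W₂ := W.comap (algebraMap F₂ E)
  have hW₂c : W₂.comap (algebraMap F₁ F₂) = W₁ := rfl
  have : IsDiscreteValuationRing W₂ :=
    isDiscreteValuationRing_of_dominates W₁ F₁ F₂ (dominates_of_comap hW₂c)
  let w' : F₂ := IntermediateField.AdjoinSimple.gen F₁ wE
  have hw'gen : IntermediateField.adjoin F₁ {w'} = ⊤ := by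
    apply IntermediateField.map_injective F₂.val
    rw [IntermediateField.adjoin_map, Set.image_singleton, ← AlgHom.fieldRange_eq_map,
      IntermediateField.fieldRange_val]
    rfl
  obtain ⟨hu₂, hs₂, hres₂, -⟩ := step₂ φ₁ W₁ W₂ ⟨hvx', hdiv'⟩ (fun a' => hAF a' ▸ hW₁.1 _)
    (hunitA W₁ (φ₁.comp (algebraMap A K₁)) (fun a' => hAF a' ▸ hW₁.1 _))
    w' (Subtype.ext hwE) (fun hT => Subtype.ext (by
      show algebraMap E₂ E θ = 0
      rw [show θ = 0 from Subtype.ext (hθT hT), map_zero])) hw'gen hW₂c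
  let x₂ : F₂ := algebraMap F₁ F₂ x' ^ α * w' ^ β
  -- `E = F₂(z')`
  let ξ₃ : F₁ := ξ₂ + bb
  let zE' : E := zE - algebraMap F₁ E g - wE
  have hzE' : zE' ^ p - zE' = algebraMap F₂ E (algebraMap F₁ F₂ ξ₃) := by
    rw [← IsScalarTower.algebraMap_apply F₁ F₂ E, sub_pow_char, sub_pow_char]
    have hz' : zE ^ p - zE = algebraMap F₁ E (algebraMap L F₁ ξ₀) := by
      rw [← map_pow, ← map_sub, hzξ]; rfl
    have hg' := congrArg (algebraMap F₁ E) hg
    simp only [map_sub, map_add, map_pow] at hg'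
    simp only [ξ₃, map_add]
    linear_combination hz' - hwE + hg'
  have hgenE : IntermediateField.adjoin F₂ {zE'} = ⊤ := by
    let S' := (IntermediateField.adjoin F₂ {zE'}).toSubfield
    have hF₂ : ∀ y ∈ F₂, y ∈ S' := fun y hy =>
      IntermediateField.algebraMap_mem (IntermediateField.adjoin F₂ {zE'}) ⟨y, hy⟩
    have hF₁ : ∀ y : F₁, (y : E) ∈ S' := fun y => hF₂ _ (F₂.algebraMap_mem y)
    have hzS : zE ∈ S' := by
      have : zE = zE' + algebraMap F₁ E g + wE := by simp only [zE']; ring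
      rw [this]
      exact add_mem (add_mem (IntermediateField.mem_adjoin_simple_self F₂ zE') (hF₁ g))
        (hF₂ _ (IntermediateField.mem_adjoin_simple_self F₁ wE))
    have hM' := InsepStep.subfield_eq_top_of_prime hp hdeg (S'.comap (algebraMap M E))
      (fun l => hF₁ (algebraMap L F₁ l)) hzS hzL
    have hE₂ : ∀ y : E₂, algebraMap E₂ E y ∈ S' := by
      have h := subfield_adjoin_eq_top θ₀ (S'.comap (algebraMap E₂ E)) (fun k => hF₁ (φ₁ k))
        (hF₂ _ (IntermediateField.mem_adjoin_simple_self F₁ wE))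
      intro y
      have hy : y ∈ S'.comap (algebraMap E₂ E) := h ▸ Subfield.mem_top y
      exact hy
    refine eq_top_iff.2 fun y _ => ?_
    have hy : y ∈ Algebra.adjoin M (Set.range (algebraMap E₂ E)) := hadj ▸ Algebra.mem_top
    induction hy using Algebra.adjoin_induction with
    | mem z hz => obtain ⟨z, rfl⟩ := hz; exact hE₂ z
    | algebraMap m =>
      have hm : m ∈ S'.comap (algebraMap M E) := hM' ▸ Subfield.mem_top m
      exact hm
    | add _ _ _ _ h1 h2 => exact add_mem (h1 trivial) (h2 trivial)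
    | mul _ _ _ _ h1 h2 => exact mul_mem (h1 trivial) (h2 trivial)
  have hkey : IsUnif W (algebraMap F₂ E x₂) := by
    by_cases hUe : U = ∅
    · refine as_unram hp hu₂ (ξ := algebraMap F₁ F₂ ξ₃) ?_ hzE' hgenE rfl
      refine (dominates_of_comap hW₂c).1 ⟨ξ₃, ?_⟩
      simp only [ξ₃, ξ₂, hUe, Finset.sum_empty, zero_add]
      exact hbb
    obtain ⟨r₂, hr₂, hmax⟩ := Finset.exists_max_image U (fun r => r * p ^ (n + N - kk r))
      (Finset.nonempty_iff_ne_empty.2 hUe)
    obtain ⟨hr₂S, hr₂A⟩ := Finset.mem_filter.1 hr₂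
    have := hkN r₂ hr₂S
    obtain ⟨d, hd⟩ : ∃ d, n + N - kk r₂ = d + 1 := ⟨n + N - kk r₂ - 1, by omega⟩
    let k' := r₂ * p ^ d
    have he₀ : r₂ * p ^ (n + N - kk r₂) = p * k' := by rw [hd, pow_succ]; ring
    have hk'0 : 0 < k' := Nat.mul_pos (hS0 r₂ hr₂S).1 (pow_pos hp.pos _)
    let a₁ : F₁ := ξ₃ * x' ^ (p * k')
    have hx'0 : x' ≠ 0 := fun h => IsUnif.valuation_ne_zero (W := W₁) (x := x') ⟨hvx', hdiv'⟩
      (by rw [h, map_zero])
    have ha₁ : W₁.valuation (a₁ - algebraMap B F₁ (s (D r₂))) < 1 := by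
      simp only [a₁, ξ₃, ξ₂, add_mul, Finset.sum_mul]
      rw [← Finset.add_sum_erase _ _ hr₂, he₀, div_mul_cancel₀ _ (pow_ne_zero _ hx'0),
        add_assoc, add_sub_cancel_left]
      have hpk : 0 < p * k' := Nat.mul_pos hp.pos hk'0
      refine Valuation.map_add_lt _ (Valuation.map_sum_lt _ one_ne_zero fun r hr => ?_) ?_
      · obtain ⟨hne, hrU⟩ := Finset.mem_erase.1 hr
        have hlt : r * p ^ (n + N - kk r) < p * k' := by
          rw [← he₀]
          refine lt_of_le_of_ne (hmax r hrU) fun h => hne ?_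
          exact eq_of_mul_pow_eq hp (hS0 r (Finset.mem_filter.1 hrU).1).2 (hS0 r₂ hr₂S).2 h
        obtain ⟨d', hd'⟩ := Nat.exists_eq_add_of_lt hlt
        rw [hd', pow_add, pow_add, pow_one, mul_assoc, div_mul_eq_mul_div, mul_left_comm,
          mul_div_cancel_left₀ _ (pow_ne_zero _ hx'0), map_mul, map_mul, map_pow]
        exact lt_of_le_of_lt (mul_le_of_le_one_left' ((W₁.valuation_le_one_iff _).2 (hW₁.1 _)))
          (lt_of_le_of_lt (mul_le_of_le_one_left' (pow_le_one' hvx'.le _)) hvx')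
      · rw [map_mul, map_pow]
        exact lt_of_le_of_lt (mul_le_of_le_one_left' ((W₁.valuation_le_one_iff _).2 hbb))
          (pow_lt_one₀ zero_le' hvx' hpk.ne')
    let u : F₂ := (x₂ ^ s₂ / algebraMap F₁ F₂ x') ^ k'
    have hx''0 : algebraMap F₁ F₂ x' ≠ 0 := (map_ne_zero_iff _ (algebraMap F₁ F₂).injective).2 hx'0
    have hu1 : W₂.valuation u = 1 := by
      rw [map_pow, map_div₀, map_pow, show W₂.valuation x₂ ^ s₂ =
        W₂.valuation (algebraMap F₁ F₂ x') from hs₂, div_self, one_pow]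
      exact fun h => hx''0 ((map_eq_zero _).1 h)
    have hu0 : u ≠ 0 := fun h => by rw [h, map_zero] at hu1; exact zero_ne_one hu1
    have hs₂0 : 0 < s₂ := by
      rcases hTcase with ⟨-, -, -, h⟩ | ⟨-, -, -, h⟩
      · omega
      · rw [h]; exact hp.pos
    have ha₂ : algebraMap F₁ F₂ ξ₃ * x₂ ^ (p * (s₂ * k')) = algebraMap F₁ F₂ a₁ * u ^ p := by
      simp only [a₁, u, map_mul, map_pow]
      rw [← pow_mul, div_pow, ← pow_mul, mul_comm k' p,
        show s₂ * (p * k') = p * (s₂ * k') by ring]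
      field_simp
    have hB₁ : ∀ b : B, algebraMap F₁ F₂ (algebraMap B F₁ b) ∈ W₂ := fun b =>
      (dominates_of_comap hW₂c).1 ⟨_, hW₁.1 b⟩
    have hm₁ : ∀ y : F₁, W₁.valuation y < 1 → W₂.valuation (algebraMap F₁ F₂ y) < 1 := fun y hy =>
      (dominates_of_comap hW₂c).2 ⟨y, (W₁.valuation_le_one_iff y).1 hy.le⟩
        ((W₁.valuation_lt_one_iff ⟨y, (W₁.valuation_le_one_iff y).1 hy.le⟩).2 hy)
    refine as_fierce hp hu₂ (ξ := algebraMap F₁ F₂ ξ₃) (Nat.mul_pos hs₂0 hk'0) ?_ ?_ hzE' hgenE rfl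
    · rw [ha₂]
      refine mul_mem ((dominates_of_comap hW₂c).1 ⟨a₁, ?_⟩)
        (pow_mem ((W₂.valuation_le_one_iff u).1 hu1.le) p)
      have h := add_mem ((W₁.valuation_le_one_iff _).1 ha₁.le) (hW₁.1 (s (D r₂)))
      rwa [sub_add_cancel] at h
    intro s' hs' hlt
    rw [ha₂] at hlt
    have hui : u⁻¹ ∈ W₂ := (W₂.valuation_le_one_iff _).1 (by rw [map_inv₀, hu1, inv_one])
    obtain ⟨f, hf, hsf⟩ := hres₂ (s' * u⁻¹) (mul_mem hs' hui)
    obtain ⟨b', hb'⟩ := hres' f hf
    have h1 : W₂.valuation (algebraMap F₁ F₂ a₁ - (s' * u⁻¹) ^ p) < 1 := by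
      have : algebraMap F₁ F₂ a₁ - (s' * u⁻¹) ^ p =
          (algebraMap F₁ F₂ a₁ * u ^ p - s' ^ p) * (u⁻¹) ^ p := by
        rw [sub_mul, mul_assoc, ← mul_pow, ← mul_pow, mul_inv_cancel₀ hu0, one_pow, mul_one]
      rw [this, map_mul, map_pow, map_inv₀, hu1, inv_one, one_pow, mul_one]
      exact hlt
    have h2 : W₂.valuation (s' * u⁻¹ - algebraMap F₁ F₂ (algebraMap B F₁ b')) < 1 := by
      rw [show s' * u⁻¹ - algebraMap F₁ F₂ (algebraMap B F₁ b') = (s' * u⁻¹ - algebraMap F₁ F₂ f) +
        algebraMap F₁ F₂ (f - algebraMap B F₁ b') by rw [map_sub]; ring]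
      exact Valuation.map_add_lt _ hsf (hm₁ _ hb')
    have h3 : W₂.valuation (algebraMap F₁ F₂ (algebraMap B F₁ (s (D r₂) - b' ^ p))) < 1 := by
      have he : algebraMap F₁ F₂ (algebraMap B F₁ (s (D r₂) - b' ^ p)) =
          -algebraMap F₁ F₂ (a₁ - algebraMap B F₁ (s (D r₂))) +
          (algebraMap F₁ F₂ a₁ - (s' * u⁻¹) ^ p) +
          (s' * u⁻¹ - algebraMap F₁ F₂ (algebraMap B F₁ b')) ^ p := by
        rw [sub_pow_char]; simp only [map_sub, map_pow]; ring
      rw [he]
      refine Valuation.map_add_lt _ (Valuation.map_add_lt _ ?_ h1) ?_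
      · rw [Valuation.map_neg]; exact hm₁ _ ha₁
      · rw [map_pow]; exact pow_lt_one₀ zero_le' h2 hp.ne_zero
    refine (hDk r₂ hr₂A).2 (residue B b') ?_
    rw [← hsres (D r₂), ← map_pow, eq_comm, ← sub_eq_zero, ← map_sub, residue_eq_zero_iff,
      mem_maximalIdeal]
    intro hu'
    exact absurd ((W₂.valuation_eq_one_iff ⟨_, hB₁ _⟩).1 (hu'.map
      ((algebraMap F₁ F₂).comp (algebraMap B F₁) |>.codRestrict W₂.toSubring hB₁))) h3.ne
  have hx₂E : algebraMap F₂ E x₂ = algebraMap E₂ E (algebraMap K₁ E₂ x₁ ^ α * θ ^ β) := by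
    simp only [x₂, map_mul, map_pow]
    rfl
  rw [hx₂E] at hkey
  exact InsepStep.weaklyUnramified_of W (algebraMap E₂ E) _ hkey.1 hkey.2

end Groth.Agent.S7155
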