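import Groth.Statements.S7156
import Groth.Agent.EtaleAlgebra.InsepStep
import Mathlib.FieldTheory.PurelyInseparable.Tower
import Mathlib.FieldTheory.PurelyInseparable.Exponent
import Mathlib.LinearAlgebra.Dual.Lemmas
import Mathlib.RingTheory.Localization.Integer
-- import your own Groth.Agent.* helpers here

set_option autoImplicit false
universe u
open EtAlg Groth.EtaleAlgebra Polynomial IsLocalRing EtRam

namespace Groth.Agent.S7156

set_option maxHeartbeats 2000000 in
set_option synthInstance.maxHeartbeats 200000 in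
open TensorProduct in
/-- Let A → B → C be injective local homomorphisms of discrete valuation rings whose fields of fractions
are K ⊆ L ⊆ M, and let π be a uniformizer of A; suppose B is a Nagata ring, A → B is weakly
unramified, and M/L is purely inseparable of prime degree p. Then one of the following holds: the
extension A → C is itself weakly unramified; or else C = B[π^(1/p)]; or else there is a separable
degree-p extension K₁/K, totally ramified with respect to A, for which L ⊗_K K₁ and M ⊗_K K₁ are
fields and the integral closures A₁ → B₁ → C₁ are weakly unramified extensions, i.e. K₁ is a weak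
solution for A ⊆ B and for A ⊆ C. -/
theorem result (p : ℕ) (hp : p.Prime) (A B C K L M : Type u)
    [CommRing A] [IsDomain A] [IsDiscreteValuationRing A] [CommRing B] [IsDomain B] [IsDiscreteValuationRing B]
    [CommRing C] [IsDomain C] [IsDiscreteValuationRing C]
    [Algebra A B] [Algebra B C] [Algebra A C] [IsScalarTower A B C]
    (hAB : Function.Injective (algebraMap A B)) (hBC : Function.Injective (algebraMap B C))
    [IsLocalHom (algebraMap A B)] [IsLocalHom (algebraMap B C)]
    [Field K] [Field L] [Field M] [Algebra A K] [IsFractionRing A K] [Algebra B L] [IsFractionRing B L]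
    [Algebra C M] [IsFractionRing C M] [Algebra K L] [Algebra L M] [Algebra K M] [IsScalarTower K L M]
    [Algebra A L] [IsScalarTower A K L] [IsScalarTower A B L] [Algebra B M] [IsScalarTower B L M] [IsScalarTower B C M]
    [Algebra A M] [IsScalarTower A K M] [IsScalarTower A C M]
    (π : A) (hπ : IsLocalRing.maximalIdeal A = Ideal.span {π}) (hB : CAlg.IsNagata B)
    (hw : EtRam.IsWeaklyUnramified A B) [IsPurelyInseparable L M] (hdeg : Module.finrank L M = p) :
    EtRam.IsWeaklyUnramified A C ∨
      (∃ c : C, c ^ p = algebraMap A C π ∧ Algebra.adjoin B {c} = ⊤) ∨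
      ∃ (K₁ : Type u) (_ : Field K₁) (_ : Algebra K K₁),
        Module.finrank K K₁ = p ∧ Algebra.IsSeparable K K₁ ∧
          EtRam.IsTotallyRamified A ((algebraMap K K₁).comp (algebraMap A K)) ∧
          IsField (L ⊗[K] K₁) ∧ IsField (M ⊗[K] K₁) ∧
          EtRam.IsWeakSolution B K L K₁ ∧ EtRam.IsWeakSolution C K M K₁ := by
  classical
  have : Fact p.Prime := ⟨hp⟩
  have : FiniteDimensional L M := Module.finite_of_finrank_pos (hdeg ▸ hp.pos)
  have hiBL : Function.Injective (algebraMap B L) := IsFractionRing.injective B L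
  have hiBM : Function.Injective (algebraMap B M) := by
    rw [IsScalarTower.algebraMap_eq B L M]; exact (algebraMap L M).injective.comp hiBL
  have hiCM : Function.Injective (algebraMap C M) := IsFractionRing.injective C M
  -- characteristic `p`
  have hcL : CharP L p := by
    obtain ⟨q, hq⟩ := ExpChar.exists L
    obtain ⟨k, hk⟩ := IsPurelyInseparable.finrank_eq_pow L M q
    rw [hdeg] at hk
    have hk1 : q = p ∧ k = 1 := (Nat.Prime.pow_eq_iff hp).1 hk.symm
    obtain ⟨rfl, -⟩ := hk1
    rcases hq with _ | ⟨h⟩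
    · exact absurd hp Nat.not_prime_one
    · assumption
  have : CharP K p := (RingHom.charP_iff (algebraMap K L) (algebraMap K L).injective p).2 hcL
  have hcM : CharP M p := charP_of_injective_ringHom (algebraMap L M).injective p
  have : ExpChar L p := ExpChar.prime hp
  -- uniformizers
  have hπi : Irreducible π :=
    (IsDiscreteValuationRing.irreducible_iff_uniformizer π).2 hπ
  let πB := algebraMap A B π
  have hπB : Irreducible πB := (IsDiscreteValuationRing.irreducible_iff_uniformizer πB).2 (by
    rw [← hw, hπ, Ideal.map_span, Set.image_singleton])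
  obtain ⟨ϖ, hϖ⟩ := IsDiscreteValuationRing.exists_irreducible C
  -- `C` is purely inseparable over `B`
  have hCB : ∀ c : C, ∃ b : B, c ^ p = algebraMap B C b := by
    intro c
    obtain ⟨l, hl⟩ : ∃ l : L, algebraMap L M l = algebraMap C M c ^ p := by
      obtain ⟨k, hk⟩ := IsPurelyInseparable.pow_mem L p (algebraMap C M c)
      obtain ⟨n, y, hmin⟩ := IsPurelyInseparable.minpoly_eq_X_pow_sub_C L p (algebraMap C M c)
      have hn : n ≤ 1 := by
        have h := minpoly.natDegree_le (A := L) (algebraMap C M c)
        rw [hmin, natDegree_X_pow_sub_C, hdeg] at h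
        by_contra hn
        exact absurd h (not_le.2 (lt_of_lt_of_le (by nlinarith [hp.one_lt, hp.two_le] : p < p ^ 2)
          (Nat.pow_le_pow_right hp.pos (by omega))))
      have hy := minpoly.aeval L (algebraMap C M c)
      rw [hmin, map_sub, map_pow, aeval_X, aeval_C, sub_eq_zero] at hy
      interval_cases n
      · exact ⟨y ^ p, by rw [map_pow, ← hy, pow_zero, pow_one]⟩
      · exact ⟨y, by rw [← hy, pow_one]⟩
    rcases ValuationRing.isInteger_or_isInteger B l with ⟨b, hb⟩ | ⟨b, hb⟩
    · exact ⟨b, hiCM (by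
        rw [map_pow, ← hl, ← hb, ← IsScalarTower.algebraMap_apply B L M,
          ← IsScalarTower.algebraMap_apply B C M])⟩
    · by_cases hl0 : l = 0
      · refine ⟨0, hiCM ?_⟩
        rw [map_pow, ← hl, hl0, map_zero, map_zero, map_zero]
      have h1 : algebraMap B C b * c ^ p = 1 := hiCM (by
        rw [map_mul, map_one, map_pow, ← hl, ← IsScalarTower.algebraMap_apply B C M,
          IsScalarTower.algebraMap_apply B L M, hb, ← map_mul, inv_mul_cancel₀ hl0, map_one])
      obtain ⟨w, hw'⟩ := (isUnit_map_iff (algebraMap B C) b).1 (IsUnit.of_mul_eq_one _ h1)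
      refine ⟨↑w⁻¹, ?_⟩
      calc c ^ p = algebraMap B C (↑w⁻¹ * b) * c ^ p := by
            rw [← hw', Units.inv_mul, map_one, one_mul]
        _ = algebraMap B C ↑w⁻¹ := by rw [map_mul, mul_assoc, h1, mul_one]
  -- the ramification index
  obtain ⟨b₀, hb₀⟩ := hCB ϖ
  have hb₀0 : b₀ ≠ 0 := fun h => pow_ne_zero p hϖ.ne_zero (by rw [hb₀, h, map_zero])
  obtain ⟨j, u, hu⟩ := IsDiscreteValuationRing.eq_unit_mul_pow_irreducible hb₀0 hπB
  have hπC0 : algebraMap B C πB ≠ 0 := (map_ne_zero_iff _ hBC).2 hπB.ne_zero
  obtain ⟨e, w, hwe⟩ := IsDiscreteValuationRing.eq_unit_mul_pow_irreducible hπC0 hϖ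
  have hej : e * j = p := by
    have h : ((1 : Cˣ) : C) * ϖ ^ p =
        ((Units.map (algebraMap B C).toMonoidHom u * w ^ j : Cˣ) : C) * ϖ ^ (e * j) := by
      rw [Units.val_one, one_mul, hb₀, hu, map_mul, map_pow, hwe, Units.val_mul,
        Units.val_pow_eq_pow_val, mul_pow, ← pow_mul, mul_assoc]
      rfl
    exact (IsDiscreteValuationRing.unit_mul_pow_congr_pow hϖ hϖ _ _ p (e * j) h).symm
  rcases (Nat.dvd_prime hp).1 (Dvd.intro j hej) with he | he
  · left
    show (maximalIdeal A).map (algebraMap A C) = maximalIdeal C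
    rw [hπ, Ideal.map_span, Set.image_singleton, IsScalarTower.algebraMap_apply A B C, hwe, he,
      pow_one, Ideal.span_singleton_mul_left_unit w.isUnit, hϖ.maximalIdeal_eq]
  have hj : j = 1 := by subst he; exact Nat.eq_of_mul_eq_mul_left hp.pos (hej.trans (mul_one e).symm)
  rw [hj, pow_one] at hu
  let ϖM := algebraMap C M ϖ
  have hϖM : ϖM ^ p = algebraMap B M (u : B) * algebraMap B M πB := by
    rw [← map_pow, hb₀, ← IsScalarTower.algebraMap_apply B C M, hu, map_mul]
  have hπM : ∀ l : L, algebraMap L M l ^ p ≠ algebraMap B M πB := by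
    intro l h
    rw [← map_pow, IsScalarTower.algebraMap_apply B L M] at h
    have h' : l ^ p = algebraMap B L πB := (algebraMap L M).injective h
    have hint : IsIntegral B l := IsIntegral.of_pow hp.pos (h' ▸ isIntegral_algebraMap)
    obtain ⟨b, rfl⟩ := IsIntegrallyClosed.isIntegral_iff.1 hint
    rw [← map_pow] at h'
    exact not_irreducible_pow hp.ne_one (hiBL h' ▸ hπB)
  have hϖL : ϖM ∉ Set.range (algebraMap L M) := by
    rintro ⟨l, hl⟩
    have h : algebraMap L M (l ^ p) = algebraMap L M (algebraMap B L ((u : B) * πB)) := by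
      rw [map_pow, hl, hϖM, ← IsScalarTower.algebraMap_apply B L M, map_mul]
    have h' := (algebraMap L M).injective h
    have hint : IsIntegral B l := IsIntegral.of_pow hp.pos (h' ▸ isIntegral_algebraMap)
    obtain ⟨b, rfl⟩ := IsIntegrallyClosed.isIntegral_iff.1 hint
    rw [← map_pow] at h'
    exact not_irreducible_pow hp.ne_one
      ((irreducible_units_mul (y := πB) u).2 hπB |> fun h0 => hiBL h' ▸ h0)
  by_cases hc : ∃ c : M, c ^ p = algebraMap B M πB
  · -- `C = B[π ^ (1/p)]`
    right; left
    obtain ⟨cM, hcM'⟩ := hc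
    obtain ⟨c, hc⟩ : ∃ c : C, algebraMap C M c = cM := by
      refine IsIntegrallyClosed.isIntegral_iff.1 (IsIntegral.of_pow hp.pos ?_)
      rw [hcM', IsScalarTower.algebraMap_apply B C M]
      exact isIntegral_algebraMap
    have hcp : c ^ p = algebraMap B C πB := hiCM (by
      rw [map_pow, hc, hcM', ← IsScalarTower.algebraMap_apply B C M])
    refine ⟨c, hcp.trans (IsScalarTower.algebraMap_apply A B C π).symm, ?_⟩
    have hint : IsIntegral B cM :=
      IsIntegral.of_pow hp.pos (by rw [hcM']; exact isIntegral_algebraMap)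
    let R := Algebra.adjoin B ({cM} : Set M)
    have := InsepStep.finite_adjoin (B := B) (Set.finite_singleton cM) (by simpa using hint)
    have : Algebra.IsIntegral B R := Algebra.IsIntegral.of_finite B _
    let x : R := ⟨cM, Algebra.subset_adjoin rfl⟩
    have hxp : x ^ p = algebraMap B R πB := Subtype.ext (by simpa [x] using hcM')
    have hmem : algebraMap B R πB ∈ Ideal.span {x} :=
      hxp ▸ Ideal.pow_mem_of_mem _ (Ideal.mem_span_singleton_self x) _ hp.pos
    have hsurj : Function.Surjective (InsepStep.residueHom (Ideal.span {x}) hπB hmem) := by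
      refine InsepStep.surjective_of_gens _ _ (fun b => ⟨residue B b, rfl⟩) fun s hs => ⟨0, ?_⟩
      rw [map_zero, eq_comm, Ideal.Quotient.eq_zero_iff_mem]
      obtain rfl := Set.mem_singleton_iff.1 hs
      exact Ideal.mem_span_singleton_self x
    have hdvd : algebraMap B R πB ∣ x ^ p := hxp ▸ dvd_rfl
    have hmax := Monog.isMaximal_of_surjective _ (Monog.span_ne_top hiBM hπB hdvd) _ hsurj
    have hcL' : cM ∉ Set.range (algebraMap L M) := fun ⟨l, hl⟩ => hπM l (hl ▸ hcM')
    have hgen : Subfield.closure (R : Set M) = ⊤ := by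
      refine InsepStep.subfield_eq_top_of_prime hp hdeg _ (fun l => ?_)
        (Subfield.subset_closure x.2) hcL'
      obtain ⟨a, b, -, rfl⟩ := IsFractionRing.div_surjective B l
      rw [map_div₀, ← IsScalarTower.algebraMap_apply B L M, ← IsScalarTower.algebraMap_apply B L M]
      exact div_mem (Subfield.subset_closure (R.algebraMap_mem a))
        (Subfield.subset_closure (R.algebraMap_mem b))
    let W : ValuationSubring M :=
      { (algebraMap C M).range with
        mem_or_inv_mem' := fun g => (ValuationRing.isInteger_or_isInteger C g).imp id id }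
    have hWd : EtRam.Dominates B (algebraMap B M) W := by
      refine ⟨fun b => ⟨algebraMap B C b, (IsScalarTower.algebraMap_apply B C M b).symm⟩,
        fun b hb => ?_⟩
      rw [← not_le]
      intro hle
      obtain ⟨b', hb'⟩ : (algebraMap B M b)⁻¹ ∈ W := by
        rw [← ValuationSubring.valuation_le_one_iff, map_inv₀]
        exact inv_le_one_of_one_le₀ hle
      have hb0 : algebraMap B M b ≠ 0 := fun h => by
        rw [h, map_zero] at hle
        exact absurd hle (not_le.2 zero_lt_one)
      have h1 : algebraMap B C b * b' = 1 := hiCM (by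
        rw [map_mul, map_one, hb', ← IsScalarTower.algebraMap_apply, mul_inv_cancel₀ hb0])
      exact (mem_maximalIdeal b).1 hb
        ((isUnit_map_iff (algebraMap B C) b).1 (IsUnit.of_mul_eq_one _ h1))
    obtain ⟨hWR, -⟩ := Monog.valuationSubring_eq hiBM hπB hdvd hmax hgen W hWd
    refine eq_top_iff.2 fun y _ => ?_
    have hy : algebraMap C M y ∈ R := hWR.le (⟨y, rfl⟩ : algebraMap C M y ∈ W.toSubring)
    have himg : R = (Algebra.adjoin B ({c} : Set C)).map (IsScalarTower.toAlgHom B C M) := by
      rw [AlgHom.map_adjoin, Set.image_singleton]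
      exact congrArg (fun t => Algebra.adjoin B {t}) hc.symm
    rw [himg] at hy
    obtain ⟨y', hy', hyy⟩ := Subalgebra.mem_map.1 hy
    exact hiCM hyy ▸ hy'
  -- the generic case
  right; right
  push Not at hc
  -- `u` cannot be approximated indefinitely
  let fπ : M[X] := X ^ p - Polynomial.C (algebraMap B M πB)
  have : Fact (Irreducible fπ) := ⟨X_pow_sub_C_irreducible_of_prime hp hc⟩
  let F := AdjoinRoot fπ
  let pbF : PowerBasis M F := AdjoinRoot.powerBasis (X_pow_sub_C_ne_zero hp.pos _)
  have : Module.Finite M F := pbF.finite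
  have : IsScalarTower B L F := IsScalarTower.of_algebraMap_eq fun b => by
    rw [IsScalarTower.algebraMap_apply L M F, ← IsScalarTower.algebraMap_apply B L M,
      ← IsScalarTower.algebraMap_apply B M F]
  have : FiniteDimensional L F := FiniteDimensional.trans L M F
  have : CharP F p := charP_of_injective_ringHom (algebraMap M F).injective p
  let π' : F := AdjoinRoot.root fπ
  have hπ' : π' ^ p = algebraMap B F πB := by
    have h := AdjoinRoot.eval₂_root fπ
    rw [eval₂_sub, eval₂_X_pow, eval₂_C, sub_eq_zero] at h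
    exact h.trans (IsScalarTower.algebraMap_apply B M F πB).symm
  have hπF0 : algebraMap B F πB ≠ 0 := by
    rw [IsScalarTower.algebraMap_apply B M F]
    exact (map_ne_zero_iff _ (algebraMap M F).injective).2 ((map_ne_zero_iff _ hiBM).2 hπB.ne_zero)
  have hπ'0 : π' ≠ 0 := fun h => hπF0 (by rw [← hπ', h, zero_pow hp.ne_zero])
  let t : F := algebraMap M F ϖM / π'
  have htp : t ^ p = algebraMap B F (u : B) := by
    rw [div_pow, ← map_pow, hϖM, hπ', map_mul, ← IsScalarTower.algebraMap_apply B M F,
      ← IsScalarTower.algebraMap_apply B M F, mul_div_assoc, div_self hπF0, mul_one]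
  let M' : IntermediateField L F := IntermediateField.adjoin L {π'}
  have ht : t ∉ M' := by
    intro htM
    let N : IntermediateField L F := (IsScalarTower.toAlgHom L M F).fieldRange
    have hϖM' : algebraMap M F ϖM ∈ M' := by
      rw [show algebraMap M F ϖM = t * π' from (div_mul_cancel₀ _ hπ'0).symm]
      exact mul_mem htM (IntermediateField.mem_adjoin_simple_self L π')
    have hNM : N ≤ M' := by
      rintro _ ⟨y, rfl⟩
      have hS := InsepStep.subfield_eq_top_of_prime hp hdeg
        (M'.toSubfield.comap (algebraMap M F)) (fun l => by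
          show algebraMap M F (algebraMap L M l) ∈ M'
          rw [← IsScalarTower.algebraMap_apply]
          exact IntermediateField.algebraMap_mem M' l) hϖM' hϖL
      have hy : y ∈ M'.toSubfield.comap (algebraMap M F) := hS ▸ Subfield.mem_top y
      exact hy
    have hN : Module.finrank L N = p := by
      rw [← hdeg]
      exact (AlgEquiv.ofInjectiveField (IsScalarTower.toAlgHom L M F)).toLinearEquiv.finrank_eq.symm
    have hM' : Module.finrank L M' ≤ p := by
      rw [IntermediateField.adjoin.finrank (Algebra.IsIntegral.isIntegral π')]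
      have hd : minpoly L π' ∣ X ^ p - Polynomial.C (algebraMap B L πB) := minpoly.dvd L π' (by
        rw [map_sub, map_pow, aeval_X, aeval_C, ← IsScalarTower.algebraMap_apply B L F, hπ', sub_self])
      exact (natDegree_le_of_dvd hd (X_pow_sub_C_ne_zero hp.pos _)).trans natDegree_X_pow_sub_C.le
    have heq : N = M' := IntermediateField.eq_of_le_of_finrank_le hNM (hM'.trans hN.ge)
    obtain ⟨y, hy⟩ : π' ∈ N := heq ▸ IntermediateField.mem_adjoin_simple_self L π'
    refine hc y ((algebraMap M F).injective ?_)
    rw [map_pow, show algebraMap M F y = π' from hy, hπ', ← IsScalarTower.algebraMap_apply B M F]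
  obtain ⟨ℓ₀, hℓ₀t, hℓ₀⟩ := Submodule.exists_dual_map_eq_bot_of_notMem
    (p := Subalgebra.toSubmodule M'.toSubalgebra) ht inferInstance
  let ℓ : F →ₗ[L] L := (ℓ₀ t)⁻¹ • ℓ₀
  have hℓt : ℓ t = 1 := by simp [ℓ, inv_mul_cancel₀ hℓ₀t]
  have hℓM : ∀ y ∈ M', ℓ y = 0 := fun y hy => by
    have : ℓ₀ y ∈ (Subalgebra.toSubmodule M'.toSubalgebra).map ℓ₀ := Submodule.mem_map_of_mem hy
    rw [hℓ₀, Submodule.mem_bot] at this
    simp [ℓ, this]
  have hfin : Module.Finite B (integralClosure B F) :=
    Groth.Calg4.finite_ic_of_isN2 (Groth.Calg1.isN2_self_of_isNagata hB) L F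
  obtain ⟨G, hG⟩ := hfin.fg_top
  obtain ⟨⟨d, hd⟩, hdmul⟩ := IsLocalization.exist_integer_multiples_of_finset (nonZeroDivisors B)
    (G.image fun g : integralClosure B F => ℓ (g : F))
  obtain ⟨N₀, ud, hud⟩ := IsDiscreteValuationRing.eq_unit_mul_pow_irreducible
    (nonZeroDivisors.ne_zero hd) hπB
  have hℓD : ∀ g : integralClosure B F, ∃ b : B, algebraMap B L b = d • ℓ (g : F) := by
    intro g
    have hg : g ∈ Submodule.span B (G : Set (integralClosure B F)) := hG ▸ Submodule.mem_top
    induction hg using Submodule.span_induction with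
    | mem z hz => exact hdmul _ (Finset.mem_image_of_mem _ hz)
    | zero => exact ⟨0, by simp⟩
    | add a b _ _ ha hb =>
      obtain ⟨a', ha'⟩ := ha
      obtain ⟨b', hb'⟩ := hb
      exact ⟨a' + b', by rw [map_add, ha', hb', ← smul_add, ← map_add]; rfl⟩
    | smul r a _ ha =>
      obtain ⟨a', ha'⟩ := ha
      refine ⟨r * a', ?_⟩
      rw [map_mul, ha', show ((r • a : integralClosure B F) : F) = r • (a : F) from rfl,
        ← algebraMap_smul L r (a : F), map_smul, algebraMap_smul, smul_comm, Algebra.smul_def r]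
  let P : B → Prop := fun s => ∃ f : ℕ → B, s = ∑ i ∈ Finset.range p, f i ^ p * πB ^ i
  have hbound : ∀ m s, P s → πB ^ m ∣ (u : B) - s → m < p * (N₀ + 1) := by
    rintro m s ⟨f, rfl⟩ hdiv
    by_contra hm
    obtain ⟨b, hb⟩ := (pow_dvd_pow πB (not_lt.1 hm)).trans hdiv
    let s' : F := ∑ i ∈ Finset.range p, algebraMap B F (f i) * π' ^ i
    have hs' : s' ∈ M' := sum_mem fun i _ => mul_mem
      (by rw [IsScalarTower.algebraMap_apply B L F]; exact IntermediateField.algebraMap_mem M' _)
      (pow_mem (IntermediateField.mem_adjoin_simple_self L π') i)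
    have hs'p : s' ^ p = algebraMap B F (∑ i ∈ Finset.range p, f i ^ p * πB ^ i) := by
      rw [sum_pow_char, map_sum]
      refine Finset.sum_congr rfl fun i _ => ?_
      rw [mul_pow, ← pow_mul, mul_comm i p, pow_mul, hπ', map_mul, map_pow, map_pow]
    let y : F := (t - s') / algebraMap B F πB ^ (N₀ + 1)
    have hy : IsIntegral B y := by
      refine IsIntegral.of_pow hp.pos ?_
      rw [div_pow, sub_pow_char, htp, hs'p, ← map_sub, hb, map_mul, map_pow, ← pow_mul,
        mul_comm (N₀ + 1) p, mul_div_cancel_left₀ _ (pow_ne_zero _ hπF0)]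
      exact isIntegral_algebraMap
    obtain ⟨c, hc'⟩ := hℓD ⟨y, hy⟩
    have hy' : y = ((algebraMap B L πB) ^ (N₀ + 1))⁻¹ • (t - s') := by
      rw [Algebra.smul_def, map_inv₀, map_pow, ← IsScalarTower.algebraMap_apply B L F, inv_mul_eq_div]
    have hℓy : ℓ y = ((algebraMap B L πB) ^ (N₀ + 1))⁻¹ := by
      rw [hy', map_smul, map_sub, hℓt, hℓM s' hs', sub_zero, smul_eq_mul, mul_one]
    change algebraMap B L c = d • ℓ y at hc'
    rw [hℓy, Algebra.smul_def, hud, ← div_eq_mul_inv,
      eq_div_iff (pow_ne_zero _ ((map_ne_zero_iff _ hiBL).2 hπB.ne_zero)), ← map_pow, ← map_mul]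
      at hc'
    have h := hiBL hc'
    refine hπB.not_isUnit (IsUnit.of_mul_eq_one (c * ↑ud⁻¹) ?_)
    apply mul_right_cancel₀ (pow_ne_zero N₀ hπB.ne_zero)
    rw [one_mul]
    calc πB * (c * ↑ud⁻¹) * πB ^ N₀ = ↑ud⁻¹ * (c * πB ^ (N₀ + 1)) := by ring
      _ = πB ^ N₀ := by rw [h, ← mul_assoc, Units.inv_mul, one_mul]
  let Q : ℕ → Prop := fun m => ∃ s, P s ∧ πB ^ m ∣ (u : B) - s
  have hQ0 : Q 0 := ⟨0, ⟨0, by simp [hp.ne_zero]⟩, by simp⟩
  let m := Nat.findGreatest Q (p * (N₀ + 1))
  obtain ⟨_, ⟨f, rfl⟩, v, hv⟩ : Q m := Nat.findGreatest_spec (Nat.zero_le _) hQ0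
  have : CharP B p := (RingHom.charP_iff (algebraMap B L) hiBL p).2 hcL
  have hv' : ∀ r : ResidueField B, r ^ p ≠ residue B v := by
    intro r hr
    obtain ⟨r, rfl⟩ := residue_surjective r
    rw [← map_pow, eq_comm, ← sub_eq_zero, ← map_sub, residue_eq_zero_iff, hπB.maximalIdeal_eq,
      Ideal.mem_span_singleton] at hr
    obtain ⟨b, hb⟩ := hr
    have hi : m % p ∈ Finset.range p := Finset.mem_range.2 (Nat.mod_lt _ hp.pos)
    have hQ : Q (m + 1) := by
      refine ⟨(∑ i ∈ Finset.range p, f i ^ p * πB ^ i) + πB ^ m * r ^ p,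
        ⟨fun i => if i = m % p then f i + πB ^ (m / p) * r else f i, ?_⟩, ⟨b, ?_⟩⟩
      · simp only []
        rw [← Finset.add_sum_erase _ _ hi, ← Finset.add_sum_erase _ _ hi]
        simp only [if_true]
        rw [add_pow_char,
          Finset.sum_congr rfl (fun i hi' => by rw [if_neg (Finset.ne_of_mem_erase hi')] :
            ∀ i ∈ (Finset.range p).erase (m % p),
              (if i = m % p then f i + πB ^ (m / p) * r else f i) ^ p * πB ^ i = f i ^ p * πB ^ i)]
        have hm : πB ^ m * r ^ p = (πB ^ (m / p) * r) ^ p * πB ^ (m % p) := by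
          rw [mul_pow, ← pow_mul, mul_right_comm, ← pow_add, mul_comm (m / p) p, Nat.div_add_mod]
        rw [hm]
        ring
      · rw [pow_succ, mul_assoc, ← hb]
        linear_combination hv
    obtain ⟨s, hs, hdiv⟩ := hQ
    exact absurd (Nat.le_findGreatest (hbound _ s hs hdiv).le ⟨s, hs, hdiv⟩) (Nat.not_succ_le_self m)
  -- the extension `K₁`
  let c₀ : A := π ^ m
  let fK : K[X] := (InsepStep.eis p π c₀).map (algebraMap A K)
  have hfm : fK.Monic := (InsepStep.eis_monic hp.one_lt _ _).map _
  have : Fact (Irreducible fK) := ⟨InsepStep.eis_irreducible K hp.one_lt hπi c₀⟩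
  let K₁ := AdjoinRoot fK
  have hfL : fK.map (algebraMap K L) = (InsepStep.eis p πB (πB ^ m)).map (algebraMap B L) := by
    simp only [fK, c₀, πB, InsepStep.eis_map, ← IsScalarTower.algebraMap_apply A K L,
      ← IsScalarTower.algebraMap_apply A B L, ← map_pow]
  have hirrL : Irreducible (fK.map (algebraMap K L)) := by
    rw [hfL]; exact InsepStep.eis_irreducible L hp.one_lt hπB _
  have hπK : algebraMap A K π * algebraMap A K c₀ ≠ 0 := by
    rw [← map_mul]
    exact (map_ne_zero_iff _ (IsFractionRing.injective A K)).2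
      (mul_ne_zero hπi.ne_zero (pow_ne_zero _ hπi.ne_zero))
  have hsepK : fK.Separable := by
    simp only [fK, InsepStep.eis_map]; exact InsepStep.eis_separable hπK
  have hirrM : Irreducible (fK.map (algebraMap K M)) := by
    rw [IsScalarTower.algebraMap_eq K L M, ← Polynomial.map_map]
    exact Polynomial.Separable.map_irreducible_of_isPurelyInseparable M (hsepK.map) hirrL
  let α : K₁ := AdjoinRoot.root fK
  have hα : α ^ p = algebraMap A K₁ π * (algebraMap A K₁ c₀ * α + 1) := by
    refine InsepStep.eis_aeval ?_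
    rw [← aeval_map_algebraMap K, AdjoinRoot.aeval_eq, AdjoinRoot.mk_self]
  -- roots in local extensions
  have htr : ∀ (E : Type u) [Field E] [Algebra B E] [Algebra K E] [Algebra L E] [Algebra K₁ E]
      [IsScalarTower K L E] [IsScalarTower K K₁ E] [IsScalarTower B L E],
      algebraMap K₁ E α ^ p = algebraMap B E πB *
        (algebraMap B E (πB ^ m) * algebraMap K₁ E α + 1) := by
    intro E _ _ _ _ _ _ _ _
    have hA : ∀ a : A, algebraMap K₁ E (algebraMap A K₁ a) = algebraMap B E (algebraMap A B a) := by
      intro a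
      rw [IsScalarTower.algebraMap_apply A K K₁, ← IsScalarTower.algebraMap_apply K K₁ E,
        IsScalarTower.algebraMap_apply K L E, ← IsScalarTower.algebraMap_apply A K L,
        IsScalarTower.algebraMap_apply A B L, ← IsScalarTower.algebraMap_apply B L E]
    rw [← map_pow, hα, map_mul, map_add, map_mul, map_one, hA, hA, map_pow]
  have hBK₁ : ∀ (E : Type u) [Field E] [Algebra B E] [Algebra K E] [Algebra L E] [Algebra K₁ E]
      [IsScalarTower K L E] [IsScalarTower K K₁ E] [IsScalarTower B L E] (S : Subfield E),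
      (∀ b : B, algebraMap B E b ∈ S) → algebraMap K₁ E α ∈ S →
        (∀ y : K₁, algebraMap K₁ E y ∈ S) ∧ (∀ l : L, algebraMap L E l ∈ S) := by
    intro E _ _ _ _ _ _ _ _ S hb hαS
    have hl : ∀ l : L, algebraMap L E l ∈ S := fun l => by
      obtain ⟨a, b, -, rfl⟩ := IsFractionRing.div_surjective B l
      rw [map_div₀, ← IsScalarTower.algebraMap_apply, ← IsScalarTower.algebraMap_apply]
      exact div_mem (hb a) (hb b)
    refine ⟨fun y => ?_, hl⟩
    have h := InsepStep.subfield_eq_top_of_adjoinRoot (S.comap (algebraMap K₁ E)) (fun k => by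
      show algebraMap K₁ E (algebraMap K K₁ k) ∈ S
      rw [← IsScalarTower.algebraMap_apply K K₁ E, IsScalarTower.algebraMap_apply K L E]
      exact hl _) hαS
    have hy : y ∈ S.comap (algebraMap K₁ E) := h ▸ Subfield.mem_top y
    exact hy
  have hcpb := AdjoinRoot.powerBasis' hfm
  refine ⟨K₁, inferInstance, inferInstance, ?_, ?_, ?_, InsepStep.isField_tensor hfm hirrL,
    InsepStep.isField_tensor hfm hirrM, ?_, ?_⟩
  · rw [(AdjoinRoot.powerBasis' hfm).finrank, AdjoinRoot.powerBasis'_dim,
      (InsepStep.eis_monic hp.one_lt π c₀).natDegree_map, InsepStep.eis_natDegree hp.one_lt]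
  · have : Module.Finite K K₁ := (AdjoinRoot.powerBasis' hfm).finite
    have htop : IntermediateField.adjoin K {α} = ⊤ := by
      refine IntermediateField.toSubfield_injective ?_
      exact InsepStep.subfield_eq_top_of_adjoinRoot _
        (fun k => IntermediateField.algebraMap_mem _ k) (IntermediateField.mem_adjoin_simple_self K α)
    have hsα : IsSeparable K α := hsepK.of_dvd (minpoly.dvd K α (by
      rw [AdjoinRoot.aeval_eq, AdjoinRoot.mk_self]))
    have := (IntermediateField.isSeparable_adjoin_simple_iff_isSeparable K K₁).2 hsα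
    exact AlgEquiv.Algebra.isSeparable
      ((IntermediateField.equivOfEq htop).trans IntermediateField.topEquiv)
  · rw [← IsScalarTower.algebraMap_eq A K K₁]
    have hinjA : Function.Injective (algebraMap A K₁) := by
      rw [IsScalarTower.algebraMap_eq A K K₁]
      exact (algebraMap K K₁).injective.comp (IsFractionRing.injective A K)
    have hgen : Subfield.closure (Set.range (algebraMap A K₁) ∪ {α}) = ⊤ := by
      refine InsepStep.subfield_eq_top_of_adjoinRoot _ (fun k => ?_)
        (Subfield.subset_closure (Or.inr rfl))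
      obtain ⟨a, b, -, rfl⟩ := IsFractionRing.div_surjective A k
      rw [map_div₀, ← IsScalarTower.algebraMap_apply, ← IsScalarTower.algebraMap_apply]
      exact div_mem (Subfield.subset_closure (Or.inl ⟨a, rfl⟩))
        (Subfield.subset_closure (Or.inl ⟨b, rfl⟩))
    obtain ⟨hex, huniq⟩ := InsepStep.root_order (m := m) hinjA hp.one_lt hπi hα hgen
    refine ⟨hex, fun V V' hV hV' => ?_, fun V hV => fun r => ?_⟩
    · exact ValuationSubring.toSubring_injective ((huniq V hV).1.trans (huniq V' hV').1.symm)
    · obtain ⟨w, rfl⟩ := residue_surjective r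
      obtain ⟨-, -, -, -, hres⟩ := huniq V hV
      obtain ⟨a, ha⟩ := hres (w : K₁) w.2
      refine ⟨a, ?_⟩
      show residue V _ = residue V w
      rw [eq_comm, ← sub_eq_zero, ← map_sub, residue_eq_zero_iff]
      exact (V.valuation_lt_one_iff _).2 ha
  · intro E _ _ _ _ _ _ hadj W hW
    let _ : Algebra B E := ((algebraMap L E).comp (algebraMap B L)).toAlgebra
    have : IsScalarTower B L E := IsScalarTower.of_algebraMap_eq fun _ => rfl
    have hgen : Subfield.closure (Set.range (algebraMap B E) ∪ {algebraMap K₁ E α}) = ⊤ := by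
      let S := Subfield.closure (Set.range (algebraMap B E) ∪ {algebraMap K₁ E α})
      obtain ⟨hk, hl⟩ := hBK₁ E S (fun b => Subfield.subset_closure (Or.inl ⟨b, rfl⟩))
        (Subfield.subset_closure (Or.inr rfl))
      refine eq_top_iff.2 fun y _ => ?_
      have hy : y ∈ Algebra.adjoin L (Set.range (algebraMap K₁ E)) := hadj ▸ Algebra.mem_top
      induction hy using Algebra.adjoin_induction with
      | mem z hz => obtain ⟨z, rfl⟩ := hz; exact hk z
      | algebraMap l => exact hl l
      | add _ _ _ _ h1 h2 => exact add_mem (h1 trivial) (h2 trivial)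
      | mul _ _ _ _ h1 h2 => exact mul_mem (h1 trivial) (h2 trivial)
    obtain ⟨-, huniq⟩ := InsepStep.root_order (m := m) (π := πB)
      ((algebraMap L E).injective.comp hiBL) hp.one_lt hπB (htr E) hgen
    obtain ⟨-, -, hvx, hdiv, -⟩ := huniq W hW
    exact InsepStep.weaklyUnramified_of W (algebraMap K₁ E) α hvx hdiv
  · intro E _ _ _ _ _ _ hadj W hW
    let _ : Algebra L E := ((algebraMap M E).comp (algebraMap L M)).toAlgebra
    let _ : Algebra B E := ((algebraMap L E).comp (algebraMap B L)).toAlgebra
    have : IsScalarTower B L E := IsScalarTower.of_algebraMap_eq fun _ => rfl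
    have : IsScalarTower K L E := IsScalarTower.of_algebraMap_eq fun k => by
      show _ = algebraMap M E (algebraMap L M (algebraMap K L k))
      rw [← IsScalarTower.algebraMap_apply K L M, ← IsScalarTower.algebraMap_apply K M E]
    have hBE : ∀ b : B, algebraMap B E b = algebraMap M E (algebraMap B M b) := fun b => by
      show algebraMap M E (algebraMap L M (algebraMap B L b)) = _
      rw [← IsScalarTower.algebraMap_apply B L M]
    have : CharP E p := charP_of_injective_ringHom (algebraMap M E).injective p
    have hinjE : Function.Injective (algebraMap B E) :=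
      (algebraMap L E).injective.comp hiBL
    have hWB : EtRam.Dominates B (algebraMap B E) W := by
      have hBC' : ∀ b : B, algebraMap B E b = algebraMap M E (algebraMap C M (algebraMap B C b)) :=
        fun b => by rw [hBE, ← IsScalarTower.algebraMap_apply B C M]
      exact ⟨fun b => hBC' b ▸ hW.1 _, fun b hb => hBC' b ▸ hW.2 _
        ((mem_maximalIdeal _).2 fun hu' => (mem_maximalIdeal b).1 hb
          ((isUnit_map_iff (algebraMap B C) b).1 hu'))⟩
    let T : Set E := Set.range (algebraMap B E) ∪ {algebraMap K₁ E α, algebraMap M E ϖM}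
    have hgen : Subfield.closure T = ⊤ := by
      obtain ⟨hk, hl⟩ := hBK₁ E (Subfield.closure T) (fun b => Subfield.subset_closure (Or.inl ⟨b, rfl⟩))
        (Subfield.subset_closure (Or.inr (Or.inl rfl)))
      have hS := InsepStep.subfield_eq_top_of_prime hp hdeg
        ((Subfield.closure T).comap (algebraMap M E)) (fun l => hl l)
        (c := ϖM) (Subfield.subset_closure (Or.inr (Or.inr rfl))) hϖL
      refine eq_top_iff.2 fun y _ => ?_
      have hy : y ∈ Algebra.adjoin M (Set.range (algebraMap K₁ E)) := hadj ▸ Algebra.mem_top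
      induction hy using Algebra.adjoin_induction with
      | mem z hz => obtain ⟨z, rfl⟩ := hz; exact hk z
      | algebraMap l =>
        have hl' : l ∈ (Subfield.closure T).comap (algebraMap M E) := hS ▸ Subfield.mem_top l
        exact hl'
      | add _ _ _ _ h1 h2 => exact add_mem (h1 trivial) (h2 trivial)
      | mul _ _ _ _ h1 h2 => exact mul_mem (h1 trivial) (h2 trivial)
    obtain ⟨-, hvx, hdiv⟩ := InsepStep.wild_order (m := m) (π := πB) hinjE hπB (htr E)
      (ϖ := algebraMap M E ϖM) (u := (u : B)) (v := v)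
      (by rw [← map_pow, hϖM, map_mul, ← hBE, ← hBE]) f (by linear_combination hv) hv' hgen W hWB
    exact InsepStep.weaklyUnramified_of W (algebraMap K₁ E) α hvx hdiv

end Groth.Agent.S7156
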