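import Groth.Statements.S7157
import Groth.Agent.EtaleAlgebra.AdjoinUniformizer
import Mathlib.RingTheory.Polynomial.GaussLemma
import Mathlib.FieldTheory.SeparableClosure
import Mathlib.Tactic.LinearCombination
-- import your own Groth.Agent.* helpers here

set_option autoImplicit false
set_option linter.style.haveILetI false
universe u
open EtAlg

namespace Groth.Agent.S7157

section Helper
open IsLocalRing Polynomial

variable {A : Type u} [CommRing A] [IsDomain A] [IsDiscreteValuationRing A] {π c : A}

/-- `X^q + cX - π` is irreducible for `π` a uniformizer and `c` in the maximal ideal. -/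
theorem irreducible_poly (hπ : Irreducible π) {q : ℕ} (hq : 2 ≤ q) (hc : c ∈ maximalIdeal A) :
    (X ^ q + (C c * X - C π) : A[X]).Monic ∧ (X ^ q + (C c * X - C π) : A[X]).natDegree = q ∧
      Irreducible (X ^ q + (C c * X - C π) : A[X]) := by
  have hdeg : (C c * X - C π : A[X]).degree < (q : WithBot ℕ) :=
    lt_of_le_of_lt ((degree_sub_le _ _).trans (max_le (degree_C_mul_X_le _) (degree_C_le.trans (by decide))))
      (WithBot.coe_lt_coe.2 (by omega : 1 < q))
  have hmon := monic_X_pow_add hdeg
  have hnd : (X ^ q + (C c * X - C π) : A[X]).natDegree = q := natDegree_eq_of_degree_eq_some (by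
    rw [degree_add_eq_left_of_degree_lt (by rwa [degree_X_pow]), degree_X_pow])
  have hcoef : ∀ i < q, (X ^ q + (C c * X - C π) : A[X]).coeff i =
      (if 1 = i then c else 0) - (if i = 0 then π else 0) := fun i hi => by
    rw [coeff_add, coeff_X_pow, if_neg hi.ne, zero_add, coeff_sub, coeff_C_mul, coeff_X, coeff_C,
      mul_ite, mul_one, mul_zero]
  refine ⟨hmon, hnd, IsEisensteinAt.irreducible (𝓟 := maximalIdeal A) ⟨?_, fun {i} hi => ?_, ?_⟩
    (maximalIdeal.isMaximal A).isPrime hmon.isPrimitive (by omega)⟩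
  · rw [hmon.leadingCoeff]; exact (maximalIdeal.isMaximal A).isPrime.one_notMem
  · rw [hnd] at hi
    rw [hcoef i hi]
    refine sub_mem ?_ ?_ <;> split_ifs
    · exact hc
    · exact zero_mem _
    · exact hπ.maximalIdeal_eq ▸ Ideal.mem_span_singleton_self π
    · exact zero_mem _
  · rw [hcoef 0 (by omega), if_neg (by omega), if_pos rfl, zero_sub, neg_mem_iff,
      hπ.maximalIdeal_eq, Ideal.span_singleton_pow, Ideal.mem_span_singleton]
    rintro ⟨d, hd⟩
    refine hπ.not_isUnit (IsUnit.of_mul_eq_one (a := π) (b := d) ?_)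
    refine mul_left_cancel₀ hπ.ne_zero ?_
    rw [mul_one, ← mul_assoc, ← sq]
    exact hd.symm

/-- `A[x]/(x^q + cx - π)` is a DVR with uniformizer `x` and trivial residue extension. -/
theorem exists_dvr (hπ : Irreducible π) {q : ℕ} (hq : 2 ≤ q) (m : ℕ) :
    ∃ (R : Type u) (_ : CommRing R) (_ : IsDomain R) (_ : IsDiscreteValuationRing R) (_ : Algebra A R)
      (x : R), Algebra.IsIntegral A R ∧ Function.Injective (algebraMap A R) ∧
      (∀ b : R, ∃ a : A, b - algebraMap A R a ∈ maximalIdeal R) ∧ Algebra.adjoin A {x} = ⊤ ∧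
      aeval x (X ^ q + (C (π ^ (m + 1)) * X - C π) : A[X]) = 0 ∧
      ∃ u : Rˣ, x ^ q = algebraMap A R π * u := by
  have hc : π ^ (m + 1) ∈ maximalIdeal A :=
    Ideal.pow_mem_of_mem _ (hπ.maximalIdeal_eq ▸ Ideal.mem_span_singleton_self π) _ m.succ_pos
  obtain ⟨hmon, hnd, hirr⟩ := irreducible_poly hπ hq hc
  revert hmon hnd hirr
  generalize hf : (X ^ q + (C (π ^ (m + 1)) * X - C π) : A[X]) = f
  intro hmon hnd hirr
  let R := AdjoinRoot f
  let x := AdjoinRoot.root f
  haveI : IsDomain R := AdjoinRoot.isDomain_of_prime hirr.prime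
  haveI := hmon.finite_adjoinRoot
  haveI hint : Algebra.IsIntegral A R := Algebra.IsIntegral.of_finite A R
  have hroot : aeval x f = 0 := by rw [AdjoinRoot.aeval_eq, AdjoinRoot.mk_self]
  have hinj : Function.Injective (algebraMap A R) :=
    AdjoinRoot.of.injective_of_degree_ne_zero (by
      rw [degree_eq_natDegree hmon.ne_zero, hnd]
      exact Nat.cast_ne_zero.2 (by omega))
  have heq : x ^ q = algebraMap A R π * (1 - algebraMap A R π ^ m * x) := by
    have h := (congrArg (aeval x) hf).trans hroot
    simp only [map_add, map_sub, map_mul, map_pow, aeval_X, aeval_C] at h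
    linear_combination h
  have hres : ∀ b : R, ∃ a : A, b - algebraMap A R a ∈ Ideal.span {x} := by
    intro b
    obtain ⟨p, rfl⟩ := AdjoinRoot.mk_surjective b
    refine ⟨p.coeff 0, Ideal.mem_span_singleton.2 ⟨AdjoinRoot.mk f p.divX, ?_⟩⟩
    conv_lhs => arg 1; rw [← X_mul_divX_add p, map_add, map_mul, AdjoinRoot.mk_X, AdjoinRoot.mk_C]
    rw [AdjoinRoot.algebraMap_eq, add_sub_cancel_right]
  have hπM : ∀ M : Ideal R, M.IsMaximal → algebraMap A R π ∈ M := by
    intro M hM
    have h1 := IsLocalRing.eq_maximalIdeal (Ideal.isMaximal_comap_of_isIntegral_of_isMaximal (R := A) M)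
    rw [← Ideal.mem_comap, h1, hπ.maximalIdeal_eq]
    exact Ideal.mem_span_singleton_self π
  have hmem : ∀ M : Ideal R, M.IsMaximal → x ∈ M := fun M hM =>
    hM.isPrime.mem_of_pow_mem q (heq ▸ M.mul_mem_right _ (hπM M hM))
  have hne : Ideal.span {x} ≠ ⊤ := by
    obtain ⟨M, hM⟩ := Ideal.exists_maximal R
    exact ne_top_of_le_ne_top hM.ne_top ((Ideal.span_singleton_le_iff_mem _).2 (hmem M hM))
  have hπx : algebraMap A R π ∈ Ideal.span {x} := by
    have : algebraMap A R π = x ^ q + algebraMap A R π ^ (m + 1) * x := by rw [heq]; ring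
    rw [this]
    exact add_mem (Ideal.pow_mem_of_mem _ (Ideal.mem_span_singleton_self x) q (by omega))
      (Ideal.mul_mem_left _ _ (Ideal.mem_span_singleton_self x))
  have hmax : (Ideal.span {x}).IsMaximal := by
    rw [Ideal.Quotient.maximal_ideal_iff_isField_quotient]
    let φ := (Ideal.Quotient.mk (Ideal.span {x})).comp (algebraMap A R)
    have hφ : Function.Surjective φ := fun z => by
      obtain ⟨b, rfl⟩ := Ideal.Quotient.mk_surjective z
      obtain ⟨a, ha⟩ := hres b
      exact ⟨a, (Ideal.Quotient.eq.2 ha).symm⟩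
    have := Ideal.Quotient.nontrivial_iff.2 hne
    have hk : RingHom.ker φ = maximalIdeal A := by
      refine ((maximalIdeal.isMaximal A).eq_of_le (RingHom.ker_ne_top φ) ?_).symm
      rw [hπ.maximalIdeal_eq, Ideal.span_singleton_le_iff_mem, RingHom.mem_ker,
        RingHom.comp_apply, Ideal.Quotient.eq_zero_iff_mem]
      exact hπx
    exact MulEquiv.isField
      ((Ideal.Quotient.maximal_ideal_iff_isField_quotient (RingHom.ker φ)).1
        (by rw [hk]; exact maximalIdeal.isMaximal A))
      (RingHom.quotientKerEquivOfSurjective hφ).symm.toMulEquiv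
  haveI hloc : IsLocalRing R := IsLocalRing.of_unique_max_ideal ⟨_, hmax, fun M hM =>
    (hmax.eq_of_le hM.ne_top ((Ideal.span_singleton_le_iff_mem _).2 (hmem M hM))).symm⟩
  have hmx : maximalIdeal R = Ideal.span {x} := (IsLocalRing.eq_maximalIdeal hmax).symm
  have hx0 : x ≠ 0 := fun h0 => by
    have := hπx
    rw [h0, Ideal.span_singleton_zero, Ideal.mem_bot] at this
    exact hπ.ne_zero (hinj (this.trans (map_zero _).symm))
  have hu : IsUnit (1 - algebraMap A R π ^ m * x) := by
    refine isUnit_one_sub_self_of_mem_nonunits _ ?_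
    exact (mem_maximalIdeal _).1 (Ideal.mul_mem_left _ _ (hmx ▸ Ideal.mem_span_singleton_self x))
  haveI : IsNoetherianRing R := Algebra.FiniteType.isNoetherianRing A R
  have hnf : ¬ IsField R := fun hf' => by
    rw [isField_iff_maximalIdeal_eq, hmx, Ideal.span_singleton_eq_bot] at hf'
    exact hx0 hf'
  refine ⟨R, inferInstance, inferInstance,
    ((IsDiscreteValuationRing.TFAE R hnf).out 4 0 rfl rfl).1 ⟨⟨x, hmx⟩⟩, inferInstance, x, hint, hinj,
    fun b => (hres b).imp fun a ha => hmx.symm.le ha, AdjoinRoot.adjoinRoot_eq_top,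
    hroot, hu.unit, ?_⟩
  rw [IsUnit.unit_spec, heq]

end Helper

/-- Let A be a discrete valuation ring, π a uniformizer, K its field of fractions, and suppose the
residue field of A has characteristic p > 0. For every n > 1 and every power q of p there is a
separable degree-q extension L/K that is totally ramified with respect to A and whose ring of
integers B (the integral closure of A in L) contains elements π_B, b, b' with π_B^q = π + πⁿ·b and
π_B^q = π + π_B^(nq)·b' (π_B is then a uniformizer of B and the ramification index is q). -/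
theorem result (p : ℕ) (hp : p.Prime) (A K : Type u)
    [CommRing A] [IsDomain A] [IsDiscreteValuationRing A] [Field K] [Algebra A K] [IsFractionRing A K]
    [CharP (IsLocalRing.ResidueField A) p] (π : A) (hπ : IsLocalRing.maximalIdeal A = Ideal.span {π})
    (n : ℕ) (hn : 1 < n) (k : ℕ) :
    ∃ (L : Type u) (_ : Field L) (_ : Algebra K L) (_ : Algebra A L) (_ : IsScalarTower A K L),
      Module.finrank K L = p ^ k ∧ Algebra.IsSeparable K L ∧ EtRam.IsTotallyRamified A (algebraMap A L) ∧
      ∃ πB b b' : L, πB ∈ integralClosure A L ∧ b ∈ integralClosure A L ∧ b' ∈ integralClosure A L ∧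
        πB ^ (p ^ k) = algebraMap A L π + algebraMap A L π ^ n * b ∧
        πB ^ (p ^ k) = algebraMap A L π + πB ^ (n * p ^ k) * b' := by
  classical
  have hπi : Irreducible π := (IsDiscreteValuationRing.irreducible_iff_uniformizer π).2 hπ
  rcases Nat.lt_or_ge (p ^ k) 2 with hq | hq
  · have hq1 : p ^ k = 1 := by
      have := Nat.pow_pos (n := k) hp.pos
      omega
    refine ⟨K, inferInstance, inferInstance, inferInstance, inferInstance, ?_, inferInstance,
      Groth.EtaleAlgebra.isTotallyRamified_of_dvr (A := A) (R := A) (fun b => ⟨b, by simp⟩) K,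
      algebraMap A K π, 0, 0, isIntegral_algebraMap, zero_mem _, zero_mem _, ?_, ?_⟩
    · rw [hq1]; exact Module.finrank_self K
    · rw [hq1]; simp
    · rw [hq1]; simp
  obtain ⟨m, rfl⟩ : ∃ m, n = m + 1 := ⟨n - 1, by omega⟩
  obtain ⟨R, _, _, _, _, x, hint, hinj, hres, hgen, hroot, u, hu⟩ := exists_dvr hπi hq m
  let L := FractionRing R
  haveI : IsScalarTower A R L := inferInstance
  have hinjL : Function.Injective (algebraMap A L) := (IsFractionRing.injective R L).comp hinj
  let ι : K →+* L := IsFractionRing.lift hinjL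
  letI : Algebra K L := ι.toAlgebra
  haveI hAKL : IsScalarTower A K L :=
    IsScalarTower.of_algebraMap_eq fun a => (IsFractionRing.lift_algebraMap hinjL a).symm
  obtain ⟨hmon, hnd, hirr⟩ := irreducible_poly hπi hq (c := π ^ (m + 1))
    (Ideal.pow_mem_of_mem _ (hπ ▸ Ideal.mem_span_singleton_self π) _ m.succ_pos)
  set f : Polynomial A := Polynomial.X ^ (p ^ k) + (Polynomial.C (π ^ (m + 1)) * Polynomial.X - Polynomial.C π)
  let fK := f.map (algebraMap A K)
  have hirrK : Irreducible fK := hmon.irreducible_iff_irreducible_map_fraction_map.1 hirr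
  have hsepK : fK.Separable := by
    rw [Polynomial.separable_iff_derivative_ne_zero hirrK]
    intro h0
    have h1 := congrArg (fun g : Polynomial K => g.coeff 0) h0
    rw [Polynomial.derivative_map] at h1
    simp only [Polynomial.coeff_map, Polynomial.coeff_zero] at h1
    have h2 : (Polynomial.derivative f).coeff 0 = π ^ (m + 1) := by
      rw [Polynomial.coeff_derivative]
      simp [f, Polynomial.coeff_X_pow, show (1 : ℕ) ≠ p ^ k by omega, Polynomial.coeff_zero_eq_eval_zero]
    rw [h2, map_eq_zero_iff _ (IsFractionRing.injective A K)] at h1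
    exact pow_ne_zero _ hπi.ne_zero h1
  haveI : Fact (Irreducible fK) := ⟨hirrK⟩
  let xL : L := algebraMap R L x
  have hrootL : Polynomial.aeval xL fK = 0 := by
    rw [Polynomial.aeval_map_algebraMap, show xL = algebraMap R L x from rfl,
      Polynomial.aeval_algebraMap_apply, hroot, map_zero]
  let Φ : AdjoinRoot fK →ₐ[K] L := AdjoinRoot.liftAlgHom fK (Algebra.ofId K L) xL hrootL
  have hR : ∀ r : R, algebraMap R L r ∈ Φ.range := by
    intro r
    have hr : r ∈ Algebra.adjoin A {x} := hgen ▸ Algebra.mem_top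
    induction hr using Algebra.adjoin_induction with
    | mem y hy => exact ⟨AdjoinRoot.root fK, (AdjoinRoot.liftAlgHom_root _ _ _ _).trans (by rw [Set.mem_singleton_iff.1 hy])⟩
    | algebraMap a =>
      rw [← IsScalarTower.algebraMap_apply, IsScalarTower.algebraMap_apply A K L]
      exact Subalgebra.algebraMap_mem _ _
    | add y z _ _ hy hz => rw [map_add]; exact add_mem hy hz
    | mul y z _ _ hy hz => rw [map_mul]; exact mul_mem hy hz
  have hΦ : Function.Surjective Φ := fun z => by
    obtain ⟨r, s, -, rfl⟩ := IsFractionRing.div_surjective (A := R) z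
    obtain ⟨a, ha⟩ := hR r
    obtain ⟨b, hb⟩ := hR s
    exact ⟨a / b, by rw [map_div₀]; exact congrArg₂ (· / ·) ha hb⟩
  let e : AdjoinRoot fK ≃ₐ[K] L := AlgEquiv.ofBijective Φ ⟨Φ.toRingHom.injective, hΦ⟩
  haveI hsepA : Algebra.IsSeparable K (AdjoinRoot fK) := by
    have hsep : IsSeparable K (AdjoinRoot.root fK) := by
      unfold IsSeparable
      rw [AdjoinRoot.minpoly_root hirrK.ne_zero, (hmon.map _).leadingCoeff, inv_one, Polynomial.C_1, mul_one]
      exact hsepK
    haveI : FiniteDimensional K (AdjoinRoot fK) := (AdjoinRoot.powerBasis hirrK.ne_zero).finite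
    have htop : IntermediateField.adjoin K {AdjoinRoot.root fK} = ⊤ :=
      IntermediateField.toSubalgebra_injective (by
        rw [IntermediateField.adjoin_simple_toSubalgebra_of_isAlgebraic
          (Algebra.IsAlgebraic.isAlgebraic _), AdjoinRoot.adjoinRoot_eq_top]; rfl)
    have h2 := (IntermediateField.isSeparable_adjoin_simple_iff_isSeparable K _).2 hsep
    rw [htop] at h2
    exact Algebra.IsSeparable.of_algHom K _
      (IntermediateField.topEquiv (F := K) (E := AdjoinRoot fK)).symm.toAlgHom
  have hIC : ∀ r : R, algebraMap R L r ∈ integralClosure A L := fun r =>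
    (Algebra.IsIntegral.isIntegral (R := A) r).map (IsScalarTower.toAlgHom A R L)
  refine ⟨L, inferInstance, inferInstance, inferInstance, hAKL, ?_, Algebra.IsSeparable.of_algHom K _ e.symm.toAlgHom,
    Groth.EtaleAlgebra.isTotallyRamified_of_dvr hres L,
    algebraMap R L x, algebraMap R L (-x), algebraMap R L (-x * ↑u⁻¹ ^ (m + 1)), hIC _, hIC _, hIC _, ?_, ?_⟩
  · rw [← e.toLinearEquiv.finrank_eq, (AdjoinRoot.powerBasis hirrK.ne_zero).finrank,
      AdjoinRoot.powerBasis_dim, hmon.natDegree_map, hnd]
  · have h := congrArg (algebraMap R L) hroot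
    simp only [f, map_add, map_sub, map_mul, map_pow, Polynomial.aeval_X, Polynomial.aeval_C, map_zero] at h
    rw [map_neg]
    rw [IsScalarTower.algebraMap_apply A R L π]
    linear_combination h
  · have h := congrArg (algebraMap R L) hroot
    simp only [f, map_add, map_sub, map_mul, map_pow, Polynomial.aeval_X, Polynomial.aeval_C, map_zero] at h
    have h2 : algebraMap R L x ^ ((m + 1) * p ^ k) * algebraMap R L (-x * ↑u⁻¹ ^ (m + 1)) =
        algebraMap R L (algebraMap A R π) ^ (m + 1) * algebraMap R L (-x) := by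
      have h3 : x ^ ((m + 1) * p ^ k) * (-x * ↑u⁻¹ ^ (m + 1)) = algebraMap A R π ^ (m + 1) * (-x) := by
        rw [mul_comm (m + 1), pow_mul, hu, mul_pow, mul_assoc, mul_comm ((↑u : R) ^ (m + 1)), mul_assoc (-x),
          ← mul_pow, Units.inv_mul, one_pow, mul_one]
      have h4 := congrArg (algebraMap R L) h3
      rw [map_mul, map_mul _ (algebraMap A R π ^ (m + 1)), map_pow, map_pow] at h4
      exact h4
    rw [h2, map_neg]
    rw [IsScalarTower.algebraMap_apply A R L π]
    linear_combination h

end Groth.Agent.S7157
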