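import Groth.Statements.S7158
import Groth.Agent.EtaleAlgebra.DegreePCases
-- import your own Groth.Agent.* helpers here

set_option autoImplicit false
universe u
open EtAlg

open Groth.EtaleAlgebra Polynomial

namespace Groth.Agent.S7158

/-- Let A be a discrete valuation ring whose fraction field K has characteristic p > 0, let ξ be an
element of K and let L = K(z) be obtained by adjoining a root z of z^p - z = ξ. Then L/K is a Galois
extension, and it falls under one of four cases: (1) L = K; (2) L/K has degree p and is unramified
with respect to A; (3) L/K has degree p and is totally ramified with respect to A (ramification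
index p); (4) exactly one valuation ring of L dominates A (so B, the integral closure of A in L, is
itself a discrete valuation ring), the extension A → B is weakly unramified, and its residue field
extension is purely inseparable of degree p. Moreover, with π a uniformizer of A: (A) if ξ lies in
A, case (1) or (2) holds; (B) if ξ = π⁻ⁿa with n > 0 prime to p and a a unit of A, case (3) holds;
(C) if ξ = π⁻ⁿa with n > 0 divisible by p and the residue class of a not a p-th power, case (4)
holds. -/
theorem result (p : ℕ) (hp : p.Prime) (A K L : Type u) [CommRing A] [IsDomain A]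
    [IsDiscreteValuationRing A] [Field K] [Algebra A K] [IsFractionRing A K] [Field L] [Algebra K L] [Algebra A L]
    [IsScalarTower A K L] [CharP K p] (π : A) (hπ : IsLocalRing.maximalIdeal A = Ideal.span {π})
    (ξ : K) (z : L) (hz : z ^ p - z = algebraMap K L ξ) (hgen : IntermediateField.adjoin K {z} = ⊤) :
    let g : A →+* L := algebraMap A L
    let case1 : Prop := Module.finrank K L = 1
    let case2 : Prop := EtRam.IsUnramifiedExt A g ∧ Module.finrank K L = p
    let case3 : Prop := EtRam.IsTotallyRamified A g ∧ Module.finrank K L = p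
    let case4 : Prop := (∃ V : ValuationSubring L, EtRam.Dominates A g V) ∧
      (∀ V V' : ValuationSubring L, EtRam.Dominates A g V → EtRam.Dominates A g V' → V = V') ∧
      ∀ (V : ValuationSubring L) (h : EtRam.Dominates A g V),
        letI : Algebra A V := (RingHom.codRestrict g V h.1).toAlgebra
        ∀ [IsLocalHom (algebraMap A V)],
          EtRam.IsWeaklyUnramified A V ∧
            IsPurelyInseparable (IsLocalRing.ResidueField A) (IsLocalRing.ResidueField V) ∧
            Module.finrank (IsLocalRing.ResidueField A) (IsLocalRing.ResidueField V) = p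
    IsGalois K L ∧ (case1 ∨ case2 ∨ case3 ∨ case4) ∧
      ((∃ a : A, algebraMap A K a = ξ) → case1 ∨ case2) ∧
      (∀ (n : ℕ) (a : Aˣ), 0 < n → ¬ p ∣ n → ξ * algebraMap A K π ^ n = algebraMap A K a → case3) ∧
      (∀ (n : ℕ) (a : A), 0 < n → p ∣ n → (∀ r : A, IsLocalRing.residue A a ≠ IsLocalRing.residue A r ^ p) →
          ξ * algebraMap A K π ^ n = algebraMap A K a → case4) := by
  rename_i _iA _iB _iC _iD _iE _iF _iG _iAL _iT _iP
  have hinst : _iAL = ((algebraMap K L).comp (algebraMap A K)).toAlgebra :=
    Algebra.algebra_ext _ _ fun a => IsScalarTower.algebraMap_apply A K L a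
  subst hinst
  show IsGalois K L ∧ _
  have : Fact p.Prime := ⟨hp⟩
  have : CharP A p := (RingHom.charP_iff (algebraMap A K) (IsFractionRing.injective A K) p).2 ‹_›
  have : CharP L p := charP_of_injective_ringHom (algebraMap K L).injective p
  have : CharP (IsLocalRing.ResidueField A) p := by
    obtain ⟨q, hq⟩ := CharP.exists (IsLocalRing.ResidueField A)
    have h0 : (p : IsLocalRing.ResidueField A) = 0 := by
      rw [← map_natCast (IsLocalRing.residue A), CharP.cast_eq_zero, map_zero]
    have hdvd := (CharP.cast_eq_zero_iff (IsLocalRing.ResidueField A) q p).1 h0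
    rcases (Nat.dvd_prime hp).1 hdvd with rfl | rfl
    · exact absurd rfl (CharP.char_ne_one (IsLocalRing.ResidueField A) 1)
    · exact hq
  have hirr : Irreducible π :=
    (IsDiscreteValuationRing.irreducible_iff_uniformizer π).2 hπ
  let P : A[X] := X ^ p - X
  have hPm : P.Monic := monic_X_pow_sub (n := p)
    (lt_of_le_of_lt degree_X_le (WithBot.coe_lt_coe.2 hp.one_lt))
  have hPd : P.natDegree = p := by
    apply natDegree_eq_of_degree_eq_some
    rw [degree_sub_eq_left_of_degree_lt, degree_X_pow]
    rw [degree_X_pow, degree_X]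
    exact WithBot.coe_lt_coe.2 hp.one_lt
  have hPr : P.map (IsLocalRing.residue A) = X ^ p - X := by simp [P]
  have hPe : ∀ (R : Type u) [CommRing R] (h : A →+* R) (x : R), P.eval₂ h x = x ^ p - x :=
    fun R _ h x => by simp [P]
  have hz' : P.eval₂ ((algebraMap K L).comp (algebraMap A K)) z = algebraMap K L ξ := by
    rw [hPe, hz]
  let ρ : Fin p → L := fun i => z + ((i : ℕ) : L)
  have hρ : Function.Injective ρ := fun i j h => Fin.ext
    (CharP.natCast_injOn_Iio L p i.2 j.2 (add_left_cancel h))
  obtain ⟨hfin, hgal, hrank⟩ := DegP.isGalois_and_finrank hp (X ^ p - X - C ξ : K[X])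
    ((monic_X_pow_sub (n := p) (lt_of_le_of_lt degree_X_le
      (WithBot.coe_lt_coe.2 hp.one_lt))).sub_of_left (by
      rw [degree_sub_eq_left_of_degree_lt, degree_X_pow]
      · exact degree_C_le.trans_lt (WithBot.coe_lt_coe.2 hp.pos)
      · rw [degree_X_pow, degree_X]; exact WithBot.coe_lt_coe.2 hp.one_lt))
    (by
      rw [natDegree_sub_C]
      apply natDegree_eq_of_degree_eq_some
      rw [degree_sub_eq_left_of_degree_lt, degree_X_pow]
      rw [degree_X_pow, degree_X]
      exact WithBot.coe_lt_coe.2 hp.one_lt)
    ρ hρ
    (fun i => by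
      simp only [map_sub, map_pow, aeval_X, aeval_C, ρ]
      rw [add_pow_char, ← hz, ← frobenius_def p (((i : ℕ) : L)), map_natCast (frobenius L p)]
      ring)
    z (by simp only [map_sub, map_pow, aeval_X, aeval_C]; rw [hz, sub_self]) hgen
    (fun σ i hi => by
      have h : ∀ n : ℕ, (σ ^ n) z = z + (n : L) * ((i : ℕ) : L) := by
        intro n
        induction n with
        | zero => simp
        | succ n ih =>
          rw [pow_succ', AlgEquiv.mul_apply, ih, map_add, hi, map_mul, map_natCast, map_natCast]
          simp only [ρ, Nat.cast_succ]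
          ring
      rw [h p, CharP.cast_eq_zero, zero_mul, add_zero])
  have hA : ∀ (ξ' : K) (z' : L), P.eval₂ ((algebraMap K L).comp (algebraMap A K)) z' =
      algebraMap K L ξ' → IntermediateField.adjoin K {z'} = ⊤ → (∃ a : A, algebraMap A K a = ξ') →
      Module.finrank K L = 1 ∨ (EtRam.IsUnramifiedExt A ((algebraMap K L).comp (algebraMap A K)) ∧
        Module.finrank K L = p) := by
    rintro ξ' z' hz' hgen' ⟨a, rfl⟩
    exact hrank.imp id fun h => ⟨DegP.unramified_of_integral hPm hPd hp hPr hz' hgen', h⟩
  refine ⟨hgal, ?_, hA ξ z hz' hgen, fun n a hn hpn h =>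
    DegP.totallyRamified_of_pole hPm hPd hp hirr hn hpn a hz' h hgen, fun n a hn hpn ha h => by
      obtain ⟨k, hk⟩ := hpn
      exact DegP.fierce_of_pole hPm hPd hp hirr (Nat.pos_of_ne_zero (by rintro rfl; omega)) hk a ha
        hz' h hgen⟩
  have key : ∀ n : ℕ, ∀ (ξ' : K) (z' : L),
      P.eval₂ ((algebraMap K L).comp (algebraMap A K)) z' = algebraMap K L ξ' →
      IntermediateField.adjoin K {z'} = ⊤ →
      (∃ a : A, ξ' * algebraMap A K π ^ n = algebraMap A K a) →
      (Module.finrank K L = 1 ∨
        (EtRam.IsUnramifiedExt A ((algebraMap K L).comp (algebraMap A K)) ∧ Module.finrank K L = p) ∨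
        (EtRam.IsTotallyRamified A ((algebraMap K L).comp (algebraMap A K)) ∧ Module.finrank K L = p) ∨
        ((∃ V : ValuationSubring L, EtRam.Dominates A ((algebraMap K L).comp (algebraMap A K)) V) ∧
          (∀ V V' : ValuationSubring L, EtRam.Dominates A ((algebraMap K L).comp (algebraMap A K)) V →
            EtRam.Dominates A ((algebraMap K L).comp (algebraMap A K)) V' → V = V') ∧
          ∀ (V : ValuationSubring L) (h : EtRam.Dominates A ((algebraMap K L).comp (algebraMap A K)) V),
            letI : Algebra A V := (RingHom.codRestrict ((algebraMap K L).comp (algebraMap A K)) V h.1).toAlgebra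
            ∀ [IsLocalHom (algebraMap A V)],
              EtRam.IsWeaklyUnramified A V ∧
                IsPurelyInseparable (IsLocalRing.ResidueField A) (IsLocalRing.ResidueField V) ∧
                Module.finrank (IsLocalRing.ResidueField A) (IsLocalRing.ResidueField V) = p)) := by
    intro n
    induction n with
    | zero =>
      intro ξ' z' hz' hgen' ha
      obtain ⟨a, ha⟩ := ha
      rcases hA ξ' z' hz' hgen' ⟨a, by rw [← ha, pow_zero, mul_one]⟩ with h | h
      · exact Or.inl h
      · exact Or.inr (Or.inl h)
    | succ n ih =>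
      intro ξ' z' hz' hgen' ha
      obtain ⟨a, ha⟩ := ha
      by_cases hu : IsUnit a
      · by_cases hpn : p ∣ n + 1
        · obtain ⟨k, hk⟩ := hpn
          have hk0 : 0 < k := Nat.pos_of_ne_zero (by rintro rfl; omega)
          by_cases hr : ∀ r : A, IsLocalRing.residue A a ≠ IsLocalRing.residue A r ^ p
          · exact Or.inr (Or.inr (Or.inr
              (DegP.fierce_of_pole hPm hPd hp hirr hk0 hk a hr hz' ha hgen')))
          · push Not at hr
            obtain ⟨r, hr⟩ := hr
            obtain ⟨b, hb⟩ := DegP.exists_reduced hPm hPd hp hirr hk0 hk hr ha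
            refine ih _ (z' - algebraMap K L (algebraMap A K r / algebraMap A K π ^ k)) ?_ ?_
              ⟨b, hb⟩
            · rw [hPe, sub_pow_char, map_sub, ← hz', hPe, hPe, map_sub, map_pow]
              ring
            · rw [eq_top_iff, ← hgen', IntermediateField.adjoin_simple_le_iff]
              have hm := IntermediateField.mem_adjoin_simple_self K
                (z' - algebraMap K L (algebraMap A K r / algebraMap A K π ^ k))
              have := add_mem hm (IntermediateField.algebraMap_mem _
                (algebraMap A K r / algebraMap A K π ^ k))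
              rwa [sub_add_cancel] at this
        · exact Or.inr (Or.inr (Or.inl
            (DegP.totallyRamified_of_pole hPm hPd hp hirr n.succ_pos hpn hu.unit hz'
              (by rw [IsUnit.unit_spec]; exact ha) hgen')))
      · obtain ⟨c, rfl⟩ : π ∣ a := by
          rw [← Ideal.mem_span_singleton, ← hπ]
          exact (IsLocalRing.mem_maximalIdeal a).2 hu
        refine ih ξ' z' hz' hgen' ⟨c, ?_⟩
        apply mul_right_cancel₀ ((map_ne_zero_iff _ (IsFractionRing.injective A K)).2 hirr.ne_zero)
        rw [mul_assoc, ← pow_succ, ha, map_mul, mul_comm]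
  obtain ⟨a, d, hd, rfl⟩ := IsFractionRing.div_surjective (A := A) ξ
  obtain ⟨m, w, hw⟩ := IsDiscreteValuationRing.eq_unit_mul_pow_irreducible
    (nonZeroDivisors.ne_zero hd) hirr
  refine key m _ z hz' hgen ⟨a * ↑w⁻¹, ?_⟩
  rw [div_mul_eq_mul_div, div_eq_iff ((map_ne_zero_iff _ (IsFractionRing.injective A K)).2
    (nonZeroDivisors.ne_zero hd)), hw, ← map_pow, ← map_mul, ← map_mul, mul_assoc,
    ← mul_assoc (↑w⁻¹ : A), Units.inv_mul, one_mul]

end Groth.Agent.S7158
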