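import Groth.Statements.S7159
import Groth.Agent.EtaleAlgebra.DegreePCases
import Mathlib.RingTheory.RootsOfUnity.Lemmas
import Mathlib.NumberTheory.Wilson
import Mathlib.RingTheory.Polynomial.Cyclotomic.Roots

set_option autoImplicit false
universe u
open EtAlg

open Groth.EtaleAlgebra

namespace Groth.Agent.S7159

set_option linter.style.haveILetI false
set_option maxHeartbeats 1000000

section Helper
open IsLocalRing Polynomial

/-- Properties of the polynomial `P` with `w^p P = (1+wX)^p - 1`, `w = 1 - ζ`. -/
theorem poly_data {p : ℕ} (hp : p.Prime) {A : Type u} [CommRing A] [IsDomain A] [IsLocalRing A]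
    [CharP (ResidueField A) p] [NeZero (p : A)] {ζ : A} (hζ : aeval ζ (cyclotomic p ℤ) = 0)
    {P : A[X]} (hP : C ((1 - ζ) ^ p) * P = (1 + C (1 - ζ) * X) ^ p - 1) :
    IsPrimitiveRoot ζ p ∧ (1 - ζ) ≠ 0 ∧ (1 - ζ) ∈ maximalIdeal A ∧ P.Monic ∧ P.natDegree = p ∧
      P.map (residue A) = X ^ p - X := by
  have : Fact p.Prime := ⟨hp⟩
  have hμ : IsPrimitiveRoot ζ p := by
    rw [← isRoot_cyclotomic_iff, IsRoot.def, ← map_cyclotomic_int p A, eval_map]
    exact hζ
  set w := 1 - ζ with hwdef
  have hw0 : w ≠ 0 := fun h => hμ.ne_one hp.one_lt (sub_eq_zero.1 h).symm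
  have hwm : w ∈ maximalIdeal A := by
    rw [← residue_eq_zero_iff]
    refine eq_zero_of_pow_eq_zero (n := p) ?_
    rw [hwdef, map_sub, map_one, sub_pow_char, one_pow, ← map_pow, hμ.pow_eq_one, map_one, sub_self]
  have hcoeff : ∀ i : ℕ, w ^ p * P.coeff i = (p.choose i : A) * w ^ i - (1 : A[X]).coeff i := by
    intro i
    have h := congrArg (fun Q : A[X] => Q.coeff i) hP
    simp only [coeff_C_mul, coeff_sub] at h
    rw [h, show (1 + C w * X) ^ p = ((1 + X) ^ p).comp (C w * X) by simp,
      comp_C_mul_X_coeff, coeff_one_add_X_pow]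
  have hwp : w ^ p ≠ 0 := pow_ne_zero _ hw0
  have hPp : P.coeff p = 1 := mul_left_cancel₀ hwp (by
    rw [hcoeff, Nat.choose_self, coeff_one, if_neg hp.ne_zero, Nat.cast_one, one_mul, sub_zero,
      mul_one])
  have hPgt : ∀ i, p < i → P.coeff i = 0 := fun i hi => mul_left_cancel₀ hwp (by
    rw [hcoeff, Nat.choose_eq_zero_of_lt hi, coeff_one, if_neg (by omega), Nat.cast_zero, zero_mul,
      sub_zero, mul_zero])
  have hP0 : P.coeff 0 = 0 := mul_left_cancel₀ hwp (by
    rw [hcoeff, Nat.choose_zero_right, coeff_one_zero, Nat.cast_one, pow_zero, mul_one, sub_self,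
      mul_zero])
  have hd : P.natDegree = p := natDegree_eq_of_le_of_coeff_ne_zero
    (natDegree_le_iff_coeff_eq_zero.2 fun i hi => hPgt i hi) (by rw [hPp]; exact one_ne_zero)
  have hm : P.Monic := by rw [Monic, leadingCoeff, hd, hPp]
  obtain ⟨q, hq⟩ : ∃ q, p = q + 1 := ⟨p - 1, by have := hp.pos; omega⟩
  let G : A := ∏ k ∈ Finset.range q, ∑ j ∈ Finset.range (k + 1), ζ ^ j
  have hG : w ^ q * G = (p : A) := by
    have h := IsPrimitiveRoot.prod_one_sub_pow_eq_order (hq ▸ hμ : IsPrimitiveRoot ζ (q + 1))
    rw [hq, Nat.cast_add, Nat.cast_one, ← h]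
    have : w ^ q = ∏ k ∈ Finset.range q, w := by rw [Finset.prod_const, Finset.card_range]
    rw [this, ← Finset.prod_mul_distrib]
    exact Finset.prod_congr rfl fun k _ => mul_neg_geom_sum ζ (k + 1)
  have hP1 : P.coeff 1 = G := mul_left_cancel₀ hwp (by
    rw [hcoeff, Nat.choose_one_right, coeff_one, if_neg one_ne_zero, sub_zero, pow_one, ← hG,
      show w ^ p = w ^ q * w by rw [hq, pow_succ]]
    ring)
  have hG1 : residue A G = -1 := by
    have hζ1 : residue A ζ = 1 := by
      have := (residue_eq_zero_iff _).2 hwm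
      rw [hwdef, map_sub, map_one, sub_eq_zero] at this
      exact this.symm
    simp only [G, map_prod, map_sum, map_pow, hζ1, one_pow, Finset.sum_const, Finset.card_range,
      nsmul_eq_mul, mul_one]
    rw [← Nat.cast_prod, Finset.prod_range_add_one_eq_factorial]
    have hw' := congrArg (ZMod.castHom (dvd_refl p) (ResidueField A)) (ZMod.wilsons_lemma p)
    rwa [map_natCast, map_neg, map_one, show p - 1 = q by omega] at hw'
  refine ⟨hμ, hw0, hwm, hm, hd, ?_⟩
  ext i
  rw [coeff_map, coeff_sub, coeff_X_pow, coeff_X]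
  rcases lt_trichotomy i p with hi | rfl | hi
  · rw [if_neg hi.ne, zero_sub]
    rcases Nat.lt_or_ge i 2 with h2 | h2
    · interval_cases i
      · simp [hP0]
      · simp [hP1, hG1]
    · obtain ⟨m, hm'⟩ := hp.dvd_choose_self (by omega : i ≠ 0) hi
      have hPi : P.coeff i = G * (m : A) * w ^ (i - 1) := mul_left_cancel₀ hwp (by
        rw [hcoeff, coeff_one, if_neg (by omega), sub_zero, hm', Nat.cast_mul, ← hG,
          show w ^ p = w ^ q * w by rw [hq, pow_succ],
          show w ^ i = w ^ (i - 1) * w by rw [← pow_succ, show i - 1 + 1 = i by omega]]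
        ring)
      rw [if_neg (by omega : ¬ 1 = i), neg_zero, hPi, map_mul, map_pow,
        (residue_eq_zero_iff _).2 hwm, zero_pow (by omega), mul_zero]
  · rw [if_pos rfl, if_neg (by have := hp.one_lt; omega), sub_zero, hPp, map_one]
  · rw [if_neg hi.ne', if_neg (by have := hp.one_lt; omega), sub_zero, hPgt i hi, map_zero]

end Helper

open Polynomial in
/-- Let A be a discrete valuation ring whose fraction field K has characteristic 0 and whose residue
field has characteristic p, and suppose A contains an element ζ with 1 + ζ + ... + ζ^(p-1) = 0 (a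
primitive p-th root of unity); set w = 1 - ζ and let P in A[t] be the polynomial with w^p·P(t) = (1
+ wt)^p - 1. Let ξ be an element of K and let L = K(z) be obtained by adjoining a root z of P(z) =
ξ. Then L/K is a Galois extension, and it falls under one of four cases: (1) L = K; (2) L/K has
degree p and is unramified with respect to A; (3) L/K has degree p and is totally ramified with
respect to A (ramification index p); (4) exactly one valuation ring of L dominates A (so B, the
integral closure of A in L, is itself a discrete valuation ring), the extension A → B is weakly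
unramified, and its residue field extension is purely inseparable of degree p. Moreover, with π a
uniformizer of A: (A) if ξ lies in A, case (1) or (2) holds; (B) if ξ = π⁻ⁿa with n > 0 prime to p
and a a unit of A, case (3) holds; (C) if ξ = π⁻ⁿa with n > 0 divisible by p and the residue class
of a not a p-th power, case (4) holds. -/
theorem result (p : ℕ) (hp : p.Prime) (A K L : Type u) [CommRing A] [IsDomain A]
    [IsDiscreteValuationRing A] [Field K] [Algebra A K] [IsFractionRing A K] [Field L] [Algebra K L] [Algebra A L]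
    [IsScalarTower A K L] [CharZero K] [CharP (IsLocalRing.ResidueField A) p] (ζ : A)
    (hζ : aeval ζ (cyclotomic p ℤ) = 0) (P : A[X]) (hP : C ((1 - ζ) ^ p) * P = (1 + C (1 - ζ) * X) ^ p - 1) (π : A) (hπ : IsLocalRing.maximalIdeal A = Ideal.span {π})
    (ξ : K) (z : L) (hz : aeval z P = algebraMap K L ξ) (hgen : IntermediateField.adjoin K {z} = ⊤) :
    let g : A →+* L := algebraMap A L
    let case1 : Prop := Module.finrank K L = 1
    let case2 : Prop := EtRam.IsUnramifiedExt A g ∧ Module.finrank K L = p
    let case3 : Prop := EtRam.IsTotallyRamified A g ∧ Module.finrank K L = p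
    let case4 : Prop := (∃ V : ValuationSubring L, EtRam.Dominates A g V) ∧
      (∀ V V' : ValuationSubring L, EtRam.Dominates A g V → EtRam.Dominates A g V' → V = V') ∧
      ∀ (V : ValuationSubring L) (h : EtRam.Dominates A g V),
        letI : Algebra A V := (RingHom.codRestrict g V h.1).toAlgebra
        ∀ [IsLocalHom (algebraMap A V)],
          EtRam.IsWeaklyUnramified A V ∧
            IsPurelyInseparable (IsLocalRing.ResidueField A) (IsLocalRing.ResidueField V) ∧
            Module.finrank (IsLocalRing.ResidueField A) (IsLocalRing.ResidueField V) = p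
    IsGalois K L ∧ (case1 ∨ case2 ∨ case3 ∨ case4) ∧
      ((∃ a : A, algebraMap A K a = ξ) → case1 ∨ case2) ∧
      (∀ (n : ℕ) (a : Aˣ), 0 < n → ¬ p ∣ n → ξ * algebraMap A K π ^ n = algebraMap A K a → case3) ∧
      (∀ (n : ℕ) (a : A), 0 < n → p ∣ n → (∀ r : A, IsLocalRing.residue A a ≠ IsLocalRing.residue A r ^ p) →
          ξ * algebraMap A K π ^ n = algebraMap A K a → case4) := by
  rename_i _iA _iB _iC _iD _iE _iF _iG _iAL _iT _iP _iQ
  have hinst : _iAL = ((algebraMap K L).comp (algebraMap A K)).toAlgebra :=
    Algebra.algebra_ext _ _ fun a => IsScalarTower.algebraMap_apply A K L a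
  subst hinst
  show IsGalois K L ∧ _
  have : NeZero (p : A) := ⟨fun h => hp.ne_zero (by
    have h1 := congrArg (algebraMap A K) h
    rw [map_natCast, map_zero] at h1
    exact_mod_cast h1)⟩
  obtain ⟨hμ, hw0, hwm, hPm, hPd, hPr⟩ := poly_data hp hζ hP
  have hirr : Irreducible π :=
    (IsDiscreteValuationRing.irreducible_iff_uniformizer π).2 hπ
  have hinjA : Function.Injective (algebraMap A K) := IsFractionRing.injective A K
  let gL : A →+* L := (algebraMap K L).comp (algebraMap A K)
  have hgL : Function.Injective gL := (algebraMap K L).injective.comp hinjA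
  set w := 1 - ζ with hwdef
  let wK := algebraMap A K w
  have hwK0 : wK ≠ 0 := (map_ne_zero_iff _ hinjA).2 hw0
  let wL := gL w
  have hwL0 : wL ≠ 0 := (map_ne_zero_iff _ hgL).2 hw0
  have hwKL : algebraMap K L wK = wL := rfl
  have hπ0 : algebraMap A K π ≠ 0 := (map_ne_zero_iff _ hinjA).2 hirr.ne_zero
  have hPe : ∀ (R : Type u) [CommRing R] (h : A →+* R) (x : R),
      h w ^ p * P.eval₂ h x = (1 + h w * x) ^ p - 1 := fun R _ h x => by
    have := congrArg (eval₂ h x) hP
    simp only [map_pow, eval₂_mul, eval₂_pow, eval₂_sub, eval₂_add, eval₂_one, eval₂_C, eval₂_X] at this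
    exact this
  have hPL : ∀ (x : L) (ξ' : K), (1 + wL * x) ^ p = algebraMap K L (1 + wK ^ p * ξ') →
      P.eval₂ gL x = algebraMap K L ξ' := fun x ξ' h => by
    apply mul_left_cancel₀ (pow_ne_zero p hwL0)
    rw [hPe, h, map_add, map_one, add_sub_cancel_left, map_mul, map_pow, hwKL]
  let u := 1 + wL * z
  let c := 1 + wK ^ p * ξ
  have huc : u ^ p = algebraMap K L c := by
    rw [map_add, map_one, map_mul, map_pow, hwKL, ← hz]
    show u ^ p = 1 + wL ^ p * P.eval₂ gL z
    rw [hPe]
    ring
  obtain ⟨hfin, hdeg⟩ := DegP.finite_of_root hPm hPd hp hz hgen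
  have hgal : IsGalois K L ∧ (Module.finrank K L = 1 ∨ Module.finrank K L = p) := by
    by_cases hu : u = 0
    · have hzK : z ∈ (⊥ : IntermediateField K L) := by
        refine IntermediateField.mem_bot.2 ⟨-wK⁻¹, ?_⟩
        rw [map_neg, map_inv₀, hwKL, neg_eq_iff_eq_neg, ← mul_right_inj' hwL0, mul_inv_cancel₀ hwL0,
          mul_neg]
        exact eq_neg_of_add_eq_zero_left hu
      have hbot : (⊥ : IntermediateField K L) = ⊤ := by
        rw [← hgen, eq_comm, IntermediateField.adjoin_simple_eq_bot_iff]
        exact hzK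
      have hfr : Module.finrank K L = 1 := by
        rw [← IntermediateField.finrank_top', ← hbot, IntermediateField.finrank_bot]
      have hsurj : Function.Surjective (Algebra.ofId K L) := fun x => by
        have hx : x ∈ (⊥ : IntermediateField K L) := hbot ▸ IntermediateField.mem_top
        exact IntermediateField.mem_bot.1 hx
      exact ⟨IsGalois.of_algEquiv
        (AlgEquiv.ofBijective (Algebra.ofId K L) ⟨(algebraMap K L).injective, hsurj⟩), Or.inl hfr⟩
    · let ζL := gL ζ
      have hζL : IsPrimitiveRoot ζL p := hμ.map_of_injective hgL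
      let ρ : Fin p → L := fun i => ζL ^ (i : ℕ) * z + (ζL ^ (i : ℕ) - 1) / wL
      have hρu : ∀ i, 1 + wL * ρ i = ζL ^ (i : ℕ) * u := fun i => by
        simp only [ρ, u]
        field_simp
        ring
      have hρinj : Function.Injective ρ := fun i j h => by
        have h1 : ζL ^ (i : ℕ) * u = ζL ^ (j : ℕ) * u := by rw [← hρu, ← hρu, h]
        exact Fin.ext (hζL.pow_inj i.2 j.2 (mul_right_cancel₀ hu h1))
      have hfm : ((P.map (algebraMap A K)) - C ξ).Monic := (hPm.map _).sub_of_left (by
        rw [degree_eq_natDegree (hPm.map _).ne_zero, hPm.natDegree_map, hPd]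
        exact degree_C_le.trans_lt (WithBot.coe_lt_coe.2 hp.pos))
      obtain ⟨-, h1, h2⟩ := DegP.isGalois_and_finrank hp ((P.map (algebraMap A K)) - C ξ) hfm
        (by rw [natDegree_sub_C, hPm.natDegree_map, hPd]) ρ hρinj
        (fun i => by
          rw [map_sub, aeval_C, aeval_def, eval₂_map, sub_eq_zero]
          refine hPL _ _ ?_
          rw [hρu, mul_pow, ← pow_mul, mul_comm (i : ℕ) p, pow_mul, hζL.pow_eq_one, one_pow,
            one_mul, huc])
        z (by rw [map_sub, aeval_C, aeval_def, eval₂_map, sub_eq_zero]; exact hz) hgen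
        (fun σ i hi => by
          have hσw : σ wL = wL := σ.commutes wK
          have hσζ : σ ζL = ζL := σ.commutes (algebraMap A K ζ)
          have h : ∀ n : ℕ, 1 + wL * (σ ^ n) z = (ζL ^ (i : ℕ)) ^ n * u := by
            intro n
            induction n with
            | zero => simp [u]
            | succ n ih =>
              rw [pow_succ', AlgEquiv.mul_apply]
              calc 1 + wL * σ ((σ ^ n) z) = σ (1 + wL * (σ ^ n) z) := by
                    rw [map_add, map_one, map_mul, hσw]
                _ = (ζL ^ (i : ℕ)) ^ n * σ u := by rw [ih, map_mul, map_pow, map_pow, hσζ]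
                _ = (ζL ^ (i : ℕ)) ^ n * (1 + wL * ρ i) := by
                    rw [map_add, map_one, map_mul, hσw, hi]
                _ = _ := by rw [hρu, pow_succ]; ring
          have h' := h p
          rw [← pow_mul, mul_comm (i : ℕ) p, pow_mul, hζL.pow_eq_one, one_pow, one_mul] at h'
          exact mul_left_cancel₀ hwL0 (add_left_cancel h'))
      exact ⟨h1, h2⟩
  obtain ⟨hgal, hrank⟩ := hgal
  have hA : ∀ (ξ' : K) (z' : L), P.eval₂ gL z' = algebraMap K L ξ' →
      IntermediateField.adjoin K {z'} = ⊤ → (∃ a : A, algebraMap A K a = ξ') →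
      Module.finrank K L = 1 ∨ (EtRam.IsUnramifiedExt A gL ∧ Module.finrank K L = p) := by
    rintro ξ' z' hz' hgen' ⟨a, rfl⟩
    exact hrank.imp id fun h => ⟨DegP.unramified_of_integral hPm hPd hp hPr hz' hgen', h⟩
  refine ⟨hgal, ?_, hA ξ z hz hgen, fun n a hn hpn h =>
    DegP.totallyRamified_of_pole hPm hPd hp hirr hn hpn a hz h hgen, fun n a hn hpn ha h => by
      obtain ⟨k, hk⟩ := hpn
      exact DegP.fierce_of_pole hPm hPd hp hirr (Nat.pos_of_ne_zero (by rintro rfl; omega)) hk a ha
        hz h hgen⟩
  obtain ⟨ω, εw, hεw⟩ := IsDiscreteValuationRing.eq_unit_mul_pow_irreducible hw0 hirr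
  have key : ∀ n : ℕ, n ≤ p * ω → ∀ (ξ' : K) (z' : L) (b : Aˣ),
      P.eval₂ gL z' = algebraMap K L ξ' →
      IntermediateField.adjoin K {z'} = ⊤ → 1 + wK ^ p * ξ' = algebraMap A K b →
      (∃ a : A, ξ' * algebraMap A K π ^ n = algebraMap A K a) →
      (Module.finrank K L = 1 ∨
        (EtRam.IsUnramifiedExt A gL ∧ Module.finrank K L = p) ∨
        (EtRam.IsTotallyRamified A gL ∧ Module.finrank K L = p) ∨
        ((∃ V : ValuationSubring L, EtRam.Dominates A gL V) ∧
          (∀ V V' : ValuationSubring L, EtRam.Dominates A gL V →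
            EtRam.Dominates A gL V' → V = V') ∧
          ∀ (V : ValuationSubring L) (h : EtRam.Dominates A gL V),
            letI : Algebra A V := (RingHom.codRestrict gL V h.1).toAlgebra
            ∀ [IsLocalHom (algebraMap A V)],
              EtRam.IsWeaklyUnramified A V ∧
                IsPurelyInseparable (IsLocalRing.ResidueField A) (IsLocalRing.ResidueField V) ∧
                Module.finrank (IsLocalRing.ResidueField A) (IsLocalRing.ResidueField V) = p)) := by
    intro n
    induction n with
    | zero =>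
      intro _ ξ' z' b hz' hgen' _ ha
      obtain ⟨a, ha⟩ := ha
      rcases hA ξ' z' hz' hgen' ⟨a, by rw [← ha, pow_zero, mul_one]⟩ with h | h
      · exact Or.inl h
      · exact Or.inr (Or.inl h)
    | succ n ih =>
      intro hn ξ' z' b hz' hgen' hb ha
      obtain ⟨a, ha⟩ := ha
      by_cases hu : IsUnit a
      · by_cases hpn : p ∣ n + 1
        · obtain ⟨k, hk⟩ := hpn
          have hk0 : 0 < k := Nat.pos_of_ne_zero (by rintro rfl; omega)
          by_cases hr : ∀ r : A, IsLocalRing.residue A a ≠ IsLocalRing.residue A r ^ p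
          · exact Or.inr (Or.inr (Or.inr
              (DegP.fierce_of_pole hPm hPd hp hirr hk0 hk a hr hz' ha hgen')))
          · push Not at hr
            obtain ⟨r, hr⟩ := hr
            obtain ⟨a', ha'⟩ := DegP.exists_reduced hPm hPd hp hirr hk0 hk hr ha
            have hkω : k ≤ ω := Nat.le_of_mul_le_mul_left (hk ▸ hn) hp.pos
            let η : A := εw * π ^ (ω - k)
            have hη : η * π ^ k = w := by
              rw [mul_assoc, ← pow_add, Nat.sub_add_cancel hkω]
              exact hεw.symm
            have hb' : (b : A) = 1 + η ^ p * a := hinjA (by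
              rw [← hb, map_add, map_one, map_mul, map_pow, ← ha]
              show 1 + algebraMap A K w ^ p * ξ' = _
              rw [← hη, map_mul, map_pow, hk,
                mul_comm p k, pow_mul, mul_pow]
              ring)
            have hs : IsUnit (1 + r * η) := by
              rw [← IsLocalRing.residue_ne_zero_iff_isUnit]
              intro h0
              have := Fact.mk hp
              apply (IsLocalRing.residue_ne_zero_iff_isUnit _).2 b.isUnit
              have h1 := congrArg (· ^ p) h0
              simp only [map_add, map_one, map_mul, zero_pow hp.ne_zero, add_pow_char, one_pow,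
                mul_pow] at h1
              rw [hb', map_add, map_one, map_mul, map_pow, hr, mul_comm]
              exact h1
            let s := hs.unit
            let sK := algebraMap A K s
            have hsK0 : sK ≠ 0 := (s.isUnit.map _).ne_zero
            have hsL0 : algebraMap K L sK ≠ 0 := (map_ne_zero_iff _ (algebraMap K L).injective).2 hsK0
            let w₀ := algebraMap A K r / algebraMap A K π ^ k
            have hsw : sK = 1 + wK * w₀ := by
              show algebraMap A K (1 + r * η) = _
              rw [map_add, map_one, map_mul]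
              show _ = 1 + algebraMap A K w * (algebraMap A K r / algebraMap A K π ^ k)
              rw [← hη]
              simp only [η, map_mul, map_pow]
              field_simp
            have hPw : wK ^ p * P.eval₂ (algebraMap A K) w₀ = sK ^ p - 1 := by
              rw [hPe, hsw]
            have hxi : 1 + wK ^ p * ((ξ' - P.eval₂ (algebraMap A K) w₀) / sK ^ p) =
                algebraMap A K ↑(b * (s ^ p)⁻¹) := by
              have h1 : algebraMap A K ↑(b * (s ^ p)⁻¹) * sK ^ p = algebraMap A K b := by
                rw [← map_pow, ← map_mul, ← Units.val_pow_eq_pow_val, ← Units.val_mul,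
                  inv_mul_cancel_right]
              rw [← mul_right_inj' (pow_ne_zero p hsK0), mul_comm _ (algebraMap A K ↑(b * (s ^ p)⁻¹)),
                h1, mul_add, mul_one, mul_left_comm, mul_div_cancel₀ _ (pow_ne_zero p hsK0), mul_sub,
                hPw, ← hb]
              ring
            refine ih (by omega) _ ((z' - algebraMap K L w₀) / algebraMap K L sK) (b * (s ^ p)⁻¹)
              ?_ ?_ hxi ?_
            · refine hPL _ _ ?_
              have h1 : 1 + wL * ((z' - algebraMap K L w₀) / algebraMap K L sK) =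
                  (1 + wL * z') / algebraMap K L sK := by
                rw [eq_div_iff hsL0, add_mul, one_mul, mul_assoc, div_mul_cancel₀ _ hsL0, hsw,
                  map_add, map_one, map_mul, hwKL]
                ring
              rw [h1, div_pow, hxi, div_eq_iff (pow_ne_zero p hsL0), ← map_pow, ← map_mul]
              have h2 : algebraMap A K ↑(b * (s ^ p)⁻¹) * sK ^ p = algebraMap A K b := by
                rw [← map_pow, ← map_mul, ← Units.val_pow_eq_pow_val, ← Units.val_mul,
                  inv_mul_cancel_right]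
              rw [h2, ← hb, map_add, map_one, map_mul, map_pow, hwKL, ← hz', hPe]
              ring
            · rw [eq_top_iff, ← hgen', IntermediateField.adjoin_simple_le_iff]
              have hm := IntermediateField.mem_adjoin_simple_self K
                ((z' - algebraMap K L w₀) / algebraMap K L sK)
              have := add_mem (mul_mem hm (IntermediateField.algebraMap_mem _ sK))
                (IntermediateField.algebraMap_mem _ w₀)
              rwa [div_mul_cancel₀ _ hsL0, sub_add_cancel] at this
            · refine ⟨a' * ↑(s ^ p)⁻¹, ?_⟩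
              rw [map_mul, ← ha']
              have h1 : algebraMap A K ↑(s ^ p)⁻¹ = (sK ^ p)⁻¹ := eq_inv_of_mul_eq_one_right (by
                rw [← map_pow, ← map_mul, ← Units.val_pow_eq_pow_val, Units.mul_inv, map_one])
              rw [h1, Nat.add_sub_cancel]
              ring
        · exact Or.inr (Or.inr (Or.inl
            (DegP.totallyRamified_of_pole hPm hPd hp hirr n.succ_pos hpn hu.unit hz'
              (by rw [IsUnit.unit_spec]; exact ha) hgen')))
      · obtain ⟨c, rfl⟩ : π ∣ a := by
          rw [← Ideal.mem_span_singleton, ← hπ]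
          exact (IsLocalRing.mem_maximalIdeal a).2 hu
        refine ih (by omega) ξ' z' b hz' hgen' hb ⟨c, ?_⟩
        apply mul_right_cancel₀ hπ0
        rw [mul_assoc, ← pow_succ, ha, map_mul, mul_comm]
  by_cases hc0 : c = 0
  · have hu0 : u = 0 := eq_zero_of_pow_eq_zero (n := p) (by rw [huc, hc0, map_zero])
    refine Or.inl ?_
    rw [← IntermediateField.finrank_top', ← hgen,
      IntermediateField.finrank_adjoin_simple_eq_one_iff]
    refine IntermediateField.mem_bot.2 ⟨-wK⁻¹, ?_⟩
    rw [map_neg, map_inv₀, hwKL, neg_eq_iff_eq_neg, ← mul_right_inj' hwL0, mul_inv_cancel₀ hwL0,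
      mul_neg]
    exact eq_neg_of_add_eq_zero_left hu0
  obtain ⟨cn, cd, hcd, hcdiv⟩ := IsFractionRing.div_surjective (A := A) c
  have hcd0 : cd ≠ 0 := nonZeroDivisors.ne_zero hcd
  have hcn0 : cn ≠ 0 := fun h => hc0 (by rw [← hcdiv, h, map_zero, zero_div])
  obtain ⟨i, ε₁, h₁⟩ := IsDiscreteValuationRing.eq_unit_mul_pow_irreducible hcn0 hirr
  obtain ⟨i', ε₂, h₂⟩ := IsDiscreteValuationRing.eq_unit_mul_pow_irreducible hcd0 hirr
  let b : Aˣ := ε₁ * ε₂⁻¹
  obtain ⟨J, hJ⟩ : ∃ J, J + i' = i + i' * p := ⟨i + i' * (p - 1), by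
    obtain ⟨q, rfl⟩ : ∃ q, p = q + 1 := ⟨p - 1, by have := hp.pos; omega⟩
    simp only [Nat.add_sub_cancel]
    ring⟩
  let x := u * gL π ^ i'
  have hx : x ^ p = gL π ^ J * gL b := by
    have hε : algebraMap A K (ε₂ : A) ≠ 0 := (ε₂.isUnit.map _).ne_zero
    have h1 : c * algebraMap A K π ^ (i' * p) = algebraMap A K π ^ J * algebraMap A K b := by
      rw [← hcdiv, h₁, h₂, div_mul_eq_mul_div, div_eq_iff ((map_ne_zero_iff _ hinjA).2 (h₂ ▸ hcd0))]
      simp only [map_mul, map_pow, b, Units.val_mul]
      rw [show algebraMap A K (↑ε₂⁻¹ : A) = (algebraMap A K (ε₂ : A))⁻¹ from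
        eq_inv_of_mul_eq_one_right (by rw [← map_mul, Units.mul_inv, map_one])]
      field_simp
      rw [← pow_add, ← pow_add, hJ]
    have h2 := congrArg (algebraMap K L) h1
    rw [map_mul, map_mul, map_pow, map_pow] at h2
    rw [mul_pow, huc, ← pow_mul]
    exact h2
  by_cases hpJ : p ∣ J
  swap
  · refine Or.inr (Or.inr (Or.inl (DegP.totallyRamified_of_pow hp hdeg hirr x hpJ fun V hV => ?_)))
    exact ⟨Units.map (RingHom.codRestrict gL V hV.1).toMonoidHom b, hx⟩
  obtain ⟨m, rfl⟩ := hpJ
  have hgπ : gL π ≠ 0 := (map_ne_zero_iff _ hgL).2 hirr.ne_zero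
  let u' := x / gL π ^ m
  have hu' : u' ^ p = gL b := by
    rw [div_pow, hx, ← pow_mul, mul_comm m p, mul_comm, mul_div_assoc,
      div_self (pow_ne_zero _ hgπ), mul_one]
  let ξ' : K := (algebraMap A K b - 1) / wK ^ p
  have hbξ : 1 + wK ^ p * ξ' = algebraMap A K b := by
    rw [mul_div_cancel₀ _ (pow_ne_zero _ hwK0)]
    ring
  refine key (p * ω) le_rfl ξ' ((u' - 1) / wL) b ?_ ?_ hbξ ?_
  · refine hPL _ _ ?_
    rw [hbξ, mul_div_cancel₀ _ hwL0, add_sub_cancel, hu']
    rfl
  · rw [eq_top_iff, ← hgen, IntermediateField.adjoin_simple_le_iff]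
    have hm := IntermediateField.mem_adjoin_simple_self K ((u' - 1) / wL)
    have hK : ∀ a : A, gL a ∈ IntermediateField.adjoin K {(u' - 1) / wL} := fun a =>
      IntermediateField.algebraMap_mem _ _
    have h1 : u' ∈ IntermediateField.adjoin K {(u' - 1) / wL} := by
      have := add_mem (mul_mem hm (hK w)) (one_mem _)
      rwa [show (u' - 1) / wL * gL w + 1 = u' by
        rw [div_mul_cancel₀ _ hwL0, sub_add_cancel]] at this
    have hzeq : z = (u' * gL π ^ m / gL π ^ i' - 1) / wL := by
      rw [div_mul_cancel₀ _ (pow_ne_zero _ hgπ)]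
      show z = ((1 + wL * z) * gL π ^ i' / gL π ^ i' - 1) / wL
      rw [mul_div_assoc, div_self (pow_ne_zero _ hgπ), mul_one, add_sub_cancel_left,
        mul_div_assoc, mul_div_cancel₀ _ hwL0]
    rw [hzeq]
    exact div_mem (sub_mem (div_mem (mul_mem h1 (pow_mem (hK π) m)) (pow_mem (hK π) i'))
      (one_mem _)) (hK w)
  · refine ⟨((b : A) - 1) * ↑(εw ^ p)⁻¹, ?_⟩
    have hwK : wK = algebraMap A K (εw : A) * algebraMap A K π ^ ω := by
      rw [← map_pow, ← map_mul, ← hεw]
    have h1 : algebraMap A K ↑(εw ^ p)⁻¹ = (algebraMap A K (εw : A) ^ p)⁻¹ :=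
      eq_inv_of_mul_eq_one_right (by
        rw [← map_pow, ← map_mul, ← Units.val_pow_eq_pow_val, Units.mul_inv, map_one])
    have hε0 : algebraMap A K (εw : A) ≠ 0 := (εw.isUnit.map _).ne_zero
    rw [map_mul, map_sub, map_one, h1]
    show (algebraMap A K b - 1) / wK ^ p * _ = _
    rw [hwK, mul_pow, ← pow_mul, mul_comm ω p]
    field_simp

end Groth.Agent.S7159
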