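import Groth.Statements.S7160
import Mathlib

set_option autoImplicit false
universe u
open CategoryTheory CategoryTheory.Pretriangulated
attribute [local instance] HasDerivedCategory.standard
open CAlg

namespace Groth.Agent.S7160

theorem hd_a {R : Type u} [CommRing R] (f : R) (K : CochainComplex (ModuleCat.{u} R) ℤ) (i : ℤ) : (HomologicalComplex.homologyFunctor (ModuleCat.{u} R) (ComplexShape.up ℤ) i).map (f • 𝟙 K) =
        f • 𝟙 (K.homology i) := by
  rw [HomologicalComplex.homologyFunctor_map, ← HomologicalComplex.homologyMap_id]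
  exact ShortComplex.homologyMap_smul
        ((HomologicalComplex.shortComplexFunctor (ModuleCat.{u} R) (ComplexShape.up ℤ) i).map (𝟙 K)) f

theorem hd_b {R : Type u} [CommRing R] (f : R) (K : CochainComplex (ModuleCat.{u} R) ℤ) : f • 𝟙 (DerivedCategory.Q.obj K) = DerivedCategory.Q.map (f • 𝟙 K) := by
  rw [CategoryTheory.Functor.map_smul, CategoryTheory.Functor.map_id]

theorem hd_c {R : Type u} [CommRing R] (f : R) (K : CochainComplex (ModuleCat.{u} R) ℤ) (i : ℤ) : (DerivedCategory.homologyFunctor (ModuleCat.{u} R) i).map (f • 𝟙 (DerivedCategory.Q.obj K)) =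
        f • 𝟙 ((DerivedCategory.homologyFunctor (ModuleCat.{u} R) i).obj (DerivedCategory.Q.obj K)) := by
  rw [hd_b f K]
  have e := (DerivedCategory.homologyFunctorFactors (ModuleCat.{u} R) i)
  have h := e.hom.naturality (f • 𝟙 K)
  rw [hd_a] at h
  refine (Category.comp_id _).symm.trans ?_
  erw [← (e.app K).hom_inv_id, ← Category.assoc, h]
  erw [Linear.comp_smul, Category.comp_id, Linear.smul_comp]
  rfl

theorem hd_map_smul {R : Type u} [CommRing R] (f : R) (M : Dual.D R) (i : ℤ) (x : Dual.HD R M i) :
    (DerivedCategory.homologyFunctor (ModuleCat.{u} R) i).map (f • 𝟙 M) x = f • x := by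
  have hQ := fun K => hd_c f K i
  let e := DerivedCategory.Q.objObjPreimageIso M
  have he : f • 𝟙 M = e.inv ≫ (f • 𝟙 _) ≫ e.hom := by
    rw [Linear.smul_comp, Category.id_comp, Linear.comp_smul, e.inv_hom_id]
  rw [he, Functor.map_comp, Functor.map_comp, hQ, Linear.smul_comp, Category.id_comp, Linear.comp_smul,
    ← Functor.map_comp, e.inv_hom_id, CategoryTheory.Functor.map_id]
  rfl


/-- Let R be a ring, f an element of R, M an object of D(R) and C the cone of f : M → M. Suppose that
H^i(M)_f = 0 whenever i < 0 (every element of H^i(M) is killed by a power of f) and that H^i(C) = 0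
whenever i < -1. Then H^i(M) vanishes for every i < 0. -/
theorem result (R : Type u) [CommRing R] (f : R) (M C : Dual.D R)
    (g : M ⟶ C) (h : C ⟶ M⟦(1 : ℤ)⟧) (hT : Triangle.mk (f • 𝟙 M) g h ∈ distinguishedTriangles)
    (hloc : ∀ i : ℤ, i < 0 → ∀ x : Dual.HD R M i, ∃ n : ℕ, f ^ n • x = 0)
    (hC : ∀ i : ℤ, i < -1 → Subsingleton (Dual.HD R C i)) :
    ∀ i : ℤ, i < 0 → Subsingleton (Dual.HD R M i) := by
  intro i hi
  have hinj : ∀ x : Dual.HD R M i, f • x = 0 → x = 0 := by
    intro x hx
    have he := (ShortComplex.ShortExact.moduleCat_exact_iff_function_exact _).mp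
      ((DerivedCategory.homologyFunctor (ModuleCat.{u} R) 0).homologySequence_exact₁ _ hT (i - 1) i (by omega))
    have hx' : (DerivedCategory.homologyFunctor (ModuleCat.{u} R) i).map (f • 𝟙 M) x = 0 := by
      rw [hd_map_smul]; exact hx
    obtain ⟨y, hy⟩ := (he x).mp hx'
    haveI := hC (i - 1) (by omega)
    rw [← hy, show y = 0 from Subsingleton.elim (α := Dual.HD R C (i - 1)) _ _]
    exact map_zero _
  refine subsingleton_of_forall_eq 0 fun x => ?_
  obtain ⟨n, hn⟩ := hloc i hi x
  induction n generalizing x with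
  | zero => simpa using hn
  | succ n ih =>
    rw [pow_succ', mul_smul] at hn
    exact ih x (hinj _ hn)

end Groth.Agent.S7160
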