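import Groth.Statements.S7161
import Mathlib
import Groth.Agent.Calg3.TorPow

set_option autoImplicit false
universe u
open CategoryTheory
open CAlg

namespace Groth.Agent.S7161

/-- Let A be a Noetherian ring, I an ideal, M a finite A-module and N an A-module annihilated by I. Then
there is an integer n > 0 such that the maps Tor_p^A(IⁿM, N) → Tor_p^A(M, N) induced by IⁿM ⊆ M are
zero for all p ≥ 0. -/
theorem result (A : Type u) [CommRing A] [IsNoetherianRing A] (I : Ideal A)
    (M N : Type u) [AddCommGroup M] [Module A M] [Module.Finite A M] [AddCommGroup N] [Module A N]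
    (hN : ∀ a ∈ I, ∀ y : N, a • y = 0) :
    ∃ n : ℕ, 0 < n ∧ ∀ p : ℕ,
      ((CategoryTheory.Tor (ModuleCat.{u} A) p).map (ModuleCat.ofHom (I ^ n • ⊤ : Submodule A M).subtype)).app
        (ModuleCat.of A N) = 0 := by
  classical
  obtain ⟨s, rfl⟩ := IsNoetherian.noetherian I
  obtain ⟨P⟩ := (inferInstance : HasProjectiveResolution (ModuleCat.of A N)).out
  obtain ⟨n, hn⟩ := Groth.Calg3.TorPow.eventually P s (fun a ha y => hN a (Ideal.subset_span ha) y) M inferInstance
  refine ⟨n + 1, Nat.succ_pos n, fun p => ?_⟩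
  have hle : (Ideal.span (s : Set A) ^ (n + 1) • ⊤ : Submodule A M) ≤ Ideal.span (s : Set A) ^ n • ⊤ :=
    Submodule.smul_mono_left (Ideal.pow_le_pow_right (Nat.le_succ n))
  have h := Groth.Calg3.TorPow.Z.comp_right P (Submodule.inclusion hle) hn p
  rw [Submodule.subtype_comp_inclusion] at h
  refine Eq.trans (ProjectiveResolution.leftDerived_app_eq _ P p) ?_
  exact (congrArg (fun x => _ ≫ x ≫ _) h).trans ((congrArg _ Limits.zero_comp).trans Limits.comp_zero)

end Groth.Agent.S7161
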