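import Groth.Statements.S7162
import Groth.Agent.EtaleAlgebra.SolDescentUnr
-- import your own Groth.Agent.* helpers here

set_option autoImplicit false
universe u
open EtAlg Groth.EtaleAlgebra

set_option maxHeartbeats 1000000
set_option synthInstance.maxHeartbeats 100000

namespace Groth.Agent.S7162

/-- Let A → B be an injective local homomorphism of discrete valuation rings whose fields of fractions
are K ⊆ L. There is a commutative square of such extensions A ⊆ A', B ⊆ B', A' ⊆ B' (with fraction
fields K', L') such that (1) K'/K and L'/L are separable algebraic, (2) the residue field of A' is a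
separable algebraic closure of that of A, and likewise for B' over B, and (3) whenever A' ⊆ B'
admits a solution (respectively a separable solution), so does A ⊆ B. (The published statement
asserts (3) for weak solutions as well; that clause is left out here: a weak solution for A' ⊆ B'
descends to a finite extension of K but controls only those local extensions attached to embeddings
compatible with K ⊆ K', and weak solutions, unlike solutions, are not preserved under passing to a
normal closure; the clause can fail when the residue field of A is not separably closed in that of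
B.) -/
theorem result (A B K L : Type u) [CommRing A] [IsDomain A]
    [IsDiscreteValuationRing A] [CommRing B] [IsDomain B] [IsDiscreteValuationRing B] [Algebra A B]
    (hinj : Function.Injective (algebraMap A B)) [IsLocalHom (algebraMap A B)]
    [Field K] [Field L] [Algebra A K] [IsFractionRing A K] [Algebra B L] [IsFractionRing B L]
    [Algebra K L] [Algebra A L] [IsScalarTower A K L] [IsScalarTower A B L] :
    ∃ (A' B' K' L' : Type u) (_ : CommRing A') (_ : IsDomain A') (_ : IsDiscreteValuationRing A')
      (_ : CommRing B') (_ : IsDomain B') (_ : IsDiscreteValuationRing B') (_ : Field K') (_ : Field L')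
      (_ : Algebra A A') (_ : Algebra B B') (_ : Algebra A' B') (_ : Algebra A B')
      (_ : IsScalarTower A B B') (_ : IsScalarTower A A' B')
      (_ : Algebra A' K') (_ : IsFractionRing A' K') (_ : Algebra B' L') (_ : IsFractionRing B' L')
      (_ : Algebra K' L') (_ : Algebra A' L') (_ : IsScalarTower A' K' L') (_ : IsScalarTower A' B' L')
      (_ : Algebra K K') (_ : Algebra A K') (_ : IsScalarTower A K K') (_ : IsScalarTower A A' K')
      (_ : Algebra L L') (_ : Algebra B L') (_ : IsScalarTower B L L') (_ : IsScalarTower B B' L')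
      (hA : IsLocalHom (algebraMap A A')) (hB : IsLocalHom (algebraMap B B')) (_ : IsLocalHom (algebraMap A' B')),
      Function.Injective (algebraMap A A') ∧ Function.Injective (algebraMap B B') ∧
      Function.Injective (algebraMap A' B') ∧
      Algebra.IsSeparable K K' ∧ Algebra.IsSeparable L L' ∧
      (letI := (IsLocalRing.ResidueField.map (algebraMap A A')).toAlgebra
       IsSepClosure (IsLocalRing.ResidueField A) (IsLocalRing.ResidueField A')) ∧
      (letI := (IsLocalRing.ResidueField.map (algebraMap B B')).toAlgebra
       IsSepClosure (IsLocalRing.ResidueField B) (IsLocalRing.ResidueField B')) ∧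
      ((∃ (K₁ : Type u) (_ : Field K₁) (_ : Algebra K' K₁), FiniteDimensional K' K₁ ∧ EtRam.IsSolution B' K' L' K₁) →
        ∃ (K₁ : Type u) (_ : Field K₁) (_ : Algebra K K₁), FiniteDimensional K K₁ ∧ EtRam.IsSolution B K L K₁) ∧
      ((∃ (K₁ : Type u) (_ : Field K₁) (_ : Algebra K' K₁), FiniteDimensional K' K₁ ∧ Algebra.IsSeparable K' K₁ ∧
          EtRam.IsSolution B' K' L' K₁) →
        ∃ (K₁ : Type u) (_ : Field K₁) (_ : Algebra K K₁), FiniteDimensional K K₁ ∧ Algebra.IsSeparable K K₁ ∧
          EtRam.IsSolution B K L K₁) := by
  classical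
  let Ω := AlgebraicClosure L
  obtain ⟨𝒱, h𝒱⟩ : ∃ 𝒱 : ValuationSubring Ω,
      EtRam.Dominates B ((algebraMap L Ω).comp (algebraMap B L)) 𝒱 := DegP.exists_dominates
  have hAB : ∀ a, (algebraMap K Ω) (algebraMap A K a) =
      algebraMap L Ω (algebraMap B L (algebraMap A B a)) := fun a => by
    rw [IsScalarTower.algebraMap_apply K L Ω, ← IsScalarTower.algebraMap_apply A K L, ← IsScalarTower.algebraMap_apply A B L]
  have hA : EtRam.Dominates A ((algebraMap K Ω).comp (algebraMap A K)) 𝒱 :=
    ⟨fun a => by rw [RingHom.comp_apply, hAB]; exact h𝒱.1 _, fun a ha => by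
      rw [RingHom.comp_apply, hAB]
      exact h𝒱.2 _ ((map_mem_nonunits_iff (algebraMap A B) a).2 ha)⟩
  let K' := UnrUnion.unrField A K Ω
  let L' := UnrUnion.unrField B L Ω
  have hle : ∀ x ∈ K', x ∈ L' := fun x hx => by
    refine (IntermediateField.adjoin_le_iff (T := L'.restrictScalars K)).2 ?_ hx
    rintro r ⟨q, hq, hqs, hq0⟩
    refine IntermediateField.subset_adjoin L _ ⟨q.map (algebraMap A B), hq.map _, ?_, ?_⟩
    · rw [Polynomial.map_map, show (IsLocalRing.residue B).comp (algebraMap A B) =
        (IsLocalRing.ResidueField.map (algebraMap A B)).comp (IsLocalRing.residue A) from rfl,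
        ← Polynomial.map_map]
      exact hqs.map
    · rw [Polynomial.eval₂_map]
      refine Eq.trans ?_ hq0
      congr 1
      exact RingHom.ext fun a => (hAB a).symm
  let _ : Algebra K' L' :=
    (RingHom.codRestrict (algebraMap K' Ω) L'.toSubfield fun x => hle _ x.2).toAlgebra
  let A' := 𝒱.comap (algebraMap K' Ω)
  let B' := 𝒱.comap (algebraMap L' Ω)
  let ιAA : A →+* A' := RingHom.codRestrict ((algebraMap K K').comp (algebraMap A K)) A'.toSubring
    fun a => hA.1 a
  let ιBB : B →+* B' := RingHom.codRestrict ((algebraMap L L').comp (algebraMap B L)) B'.toSubring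
    fun b => h𝒱.1 b
  let ιAB : A' →+* B' := RingHom.codRestrict ((algebraMap K' L').comp A'.subtype) B'.toSubring
    fun a => a.2
  let _ : Algebra A A' := ιAA.toAlgebra
  let _ : Algebra B B' := ιBB.toAlgebra
  let _ : Algebra A' B' := ιAB.toAlgebra
  let _ : Algebra A B' := (ιBB.comp (algebraMap A B)).toAlgebra
  let _ : Algebra A' L' := ((algebraMap K' L').comp A'.subtype).toAlgebra
  let _ : Algebra A K' := ((algebraMap K K').comp (algebraMap A K)).toAlgebra
  let _ : Algebra B L' := ((algebraMap L L').comp (algebraMap B L)).toAlgebra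
  have hA' : EtRam.Dominates A ((algebraMap K K').comp (algebraMap A K)) A' :=
    dominates_comp_iff.1 hA
  have hB' : EtRam.Dominates B ((algebraMap L L').comp (algebraMap B L)) B' :=
    dominates_comp_iff.1 h𝒱
  have hlA : IsLocalHom (algebraMap A A') := isLocalHom_codRestrict hA'
  have hlB : IsLocalHom (algebraMap B B') := isLocalHom_codRestrict hB'
  have hlAB : IsLocalHom (algebraMap A' B') := by
    have : IsLocalHom ((EtRam.inclOfComap 𝒱 (algebraMap L' Ω)).comp (algebraMap A' B')) :=
      show IsLocalHom (EtRam.inclOfComap 𝒱 (algebraMap K' Ω)) from inferInstance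
    exact isLocalHom_of_comp _ (EtRam.inclOfComap 𝒱 (algebraMap L' Ω))
  have : IsScalarTower A B B' := IsScalarTower.of_algebraMap_eq fun _ => rfl
  have : IsScalarTower A A' B' := IsScalarTower.of_algebraMap_eq fun a =>
    Subtype.ext (Subtype.ext (hAB a).symm)
  have : Algebra.IsSeparable K K' := UnrUnion.unrField_isSeparable hA
  have : IsScalarTower K' L' Ω := IsScalarTower.of_algebraMap_eq fun _ => rfl
  have : IsDiscreteValuationRing A' := UnrUnion.isDiscreteValuationRing_unr hA
  have : IsDiscreteValuationRing B' := UnrUnion.isDiscreteValuationRing_unr h𝒱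
  have hdesc := SolDescentUnr.descend A B K L K' L' Ω 𝒱 h𝒱 hA fun x => x.2
  refine ⟨A', B', K', L', inferInstance, inferInstance, UnrUnion.isDiscreteValuationRing_unr hA,
    inferInstance, inferInstance, UnrUnion.isDiscreteValuationRing_unr h𝒱, inferInstance,
    inferInstance, inferInstance, inferInstance, inferInstance, inferInstance, inferInstance,
    inferInstance, inferInstance, inferInstance, inferInstance, inferInstance, inferInstance,
    inferInstance, IsScalarTower.of_algebraMap_eq fun _ => rfl,
    IsScalarTower.of_algebraMap_eq fun _ => rfl, inferInstance, inferInstance,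
    IsScalarTower.of_algebraMap_eq fun _ => rfl, IsScalarTower.of_algebraMap_eq fun _ => rfl,
    inferInstance, inferInstance, IsScalarTower.of_algebraMap_eq fun _ => rfl,
    IsScalarTower.of_algebraMap_eq fun _ => rfl, hlA, hlB, hlAB, ?_, ?_, ?_,
    UnrUnion.unrField_isSeparable hA, UnrUnion.unrField_isSeparable h𝒱, ?_, ?_, ?_, ?_⟩
  · exact fun a c h => IsFractionRing.injective A K
      ((algebraMap K K').injective (congrArg Subtype.val h))
  · exact fun a c h => IsFractionRing.injective B L
      ((algebraMap L L').injective (congrArg Subtype.val h))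
  · exact fun a c h => Subtype.ext ((algebraMap K' L').injective (congrArg Subtype.val h))
  · exact UnrDescent.sepClosure_unr A K Ω hA fun _ => rfl
  · exact UnrDescent.sepClosure_unr B L Ω h𝒱 fun _ => rfl
  · rintro ⟨K₁, _, _, _, hsol⟩
    obtain ⟨N, hNf, hNa, h1, h2, -⟩ :=
      hdesc K₁ hsol
    exact ⟨N, hNf, hNa, h1, h2⟩
  · rintro ⟨K₁, _, _, _, hsep, hsol⟩
    obtain ⟨N, hNf, hNa, h1, h2, h3⟩ :=
      hdesc K₁ hsol
    exact ⟨N, hNf, hNa, h1, h3 hsep, h2⟩

end Groth.Agent.S7162
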