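import Groth.Statements.S7164
import Mathlib
import Groth.Agent.Calg3.PcArtinRees

set_option autoImplicit false
universe u
open CategoryTheory
attribute [local instance] HasDerivedCategory.standard
open CAlg

namespace Groth.Agent.S7164
open Groth.Calg3


/-- Let A be a Noetherian ring, I an ideal, K a pseudo-coherent object of D(A) and a an integer. Assume
that for every finite A-module M and every i ≥ a the module Ext^i_A(K, M) is I-power torsion. Then
for i ≥ a and M finite the inverse system (Ext^i_A(K, M/IⁿM))_n is essentially constant with value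
Ext^i_A(K, M) (so that Ext^i_A(K, M) = lim Ext^i_A(K, M/IⁿM)): concretely, some comparison map
Ext^i(K, M) → Ext^i(K, M/I^mM) is injective and for every n there is m' ≥ n such that the image of
the transition map Ext^i(K, M/I^(m')M) → Ext^i(K, M/IⁿM) is contained in the image of Ext^i(K, M).
Here Ext^i(K, X) = Hom_{D(A)}(K, X[i]). -/
theorem result (A : Type u) [CommRing A] [IsNoetherianRing A]
    (I : Ideal A) (K : Dual.D A) (hK : DRing.IsPseudoCoherent' A K) (a : ℤ)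
    (htors : ∀ (M : Type u) [AddCommGroup M] [Module A M], Module.Finite A M → ∀ i : ℤ, a ≤ i →
      ∀ e : K ⟶ (Dual.inD A M)⟦i⟧, ∃ n : ℕ, ∀ x ∈ I ^ n, x • e = 0)
    (M : Type u) [AddCommGroup M] [Module A M] [Module.Finite A M] (i : ℤ) (hi : a ≤ i) :
    let Mq : ℕ → Submodule A M := fun n => I ^ n • ⊤
    let c : ∀ n : ℕ, (K ⟶ (Dual.inD A M)⟦i⟧) → (K ⟶ (Dual.inD A (M ⧸ Mq n))⟦i⟧) :=
      fun n e => e ≫ ((DerivedCategory.singleFunctor (ModuleCat.{u} A) 0).map (ModuleCat.ofHom (Mq n).mkQ))⟦i⟧'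
    let t : ∀ n m : ℕ, n ≤ m → (K ⟶ (Dual.inD A (M ⧸ Mq m))⟦i⟧) → (K ⟶ (Dual.inD A (M ⧸ Mq n))⟦i⟧) :=
      fun n m hnm e => e ≫ ((DerivedCategory.singleFunctor (ModuleCat.{u} A) 0).map (ModuleCat.ofHom
        (Submodule.mapQ (Mq m) (Mq n) (LinearMap.id : M →ₗ[A] M) (Submodule.smul_mono_left (Ideal.pow_le_pow_right hnm)))))⟦i⟧'
    (∃ m : ℕ, Function.Injective (c m)) ∧
      ∀ n : ℕ, ∃ (m' : ℕ) (hnm : n ≤ m'), Set.range (t n m' hnm) ⊆ Set.range (c n) := by
  obtain ⟨E, b, hb, hE, ⟨eK⟩⟩ := hK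
  have hfin : ∀ j, Module.Finite A (E.X j) := fun j => (hE j).1
  have hfree : ∀ j, Module.Free A (E.X j) := fun j => (hE j).2
  have hproj : ∀ j, Module.Projective A (E.X j) := fun j => inferInstance
  intro Mq c t
  have hiq : i + -i = 0 := add_neg_cancel i
  set q : ℤ := -i
  obtain ⟨c₀, hc₀, hAR⟩ := Groth.Agent.S7153.result A I (E.X (q + 1) →ₗ[A] M) (E.X q →ₗ[A] M)
    (E.X (q - 1) →ₗ[A] M) (predif E M q (q + 1)) (predif E M (q - 1) q) (predif_comp_predif E M _ _ _)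
  have hnat : ∀ (N : Submodule A M) (φ : Zc E M q) (ψ : Zc E (M ⧸ N) q), ψ.1 = N.mkQ ∘ₗ φ.1 →
      classMap eK hiq φ ≫ ((DerivedCategory.singleFunctor (ModuleCat.{u} A) 0).map (ModuleCat.ofHom N.mkQ))⟦i⟧' =
        classMap eK hiq ψ := fun N => classMap_naturality eK hiq N.mkQ
  have hcz : ∀ (N : Submodule A M) (φ : Zc E M q), N.mkQ ∘ₗ φ.1 ∈ Zc E (M ⧸ N) q := fun N φ => by
    have h := LinearMap.mem_ker.1 φ.2
    rw [LinearMap.mem_ker]
    exact LinearMap.ext fun x => congrArg N.mkQ (LinearMap.congr_fun h x) |>.trans (map_zero _)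
  constructor
  · haveI : Module.Finite A (Zc E M q) := inferInstance
    haveI : Module.Finite A (K ⟶ (Dual.inD A M)⟦i⟧) :=
      Module.Finite.of_surjective _ (classMap_surjective eK hiq (M := M) hb hproj)
    obtain ⟨N, hN⟩ := exists_pow_smul_eq_zero I (htors M inferInstance i hi)
    obtain ⟨cK, hcK⟩ := I.exists_pow_inf_eq_pow_smul (LinearMap.ker (predif E M (q - 1) q))
    refine ⟨N + cK, fun e₁ e₂ he => ?_⟩
    rw [← sub_eq_zero]
    obtain ⟨φ, hφ⟩ := classMap_surjective eK hiq (M := M) hb hproj (e₁ - e₂)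
    rw [← hφ]
    have hz : classMap eK hiq (⟨_, hcz (Mq (N + cK)) φ⟩ : Zc E (M ⧸ Mq (N + cK)) q) = 0 := by
      rw [← hnat _ φ _ rfl, hφ, Preadditive.sub_comp, sub_eq_zero]
      exact he
    obtain ⟨ψ, hψ⟩ := classMap_eq_zero eK hiq hb hproj _ hz
    obtain ⟨ψ₁, hψ₁⟩ := Module.projective_lifting_property (Mq (N + cK)).mkQ ψ (Submodule.mkQ_surjective _)
    have hl : φ.1 - predif E M q (q + 1) ψ₁ ∈ I ^ (N + cK) • (⊤ : Submodule A (E.X q →ₗ[A] M)) := by
      rw [← comp_mkQ_eq_zero_iff]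
      refine LinearMap.ext fun x => ?_
      have h1 := LinearMap.congr_fun hψ x
      have h2 := LinearMap.congr_fun hψ₁ ((E.d q (q + 1)).hom x)
      simp only [LinearMap.comp_apply] at h1 h2
      simp only [LinearMap.comp_apply, LinearMap.sub_apply, map_sub, LinearMap.zero_apply, sub_eq_zero]
      exact h1.trans h2.symm
    have hker : φ.1 - predif E M q (q + 1) ψ₁ ∈ LinearMap.ker (predif E M (q - 1) q) := by
      rw [LinearMap.mem_ker, map_sub, LinearMap.mem_ker.1 φ.2, ← LinearMap.comp_apply,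
        predif_comp_predif, LinearMap.zero_apply, sub_zero]
    -- kill `I^N • ker` by torsion
    have htor : I ^ N • LinearMap.ker (predif E M (q - 1) q) ≤ LinearMap.range (predif E M q (q + 1)) := by
      rw [Submodule.smul_le]
      intro a ha z hz'
      have h0 : classMap eK hiq (a • (⟨z, hz'⟩ : Zc E M q)) = 0 := by rw [map_smul]; exact hN _ a ha
      obtain ⟨ψ', hψ'⟩ := classMap_eq_zero eK hiq hb hproj _ h0
      exact ⟨ψ', hψ'.symm⟩
    obtain ⟨ψ', hψ'⟩ : φ.1 - predif E M q (q + 1) ψ₁ ∈ LinearMap.range (predif E M q (q + 1)) := by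
      refine htor ?_
      have h : φ.1 - predif E M q (q + 1) ψ₁ ∈ I ^ (N + cK) • (⊤ : Submodule A (E.X q →ₗ[A] M)) ⊓
          LinearMap.ker (predif E M (q - 1) q) := ⟨hl, hker⟩
      rw [hcK _ (Nat.le_add_left cK N), Nat.add_sub_cancel] at h
      exact Submodule.smul_mono le_rfl inf_le_right h
    refine classMap_predif eK hiq (ψ' + ψ₁) _ ?_
    rw [map_add, hψ', sub_add_cancel]
  · intro n
    refine ⟨n + c₀, Nat.le_add_right n c₀, ?_⟩
    rintro _ ⟨e, rfl⟩
    obtain ⟨ψ, rfl⟩ := classMap_surjective eK hiq (M := M ⧸ Mq (n + c₀)) hb hproj e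
    obtain ⟨y, hy⟩ := Module.projective_lifting_property (Mq (n + c₀)).mkQ ψ.1 (Submodule.mkQ_surjective _)
    have hy' : y ∈ (I ^ (n + c₀) • ⊤ : Submodule A (E.X (q - 1) →ₗ[A] M)).comap (predif E M (q - 1) q) := by
      rw [Submodule.mem_comap, ← comp_mkQ_eq_zero_iff]
      refine LinearMap.ext fun x => ?_
      have h2 := LinearMap.congr_fun hy ((E.d (q - 1) q).hom x)
      exact h2.trans (LinearMap.congr_fun (LinearMap.mem_ker.1 ψ.2) x)
    obtain ⟨z, hz, hyz⟩ := (hAR n).1 y hy'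
    refine ⟨classMap eK hiq ⟨z, hz⟩, ?_⟩
    let g : (M ⧸ Mq (n + c₀)) →ₗ[A] (M ⧸ Mq n) := Submodule.mapQ (Mq (n + c₀)) (Mq n) LinearMap.id
      (Submodule.smul_mono_left (Ideal.pow_le_pow_right (Nat.le_add_right n c₀)))
    have hgz : g ∘ₗ ψ.1 ∈ Zc E (M ⧸ Mq n) q := by
      rw [LinearMap.mem_ker]
      exact LinearMap.ext fun x => (congrArg g (LinearMap.congr_fun (LinearMap.mem_ker.1 ψ.2) x)).trans (map_zero g)
    have e1 : c n (classMap eK hiq ⟨z, hz⟩) = classMap eK hiq (⟨_, hcz (Mq n) ⟨z, hz⟩⟩ : Zc E (M ⧸ Mq n) q) :=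
      hnat (Mq n) ⟨z, hz⟩ _ rfl
    have e2 : t n (n + c₀) (Nat.le_add_right n c₀) (classMap eK hiq ψ) = classMap eK hiq (⟨_, hgz⟩ : Zc E (M ⧸ Mq n) q) :=
      classMap_naturality eK hiq g ψ _ rfl
    rw [e1, e2, eq_comm, ← sub_eq_zero, ← map_sub]
    obtain ⟨_, ⟨k, rfl⟩, l, hl, hkl⟩ := Submodule.mem_sup.1 hyz
    refine classMap_predif eK hiq ((Mq n).mkQ ∘ₗ k) _ ?_
    refine LinearMap.ext fun x => ?_
    have h1 : g (ψ.1 x) = (Mq n).mkQ (y x) := by rw [← hy]; rfl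
    have h2 : (Mq n).mkQ (l x) = 0 := LinearMap.congr_fun ((comp_mkQ_eq_zero_iff (I ^ n) l).2 hl) x
    have h3 : y x - z x = predif E M q (q + 1) k x + l x := (LinearMap.congr_fun hkl x).symm
    show g (ψ.1 x) - (Mq n).mkQ (z x) = (Mq n).mkQ (predif E M q (q + 1) k x)
    rw [h1, ← map_sub, h3, map_add, h2, add_zero]

end Groth.Agent.S7164
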