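import Groth.Statements.S7165
import Groth.Agent.S6370
import Mathlib.RingTheory.EssentialFiniteness
import Mathlib.RingTheory.HopkinsLevitzki
import Mathlib.RingTheory.Ideal.Quotient.Operations
-- import your own Groth.Agent.* helpers here

set_option autoImplicit false
universe u
open EtAlg

namespace Groth.Agent.S7165

/-- A subdirect product of finitely many Noetherian rings is Noetherian. -/
theorem isNoetherianRing_of_injective_pi {R : Type u} [CommRing R] {ι : Type u} [Finite ι]
    (S : ι → Type u) [∀ i, CommRing (S i)] [∀ i, IsNoetherianRing (S i)] (f : ∀ i, R →+* S i)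
    (hf : ∀ i, Function.Surjective (f i)) (hinj : Function.Injective (Pi.ringHom f)) :
    IsNoetherianRing R := by
  let _ : ∀ i, Algebra R (S i) := fun i => (f i).toAlgebra
  have : ∀ i, IsNoetherian R (S i) := fun i => isNoetherian_def.2 fun N => by
    have hclosed : ∀ (c : S i) {x : S i}, x ∈ N → c • x ∈ N := fun c x hx => by
      obtain ⟨r, rfl⟩ := hf i c
      exact N.smul_mem r hx
    let I : Submodule (S i) (S i) :=
      { N with smul_mem' := fun c _ hx => hclosed c hx }
    have hI : I.restrictScalars R = N := SetLike.ext fun _ => Iff.rfl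
    rw [← hI]
    exact Submodule.FG.restrictScalars_of_surjective (IsNoetherian.noetherian I) (hf i)
  have : IsNoetherian R (∀ i, S i) := inferInstance
  let l : R →ₗ[R] ∀ i, S i :=
    { toFun := Pi.ringHom f
      map_add' := map_add _
      map_smul' := fun a b => by rw [smul_eq_mul, map_mul]; rfl }
  exact isNoetherianRing_iff.2 (isNoetherian_of_injective l hinj)

open TensorProduct in
/-- Let A → B be an injective local homomorphism of discrete valuation rings whose fields of fractions
are K ⊆ L, the A-algebra B being essentially of finite type. Let K' ⊇ K be an algebraic extension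
field for which A', the integral closure of A in K', is a Noetherian ring, and let L' = (L ⊗_K
K')_red. Then B', the integral closure of B in L', is a Noetherian ring. (The published statement
also asserts that Spec B' → Spec A' is surjective and that the residue field extensions are finitely
generated; this row states only that B' is Noetherian.) -/
theorem result (A B K L : Type u) [CommRing A] [IsDomain A]
    [IsDiscreteValuationRing A] [CommRing B] [IsDomain B] [IsDiscreteValuationRing B] [Algebra A B]
    (hinj : Function.Injective (algebraMap A B)) [IsLocalHom (algebraMap A B)] [Algebra.EssFiniteType A B]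
    [Field K] [Field L] [Algebra A K] [IsFractionRing A K] [Algebra B L] [IsFractionRing B L]
    [Algebra K L] [Algebra A L] [IsScalarTower A K L] [IsScalarTower A B L]
    (K' : Type u) [Field K'] [Algebra K K'] [Algebra A K'] [IsScalarTower A K K'] [Algebra.IsAlgebraic K K']
    (hA' : IsNoetherianRing (integralClosure A K'))
    (L' : Type u) [CommRing L'] [IsReduced L'] [Algebra K L'] [Algebra L L'] [Algebra K' L'] [Algebra B L']
    [IsScalarTower K L L'] [IsScalarTower K K' L'] [IsScalarTower B L L']
    (q : L ⊗[K] K' →ₐ[K] L') (hq : Function.Surjective q) (hker : RingHom.ker q.toRingHom = nilradical (L ⊗[K] K'))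
    (hqL : ∀ y : L, q (y ⊗ₜ 1) = algebraMap L L' y) (hqK : ∀ z : K', q (1 ⊗ₜ z) = algebraMap K' L' z) :
    IsNoetherianRing (integralClosure B L') := by
  classical
  -- the ambient ring is a finite product of fields
  have : Algebra.EssFiniteType B L := Algebra.EssFiniteType.of_isLocalization L (nonZeroDivisors B)
  have : Algebra.EssFiniteType A L := Algebra.EssFiniteType.comp A B L
  have : Algebra.EssFiniteType K L := Algebra.EssFiniteType.of_comp A K L
  have : IsNoetherianRing (K' ⊗[K] L) := Algebra.EssFiniteType.isNoetherianRing K' _
  have : IsNoetherianRing (L ⊗[K] K') :=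
    isNoetherianRing_of_ringEquiv _ (Algebra.TensorProduct.comm K K' L).toRingEquiv
  have : IsNoetherianRing L' := isNoetherianRing_of_surjective _ _ q.toRingHom hq
  have hint : Algebra.IsIntegral L L' := ⟨fun x => by
    obtain ⟨x, rfl⟩ := hq x
    induction x using TensorProduct.induction_on with
    | zero => rw [map_zero]; exact isIntegral_zero
    | tmul y z =>
      rw [show y ⊗ₜ[K] z = (y ⊗ₜ[K] (1 : K')) * ((1 : L) ⊗ₜ[K] z) by simp, map_mul, hqL, hqK]
      refine isIntegral_algebraMap.mul ?_
      exact ((Algebra.IsIntegral.isIntegral (R := K) z).map (IsScalarTower.toAlgHom K K' L')).tower_top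
    | add u v hu hv => rw [map_add]; exact hu.add hv⟩
  have : Ring.KrullDimLE 0 L' := Ring.KrullDimLE.mk₀ fun I hI => by
    refine Ideal.isMaximal_of_isIntegral_of_isMaximal_comap (R := L) I ?_
    rw [(Ideal.eq_bot_or_top (I.comap (algebraMap L L'))).resolve_right (Ideal.IsPrime.ne_top inferInstance)]
    exact Ideal.bot_isMaximal
  have : IsArtinianRing L' := isArtinianRing_iff_krullDimLE_zero.2 inferInstance
  let A'' := integralClosure A K'
  -- each factor
  have hfac : ∀ m : MaximalSpectrum L', IsNoetherianRing (integralClosure B (L' ⧸ m.asIdeal)) := by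
    intro m
    let M := L' ⧸ m.asIdeal
    let _ : Field M := Ideal.Quotient.field m.asIdeal
    let _ : Algebra A M := ((algebraMap B M).comp (algebraMap A B)).toAlgebra
    have : IsScalarTower A B M := IsScalarTower.of_algebraMap_eq fun _ => rfl
    have hKM : ∀ x : A, algebraMap A M x = algebraMap K' M (algebraMap A K' x) := fun x => by
      show algebraMap B M (algebraMap A B x) = _
      rw [IsScalarTower.algebraMap_apply B L M, ← IsScalarTower.algebraMap_apply A B L,
        IsScalarTower.algebraMap_apply A K L, IsScalarTower.algebraMap_apply A K K',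
        ← IsScalarTower.algebraMap_apply K L M, ← IsScalarTower.algebraMap_apply K K' M]
    let φA : A'' →ₐ[A] M :=
      { toRingHom := (algebraMap K' M).comp A''.val.toRingHom
        commutes' := fun x => (hKM x).symm }
    let φ : B ⊗[A] A'' →ₐ[A] M :=
      Algebra.TensorProduct.lift (IsScalarTower.toAlgHom A B M) φA (fun _ _ => Commute.all _ _)
    have : IsNoetherianRing A'' := hA'
    have : IsNoetherianRing (B ⊗[A] A'') := by
      have : IsNoetherianRing (A'' ⊗[A] B) := Algebra.EssFiniteType.isNoetherianRing A'' _
      exact isNoetherianRing_of_ringEquiv _ (Algebra.TensorProduct.comm A A'' B).toRingEquiv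
    let B'' : Subalgebra B M :=
      { φ.range.toSubsemiring with
        algebraMap_mem' := fun b => ⟨b ⊗ₜ 1, by
          refine (Algebra.TensorProduct.lift_tmul _ _ _ _ _).trans ?_
          rw [map_one, mul_one]
          rfl⟩ }
    have hB''mem : ∀ {x : M}, x ∈ B'' ↔ ∃ t, φ t = x := Iff.rfl
    have : IsNoetherianRing B'' :=
      isNoetherianRing_of_surjective _ _ (φ.toRingHom.codRestrict B'' fun t => ⟨t, rfl⟩)
        fun ⟨x, hx⟩ => by
          obtain ⟨t, ht⟩ := hB''mem.1 hx
          exact ⟨t, Subtype.ext ht⟩
    have hintB : Algebra.IsIntegral B B'' := ⟨fun ⟨x, hx⟩ => by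
      obtain ⟨t, rfl⟩ := hB''mem.1 hx
      refine (isIntegral_algHom_iff B''.val Subtype.val_injective).1 ?_
      show IsIntegral B (φ t)
      clear hx
      induction t using TensorProduct.induction_on with
      | zero => rw [map_zero]; exact isIntegral_zero
      | tmul b a =>
        refine (congrArg (IsIntegral B) (Algebra.TensorProduct.lift_tmul _ _ _ _ _)).mpr ?_
        refine IsIntegral.mul ?_ ?_
        · exact (isIntegral_algebraMap : IsIntegral B (algebraMap B M b))
        · exact (IsIntegral.map φA (Algebra.IsIntegral.isIntegral (R := A) a)).tower_top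
      | add u v hu hv => rw [map_add]; exact hu.add hv⟩
    have hBinj : Function.Injective (algebraMap B B'') := fun x y h => by
      have h' : algebraMap B M x = algebraMap B M y := congrArg Subtype.val h
      rw [IsScalarTower.algebraMap_apply B L M, IsScalarTower.algebraMap_apply B L M] at h'
      exact IsFractionRing.injective B L ((algebraMap L M).injective h')
    have : Ring.KrullDimLE 1 B'' := by
      refine Ring.krullDimLE_one_iff_of_isPrime_bot.2 fun I hI hI' => ?_
      refine Ideal.isMaximal_of_isIntegral_of_isMaximal_comap (R := B) I ?_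
      exact (inferInstance : (I.comap (algebraMap B B'')).IsPrime).isMaximal (Ideal.IsIntegral.comap_ne_bot B hI)
    have hdim : ringKrullDim B'' = 1 := by
      refine le_antisymm ((Ring.krullDimLE_iff).1 inferInstance) ?_
      by_contra hlt
      have : Ring.KrullDimLE 0 B'' := Ring.krullDimLE_iff.2 (by
        have h := lt_of_not_ge hlt
        obtain ⟨n, hn⟩ : ∃ n : ℕ∞, ringKrullDim B'' = n :=
          WithBot.ne_bot_iff_exists.1 (fun hb => by simp [ringKrullDim, Order.krullDim_eq_bot_iff] at hb) |>.imp fun _ h => h.symm
        rw [hn] at h ⊢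
        have h1 : n < 1 := by exact_mod_cast h
        exact le_of_eq (by exact_mod_cast ENat.lt_one_iff_eq_zero.1 h1))
      refine absurd (Ring.KrullDimLE.isField_of_isDomain (R := B'')) ?_
      exact fun h => IsDiscreteValuationRing.not_isField B (isField_of_isIntegral_of_isField hBinj h)
    have : IsFractionRing B'' M := by
      refine IsFractionRing.of_field B'' M fun z => ?_
      let F : Subfield M := Subfield.closure (B'' : Set M)
      have hz : z ∈ F := by
        obtain ⟨z, rfl⟩ := Ideal.Quotient.mk_surjective z
        obtain ⟨t, rfl⟩ := hq z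
        induction t using TensorProduct.induction_on with
        | zero => rw [map_zero, map_zero]; exact zero_mem _
        | tmul y w =>
          rw [show y ⊗ₜ[K] w = (y ⊗ₜ[K] (1 : K')) * ((1 : L) ⊗ₜ[K] w) by simp, map_mul, map_mul,
            hqL, hqK]
          refine mul_mem ?_ ?_
          · obtain ⟨b, c, -, rfl⟩ := IsFractionRing.div_surjective B y
            show algebraMap L M _ ∈ F
            rw [map_div₀, ← IsScalarTower.algebraMap_apply B L M, ← IsScalarTower.algebraMap_apply B L M]
            exact div_mem (Subfield.subset_closure (B''.algebraMap_mem b))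
              (Subfield.subset_closure (B''.algebraMap_mem c))
          · have : Algebra.IsAlgebraic A K' := (IsFractionRing.comap_isAlgebraic_iff (A := A) (K := K)).2 inferInstance
            have : IsFractionRing A'' K' := integralClosure.isFractionRing_of_algebraic (fun x hx =>
              (map_eq_zero_iff _ (IsFractionRing.injective A K)).1 ((algebraMap K K').injective (by
                rw [← IsScalarTower.algebraMap_apply A K K', hx, map_zero])))
            obtain ⟨a, c, -, rfl⟩ := IsFractionRing.div_surjective A'' w
            show algebraMap K' M _ ∈ F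
            rw [map_div₀]
            exact div_mem
              (Subfield.subset_closure (hB''mem.2 ⟨1 ⊗ₜ a, by
                refine (Algebra.TensorProduct.lift_tmul _ _ _ _ _).trans ?_
                rw [map_one, one_mul]; rfl⟩))
              (Subfield.subset_closure (hB''mem.2 ⟨1 ⊗ₜ c, by
                refine (Algebra.TensorProduct.lift_tmul _ _ _ _ _).trans ?_
                rw [map_one, one_mul]; rfl⟩))
        | add u v hu hv => rw [map_add, map_add]; exact add_mem hu hv
      obtain ⟨x, hx, y, hy, rfl⟩ := Subfield.mem_closure_iff.1 hz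
      have hcl : Subring.closure (B'' : Set M) ≤ B''.toSubring :=
        Subring.closure_le.2 fun w hw => hw
      exact ⟨⟨x, hcl hx⟩, ⟨y, hcl hy⟩, rfl⟩
    let C := integralClosure B'' M
    have : IsDedekindDomain C := (S6370.result B'' M M C hdim).1
    let e : C →+* integralClosure B M :=
      C.val.toRingHom.codRestrict (integralClosure B M).toSubring fun x =>
        show IsIntegral B (x : M) from isIntegral_trans (R := B) (A := B'') (x : M) x.2
    exact isNoetherianRing_of_surjective _ _ e fun ⟨x, hx⟩ => ⟨⟨x, hx.tower_top⟩, rfl⟩
  -- glue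
  refine isNoetherianRing_of_injective_pi (fun m : MaximalSpectrum L' => integralClosure B (L' ⧸ m.asIdeal))
    (fun m => ((Ideal.Quotient.mk m.asIdeal).comp (integralClosure B L').val.toRingHom).codRestrict
      (integralClosure B (L' ⧸ m.asIdeal)).toSubring
      fun x => IsIntegral.map (Ideal.Quotient.mkₐ B m.asIdeal) x.2) ?_ ?_
  · rintro m ⟨x, hx⟩
    obtain ⟨x, rfl⟩ := Ideal.Quotient.mk_surjective x
    have hpair : Pairwise fun a b : MaximalSpectrum L' => IsCoprime a.asIdeal b.asIdeal :=
      fun a b hab => Ideal.isCoprime_iff_sup_eq.2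
        (a.isMaximal.coprime_of_ne b.isMaximal fun h => hab (MaximalSpectrum.ext h))
    obtain ⟨y, hy⟩ := Ideal.pi_quotient_surjective hpair
      (Pi.single m (Ideal.Quotient.mk m.asIdeal x) : ∀ n : MaximalSpectrum L', L' ⧸ n.asIdeal)
    have hy0 : ∀ n, n ≠ m → Ideal.Quotient.mk n.asIdeal y = 0 := fun n hn => by
      have := hy n
      rw [Pi.single_eq_of_ne hn] at this
      exact this
    have hym : Ideal.Quotient.mk m.asIdeal y = Ideal.Quotient.mk m.asIdeal x := by
      have := hy m
      rw [Pi.single_eq_same] at this
      exact this
    obtain ⟨P, hP, hP0⟩ := hx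
    have hyint : IsIntegral B y := ⟨Polynomial.X * P, Polynomial.monic_X.mul hP, by
      rw [Polynomial.eval₂_mul, Polynomial.eval₂_X]
      have hbot : (⨅ n : MaximalSpectrum L', n.asIdeal) = ⊥ := by
        refine eq_bot_iff.2 fun w hw => ?_
        rw [← Ideal.zero_eq_bot, ← nilradical_eq_zero L', nilradical_eq_sInf, Ideal.mem_sInf]
        intro I (hI : I.IsPrime)
        exact (Submodule.mem_iInf _).1 hw ⟨I, IsArtinianRing.isMaximal_of_isPrime I⟩
      rw [← Submodule.mem_bot L', ← hbot, Submodule.mem_iInf]
      intro n
      rw [← Ideal.Quotient.eq_zero_iff_mem, map_mul]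
      by_cases hn : n = m
      · subst hn
        rw [Polynomial.hom_eval₂, hym]
        exact mul_eq_zero_of_right _ hP0
      · rw [hy0 n hn, zero_mul]⟩
    exact ⟨⟨y, hyint⟩, Subtype.ext hym⟩
  · intro x y h
    refine Subtype.ext (sub_eq_zero.1 ?_)
    rw [← Submodule.mem_bot L', ← nilradical_eq_zero L' |>.trans Ideal.zero_eq_bot, nilradical_eq_sInf,
      Ideal.mem_sInf]
    intro I (hI : I.IsPrime)
    exact Ideal.Quotient.eq.1 (congrArg Subtype.val
      (congrFun h ⟨I, IsArtinianRing.isMaximal_of_isPrime I⟩))

end Groth.Agent.S7165
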