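import Groth.Statements.S7170
import Groth.Agent.PCohHom.MorBaseChange
import Groth.Agent.PCohHom.FiniteMap
import Mathlib.AlgebraicGeometry.Morphisms.Finite

set_option autoImplicit false
universe u
attribute [local instance] HasDerivedCategory.standard
open FlatMor

namespace Groth.Agent.S7170

open AlgebraicGeometry CategoryTheory Limits in
/-- For a finite morphism f : X → S, pseudo-coherence of f is equivalent to pseudo-coherence of the
O_S-module f_* O_X; as f is affine, the latter means that O_X(f⁻¹ V) is a pseudo-coherent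
O_S(V)-module for every affine open V of S, the form used here. -/
theorem result {X S : Scheme.{u}} (f : X ⟶ S) [IsFinite f] :
    MoreMor.IsPseudoCoherentMor f ↔ ∀ (V : S.Opens), IsAffineOpen V →
      (letI := (f.app V).hom.toAlgebra
       DRing.IsPseudoCoherentModule' Γ(S, V) Γ(X, f ⁻¹ᵁ V)) := by
  constructor
  · intro hf V hV
    have hU : IsAffineOpen (f ⁻¹ᵁ V) := hV.preimage f
    have := hf (f ⁻¹ᵁ V) V hU hV le_rfl
    rw [← Scheme.Hom.app_eq_appLE] at this
    let _ := (f.app V).hom.toAlgebra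
    have : Module.Finite Γ(S, V) Γ(X, f ⁻¹ᵁ V) := f.finite_app V hV
    exact Groth.PCohHom.pcHom_iff_of_finite.1 ‹_›
  · intro h
    rw [← Groth.PCohHom.morPC_iff, Groth.PCohHom.iff_exists_appLE_pc]
    intro x
    obtain ⟨V, hV, hxV, -⟩ := exists_isAffineOpen_mem_and_subset (show f x ∈ (⊤ : S.Opens) from trivial)
    refine ⟨⟨V, hV⟩, ⟨f ⁻¹ᵁ V, hV.preimage f⟩, hxV, le_rfl, ?_⟩
    rw [← Scheme.Hom.app_eq_appLE]
    let _ := (f.app V).hom.toAlgebra
    have : Module.Finite Γ(S, V) Γ(X, f ⁻¹ᵁ V) := f.finite_app V hV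
    exact Groth.PCohHom.pcHom_iff_of_finite.2 (h V hV)

end Groth.Agent.S7170
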