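import Groth.Statements.S7173
import Groth.Agent.S7069

set_option autoImplicit false
universe u
attribute [local instance] HasDerivedCategory.standard
open FlatMor

namespace Groth.Agent.S7173

open AlgebraicGeometry CategoryTheory Limits in
/-- A morphism locally of finite type to a regular scheme S (locally Noetherian with all local rings
regular) whose affine opens have finite Krull dimension is perfect. (The published statement carries
no dimension hypothesis; its proof is the ring statement for a finite type algebra over a regular
ring of finite dimension, so finite Krull dimension of the affine opens of S is assumed here.) -/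
theorem result {X S : Scheme.{u}} (f : X ⟶ S) [LocallyOfFiniteType f] [IsLocallyNoetherian S]
    (hreg : ∀ s : S, IsRegularLocalRing (S.presheaf.stalk s))
    (hdim : ∀ V : S.Opens, IsAffineOpen V → ringKrullDim Γ(S, V) < ⊤) :
    MoreMor.IsPerfectMor f := by
  intro U V hU hV hUV
  let _ := (f.appLE V U hUV).hom.toAlgebra
  have : IsNoetherianRing Γ(S, V) := IsLocallyNoetherian.component_noetherian ⟨V, hV⟩
  have : IsRegularRing Γ(S, V) := IsRegularRing.mk fun p _ => by
    let _ := (S.presheaf.germ V (hV.fromSpec ⟨p, inferInstance⟩) (hV.range_fromSpec.le ⟨_, rfl⟩)).hom.toAlgebra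
    have : IsLocalization p.primeCompl (S.presheaf.stalk (hV.fromSpec ⟨p, inferInstance⟩)) :=
      hV.isLocalization_stalk' ⟨p, inferInstance⟩ (hV.range_fromSpec.le ⟨_, rfl⟩)
    have := hreg (hV.fromSpec ⟨p, inferInstance⟩)
    exact IsRegularLocalRing.of_ringEquiv (IsLocalization.algEquiv p.primeCompl
      (S.presheaf.stalk (hV.fromSpec ⟨p, inferInstance⟩)) (Localization.AtPrime p)).toRingEquiv
  have : Algebra.FiniteType Γ(S, V) Γ(X, U) :=
    HasRingHomProperty.appLE (P := @LocallyOfFiniteType) f ‹_› ⟨V, hV⟩ ⟨U, hU⟩ hUV
  exact Groth.Agent.S7069.result _ _ (hdim V hV)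

end Groth.Agent.S7173
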