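import Groth.Statements.S7176
import Groth.Agent.KoszulLCI.Kinds
import Groth.Agent.S9774

set_option autoImplicit false
universe u
attribute [local instance] HasDerivedCategory.standard
open FlatMor

namespace Groth.Agent.S7176

open AlgebraicGeometry CategoryTheory Limits in
/-- Let i : Z → Y and j : Y → X be immersions with X locally Noetherian, j ∘ i a regular immersion and i
perfect. Then i is a regular immersion and j is a regular immersion at every point i(z), z in Z.
(The published statement concludes that j is a regular immersion outright; its proof works in the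
local rings of X at points of Z, and for Z empty the hypotheses hold for every immersion j, so the
conclusion on j is stated at the points of i(Z) only.) Over a locally Noetherian scheme the four
kinds of regular immersion agree; the kind is a parameter here. -/
theorem result {Z Y X : Scheme.{u}} (i : Z ⟶ Y) (j : Y ⟶ X) [IsImmersion i] [IsImmersion j]
    [IsLocallyNoetherian X] (k : RegImm.Kind) (h : RegImm.IsRegularImmersion k (i ≫ j)) (hi : MoreMor.IsPerfectMor i) :
    RegImm.IsRegularImmersion k i ∧ ∀ z : Z, RegImm.IsRegularImmersionAt k j (i z) := by
  have : IsLocallyNoetherian Y := LocallyOfFiniteType.isLocallyNoetherian j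
  obtain ⟨h1, h2⟩ := Groth.Agent.S9774.result i j hi fun z => by
    have hk := (Groth.KoszulLCI.isRegularImmersion_kind_iff k (i ≫ j)).1 h
    exact Groth.KoszulLCI.isKoszulAt_of_morLCI _ (Groth.KoszulLCI.morLCI_of_isRegularImmersion _
      (Groth.KoszulLCI.isRegularImmersion_of_isRegularImmersion_regular .koszul _ hk)) z
  refine ⟨?_, fun z => ?_⟩
  · exact Groth.KoszulLCI.isRegularImmersion_of_isRegularImmersion_regular k i
      ((Groth.KoszulLCI.isRegularImmersion_kind_iff .koszul i).1
        (Groth.KoszulLCI.isRegularImmersion_of_morLCI i (Groth.KoszulLCI.morLCI_of_isKoszulAt i h1)))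
  · obtain ⟨U, hz, hci, rs, hrs, hker⟩ := Groth.KoszulLCI.isRegularImmersionAt_regular j .koszul (i z)
      (Groth.KoszulLCI.isRegularImmersionAt_of_isKoszulAt j (i z) (h2 z))
    refine ⟨U, hz, hci, rs, ?_, hker⟩
    cases k with
    | regular => exact hrs
    | koszul => exact Groth.KoszulLCI.seq_koszul_of_regular hrs
    | h1 => exact Groth.KoszulLCI.seq_h1_of_koszul (Groth.KoszulLCI.seq_koszul_of_regular hrs)
    | quasi => exact Groth.KoszulLCI.seq_quasi .regular hrs

end Groth.Agent.S7176
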