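import Groth.Statements.S7177
import Groth.Agent.EtaleAlgebra.WeaklyEtale
import Groth.Agent.QCohMod.Affine

set_option autoImplicit false
universe u
open FlatMor

namespace Groth.Agent.S7177

open AlgebraicGeometry CategoryTheory Limits in
/-- Let f : X → Y have flat diagonal and let F be an O_X-module flat over Y. Then F is flat as an
O_X-module. -/
theorem result {X Y : Scheme.{u}} (f : X ⟶ Y) [Flat (pullback.diagonal f)] (F : X.Modules)
    (hF : FlatMod.IsFlatOver f F) : FlatMod.IsFlat F := by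
  intro x
  obtain ⟨V, hV, hxV, -⟩ := exists_isAffineOpen_mem_and_subset (U := (⊤ : Y.Opens)) (x := f x) trivial
  obtain ⟨U, hU, hxU, hUV⟩ := exists_isAffineOpen_mem_and_subset (U := f ⁻¹ᵁ V) (x := x) hxV
  have e : U ≤ f ⁻¹ᵁ V := hUV
  letI : Algebra Γ(Y, V) Γ(X, U) := (f.appLE V U e).hom.toAlgebra
  -- the multiplication of `Γ(U)` over `Γ(V)` is flat
  have hd : (MorphismProperty.diagonal @Flat) (hU.fromSpec ≫ f) := by
    refine MorphismProperty.comp_mem _ _ _ ?_ ‹Flat (pullback.diagonal f)›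
    exact inferInstanceAs (Flat (pullback.diagonal hU.fromSpec))
  rw [← IsAffineOpen.SpecMap_appLE_fromSpec f hV hU e, MorphismProperty.diagonal_iff,
    pullback.diagonal_comp, MorphismProperty.cancel_right_of_respectsIso @Flat,
    show f.appLE V U e = CommRingCat.ofHom (algebraMap Γ(Y, V) Γ(X, U)) from rfl, diagonal_SpecMap,
    MorphismProperty.cancel_right_of_respectsIso @Flat, HasRingHomProperty.Spec_iff (P := @Flat)] at hd
  -- the stalk
  letI := FlatMod.moduleStalkOver f F x
  haveI : Module.Flat (Y.presheaf.stalk (f x)) (F.presheaf.stalk x) := hF x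
  letI := Y.presheaf.algebra_section_stalk ⟨f x, e hxU⟩
  haveI := hV.isLocalization_stalk ⟨f x, e hxU⟩
  letI := X.presheaf.algebra_section_stalk ⟨x, hxU⟩
  haveI := hU.isLocalization_stalk ⟨x, hxU⟩
  letI := Groth.QCohMod.stalkModule F x hxU
  haveI : IsScalarTower Γ(X, U) (X.presheaf.stalk x) (F.presheaf.stalk x) :=
    .of_algebraMap_smul fun _ _ => rfl
  letI : Module Γ(Y, V) (F.presheaf.stalk x) :=
    Module.compHom _ ((X.presheaf.germ U x hxU).hom.comp (f.appLE V U e).hom)
  haveI : IsScalarTower Γ(Y, V) Γ(X, U) (F.presheaf.stalk x) :=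
    .of_algebraMap_smul fun _ _ => rfl
  haveI : IsScalarTower Γ(Y, V) (Y.presheaf.stalk (f x)) (F.presheaf.stalk x) :=
    .of_algebraMap_smul fun r t => by
      change f.stalkMap x (Y.presheaf.germ V (f x) (e hxU) r) • t =
        X.presheaf.germ U x hxU (f.appLE V U e r) • t
      rw [Scheme.Hom.germ_stalkMap_apply]
      congr 1
      exact (TopCat.Presheaf.germ_res_apply X.presheaf (homOfLE e) x hxU _).symm
  haveI : Module.Flat Γ(Y, V) (F.presheaf.stalk x) :=
    (Module.flat_iff_of_isLocalization (Y.presheaf.stalk (f x))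
      (hV.primeIdealOf ⟨f x, e hxU⟩).asIdeal.primeCompl (F.presheaf.stalk x)).mp inferInstance
  exact (Module.flat_iff_of_isLocalization (X.presheaf.stalk x)
      (hU.primeIdealOf ⟨x, hxU⟩).asIdeal.primeCompl (F.presheaf.stalk x)).mpr
    (Groth.EtaleAlgebra.flat_of_flat_mul Γ(Y, V) Γ(X, U) hd _)

end Groth.Agent.S7177
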