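import Groth.Statements.S7178
import Groth.Agent.FlatMor2.WeaklyEtaleStalk

set_option autoImplicit false
universe u
open FlatMor

namespace Groth.Agent.S7178

open AlgebraicGeometry CategoryTheory Limits in
/-- (1) ⇔ (2): f : X → S is weakly étale if and only if, whenever U ⊆ X and V ⊆ S are affine opens and f
maps U into V, the ring O_X(U) is a weakly étale O_S(V)-algebra (flat, with flat multiplication map
O_X(U) ⊗ O_X(U) → O_X(U) over O_S(V)). -/
theorem result {X S : Scheme.{u}} (f : X ⟶ S) :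
    WeaklyEtale f ↔ ∀ (U : X.Opens) (V : S.Opens) (_ : IsAffineOpen U) (_ : IsAffineOpen V) (hUV : U ≤ f ⁻¹ᵁ V),
      (letI := (f.appLE V U hUV).hom.toAlgebra
       Algebra.WeaklyEtale Γ(S, V) Γ(X, U)) := by
  constructor
  · intro hf U V hU hV hUV
    let _ := (f.appLE V U hUV).hom.toAlgebra
    haveI : WeaklyEtale (Spec.map (f.appLE V U hUV) ≫ hV.fromSpec) := by
      rw [IsAffineOpen.SpecMap_appLE_fromSpec f hV hU hUV]
      infer_instance
    have h : WeaklyEtale (Spec.map (f.appLE V U hUV)) := WeaklyEtale.of_comp _ hV.fromSpec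
    exact Groth.FlatMor2.isWeaklyEtaleHom_iff.mp ((Groth.FlatMor2.weaklyEtale_SpecMap_iff _).mp h)
  · intro h
    have hloc : ∀ x : X, ∃ (V : S.Opens) (U : X.Opens), IsAffineOpen V ∧ IsAffineOpen U ∧
        x ∈ U ∧ U ≤ f ⁻¹ᵁ V := by
      intro x
      obtain ⟨V, hV, hxV, -⟩ := exists_isAffineOpen_mem_and_subset (show f x ∈ (⊤ : S.Opens) from trivial)
      obtain ⟨U, hU, hxU, hUV⟩ := exists_isAffineOpen_mem_and_subset (show x ∈ f ⁻¹ᵁ V from hxV)
      exact ⟨V, U, hV, hU, hxU, hUV⟩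
    choose V U hV hU hxU hUV using hloc
    refine IsZariskiLocalAtSource.of_iSup_eq_top U (eq_top_iff.mpr fun x _ => TopologicalSpace.Opens.mem_iSup.mpr ⟨x, hxU x⟩) fun x => ?_
    let _ := (f.appLE (V x) (U x) (hUV x)).hom.toAlgebra
    haveI : WeaklyEtale (Spec.map (f.appLE (V x) (U x) (hUV x))) :=
      (Groth.FlatMor2.weaklyEtale_SpecMap_iff _).mpr
        (Groth.FlatMor2.isWeaklyEtaleHom_iff.mpr (h (U x) (V x) (hU x) (hV x) (hUV x)))
    rw [← (hU x).isoSpec_hom_fromSpec, Category.assoc, ← IsAffineOpen.SpecMap_appLE_fromSpec f (hV x) (hU x) (hUV x)]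
    infer_instance

end Groth.Agent.S7178
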