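import Groth.Statements.S7179
import Groth.Agent.S7178
import Groth.Agent.EtaleAlgebra.AbsFlat

set_option autoImplicit false
universe u
open FlatMor

namespace Groth.Agent.S7179

open AlgebraicGeometry CategoryTheory Limits in
/-- The source of a weakly étale morphism with reduced target is reduced. -/
theorem result {X Y : Scheme.{u}} (f : X ⟶ Y) [WeaklyEtale f] [IsReduced Y] : IsReduced X := by
  suffices ∀ x : X, _root_.IsReduced (X.presheaf.stalk x) from isReduced_of_isReduced_stalk X
  intro x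
  obtain ⟨V, hV, hxV, -⟩ := exists_isAffineOpen_mem_and_subset (show f x ∈ (⊤ : Y.Opens) from trivial)
  obtain ⟨U, hU, hxU, hUV⟩ := exists_isAffineOpen_mem_and_subset (show x ∈ f ⁻¹ᵁ V from hxV)
  let _ := (f.appLE V U hUV).hom.toAlgebra
  haveI : Algebra.WeaklyEtale Γ(Y, V) Γ(X, U) := (Groth.Agent.S7178.result f).mp ‹_› U V hU hV hUV
  haveI : _root_.IsReduced Γ(Y, V) := IsReduced.component_reduced V
  haveI := Groth.EtaleAlgebra.isReduced_of_weaklyEtale Γ(Y, V) Γ(X, U)
  let _ := TopCat.Presheaf.algebra_section_stalk X.presheaf (⟨x, hxU⟩ : U)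
  haveI := hU.isLocalization_stalk ⟨x, hxU⟩
  exact isReduced_localizationPreserves (hU.primeIdealOf ⟨x, hxU⟩).asIdeal.primeCompl _ ‹_›

end Groth.Agent.S7179
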