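import Groth.Statements.S7183
import Groth.Agent.SpecFerrand.Relative

set_option autoImplicit false
universe u
open FlatMor

namespace Groth.Agent.S7183

open AlgebraicGeometry CategoryTheory Limits in
/-- Let i : Z → X, j : Z → Y be closed immersions with pushout P, let X' → X and Y' → Y be morphisms
whose base changes to Z are identified (a scheme Z' cartesian over both), let P' be the pushout of
Z' → X' and Z' → Y' and h : P' → P the induced morphism. Then h is locally of finite type (resp.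
flat, resp. flat and locally of finite presentation, resp. smooth, resp. étale) if and only if X' →
X and Y' → Y both are. -/
theorem result {X Y Z P X' Y' Z' P' : Scheme.{u}}
    (i : Z ⟶ X) (j : Z ⟶ Y) [IsClosedImmersion i] [IsClosedImmersion j] (a : X ⟶ P) (b : Y ⟶ P) (hP : IsPushout i j a b)
    (f : X' ⟶ X) (g : Y' ⟶ Y) (i' : Z' ⟶ X') (j' : Z' ⟶ Y') (c : Z' ⟶ Z) (hX : IsPullback i' c f i) (hY : IsPullback j' c g j)
    (a' : X' ⟶ P') (b' : Y' ⟶ P') (hP' : IsPushout i' j' a' b') (h : P' ⟶ P) (ha : a' ≫ h = f ≫ a) (hb : b' ≫ h = g ≫ b) :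
    (LocallyOfFiniteType h ↔ LocallyOfFiniteType f ∧ LocallyOfFiniteType g) ∧
    (Flat h ↔ Flat f ∧ Flat g) ∧
    ((Flat h ∧ LocallyOfFinitePresentation h) ↔ (Flat f ∧ LocallyOfFinitePresentation f) ∧ (Flat g ∧ LocallyOfFinitePresentation g)) ∧
    (Smooth h ↔ Smooth f ∧ Smooth g) ∧
    (Etale h ↔ Etale f ∧ Etale g) := by
  haveI : IsClosedImmersion i' := MorphismProperty.of_isPullback hX.flip inferInstance
  haveI : IsClosedImmersion j' := MorphismProperty.of_isPullback hY.flip inferInstance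
  have hc := Groth.SpecFerrand.covers_of_closed i j
  have hc' := Groth.SpecFerrand.covers_of_closed i' j'
  have hl := Groth.SpecFerrand.isPullback_inl hc hP hc' hP' hX.flip hY.flip ha hb
  have hr := Groth.SpecFerrand.isPullback_inr hc hP hc' hP' hX.flip hY.flip ha hb
  have bc : ∀ (Q : MorphismProperty Scheme.{u}) [Q.IsStableUnderBaseChange], Q h → Q f ∧ Q g := fun Q _ hh =>
    ⟨MorphismProperty.of_isPullback hl.flip hh, MorphismProperty.of_isPullback hr.flip hh⟩
  have dn : ∀ {Q : MorphismProperty Scheme.{u}} {Q' : ∀ {R S : Type u} [CommRing R] [CommRing S], (R →+* S) → Prop}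
      [HasRingHomProperty Q Q'] [Q.IsStableUnderBaseChange], Q f → Q g →
      ∀ r : Groth.SpecFerrand.RelChart i j a b i' j' a' b' f g h, Q' r.β.hom ∧ Q' r.α.hom := fun {Q Q'} _ _ hf hg r => by
    have hβ : IsPullback (Spec.map r.c'.p1) (Spec.map r.β) (Spec.map r.ψ) (Spec.map r.c.p1) :=
      (isPullback_SpecMap_of_isPushout _ _ _ _ r.pbY).flip
    have h1 : Q (Spec.map r.β ≫ r.c.uY) := r.hβ ▸ HasRingHomProperty.comp_of_isOpenImmersion _ _ _ hg
    have h2 : Q (Spec.map r.α ≫ r.c.uX) := r.hα ▸ HasRingHomProperty.comp_of_isOpenImmersion _ _ _ hf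
    exact ⟨(HasRingHomProperty.Spec_iff (P := Q)).1 (MorphismProperty.of_isPullback
        (IsPullback.of_horiz_isIso_mono ⟨by simp⟩ : IsPullback (𝟙 _) (Spec.map r.β) (Spec.map r.β ≫ r.c.uY) r.c.uY) h1),
      (HasRingHomProperty.Spec_iff (P := Q)).1 (MorphismProperty.of_isPullback
        (IsPullback.of_horiz_isIso_mono ⟨by simp⟩ : IsPullback (𝟙 _) (Spec.map r.α) (Spec.map r.α ≫ r.c.uX) r.c.uX) h2)⟩
  haveI : MorphismProperty.ContainsIdentities @Smooth.{u} := ⟨fun _ => inferInstance⟩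
  haveI : MorphismProperty.ContainsIdentities @LocallyOfFinitePresentation.{u} := ⟨fun _ => inferInstance⟩
  haveI : MorphismProperty.IsStableUnderComposition @Smooth.{u} := ⟨fun f g _ _ => inferInstance⟩
  refine ⟨⟨fun hh => bc @LocallyOfFiniteType hh, fun ⟨hf, hg⟩ => ?_⟩, ⟨fun hh => bc @Flat hh, fun ⟨hf, hg⟩ => ?_⟩,
    ⟨fun ⟨h1, h2⟩ => ⟨⟨(bc @Flat h1).1, (bc @LocallyOfFinitePresentation h2).1⟩,
      ⟨(bc @Flat h1).2, (bc @LocallyOfFinitePresentation h2).2⟩⟩, fun ⟨⟨hf, hf'⟩, hg, hg'⟩ => ?_⟩,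
    ⟨fun hh => bc @Smooth hh, fun ⟨hf, hg⟩ => ?_⟩, ⟨fun hh => bc @Etale hh, fun ⟨hf, hg⟩ => ?_⟩⟩
  · exact Groth.SpecFerrand.property_of_charts hc hP hc' hP' hX.flip hY.flip ha hb
      fun r => r.ft.2 (dn (Q := @LocallyOfFiniteType) hf hg r)
  · exact Groth.SpecFerrand.property_of_charts hc hP hc' hP' hX.flip hY.flip ha hb
      fun r => r.flat.2 (dn (Q := @Flat) hf hg r)
  · have hb1 := fun r : Groth.SpecFerrand.RelChart i j a b i' j' a' b' f g h => r.fp.2 ⟨⟨(dn (Q := @Flat) hf hg r).1, (dn (Q := @LocallyOfFinitePresentation) hf' hg' r).1⟩,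
      ⟨(dn (Q := @Flat) hf hg r).2, (dn (Q := @LocallyOfFinitePresentation) hf' hg' r).2⟩⟩
    exact ⟨Groth.SpecFerrand.property_of_charts hc hP hc' hP' hX.flip hY.flip ha hb fun r => (hb1 r).1,
      Groth.SpecFerrand.property_of_charts hc hP hc' hP' hX.flip hY.flip ha hb fun r => (hb1 r).2⟩
  · exact Groth.SpecFerrand.property_of_charts hc hP hc' hP' hX.flip hY.flip ha hb
      fun r => r.smooth.2 (dn (Q := @Smooth) hf hg r)
  · exact Groth.SpecFerrand.property_of_charts hc hP hc' hP' hX.flip hY.flip ha hb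
      fun r => r.etale.2 (dn (Q := @Etale) hf hg r)

end Groth.Agent.S7183
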