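import Groth.Statements.S7185
import Groth.Agent.FlatmorThree.WeightingBasic

set_option autoImplicit false
universe u
open FlatMor

namespace Groth.Agent.S7185

open AlgebraicGeometry CategoryTheory Limits in
/-- The restriction of a weighting of a locally quasi-finite morphism f : X → Y (locally of finite type
with discrete fibres) to an open subscheme X' of X is a weighting of X' → Y. -/
theorem result {X Y : Scheme.{u}} (f : X ⟶ Y) [LocallyQuasiFinite f] [LocallyOfFiniteType f] (w : X → ℤ)
    (hw : MoreMor.IsWeighting f w) (X' : X.Opens) : MoreMor.IsWeighting (X'.ι ≫ f) (fun x => w (X'.ι x)) := by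
  intro V g _ U hU
  let m : pullback (X'.ι ≫ f) g ⟶ pullback f g :=
    pullback.map _ _ _ _ X'.ι (𝟙 _) (𝟙 _) (by simp) (by simp)
  have : IsOpenImmersion m := inferInstance
  let U' : (pullback f g).Opens := m ''ᵁ U
  let e : (U : Scheme) ≅ U' := IsOpenImmersion.isoOfRangeEq (U.ι ≫ m) U'.ι (by
    simp [U', Set.range_comp])
  have he : e.hom ≫ U'.ι = U.ι ≫ m := IsOpenImmersion.isoOfRangeEq_hom_fac _ _ _
  have hπ : e.hom ≫ U'.ι ≫ pullback.snd f g = U.ι ≫ pullback.snd (X'.ι ≫ f) g := by
    rw [← Category.assoc, he, Category.assoc]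
    simp [m, pullback.lift_snd]
  have hfin : IsFinite (U'.ι ≫ pullback.snd f g) := by
    rw [show U'.ι ≫ pullback.snd f g = e.inv ≫ U.ι ≫ pullback.snd (X'.ι ≫ f) g by
      rw [← hπ, e.inv_hom_id_assoc]]
    exact IsFinite.instCompScheme _ _
  have h0 := hw V g U' hfin
  have hw' : (fun u : U => w (X'.ι (pullback.fst (X'.ι ≫ f) g (U.ι u)))) =
      fun u : U => w (pullback.fst f g (U'.ι (e.hom u))) := by
    funext u
    congr 1
    show (U.ι ≫ pullback.fst (X'.ι ≫ f) g ≫ X'.ι) u = (e.hom ≫ U'.ι ≫ pullback.fst f g) u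
    rw [← Category.assoc e.hom, he, Category.assoc]
    simp [m, pullback.lift_snd, pullback.lift_fst]
  have key : ∀ v, MoreMor.fibreIntegral (U.ι ≫ pullback.snd (X'.ι ≫ f) g)
      (fun u => w (X'.ι (pullback.fst (X'.ι ≫ f) g (U.ι u)))) v =
      MoreMor.fibreIntegral (U'.ι ≫ pullback.snd f g)
        (fun u => w (pullback.fst f g (U'.ι u))) v := fun v =>
    ((congrArg (fun F => MoreMor.fibreIntegral (U.ι ≫ pullback.snd (X'.ι ≫ f) g) F v) hw').trans
      (congrArg (fun P => MoreMor.fibreIntegral P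
        (fun u => w (pullback.fst f g (U'.ι (e.hom u)))) v) hπ.symm)).trans
      (Groth.FlatmorThree.fibreIntegral_iso e.hom (U'.ι ≫ pullback.snd f g)
        (fun u => w (pullback.fst f g (U'.ι u))) v)
  convert h0 using 1
  exact funext key

end Groth.Agent.S7185
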