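import Groth.Statements.S7186
import Groth.Agent.CohBase.FreeFibres

set_option autoImplicit false
universe u
open FlatMor

namespace Groth.Agent.S7186

open AlgebraicGeometry CategoryTheory Limits in
/-- Let f : X → S be flat, proper and of finite presentation such that O_T → (f_T)_* O_{X_T} is an
isomorphism for every base change T → S. Suppose E is an O_X-module that is finite locally free and
whose restriction to each fibre X_s is free, and let S be reduced. Then E is isomorphic to the
pullback of a finite locally free O_S-module. -/
theorem result {X S : Scheme.{u}} (f : X ⟶ S) [Flat f] [IsProper f] [LocallyOfFinitePresentation f]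
    (hO : ∀ (T : Scheme.{u}) (g : T ⟶ S) (U : T.Opens), IsIso ((pullback.snd f g).app U))
    (E : X.Modules) (hE : FlatMod.IsFinLocFree E)
    (hfib : ∀ s : S, ∃ r : ℕ, Nonempty ((Scheme.Modules.pullback (f.fiberι s)).obj E ≅ FlatMod.freeMod (f.fiber s) r))
    [IsReduced S] :
    ∃ N : S.Modules, FlatMod.IsFinLocFree N ∧ Nonempty ((Scheme.Modules.pullback f).obj N ≅ E) := by
  haveI : E.IsQuasicoherent := Groth.PropsBasic.LocFree.isQuasicoherent_of_isFinLocFree E hE
  have h0 : ∀ y, Groth.Abvar.Seesaw.H0Const f y := fun y => by
    have : IsIso (f.fiberToSpecResidueField y).appTop := hO _ (S.fromSpecResidueField y) ⊤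
    have hb : Function.Bijective ((Scheme.ΓSpecIso (S.residueField y)).inv ≫
        (f.fiberToSpecResidueField y).appTop) :=
      ConcreteCategory.bijective_of_isIso _
    exact hb
  refine ⟨(Scheme.Modules.pushforward f).obj E, Groth.Limits.BC0.isFinLocFree_of_good fun y =>
    Groth.CohBase.FreeFibres.goodAt f h0 hE hfib y, ?_⟩
  haveI := Groth.CohBase.FreeFibres.isIso_counit f h0 hE hfib
  exact ⟨asIso ((Scheme.Modules.pullbackPushforwardAdjunction f).counit.app E)⟩

end Groth.Agent.S7186
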