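import Groth.Statements.S7187
import Groth.Agent.CohBase.ClosedFibreLift
import Groth.Agent.VarietyBC.CurveGG

set_option autoImplicit false
universe u
open FlatMor

namespace Groth.Agent.S7187

section Aux

open AlgebraicGeometry CategoryTheory CategoryTheory.Limits TopologicalSpace
open Groth.PicAux (pullSec pullSec_smul res_pullSec Gen app_res)
open Groth.CohBase (IsBC secA toSec app_toSec preimageToSpec fibreToPreimage)

set_option maxHeartbeats 1000000
set_option backward.isDefEq.respectTransparency false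
set_option backward.defeqAttrib.useBackward true
set_option backward.isDefEq.respectTransparency.types false

/-- A section generating on the fibre generates over a neighbourhood of the point. -/
lemma exists_gen_of_fibre_gen {X Y : Scheme.{u}} (f : X ⟶ Y) [IsProper f] {E : X.Modules}
    (hE : PicF.IsInvertible E) {U : Y.Opens} {y : Y} (hy : y ∈ U) (s : Γ(E, f ⁻¹ᵁ U))
    (hk : ⊤ ≤ f.fiberι y ⁻¹ᵁ f ⁻¹ᵁ U)
    (hg : Gen ((Scheme.Modules.pullback (f.fiberι y)).obj E) ⊤
      (Groth.PicAux.res _ hk (pullSec (f.fiberι y) E s))) :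
    ∃ U' : Y.Opens, y ∈ U' ∧ ∃ s' : Γ(E, f ⁻¹ᵁ U'), Gen E (f ⁻¹ᵁ U') s' := by
  let C : Set X := {x | ∃ W : X.Opens, ∃ hW : W ≤ f ⁻¹ᵁ U, x ∈ W ∧
    Gen E W (Groth.PicAux.res E hW s)}
  have hC : IsOpen C := isOpen_iff_forall_mem_open.2 fun x ⟨W, hW, hxW, hg⟩ =>
    ⟨W, fun x' hx' => ⟨W, hW, hx', hg⟩, W.2, hxW⟩
  have hloc : ∀ x : X, f x = y → x ∈ C := fun x hx => by
    obtain ⟨z, rfl⟩ : ∃ z, f.fiberι y z = x := by
      change x ∈ Set.range (f.fiberι y)
      rw [f.range_fiberι]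
      exact hx
    obtain ⟨O, hO, hzO, hOg⟩ := Groth.PicAux.Seesaw.exists_gen_near (f.fiberι y) hE s hk hg z
    exact ⟨O, hO, hzO, hOg⟩
  let U' : Y.Opens := U ⊓ ⟨(f '' Cᶜ)ᶜ, (f.isClosedMap _ hC.isClosed_compl).isOpen_compl⟩
  have hyU' : y ∈ U' := ⟨hy, fun ⟨x, hx, hxy⟩ => hx (hloc x hxy)⟩
  have hle : f ⁻¹ᵁ U' ≤ f ⁻¹ᵁ U := f.preimage_mono inf_le_left
  refine ⟨U', hyU', Groth.PicAux.res E hle s, ?_⟩
  have hc : ∀ x : {x // x ∈ f ⁻¹ᵁ U'}, x.1 ∈ C := fun x =>
    not_not.1 fun hx => x.2.2 ⟨x.1, hx, rfl⟩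
  choose W hW hxW hg using hc
  refine Gen.of_cover (fun a => W a ⊓ f ⁻¹ᵁ U') (fun a => inf_le_right)
    (fun x hx => Opens.mem_iSup.2 ⟨⟨x, hx⟩, hxW ⟨x, hx⟩, hx⟩) fun a => ?_
  rw [Groth.PicAux.res_res]
  have := (hg a).res (inf_le_left : W a ⊓ f ⁻¹ᵁ U' ≤ W a)
  rwa [Groth.PicAux.res_res] at this

/-- A unit multiple of a fibre section in the span of the global ones lifts. -/
lemma exists_isUnit_smul_eq {A B : Type u} [CommRing A] [CommRing B] [Algebra A B] [IsLocalRing B]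
    {P : Ideal A} [P.IsPrime] [IsLocalization.AtPrime B P] {X Z : Scheme.{u}}
    [X.Over (Spec (CommRingCat.of A))]
    [Z.Over (Spec (CommRingCat.of (IsLocalRing.ResidueField B)))] {gk : Z ⟶ X}
    (hsq : IsBC (A := A) (A' := IsLocalRing.ResidueField B) gk) {F : X.Modules}
    (σ : secA (IsLocalRing.ResidueField B) ((Scheme.Modules.pullback gk).obj F) (gk ⁻¹ᵁ ⊤))
    (hσ : σ ∈ Submodule.span (IsLocalRing.ResidueField B)
      (Set.range fun s : Γ(F, (⊤ : X.Opens)) =>
        (show secA (IsLocalRing.ResidueField B) ((Scheme.Modules.pullback gk).obj F) (gk ⁻¹ᵁ ⊤)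
          from pullSec gk F s))) :
    ∃ c : IsLocalRing.ResidueField B, c ≠ 0 ∧ ∃ s : Γ(F, (⊤ : X.Opens)),
      c • σ = (show secA (IsLocalRing.ResidueField B) ((Scheme.Modules.pullback gk).obj F) (gk ⁻¹ᵁ ⊤)
          from pullSec gk F s) := by
  let K := IsLocalRing.ResidueField B
  let M := secA K ((Scheme.Modules.pullback gk).obj F) (gk ⁻¹ᵁ ⊤)
  let π : Γ(F, (⊤ : X.Opens)) →+ M :=
    (((Scheme.Modules.pullbackPushforwardAdjunction gk).unit.app F).app (⊤ : X.Opens)).hom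
  have hπ : ∀ (a : A) (s : Γ(F, (⊤ : X.Opens))),
      π (toSec A (⊤ : X.Opens) a • s) = algebraMap A K a • π s := fun a s => by
    change pullSec gk F (toSec A (⊤ : X.Opens) a • s) =
      toSec K (gk ⁻¹ᵁ (⊤ : X.Opens)) (algebraMap A K a) • pullSec gk F s
    rw [pullSec_smul, app_toSec hsq]
  suffices h : ∀ v : M, v ∈ Submodule.span K (Set.range π) →
      ∃ a : A, algebraMap A K a ≠ 0 ∧ ∃ s, algebraMap A K a • v = π s by
    obtain ⟨a, ha, s, hs⟩ := h σ hσ
    exact ⟨_, ha, s, hs⟩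
  intro v hv
  induction hv using Submodule.span_induction with
  | mem v hv =>
    obtain ⟨s, rfl⟩ := hv
    exact ⟨1, by rw [map_one]; exact one_ne_zero, s, by rw [map_one, one_smul]⟩
  | zero => exact ⟨1, by rw [map_one]; exact one_ne_zero, 0, by rw [smul_zero, map_zero]⟩
  | add v w _ _ hv hw =>
    obtain ⟨a, ha, s, hs⟩ := hv
    obtain ⟨b, hb, t, ht⟩ := hw
    refine ⟨a * b, by rw [map_mul]; exact mul_ne_zero ha hb, toSec A (⊤ : X.Opens) b • s + toSec A (⊤ : X.Opens) a • t, ?_⟩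
    rw [map_add, hπ, hπ, smul_add, ← hs, ← ht, smul_smul, smul_smul, map_mul,
      mul_comm (algebraMap A K b)]
  | smul k v _ hv =>
    obtain ⟨a, ha, s, hs⟩ := hv
    obtain ⟨q, rfl⟩ := IsLocalRing.residue_surjective k
    obtain ⟨p, b, rfl⟩ := IsLocalization.exists_mk'_eq P.primeCompl q
    have hb : algebraMap A K b.1 ≠ 0 := by
      rw [IsScalarTower.algebraMap_apply A B K]
      exact IsLocalRing.residue_ne_zero_iff_isUnit _ |>.2 (IsLocalization.map_units B b)
    refine ⟨b.1 * a, by rw [map_mul]; exact mul_ne_zero hb ha, toSec A (⊤ : X.Opens) p • s, ?_⟩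
    rw [hπ, ← hs, smul_smul, smul_smul]
    congr 1
    rw [map_mul, IsScalarTower.algebraMap_apply A B K p, IsScalarTower.algebraMap_apply A B K b.1,
      IsLocalRing.ResidueField.algebraMap_eq,
      show algebraMap A B p = IsLocalization.mk' B p b * algebraMap A B b from
        (IsLocalization.mk'_spec B p b).symm, map_mul]
    ring

/-- A module trivial on a fibre has a generator near it. -/
lemma exists_gen_near_fibre' {X Y : Scheme.{u}} (f : X ⟶ Y) [IsProper f] [IsLocallyNoetherian Y]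
    (hdim : ∀ y : Y, topologicalKrullDim ↥(f.fiber y) ≤ 1) {L : X.Modules}
    (hL : PicF.IsInvertible L) (y : Y)
    (h1 : Subsingleton (Coh.HH (f.fiber y) (Coh.structureModule (f.fiber y)) 1))
    (htriv : Nonempty ((Scheme.Modules.pullback (f.fiberι y)).obj L ≅
      Coh.structureModule (f.fiber y))) :
    ∃ U : Y.Opens, y ∈ U ∧ ∃ s : Γ(L, f ⁻¹ᵁ U), Gen L (f ⁻¹ᵁ U) s := by
  obtain ⟨V, hV, hy⟩ := Groth.QCohMod.exists_affine_mem y
  let A := Γ(Y, V)
  let B := Y.presheaf.stalk y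
  letI : Algebra A B := TopCat.Presheaf.algebra_section_stalk Y.presheaf ⟨y, hy⟩
  haveI : IsLocalization.AtPrime B (hV.primeIdealOf ⟨y, hy⟩).asIdeal :=
    hV.isLocalization_stalk ⟨y, hy⟩
  haveI : Module.Flat A B :=
    IsLocalization.flat B (hV.primeIdealOf ⟨y, hy⟩).asIdeal.primeCompl
  haveI : IsNoetherianRing A := IsLocallyNoetherian.component_noetherian ⟨V, hV⟩
  haveI : IsNoetherianRing B :=
    IsLocalization.isNoetherianRing (hV.primeIdealOf ⟨y, hy⟩).asIdeal.primeCompl B ‹_›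
  let XV : Scheme.{u} := f ⁻¹ᵁ V
  letI : XV.Over (Spec (CommRingCat.of A)) := ⟨preimageToSpec f⟩
  letI : (f.fiber y).Over (Spec (CommRingCat.of (IsLocalRing.ResidueField B))) :=
    ⟨f.fiberToSpecResidueField y⟩
  haveI : IsProper (XV ↘ Spec (CommRingCat.of A)) :=
    MorphismProperty.of_isPullback (Groth.CohBase.isPullback_preimageToSpec f hV) ‹IsProper f›
  have hd' : ∀ P, topologicalKrullDim
      ↥((XV ↘ Spec (CommRingCat.of A)).fiber P) ≤ (1 : ℕ) := fun P => by
    have hP : hV.fromSpec.base P ∈ V := hV.range_fromSpec.le ⟨P, rfl⟩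
    have e : hV.primeIdealOf ⟨_, hP⟩ = P := hV.fromSpec.isEmbedding.injective
      (hV.fromSpec_primeIdealOf ⟨_, hP⟩)
    have h := Groth.Limits.FibreVanishing.dim_fiber_preimageToSpec_le f hV _ hP 1
      (by simpa using hdim _)
    rwa [e] at h
  let gk : f.fiber y ⟶ XV := fibreToPreimage f y hy
  have hsq : IsBC (A := A) (A' := IsLocalRing.ResidueField B) gk :=
    Groth.CohBase.isPullback_fibreToPreimage f hV y hy
  let F := (Scheme.Modules.pullback (f ⁻¹ᵁ V).ι).obj L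
  have hF : Coh.IsCoh F :=
    Groth.VarietyBC.CurveGG.isCoh_of_isInvertible (Groth.PicAux.isInvertible_pullback _ hL)
  obtain ⟨ε, hε⟩ := Groth.PicAux.Seesaw.exists_triangle_iso gk (f ⁻¹ᵁ V).ι
    (Groth.CohBase.fibreToPreimage_ι f y hy) L
  obtain ⟨e0⟩ := htriv
  obtain ⟨t, ht⟩ := Groth.PicAux.nonempty_iso_structure_iff.1 ⟨e0⟩
  have hk : Subsingleton (Coh.HH (f.fiber y) ((Scheme.Modules.pullback gk).obj F) 1) :=
    haveI := h1
    (Groth.CohC3.hmap_bijective_of_isIso (A := IsLocalRing.ResidueField B) (ε ≪≫ e0).hom 1).1.subsingleton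
  obtain ⟨c, hc, s, hs⟩ := exists_isUnit_smul_eq (P := (hV.primeIdealOf ⟨y, hy⟩).asIdeal) hsq _
    (Groth.CohBase.ClosedFibreLift.mem_span_range_pullSec (B := B) hsq hd' F hF hk
      (ε.inv.app (gk ⁻¹ᵁ ⊤) t))
  obtain ⟨s', rfl⟩ := (Groth.PicAux.Seesaw.toRes_bijective L (f ⁻¹ᵁ V)).2 s
  have hk' : ⊤ ≤ f.fiberι y ⁻¹ᵁ f ⁻¹ᵁ V := fun z _ => by
    have hz : f (f.fiberι y z) = y := by
      have hz : f.fiberι y z ∈ Set.range (f.fiberι y) := ⟨z, rfl⟩
      rw [Scheme.Hom.range_fiberι] at hz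
      exact hz
    show f (f.fiberι y z) ∈ V
    rwa [hz]
  refine exists_gen_of_fibre_gen f hL hy s' hk' ?_
  have key : Groth.PicAux.res _ hk' (pullSec (f.fiberι y) L s') =
      toSec (IsLocalRing.ResidueField B) (gk ⁻¹ᵁ ⊤) c • (show Γ((Scheme.Modules.pullback (f.fiberι y)).obj L, gk ⁻¹ᵁ (⊤ : XV.Opens)) from t) := by
    have e1 := congrArg (ε.hom.app (gk ⁻¹ᵁ ⊤)) hs
    have hU : f.fiberι y ⁻¹ᵁ f ⁻¹ᵁ V ≤ gk ⁻¹ᵁ (f ⁻¹ᵁ V).ι ⁻¹ᵁ f ⁻¹ᵁ V :=
      (congrArg (fun g => g ⁻¹ᵁ f ⁻¹ᵁ V) (Groth.CohBase.fibreToPreimage_ι f y hy)).ge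
    refine Eq.trans ?_ ((e1.symm.trans (Scheme.Modules.Hom.app_smul ε.hom _ _)).trans
      (congrArg (fun v => toSec (IsLocalRing.ResidueField B) (gk ⁻¹ᵁ ⊤) c • v)
        (congr($(ε.inv_hom_id).app (gk ⁻¹ᵁ ⊤) t))))
    rw [Groth.PicAux.Seesaw.toRes, ← res_pullSec, app_res ε.hom, ← hε s' hU,
      Groth.PicAux.res_res]
  rw [key]
  exact ht.smul_unit ((IsUnit.mk0 c hc).map _)

end Aux

open AlgebraicGeometry CategoryTheory Limits in
/-- Let X and Y be Noetherian schemes and f : X → Y a proper morphism with O_Y → f_* O_X an isomorphism,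
fibres of dimension at most 1, and H^1(X_y, O_{X_y}) = 0 for all y. Then f^* is injective on
isomorphism classes of invertible modules, and for every invertible O_X-module L whose restriction
to each fibre X_y is trivial the direct image f_* L is an invertible O_Y-module. (The published
statement asserts moreover that such an L is isomorphic to f^* f_* L, so that f^* is a bijection
onto the classes of fibrewise trivial invertible modules; that last step is not stated here.) -/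
theorem result {X Y : Scheme.{u}} (f : X ⟶ Y) [IsProper f] [IsNoetherian X] [IsNoetherian Y]
    (hO : ∀ U : Y.Opens, IsIso (f.app U))
    (hdim : ∀ y : Y, topologicalKrullDim ↥(f.fiber y) ≤ 1)
    (hH1 : ∀ y : Y, Subsingleton (Coh.HH (f.fiber y) (Coh.structureModule (f.fiber y)) 1)) :
    (∀ N N' : Y.Modules, PicF.IsInvertible N → PicF.IsInvertible N' →
        Nonempty ((Scheme.Modules.pullback f).obj N ≅ (Scheme.Modules.pullback f).obj N') → Nonempty (N ≅ N')) ∧
    (∀ L : X.Modules, PicF.IsInvertible L →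
        (∀ y : Y, Nonempty ((Scheme.Modules.pullback (f.fiberι y)).obj L ≅ Coh.structureModule (f.fiber y))) →
          PicF.IsInvertible ((Scheme.Modules.pushforward f).obj L)) := by
  have hf : ∀ U : Y.Opens, Function.Bijective (f.app U) := fun U =>
    haveI := hO U
    ConcreteCategory.bijective_of_isIso (f.app U)
  refine ⟨fun N N' hN hN' ⟨e⟩ => ?_, fun L hL htriv => ?_⟩
  · haveI := Groth.PicAux.isIso_unit_of_invertible f hf hN
    haveI := Groth.PicAux.isIso_unit_of_invertible f hf hN'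
    exact ⟨asIso ((Scheme.Modules.pullbackPushforwardAdjunction f).unit.app N) ≪≫
      (Scheme.Modules.pushforward f).mapIso e ≪≫
      (asIso ((Scheme.Modules.pullbackPushforwardAdjunction f).unit.app N')).symm⟩
  · choose U hyU s hs using fun y => exists_gen_near_fibre' f hdim hL y (hH1 y) (htriv y)
    exact (Groth.PicAux.pushforward_invertible_and_counit f hf U
      (top_le_iff.1 fun y _ => TopologicalSpace.Opens.mem_iSup.2 ⟨y, hyU y⟩) s hs).1

end Groth.Agent.S7187
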