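import Groth.Statements.S7188
import Groth.Agent.PicAux.FibTrivClosed
import Groth.Agent.PicAux.SeesawAnyBase
import Groth.Agent.CurveDiv.Transition
import Groth.Agent.Abvar.PicCalc
import Groth.Agent.Abvar.Dual.EqOfPhi
import Groth.Agent.PropsBasic.LocFree
import Groth.Agent.PicAux.PicLaw

set_option autoImplicit false
universe u
open FlatMor

namespace Groth.Agent.S7188

open AlgebraicGeometry CategoryTheory Limits in
/-- Let f : X → S be flat, proper and of finite presentation with O_T → (f_T)_* O_{X_T} an isomorphism
for every base change, let E be an invertible O_X-module, and let j : Z → S be the immersion of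
finite presentation representing the locus of those T → S over which the pullback of E comes from a
finite locally free O_T-module. If every geometric fibre of f is an integral scheme, j is a closed
immersion (the locus is a closed subscheme of S). -/
theorem result {X S Z : Scheme.{u}} (f : X ⟶ S) [Flat f] [IsProper f] [LocallyOfFinitePresentation f]
    (hO : ∀ (T : Scheme.{u}) (g : T ⟶ S) (U : T.Opens), IsIso ((pullback.snd f g).app U))
    (E : X.Modules) (hE : PicF.IsInvertible E)
    (j : Z ⟶ S) [IsImmersion j] [LocallyOfFinitePresentation j]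
    (hZ : ∀ (T : Scheme.{u}) (g : T ⟶ S), (∃ g' : T ⟶ Z, g' ≫ j = g) ↔
        ∃ N : T.Modules, FlatMod.IsFinLocFree N ∧
          Nonempty ((Scheme.Modules.pullback (pullback.snd f g)).obj N ≅ (Scheme.Modules.pullback (pullback.fst f g)).obj E))
    (hgeo : ∀ (K : Type u) [Field K] (x : Spec (CommRingCat.of K) ⟶ S), IsIntegral (pullback f x)) :
    IsClosedImmersion j := by
  have : GeometricallyIntegral f := ⟨fun K _ b Q fst snd H => by
    have : IsIntegral (pullback f b) := hgeo K b
    have : Nonempty Q := ⟨H.isoPullback.inv.base (Classical.arbitrary (pullback f b : Scheme.{u}))⟩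
    exact isIntegral_of_isOpenImmersion H.isoPullback.hom⟩
  have : GeometricallyConnected f := ⟨fun K _ b Q fst snd H => by
    have : IsIntegral Q := GeometricallyIntegral.geometrically_isIntegral (f := f) b fst snd H
    exact (inferInstance : ConnectedSpace Q)⟩
  have : GeometricallyReduced f := ⟨fun K _ b Q fst snd H => by
    have : IsIntegral Q := GeometricallyIntegral.geometrically_isIntegral (f := f) b fst snd H
    exact (inferInstance : IsReduced Q)⟩
  have hrange : Set.range j = {s | Groth.Abvar.Seesaw.FibTriv f E s} := by
    ext s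
    constructor
    · rintro ⟨z, rfl⟩
      let g : Spec (Z.residueField z) ⟶ S := Z.fromSpecResidueField z ≫ j
      obtain ⟨N, hN, ⟨e⟩⟩ := (hZ _ g).1 ⟨Z.fromSpecResidueField z, rfl⟩
      have := Groth.PropsBasic.LocFree.isQuasicoherent_of_isFinLocFree N hN
      have hNi : PicF.IsInvertible N :=
        Groth.CurveDiv.Transition.isInvertible_of_pullback (p := pullback.snd f g)
          (Groth.PicAux.isInvertible_of_iso (PicLoc.isInvertible_pullback (pullback.fst f g) hE) e.symm)
      obtain ⟨eN⟩ := (Groth.Abvar.PicCalc.nonempty_iso_structure_iff hNi).2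
        (Groth.Abvar.PicCalc.eq_one_of_subsingleton _)
      obtain ⟨eS⟩ := Groth.PicAux.pullback_structure_iso (pullback.snd f g)
      let π' := pullback.snd f g
      let y : Spec (Z.residueField z) := Classical.arbitrary _
      have hy : Groth.Abvar.Seesaw.FibTriv π' ((Scheme.Modules.pullback (pullback.fst f g)).obj E) y :=
        ⟨(Scheme.Modules.pullback (π'.fiberι y)).mapIso
          (e.symm ≪≫ (Scheme.Modules.pullback (pullback.snd f g)).mapIso eN ≪≫ eS) ≪≫
          (Groth.PicAux.pullback_structure_iso (π'.fiberι y)).some⟩
      have h := (Groth.PicAux.SeesawAnyBase.fibTriv_iff_of_isPullback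
        (IsPullback.of_hasPullback f g) hE y).1 hy
      have hgy : g y = j z := by
        simp [g]
      rwa [hgy] at h
    · rintro ⟨i⟩
      obtain ⟨g', hg'⟩ := (hZ _ (S.fromSpecResidueField s)).2
        ⟨Coh.structureModule _, Groth.Abvar.Dual.EqOfPhi.isFinLocFree_of_isInvertible
          (Groth.Ega2Proj.isInvertible_structure _),
          ⟨(Groth.PicAux.pullback_structure_iso _).some ≪≫ i.symm⟩⟩
      refine ⟨g' (Classical.arbitrary _), ?_⟩
      rw [← Scheme.Hom.comp_apply, hg']
      exact Scheme.fromSpecResidueField_apply _ _
  have hclosed : IsClosed (Set.range j) := by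
    rw [hrange]
    exact Groth.PicAux.FibTrivClosed.isClosed_fibTriv f hE
  exact IsClosedImmersion.of_isPreimmersion j hclosed

end Groth.Agent.S7188
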