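import Groth.Statements.S7189
import Groth.Agent.Abvar.Cube.Near

set_option autoImplicit false
universe u
open FlatMor

namespace Groth.Agent.S7189

open AlgebraicGeometry CategoryTheory Limits in
/-- Constant functions on the fibres from constant functions after every base change. -/
theorem h0Const_of_hO {X S : Scheme.{u}} (f : X ⟶ S)
    (hOf : ∀ (T : Scheme.{u}) (t : T ⟶ S) (U : T.Opens), IsIso ((pullback.snd f t).app U)) (s : S) :
    Groth.Abvar.Seesaw.H0Const f s :=
  (@ConcreteCategory.bijective_of_isIso _ _ _ _ _ _ _ _ _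
      (hOf _ (S.fromSpecResidueField s) ⊤)).comp
    (ConcreteCategory.bijective_of_isIso (Scheme.ΓSpecIso (CommRingCat.of (S.residueField s))).inv)

open AlgebraicGeometry CategoryTheory Limits MonoidalCategory CartesianMonoidalCategory in
/-- Constant functions on the fibres of a product. -/
theorem h0Const_prod {S : Scheme.{u}} {X Y : Over S}
    (hOf : ∀ (T : Scheme.{u}) (t : T ⟶ S) (U : T.Opens), IsIso ((pullback.snd X.hom t).app U))
    (s : S) (h : Groth.Abvar.Seesaw.H0Const Y.hom s) :
    Groth.Abvar.Seesaw.H0Const (X ⊗ Y).hom s := by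
  let ρ := (X ⊗ Y).hom
  have hw : (snd X Y).left ≫ Y.hom = ρ := Over.w _
  let m : ρ.fiber s ⟶ Y.hom.fiber s := pullback.lift (ρ.fiberι s ≫ (snd X Y).left)
    (ρ.fiberToSpecResidueField s) (by rw [Category.assoc, hw]; exact ρ.fiber_fac s)
  have hm : m ≫ Y.hom.fiberToSpecResidueField s = ρ.fiberToSpecResidueField s :=
    pullback.lift_snd _ _ _
  have sq : IsPullback (ρ.fiberι s) m (snd X Y).left (Y.hom.fiberι s) := by
    refine IsPullback.of_bot (v₂₁ := Y.hom.fiberToSpecResidueField s) ?_
      (pullback.lift_fst _ _ _).symm (IsPullback.of_hasPullback _ _)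
    rw [hm, hw]
    exact IsPullback.of_hasPullback _ _
  have sq2 := sq.paste_horiz
    (IsPullback.of_hasPullback X.hom Y.hom : IsPullback (fst X Y).left (snd X Y).left X.hom Y.hom)
  let e := sq2.isoPullback
  have he : e.hom ≫ pullback.snd _ _ = m := sq2.isoPullback_hom_snd
  have hb : Function.Bijective (m.app ⊤) := by
    have := hOf _ (Y.hom.fiberι s ≫ Y.hom) ⊤
    rw [← he, Scheme.Hom.comp_app]
    exact (ConcreteCategory.bijective_of_isIso (e.hom.app _)).comp
      (@ConcreteCategory.bijective_of_isIso _ _ _ _ _ _ _ _ _ this)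
  show Function.Bijective (Coh.toGlobal (A := S.residueField s) (ρ.fiberToSpecResidueField s))
  rw [← hm]
  exact hb.comp h

open AlgebraicGeometry CategoryTheory Limits in
/-- Let f : X → S and g : Y → S be flat, proper, of finite presentation, each with O_T → (·_T)_* O an
isomorphism after every base change, with sections σ and τ; let s be a point of S and L an
invertible module on X ×_S Y. If L pulls back to a trivial module along X → X ×_S Y, x ↦ (x,
τ(f(x))) and along Y → X ×_S Y, y ↦ (σ(g(y)), y), and L is trivial on the fibre of X ×_S Y over s,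
then there is an open neighbourhood U of s over whose preimage L is trivial. -/
theorem result {X Y S : Scheme.{u}} (f : X ⟶ S) (g : Y ⟶ S)
    [Flat f] [IsProper f] [LocallyOfFinitePresentation f] [Flat g] [IsProper g] [LocallyOfFinitePresentation g]
    (hOf : ∀ (T : Scheme.{u}) (t : T ⟶ S) (U : T.Opens), IsIso ((pullback.snd f t).app U))
    (hOg : ∀ (T : Scheme.{u}) (t : T ⟶ S) (U : T.Opens), IsIso ((pullback.snd g t).app U))
    (σ : S ⟶ X) (hσ : σ ≫ f = 𝟙 S) (τ : S ⟶ Y) (hτ : τ ≫ g = 𝟙 S) (s : S)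
    (L : (pullback f g).Modules) (hL : PicF.IsInvertible L)
    (u : X ⟶ pullback f g) (hu1 : u ≫ pullback.fst f g = 𝟙 X) (hu2 : u ≫ pullback.snd f g = f ≫ τ)
    (v : Y ⟶ pullback f g) (hv1 : v ≫ pullback.fst f g = g ≫ σ) (hv2 : v ≫ pullback.snd f g = 𝟙 Y)
    (h1 : Nonempty ((Scheme.Modules.pullback u).obj L ≅ Coh.structureModule X))
    (h2 : Nonempty ((Scheme.Modules.pullback v).obj L ≅ Coh.structureModule Y))
    (h3 : Nonempty ((Scheme.Modules.pullback ((pullback.fst f g ≫ f).fiberι s)).obj L ≅ Coh.structureModule ((pullback.fst f g ≫ f).fiber s))) :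
    ∃ U : S.Opens, s ∈ U ∧ Nonempty (L.restrict ((pullback.fst f g ≫ f) ⁻¹ᵁ U).ι ≅ Coh.structureModule ((pullback.fst f g ≫ f) ⁻¹ᵁ U).toScheme) := by
  let X' : Over S := Over.mk f
  let Y' : Over S := Over.mk g
  have : IsProper X'.hom := ‹IsProper f›
  have : IsProper Y'.hom := ‹IsProper g›
  have : Flat X'.hom := ‹Flat f›
  have : Flat Y'.hom := ‹Flat g›
  have : LocallyOfFinitePresentation X'.hom := ‹LocallyOfFinitePresentation f›
  have : LocallyOfFinitePresentation Y'.hom := ‹LocallyOfFinitePresentation g›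
  let x : MonoidalCategoryStruct.tensorUnit (Over S) ⟶ X' := Over.homMk σ hσ
  let y : MonoidalCategoryStruct.tensorUnit (Over S) ⟶ Y' := Over.homMk τ hτ
  have e1 : (CartesianMonoidalCategory.lift (𝟙 X')
      (SemiCartesianMonoidalCategory.toUnit X' ≫ y)).left = u :=
    pullback.hom_ext ((congrArg Over.Hom.left (CartesianMonoidalCategory.lift_fst _ _)).trans hu1.symm)
      ((congrArg Over.Hom.left (CartesianMonoidalCategory.lift_snd _ _)).trans
        ((congrArg (· ≫ τ) Over.toUnit_left).trans hu2.symm))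
  have e2 : (CartesianMonoidalCategory.lift (SemiCartesianMonoidalCategory.toUnit Y' ≫ x)
      (𝟙 Y')).left = v :=
    pullback.hom_ext ((congrArg Over.Hom.left (CartesianMonoidalCategory.lift_fst _ _)).trans
        ((congrArg (· ≫ σ) Over.toUnit_left).trans hv1.symm))
      ((congrArg Over.Hom.left (CartesianMonoidalCategory.lift_snd _ _)).trans hv2.symm)
  obtain ⟨U, hU, t, ht⟩ := Groth.Abvar.Cube.exists_gen_near_any x y L hL (e1.symm ▸ h1)
    (e2.symm ▸ h2) s h3 (h0Const_of_hO f hOf s) (h0Const_of_hO g hOg s)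
    (h0Const_prod (X := X') (Y := Y') hOf s (h0Const_of_hO g hOg s))
  exact ⟨U, hU, (Groth.PicAux.nonempty_restrict_iso_iff _).2 ⟨t, ht⟩⟩

end Groth.Agent.S7189
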