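import Groth.Statements.S7191
import Groth.Agent.Flatmor4.CDDescent

set_option autoImplicit false
universe u
open CategoryTheory AlgebraicGeometry
open FlatMor

namespace Groth.Agent.S7191

/-- Let S = lim S_i be a cofiltered limit of schemes with affine transition morphisms, f₀ : X₀ → Y₀ a
morphism over some S_{i₀} with Y₀ quasi-compact and quasi-separated and f₀ locally of finite
presentation, and f : X → Y its base change to S. If f is completely decomposed (every point of Y is
the image of a point of X with the same residue field), then some base change f_i : X_i → Y_i of f₀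
to an S_i, i → i₀, is completely decomposed. -/
theorem result {I : Type u} [SmallCategory I] [IsCofiltered I]
    (D : I ⥤ Scheme.{u}) (c : Limits.Cone D) (hc : Limits.IsLimit c)
    [∀ (i j : I) (a : i ⟶ j), IsAffineHom (D.map a)]
    (i0 : I) {X0 Y0 X Y : Scheme.{u}} (f0 : X0 ⟶ Y0) (q0 : Y0 ⟶ D.obj i0) [CompactSpace ↥Y0] [QuasiSeparatedSpace ↥Y0]
    [LocallyOfFinitePresentation f0]
    (f : X ⟶ Y) (q : Y ⟶ c.pt) (pY : Y ⟶ Y0) (pX : X ⟶ X0)
    (hY : IsPullback pY q q0 (c.π.app i0)) (hX : IsPullback pX f f0 pY)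
    (hcd : ∀ y : Y, ∃ x : X, f x = y ∧ Function.Bijective (f.residueFieldMap x)) :
    ∃ (i : I) (a : i ⟶ i0) (Xi Yi : Scheme.{u}) (fi : Xi ⟶ Yi) (qi : Yi ⟶ D.obj i) (pYi : Yi ⟶ Y0) (pXi : Xi ⟶ X0),
      IsPullback pYi qi q0 (D.map a) ∧ IsPullback pXi fi f0 pYi ∧
      ∀ y : Yi, ∃ x : Xi, fi x = y ∧ Function.Bijective (fi.residueFieldMap x) := by
  let q0' := q0
  let k₀ : Over i0 := Over.mk (𝟙 i0)
  haveI : ∀ k : Over i0, CompactSpace ((Groth.Limits.stages D q0).obj k) :=
    fun k => Groth.Limits.compactSpace_stage D q0 k.hom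
  haveI : ∀ k : Over i0, QuasiSeparatedSpace ((Groth.Limits.stages D q0).obj k) :=
    fun k => Groth.Limits.quasiSeparatedSpace_stage D q0 k.hom
  obtain ⟨j, φ, hj⟩ := Groth.Flatmor4.CDDescent.exists_stage (D := Groth.Limits.stages D q0)
    (c := Groth.Limits.stagesCone D q0 (c := c)) (Groth.Limits.isLimitStagesCone D q0 hc) (i₀ := k₀) f0
    (Limits.pullback.fst q0 (D.map k₀.hom)) (by
    intro (z : ↥(Limits.pullback q0 (c.π.app i0)))
    show ∃ σ : Spec ((Limits.pullback q0 (c.π.app i0)).residueField z) ⟶ X0,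
      σ ≫ f0 = (Limits.pullback q0 (c.π.app i0)).fromSpecResidueField z ≫
        ((Groth.Limits.stagesCone D q0 (c := c)).π.app k₀ ≫ Limits.pullback.fst q0 (D.map k₀.hom) :)
    obtain ⟨x, hx, hbij⟩ := hcd (hY.isoPullback.inv z)
    obtain ⟨σ', hσ'⟩ := Groth.Flatmor4.CDDescent.exists_lift_of_bijective f x hbij
    obtain ⟨σ', hσ'⟩ : ∃ σ' : Spec (Y.residueField (hY.isoPullback.inv z)) ⟶ X,
        σ' ≫ f = Y.fromSpecResidueField (hY.isoPullback.inv z) := by
      rw [← hx]; exact ⟨σ', hσ'⟩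
    refine ⟨Spec.map (hY.isoPullback.inv.residueFieldMap z) ≫ σ' ≫ pX, ?_⟩
    rw [Category.assoc, Category.assoc, hX.w, ← Category.assoc σ', hσ', ← Category.assoc,
      hY.isoPullback.inv.SpecMap_residueFieldMap_fromSpecResidueField z, Category.assoc]
    congr 1
    rw [IsPullback.isoPullback_inv_fst]
    exact (Limits.pullback.lift_fst _ _ _).symm)
  refine ⟨j.left, j.hom, Limits.pullback f0 (Limits.pullback.fst q0 (D.map j.hom)), Limits.pullback q0 (D.map j.hom),
    Limits.pullback.snd _ _, Limits.pullback.snd _ _, Limits.pullback.fst _ _, Limits.pullback.fst _ _,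
    IsPullback.of_hasPullback _ _, IsPullback.of_hasPullback _ _, fun y => ?_⟩
  obtain ⟨τ, hτ⟩ := hj y
  refine Groth.Flatmor4.CDDescent.exists_bijective_of_lift _ y (Limits.pullback.lift τ
    ((Limits.pullback q0 (D.map j.hom)).fromSpecResidueField y) ?_) (Limits.pullback.lift_snd _ _ _)
  refine hτ.trans ?_
  congr 1
  exact Limits.pullback.lift_fst _ _ _

end Groth.Agent.S7191
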