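import Groth.Statements.S7196
import Groth.Agent.Flatmor4.MorSGlue
import Groth.Agent.PropsBasic.QuasiAffineSection

set_option autoImplicit false
universe u
open CategoryTheory AlgebraicGeometry
open FlatMor

namespace Groth.Agent.S7196

/-- For Z → S finite locally free and X → S separated, locally of finite type and with discrete fibres
(locally quasi-finite), the functor T ↦ {S-morphisms T ×_S Z → X} on S-schemes is represented by
some S-scheme. -/
theorem result {Z X S : Scheme.{u}} (g : Z ⟶ S) (f : X ⟶ S) (hg : Mor2.IsFinLocFree g)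
    [IsSeparated f] [LocallyQuasiFinite f] [LocallyOfFiniteType f] :
    (Flatn.morS g f).IsRepresentable := by
  refine Groth.Flatmor4.MorSGlue.isRepresentable_morS_of_points_in_affine hg fun s d x hx => ?_
  classical
  obtain ⟨_, ⟨(V : S.Opens), hV, rfl⟩, hsV, -⟩ :=
    S.isBasis_affineOpens.exists_subset_of_mem_open (Set.mem_univ s) isOpen_univ
  have hk : ∀ k, ∃ U : X.Opens, IsAffineOpen U ∧ x k ∈ U ∧ U ≤ f ⁻¹ᵁ V := fun k => by
    obtain ⟨_, ⟨U, hU, rfl⟩, hxU, hle⟩ := X.isBasis_affineOpens.exists_subset_of_mem_open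
      (show x k ∈ (f ⁻¹ᵁ V : Set X) by show f (x k) ∈ V; rw [hx k]; exact hsV) (f ⁻¹ᵁ V).isOpen
    exact ⟨U, hU, hxU, hle⟩
  choose Uk hUk hxUk hle using hk
  let U : X.Opens := ⨆ k, Uk k
  have hUle : U ≤ f ⁻¹ᵁ V := iSup_le hle
  have hUc : IsCompact (U : Set X) := by
    rw [TopologicalSpace.Opens.coe_iSup]
    exact isCompact_iUnion fun k => (hUk k).isCompact
  haveI : CompactSpace U.toScheme := isCompact_iff_compactSpace.mp hUc
  haveI : IsAffine V.toScheme := hV
  let g' : U.toScheme ⟶ V.toScheme := f.resLE V U hUle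
  have hg' : g' ≫ V.ι = U.ι ≫ f := Scheme.Hom.resLE_comp_ι f hUle
  haveI : IsSeparated g' := by
    haveI : IsSeparated (g' ≫ V.ι) := by rw [hg']; infer_instance
    exact IsSeparated.of_comp g' V.ι
  haveI : LocallyOfFiniteType g' := by
    haveI : LocallyOfFiniteType (g' ≫ V.ι) := by rw [hg']; infer_instance
    exact locallyOfFiniteType_of_comp g' V.ι
  haveI : LocallyQuasiFinite g' := by
    haveI : LocallyQuasiFinite (g' ≫ V.ι) := by rw [hg']; infer_instance
    exact LocallyQuasiFinite.of_comp g' V.ι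
  haveI : QuasiCompact g' := quasiCompact_of_compactSpace g'
  haveI : IsAffine g'.normalization := isAffine_of_isAffineHom g'.fromNormalization
  haveI : U.toScheme.IsQuasiAffine := Scheme.IsQuasiAffine.of_isImmersion g'.toNormalization
  let x' : Fin d → U.toScheme := fun k => ⟨x k, TopologicalSpace.Opens.mem_iSup.2 ⟨k, hxUk k⟩⟩
  obtain ⟨a, ha, hxa, -⟩ := Groth.PropsBasic.Ample.exists_affine_basicOpen_of_finite (X := U.toScheme) ⊤
    (Finset.univ.image x') (fun _ _ => trivial)
  exact ⟨U.ι ''ᵁ U.toScheme.basicOpen a, ha.image_of_isOpenImmersion U.ι,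
    fun k => ⟨x' k, hxa _ (Finset.mem_image_of_mem _ (Finset.mem_univ k)), rfl⟩⟩

end Groth.Agent.S7196
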