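import Groth.Statements.S7199
import Groth.Agent.Variety2.DimAffine
import Mathlib.RingTheory.Ideal.KrullsHeightTheorem
import Mathlib.RingTheory.AlgebraicIndependent.Transcendental

set_option autoImplicit false
universe u
open FlatMor

namespace Groth.Agent.S7199

open Polynomial in
/-- Two elements cutting out a component of codimension two are algebraically independent. -/
theorem algebraicIndependent_pair {k A : Type u} [Field k] [CommRing A] [IsDomain A] [Algebra k A]
    [Algebra.FiniteType k A] (a b : A)
    (p : Ideal A) (hp : p ∈ (Ideal.span {a, b}).minimalPrimes)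
    (hdim : ringKrullDim (A ⧸ p) + 2 = ringKrullDim A) :
    Transcendental k a ∧ Transcendental (Algebra.adjoin k ({a} : Set A)) b := by
  have : IsNoetherianRing A := Algebra.FiniteType.isNoetherianRing k A
  have hpp : p.IsPrime := hp.1.1
  have ha : a ∈ p := hp.1.2 (Ideal.subset_span (Set.mem_insert a _))
  have hb : b ∈ p := hp.1.2 (Ideal.subset_span (Set.mem_insert_of_mem a rfl))
  -- `p` is not minimal over a principal ideal
  have key : ∀ c : A, p ∈ (Ideal.span {c}).minimalPrimes → False := by
    intro c hc
    have h1 : p.height ≤ 1 := Ideal.height_le_one_of_isPrincipal_of_mem_minimalPrimes _ p hc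
    obtain ⟨n, -, hn, -⟩ := Groth.Variety2.Dim.exists_dim k A
    rw [hn] at hdim
    by_cases hp0 : p = ⊥
    · rw [hp0, ringKrullDim_eq_of_ringEquiv (RingEquiv.quotientBot A), hn] at hdim
      norm_cast at hdim
      omega
    · have hcov : (⟨⊥, Ideal.isPrime_bot⟩ : PrimeSpectrum A) ⋖ ⟨p, hpp⟩ := by
        refine ⟨show (⊥ : Ideal A) < p from bot_lt_iff_ne_bot.2 hp0, fun q hq hqp => ?_⟩
        have hq' : (⊥ : Ideal A) < q.asIdeal := hq
        have hqp' : q.asIdeal < p := hqp
        have h2 := Ideal.height_add_one_le_of_lt_of_isPrime hq'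
        have h3 := Ideal.height_add_one_le_of_lt_of_isPrime hqp'
        have h4 : ((⊥ : Ideal A).height + 1 + 1 : ℕ∞) ≤ 1 :=
          ((add_le_add_left h2 1).trans h3).trans h1
        rw [Ideal.height_bot, zero_add] at h4
        exact absurd h4 (by norm_num)
      have h5 := Groth.Variety2.Dim.ringKrullDim_quotient_add_one_of_covBy k A
        (q := (⟨⊥, Ideal.isPrime_bot⟩ : PrimeSpectrum A)) (p := (⟨p, hpp⟩ : PrimeSpectrum A)) hcov
      dsimp only at h5
      rw [ringKrullDim_eq_of_ringEquiv (RingEquiv.quotientBot A), hn] at h5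
      rw [← h5, show (2 : WithBot ℕ∞) = 1 + 1 by norm_num, ← add_assoc] at hdim
      rw [h5] at hdim
      norm_cast at hdim
      omega
  have hb0 : b ≠ 0 := fun h => key a <| by
    rwa [h, Set.pair_comm, Ideal.span_insert_zero] at hp
  have ha0 : a ≠ 0 := fun h => key b <| by
    rwa [h, Ideal.span_insert_zero] at hp
  refine ⟨fun h => ?_, fun h => ?_⟩
  · obtain ⟨r, hr0, hr⟩ := h.exists_nonzero_dvd (mem_nonZeroDivisors_of_ne_zero ha0)
    exact hpp.ne_top (Ideal.eq_top_of_isUnit_mem _ (p.mem_of_dvd hr ha)
      ((isUnit_iff_ne_zero.2 hr0).map _))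
  · obtain ⟨⟨r, hr'⟩, hr0, hr⟩ := h.exists_nonzero_dvd (mem_nonZeroDivisors_of_ne_zero hb0)
    obtain ⟨Q, rfl⟩ := Algebra.adjoin_singleton_eq_range_aeval k a ▸ hr'
    have hQ : Q ≠ 0 := fun h => hr0 (Subtype.ext (by simp [h]))
    obtain ⟨Q', hQ', hQc⟩ := exists_eq_pow_rootMultiplicity_mul_and_not_dvd Q hQ (0 : k)
    rw [map_zero, sub_zero] at hQ' hQc
    refine key b ⟨⟨hpp, (Ideal.span_singleton_le_iff_mem _).2 hb⟩, fun q hq hqp => ?_⟩
    obtain ⟨hq₁, hq₂⟩ := hq
    refine hp.2 ⟨hq₁, Ideal.span_le.2 ?_⟩ hqp
    have hbq : b ∈ q := hq₂ (Ideal.mem_span_singleton_self b)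
    rintro x (rfl | rfl)
    · have h1 : aeval x Q ∈ q := q.mem_of_dvd hr hbq
      rw [hQ', map_mul, map_pow, aeval_X] at h1
      refine hq₁.mem_of_pow_mem _ ((hq₁.mem_or_mem h1).resolve_right fun h2 => ?_)
      have h3 : aeval x Q' ∈ p := hqp h2
      rw [← X_mul_divX_add Q', map_add, map_mul, aeval_X, aeval_C] at h3
      have h4 : algebraMap k A (Q'.coeff 0) ∈ p :=
        (p.add_mem_iff_right (p.mul_mem_right _ ha)).1 h3
      refine hpp.ne_top (Ideal.eq_top_of_isUnit_mem _ h4 ((isUnit_iff_ne_zero.2 ?_).map _))
      exact fun h => hQc (Polynomial.X_dvd_iff.2 h)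
    · exact hbq

open MvPolynomial in
/-- The generic linear combination is independent of the variables and of one coefficient, as soon as
that coefficient and another one are independent. -/
theorem transcendental_sum_mul_X {k F : Type u} [Field k] [Field F] [Algebra k F] {ι : Type}
    [Fintype ι] [DecidableEq ι] (g : ι → F) (j : ι) (a : F)
    (hab : AlgebraicIndependent k ![a, g j]) :
    AlgebraicIndependent k (Sum.elim (fun i : ι => (X i : MvPolynomial ι F))
      ![∑ i, C (g i) * X i, C a]) := by
  have h3 : AlgebraicIndependent k (Sum.elim (fun i : ι => (X i : MvPolynomial ι F))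
      (algebraMap F (MvPolynomial ι F) ∘ ![a, g j])) :=
    hab.sumElim_comp (MvPolynomial.algebraicIndependent_X ι F)
  let x : Option ι → MvPolynomial ι F := fun o => o.elim (C a) X
  have hxb : AlgebraicIndependent k (fun o : Option (Option ι) => o.elim (C (g j)) x) := by
    convert h3.comp
      (fun o : Option (Option ι) => o.elim (Sum.inr 1) fun o => o.elim (Sum.inr 0) Sum.inl) ?_
      using 1
    · funext o
      rcases o with _ | _ | i <;> simp [x, MvPolynomial.algebraMap_eq]
    · rintro (_ | _ | i) (_ | _ | i') h <;> simp_all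
  obtain ⟨hx, hb⟩ := AlgebraicIndependent.option_iff.1 hxb
  let S := Algebra.adjoin k (Set.range x)
  let G : MvPolynomial ι F := ∑ i, C (g i) * X i
  have hG : Transcendental S G := by
    intro hG
    let σ : MvPolynomial ι F →ₐ[k] MvPolynomial ι F :=
      (MvPolynomial.aeval (R := F) fun i => (X i + if i = j then 1 else 0 : MvPolynomial ι F)).restrictScalars k
    have hσinj : Function.Injective σ := by
      refine Function.LeftInverse.injective
        (g := MvPolynomial.aeval (R := F) fun i => (X i - if i = j then 1 else 0 : MvPolynomial ι F))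
        fun q => ?_
      have e : (MvPolynomial.aeval (R := F) fun i => (X i - if i = j then 1 else 0 : MvPolynomial ι F)).comp
          (MvPolynomial.aeval (R := F) fun i => (X i + if i = j then 1 else 0 : MvPolynomial ι F)) =
          AlgHom.id F (MvPolynomial ι F) := by
        refine MvPolynomial.algHom_ext fun i => ?_
        by_cases h : i = j <;> simp [h]
      simp only [σ, AlgHom.coe_restrictScalars']
      rw [← AlgHom.comp_apply, e, AlgHom.id_apply]
    have hσS : ∀ s ∈ S, σ s ∈ S := by
      intro s hs
      induction hs using Algebra.adjoin_induction with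
      | mem y hy =>
        obtain ⟨o, rfl⟩ := hy
        rcases o with _ | i
        · simpa [x, σ, MvPolynomial.algebraMap_eq] using
            Algebra.subset_adjoin (R := k) (Set.mem_range_self (f := x) none)
        · simp only [x, σ, Option.elim_some, AlgHom.coe_restrictScalars', MvPolynomial.aeval_X]
          refine S.add_mem (Algebra.subset_adjoin (Set.mem_range_self (f := x) (some i))) ?_
          by_cases h : i = j <;> simp [h, S.one_mem, S.zero_mem]
      | algebraMap r => simpa only [AlgHom.commutes] using S.algebraMap_mem r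
      | add y z _ _ hy hz => simpa only [map_add] using S.add_mem hy hz
      | mul y z _ _ hy hz => simpa only [map_mul] using S.mul_mem hy hz
    let σS : S →+* S := ((σ.comp S.val).codRestrict S fun s => hσS s s.2).toRingHom
    have hσSinj : Function.Injective σS := fun s t h =>
      Subtype.ext (hσinj (congrArg Subtype.val h))
    obtain ⟨P, hP0, hP⟩ := hG
    have hσG : IsAlgebraic S (σ G) := by
      refine ⟨P.map σS, (Polynomial.map_ne_zero_iff hσSinj).2 hP0, ?_⟩
      rw [Polynomial.aeval_def, Polynomial.eval₂_map]
      have e : (algebraMap S (MvPolynomial ι F)).comp σS =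
          σ.toRingHom.comp (algebraMap S (MvPolynomial ι F)) := rfl
      rw [e]
      refine (Polynomial.hom_eval₂ P _ σ.toRingHom G).symm.trans ?_
      simpa [Polynomial.aeval_def] using congrArg σ hP
    have hσG' : σ G = G + C (g j) := by
      simp [σ, G, map_sum, mul_add, Finset.sum_add_distrib, MvPolynomial.algebraMap_eq]
    refine hb ?_
    have := hσG.sub ⟨P, hP0, hP⟩
    rwa [hσG', add_sub_cancel_left] at this
  have hfull := AlgebraicIndependent.option_iff.2 ⟨hx, hG⟩
  convert hfull.comp
    (Sum.elim (fun i => some (some i)) ![none, some none] : ι ⊕ Fin 2 → Option (Option ι)) ?_ using 1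
  · funext o
    rcases o with i | i
    · rfl
    · fin_cases i <;> rfl
  · rintro (i | i) (i' | i') h <;>
      first
        | (fin_cases i <;> fin_cases i' <;> simp_all)
        | (fin_cases i' <;> simp_all)
        | (fin_cases i <;> simp_all)
        | simp_all


/-- Take a field k, an integral domain A that is a finitely generated k-algebra, n ≥ 2 and g_1, …, g_n ∈
A, and suppose some irreducible component of the common zero locus of g_1 and g_2 in Spec A has
dimension dim A − 2. Then for suitable c_1, …, c_n ∈ k the n + 2 elements x_1, …, x_n, Σ g_i x_i, Σ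
c_i g_i of the rational function field Frac(A)(x_1, …, x_n) form an algebraically independent family
over k. -/
theorem result {k A : Type u} [Field k] [CommRing A] [IsDomain A] [Algebra k A]
    [Algebra.FiniteType k A] (m : ℕ) (g : Fin (m + 2) → A)
    (p : Ideal A) (hp : p ∈ (Ideal.span {g 0, g 1}).minimalPrimes) (hdim : ringKrullDim (A ⧸ p) + 2 = ringKrullDim A) :
    ∃ c : Fin (m + 2) → k,
      AlgebraicIndependent k
        (Sum.elim
          (fun i : Fin (m + 2) => algebraMap (MvPolynomial (Fin (m + 2)) (FractionRing A)) (FractionRing (MvPolynomial (Fin (m + 2)) (FractionRing A))) (MvPolynomial.X i))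
          ![∑ i, algebraMap A (FractionRing (MvPolynomial (Fin (m + 2)) (FractionRing A))) (g i) *
              algebraMap (MvPolynomial (Fin (m + 2)) (FractionRing A)) (FractionRing (MvPolynomial (Fin (m + 2)) (FractionRing A))) (MvPolynomial.X i),
            algebraMap A (FractionRing (MvPolynomial (Fin (m + 2)) (FractionRing A))) (∑ i, c i • g i)]) := by
  classical
  obtain ⟨ha, hb⟩ := algebraicIndependent_pair (k := k) (g 0) (g 1) p hp hdim
  have hA : AlgebraicIndependent k ![g 0, g 1] := by
    have h1 : AlgebraicIndependent k (fun _ : Unit => g 0) :=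
      algebraicIndependent_unique_type_iff.2 ha
    have h2 := AlgebraicIndependent.option_iff.2 ⟨h1, by
      rw [Set.range_const]; exact hb⟩
    convert h2.comp (![some (), none] : Fin 2 → Option Unit) ?_ using 1
    · funext i
      fin_cases i <;> rfl
    · intro i i' h
      fin_cases i <;> fin_cases i' <;> simp_all
  have hF : AlgebraicIndependent k
      ![algebraMap A (FractionRing A) (g 0), algebraMap A (FractionRing A) (g 1)] := by
    convert hA.map' (f := IsScalarTower.toAlgHom k A (FractionRing A))
      (IsFractionRing.injective A (FractionRing A)) using 1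
    funext i
    fin_cases i <;> rfl
  have h := (transcendental_sum_mul_X (fun i => algebraMap A (FractionRing A) (g i)) 1 _ hF).map'
    (f := IsScalarTower.toAlgHom k (MvPolynomial (Fin (m + 2)) (FractionRing A))
      (FractionRing (MvPolynomial (Fin (m + 2)) (FractionRing A))))
    (IsFractionRing.injective _ _)
  refine ⟨Pi.single 0 1, ?_⟩
  convert h using 1
  funext o
  rcases o with i | i
  · rfl
  · fin_cases i
    · simp [map_sum]
      refine Finset.sum_congr rfl fun i _ => ?_
      rw [← MvPolynomial.algebraMap_eq, ← IsScalarTower.algebraMap_apply,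
        ← IsScalarTower.algebraMap_apply]
    · simp [Pi.single_apply]
      rw [← MvPolynomial.algebraMap_eq, ← IsScalarTower.algebraMap_apply,
        ← IsScalarTower.algebraMap_apply]

end Groth.Agent.S7199
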