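import Groth.Statements.S7202
import Groth.Agent.Misc12.EtNbhdApprox.Approx

set_option autoImplicit false
universe u
open FlatMor

namespace Groth.Agent.S7202

open AlgebraicGeometry CategoryTheory Limits in
/-- Let S be locally Noetherian, p : X → S and q : Y → S locally of finite type, x in X and y in Y over
the same point s of S with O_{S,s} a G-ring, and φ : O_{Y,y} → O_{X,x}^∧ a local O_{S,s}-algebra map
into the completion. For every N ≥ 1 there are an elementary étale neighbourhood e : (U, u) → (X, x)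
(étale, e(u) = x, κ(x) = κ(u)) and an S-morphism f : U → Y with f(u) = y such that O_{Y,y} → O_{U,u}
(induced by f) and O_{Y,y} → O_{X,x}^∧ → O_{U,u}^∧ (φ followed by the map induced by e) agree modulo
m_u^N; the last condition is written on the quotients by the N-th powers of the maximal ideals. -/
theorem result {X Y S : Scheme.{u}} [IsLocallyNoetherian S]
    (p : X ⟶ S) (q : Y ⟶ S) [LocallyOfFiniteType p] [LocallyOfFiniteType q] (x : X) (y : Y) (hxy : p x = q y)
    (hG : CAlg.IsGRing ↑(S.presheaf.stalk (p x)))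
    (φ : ↑(Y.presheaf.stalk y) →+* (AdicCompletion (IsLocalRing.maximalIdeal ↑(X.presheaf.stalk x)) ↑(X.presheaf.stalk x)))
    (hφ : φ.comp ((q.stalkMap y).hom.comp (S.presheaf.stalkCongr (Inseparable.of_eq hxy)).hom.hom) =
      (algebraMap ↑(X.presheaf.stalk x) (AdicCompletion (IsLocalRing.maximalIdeal ↑(X.presheaf.stalk x)) ↑(X.presheaf.stalk x))).comp (p.stalkMap x).hom)
    (hloc : ∀ b ∈ IsLocalRing.maximalIdeal ↑(Y.presheaf.stalk y),
      φ b ∈ (IsLocalRing.maximalIdeal ↑(X.presheaf.stalk x)).map (algebraMap ↑(X.presheaf.stalk x) (AdicCompletion (IsLocalRing.maximalIdeal ↑(X.presheaf.stalk x)) ↑(X.presheaf.stalk x))))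
    (N : ℕ) (hN : 1 ≤ N) :
    ∃ (U : Scheme.{u}) (e : U ⟶ X) (u : U) (heu : e u = x) (f : U ⟶ Y) (hfu : f u = y),
      Etale e ∧ Function.Bijective (e.residueFieldMap u) ∧ f ≫ q = e ≫ p ∧
      ∀ (b : ↑(Y.presheaf.stalk y)) (c : ↑(X.presheaf.stalk x)),
        AdicCompletion.evalₐ (IsLocalRing.maximalIdeal ↑(X.presheaf.stalk x)) N (φ b) =
          Ideal.Quotient.mk (IsLocalRing.maximalIdeal ↑(X.presheaf.stalk x) ^ N) c →
        Ideal.Quotient.mk (IsLocalRing.maximalIdeal ↑(U.presheaf.stalk u) ^ N)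
            ((f.stalkMap u).hom ((Y.presheaf.stalkCongr (Inseparable.of_eq hfu)).inv.hom b)) =
          Ideal.Quotient.mk (IsLocalRing.maximalIdeal ↑(U.presheaf.stalk u) ^ N)
            ((e.stalkMap u).hom ((X.presheaf.stalkCongr (Inseparable.of_eq heu)).inv.hom c)) := by
  have : IsLocallyNoetherian X := LocallyOfFiniteType.isLocallyNoetherian p
  have hloc' : ∀ b ∈ IsLocalRing.maximalIdeal ↑(Y.presheaf.stalk y),
      φ b ∈ IsLocalRing.maximalIdeal (Groth.Agent.Misc12.EtNbhdApprox.Cpl ↑(X.presheaf.stalk x)) := by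
    intro b hb
    rw [AdicCompletion.maximalIdeal_eq_map]
    exact hloc b hb
  obtain ⟨d⟩ := Groth.Agent.Misc12.EtNbhdApprox.exists_chartData p q x y hxy hG φ hφ hloc' N hN
  exact ⟨_, Groth.Agent.Misc12.EtNbhdApprox.chartHom d.hW d.γ, d.u, d.he,
    Groth.Agent.Misc12.EtNbhdApprox.chartHom d.hY₀ d.δ, d.hf,
    Groth.Agent.Misc12.EtNbhdApprox.etale_chartHom d.hW d.γ d.etale, d.residue_bijective, d.comm,
    d.congr hloc'⟩

end Groth.Agent.S7202
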