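import Groth.Statements.S7203
import Groth.Agent.Misc12.EtNbhdApprox.Common

set_option autoImplicit false
universe u
open FlatMor

namespace Groth.Agent.S7203

open AlgebraicGeometry CategoryTheory Limits in
/-- Let S be locally Noetherian, p : X → S and q : Y → S locally of finite type, x in X and y in Y over
the same point s with O_{S,s} a G-ring, and φ : O_{Y,y}^∧ ≅ O_{X,x}^∧ an isomorphism of
O_{S,s}-algebras between the completed local rings. For every N ≥ 1 there are a scheme U, a point u
and morphisms e : U → X, f : U → Y over S which are both elementary étale neighbourhoods (of (X, x)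
and of (Y, y)) such that O_{Y,y}^∧ → O_{U,u}^∧ and O_{Y,y}^∧ → O_{X,x}^∧ → O_{U,u}^∧ (φ followed by
the map induced by e) agree modulo m_u^N; the last condition is written on O_{U,u}/m_u^N through
lifts modulo the N-th powers of the maximal ideals. -/
theorem result {X Y S : Scheme.{u}} [IsLocallyNoetherian S]
    (p : X ⟶ S) (q : Y ⟶ S) [LocallyOfFiniteType p] [LocallyOfFiniteType q] (x : X) (y : Y) (hxy : p x = q y)
    (hG : CAlg.IsGRing ↑(S.presheaf.stalk (p x)))
    (φ : (AdicCompletion (IsLocalRing.maximalIdeal ↑(Y.presheaf.stalk y)) ↑(Y.presheaf.stalk y)) ≃+* (AdicCompletion (IsLocalRing.maximalIdeal ↑(X.presheaf.stalk x)) ↑(X.presheaf.stalk x)))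
    (hφ : φ.toRingHom.comp ((algebraMap ↑(Y.presheaf.stalk y) (AdicCompletion (IsLocalRing.maximalIdeal ↑(Y.presheaf.stalk y)) ↑(Y.presheaf.stalk y))).comp
        ((q.stalkMap y).hom.comp (S.presheaf.stalkCongr (Inseparable.of_eq hxy)).hom.hom)) =
      (algebraMap ↑(X.presheaf.stalk x) (AdicCompletion (IsLocalRing.maximalIdeal ↑(X.presheaf.stalk x)) ↑(X.presheaf.stalk x))).comp (p.stalkMap x).hom)
    (N : ℕ) (hN : 1 ≤ N) :
    ∃ (U : Scheme.{u}) (u : U) (e : U ⟶ X) (heu : e u = x) (f : U ⟶ Y) (hfu : f u = y),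
      Etale e ∧ Function.Bijective (e.residueFieldMap u) ∧ Etale f ∧ Function.Bijective (f.residueFieldMap u) ∧
      f ≫ q = e ≫ p ∧
      ∀ (b : (AdicCompletion (IsLocalRing.maximalIdeal ↑(Y.presheaf.stalk y)) ↑(Y.presheaf.stalk y))) (cY : ↑(Y.presheaf.stalk y)) (cX : ↑(X.presheaf.stalk x)),
        AdicCompletion.evalₐ (IsLocalRing.maximalIdeal ↑(Y.presheaf.stalk y)) N b =
          Ideal.Quotient.mk (IsLocalRing.maximalIdeal ↑(Y.presheaf.stalk y) ^ N) cY →
        AdicCompletion.evalₐ (IsLocalRing.maximalIdeal ↑(X.presheaf.stalk x)) N (φ b) =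
          Ideal.Quotient.mk (IsLocalRing.maximalIdeal ↑(X.presheaf.stalk x) ^ N) cX →
        Ideal.Quotient.mk (IsLocalRing.maximalIdeal ↑(U.presheaf.stalk u) ^ N)
            ((f.stalkMap u).hom ((Y.presheaf.stalkCongr (Inseparable.of_eq hfu)).inv.hom cY)) =
          Ideal.Quotient.mk (IsLocalRing.maximalIdeal ↑(U.presheaf.stalk u) ^ N)
            ((e.stalkMap u).hom ((X.presheaf.stalkCongr (Inseparable.of_eq heu)).inv.hom cX)) := by
  have : IsLocallyNoetherian X := LocallyOfFiniteType.isLocallyNoetherian p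
  have : IsLocallyNoetherian Y := LocallyOfFiniteType.isLocallyNoetherian q
  exact Groth.Agent.Misc12.EtNbhdApprox.exists_common hxy hG hφ N

end Groth.Agent.S7203
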