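import Groth.Statements.S7204
-- import your own Groth.Agent.* helpers here

set_option autoImplicit false
universe w u
open FlatMor

namespace Groth.Agent.S7204

open AlgebraicGeometry CategoryTheory Limits in
/-- Let (X_i)_{i ∈ I} be a diagram of schemes and (W, X_i → W) a cocone under it. If there is an fpqc
covering {W_a → W} such that each W_a is the colimit (in schemes) of the base-changed diagram (X_i
×_W W_a), and each W_a ×_W W_b is the colimit of (X_i ×_W W_a ×_W W_b), then W is the colimit of
(X_i) in the category of schemes. -/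
theorem result {J : Type u} [SmallCategory J] (D : J ⥤ Scheme.{u}) (c : Cocone D)
    (F : PreZeroHypercover.{w} c.pt) (hF : F.presieve₀ ∈ Scheme.fpqcPrecoverage c.pt)
    (h1 : ∀ a : F.I₀, Nonempty (IsColimit ((Over.forgetCocone (F.X a)).whisker
      (D.toOver c.pt (fun j => c.ι.app j) (fun g => c.w g) ⋙ Over.pullback (F.f a)))))
    (h2 : ∀ a b : F.I₀, Nonempty (IsColimit ((Over.forgetCocone (pullback (F.f a) (F.f b))).whisker
      (D.toOver c.pt (fun j => c.ι.app j) (fun g => c.w g) ⋙ Over.pullback (pullback.fst (F.f a) (F.f b) ≫ F.f a))))) :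
    Nonempty (IsColimit c) := by
  have hsh : ∀ {Y : Scheme.{u}} {R : Presieve Y}, R ∈ Scheme.fpqcPrecoverage Y →
      ∀ T : Scheme.{u}, Presieve.IsSheafFor (yoneda.obj T) R := fun hR T => by
    exact (GrothendieckTopology.Subcanonical.isSheaf_of_isRepresentable (J := Scheme.fpqcTopology) _).isSheafFor _
      (Precoverage.generate_mem_toGrothendieck hR)
  have ext' : ∀ {Y T : Scheme.{u}} (g : Y ⟶ c.pt) (p q : Y ⟶ T),
      (∀ a, pullback.fst g (F.f a) ≫ p = pullback.fst g (F.f a) ≫ q) → p = q := by
    intro Y T g p q h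
    have hmem : Presieve.ofArrows _ (fun a => pullback.fst g (F.f a)) ∈
        Scheme.fpqcPrecoverage Y :=
      Precoverage.mem_coverings_of_isPullback F.f hF g _
        (fun a => pullback.snd g (F.f a)) fun a => IsPullback.of_hasPullback _ _
    refine (hsh hmem T).isSeparatedFor.ext fun Z f hf => ?_
    obtain ⟨a⟩ := hf
    exact h a
  have ha : ∀ (s : Cocone D) (a : F.I₀), ∃ x : F.X a ⟶ s.pt, ∀ j,
      pullback.snd (c.ι.app j) (F.f a) ≫ x = pullback.fst (c.ι.app j) (F.f a) ≫ s.ι.app j := by
    intro s a
    obtain ⟨h⟩ := h1 a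
    let s' : Cocone ((D.toOver c.pt (fun j => c.ι.app j) (fun g => c.w g) ⋙ Over.pullback (F.f a)) ⋙
        Over.forget (F.X a)) :=
      { pt := s.pt
        ι := { app := fun j => pullback.fst (c.ι.app j) (F.f a) ≫ s.ι.app j
               naturality := fun j j' g => by
                 simp only [Functor.const_obj_obj, Functor.const_obj_map, Category.comp_id]
                 rw [← s.w g]
                 erw [pullback.lift_fst_assoc]
                 exact Category.assoc _ _ _ } }
    exact ⟨h.desc s', fun j => h.fac s' j⟩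
  choose x hx using ha
  have hcompat : ∀ s, Presieve.Arrows.PullbackCompatible (yoneda.obj s.pt) F.f (x s) := by
    intro s a b
    obtain ⟨h⟩ := h2 a b
    refine h.hom_ext fun j => ?_
    let t := pullback.fst (F.f a) (F.f b) ≫ F.f a
    show pullback.snd (c.ι.app j) t ≫ pullback.fst (F.f a) (F.f b) ≫ x s a =
      pullback.snd (c.ι.app j) t ≫ pullback.snd (F.f a) (F.f b) ≫ x s b
    let la : pullback (c.ι.app j) t ⟶ pullback (c.ι.app j) (F.f a) :=
      pullback.lift (pullback.fst _ _) (pullback.snd _ _ ≫ pullback.fst _ _)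
        (by rw [Category.assoc, pullback.condition])
    let lb : pullback (c.ι.app j) t ⟶ pullback (c.ι.app j) (F.f b) :=
      pullback.lift (pullback.fst _ _) (pullback.snd _ _ ≫ pullback.snd _ _)
        (by rw [Category.assoc, pullback.condition, ← pullback.condition (f := F.f a)])
    have hla : la ≫ pullback.snd _ _ = pullback.snd _ t ≫ pullback.fst _ _ := pullback.lift_snd _ _ _
    have hlb : lb ≫ pullback.snd _ _ = pullback.snd _ t ≫ pullback.snd _ _ := pullback.lift_snd _ _ _
    rw [← reassoc_of% hla, ← reassoc_of% hlb, hx, hx, ← Category.assoc, ← Category.assoc lb,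
      show la ≫ pullback.fst _ _ = pullback.fst _ t from pullback.lift_fst _ _ _,
      show lb ≫ pullback.fst _ _ = pullback.fst _ t from pullback.lift_fst _ _ _]
  have hd : ∀ s : Cocone D, ∃! d : c.pt ⟶ s.pt, ∀ a, F.f a ≫ d = x s a := fun s =>
    (Presieve.isSheafFor_arrows_iff_pullbacks _ F.f).mp (hsh hF s.pt) (x s) (hcompat s)
  choose d hd hu using hd
  refine ⟨⟨d, fun s j => ext' (c.ι.app j) _ _ fun a => ?_, fun s m hm => hu s m fun a => ?_⟩⟩
  · rw [pullback.condition_assoc, hd, hx]
  · obtain ⟨h⟩ := h1 a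
    refine h.hom_ext fun j => ?_
    show pullback.snd (c.ι.app j) (F.f a) ≫ F.f a ≫ m = pullback.snd (c.ι.app j) (F.f a) ≫ x s a
    rw [hx, ← pullback.condition_assoc, hm]

end Groth.Agent.S7204
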