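import Groth.Agent.RelPC.Ring
import Groth.Agent.DerivedCoh.PushPull.FinitePush
import Groth.Agent.DAlg.RelPCFinite
import Groth.Statements.S7210
-- import your own Groth.Agent.* helpers here

set_option autoImplicit false
universe u
open CategoryTheory CategoryTheory.Limits AlgebraicGeometry Opposite TopologicalSpace
attribute [local instance] HasDerivedCategory.standard
open FlatMor

namespace Groth.Agent.S7210

/-- Let p : X ⟶ S and q : Y ⟶ S be locally of finite type and π : X ⟶ Y a finite morphism over S (π ≫ q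
= p). Let E be an object of D(O_X) all of whose cohomology sheaves are quasi-coherent, and m an
integer. Then, Rπ_* being assumed to exist, relative m-pseudo-coherence of E with respect to p is
equivalent to relative m-pseudo-coherence of Rπ_* E with respect to q (chart form). -/
theorem result {X Y S : Scheme.{u}} (p : X ⟶ S) (q : Y ⟶ S)
    [LocallyOfFiniteType p] [LocallyOfFiniteType q] (π : X ⟶ Y) [IsFinite π] (w : π ≫ q = p)
    [DCoh.HasRpush π] (m : ℤ) (E : DCoh.D X) (hE : DCoh.IsQCohD E) :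
    DerSch.IsPseudoCoherentRel p m E ↔ DerSch.IsPseudoCoherentRel q m ((DCoh.Rpush π).obj E) := by
  haveI : ∀ U : CommRingCat.{u}, PreservesFiniteLimits (tilde.functor U) := fun U =>
    Groth.PropsBasic2.preservesFiniteLimits_tilde (R := U)
  have key : ∀ (W : Y.Opens) (V : S.Opens) (_ : IsAffineOpen W) (_ : IsAffineOpen V) (_ : W ≤ q ⁻¹ᵁ V),
      (Groth.RelPC.ChartOn p m E (π ⁻¹ᵁ W) V ↔ Groth.RelPC.ChartOn q m ((DCoh.Rpush π).obj E) W V) := by
    intro W V hW hV hWV
    let U := π ⁻¹ᵁ W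
    have hU : IsAffineOpen U := hW.preimage π
    have hUV : U ≤ p ⁻¹ᵁ V := by rw [← w]; exact π.preimage_mono hWV
    let φ := (π.appLE W U le_rfl).hom
    have : DCoh.HasRpush (Spec.map (CommRingCat.ofHom φ)) := Groth.DerivedCoh.PushPull.hasRpush _
    obtain ⟨M, ⟨eM⟩⟩ := (Groth.Misc4.QCohTildeD.isQCohD_iff _ _).1
      (Groth.Misc4.QCohDPerf.isQCohD_restrict hU.fromSpec hE)
    obtain ⟨a⟩ := Groth.DerivedCoh.PushPull.nonempty_Rpush_chart π hW E
    obtain ⟨b⟩ := Groth.DerivedCoh.PushPull.nonempty_tildeD_Rpush φ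
    obtain ⟨c⟩ := Groth.KTheory.Perf.nonempty_rdComp (k := hU.isoSpec.hom) (j := hU.fromSpec) (l := U.ι)
      hU.isoSpec_hom_fromSpec.symm E
    rw [Groth.RelPC.chartOn_iff_relPC hU hV hUV m E M (c ≪≫ (Groth.KTheory.Perf.Rd _).mapIso eM.symm),
      Groth.RelPC.chartOn_iff_relPC hW hV hWV m ((DCoh.Rpush π).obj E) ((DRing.restrictD φ).obj M)
        (a ≪≫ (Groth.KTheory.Perf.Rd hW.isoSpec.hom).mapIso ((DCoh.Rpush _).mapIso eM.symm ≪≫ b.app M))]
    letI := (p.appLE V U hUV).hom.toAlgebra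
    letI := (q.appLE V W hWV).hom.toAlgebra
    letI := φ.toAlgebra
    haveI : IsScalarTower Γ(S, V) Γ(Y, W) Γ(X, U) := .of_algebraMap_eq' (by
      subst w
      exact (congrArg CommRingCat.Hom.hom (Scheme.Hom.appLE_comp_appLE π q V W U hWV le_rfl)).symm)
    haveI : Algebra.FiniteType Γ(S, V) Γ(Y, W) := q.finiteType_appLE hV hW hWV
    haveI : Module.Finite Γ(Y, W) Γ(X, U) := by
      have h1 := π.finite_app W hW
      rwa [Scheme.Hom.app_eq_appLE] at h1
    exact Groth.DAlg.relPC_iff_restrict_of_finite M m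
  constructor <;> intro h <;> refine Groth.RelPC.rel_of_local fun x => ?_
  · obtain ⟨V, hV, hxV, -⟩ := exists_isAffineOpen_mem_and_subset (U := (⊤ : S.Opens)) (x := q x) trivial
    obtain ⟨W, hW, hxW, hWV⟩ := exists_isAffineOpen_mem_and_subset (U := q ⁻¹ᵁ V) (x := x) hxV
    exact ⟨W, V, hxW, hW, hV, (key W V hW hV hWV).1
      (Groth.RelPC.chartOn_of_rel h (hW.preimage π) hV (by rw [← w]; exact π.preimage_mono hWV))⟩
  · obtain ⟨V, hV, hxV, -⟩ := exists_isAffineOpen_mem_and_subset (U := (⊤ : S.Opens)) (x := q (π x)) trivial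
    obtain ⟨W, hW, hxW, hWV⟩ := exists_isAffineOpen_mem_and_subset (U := q ⁻¹ᵁ V) (x := π x) hxV
    exact ⟨π ⁻¹ᵁ W, V, hxW, hW.preimage π, hV, (key W V hW hV hWV).2 (Groth.RelPC.chartOn_of_rel h hW hV hWV)⟩

end Groth.Agent.S7210
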