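import Groth.Agent.RelPC.Module
import Groth.Statements.S7212
-- import your own Groth.Agent.* helpers here

set_option autoImplicit false
universe u
open CategoryTheory CategoryTheory.Limits AlgebraicGeometry Opposite TopologicalSpace
attribute [local instance] HasDerivedCategory.standard
open FlatMor

namespace Groth.Agent.S7212

/-- Let f : X ⟶ S be locally of finite type and M an O_X-module, viewed in degree 0 of D(O_X); relative
pseudo-coherence is in chart form. Then (1) M is m-pseudo-coherent relative to f for every integer m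
> 0; (2) M is 0-pseudo-coherent relative to f if and only if M is an O_X-module of finite type; (3)
M is (-1)-pseudo-coherent relative to f if and only if M is quasi-coherent and finitely presented
relative to f (on the members of suitable affine open covers of S and of the preimages, the module
of sections is finitely presented over the base ring through a polynomial surjection). -/
theorem result {X S : Scheme.{u}} (f : X ⟶ S)
    [LocallyOfFiniteType f] (M : X.Modules) :
    (∀ m : ℤ, 0 < m → DerSch.IsPseudoCoherentRel f m (DCoh.inD X M)) ∧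
      (DerSch.IsPseudoCoherentRel f 0 (DCoh.inD X M) ↔ CohB1.IsFT M) ∧
      (DerSch.IsPseudoCoherentRel f (-1) (DCoh.inD X M) ↔ (Coh.IsQCoh M ∧ Flatn.IsRelFP f M)) := by
  refine ⟨fun m hm => ?_, ⟨Groth.RelPC.isFT_of_rel_zero, Groth.RelPC.rel_zero_of_isFT⟩, ⟨fun h => ?_, fun ⟨hq, 𝒱, h𝒱, hF⟩ => ?_⟩⟩
  · exact Groth.RelPC.rel_of_below fun i hi => Groth.DerivedCoh.PCoh.hd_inD_eq_zero M (by omega)
  · haveI hq : M.IsQuasicoherent := (Groth.QCohMod.isQCoh_iff_of_iso
      ((DerivedCategory.singleFunctorCompHomologyFunctorIso X.Modules 0).app M)).1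
        (Groth.RelPC.isQCoh_hd_of_rel h (i := 0) (by omega))
    refine ⟨hq, Set.univ, by rw [iSup_univ, iSup_affineOpens_eq_top], fun V _ => ?_⟩
    refine ⟨{U | (U : X.Opens) ≤ f ⁻¹ᵁ (V : S.Opens)}, le_antisymm (iSup₂_le fun U hU => hU) fun x hx => ?_,
      fun U _ hh => ?_⟩
    · obtain ⟨U, hU, hxU, hUV⟩ := exists_isAffineOpen_mem_and_subset hx
      exact Opens.mem_iSup.2 ⟨⟨U, hU⟩, Opens.mem_iSup.2 ⟨hUV, hxU⟩⟩
    · obtain ⟨n, φ, hφ⟩ := Groth.RelPC.exists_chart (f := f) hh (f.finiteType_appLE V.2 U.2 hh)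
      haveI := Groth.RelPC.isClosedImmersion_chartImm U.2 φ hφ.1
      letI := (f.appLE (V : S.Opens) (U : X.Opens) hh).hom.toAlgebra
      refine ⟨n, { φ with commutes' := fun r => RingHom.congr_fun hφ.2 r }, hφ.1, ?_⟩
      exact (Groth.RelPC.isFP_push_chart_iff U.2 φ hφ.1 M).1
        ((Groth.DerivedCoh.PCoh.pseudoCoherent_inD_iff _).2.1 ((Groth.RelPC.pcD_push_inD_iff _ (-1) _).1
          (Groth.DerivedCoh.PCoh.isPseudoCoherentD_of_iso ((Groth.RelPC.Pd _).mapIso
            (Groth.DerivedCoh.PCoh.rdInDIso (U : X.Opens).ι M)) (Groth.RelPC.pcD_chart_of_rel h U.2 V.2 hφ))))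
  · haveI : M.IsQuasicoherent := hq
    refine Groth.RelPC.rel_of_local fun x => ?_
    have hx' : f x ∈ (⨆ V ∈ 𝒱, (V : S.Opens)) := h𝒱 ▸ trivial
    simp only [Opens.mem_iSup] at hx'
    obtain ⟨V, hV, hxV⟩ := hx'
    obtain ⟨𝒰, h𝒰, hU'⟩ := hF V hV
    have hx'' : x ∈ (⨆ U ∈ 𝒰, (U : X.Opens)) := h𝒰 ▸ hxV
    simp only [Opens.mem_iSup] at hx''
    obtain ⟨U, hU, hxU⟩ := hx''
    have hh : (U : X.Opens) ≤ f ⁻¹ᵁ (V : S.Opens) := h𝒰 ▸ le_iSup₂_of_le U hU le_rfl
    letI := (f.appLE (V : S.Opens) (U : X.Opens) hh).hom.toAlgebra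
    obtain ⟨n, a, ha, hfp⟩ := hU' U hU hh
    haveI := Groth.RelPC.isClosedImmersion_chartImm U.2 a.toRingHom ha
    exact ⟨U, V, hxU, U.2, V.2, hh, n, a.toRingHom, ⟨ha, a.comp_algebraMap⟩,
      (Groth.RelPC.chartPC_iff U.2 a.toRingHom (-1) _).2 (Groth.DerivedCoh.PCoh.isPseudoCoherentD_of_iso
        ((Groth.RelPC.Pd _).mapIso (Groth.DerivedCoh.PCoh.rdInDIso (U : X.Opens).ι M).symm)
        ((Groth.RelPC.pcD_push_inD_iff _ (-1) _).2 ((Groth.DerivedCoh.PCoh.pseudoCoherent_inD_iff _).2.2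
          ((Groth.RelPC.isFP_push_chart_iff U.2 a.toRingHom ha M).2 hfp))))⟩

end Groth.Agent.S7212
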