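import Groth.Agent.RelPC.Rel
import Groth.Statements.S7216
-- import your own Groth.Agent.* helpers here

set_option autoImplicit false
universe u
open CategoryTheory CategoryTheory.Limits AlgebraicGeometry Opposite TopologicalSpace
attribute [local instance] HasDerivedCategory.standard
open FlatMor

namespace Groth.Agent.S7216

/-- Let f : X ⟶ S be a morphism of schemes, m an integer, and E an object of D(O_X) whose cohomology
vanishes above some degree b and whose cohomology sheaf H^i(E), viewed in degree 0, is (m -
i)-pseudo-coherent relative to f for every i (chart form; in particular f is locally of finite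
type). Then E is m-pseudo-coherent relative to f. (Stated for cohomology bounded above by one degree
b on all of X; the published statement also allows a bound that varies locally on X.) -/
theorem result {X S : Scheme.{u}} (f : X ⟶ S) (m : ℤ) (E : DCoh.D X)
    (b : ℤ) [E.IsLE b] (h : ∀ i : ℤ, DerSch.IsPseudoCoherentRel f (m - i) (DCoh.inD X (DCoh.HD E i))) :
    DerSch.IsPseudoCoherentRel f m E := by
  haveI := (h 0).1
  refine Groth.PCohPunctual.homology_induction (fun L => DerSch.IsPseudoCoherentRel f m L)
    (fun _ _ e h => Groth.RelPC.rel_of_iso e h) (fun T hT h₁ h₃ => Groth.RelPC.rel_obj₂ T hT h₁ h₃) m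
    (fun G hG => Groth.RelPC.rel_of_below hG) E b (fun i hi => DerivedCategory.isZero_of_isLE E b i hi) fun k _ => ?_
  exact Groth.RelPC.rel_of_iso (Groth.PCohPunctual.singleShiftIso (DCoh.HD E k) k)
    (Groth.RelPC.rel_shift (h k) (-k) m (by omega))

end Groth.Agent.S7216
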