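import Groth.Statements.S7220
import Groth.Agent.OmegaSheaf.NLImmersion
import Mathlib.AlgebraicGeometry.Morphisms.FormallyUnramified

set_option autoImplicit false
universe u
open CategoryTheory CategoryTheory.Limits AlgebraicGeometry Opposite TopologicalSpace
attribute [local instance] HasDerivedCategory.standard
open FlatMor

namespace Groth.Agent.S7220

/-- Let i : Z ⟶ X be a quasi-compact immersion. Then, in chart form, the naive cotangent complex
NL_{Z/X} is the conormal sheaf of Z in X placed in degree −1: (a) the conormal sheaf is the
cohomology sheaf H^{-1}(NL_{Z/X}) — its sections over every affine open U of Z mapping into an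
affine open V of X can be identified with H^{-1} of the naive cotangent complex of Γ(Z, U) over Γ(X,
V), compatibly with the action of functions and with restriction — and (b) the cohomology sheaf
H^0(NL_{Z/X}) = Ω_{Z/X} vanishes: for every such pair the module of Kähler differentials of Γ(Z, U)
over Γ(X, V) is zero. (In (a), existence of such a system of identifications only; the canonical
identification induced by the ideal-to-cotangent map is not pinned here. The published statement is
for an arbitrary immersion; this row takes i quasi-compact, which makes the kernel ideal sheaf used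
to define the conormal sheaf the full kernel.) -/
theorem result {Z X : Scheme.{u}} (i : Z ⟶ X) [IsImmersion i]
    [QuasiCompact i] :
    Nonempty (NLCx.H1Sheaf i (Omega.conormal i)) ∧
      NLCx.OnCharts i (fun A B _ _ _ => Subsingleton (Ω[B⁄A])) := by
  refine ⟨⟨Groth.OmegaSheaf.conormalH1Sheaf i⟩, fun U V e ↦ ?_⟩
  let _ := (i.appLE (V : X.Opens) (U : Z.Opens) e).hom.toAlgebra
  have h : RingHom.FormallyUnramified (algebraMap Γ(X, (V : X.Opens)) Γ(Z, (U : Z.Opens))) :=
    i.formallyUnramified_appLE V.2 U.2 e
  have : Algebra.FormallyUnramified Γ(X, (V : X.Opens)) Γ(Z, (U : Z.Opens)) :=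
    RingHom.formallyUnramified_algebraMap.mp h
  infer_instance

end Groth.Agent.S7220
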