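import Groth.Statements.S7222
import Groth.Agent.FlatmorThree.NLFlatTarget
import Groth.Agent.FrobLCI.NLFlat.Amp

set_option autoImplicit false
universe u
open CategoryTheory CategoryTheory.Limits TensorProduct
attribute [local instance] HasDerivedCategory.standard
open FlatMor

namespace Groth.Agent.S7222

/-- Let A → B and A → A' be ring homomorphisms and B' an algebra over A' and over B making the square
cocartesian, B' = B ⊗_A A'. If B is flat over A, then the canonical chain map NL_{B/A} ⊗_B B' →
NL_{B'/A'} (for the presentations by the polynomial algebras on all elements) is a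
quasi-isomorphism. If moreover NL_{B/A} has tor-amplitude in [-1, 0], then, the derived base change
functor along B → B' being assumed to exist, NL_{B/A} ⊗^L_B B' is isomorphic to NL_{B'/A'} in D(B')
(existence of an isomorphism only: the derived comparison map is not named here). -/
theorem result (A B A' B' : Type u) [CommRing A] [CommRing B]
    [CommRing A'] [CommRing B'] [Algebra A B] [Algebra A' B'] [Algebra A A'] [Algebra B B'] [Algebra A B']
    [IsScalarTower A A' B'] [IsScalarTower A B B'] [Algebra.IsPushout A A' B B'] [Module.Flat A B] :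
    QuasiIso (NLCx.bcMapSelf A B A' B') ∧
      (DRing.HasTorAmplitudeIn B (-1) 0 (LCI.NL A B) → ∀ [DRing.HasLBaseChange (algebraMap B B')],
        Nonempty ((DRing.LBaseChange (algebraMap B B')).obj (LCI.NL A B) ≅ LCI.NL A' B')) := by
  obtain ⟨e, he⟩ := Groth.FlatmorThree.NL.exists_homotopyEquiv_of_flat_target A B A' B'
  refine ⟨he ▸ e.quasiIso_hom, fun h => fun {hB} => ?_⟩
  let d := ModuleCat.ofHom (Algebra.Generators.self A B).toExtension.cotangentComplex
  have hF : Module.Flat B (ModuleCat.of B (Algebra.Generators.self A B).toExtension.CotangentSpace) :=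
    Groth.FrobLCI.NLFlat.flat_cotangentSpace (Algebra.Generators.self A B)
  have hC : Module.Flat B (ModuleCat.of B (Algebra.Generators.self A B).toExtension.Cotangent) :=
    Groth.FrobLCI.NLFlat.flat_of_torAmp d h
  have hfl : DRing.TermwiseFlat (HomologicalComplex.double d Groth.FlatmorThree.NL.rel_neg_one) := fun i => by
    by_cases h₁ : i = -1
    · subst h₁
      exact Module.Flat.of_linearEquiv (HomologicalComplex.doubleXIso₀ d _).toLinearEquiv
    by_cases h₂ : i = 0
    · subst h₂
      exact Module.Flat.of_linearEquiv (HomologicalComplex.doubleXIso₁ d _ (by decide)).toLinearEquiv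
    · have := ModuleCat.subsingleton_of_isZero
        (HomologicalComplex.isZero_double_X d Groth.FlatmorThree.NL.rel_neg_one i h₁ h₂)
      infer_instance
  obtain ⟨i₁⟩ := Groth.DAlg.nonempty_lBaseChangeFlatIso (algebraMap B B') _ (b := 0)
    (fun i hi => HomologicalComplex.isZero_double_X d Groth.FlatmorThree.NL.rel_neg_one i (by omega) (by omega)) hfl
  obtain ⟨i₂⟩ := Groth.FlatmorThree.NL.nonempty_extCx_double (B := B') d
  have : QuasiIso e.hom := e.quasiIso_hom
  have hq : CategoryTheory.IsIso (DerivedCategory.Q.map e.hom) :=
    (DerivedCategory.isIso_Q_map_iff_quasiIso (φ := e.hom)).mpr this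
  exact ⟨i₁ ≪≫ DerivedCategory.Q.mapIso i₂.symm ≪≫ @CategoryTheory.asIso _ _ _ _ _ hq⟩

end Groth.Agent.S7222
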