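import Groth.Statements.S7223
import Groth.Agent.FlatmorThree.NLSelf
import Groth.Agent.S7072

set_option autoImplicit false
universe u
open CategoryTheory CategoryTheory.Limits TensorProduct
attribute [local instance] HasDerivedCategory.standard
open FlatMor

namespace Groth.Agent.S7223

open Algebra Algebra.Extension Groth.FlatmorThree.NL

/-- Finite projective conormal modules pass between presentations with finite free cotangent space. -/
theorem finite_projective_of_hom {A B : Type u} [CommRing A] [CommRing B] [Algebra A B]
    (Q Q' : Extension.{u} A B) (f : Q.Hom Q') (g : Q'.Hom Q) [Module.Finite B Q'.Cotangent]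
    [Module.Projective B Q'.Cotangent] [Module.Finite B Q.CotangentSpace] [Module.Projective B Q.CotangentSpace] :
    Module.Finite B Q.Cotangent ∧ Module.Projective B Q.Cotangent := by
  let s : Q.Cotangent →ₗ[B] Q'.Cotangent × Q.CotangentSpace :=
    LinearMap.prod (Cotangent.map f) Q.cotangentComplex
  let r : Q'.Cotangent × Q.CotangentSpace →ₗ[B] Q.Cotangent :=
    LinearMap.coprod (Cotangent.map g) ((Extension.Hom.id Q).sub (g.comp f))
  have hrs : r ∘ₗ s = LinearMap.id := LinearMap.ext fun x => by
    have h := LinearMap.congr_fun (Cotangent.map_sub_map (Extension.Hom.id Q) (g.comp f)) x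
    rw [Cotangent.map_id, Cotangent.map_comp] at h
    show Cotangent.map g (Cotangent.map f x) + _ = x
    exact (congrArg (Cotangent.map g (Cotangent.map f x) + ·) h.symm).trans (add_sub_cancel _ _)
  exact ⟨Module.Finite.of_surjective r fun x => ⟨s x, LinearMap.congr_fun hrs x⟩,
    Module.Projective.of_split s r hrs⟩

/-- For a local complete intersection every finite presentation has finite projective conormal module. -/
theorem finite_projective_of_isLCI {A B : Type u} [CommRing A] [CommRing B] [Algebra A B] (h : LCI.IsLCI A B)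
    {ι : Type u} [Finite ι] (G : Generators A B ι) :
    Module.Finite B G.toExtension.Cotangent ∧ Module.Projective B G.toExtension.Cotangent := by
  obtain ⟨-, n, φ, hφ, hreg⟩ := h
  have hφ' : MvPolynomial.aeval (fun i => φ (MvPolynomial.X i)) = φ := (MvPolynomial.aeval_unique φ).symm
  let G₀ : Generators A B (Fin n) := Generators.ofSurjective (fun i => φ (MvPolynomial.X i))
    (by rw [hφ']; exact hφ)
  have hker : G₀.toExtension.ker = RingHom.ker φ.toRingHom :=
    Ideal.ext fun x => Iff.of_eq (congrArg (· = 0) ((G₀.algebraMap_apply x).trans (AlgHom.congr_fun hφ' x)))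
  have hreg' : LCI.IsKoszulRegularIdeal G₀.toExtension.ker := hker.symm ▸ hreg
  obtain ⟨h₁, h₂⟩ := Groth.Syntomic.finite_projective_cotangent _ hreg'
  obtain ⟨_, _⟩ := Groth.Agent.S7072.finite_projective_of_quotient G₀.toExtension h₁ h₂
  have : Module.Free B G.toExtension.CotangentSpace := Module.Free.of_basis G.cotangentSpaceBasis
  have : Module.Finite B G.toExtension.CotangentSpace := Module.Finite.of_basis G.cotangentSpaceBasis
  exact finite_projective_of_hom _ _ (G.defaultHom G₀).toExtensionHom (G₀.defaultHom G).toExtensionHom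

/-- The kernel of a surjection between finite projective modules. -/
theorem finite_projective_ker {R M N : Type u} [CommRing R] [AddCommGroup M] [Module R M] [AddCommGroup N]
    [Module R N] [Module.Finite R M] [Module.Projective R M] [Module.Projective R N] (π : M →ₗ[R] N)
    (hπ : Function.Surjective π) :
    Module.Finite R (LinearMap.ker π) ∧ Module.Projective R (LinearMap.ker π) := by
  obtain ⟨σ, hσ⟩ := Module.projective_lifting_property π LinearMap.id hπ
  let r : M →ₗ[R] LinearMap.ker π := (LinearMap.id - σ ∘ₗ π).codRestrict _ fun x => by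
    simp [show π (σ (π x)) = π x from LinearMap.congr_fun hσ (π x)]
  have hr : r ∘ₗ (LinearMap.ker π).subtype = LinearMap.id := by
    ext x
    simp [r, LinearMap.mem_ker.1 x.2]
  exact ⟨Module.Finite.of_surjective r fun x => ⟨x.1, LinearMap.congr_fun hr x⟩,
    Module.Projective.of_split _ r hr⟩

section

variable {R S R' S' : Type u} [CommRing R] [CommRing S] [CommRing R'] [CommRing S'] [Algebra R S]
  [Algebra R' S'] [Algebra R R'] [Algebra S S'] [Algebra R S'] [IsScalarTower R R' S'] [IsScalarTower R S S']

variable (S') in
/-- `H⁻¹` of the tensored complexes along a map of presentations of one algebra. -/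
noncomputable def srcMap {P Q : Extension.{u} R S} (a : P.Hom Q) : NLCx.bcH1 P S' →ₗ[S'] NLCx.bcH1 Q S' :=
  ((Cotangent.map a).baseChange S').restrict fun x hx => by
    have key : Q.cotangentComplex.baseChange S' ∘ₗ (Cotangent.map a).baseChange S' =
        (CotangentSpace.map a).baseChange S' ∘ₗ P.cotangentComplex.baseChange S' := by
      rw [← LinearMap.baseChange_comp, ← LinearMap.baseChange_comp]
      congr 1
      ext y
      exact (CotangentSpace.map_cotangentComplex a y).symm
    have hx' : P.cotangentComplex.baseChange S' x = 0 := hx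
    show Q.cotangentComplex.baseChange S' ((Cotangent.map a).baseChange S' x) = 0
    have := LinearMap.congr_fun key x
    simp only [LinearMap.comp_apply, hx', map_zero] at this
    exact this

theorem srcMap_comp_eq {P Q : Extension.{u} R S} (a : P.Hom Q) (b : Q.Hom P) (x : NLCx.bcH1 P S') :
    srcMap S' b (srcMap S' a x) = x := by
  apply Subtype.ext
  have h : (Cotangent.map b).baseChange S' ∘ₗ (Cotangent.map a).baseChange S' =
      LinearMap.id - ((Extension.Hom.id P).sub (b.comp a)).baseChange S' ∘ₗ P.cotangentComplex.baseChange S' := by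
    rw [← LinearMap.baseChange_comp, ← LinearMap.baseChange_comp, ← LinearMap.baseChange_id,
      ← LinearMap.baseChange_sub]
    congr 1
    have h1 := Cotangent.map_sub_map (Extension.Hom.id P) (b.comp a)
    rw [Cotangent.map_id, Cotangent.map_comp] at h1
    rw [← h1, sub_sub_cancel]
    rfl
  have := LinearMap.congr_fun h x.1
  have hx : P.cotangentComplex.baseChange S' x.1 = 0 := x.2
  simp only [LinearMap.comp_apply, LinearMap.sub_apply, LinearMap.id_apply, hx, map_zero, sub_zero] at this
  exact this

theorem bcH1Map_srcMap {P Q : Extension.{u} R S} {P' : Extension.{u} R' S'} (a : P.Hom Q) (f : Q.Hom P')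
    (x : NLCx.bcH1 P S') : NLCx.bcH1Map f (srcMap S' a x) = NLCx.bcH1Map (f.comp a) x := by
  apply Subtype.ext
  show Groth.FlatmorThree.NL.cotMap f ((Cotangent.map a).baseChange S' x.1) = Groth.FlatmorThree.NL.cotMap (f.comp a) x.1
  induction x.1 using TensorProduct.induction_on with
  | zero => simp
  | tmul c y =>
    simp only [LinearMap.baseChange_tmul, LinearMap.liftBaseChange_tmul]
    congr 1
    exact (LinearMap.congr_fun (Cotangent.map_comp (f := a) (g := f)) y).symm
  | add a b ha hb => simp only [map_add, ha, hb]

theorem h1Map_bcH1Map {P : Extension.{u} R S} {P' P'' : Extension.{u} R' S'} (f : P.Hom P') (g : P'.Hom P'')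
    (x : NLCx.bcH1 P S') : H1Cotangent.map g (NLCx.bcH1Map f x) = NLCx.bcH1Map (g.comp f) x := by
  apply Subtype.ext
  show Cotangent.map g (Groth.FlatmorThree.NL.cotMap f x.1) = Groth.FlatmorThree.NL.cotMap (g.comp f) x.1
  induction x.1 using TensorProduct.induction_on with
  | zero => simp
  | tmul c y =>
    simp only [LinearMap.liftBaseChange_tmul, map_smul]
    congr 1
    exact (LinearMap.congr_fun (Cotangent.map_comp (f := f) (g := g)) y).symm
  | add a b ha hb => simp only [map_add, ha, hb]

end

/-- Let A → B and A → A' be ring homomorphisms and B' an algebra over A' and over B making the square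
cocartesian, B' = B ⊗_A A'. If A → B and A' → B' are both local complete intersection homomorphisms
(of finite type, with Koszul-regular kernel for a polynomial presentation), then the kernel of the
canonical map H^{-1}(NL_{B/A} ⊗_B B') → H^{-1}(NL_{B'/A'}) (presentations on all elements) is a
finite projective B'-module. -/
theorem result (A B A' B' : Type u) [CommRing A] [CommRing B]
    [CommRing A'] [CommRing B'] [Algebra A B] [Algebra A' B'] [Algebra A A'] [Algebra B B'] [Algebra A B']
    [IsScalarTower A A' B'] [IsScalarTower A B B'] [Algebra.IsPushout A A' B B']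
    (hB : LCI.IsLCI A B) (hB' : LCI.IsLCI A' B') :
    Module.Finite B' (LinearMap.ker (NLCx.bcH1Map
        ((Algebra.Generators.self A B).defaultHom (Algebra.Generators.self A' B')).toExtensionHom)) ∧
      Module.Projective B' (LinearMap.ker (NLCx.bcH1Map
        ((Algebra.Generators.self A B).defaultHom (Algebra.Generators.self A' B')).toExtensionHom)) := by
  obtain ⟨-, n, φ, hφ, -⟩ := id hB
  let ι := ULift.{u} (Fin n)
  let ψ : MvPolynomial ι A →ₐ[A] B := φ.comp (MvPolynomial.renameEquiv A Equiv.ulift).toAlgHom
  have hψ : Function.Surjective ψ := hφ.comp (MvPolynomial.renameEquiv A Equiv.ulift).surjective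
  have hψ' : MvPolynomial.aeval (fun i => ψ (MvPolynomial.X i)) = ψ := (MvPolynomial.aeval_unique ψ).symm
  let G : Generators A B ι := Generators.ofSurjective (fun i => ψ (MvPolynomial.X i)) (by rw [hψ']; exact hψ)
  have hv : Function.Surjective (MvPolynomial.aeval (R := A') fun i => algebraMap B B' (G.val i)) := by
    intro y
    refine IsBaseChange.inductionOn (Algebra.IsPushout.out (R := A) (S := A') (R' := B) (S' := B')) y
      (fun z => ∃ p, MvPolynomial.aeval (R := A') (fun i => algebraMap B B' (G.val i)) p = z)
      ⟨0, map_zero _⟩ ?_ ?_ ?_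
    · intro s
      refine ⟨MvPolynomial.map (algebraMap A A') (G.σ s), ?_⟩
      rw [MvPolynomial.aeval_map_algebraMap]
      exact (MvPolynomial.aeval_algebraMap_apply G.val (B := B') (G.σ s)).trans (by rw [G.aeval_val_σ]; rfl)
    · rintro r z ⟨p, rfl⟩
      exact ⟨r • p, map_smul _ _ _⟩
    · rintro z w ⟨p, rfl⟩ ⟨q, rfl⟩
      exact ⟨p + q, map_add _ _ _⟩
  let G' : Generators A' B' ι := Generators.ofSurjective (fun i => algebraMap B B' (G.val i)) hv
  have h : ∀ i, G'.val i = algebraMap B B' (G.val i) := fun i => rfl
  let f₀ := (NLCx.sameVarsHom G G' h).toExtensionHom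
  obtain ⟨_, _⟩ := finite_projective_of_isLCI hB G
  obtain ⟨_, _⟩ := finite_projective_of_isLCI hB' G'
  obtain ⟨hfin, hproj⟩ := finite_projective_ker (Groth.FlatmorThree.NL.cotMap f₀)
    (cotMap_surjective G G' h)
  let a := (G.defaultHom (Generators.self A B)).toExtensionHom
  let b := ((Generators.self A B).defaultHom G).toExtensionHom
  let a' := (G'.defaultHom (Generators.self A' B')).toExtensionHom
  let b' := ((Generators.self A' B').defaultHom G').toExtensionHom
  let F := ((Generators.self A B).defaultHom (Generators.self A' B')).toExtensionHom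
  have hsq : ∀ x, NLCx.bcH1Map F (srcMap B' a x) = H1Cotangent.map a' (NLCx.bcH1Map f₀ x) := fun x => by
    rw [bcH1Map_srcMap, h1Map_bcH1Map, bcH1Map_congr A B A' B' (F.comp a) (a'.comp f₀)]
  have hinj : Function.Injective (H1Cotangent.map a') := fun x y hxy => (H1Cotangent.equiv a' b').injective hxy
  have hmem : ∀ x : NLCx.bcH1 G.toExtension B', srcMap B' a x ∈ LinearMap.ker (NLCx.bcH1Map F) ↔
      x.1 ∈ LinearMap.ker (Groth.FlatmorThree.NL.cotMap f₀) := fun x => by
    rw [LinearMap.mem_ker, LinearMap.mem_ker, hsq, map_eq_zero_iff _ hinj]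
    exact Subtype.ext_iff
  have hker : ∀ x ∈ LinearMap.ker (Groth.FlatmorThree.NL.cotMap f₀), x ∈ NLCx.bcH1 G.toExtension B' := fun x hx => by
    show G.toExtension.cotangentComplex.baseChange B' x = 0
    apply (spaceMap_bijective G G' h).1
    rw [spaceMap_cotMap, LinearMap.mem_ker.1 hx, map_zero, map_zero]
  let e : LinearMap.ker (Groth.FlatmorThree.NL.cotMap f₀) →ₗ[B'] LinearMap.ker (NLCx.bcH1Map F) :=
    ((srcMap B' a).comp ((LinearMap.ker (Groth.FlatmorThree.NL.cotMap f₀)).subtype.codRestrict
      (NLCx.bcH1 G.toExtension B') fun x => hker x.1 x.2)).codRestrict _ fun x => (hmem _).2 x.2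
  have he : Function.Bijective e := by
    constructor
    · intro x y hxy
      have h1 := congrArg (fun z => srcMap B' b z.1) hxy
      simp only [e, LinearMap.codRestrict_apply, LinearMap.comp_apply, srcMap_comp_eq] at h1
      exact Subtype.ext (congrArg (fun z => z.1) h1)
    · intro y
      have h2 : srcMap B' a (srcMap B' b y.1) = y.1 := srcMap_comp_eq b a y.1
      refine ⟨⟨(srcMap B' b y.1).1, (hmem _).1 (h2.symm ▸ y.2)⟩, Subtype.ext ?_⟩
      exact h2
  exact ⟨Module.Finite.equiv (LinearEquiv.ofBijective e he), Module.Projective.of_equiv' (LinearEquiv.ofBijective e he)⟩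

end Groth.Agent.S7223
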