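import Groth.Statements.S7225
import Groth.Agent.FlatmorThree.NLSelf
import Mathlib.RingTheory.Localization.BaseChange
import Mathlib.RingTheory.Flat.Localization
-- import your own Groth.Agent.* helpers here

set_option autoImplicit false
universe u
open CategoryTheory CategoryTheory.Limits TensorProduct
attribute [local instance] HasDerivedCategory.standard
open FlatMor

namespace Groth.Agent.S7225

/-- Let A be a ring, M a submonoid of A, A' a localization of A at M and B an A'-algebra, viewed also as
an A-algebra. Let G be a presentation of B over A by a polynomial algebra and G' the presentation of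
B over A' with the same generators (G'(i) = G(i), written through the identity algebra map of B).
Then the canonical chain map NL(G) → NL(G') from the naive cotangent complex of the presentation
over A to that of the presentation over A' is an isomorphism of complexes (so that NL_{B/A} →
NL_{B/A'} is a homotopy equivalence). -/
theorem result (A A' B : Type u) [CommRing A] [CommRing A'] [CommRing B]
    [Algebra A A'] (M : Submonoid A) [IsLocalization M A'] [Algebra A' B] [Algebra A B] [IsScalarTower A A' B]
    {ι : Type u} (G : Algebra.Generators A B ι) (G' : Algebra.Generators A' B ι) (h : ∀ i, G'.val i = algebraMap B B (G.val i)) :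
    IsIso (NLCx.map (NLCx.sameVarsHom (S' := B) G G' h).toExtensionHom) := by
  have : Module.Flat A A' := IsLocalization.flat A' M
  have : Algebra.IsPushout A A' B B := by
    refine Algebra.IsPushout.symm ?_
    rw [← Algebra.isLocalization_iff_isPushout M A' (T := B) (B := B)]
    exact IsLocalization.self (by
      rintro x ⟨m, hm, rfl⟩
      show IsUnit (algebraMap A B m)
      rw [IsScalarTower.algebraMap_apply A A' B]
      exact (IsLocalization.map_units A' ⟨m, hm⟩).map _)
  set f := (NLCx.sameVarsHom (S' := B) G G' h).toExtensionHom
  have e₀ : ∀ x, Algebra.Extension.Cotangent.map f x =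
      Groth.FlatmorThree.NL.cotMap f ((TensorProduct.lid B _).symm x) := fun x => by simp
  have e₁ : ∀ x, Algebra.Extension.CotangentSpace.map f x =
      Groth.FlatmorThree.NL.spaceMap f ((TensorProduct.lid B _).symm x) := fun x => by simp
  refine Groth.FlatmorThree.NL.map_isIso f ?_ ?_
  · rw [funext e₀]
    exact (Function.Bijective.comp ⟨Groth.FlatmorThree.NL.cotMap_injective G G' h,
      Groth.FlatmorThree.NL.cotMap_surjective G G' h⟩ (TensorProduct.lid B _).symm.bijective)
  · rw [funext e₁]
    exact (Groth.FlatmorThree.NL.spaceMap_bijective G G' h).comp (TensorProduct.lid B _).symm.bijective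

end Groth.Agent.S7225
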