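import Groth.Agent.RelPC.Fppf
import Groth.Agent.RelPC.Comp
import Groth.Statements.S7227
-- import your own Groth.Agent.* helpers here

set_option autoImplicit false
universe u
open CategoryTheory CategoryTheory.Limits AlgebraicGeometry Opposite TopologicalSpace
attribute [local instance] HasDerivedCategory.standard
open FlatMor

namespace Groth.Agent.S7227

/-- Let p : X ⟶ S be locally of finite type and let (g_i : X_i ⟶ X) be an fppf covering: every g_i is
flat and locally of finite presentation and the g_i are jointly surjective. Let E be an object of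
D(O_X) with quasi-coherent cohomology sheaves and m an integer. Then, the derived pullbacks Lg_i^*
being assumed to exist, E is m-pseudo-coherent relative to p if and only if for every i the object
Lg_i^* E is m-pseudo-coherent relative to g_i ≫ p : X_i ⟶ S (chart form). -/
theorem result {X S : Scheme.{u}} (p : X ⟶ S)
    [LocallyOfFiniteType p] {ι : Type u} (Xi : ι → Scheme.{u}) (g : ∀ i, Xi i ⟶ X) [∀ i, Flat (g i)]
    [∀ i, LocallyOfFinitePresentation (g i)] (hcov : ∀ x : X, ∃ (i : ι) (y : Xi i), (g i).base y = x)
    [∀ i, DCoh.HasLpull (g i)] (m : ℤ) (E : DCoh.D X) (hE : DCoh.IsQCohD E) :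
    DerSch.IsPseudoCoherentRel p m E ↔
      ∀ i, DerSch.IsPseudoCoherentRel (g i ≫ p) m ((DCoh.Lpull (g i)).obj E) := by
  refine ⟨fun h i => Groth.RelPC.rel_Lpull (g i) (Groth.PCohHom.morPC_of_flat_lfp _) p hE h,
    fun h => Groth.RelPC.rel_of_fppf Xi g hcov p hE h⟩

end Groth.Agent.S7227
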