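import Groth.Agent.RelPC.Fppf
import Groth.Agent.RelPC.Comp
import Groth.Statements.S7228
-- import your own Groth.Agent.* helpers here

set_option autoImplicit false
universe u
open CategoryTheory CategoryTheory.Limits AlgebraicGeometry Opposite TopologicalSpace
attribute [local instance] HasDerivedCategory.standard
open FlatMor

namespace Groth.Agent.S7228

/-- Let f : X ⟶ S be locally of finite type and let (h_i : S_i ⟶ S) be an fppf covering of the base:
every h_i is flat and locally of finite presentation and the h_i are jointly surjective. Write X_i =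
X ×_S S_i with projections g_i : X_i ⟶ X and f_i : X_i ⟶ S_i, let E be an object of D(O_X) with
quasi-coherent cohomology sheaves, and let m be an integer. Then, the derived pullbacks Lg_i^* being
assumed to exist, E is m-pseudo-coherent relative to f if and only if for every i the object Lg_i^*
E is m-pseudo-coherent relative to f_i (chart form). -/
theorem result {X S : Scheme.{u}} (f : X ⟶ S)
    [LocallyOfFiniteType f] {ι : Type u} (Si : ι → Scheme.{u}) (h : ∀ i, Si i ⟶ S) [∀ i, Flat (h i)]
    [∀ i, LocallyOfFinitePresentation (h i)] (hcov : ∀ s : S, ∃ (i : ι) (t : Si i), (h i).base t = s)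
    [∀ i, DCoh.HasLpull (pullback.fst f (h i))] (m : ℤ) (E : DCoh.D X) (hE : DCoh.IsQCohD E) :
    DerSch.IsPseudoCoherentRel f m E ↔
      ∀ i, DerSch.IsPseudoCoherentRel (pullback.snd f (h i)) m ((DCoh.Lpull (pullback.fst f (h i))).obj E) := by
  haveI : ∀ i, Flat (pullback.fst f (h i)) := fun i => MorphismProperty.pullback_fst _ _ inferInstance
  haveI : ∀ i, LocallyOfFinitePresentation (pullback.fst f (h i)) := fun i =>
    MorphismProperty.pullback_fst _ _ inferInstance
  haveI : ∀ i, LocallyOfFiniteType (pullback.snd f (h i)) := fun i =>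
    MorphismProperty.pullback_snd _ _ inferInstance
  have key : ∀ i, DerSch.IsPseudoCoherentRel (pullback.snd f (h i)) m ((DCoh.Lpull (pullback.fst f (h i))).obj E) ↔
      DerSch.IsPseudoCoherentRel (pullback.fst f (h i) ≫ f) m ((DCoh.Lpull (pullback.fst f (h i))).obj E) := fun i => by
    rw [pullback.condition, Groth.RelPC.rel_trans_iff (pullback.snd f (h i)) (h i)
      (Groth.RelPC.pcMor_of_flat_lfp (h i))]
  simp only [key]
  refine ⟨fun hh i => Groth.RelPC.rel_Lpull _ (Groth.PCohHom.morPC_of_flat_lfp _) f hE hh,
    fun hh => Groth.RelPC.rel_of_fppf _ (fun i => pullback.fst f (h i)) (fun x => ?_) f hE hh⟩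
  obtain ⟨i, t, ht⟩ := hcov (f x)
  obtain ⟨z, hz, -⟩ := Scheme.Pullback.exists_preimage_pullback x t ht.symm
  exact ⟨i, z, hz⟩

end Groth.Agent.S7228
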