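import Groth.Statements.S7229
import Groth.Agent.RelPC.PnPush.RelPCTest
import Groth.Agent.RelPC.Open

set_option autoImplicit false
set_option linter.style.haveILetI false
universe u
open CategoryTheory CategoryTheory.Limits AlgebraicGeometry Opposite TopologicalSpace
attribute [local instance] HasDerivedCategory.standard
open FlatMor

namespace Groth.Agent.S7229

/-- Let A be a ring and X a scheme separated and of finite presentation over A, with structure morphism
π : X ⟶ Spec A. Let K be a cochain complex of O_X-modules whose class in D(O_X) has quasi-coherent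
cohomology sheaves. Assume, the functors Rπ_* and - ⊗^L K being taken to exist, that for every
perfect object E of D(O_X) the object Rπ_*(E ⊗^L K) is pseudo-coherent on Spec A (m-pseudo-coherent
for every m). Then the class of K is pseudo-coherent relative to π: m-pseudo-coherent relative to π
for every integer m, in chart form. (The published statement asks RΓ(X, E ⊗^L K) to be
pseudo-coherent in D(A); on the affine scheme Spec A the two formulations correspond under the
equivalence of D(A) with the quasi-coherent derived category.) -/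
theorem result (A : Type u) [CommRing A] {X : Scheme.{u}}
    (π : X ⟶ Spec (CommRingCat.of A)) [IsSeparated π] [QuasiCompact π] [LocallyOfFinitePresentation π]
    [DCoh.HasRpush π] (K : CochainComplex X.Modules ℤ) [DCoh.HasLTensorCx K]
    (hK : DCoh.IsQCohD (DCoh.toD X K))
    (h : ∀ E : DCoh.D X, DCoh.IsPerfect E →
      ∀ m : ℤ, DCoh.IsPseudoCoherentD m ((DCoh.Rpush π).obj ((DCoh.LTensorCx K).obj E))) :
    DerSch.IsPseudoCoherentRelAll π (DCoh.toD X K) := by
  let P := (Groth.DerivedCoh.KFlat.flatResolution X).obj K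
  have hP := Groth.DerivedCoh.KFlat.flatResolution_isKFlat K
  haveI := Groth.DerivedCoh.KFlat.hasLTensorCx_of_isKFlat P hP
  haveI := Groth.DerivedCoh.KFlat.flatResolution_quasiIso K
  let eK : DCoh.toD X P ≅ DCoh.toD X K :=
    Groth.DerivedCoh.PerfPush.qIso ((Groth.DerivedCoh.KFlat.flatResolutionAug X).app K)
  have hP' : ∀ E : DCoh.D X, DCoh.IsPerfect E →
      ∀ m : ℤ, DCoh.IsPseudoCoherentD m ((DCoh.Rpush π).obj ((DCoh.LTensorCx P).obj E)) := fun E hE m => by
    obtain ⟨a⟩ := Groth.Misc4.ProjQCoh.nonempty_ltcx_resolution K E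
    exact Groth.DerivedCoh.PCoh.isPseudoCoherentD_of_iso ((DCoh.Rpush π).mapIso a) (h E hE m)
  intro m
  refine Groth.RelPC.rel_of_cover π (fun U : X.affineOpens => (U : X.Opens)) (iSup_affineOpens_eq_top X)
    fun U => ?_
  have hft : (π.appLE ⊤ U le_top).hom.FiniteType :=
    π.finiteType_appLE (isAffineOpen_top _) U.2 le_top
  obtain ⟨n, φ, hφ⟩ := Groth.RelPC.exists_chart (f := π) (U := (U : X.Opens)) (V := ⊤) le_top hft
  let φ' : MvPolynomial (Fin n) A →+* Γ(X, (U : X.Opens)) :=
    φ.comp (MvPolynomial.map (Scheme.ΓSpecIso (CommRingCat.of A)).inv.hom)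
  have hφ' : Function.Surjective φ' := hφ.1.comp
    (MvPolynomial.map_surjective _ ((Scheme.ΓSpecIso (CommRingCat.of A)).commRingCatIsoToRingEquiv.symm.surjective))
  let c := (U : X.Opens).toSpecΓ ≫ Spec.map (CommRingCat.ofHom φ')
  haveI : IsClosedImmersion c := Groth.RelPC.isClosedImmersion_chartImm U.2 φ' hφ'
  have hc : c ≫ Spec.map (CommRingCat.ofHom (MvPolynomial.C : A →+* MvPolynomial (Fin n) A)) =
      (U : X.Opens).ι ≫ π := by
    have hC : φ'.comp MvPolynomial.C =
        ((Scheme.ΓSpecIso (CommRingCat.of A)).inv ≫ π.appLE ⊤ U le_top).hom := by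
      rw [RingHom.comp_assoc, MvPolynomial.map_comp_C, ← RingHom.comp_assoc, hφ.2]
      rfl
    rw [Category.assoc, ← Spec.map_comp, ← CommRingCat.ofHom_comp, hC, CommRingCat.ofHom_hom, Spec.map_comp,
      show Spec.map (Scheme.ΓSpecIso (CommRingCat.of A)).inv = (isAffineOpen_top (Spec (CommRingCat.of A))).fromSpec by
        rw [IsAffineOpen.fromSpec_top, Scheme.isoSpec_Spec_inv]]
    erw [IsAffineOpen.SpecMap_appLE_fromSpec π (isAffineOpen_top _) U.2 le_top, ← U.2.isoSpec_hom_fromSpec,
      U.2.isoSpec_hom, Category.assoc]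
  haveI : Flat (Spec.map (CommRingCat.ofHom (MvPolynomial.C : A →+* MvPolynomial (Fin n) A))) :=
    haveI := Groth.RelPC.PnPush.smooth_affineSpace A n
    inferInstance
  haveI := Groth.RelPC.PnPush.smooth_affineSpace A n
  rw [← hc]
  refine (Groth.RelPC.rel_closed_iff c _ (Groth.RelPC.pcMor_of_flat_lfp _) m _).2 ?_
  exact Groth.DerivedCoh.PCoh.isPseudoCoherentD_of_iso
    ((Groth.RelPC.Pd c).mapIso ((Groth.KTheory.Perf.Rd (U : X.Opens).ι).mapIso eK))
    (Groth.RelPC.PnPush.pcD_pd_chart π P hP (Groth.Misc4.QCohDPerf.isQCohD_of_iso eK.symm hK) hP' n U c hc m)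

end Groth.Agent.S7229
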