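import Groth.Statements.S7230
import Groth.Agent.RelPC.PnPush.RelPerfTest
import Groth.Agent.S7229
import Groth.Agent.DerivedCoh.RelAmp

set_option autoImplicit false
set_option linter.style.haveILetI false
universe u
open CategoryTheory CategoryTheory.Limits AlgebraicGeometry Opposite TopologicalSpace
attribute [local instance] HasDerivedCategory.standard
open FlatMor

namespace Groth.Agent.S7230

/-- Let A be a ring and X a scheme separated, of finite presentation and flat over A, with structure
morphism π : X ⟶ Spec A. Let K be a cochain complex of O_X-modules whose class in D(O_X) has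
quasi-coherent cohomology sheaves. Assume, the functors Rπ_* and - ⊗^L K being taken to exist, that
for every perfect object E of D(O_X) the object Rπ_*(E ⊗^L K) of D(O_{Spec A}) is perfect. Then K is
perfect relative to Spec A: its class is pseudo-coherent on X in the absolute sense
(m-pseudo-coherent for every m) and, locally on X, every representing complex has finite tor
amplitude stalkwise over the local rings of Spec A. (The published statement asks RΓ(X, E ⊗^L K) to
be perfect in D(A); on Spec A the two formulations correspond under the equivalence of D(A) with the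
quasi-coherent derived category.) -/
theorem result (A : Type u) [CommRing A]
    {X : Scheme.{u}} (π : X ⟶ Spec (CommRingCat.of A)) [IsSeparated π] [QuasiCompact π]
    [LocallyOfFinitePresentation π] [Flat π] [DCoh.HasRpush π] (K : CochainComplex X.Modules ℤ)
    [DCoh.HasLTensorCx K] (hK : DCoh.IsQCohD (DCoh.toD X K))
    (h : ∀ E : DCoh.D X, DCoh.IsPerfect E → DCoh.IsPerfect ((DCoh.Rpush π).obj ((DCoh.LTensorCx K).obj E))) :
    (∀ m : ℤ, DCoh.IsPseudoCoherentD m (DCoh.toD X K)) ∧ DerSch.LocFiniteTorAmplitudeD π (DCoh.toD X K) := by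
  have hrel : DerSch.IsPseudoCoherentRelAll π (DCoh.toD X K) :=
    Groth.Agent.S7229.result A π K hK fun E hE m =>
      Groth.DerivedCoh.PCoh.isPseudoCoherentD_of_isPerfect (h E hE) m
  refine ⟨fun m => (Groth.RelPC.rel_abs_iff π (Groth.RelPC.pcMor_of_flat_lfp π) m _).1 (hrel m), ?_⟩
  let P := (Groth.DerivedCoh.KFlat.flatResolution X).obj K
  have hP := Groth.DerivedCoh.KFlat.flatResolution_isKFlat K
  haveI := Groth.DerivedCoh.KFlat.hasLTensorCx_of_isKFlat P hP
  haveI := Groth.DerivedCoh.KFlat.flatResolution_quasiIso K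
  let eK : DCoh.toD X P ≅ DCoh.toD X K :=
    Groth.DerivedCoh.PerfPush.qIso ((Groth.DerivedCoh.KFlat.flatResolutionAug X).app K)
  have hP' : ∀ E : DCoh.D X, DCoh.IsPerfect E →
      DCoh.IsPerfect ((DCoh.Rpush π).obj ((DCoh.LTensorCx P).obj E)) := fun E hE => by
    obtain ⟨a⟩ := Groth.Misc4.ProjQCoh.nonempty_ltcx_resolution K E
    exact Groth.KTheory.Perf.isPerfect_of_iso ((DCoh.Rpush π).mapIso a) (h E hE)
  have hamp : Groth.DerivedCoh.RelAmp.LocAmp π (DCoh.toD X P) := fun x => by
    obtain ⟨U, hU, hxU, -⟩ := exists_isAffineOpen_mem_and_subset (U := (⊤ : X.Opens)) (x := x) trivial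
    have hft : (π.appLE ⊤ U le_top).hom.FiniteType := π.finiteType_appLE (isAffineOpen_top _) hU le_top
    obtain ⟨n, φ, hφ⟩ := Groth.RelPC.exists_chart (f := π) (U := U) (V := ⊤) le_top hft
    let φ' : MvPolynomial (Fin n) A →+* Γ(X, U) :=
      φ.comp (MvPolynomial.map (Scheme.ΓSpecIso (CommRingCat.of A)).inv.hom)
    have hφ' : Function.Surjective φ' := hφ.1.comp
      (MvPolynomial.map_surjective _ ((Scheme.ΓSpecIso (CommRingCat.of A)).commRingCatIsoToRingEquiv.symm.surjective))
    let c := U.toSpecΓ ≫ Spec.map (CommRingCat.ofHom φ')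
    haveI : IsClosedImmersion c := Groth.RelPC.isClosedImmersion_chartImm hU φ' hφ'
    have hc : c ≫ Spec.map (CommRingCat.ofHom (MvPolynomial.C : A →+* MvPolynomial (Fin n) A)) = U.ι ≫ π := by
      have hC : φ'.comp MvPolynomial.C =
          ((Scheme.ΓSpecIso (CommRingCat.of A)).inv ≫ π.appLE ⊤ U le_top).hom := by
        rw [RingHom.comp_assoc, MvPolynomial.map_comp_C, ← RingHom.comp_assoc, hφ.2]
        rfl
      rw [Category.assoc, ← Spec.map_comp, ← CommRingCat.ofHom_comp, hC, CommRingCat.ofHom_hom, Spec.map_comp,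
        show Spec.map (Scheme.ΓSpecIso (CommRingCat.of A)).inv = (isAffineOpen_top (Spec (CommRingCat.of A))).fromSpec by
          rw [IsAffineOpen.fromSpec_top, Scheme.isoSpec_Spec_inv]]
      erw [IsAffineOpen.SpecMap_appLE_fromSpec π (isAffineOpen_top _) hU le_top, ← hU.isoSpec_hom_fromSpec,
        hU.isoSpec_hom, Category.assoc]
    haveI := Groth.RelPC.PnPush.smooth_affineSpace A n
    have hperf := Groth.RelPC.PnPush.isPerfect_pd_chart π P hP
      (Groth.Misc4.QCohDPerf.isQCohD_of_iso eK.symm hK) hP' n U c hc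
    let G := (Groth.KTheory.Perf.Rc U.ι).obj P
    have hG := ((Groth.Agent.S6217.result c (Spec.map (CommRingCat.ofHom (MvPolynomial.C : A →+* MvPolynomial (Fin n) A))) G).2 (Groth.KTheory.Perf.isPerfect_of_iso
      ((Groth.RelPC.Pd c).mapIso (Groth.KTheory.Perf.rdQIso U.ι P) ≪≫ Groth.RelPC.pdQIso c G) hperf)).2
    rw [hc] at hG
    obtain ⟨V, a, b, hxV, hV⟩ := (Groth.DerivedCoh.RelAmp.locFiniteTorAmplitude_iff (f := U.ι ≫ π) G).1 hG ⟨x, hxU⟩
    refine ⟨U.ι ''ᵁ V, a, b, ⟨⟨x, hxU⟩, hxV, rfl⟩, ?_⟩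
    rintro _ ⟨y, hy, rfl⟩
    exact (Groth.DerivedCoh.RelAmp.ampAt_rd_iff U.ι y π (DCoh.toD X P) a b).1
      ((hV y hy).of_iso (Groth.KTheory.Perf.rdQIso U.ι P).symm)
  intro F hF
  exact (Groth.DerivedCoh.RelAmp.locFiniteTorAmplitude_iff F).2 (hamp.of_iso (eK ≪≫ hF.some.symm))

end Groth.Agent.S7230
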