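import Groth.Statements.S7232
import Groth.Agent.DerivedCoh.RelAmp.ThickPC
import Groth.Agent.DerivedCoh.RelAmp.Basic
import Groth.Agent.FlatMor2.NilBaseChange

set_option autoImplicit false
universe u
open CategoryTheory CategoryTheory.Limits AlgebraicGeometry Opposite TopologicalSpace
attribute [local instance] HasDerivedCategory.standard
open FlatMor

namespace Groth.Agent.S7232

/-- Consider a cartesian square of schemes with sides f : X ⟶ Y, f' : X' ⟶ Y', i : X ⟶ X' and j : Y ⟶ Y'
(so i ≫ f' = f ≫ j and X = X' ×_{Y'} Y), where f' is flat and locally of finite presentation and j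
is a finite order thickening. Let E' be an object of D(O_{X'}) and assume the derived pullback Li^*
exists. Suppose Li^* E' is perfect relative to Y: it is represented by a cochain complex whose class
is pseudo-coherent and which, locally on X, has finite tor amplitude stalkwise over the local rings
of Y. Then E' is perfect relative to Y': it is pseudo-coherent and, locally on X', every cochain
complex representing it has finite tor amplitude stalkwise over the local rings of Y'. -/
theorem result {X X' Y Y' : Scheme.{u}} (f : X ⟶ Y) (f' : X' ⟶ Y')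
    (i : X ⟶ X') (j : Y ⟶ Y') (sq : IsPullback i f f' j) [Flat f'] [LocallyOfFinitePresentation f']
    (hj : MoreMor.IsFiniteOrderThickening j) [DCoh.HasLpull i] (E' : DCoh.D X')
    (hE : ∃ F : CochainComplex X.Modules ℤ, Nonempty (DCoh.toD X F ≅ (DCoh.Lpull i).obj E') ∧
      (∀ m : ℤ, DCoh.IsPseudoCoherentD m (DCoh.toD X F)) ∧ DerSch.LocFiniteTorAmplitude f F) :
    (∀ m : ℤ, DCoh.IsPseudoCoherentD m E') ∧ DerSch.LocFiniteTorAmplitudeD f' E' := by
  open Groth.DerivedCoh in
  have hi : MoreMor.IsFiniteOrderThickening i :=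
    Groth.FlatMor2.isFiniteOrderThickening_of_isPullback hj sq
  obtain ⟨⟨hic, his⟩, hin⟩ := hi
  obtain ⟨⟨hjc, -⟩, hjn⟩ := hj
  obtain ⟨F, ⟨e⟩, hFpc, hFamp⟩ := hE
  refine ⟨fun m => Groth.DerivedCoh.RelAmp.pcoh_of_thickening i
    (fun y => Groth.DerivedCoh.RelAmp.isNilpotent_ker_stalkMap i hin y) E' m
    (Groth.DerivedCoh.PCoh.isPseudoCoherentD_of_iso e (hFpc m)), fun G ⟨eG⟩ x' => ?_⟩
  let P := (Groth.DerivedCoh.KFlat.flatResolution X').obj G
  have hP := Groth.DerivedCoh.KFlat.flatResolution_isKFlat G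
  have := Groth.DerivedCoh.KFlat.flatResolution_quasiIso G
  let eP : DCoh.toD X' P ≅ DCoh.toD X' G :=
    asIso (DerivedCategory.Q.map ((Groth.DerivedCoh.KFlat.flatResolutionAug X').app G))
  let eF : DCoh.toD X F ≅ DCoh.toD X ((Groth.DerivedCoh.KFlat.pullCx i).obj P) :=
    e ≪≫ (DCoh.Lpull i).mapIso (eP ≪≫ eG).symm ≪≫ Groth.DerivedCoh.KFlat.lpullQIso i P hP
  obtain ⟨x, rfl⟩ := i.surjective x'
  obtain ⟨V, a, b, hx, hV⟩ := hFamp x
  refine ⟨⟨i.base '' V, (i.isClosedMap.isQuotientMap i.continuous i.surjective).isOpen_preimage.1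
    (by rw [Set.preimage_image_eq _ i.isClosedEmbedding.injective]; exact V.2)⟩, a, b, ⟨x, hx, rfl⟩,
    fun z' hz' => ?_⟩
  obtain ⟨z, hz, rfl⟩ := hz'
  exact Groth.DerivedCoh.RelAmp.hasTorAmplitudeAt_of_iso f' (i z) eP
    (Groth.DerivedCoh.RelAmp.hasTorAmplitudeAt_of_thickening sq hjn P hP z
      (Groth.DerivedCoh.RelAmp.hasTorAmplitudeAt_of_iso f z eF (hV z hz)))

end Groth.Agent.S7232
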