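import Groth.Statements.S7233
import Groth.Agent.DerivedCoh.RelAmp.JacFibre
import Groth.Agent.DerivedCoh.RelAmp.Restrict
import Groth.Agent.DerivedCoh.RelPerfectBC
import Groth.Agent.S1055
import Groth.Agent.S0997
import Groth.Agent.DerivedCoh.TildeD.Iff
import Groth.Agent.DerivedCoh.PCohDescent.Main

set_option autoImplicit false
set_option linter.style.haveILetI false
open scoped TensorProduct
universe u
open CategoryTheory CategoryTheory.Limits AlgebraicGeometry Opposite TopologicalSpace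
attribute [local instance] HasDerivedCategory.standard
open FlatMor

namespace Groth.Agent.S7233

/-- Let R be a ring and I an ideal of R contained in the Jacobson radical of R. Let f : X ⟶ Spec R be
proper, flat and of finite presentation, and let X₀ = X ×_{Spec R} Spec(R/I) with projections i : X₀
⟶ X and f₀ : X₀ ⟶ Spec(R/I). Let E be a pseudo-coherent object of D(O_X) (m-pseudo-coherent for
every m) and assume the derived pullback Li^* exists. Suppose Li^* E is perfect relative to
Spec(R/I): it is represented by a cochain complex whose class is pseudo-coherent and which, locally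
on X₀, has finite tor amplitude stalkwise over the local rings of Spec(R/I). Then E is perfect
relative to Spec R: locally on X, every cochain complex representing E has finite tor amplitude
stalkwise over the local rings of Spec R. -/
theorem result (R : Type u) [CommRing R] (I : Ideal R)
    (hI : I ≤ Ideal.jacobson ⊥) {X : Scheme.{u}} (f : X ⟶ Spec (CommRingCat.of R)) [IsProper f] [Flat f]
    [LocallyOfFinitePresentation f]
    [DCoh.HasLpull (pullback.fst f (Spec.map (CommRingCat.ofHom (Ideal.Quotient.mk I))))]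
    (E : DCoh.D X) (hpc : ∀ m : ℤ, DCoh.IsPseudoCoherentD m E)
    (h₀ : ∃ F₀ : CochainComplex (pullback f (Spec.map (CommRingCat.ofHom (Ideal.Quotient.mk I)))).Modules ℤ,
      Nonempty (DCoh.toD _ F₀ ≅ (DCoh.Lpull (pullback.fst f (Spec.map (CommRingCat.ofHom (Ideal.Quotient.mk I))))).obj E) ∧
        (∀ m : ℤ, DCoh.IsPseudoCoherentD m (DCoh.toD _ F₀)) ∧
        DerSch.LocFiniteTorAmplitude (pullback.snd f (Spec.map (CommRingCat.ofHom (Ideal.Quotient.mk I)))) F₀) :
    DerSch.LocFiniteTorAmplitudeD f E := by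
  open Groth.DerivedCoh in
  let R₀ := R ⧸ I
  let j := Spec.map (CommRingCat.ofHom (Ideal.Quotient.mk I))
  let i := pullback.fst f j
  have : IsClosedImmersion j := IsClosedImmersion.spec_of_surjective _ Ideal.Quotient.mk_surjective
  have : CompactSpace X := QuasiCompact.compactSpace_of_compactSpace f
  have : CompactSpace ↥(pullback f j) := QuasiCompact.compactSpace_of_compactSpace i
  obtain ⟨F₀, ⟨e₀⟩, -, hF₀⟩ := h₀
  -- a uniform interval on the closed fibre
  obtain ⟨a, b, hab⟩ : ∃ a b : ℤ, DerSch.HasTorAmplitude (pullback.snd f j) a b F₀ := by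
    choose V a b hxV hV using hF₀
    obtain ⟨t, ht⟩ := isCompact_univ.elim_finite_subcover (fun x => (V x : Set ↥(pullback f j))) (fun x => (V x).2)
      (fun x _ => Set.mem_iUnion.2 ⟨x, hxV x⟩)
    obtain ⟨lo, hlo⟩ := (t.image a).bddBelow
    obtain ⟨hi, hhi⟩ := (t.image b).bddAbove
    refine ⟨lo, hi, fun y => ?_⟩
    obtain ⟨x, hx, hy⟩ := Set.mem_iUnion₂.1 (ht (Set.mem_univ y))
    exact (RelAmp.ampAt_toD_iff F₀ lo hi y).1 (((RelAmp.ampAt_toD_iff F₀ _ _ y).2 (hV x y hy)).mono
      (hlo (Finset.mem_coe.2 (Finset.mem_image_of_mem a hx)))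
      (hhi (Finset.mem_coe.2 (Finset.mem_image_of_mem b hx))))
  -- on every affine chart, generalizations of the closed fibre have bounded amplitude
  have key : ∀ U : X.affineOpens, ∃ c d : ℤ, ∀ x x' : X, x ∈ U.1 → IsClosed ({x} : Set X) → x' ⤳ x →
      RelAmp.AmpAt f c d E x' := by
    intro U
    obtain ⟨U, hU⟩ := U
    let g := hU.fromSpec
    let φ := Spec.preimage (g ≫ f)
    have hφ : Spec.map φ = g ≫ f := Spec.map_preimage _
    letI : Algebra R Γ(X, U) := φ.hom.toAlgebra
    have hfl : φ.hom.Flat := (HasRingHomProperty.Spec_iff (P := @Flat)).1 (hφ ▸ inferInstance)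
    have hfp : φ.hom.FinitePresentation :=
      (HasRingHomProperty.Spec_iff (P := @LocallyOfFinitePresentation)).1 (hφ ▸ inferInstance)
    haveI : Module.Flat R Γ(X, U) := RingHom.flat_algebraMap_iff.1 hfl
    haveI : Algebra.FinitePresentation R Γ(X, U) := RingHom.finitePresentation_algebraMap.1 hfp
    haveI : PreservesFiniteLimits (tilde.functor Γ(X, U)) := Groth.PropsBasic2.preservesFiniteLimits_tilde _
    letI := Algebra.TensorProduct.rightAlgebra (R := R) (A := R₀) (B := Γ(X, U))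
    let B₀ := R₀ ⊗[R] Γ(X, U)
    haveI : PreservesFiniteLimits (tilde.functor (CommRingCat.of B₀)) := Groth.PropsBasic2.preservesFiniteLimits_tilde _
    obtain ⟨M, ⟨eM⟩⟩ := ((Groth.Agent.S0997.result Γ(X, U)).2.2 _).1
      (Groth.Misc4.QCohDPerf.isQCohD_restrict g (RelPerfectBC.isQCohD_of_pc hpc))
    obtain ⟨K, ⟨eK⟩⟩ : ∃ K : DRing.Cx Γ(X, U), Nonempty (DRing.toD K ≅ M) :=
      ⟨_, ⟨DerivedCategory.Q.objObjPreimageIso M⟩⟩
    have hpcK : DRing.IsPseudoCoherent' Γ(X, U) (DRing.toD K) := by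
      rw [Groth.DAlg.isPseudoCoherent'_iff_forall]
      intro m
      exact TildeD.isPseudoCoherent_congr eK.symm ((TildeD.isPseudoCoherentD_tildeD_iff M m).1
        (PCoh.isPseudoCoherentD_of_iso eM.symm (PCohDescent.pcoh_rd g (hpc m))))
    let s := Spec.map (CommRingCat.ofHom (algebraMap Γ(X, U) B₀))
    let q := Spec.map (CommRingCat.ofHom (algebraMap R₀ B₀))
    have hp : IsPullback s q (g ≫ f) j := by
      rw [← hφ]
      exact isPullback_SpecMap_of_isPushout _ _ _ _ (CommRingCat.isPushout_of_isPushout R Γ(X, U) R₀ B₀)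
    let g₀ : Spec (CommRingCat.of B₀) ⟶ pullback f j := pullback.lift (s ≫ g) q (by rw [Category.assoc]; exact hp.w)
    have H : IsPullback s g₀ g i :=
      IsPullback.of_bot ((pullback.lift_snd _ _ _ : g₀ ≫ pullback.snd f j = q).symm ▸ hp) (pullback.lift_fst _ _ _).symm (IsPullback.of_hasPullback f j)
    haveI : IsOpenImmersion g₀ := MorphismProperty.of_isPullback H inferInstance
    haveI := Groth.DAlg.hasLBaseChange (algebraMap Γ(X, U) B₀)
    haveI := Groth.DerivedCoh.KFlat.hasLpull s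
    obtain ⟨T⟩ := Groth.Agent.S1055.result (algebraMap Γ(X, U) B₀)
    obtain ⟨F, ⟨eF⟩⟩ := Groth.KTheory.Perf.exists_rep E
    let P := (KFlat.flatResolution X).obj F
    have hP := KFlat.flatResolution_isKFlat F
    haveI := KFlat.flatResolution_quasiIso F
    let eP : DCoh.toD X P ≅ E := asIso (DerivedCategory.Q.map ((KFlat.flatResolutionAug X).app F)) ≪≫ eF
    let ν : Scheme.Modules.restrictFunctor g ⋙ Scheme.Modules.pullback s ≅
        Scheme.Modules.pullback i ⋙ Scheme.Modules.restrictFunctor g₀ :=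
      Functor.isoWhiskerRight (Scheme.Modules.restrictFunctorIsoPullback g) _ ≪≫
        Scheme.Modules.pullbackComp _ _ ≪≫ Scheme.Modules.pullbackCongr H.w ≪≫
        (Scheme.Modules.pullbackComp _ _).symm ≪≫
        Functor.isoWhiskerLeft _ (Scheme.Modules.restrictFunctorIsoPullback g₀).symm
    let eν : (KFlat.pullCx s).obj ((Groth.KTheory.Perf.Rc g).obj P) ≅
        (Groth.KTheory.Perf.Rc g₀).obj ((KFlat.pullCx i).obj P) :=
      (Functor.mapHomologicalComplexCompIso (Iso.refl (Scheme.Modules.restrictFunctor g ⋙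
          Scheme.Modules.pullback s)) (ComplexShape.up ℤ)).app P ≪≫
        (NatIso.mapHomologicalComplex ν (ComplexShape.up ℤ)).app P ≪≫
        (Functor.mapHomologicalComplexCompIso (Iso.refl (Scheme.Modules.pullback i ⋙
          Scheme.Modules.restrictFunctor g₀)) (ComplexShape.up ℤ)).symm.app P
    let e : DCoh.toD _ ((Groth.KTheory.Perf.Rc g₀).obj F₀) ≅
        (DCoh.tildeD (CommRingCat.of B₀)).obj ((DRing.LBaseChange (algebraMap Γ(X, U) B₀)).obj (DRing.toD K)) :=
      (Groth.KTheory.Perf.rdQIso g₀ F₀).symm ≪≫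
        (Groth.KTheory.Perf.Rd g₀).mapIso
          (e₀ ≪≫ (DCoh.Lpull i).mapIso eP.symm ≪≫ KFlat.lpullQIso i P hP) ≪≫
        Groth.KTheory.Perf.rdQIso g₀ _ ≪≫ DerivedCategory.Q.mapIso eν.symm ≪≫
        (KFlat.lpullQIso s _ (PCoh.isKFlat_rc g hP)).symm ≪≫
        (DCoh.Lpull s).mapIso ((Groth.KTheory.Perf.rdQIso g P).symm ≪≫
          (Groth.KTheory.Perf.Rd g).mapIso eP ≪≫ eM.symm ≪≫ (DCoh.tildeD _).mapIso eK.symm) ≪≫
        (T.app (DRing.toD K)).symm
    have hamp : DRing.HasTorAmplitudeIn R₀ a b ((DRing.restrictD (algebraMap R₀ B₀)).obj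
        ((DRing.LBaseChange (algebraMap Γ(X, U) B₀)).obj (DRing.toD K))) := by
      refine (RelAmpTilde.hasTorAmplitude_tildeD_iff _ _ _ e a b).1 ?_
      have := RelAmp.hasTorAmplitude_restrict g₀ (pullback.snd f j) F₀ hab
      rwa [show g₀ ≫ pullback.snd f j = q from pullback.lift_snd _ _ _] at this
    obtain ⟨c, d, hcd⟩ := RelAmp.exists_amp_of_fibre (R := R) (B := Γ(X, U)) (R₀ := R₀) (B₀ := B₀)
      Ideal.Quotient.mk_surjective K hpcK a b hamp
    refine ⟨c, d, fun x x' hx hcl hsp => ?_⟩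
    obtain ⟨y, rfl⟩ : ∃ y, g y = x := by
      have : x ∈ Set.range g := by rw [hU.range_fromSpec]; exact hx
      exact this
    obtain ⟨y', rfl⟩ : ∃ y', g y' = x' := by
      have : x' ∈ Set.range g := by rw [hU.range_fromSpec]; exact hsp.mem_open U.2 hx
      exact this
    have hsp' : (y' : PrimeSpectrum Γ(X, U)) ⤳ (y : PrimeSpectrum Γ(X, U)) :=
      g.isOpenEmbedding.isInducing.specializes_iff.1 hsp
    have hmax : (f (g y) : PrimeSpectrum R).asIdeal.IsMaximal := by
      rw [← PrimeSpectrum.isClosed_singleton_iff_isMaximal]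
      have := f.isClosedMap _ hcl
      rwa [Set.image_singleton] at this
    have hI' : RingHom.ker (algebraMap R R₀) ≤ (y : PrimeSpectrum Γ(X, U)).asIdeal.comap (algebraMap R Γ(X, U)) := by
      have h1 : (f (g y) : PrimeSpectrum R).asIdeal =
          (y : PrimeSpectrum Γ(X, U)).asIdeal.comap (algebraMap R Γ(X, U)) := by
        have h2 : f (g y) = Spec.map φ y := by rw [hφ]; rfl
        rw [h2]
        rfl
      rw [← h1, Ideal.Quotient.algebraMap_eq, Ideal.mk_ker]
      exact hI.trans (sInf_le ⟨bot_le, hmax⟩)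
    have hA := (RelAmp.ampAt_toD_iff _ c d y').2
      (hcd y y' hI' ((PrimeSpectrum.le_iff_specializes y' y).2 hsp'))
    change RelAmp.AmpAt (Spec.map φ) c d _ y' at hA
    rw [hφ] at hA
    exact (RelAmp.ampAt_rd_iff g y' f E c d).1 (hA.of_iso
      (((tilde.functor Γ(X, U)).mapDerivedCategoryFactors.app K).symm ≪≫
        (DCoh.tildeD _).mapIso eK ≪≫ eM))
  choose c d hcd using key
  have hcl : ∀ x' : X, ∃ x : X, IsClosed ({x} : Set X) ∧ x' ⤳ x := fun x' => by
    obtain ⟨x, hx, hxc⟩ := IsClosed.exists_closed_singleton (isClosed_closure (s := ({x'} : Set X)))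
      ⟨x', subset_closure rfl⟩
    exact ⟨x, hxc, specializes_iff_mem_closure.2 hx⟩
  obtain ⟨t, ht⟩ := isCompact_univ.elim_finite_subcover (fun U : X.affineOpens => (U.1 : Set X))
    (fun U => U.1.2) (fun x _ => by
      obtain ⟨U, hU, hx, -⟩ := exists_isAffineOpen_mem_and_subset (U := (⊤ : X.Opens)) (x := x) trivial
      exact Set.mem_iUnion.2 ⟨⟨U, hU⟩, hx⟩)
  obtain ⟨lo, hlo⟩ := (t.image c).bddBelow
  obtain ⟨hi, hhi⟩ := (t.image d).bddAbove
  intro G ⟨eG⟩ z
  refine ⟨⊤, lo, hi, trivial, fun x' _ => ?_⟩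
  obtain ⟨x, hxc, hsp⟩ := hcl x'
  obtain ⟨U, hU, hx⟩ := Set.mem_iUnion₂.1 (ht (Set.mem_univ x))
  exact (RelAmp.ampAt_toD_iff G lo hi x').1 (((hcd U x x' hx hxc hsp).mono
    (hlo (Finset.mem_coe.2 (Finset.mem_image_of_mem c hU)))
    (hhi (Finset.mem_coe.2 (Finset.mem_image_of_mem d hU)))).of_iso eG.symm)

end Groth.Agent.S7233
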