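import Groth.Agent.RelPC.TildePush
import Groth.Agent.RelPC.QCoh
import Groth.Agent.QCohMod.QCQS
import Groth.Agent.S0997
import Groth.Statements.S7234
-- import your own Groth.Agent.* helpers here

set_option autoImplicit false
universe u
open CategoryTheory CategoryTheory.Limits AlgebraicGeometry Opposite TopologicalSpace
attribute [local instance] HasDerivedCategory.standard
open FlatMor

namespace Groth.Agent.S7234

/-- (1) ⇔ (3): let f : X ⟶ S be locally of finite type, E an object of D(O_X) all of whose cohomology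
sheaves are quasi-coherent, and m an integer. Then E is m-pseudo-coherent relative to f (chart form)
if and only if for every affine open U of X mapping into an affine open V of S the complex RΓ(U, E),
viewed in D(Γ(X, U)), is m-pseudo-coherent relative to Γ(S, V) in the ring-level sense. Here RΓ(U,
E) is expressed through the equivalence of D(Γ(X, U)) with the quasi-coherent derived category of
the affine scheme U: the condition is asked of every object M of D(Γ(X, U)) whose associated complex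
of modules on Spec Γ(X, U) is isomorphic to E|_U carried along U ≅ Spec Γ(X, U) (the functor M ↦ M~
being assumed left exact, which it is). -/
theorem result {X S : Scheme.{u}} (f : X ⟶ S)
    [LocallyOfFiniteType f] [∀ U : X.affineOpens, PreservesFiniteLimits (tilde.functor (X.presheaf.obj (op (U : X.Opens))))]
    (E : DCoh.D X) (hE : DCoh.IsQCohD E) (m : ℤ) :
    DerSch.IsPseudoCoherentRel f m E ↔
      ∀ (U : X.affineOpens) (V : S.affineOpens) (h : (U : X.Opens) ≤ f ⁻¹ᵁ (V : S.Opens))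
        (G : CochainComplex X.Modules ℤ), Nonempty (DCoh.toD X G ≅ E) →
        ∀ M : Dual.D Γ(X, (U : X.Opens)),
          Nonempty ((DCoh.tildeD (X.presheaf.obj (op (U : X.Opens)))).obj M ≅
            DCoh.toD _ ((DerSch.pushCx U.2.isoSpec.hom).obj ((DCoh.restrictCx (U : X.Opens)).obj G))) →
          letI := (f.appLE (V : S.Opens) (U : X.Opens) h).hom.toAlgebra
          DerCA.IsRelPseudoCoherent Γ(S, (V : S.Opens)) Γ(X, (U : X.Opens)) m M := by
  have hiso : ∀ U : X.affineOpens, IsClosedImmersion (U : X.Opens).toSpecΓ := fun U => by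
    haveI : IsIso (U : X.Opens).toSpecΓ := U.2.isoSpec_hom ▸ inferInstance
    infer_instance
  have key : ∀ (U : X.affineOpens) (G : CochainComplex X.Modules ℤ) (i : DCoh.toD X G ≅ E),
      letI := hiso U
      Nonempty ((Groth.RelPC.Pd (U : X.Opens).toSpecΓ).obj ((Groth.KTheory.Perf.Rd (U : X.Opens).ι).obj E) ≅
        DCoh.toD _ ((DerSch.pushCx U.2.isoSpec.hom).obj ((DCoh.restrictCx (U : X.Opens)).obj G))) := fun U G i => by
    letI := hiso U
    rw [U.2.isoSpec_hom]
    exact ⟨(Groth.RelPC.Pd _).mapIso ((Groth.KTheory.Perf.Rd _).mapIso i.symm ≪≫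
      Groth.KTheory.Perf.rdQIso _ G) ≪≫ Groth.RelPC.pdQIso _ _⟩
  refine ⟨fun h U V hh G ⟨i⟩ M ⟨e⟩ => ?_, fun h => (Groth.RelPC.rel_iff m E).2 ⟨‹_›, fun U V hh => ?_⟩⟩
  · letI := hiso U
    letI := (f.appLE (V : S.Opens) (U : X.Opens) hh).hom.toAlgebra
    obtain ⟨n, φ, hφ⟩ := Groth.RelPC.exists_chart (f := f) hh (f.finiteType_appLE V.2 U.2 hh)
    obtain ⟨k⟩ := key U G i
    refine ⟨n, { φ with commutes' := fun r => RingHom.congr_fun hφ.2 r }, hφ.1, ?_⟩
    exact (Groth.RelPC.chartPC_iff_via U.2 φ hφ.1 m E M (e ≪≫ k.symm)).1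
      ((Groth.RelPC.chartOn_iff U.2 hh φ hφ m E).1 (Groth.RelPC.chartOn_of_rel h U.2 V.2 hh))
  · letI := hiso U
    letI := (f.appLE (V : S.Opens) (U : X.Opens) hh).hom.toAlgebra
    obtain ⟨G, ⟨i⟩⟩ := Groth.KTheory.Perf.exists_rep E
    obtain ⟨k⟩ := key U G i
    have hq : DCoh.IsQCohD ((Groth.RelPC.Pd (U : X.Opens).toSpecΓ).obj
        ((Groth.KTheory.Perf.Rd (U : X.Opens).ι).obj E)) := fun j => by
      obtain ⟨c⟩ := Groth.KTheory.Perf.nonempty_hdRd (U : X.Opens).ι E j
      obtain ⟨d⟩ := Groth.RelPC.nonempty_hdPd (U : X.Opens).toSpecΓ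
        ((Groth.KTheory.Perf.Rd (U : X.Opens).ι).obj E) j
      haveI : (DCoh.HD E j).IsQuasicoherent := hE j
      haveI : (DCoh.HD ((Groth.KTheory.Perf.Rd (U : X.Opens).ι).obj E) j).IsQuasicoherent :=
        (Groth.QCohMod.isQCoh_iff_of_iso c).2 inferInstance
      exact (Groth.QCohMod.isQCoh_iff_of_iso d).2
        (Groth.QCohMod.isQCoh_pushforward (M := DCoh.HD _ j) (U : X.Opens).toSpecΓ)
    obtain ⟨M, ⟨e⟩⟩ := ((Groth.Agent.S0997.result _).2.2 _).1 hq
    obtain ⟨n, a, ha, hM⟩ := h U V hh G ⟨i⟩ M ⟨e ≪≫ k⟩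
    exact ⟨hh, n, a.toRingHom, ⟨ha, a.comp_algebraMap⟩,
      (Groth.RelPC.chartPC_iff_via U.2 a.toRingHom ha m E M e).2 hM⟩

end Groth.Agent.S7234
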