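import Groth.Statements.S7238
import Groth.Agent.Misc12.EtNbhdApprox.Matching

set_option autoImplicit false
universe u
open FlatMor

namespace Groth.Agent.S7238

open AlgebraicGeometry CategoryTheory Limits IsLocalRing in
/-- Let S be a locally Noetherian scheme and T a scheme of finite type over ℤ; let p : X ⟶ S and q : Y ⟶
T be locally of finite type; let x ∈ X with image s ∈ S such that O_{S,s} is a G-ring, and y ∈ Y
with image t ∈ T. Let σ : O_{T,t} → O_{S,s}^∧ be a local homomorphism into the completion, let Y_σ =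
Y ×_T Spec(O_{S,s}^∧) be the base change of q along Spec(O_{S,s}^∧) → Spec(O_{T,t}) → T, let y_σ ∈
Y_σ be a point lying over y and over the closed point of Spec(O_{S,s}^∧), and let φ : O_{X,x}^∧ ≅
O_{Y_σ,y_σ}^∧ be an isomorphism of completed local rings compatible with the two O_{S,s}-algebra
structures. Then there are: an elementary étale neighbourhood e : (V, v) ⟶ (S, s) (étale, v ↦ s,
trivial residue field extension) together with τ : V ⟶ T with τ(v) = t; an elementary étale
neighbourhood a : (W, w) ⟶ (X, x); and a morphism b : W ⟶ Y ×_{T,τ} V with W ⟶ X ⟶ S equal to W ⟶ Y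
×_T V ⟶ V ⟶ S, such that b is étale and b(w) lies over y and over v with trivial residue field
extension. (The published statement says more precisely that (W, w) is an elementary étale
neighbourhood of the point y_τ of Y ×_T V corresponding to y_σ under the identification of the fibre
of Y_σ over the closed point with the fibre of Y ×_T V over v; that identification is not expressed
here, only that b(w) lies over y and v.) -/
theorem result {X Y S T : Scheme.{u}} [IsLocallyNoetherian S]
    (p : X ⟶ S) (q : Y ⟶ T) [LocallyOfFiniteType p] [LocallyOfFiniteType q]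
    [LocallyOfFiniteType (specULiftZIsTerminal.from T)] [CompactSpace T]
    (x : X) (hG : CAlg.IsGRing ↑(S.presheaf.stalk (p x))) (y : Y)
    (σ : ↑(T.presheaf.stalk (q y)) →+*
      AdicCompletion (maximalIdeal ↑(S.presheaf.stalk (p x))) ↑(S.presheaf.stalk (p x)))
    [IsLocalHom σ]
    (yσ : ↑(pullback q (Spec.map (CommRingCat.ofHom σ) ≫ T.fromSpecStalk (q y))))
    (hyσ : (pullback.fst q (Spec.map (CommRingCat.ofHom σ) ≫ T.fromSpecStalk (q y))) yσ = y)
    (hyσc : (pullback.snd q (Spec.map (CommRingCat.ofHom σ) ≫ T.fromSpecStalk (q y))) yσ =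
      closedPoint (AdicCompletion (maximalIdeal ↑(S.presheaf.stalk (p x))) ↑(S.presheaf.stalk (p x))))
    (φ : AdicCompletion (maximalIdeal ↑(X.presheaf.stalk x)) ↑(X.presheaf.stalk x) ≃+*
      AdicCompletion (maximalIdeal ↑((pullback q (Spec.map (CommRingCat.ofHom σ) ≫ T.fromSpecStalk (q y))).presheaf.stalk yσ))
        ↑((pullback q (Spec.map (CommRingCat.ofHom σ) ≫ T.fromSpecStalk (q y))).presheaf.stalk yσ))
    (hφ : φ.toRingHom.comp ((algebraMap ↑(X.presheaf.stalk x)
        (AdicCompletion (maximalIdeal ↑(X.presheaf.stalk x)) ↑(X.presheaf.stalk x))).comp (p.stalkMap x).hom) =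
      ((algebraMap _ (AdicCompletion (maximalIdeal
          ↑((pullback q (Spec.map (CommRingCat.ofHom σ) ≫ T.fromSpecStalk (q y))).presheaf.stalk yσ)) _)).comp
        ((pullback.snd q (Spec.map (CommRingCat.ofHom σ) ≫ T.fromSpecStalk (q y))).stalkMap yσ).hom).comp
        ((((Spec (CommRingCat.of (AdicCompletion (maximalIdeal ↑(S.presheaf.stalk (p x))) ↑(S.presheaf.stalk (p x))))).presheaf.germ
            ⊤ ((pullback.snd q (Spec.map (CommRingCat.ofHom σ) ≫ T.fromSpecStalk (q y))) yσ) trivial).hom.comp
          ((Scheme.ΓSpecIso (CommRingCat.of (AdicCompletion (maximalIdeal ↑(S.presheaf.stalk (p x)))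
            ↑(S.presheaf.stalk (p x))))).inv.hom.comp
            (algebraMap ↑(S.presheaf.stalk (p x))
              (AdicCompletion (maximalIdeal ↑(S.presheaf.stalk (p x))) ↑(S.presheaf.stalk (p x)))))))) :
    ∃ (V : Scheme.{u}) (v : V) (e : V ⟶ S) (τ : V ⟶ T) (W : Scheme.{u}) (w : W) (a : W ⟶ X)
      (b : W ⟶ pullback q τ),
      Etale e ∧ e v = p x ∧ Function.Bijective (e.residueFieldMap v) ∧ τ v = q y ∧
      Etale a ∧ a w = x ∧ Function.Bijective (a.residueFieldMap w) ∧
      a ≫ p = b ≫ pullback.snd q τ ≫ e ∧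
      Etale b ∧ (pullback.fst q τ) (b w) = y ∧ (pullback.snd q τ) (b w) = v ∧
      Function.Bijective (b.residueFieldMap w) := by
  exact Groth.Agent.Misc12.EtNbhdApprox.exists_matching p q x hG y σ yσ hyσ φ hφ

end Groth.Agent.S7238
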