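import Groth.Statements.S7241
import Groth.Agent.ResPropUp.Main
import Groth.Agent.S9691
import Groth.Agent.Ega2Proj.RelAmple

set_option autoImplicit false
universe u
open CategoryTheory CategoryTheory.Limits AlgebraicGeometry
attribute [local instance] HasDerivedCategory.standard
open Perf

namespace Groth.Agent.S7241

/-- Let f : X ⟶ Y be a morphism of schemes whose target Y is quasi-compact, quasi-separated, and
satisfies the resolution property (every quasi-coherent O_Y-module of finite type is a quotient of a
finite locally free O_Y-module), and suppose there is an f-ample invertible O_X-module L (f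
quasi-compact and L ample on the preimage of every affine open of Y). Then X has the resolution
property. -/
theorem result {X Y : Scheme.{u}} (f : X ⟶ Y) [CompactSpace ↥Y] [QuasiSeparatedSpace ↥Y]
    (hY : PerfAux.HasResolutionProperty Y) (L : X.Modules) (hL : RelAmple.IsRelAmple f L) :
    PerfAux.HasResolutionProperty X := by
  have hsep : IsSeparated f := Groth.Agent.S9691.result f L hL
  refine Groth.ResPropUp.of_isRelAmple f hY L ?_ hL
  refine Groth.Ega2Proj.isInvertible_of_cover fun x => ?_
  obtain ⟨W, hW, hxW, -⟩ := exists_isAffineOpen_mem_and_subset (x := f x) (U := (⊤ : Y.Opens)) trivial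
  exact ⟨f ⁻¹ᵁ W, hxW, (hL.2 ⟨W, hW⟩).1⟩

end Groth.Agent.S7241
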