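import Groth.Statements.S7242
import Groth.Agent.DerivedCoh.ResPropBoundary
import Groth.Agent.OmegaSheaf.IdealMod

set_option autoImplicit false
set_option linter.style.haveILetI false
universe u
open CategoryTheory CategoryTheory.Limits AlgebraicGeometry TopologicalSpace
open Perf

namespace Groth.Agent.S7242

open Groth.PicAux

/-- Let X be a scheme, X = U_1 ∪ … ∪ U_m a finite covering by affine opens, and I_1, …, I_m
quasi-coherent ideal sheaves of finite type with V(I_j) = X ∖ U_j as sets. Then X has the resolution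
property (every quasi-coherent O_X-module of finite type is a quotient of a finite locally free
O_X-module) if and only if, for every j, the ideal sheaf I_j regarded as an O_X-module is a quotient
of a finite locally free O_X-module. -/
theorem result (X : Scheme.{u}) {m : ℕ} (U : Fin m → X.Opens)
    (hUaff : ∀ j, IsAffineOpen (U j)) (hcov : ⨆ j, U j = ⊤) (I : Fin m → X.IdealSheafData)
    (hIft : ∀ j, CohB1.IsFT (ClSub.idealMod (I j))) (hIsupp : ∀ j, ((I j).support : Set ↥X) = (U j : Set ↥X)ᶜ) :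
    PerfAux.HasResolutionProperty X ↔
      ∀ j, ∃ (E : X.Modules) (π : E ⟶ ClSub.idealMod (I j)), FlatMod.IsFinLocFree E ∧ Epi π := by
  classical
  refine ⟨fun h j => h _ (Groth.OmegaSheaf.isQCoh_idealMod (I j)) (hIft j), fun h => ?_⟩
  choose E π hE hπ using h
  let p : ∀ j, E j ⟶ Coh.structureModule X := fun j => π j ≫ ClSub.idealModι (I j)
  have hmem : ∀ j i, ∀ c : Γ(X, U i),
      c ∈ (I j).ideal ⟨U i, hUaff i⟩ ↔ ∃ e : Γ(E j, U i), toFun ((p j).app (U i) e) = c := by
    intro j i c
    haveI := Groth.KTheory.LocFree.isQCoh (hE j)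
    haveI := hπ j
    constructor
    · intro hc
      obtain ⟨k, hk⟩ := Groth.OmegaSheaf.exists_idealSect (I j) ⟨U i, hUaff i⟩ hc
      obtain ⟨e, he⟩ := Groth.QCohMod.app_surjective_of_epi (π j) (hUaff i) k
      refine ⟨e, ?_⟩
      change toFun ((ClSub.idealModι (I j)).app (U i) ((π j).app (U i) e)) = c
      rw [he]
      exact hk
    · rintro ⟨e, rfl⟩
      exact Groth.OmegaSheaf.idealSect_mem (I j) ⟨U i, hUaff i⟩ ((π j).app (U i) e)
  have hopen : ∀ j i, ∀ x ∈ U i,
      (x ∈ U j ↔ ∃ e : Γ(E j, U i), x ∈ X.basicOpen (toFun ((p j).app (U i) e))) := by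
    intro j i x hx
    have h1 : x ∈ U j ↔ x ∉ ((I j).support : Set X) := by simp [hIsupp j]
    rw [h1]
    have h2 := Scheme.IdealSheafData.mem_support_iff_of_mem (I := I j) (U := ⟨U i, hUaff i⟩) hx
    rw [SetLike.mem_coe, h2, Scheme.mem_zeroLocus_iff]
    push Not
    constructor
    · rintro ⟨c, hc, hxc⟩
      obtain ⟨e, rfl⟩ := (hmem j i c).1 hc
      exact ⟨e, hxc⟩
    · rintro ⟨e, he⟩
      exact ⟨_, (hmem j i _).2 ⟨e, rfl⟩, he⟩
  haveI : CompactSpace X := ⟨by
    have : (Set.univ : Set X) = ⋃ i, (U i : Set X) := by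
      rw [← Opens.coe_iSup, hcov, Opens.coe_top]
    rw [this]
    exact isCompact_iUnion fun i => (hUaff i).isCompact⟩
  haveI : QuasiSeparatedSpace X := by
    refine Scheme.quasiSeparatedSpace_of_isOpenCover U hcov hUaff fun i j => ?_
    haveI := Groth.KTheory.LocFree.isQCoh (hE j)
    obtain ⟨S, hS⟩ := (Groth.QCohMod.finite_sections (E j) (Groth.PropsBasic.LocFree.isFT_of_isFP _
      (Groth.PropsBasic.LocFree.isFP_of_isFinLocFree _ (hE j))) (hUaff i)).fg_top
    have heq : (U i ∩ U j : Set X) = ⋃ s ∈ S, (X.basicOpen (toFun ((p j).app (U i) s)) : Set X) := by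
      ext x
      simp only [Set.mem_inter_iff, Set.mem_iUnion, SetLike.mem_coe]
      constructor
      · rintro ⟨hxi, hxj⟩
        obtain ⟨e, he⟩ := (hopen j i x hxi).1 hxj
        by_contra hne
        push Not at hne
        have h1 : x ∈ X.zeroLocus (U := U i) ((fun s => toFun ((p j).app (U i) s)) '' (S : Set _)) := by
          rw [Scheme.mem_zeroLocus_iff]
          rintro _ ⟨s, hs, rfl⟩
          exact hne s hs
        rw [← X.zeroLocus_span, Scheme.mem_zeroLocus_iff] at h1
        refine h1 _ ?_ he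
        have hb : e ∈ Submodule.span Γ(X, U i) (S : Set Γ(E j, U i)) := by rw [hS]; trivial
        clear he
        induction hb using Submodule.span_induction with
        | mem z hz => exact Ideal.subset_span ⟨z, hz, rfl⟩
        | zero => rw [map_zero]; exact zero_mem _
        | add a b _ _ ha hb => rw [map_add]; exact add_mem ha hb
        | smul r a _ ha => rw [Scheme.Modules.Hom.app_smul, toFun_smul]; exact Ideal.mul_mem_left _ _ ha
      · rintro ⟨s, hs, hxs⟩
        have hxi := X.basicOpen_le _ hxs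
        exact ⟨hxi, (hopen j i x hxi).2 ⟨s, hxs⟩⟩
    rw [heq]
    exact S.finite_toSet.isCompact_biUnion fun s _ => ((hUaff i).basicOpen _).isCompact
  intro F hF hFT
  haveI : F.IsQuasicoherent := hF
  choose S hS using fun i => (Groth.QCohMod.finite_sections F hFT (hUaff i)).fg_top
  have hunit : ∀ j, ∃ e : Γ(E j, U j), toFun ((p j).app (U j) e) = 1 := by
    intro j
    refine (hmem j j 1).1 ((Ideal.eq_top_iff_one _).1 ?_)
    by_contra hne
    obtain ⟨P, hP, hle⟩ := Ideal.exists_le_maximal _ hne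
    let q : PrimeSpectrum Γ(X, U j) := ⟨P, hP.isPrime⟩
    have hq : (hUaff j).fromSpec q ∈ U j := by
      show (hUaff j).fromSpec q ∈ (U j : Set X)
      rw [← (hUaff j).range_fromSpec]
      exact Set.mem_range_self q
    obtain ⟨e, he⟩ := (hopen j j _ hq).1 hq
    have : q ∈ (hUaff j).fromSpec ⁻¹ᵁ X.basicOpen (toFun ((p j).app (U j) e)) := he
    rw [(hUaff j).fromSpec_preimage_basicOpen] at this
    exact this (hle ((hmem j j _).2 ⟨e, rfl⟩))
  choose P g a hP hg using fun (z : Σ j : ULift.{u} (Fin m), S j.down) =>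
    Groth.DerivedCoh.ResPropBoundary.exists_bundle_hit U hUaff hcov (hE z.1.down) (p z.1.down) z.1.down
      (hopen z.1.down) (hunit z.1.down) F z.2.1
  let e := Fintype.equivFin (Σ j : ULift.{u} (Fin m), S j.down)
  refine ⟨∐ P, Sigma.desc g, Groth.KTheory.LocFree.isFinLocFree_of_iso (Sigma.reindex e.symm P)
    (Groth.FlatmorThree.ResProp.isFinLocFree_sigma_finite _ _ fun i => hP _), ?_⟩
  haveI : ∀ z, (P z).IsQuasicoherent := fun z => Groth.KTheory.LocFree.isQCoh (hP z)
  haveI : (∐ P).IsQuasicoherent := inferInstance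
  refine Groth.ResPropLib.epi_of_generators (Sigma.desc g) U hUaff
    (fun x => Opens.mem_iSup.1 (hcov.ge (trivial : x ∈ (⊤ : X.Opens)))) (fun j => (S j : Set Γ(F, U j))) hS
    fun j t ht => ⟨(Sigma.ι P ⟨⟨j⟩, t, ht⟩).app (U j) (a ⟨⟨j⟩, t, ht⟩), ?_⟩
  change (Sigma.ι P ⟨⟨j⟩, t, ht⟩ ≫ Sigma.desc g).app (U j) _ = t
  rw [Sigma.ι_desc]
  exact hg ⟨⟨j⟩, t, ht⟩

end Groth.Agent.S7242
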