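import Groth.Statements.S7244
import Groth.Agent.DerivedCoh.StalkAmp.Descent
-- import your own Groth.Agent.* helpers here

set_option autoImplicit false
universe u
open CategoryTheory CategoryTheory.Limits AlgebraicGeometry
attribute [local instance] HasDerivedCategory.standard
open Perf

namespace Groth.Agent.S7244

/-- Let f : X ⟶ Y be a flat and surjective morphism of schemes, E ∈ D(O_Y) and a, b ∈ ℤ. Assuming the
derived pullback Lf^* exists, if Lf^*E has tor amplitude in [a, b] then so does E; tor amplitude is
stated in the flat-representative form (isomorphic to a complex of flat modules vanishing outside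
[a, b]), equivalent to the derived-tensor form. (The converse, that derived pullback preserves tor
amplitude, holds for any f.) -/
theorem result {X Y : Scheme.{u}} (f : X ⟶ Y) [Flat f] [Surjective f]
    [DCoh.HasLpull f] (E : DCoh.D Y) (a b : ℤ) (h : DCoh.HasFlatAmplitudeIn a b ((DCoh.Lpull f).obj E)) :
    DCoh.HasFlatAmplitudeIn a b E := by
  exact Groth.DerivedCoh.StalkAmp.flatAmp_descends f E a b h

end Groth.Agent.S7244
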