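import Groth.Statements.S7246
import Groth.Agent.DerivedCoh.PerfFP.PCohPush
import Groth.Agent.DerivedCoh.Duality.Theta

set_option autoImplicit false
set_option linter.style.haveILetI false
universe u
open CategoryTheory CategoryTheory.Limits AlgebraicGeometry
attribute [local instance] HasDerivedCategory.standard
open Perf

namespace Groth.Agent.S7246

open Groth.KTheory.Perf Groth.DerivedCoh

/-- Let f : X ⟶ S be a morphism of finite presentation (locally of finite presentation, quasi-compact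
and quasi-separated), E a pseudo-coherent object of D(O_X), and G a bounded above cochain complex of
O_X-modules of finite presentation, each flat over S and with support proper over S. Assuming the
derived functors - ⊗^L G and Rf_* exist, K = Rf_*(E ⊗^L_{O_X} G) is a pseudo-coherent object of
D(O_S). (The published statement also asserts that the formation of K commutes with arbitrary base
change; this row states only pseudo-coherence.) -/
theorem result {X S : Scheme.{u}} (f : X ⟶ S)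
    [LocallyOfFinitePresentation f] [QuasiCompact f] [QuasiSeparated f]
    (E : DCoh.D X) (hE : ∀ m : ℤ, DCoh.IsPseudoCoherentD m E) (G : CochainComplex X.Modules ℤ)
    (hGb : ∃ b : ℤ, ∀ i : ℤ, b < i → IsZero (G.X i)) (hGfp : ∀ i : ℤ, CohB1.IsFP (G.X i))
    (hGflat : ∀ i : ℤ, FlatMod.IsFlatOver f (G.X i)) (hGsupp : ∀ i : ℤ, ClSub.IsProperOver f (CohB1.support (G.X i)))
    [DCoh.HasLTensorCx G] [DCoh.HasRpush f] (m : ℤ) :
    DCoh.IsPseudoCoherentD m ((DCoh.Rpush f).obj ((DCoh.LTensorCx G).obj E)) := by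
  obtain ⟨b, hb⟩ := hGb
  rw [PCoh.isPseudoCoherentD_iff]
  intro s
  obtain ⟨V, hV, hs, -⟩ := exists_isAffineOpen_mem_and_subset (x := s) (U := (⊤ : S.Opens)) trivial
  haveI : IsAffine (V : Scheme.{u}) := hV
  let g := f ∣_ V
  let U := f ⁻¹ᵁ V
  have sq : IsPullback U.ι g f V.ι := (isPullback_morphismRestrict f V).flip
  haveI : LocallyOfFinitePresentation g := MorphismProperty.of_isPullback sq inferInstance
  haveI : DCoh.HasRpush g := Groth.Misc4.PushRestrict.hasRightDerived _
  let G' := (Rc U.ι).obj G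
  haveI := KFlat.hasLTensorCx G'
  let eR : ∀ i, (Scheme.Modules.pullback U.ι).obj (G.X i) ≅ G'.X i := fun i =>
    ((Scheme.Modules.restrictFunctorIsoPullback U.ι).app (G.X i)).symm
  have hq : ∀ i, (G.X i).IsQuasicoherent := fun i => by
    have := hGfp i
    infer_instance
  have h := PerfFP.isPseudoCoherentD_Rpush_ltcx g ((Rd U.ι).obj E)
    (fun k => PCohDescent.pcoh_rd U.ι (hE k)) G' b
    (fun i hi => (Scheme.Modules.restrictFunctor U.ι).map_isZero (hb i hi))
    (fun i => Groth.Pi1FPDesc.isFP_of_iso (eR i) (Groth.QCohMod.isFP_pullback _ _ (hGfp i)))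
    (fun i => haveI := hq i; RelAmp.isFlatOver_of_iso (eR i)
      (Groth.FlatMorOne.isFlatOver_baseChange sq (G.X i) (hGflat i)))
    (fun i => by
      rw [← Groth.QCohMod.support_eq_of_iso (eR i), Groth.QCohMod.support_pullback U.ι (G.X i)
        (Groth.PropsBasic.LocFree.isFT_of_isFP _ (hGfp i))]
      exact Groth.EtaleShriek.ProperOver.preimage f sq (hGsupp i)) m
  obtain ⟨a⟩ := Groth.Misc4.PushRestrict.restrictD_Rpush_iso f V
  -- restriction of the tensor product
  obtain ⟨F, ⟨e⟩⟩ := exists_rep E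
  let P := (KFlat.flatResolution X).obj F
  haveI := KFlat.flatResolution_quasiIso F
  have hP : KFlat.IsKFlat (KFlat.T X).flip P := KFlat.flatResolution_isKFlat_flip F
  let eP : DCoh.toD X P ≅ E := asIso (DerivedCategory.Q.map ((KFlat.flatResolutionAug X).app F)) ≪≫ e
  haveI := KFlat.isIso_ltcxCounit_app G P hP
  haveI := KFlat.isIso_ltcxCounit_app G' _ (Duality.isKFlat_flip_resCx U.ι hP)
  let t : (Rd U.ι).obj ((DCoh.LTensorCx G).obj E) ≅ (DCoh.LTensorCx G').obj ((Rd U.ι).obj E) :=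
    (Rd U.ι).mapIso ((DCoh.LTensorCx G).mapIso eP.symm ≪≫ asIso ((KFlat.ltcxCounit G).app P)) ≪≫
      rdQIso U.ι _ ≪≫ DerivedCategory.Q.mapIso (Duality.rtR P U.ι G).symm ≪≫
      (asIso ((KFlat.ltcxCounit G').app ((Rc U.ι).obj P))).symm ≪≫
      (DCoh.LTensorCx G').mapIso ((rdQIso U.ι P).symm ≪≫ (Rd U.ι).mapIso eP)
  have hK : DCoh.IsPseudoCoherentD m ((Rd V.ι).obj ((DCoh.Rpush f).obj ((DCoh.LTensorCx G).obj E))) :=
    PCoh.isPseudoCoherentD_of_iso ((DCoh.Rpush g).mapIso t.symm ≪≫ (a.app _).symm) h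
  obtain ⟨W, hsW, E', α, hE', hα⟩ := (PCoh.isPseudoCoherentD_iff _ _).1 hK ⟨s, hs⟩
  obtain ⟨c⟩ := nonempty_rdComp (k := W.ι) (j := V.ι) (l := W.ι ≫ V.ι) rfl
    ((DCoh.Rpush f).obj ((DCoh.LTensorCx G).obj E))
  exact ⟨(W.ι ≫ V.ι).opensRange, ⟨⟨⟨s, hs⟩, hsW⟩, rfl⟩,
    PCoh.pcohOn_of_range _ hE' (α ≫ c.inv) (hα.comp (PCoh.near_of_isIso _))⟩

end Groth.Agent.S7246
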