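import Groth.Statements.S7248
import Groth.Agent.DerivedCoh.PCoh.Perfect

set_option autoImplicit false
universe u
open CategoryTheory CategoryTheory.Limits AlgebraicGeometry
attribute [local instance] HasDerivedCategory.standard
open Perf

namespace Groth.Agent.S7248

/-- Let f : X ⟶ S be flat and locally of finite presentation. Then a perfect object E of D(O_X) is
S-perfect, that is, E is pseudo-coherent (m-pseudo-coherent for every m) and, locally on X, the tor
dimension of E over the sheaf of rings f⁻¹O_S is finite (locally represented by a bounded complex of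
O_X-modules flat over S). -/
theorem result {X S : Scheme.{u}} (f : X ⟶ S) [Flat f] [LocallyOfFinitePresentation f]
    (E : DCoh.D X) (hE : DCoh.IsPerfect E) :
    (∀ m : ℤ, DCoh.IsPseudoCoherentD m E) ∧ DCoh.LocHasFiniteRelTorDim f E := by
  open Groth.KTheory.Perf in
  have hflat : ∀ {W : Scheme.{u}} (g : W ⟶ S) [Flat g] {M : W.Modules},
      FlatMod.IsFinLocFree M → FlatMod.IsFlatOver g M := by
    intro W g _ M hM x
    let := (g.stalkMap x).hom.toAlgebra
    let := FlatMod.moduleStalkOver g M x
    have : IsScalarTower (S.presheaf.stalk (g x)) (W.presheaf.stalk x) (M.presheaf.stalk x) :=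
      .of_algebraMap_smul fun _ _ => rfl
    have : Module.Flat (S.presheaf.stalk (g x)) (W.presheaf.stalk x) := Flat.stalkMap g x
    have := Groth.KTheory.LocFree.free_stalk hM x
    exact Module.Flat.trans (S.presheaf.stalk (g x)) (W.presheaf.stalk x) (M.presheaf.stalk x)
  refine ⟨fun m => Groth.DerivedCoh.PCoh.isPseudoCoherentD_of_isPerfect hE m, fun x => ?_⟩
  obtain ⟨V, hx, P, ⟨⟨a, b, hab⟩, hfl⟩, ⟨e⟩⟩ := (isPerfect_iff E).1 hE x
  refine ⟨V, a, b, hx, fun F' ⟨i⟩ => ⟨P, hab,
    fun n => hflat (V.ι ≫ f) (hfl n), ?_⟩⟩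
  exact ⟨e.symm ≪≫ ((Rd V.ι).mapIso i.symm) ≪≫ rdQIso V.ι F'⟩

end Groth.Agent.S7248
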