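import Groth.Statements.S7249
import Groth.Agent.DerivedCoh.RelAmp
import Groth.Agent.DerivedCoh.TotInduction
import Groth.Agent.DerivedCoh.PCoh.ModuleFP


set_option autoImplicit false
universe u
open CategoryTheory CategoryTheory.Limits AlgebraicGeometry
attribute [local instance] HasDerivedCategory.standard
open Perf

namespace Groth.Agent.S7249

/-- Let f : X ⟶ S be flat and locally of finite presentation, K a perfect object of D(O_X), and M a
cochain complex of O_X-modules whose image in D(O_X) is S-perfect (pseudo-coherent, and locally on X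
represented by a bounded complex of O_X-modules flat over S). Assuming the derived functor - ⊗^L M
exists, K ⊗^L_{O_X} M is S-perfect. -/
theorem result {X S : Scheme.{u}} (f : X ⟶ S) [Flat f] [LocallyOfFinitePresentation f]
    (K : DCoh.D X) (hK : DCoh.IsPerfect K) (M : CochainComplex X.Modules ℤ)
    (hMpc : ∀ m : ℤ, DCoh.IsPseudoCoherentD m (DCoh.toD X M)) (hMtor : DCoh.LocHasFiniteRelTorDim f (DCoh.toD X M))
    [DCoh.HasLTensorCx M] :
    (∀ m : ℤ, DCoh.IsPseudoCoherentD m ((DCoh.LTensorCx M).obj K)) ∧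
      DCoh.LocHasFiniteRelTorDim f ((DCoh.LTensorCx M).obj K) := by
  open Groth.DerivedCoh Groth.DerivedCoh.PCoh Groth.KTheory.Perf in
  have hrd : ∀ {U : Scheme.{u}} (j : U ⟶ X) [IsOpenImmersion j] {m : ℤ} {L : DCoh.D X},
      DCoh.IsPseudoCoherentD m L → DCoh.IsPseudoCoherentD m ((Rd j).obj L) := by
    intro U j _ m L h
    rw [isPseudoCoherentD_iff] at h ⊢
    intro u
    obtain ⟨V, hx, E, α, hE, hα⟩ := h (j u)
    obtain ⟨c₁⟩ := nonempty_rdComp (k := (j ⁻¹ᵁ V).ι) (j := j) (l := (j ∣_ V) ≫ V.ι) (morphismRestrict_ι j V) L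
    obtain ⟨c₂⟩ := nonempty_rdComp (k := j ∣_ V) (j := V.ι) (l := (j ∣_ V) ≫ V.ι) rfl L
    exact ⟨j ⁻¹ᵁ V, hx, _, (rdQIso (j ∣_ V) E).inv ≫ (Rd (j ∣_ V)).map α ≫ c₂.inv ≫ c₁.hom,
      rc_isStrictlyPerfect _ hE, (near_of_isIso _).comp ((near_rd _ hα).comp (near_of_isIso _))⟩
  have hM := (RelAmp.locHasFiniteRelTorDim_iff _).1 hMtor
  have key : ∀ x : X, ∃ V : X.Opens, x ∈ V ∧
      (∀ m, DCoh.IsPseudoCoherentD m ((Rd V.ι).obj ((DCoh.LTensorCx M).obj K))) ∧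
      RelAmp.LocAmp (V.ι ≫ f) ((Rd V.ι).obj ((DCoh.LTensorCx M).obj K)) := fun x => by
    obtain ⟨V, E, a, b, hx, hab, hfree, ⟨e⟩⟩ := TotInduction.exists_local_model M K hK x
    let Φ : DCoh.D (V : Scheme.{u}) → Prop := fun A =>
      (∀ m, DCoh.IsPseudoCoherentD m A) ∧ RelAmp.LocAmp (V.ι ≫ f) A
    have hΦ : TotInduction.Closed Φ :=
      { iso := fun e h => ⟨fun m => isPseudoCoherentD_of_iso e (h.1 m), h.2.of_iso e⟩
        zero := fun h => ⟨fun m => isPseudoCoherentD_of_isPerfect (isPerfect_of_isZero h) m,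
          RelAmp.LocAmp.of_isZero h⟩
        shift := fun n h => ⟨fun m => isPseudoCoherentD_shift (h.1 (m + n)) n m (by omega), h.2.shift n⟩
        ext := fun hT h₁ h₃ => ⟨fun m => isPseudoCoherentD_obj₂ _ hT (h₁.1 m) (h₃.1 m),
          RelAmp.LocAmp.ext hT h₁.2 h₃.2⟩ }
    have hbase : Φ (DCoh.toD _ ((Groth.DerivedCoh.ExtZero.resCx V.ι).obj M)) := by
      refine hΦ.iso (rdQIso V.ι M) ⟨fun m => hrd V.ι (hMpc m), fun v => ?_⟩
      obtain ⟨W, c, d, hW, hamp⟩ := hM v.1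
      exact ⟨V.ι ⁻¹ᵁ W, c, d, hW, fun y hy => (RelAmp.ampAt_rd_iff V.ι y f _ c d).2 (hamp _ hy)⟩
    exact ⟨V, hx, hΦ.iso e.symm (TotInduction.tot_free hΦ _ hbase E hab hfree)⟩
  refine ⟨fun m => isPseudoCoherentD_of_local fun x => ?_, (RelAmp.locHasFiniteRelTorDim_iff _).2 fun x => ?_⟩
  · obtain ⟨V, hx, h, -⟩ := key x
    exact ⟨V, hx, h m⟩
  · obtain ⟨V, hx, -, h⟩ := key x
    obtain ⟨W, c, d, hW, hamp⟩ := h ⟨x, hx⟩
    exact ⟨V.ι ''ᵁ W, c, d, ⟨⟨x, hx⟩, hW, rfl⟩, fun y ⟨z, hz, hzy⟩ =>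
      hzy ▸ (RelAmp.ampAt_rd_iff V.ι z f _ c d).1 (hamp z hz)⟩

end Groth.Agent.S7249
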