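import Groth.Statements.S7250
import Groth.Agent.DerivedCoh.RelAmp
import Groth.Agent.DerivedCoh.PCoh.Perfect
import Mathlib.CategoryTheory.Triangulated.Subcategory


set_option autoImplicit false
universe u
open CategoryTheory CategoryTheory.Limits AlgebraicGeometry
attribute [local instance] HasDerivedCategory.standard
open Perf

namespace Groth.Agent.S7250

/-- Let f : X ⟶ S be flat and locally of finite presentation. The S-perfect objects of D(O_X)
(pseudo-coherent and locally of finite tor dimension over f⁻¹O_S, the latter in the form: locally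
represented by a bounded complex of O_X-modules flat over S) form a saturated triangulated
subcategory: the property contains zero, is stable under all shifts, is closed under the middle term
of distinguished triangles, and is stable under retracts. -/
theorem result {X S : Scheme.{u}} (f : X ⟶ S) [Flat f] [LocallyOfFinitePresentation f] :
    ObjectProperty.IsTriangulated (fun E : DCoh.D X => (∀ m : ℤ, DCoh.IsPseudoCoherentD m E) ∧ DCoh.LocHasFiniteRelTorDim f E) ∧
    ObjectProperty.IsStableUnderRetracts (fun E : DCoh.D X => (∀ m : ℤ, DCoh.IsPseudoCoherentD m E) ∧ DCoh.LocHasFiniteRelTorDim f E) := by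
  open Groth.DerivedCoh Groth.DerivedCoh.PCoh in
  have hiso : ∀ {K L : DCoh.D X}, (K ≅ L) →
      ((∀ m : ℤ, DCoh.IsPseudoCoherentD m K) ∧ DCoh.LocHasFiniteRelTorDim f K) →
      (∀ m : ℤ, DCoh.IsPseudoCoherentD m L) ∧ DCoh.LocHasFiniteRelTorDim f L := fun e h =>
    ⟨fun m => isPseudoCoherentD_of_iso e (h.1 m),
      (RelAmp.locHasFiniteRelTorDim_iff _).2 (((RelAmp.locHasFiniteRelTorDim_iff _).1 h.2).of_iso e)⟩
  haveI : ObjectProperty.IsClosedUnderIsomorphisms (fun E : DCoh.D X =>
      (∀ m : ℤ, DCoh.IsPseudoCoherentD m E) ∧ DCoh.LocHasFiniteRelTorDim f E) :=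
    ⟨fun e h => hiso e h⟩
  refine ⟨{ exists_zero := ⟨(HasZeroObject.zero' (DCoh.D X)).zero, isZero_zero _,
              fun m => isPseudoCoherentD_of_isPerfect
                (Groth.KTheory.Perf.isPerfect_of_isZero (isZero_zero _)) m,
              (RelAmp.locHasFiniteRelTorDim_iff _).2 (RelAmp.LocAmp.of_isZero (isZero_zero _))⟩
            isStableUnderShiftBy := fun n => ⟨?_⟩
            ext₂' := ?_ }, ⟨?_⟩⟩
  · rintro K ⟨hpc, hta⟩
    exact ⟨fun m => isPseudoCoherentD_shift (hpc (m + n)) n m (by omega),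
      (RelAmp.locHasFiniteRelTorDim_iff _).2 (((RelAmp.locHasFiniteRelTorDim_iff _).1 hta).shift n)⟩
  · rintro T hT ⟨h₁, t₁⟩ ⟨h₃, t₃⟩
    exact ObjectProperty.le_isoClosure _ _ ⟨fun m => isPseudoCoherentD_obj₂ T hT (h₁ m) (h₃ m),
      (RelAmp.locHasFiniteRelTorDim_iff _).2 (RelAmp.LocAmp.ext hT
        ((RelAmp.locHasFiniteRelTorDim_iff _).1 t₁) ((RelAmp.locHasFiniteRelTorDim_iff _).1 t₃))⟩
  · rintro K L r ⟨hpc, hta⟩
    refine ⟨fun m => ?_, (RelAmp.locHasFiniteRelTorDim_iff _).2
      (RelAmp.LocAmp.retract r.i r.r r.retract ((RelAmp.locHasFiniteRelTorDim_iff _).1 hta))⟩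
    obtain ⟨C, g, h, hT⟩ := Pretriangulated.distinguished_cocone_triangle r.i
    haveI : Mono (r.i⟦(1 : ℤ)⟧') := (SplitMono.mk (r.r⟦(1 : ℤ)⟧')
      (by rw [← Functor.map_comp, r.retract, CategoryTheory.Functor.map_id])).mono
    have h0 : h = 0 := by
      rw [← cancel_mono (r.i⟦(1 : ℤ)⟧'), zero_comp]
      exact Pretriangulated.comp_distTriang_mor_zero₃₁ _ hT
    obtain ⟨e, -⟩ := Pretriangulated.exists_iso_binaryBiproduct_of_distTriang _ hT h0
    exact (isPseudoCoherentD_summands _ _ (isPseudoCoherentD_of_iso e (hpc m))).1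

end Groth.Agent.S7250
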