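import Groth.Statements.S7251
import Groth.Agent.Misc4.QCohDColim

set_option autoImplicit false
universe u
open CategoryTheory CategoryTheory.Limits AlgebraicGeometry
attribute [local instance] HasDerivedCategory.standard
open Perf

namespace Groth.Agent.S7251

/-- Let f : X ⟶ Y be a quasi-compact and quasi-separated morphism of schemes. Assume Rf_* exists and
sends D_QCoh(O_X) into D_QCoh(O_Y), let an adjunction Lf^* ⊣ Rf_* be given as data, and assume the
inclusion functors D_QCoh ⥤ D have (chosen) right adjoints DQ_X and DQ_Y. Then Rf_* ∘ DQ_X = DQ_Y ∘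
Rf_*: for every K ∈ D(O_X) the comparison map Rf_*(DQ_X K) ⟶ DQ_Y(Rf_* K) in D_QCoh(O_Y),
corresponding under the adjunction to Rf_* applied to the counit DQ_X K ⟶ K, is an isomorphism. -/
theorem result {X Y : Scheme.{u}} (f : X ⟶ Y) [QuasiCompact f] [QuasiSeparated f]
    [DCoh.HasRpush f] (h : DCoh.RpushPreservesQCoh f) [DCoh.HasLpull f] (adj : DCoh.Lpull f ⊣ DCoh.Rpush f)
    [(ObjectProperty.ι (DCoh.IsQCohD (X := X))).IsLeftAdjoint] [(ObjectProperty.ι (DCoh.IsQCohD (X := Y))).IsLeftAdjoint]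
    (K : DCoh.D X) :
    IsIso ((Adjunction.ofIsLeftAdjoint (ObjectProperty.ι (DCoh.IsQCohD (X := Y)))).homEquiv
      (⟨(DCoh.Rpush f).obj (((ObjectProperty.ι (DCoh.IsQCohD (X := X))).rightAdjoint.obj K).obj),
        h _ (((ObjectProperty.ι (DCoh.IsQCohD (X := X))).rightAdjoint.obj K).property)⟩ : DCoh.DQCoh Y)
      ((DCoh.Rpush f).obj K)
      ((DCoh.Rpush f).map ((Adjunction.ofIsLeftAdjoint (ObjectProperty.ι (DCoh.IsQCohD (X := X)))).counit.app K))) := by
  rw [isIso_iff_yoneda_map_bijective]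
  intro M
  let aX := Adjunction.ofIsLeftAdjoint (ObjectProperty.ι (DCoh.IsQCohD (X := X)))
  let aY := Adjunction.ofIsLeftAdjoint (ObjectProperty.ι (DCoh.IsQCohD (X := Y)))
  let L : DCoh.DQCoh X := ⟨(DCoh.Lpull f).obj M.obj, Groth.Misc4.QCohDColim.isQCohD_Lpull f M.property⟩
  let Q := (ObjectProperty.ι (DCoh.IsQCohD (X := X))).rightAdjoint.obj K
  let R : DCoh.DQCoh Y := ⟨(DCoh.Rpush f).obj Q.obj, h _ Q.property⟩
  let E : (M ⟶ R) ≃ ((ObjectProperty.ι (DCoh.IsQCohD (X := Y))).obj M ⟶ (DCoh.Rpush f).obj K) :=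
    (ObjectProperty.fullyFaithfulι (DCoh.IsQCohD (X := Y))).homEquiv.trans <|
      (adj.homEquiv M.obj Q.obj).symm.trans <|
        (ObjectProperty.fullyFaithfulι (DCoh.IsQCohD (X := X))).homEquiv.symm.trans <|
          (aX.homEquiv L K).symm.trans (adj.homEquiv M.obj K)
  have key : ∀ g : M ⟶ R, E g =
      (ObjectProperty.ι (DCoh.IsQCohD (X := Y))).map g ≫ (DCoh.Rpush f).map (aX.counit.app K) := by
    intro g
    simp only [E, Equiv.trans_apply, Adjunction.homEquiv_counit, Adjunction.homEquiv_unit]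
    rw [← Adjunction.homEquiv_unit, Adjunction.homEquiv_naturality_right]
    congr 1
    refine (congrArg (adj.homEquiv M.obj Q.obj)
      (((ObjectProperty.fullyFaithfulι (DCoh.IsQCohD (X := X))).homEquiv (X := L) (Y := Q)).apply_symm_apply _)).trans ?_
    exact ((congrArg (adj.homEquiv M.obj Q.obj)
      (adj.homEquiv_counit (X := M.obj) (Y := Q.obj) (g := (ObjectProperty.fullyFaithfulι
        (DCoh.IsQCohD (X := Y))).homEquiv g)).symm).trans (Equiv.apply_symm_apply _ _)).trans rfl
  refine (Function.Bijective.of_comp_iff' (aY.homEquiv M _).symm.bijective _).1 ?_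
  convert E.bijective using 1
  funext g
  rw [key]
  exact (aY.homEquiv_naturality_left_symm g _).trans (congrArg _ (Equiv.symm_apply_apply _ _))

end Groth.Agent.S7251
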