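import Groth.Statements.S7254
import Groth.Agent.Misc4.RFBounded
import Groth.Agent.Misc4.QCohDPerf

set_option autoImplicit false
universe u
open CategoryTheory CategoryTheory.Limits AlgebraicGeometry
attribute [local instance] HasDerivedCategory.standard
open Perf

namespace Groth.Agent.S7254

open Groth.Misc4

/-- Let X be a scheme, F an additive functor from O_X-modules to abelian groups and N ≥ 0 an integer
such that F commutes with countable direct products and RᵖF(G) = 0 (right derived functors computed
with injective resolutions) for every p ≥ N and every quasi-coherent O_X-module G. Assume the total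
right derived functor RF : D(O_X) ⥤ D(Ab) exists. If E ∈ D(O_X) has quasi-coherent cohomology
sheaves and Hⁱ(E) = 0 for i ∉ [a, b], then Hⁱ(RF(E)) = 0 for i ∉ [a, b + N - 1]. -/
theorem result {X : Scheme.{u}} (F : X.Modules ⥤ AddCommGrpCat.{u}) [F.Additive]
    [PreservesLimitsOfShape (Discrete ℕ) F] [HasInjectiveResolutions X.Modules] (N : ℕ)
    (hF : ∀ G : X.Modules, Coh.IsQCoh G → ∀ p : ℕ, N ≤ p → IsZero ((F.rightDerived p).obj G))
    [(F.mapHomotopyCategory (ComplexShape.up ℤ) ⋙ DerivedCategory.Qh).HasRightDerivedFunctor (HomotopyCategory.quasiIso X.Modules (ComplexShape.up ℤ))]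
    (E : DCoh.D X) (hE : DCoh.IsQCohD E) (a b : ℤ) (hab : ∀ i : ℤ, i < a ∨ b < i → IsZero (DCoh.HD E i))
    (i : ℤ) (hi : i < a ∨ b + N - 1 < i) :
    IsZero ((DerivedCategory.homologyFunctor AddCommGrpCat.{u} i).obj
      (((F.mapHomotopyCategory (ComplexShape.up ℤ) ⋙ DerivedCategory.Qh).totalRightDerived DerivedCategory.Qh
        (HomotopyCategory.quasiIso X.Modules (ComplexShape.up ℤ))).obj E)) := by
  let G := F
  let RF := (F.mapHomotopyCategory (ComplexShape.up ℤ) ⋙ DerivedCategory.Qh).totalRightDerived DerivedCategory.Qh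
    (HomotopyCategory.quasiIso X.Modules (ComplexShape.up ℤ))
  let β := (F.mapHomotopyCategory (ComplexShape.up ℤ) ⋙ DerivedCategory.Qh).totalRightDerivedUnit DerivedCategory.Qh
    (HomotopyCategory.quasiIso X.Modules (ComplexShape.up ℤ))
  have key : ∀ (k : ℕ) (Z : DCoh.D X) (b' : ℤ), b' < a + k → DCoh.IsQCohD Z → Z.IsGE a → Z.IsLE b' →
      ∀ i : ℤ, i < a ∨ b' + N - 1 < i → IsZero ((DerivedCategory.homologyFunctor _ i).obj (RF.obj Z)) := by
    intro k
    induction k with
    | zero =>
      intro Z b' hk _ hge hle i _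
      have hz : IsZero Z := (DerivedCategory.TStructure.t (C := X.Modules)).isZero Z b' a (by simpa using hk)
      haveI : Z.IsGE (i + 1) := (DerivedCategory.TStructure.t (C := X.Modules)).isGE_of_isZero hz _
      haveI := RFBounded.isGE_obj F RF β Z (i + 1)
      exact DerivedCategory.isZero_of_isGE _ (i + 1) i (by omega)
    | succ k ih =>
      intro Z b' hk hq hge hle i hi
      haveI := hge
      haveI := hle
      by_cases hlo : i < a
      · haveI := RFBounded.isGE_obj F RF β Z a
        exact DerivedCategory.isZero_of_isGE _ a i hlo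
      obtain ⟨T, hT, h1, ⟨e₂⟩, e₁, ⟨e₃⟩⟩ := Groth.DerivedAdj.exists_top_triangle Z b' (b' - 1) (by omega)
      haveI := h1
      have hge₁ : T.obj₁.IsGE a := (DerivedCategory.isGE_iff _ _).2 fun j hj => by
        by_cases hjb : j ≤ b' - 1
        · exact (DerivedCategory.isZero_of_isGE Z a j hj).of_iso (e₁ j hjb).some
        · exact DerivedCategory.isZero_of_isLE T.obj₁ (b' - 1) j (by omega)
      have hq₁ : DCoh.IsQCohD T.obj₁ := fun j => by
        by_cases hjb : j ≤ b' - 1
        · exact (Groth.QCohMod.isQCoh_iff_of_iso (e₁ j hjb).some).2 (hq j)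
        · exact Groth.Misc4.QCohDPerf.isQCoh_isZero (DerivedCategory.isZero_of_isLE T.obj₁ (b' - 1) j (by omega))
      obtain ⟨δ, hδ⟩ := Groth.DAlg.RFTriangle.exists_distinguished F RF β T hT
      refine IsZero.of_iso ?_ ((DerivedCategory.homologyFunctor _ i).mapIso (RF.mapIso e₂.symm))
      refine (DerivedCategory.HomologySequence.exact₂ _ hδ i).isZero_of_both_zeros ?_ ?_
      · exact (ih T.obj₁ (b' - 1) (by omega) hq₁ hge₁ h1 i
          (Or.inr (by rcases hi with h | h <;> omega))).eq_of_src _ _
      · refine IsZero.eq_of_tgt (IsZero.of_iso ?_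
          ((DerivedCategory.homologyFunctor _ i).mapIso (RF.mapIso e₃))) _ _
        rcases hi with h | h
        · omega
        by_cases hib : i < b'
        · haveI := RFBounded.isGE_obj F RF β
            ((DerivedCategory.singleFunctor X.Modules b').obj ((DerivedCategory.homologyFunctor _ b').obj Z)) b'
          exact DerivedCategory.isZero_of_isGE _ b' i hib
        obtain ⟨e⟩ := RFBounded.nonempty_homology_single F RF β
          ((DerivedCategory.homologyFunctor _ b').obj Z) b' i (i - b').toNat (by omega)
        exact (hF _ (hq b') _ (by omega)).of_iso e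
  refine key (b - a + 1).toNat E b (by omega) hE ?_ ?_ i hi
  · exact (DerivedCategory.isGE_iff _ _).2 fun j hj => hab j (.inl hj)
  · exact (DerivedCategory.isLE_iff _ _).2 fun j hj => hab j (.inr hj)

end Groth.Agent.S7254
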