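import Groth.Statements.S7260
import Groth.Agent.QCohTower.Modules
-- import your own Groth.Agent.* helpers here

set_option autoImplicit false
universe u
open CategoryTheory CategoryTheory.Limits AlgebraicGeometry
attribute [local instance] HasDerivedCategory.standard
open Perf

namespace Groth.Agent.S7260

section Helpers

open Opposite Groth.Agent.QCohTower Groth.Agent.TowerLimOne

variable {X : Scheme.{u}}

local instance : HasProductsOfShape ℕ X.Modules :=
  inferInstanceAs (HasProductsOfShape ℕ (SheafOfModules.{u} X.ringCatSheaf))

lemma isRlim_aux {E : ℕᵒᵖ ⥤ X.Modules} (h : Hyp E) (I : InjectiveResolution E)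
    [HasProduct fun n => DCoh.inD X (E.obj (op n))] :
    DCoh.IsRlim (fun n => DCoh.inD X (E.obj (op n)))
      (fun n => (DerivedCategory.singleFunctor X.Modules 0).map (E.map (homOfLE (Nat.le_succ n)).op))
      (DCoh.inD X (Limits.limit E)) :=
  Groth.Agent.QCohTower.isRlim (resTower I) (isResolution_lim I (exact_lim I h)) (injective_limit_X I)
    (fun n => limit.π E (op n)) (fun n => limMap_π (I.ι.f 0 : E ⟶ I.cocomplex.X 0) (op n))

end Helpers

/-- Let X be a scheme and (F_n)_{n ≥ 0} an inverse system of quasi-coherent O_X-modules whose transition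
maps F_{n+1} ⟶ F_n are surjective for n ≥ 1. Then R lim F_n = lim F_n, that is, lim F_n placed in
degree 0 is a derived limit in D(O_X) of the system (F_n[0]) (granted the countable product exists
there), and H^p(U, lim F_n) = 0 for every affine open U ⊆ X and every p > 0. (The published
statement is phrased for the system of q-th cohomology sheaves of an inverse system in D_QCoh(O_X);
the proof uses only that these form an inverse system of quasi-coherent modules with surjective
transition maps, which is the form stated here.) -/
theorem result {X : Scheme.{u}} (F : ℕ → X.Modules)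
    (hF : ∀ n, Coh.IsQCoh (F n)) (t : ∀ n, F (n + 1) ⟶ F n) (ht : ∀ n, 1 ≤ n → Epi (t n))
    [HasProduct fun n => DCoh.inD X (F n)] :
    DCoh.IsRlim (fun n => DCoh.inD X (F n)) (fun n => (DerivedCategory.singleFunctor X.Modules 0).map (t n))
        (DCoh.inD X (Limits.limit (Functor.ofOpSequence t))) ∧
      ∀ (U : X.Opens), IsAffineOpen U → ∀ p : ℕ, 0 < p →
        Subsingleton (Coh.HHon X (Limits.limit (Functor.ofOpSequence t)) U p) := by
  have hmap : ∀ n, (Functor.ofOpSequence t).map (homOfLE (Nat.le_succ n)).op = t n := fun n =>
    Functor.ofOpSequence_map_homOfLE_succ t n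
  have hE : Groth.Agent.QCohTower.Hyp (Functor.ofOpSequence t) :=
    { qcoh := fun n => hF n
      epi := fun n hn => by rw [hmap]; exact ht n hn }
  haveI : HasInjectiveResolutions (ℕᵒᵖ ⥤ X.Modules) :=
    haveI : EnoughInjectives (ℕᵒᵖ ⥤ X.Modules) := (Groth.Agent.S14023.result X.Modules).2 inferInstance
    inferInstance
  let I := injectiveResolution (Functor.ofOpSequence t)
  haveI : HasProduct fun n => DCoh.inD X ((Functor.ofOpSequence t).obj (Opposite.op n)) :=
    (inferInstance : HasProduct fun n => DCoh.inD X (F n))
  refine ⟨?_, fun U hU p hp => ?_⟩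
  · have h := isRlim_aux hE I
    have he : (fun n => (DerivedCategory.singleFunctor X.Modules 0).map
        ((Functor.ofOpSequence t).map (homOfLE (Nat.le_succ n)).op)) =
        fun n => (DerivedCategory.singleFunctor X.Modules 0).map (t n) :=
      funext fun n => congrArg (fun z => (DerivedCategory.singleFunctor X.Modules 0).map z) (hmap n)
    exact he ▸ h
  · obtain ⟨q, rfl⟩ := Nat.exists_eq_add_of_le' hp
    obtain ⟨e⟩ := Groth.CohBase.nonempty_equiv_HHon (Limits.limit (Functor.ofOpSequence t)) U (q + 1)
    haveI := Groth.Agent.QCohTower.subsingleton_HU_limit I hE hU q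
    exact @Equiv.subsingleton _ _ e.toEquiv this

end Groth.Agent.S7260
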