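import Groth.Statements.S7262
import Groth.Agent.DerivedCoh.DMinus.MapComp
import Groth.Agent.SerreDMinus.Main
import Groth.Agent.CohDbEquiv.Main
import Groth.Agent.QCohMod.Coherent
import Groth.Agent.QCohMod.FTCriterion

set_option autoImplicit false
set_option linter.style.haveILetI false
universe u
open CategoryTheory CategoryTheory.Limits AlgebraicGeometry
attribute [local instance] HasDerivedCategory.standard
open Perf

namespace Groth.Agent.S7262

/-- Let X be a Noetherian scheme. Granting that quasi-coherent O_X-modules, and coherent O_X-modules,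
each contain zero and are closed under kernels, cokernels and finite products in all O_X-modules
(true facts carried as instance hypotheses; they make QCoh(O_X) and Coh(O_X) abelian categories) and
that the inclusion Coh(O_X) ⥤ QCoh(O_X) is exact, the induced functor D(Coh(O_X)) ⥤ D(QCoh(O_X))
restricts to an equivalence from D⁻(Coh(O_X)) onto the bounded above objects of D(QCoh(O_X)) with
coherent cohomology: it is fully faithful on bounded above objects, and every bounded above object
of D(QCoh(O_X)) all of whose cohomology objects are coherent is in its essential image, as the image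
of a bounded above object. -/
theorem result (X : Scheme.{u}) [IsNoetherian X]
    [ObjectProperty.ContainsZero (fun M : X.Modules => Coh.IsQCoh M)] [ObjectProperty.IsClosedUnderKernels (fun M : X.Modules => Coh.IsQCoh M)]
    [ObjectProperty.IsClosedUnderCokernels (fun M : X.Modules => Coh.IsQCoh M)] [ObjectProperty.IsClosedUnderFiniteProducts (fun M : X.Modules => Coh.IsQCoh M)]
    [ObjectProperty.ContainsZero (fun M : X.Modules => Coh.IsCoh M)] [ObjectProperty.IsClosedUnderKernels (fun M : X.Modules => Coh.IsCoh M)]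
    [ObjectProperty.IsClosedUnderCokernels (fun M : X.Modules => Coh.IsCoh M)] [ObjectProperty.IsClosedUnderFiniteProducts (fun M : X.Modules => Coh.IsCoh M)]
    [PreservesFiniteLimits (ObjectProperty.lift (fun M : X.Modules => Coh.IsQCoh M) (ObjectProperty.ι (fun M : X.Modules => Coh.IsCoh M)) (fun M => M.property.1))]
    [PreservesFiniteColimits (ObjectProperty.lift (fun M : X.Modules => Coh.IsQCoh M) (ObjectProperty.ι (fun M : X.Modules => Coh.IsCoh M)) (fun M => M.property.1))] :
    (∀ (M N : DerivedCategory (ObjectProperty.FullSubcategory (fun M : X.Modules => Coh.IsCoh M))) (b : ℤ), M.IsLE b → N.IsLE b →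
      Function.Bijective (fun φ : M ⟶ N => (ObjectProperty.lift (fun M : X.Modules => Coh.IsQCoh M) (ObjectProperty.ι (fun M : X.Modules => Coh.IsCoh M)) (fun M => M.property.1)).mapDerivedCategory.map φ)) ∧
    ∀ (K : DerivedCategory (ObjectProperty.FullSubcategory (fun M : X.Modules => Coh.IsQCoh M))) (b : ℤ), K.IsLE b →
      (∀ i : ℤ, Coh.IsCoh ((DerivedCategory.homologyFunctor (ObjectProperty.FullSubcategory (fun M : X.Modules => Coh.IsQCoh M)) i).obj K).obj) →
      ∃ M : DerivedCategory (ObjectProperty.FullSubcategory (fun M : X.Modules => Coh.IsCoh M)), M.IsLE b ∧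
        Nonempty ((ObjectProperty.lift (fun M : X.Modules => Coh.IsQCoh M) (ObjectProperty.ι (fun M : X.Modules => Coh.IsCoh M)) (fun M => M.property.1)).mapDerivedCategory.obj M ≅ K) := by
  let qc : ObjectProperty X.Modules := fun M => Coh.IsQCoh M
  let co : ObjectProperty X.Modules := fun M => Coh.IsCoh M
  let L := ObjectProperty.lift qc co.ι (fun M => M.property.1)
  haveI : PreservesFiniteLimits L := ‹_›
  haveI : PreservesFiniteColimits L := ‹_›
  let P : ObjectProperty qc.FullSubcategory := fun M => Coh.IsCoh M.obj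
  have hq : ∀ M : qc.FullSubcategory, M.obj.IsQuasicoherent := fun M => M.property
  have hmono : ∀ {M N : qc.FullSubcategory} (f : M ⟶ N) [Mono f], Mono f.hom := fun {M N} f _ => by
    haveI := qc.preservesKernels_ι f
    haveI := (inferInstance : Mono f)
    exact Preadditive.mono_of_isZero_kernel _
      ((qc.ι.map_isZero (isZero_kernel_of_mono f)).of_iso (PreservesKernel.iso qc.ι f).symm)
  have hepi : ∀ {M N : qc.FullSubcategory} (f : M ⟶ N) [Epi f], Epi f.hom := fun {M N} f _ => by
    haveI := qc.preservesCokernels_ι f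
    exact Preadditive.epi_of_isZero_cokernel _
      ((qc.ι.map_isZero (isZero_cokernel_of_epi f)).of_iso (PreservesCokernel.iso qc.ι f).symm)
  haveI hcl : P.IsClosedUnderIsomorphisms :=
    ⟨fun {M N} e h => Groth.QCohMod.isCoh_of_iso (qc.ι.mapIso e) h⟩
  haveI : P.ContainsZero := by
    obtain ⟨Z, hZ, hZc⟩ := co.exists_prop_of_containsZero
    refine ⟨⟨⟨Z, hZc.1⟩, ?_, hZc⟩⟩
    rw [IsZero.iff_id_eq_zero]
    exact ObjectProperty.hom_ext _ (hZ.eq_of_src _ _)
  haveI : P.IsClosedUnderSubobjects := ⟨fun {M N} f _ h => by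
    haveI := hmono f
    haveI := hq M
    exact Groth.QCohMod.isCoh_of_mono f.hom h⟩
  haveI : P.IsClosedUnderQuotients := ⟨fun {M N} f _ h => by
    haveI := hepi f
    exact ⟨hq N, Groth.QCohMod.isFT_of_epi f.hom h.2⟩⟩
  haveI : P.IsClosedUnderExtensions := ⟨fun {S} hS h₁ h₃ => by
    haveI := hS.mono_f
    haveI := hS.epi_g
    haveI := hmono S.f
    haveI := hepi S.g
    haveI := fun (M N : qc.FullSubcategory) (f : M ⟶ N) => qc.preservesKernels_ι f
    haveI := fun (M N : qc.FullSubcategory) (f : M ⟶ N) => qc.preservesCokernels_ι f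
    haveI : PreservesFiniteLimits qc.ι := qc.ι.preservesFiniteLimits_of_preservesKernels
    haveI : PreservesFiniteColimits qc.ι := qc.ι.preservesFiniteColimits_of_preservesCokernels
    haveI : (S.map qc.ι).X₂.IsQuasicoherent := hq S.X₂
    exact Groth.QCohMod.isCoh_of_shortExact (hS.map_of_exact qc.ι) h₁ h₃⟩
  haveI : P.IsSerreClass := {}
  haveI : PreservesFiniteLimits P.ι := by
    haveI := fun (M N : P.FullSubcategory) (f : M ⟶ N) => P.preservesKernels_ι f
    exact P.ι.preservesFiniteLimits_of_preservesKernels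
  haveI : PreservesFiniteColimits P.ι := by
    haveI := fun (M N : P.FullSubcategory) (f : M ⟶ N) => P.preservesCokernels_ι f
    exact P.ι.preservesFiniteColimits_of_preservesCokernels
  have hlift : Groth.Agent.SerreDMinus.HasLifts P := fun A B π _ hB => by
    haveI := hepi π
    haveI := hq A
    obtain ⟨G, g, hG, he⟩ := Groth.CohDbEquiv.exists_coh_epi hB π.hom
    let G' : qc.FullSubcategory := ⟨G, hG.1⟩
    let g' : G' ⟶ A := ObjectProperty.homMk g
    refine ⟨image g', image.ι g', inferInstance, P.prop_of_epi (factorThruImage g') hG, ?_⟩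
    haveI : Epi (g' ≫ π) := qc.ι.epi_of_epi_map he
    exact epi_of_epi_fac (f := factorThruImage g') (h := g' ≫ π) (by rw [image.fac_assoc])
  let E : co.FullSubcategory ⥤ P.FullSubcategory := ObjectProperty.lift P L fun M => M.property
  let E' : P.FullSubcategory ⥤ co.FullSubcategory := ObjectProperty.lift co (P.ι ⋙ qc.ι) fun M => M.property
  let e₁ : 𝟭 co.FullSubcategory ≅ E ⋙ E' := Iso.refl _
  let e₂ : 𝟭 P.FullSubcategory ≅ E' ⋙ E := Iso.refl _
  let Eq : co.FullSubcategory ≌ P.FullSubcategory := CategoryTheory.Equivalence.mk E E' e₁ e₂.symm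
  haveI : E.IsEquivalence := Eq.isEquivalence_functor
  haveI : E'.IsEquivalence := Eq.isEquivalence_inverse
  haveI : E.Additive := Functor.additive_of_preserves_binary_products _
  haveI : E'.Additive := Functor.additive_of_preserves_binary_products _
  haveI := Groth.DerivedCoh.DMinus.fullyFaithful_of_inverse E E' e₁ e₂
  obtain ⟨γ⟩ := Groth.DerivedCoh.DMinus.nonempty_comp_iso E P.ι L (Iso.refl _)
  refine ⟨fun M N b hM _ => ?_, fun K b hK hc => ?_⟩
  · have h := (Groth.Agent.SerreDMinus.bijective hlift b (E.mapDerivedCategory.obj M)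
      (E.mapDerivedCategory.obj N) (Groth.DerivedCoh.DMinus.isLE_map E M b hM)).comp
      (Functor.FullyFaithful.map_bijective (Functor.FullyFaithful.ofFullyFaithful E.mapDerivedCategory) M N)
    let θ := Iso.homCongr (γ.app M) (γ.app N)
    have h' := θ.bijective.comp h
    refine (congrArg Function.Bijective (funext fun φ => ?_)).mp h'
    change (γ.app M).inv ≫ P.ι.mapDerivedCategory.map (E.mapDerivedCategory.map φ) ≫ (γ.app N).hom =
      L.mapDerivedCategory.map φ
    rw [Iso.app_inv, Iso.app_hom]
    exact (NatIso.naturality_1 γ φ)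
  · obtain ⟨M', hM', ⟨e⟩⟩ := Groth.Agent.SerreDMinus.essImage hlift b K hK hc
    haveI := Groth.DerivedCoh.DMinus.fullyFaithful_of_inverse E' E e₂ e₁
    refine ⟨E'.mapDerivedCategory.obj M', Groth.DerivedCoh.DMinus.isLE_map E' M' b hM', ?_⟩
    haveI : PreservesFiniteLimits (E' ⋙ E) := comp_preservesFiniteLimits E' E
    haveI : PreservesFiniteColimits (E' ⋙ E) := comp_preservesFiniteColimits E' E
    obtain ⟨d⟩ := Groth.DerivedCoh.DMinus.nonempty_comp_iso E' E (E' ⋙ E) (Iso.refl _)
    obtain ⟨d'⟩ := Groth.DerivedCoh.DMinus.nonempty_id_iso (E' ⋙ E) e₂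
    exact ⟨(γ.app _).symm ≪≫ P.ι.mapDerivedCategory.mapIso ((d ≪≫ d'.symm).app M') ≪≫ e⟩

end Groth.Agent.S7262
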