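import Groth.Statements.S7265
import Groth.Agent.Misc4.ApproxExtend

set_option autoImplicit false
universe u
open CategoryTheory CategoryTheory.Limits AlgebraicGeometry
attribute [local instance] HasDerivedCategory.standard
open Perf

namespace Groth.Agent.S7265

/-- Let X be a scheme, U ⊆ X an open subscheme, T ⊆ U a subset closed in X, E ∈ D(O_X) with
quasi-coherent cohomology sheaves and m ∈ ℤ. If approximation holds for (T, E|_U, m) on U (there are
a perfect P ∈ D(O_U) supported on T and P ⟶ E|_U inducing isomorphisms on Hⁱ for i > m and a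
surjection on Hᵐ) and the sheaves Hⁱ(E), i ≥ m, are supported on T, then approximation holds for (T,
E, m) on X. -/
theorem result {X : Scheme.{u}} (U : X.Opens) (T : Set ↥X) (hT : IsClosed T)
    (hTU : T ⊆ (U : Set ↥X)) (E : DCoh.D X) (hE : DCoh.IsQCohD E) (m : ℤ)
    (happ : ∃ (P : DCoh.D (U : Scheme.{u})) (α : P ⟶ (DCoh.restrictD U.ι).obj E), DCoh.IsPerfect P ∧
      (∀ i : ℤ, CohB1.support (DCoh.HD P i) ⊆ {v : ↥(U : Scheme.{u}) | U.ι.base v ∈ T}) ∧
      (∀ i : ℤ, m < i → IsIso ((DerivedCategory.homologyFunctor _ i).map α)) ∧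
      Epi ((DerivedCategory.homologyFunctor _ m).map α))
    (hsupp : ∀ i : ℤ, m ≤ i → CohB1.support (DCoh.HD E i) ⊆ T) :
    ∃ (P : DCoh.D X) (α : P ⟶ E), DCoh.IsPerfect P ∧ (∀ i : ℤ, CohB1.support (DCoh.HD P i) ⊆ T) ∧
      (∀ i : ℤ, m < i → IsIso ((DerivedCategory.homologyFunctor X.Modules i).map α)) ∧
      Epi ((DerivedCategory.homologyFunctor X.Modules m).map α) := by
  haveI := Groth.Misc4.ApproxExtend.preservesFiniteLimits_restrictFunctor U.ι
  exact Groth.Misc4.ApproxExtend.approx_of_open hT hTU E m happ hsupp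

end Groth.Agent.S7265
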