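import Groth.Statements.S7271
import Groth.Agent.DerivedAdj.Basic
import Groth.Agent.DerivedCoh.KFlat.RpushComp
import Groth.Agent.SchemeMorphisms.PrinParts.FlatExact
import Groth.Agent.QCohMod.QCohCatAbelian
import Groth.Agent.QCohMod.PullbackQCoh

set_option autoImplicit false
universe u
open CategoryTheory CategoryTheory.Limits AlgebraicGeometry
attribute [local instance] HasDerivedCategory.standard
open Perf

namespace Groth.Agent.S7271

open CategoryTheory CategoryTheory.Limits in
theorem nonempty_mapDerivedCategory_square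
    {A B B' C : Type (u+1)} [Category.{u} A] [Category.{u} B] [Category.{u} B'] [Category.{u} C]
    [Abelian A] [Abelian B] [Abelian B'] [Abelian C]
    (F : A ⥤ B) (G : B ⥤ C) (F' : A ⥤ B') (G' : B' ⥤ C)
    [F.Additive] [G.Additive] [F'.Additive] [G'.Additive]
    [PreservesFiniteLimits F] [PreservesFiniteColimits F] [PreservesFiniteLimits G] [PreservesFiniteColimits G]
    [PreservesFiniteLimits F'] [PreservesFiniteColimits F'] [PreservesFiniteLimits G'] [PreservesFiniteColimits G']
    (e : F ⋙ G ≅ F' ⋙ G') :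
    Nonempty (F.mapDerivedCategory ⋙ G.mapDerivedCategory ≅
      F'.mapDerivedCategory ⋙ G'.mapDerivedCategory) := by
  let up := ComplexShape.up ℤ
  let c : F.mapHomologicalComplex up ⋙ G.mapHomologicalComplex up ≅
      F'.mapHomologicalComplex up ⋙ G'.mapHomologicalComplex up :=
    NatIso.ofComponents (fun K => HomologicalComplex.Hom.isoOfComponents (fun i => e.app (K.X i))
      (fun i j _ => (e.hom.naturality (K.d i j)).symm)) fun {K L} φ => by
        ext i
        exact e.hom.naturality (φ.f i)
  let l : DerivedCategory.Q ⋙ F.mapDerivedCategory ⋙ G.mapDerivedCategory ≅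
      (F.mapHomologicalComplex up ⋙ G.mapHomologicalComplex up) ⋙ DerivedCategory.Q :=
    Functor.isoWhiskerRight F.mapDerivedCategoryFactors G.mapDerivedCategory ≪≫
      Functor.isoWhiskerLeft (F.mapHomologicalComplex up) G.mapDerivedCategoryFactors
  let l' : DerivedCategory.Q ⋙ F'.mapDerivedCategory ⋙ G'.mapDerivedCategory ≅
      (F'.mapHomologicalComplex up ⋙ G'.mapHomologicalComplex up) ⋙ DerivedCategory.Q :=
    Functor.isoWhiskerRight F'.mapDerivedCategoryFactors G'.mapDerivedCategory ≪≫
      Functor.isoWhiskerLeft (F'.mapHomologicalComplex up) G'.mapDerivedCategoryFactors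
  exact ⟨Localization.liftNatIso DerivedCategory.Q (HomologicalComplex.quasiIso A up)
    (DerivedCategory.Q ⋙ F.mapDerivedCategory ⋙ G.mapDerivedCategory)
    (DerivedCategory.Q ⋙ F'.mapDerivedCategory ⋙ G'.mapDerivedCategory) _ _
    (l ≪≫ Functor.isoWhiskerRight c DerivedCategory.Q ≪≫ l'.symm)⟩

/-- Let f : X ⟶ Y be a quasi-compact, quasi-separated and flat morphism of schemes. Granting that
quasi-coherent modules on X and on Y contain zero and are closed under kernels, cokernels and finite
products, with exact inclusions (instance hypotheses making QCoh abelian), let Q_X and Q_Y be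
coherators (right adjoints of the inclusions QCoh ⥤ Mod, given with their adjunctions), let RQ_X,
RQ_Y be their total right derived functors and Φ the total right derived functor of f_* : QCoh(O_X)
⥤ QCoh(O_Y) (existence binders; f_* preserves quasi-coherence by hypothesis hf). Then RQ_Y ∘ Rf_* =
Φ ∘ RQ_X as functors D(O_X) ⥤ D(QCoh(O_Y)) (existence of a natural isomorphism only). -/
theorem result {X Y : Scheme.{u}} (f : X ⟶ Y)
    [QuasiCompact f] [QuasiSeparated f] [Flat f] [DCoh.HasRpush f]
    [ObjectProperty.ContainsZero (fun M : X.Modules => Coh.IsQCoh M)] [ObjectProperty.IsClosedUnderKernels (fun M : X.Modules => Coh.IsQCoh M)]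
    [ObjectProperty.IsClosedUnderCokernels (fun M : X.Modules => Coh.IsQCoh M)] [ObjectProperty.IsClosedUnderFiniteProducts (fun M : X.Modules => Coh.IsQCoh M)]
    [PreservesFiniteLimits (ObjectProperty.ι (fun M : X.Modules => Coh.IsQCoh M))] [PreservesFiniteColimits (ObjectProperty.ι (fun M : X.Modules => Coh.IsQCoh M))]
    [ObjectProperty.ContainsZero (fun M : Y.Modules => Coh.IsQCoh M)] [ObjectProperty.IsClosedUnderKernels (fun M : Y.Modules => Coh.IsQCoh M)]
    [ObjectProperty.IsClosedUnderCokernels (fun M : Y.Modules => Coh.IsQCoh M)] [ObjectProperty.IsClosedUnderFiniteProducts (fun M : Y.Modules => Coh.IsQCoh M)]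
    [PreservesFiniteLimits (ObjectProperty.ι (fun M : Y.Modules => Coh.IsQCoh M))] [PreservesFiniteColimits (ObjectProperty.ι (fun M : Y.Modules => Coh.IsQCoh M))]
    (QX : X.Modules ⥤ ObjectProperty.FullSubcategory (fun M : X.Modules => Coh.IsQCoh M)) (adjX : ObjectProperty.ι (fun M : X.Modules => Coh.IsQCoh M) ⊣ QX)
    (QY : Y.Modules ⥤ ObjectProperty.FullSubcategory (fun M : Y.Modules => Coh.IsQCoh M)) (adjY : ObjectProperty.ι (fun M : Y.Modules => Coh.IsQCoh M) ⊣ QY)
    [QX.Additive] [QY.Additive]
    [(QX.mapHomotopyCategory (ComplexShape.up ℤ) ⋙ DerivedCategory.Qh).HasRightDerivedFunctor (HomotopyCategory.quasiIso X.Modules (ComplexShape.up ℤ))] [(QY.mapHomotopyCategory (ComplexShape.up ℤ) ⋙ DerivedCategory.Qh).HasRightDerivedFunctor (HomotopyCategory.quasiIso Y.Modules (ComplexShape.up ℤ))]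
    (hf : ∀ M : X.Modules, Coh.IsQCoh M → Coh.IsQCoh ((Scheme.Modules.pushforward f).obj M))
    [(ObjectProperty.lift (fun M : Y.Modules => Coh.IsQCoh M) (ObjectProperty.ι (fun M : X.Modules => Coh.IsQCoh M) ⋙ Scheme.Modules.pushforward f) (fun M => hf M.obj M.property)).Additive]
    [((ObjectProperty.lift (fun M : Y.Modules => Coh.IsQCoh M) (ObjectProperty.ι (fun M : X.Modules => Coh.IsQCoh M) ⋙ Scheme.Modules.pushforward f) (fun M => hf M.obj M.property)).mapHomotopyCategory (ComplexShape.up ℤ) ⋙ DerivedCategory.Qh).HasRightDerivedFunctor (HomotopyCategory.quasiIso (ObjectProperty.FullSubcategory (fun M : X.Modules => Coh.IsQCoh M)) (ComplexShape.up ℤ))] :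
    Nonempty (DCoh.Rpush f ⋙ (QY.mapHomotopyCategory (ComplexShape.up ℤ) ⋙ DerivedCategory.Qh).totalRightDerived DerivedCategory.Qh (HomotopyCategory.quasiIso Y.Modules (ComplexShape.up ℤ)) ≅
      (QX.mapHomotopyCategory (ComplexShape.up ℤ) ⋙ DerivedCategory.Qh).totalRightDerived DerivedCategory.Qh (HomotopyCategory.quasiIso X.Modules (ComplexShape.up ℤ)) ⋙
        ((ObjectProperty.lift (fun M : Y.Modules => Coh.IsQCoh M) (ObjectProperty.ι (fun M : X.Modules => Coh.IsQCoh M) ⋙ Scheme.Modules.pushforward f) (fun M => hf M.obj M.property)).mapHomotopyCategory (ComplexShape.up ℤ) ⋙ DerivedCategory.Qh).totalRightDerived DerivedCategory.Qh (HomotopyCategory.quasiIso (ObjectProperty.FullSubcategory (fun M : X.Modules => Coh.IsQCoh M)) (ComplexShape.up ℤ))) := by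
  let PX : ObjectProperty X.Modules := fun M => Coh.IsQCoh M
  let PY : ObjectProperty Y.Modules := fun M => Coh.IsQCoh M
  let pb := Scheme.Modules.pullback f
  let adjf := Scheme.Modules.pullbackPushforwardAdjunction f
  haveI : pb.Additive := adjf.left_adjoint_additive
  haveI : PreservesFiniteLimits pb := Groth.PrinPartsAux.preservesFiniteLimits_pullback f
  haveI : PreservesFiniteColimits pb := by
    haveI := adjf.leftAdjoint_preservesColimits
    infer_instance
  let L : PY.FullSubcategory ⥤ PX.FullSubcategory :=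
    PX.lift (PY.ι ⋙ pb) fun M =>
      haveI : M.obj.IsQuasicoherent := M.property
      Groth.QCohMod.isQCoh_pullback_obj f M.obj
  let R : PX.FullSubcategory ⥤ PY.FullSubcategory :=
    PY.lift (PX.ι ⋙ Scheme.Modules.pushforward f) fun M => hf M.obj M.property
  let adjq : L ⊣ R := adjf.restrictFullyFaithful PY.fullyFaithfulι PX.fullyFaithfulι (Iso.refl _) (Iso.refl _)
  haveI : L.Additive := adjq.left_adjoint_additive
  haveI : PreservesFiniteColimits L := by
    haveI := adjq.leftAdjoint_preservesColimits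
    infer_instance
  haveI : PreservesFiniteLimits (L ⋙ PX.ι) := inferInstanceAs (PreservesFiniteLimits (PY.ι ⋙ pb))
  haveI : PreservesFiniteLimits L := preservesFiniteLimits_of_reflects_of_preserves L PX.ι
  have hQX : Groth.DerivedAdj.EnoughKInj PX.FullSubcategory := fun K => by
    haveI : IsGrothendieckAbelian.{u} PX.FullSubcategory :=
      Groth.QCohMod.isGrothendieckAbelian_qcoh X
    obtain ⟨N, j, hj⟩ := Groth.DerivedCoh.KInjRes.exists_functorial (A := PX.FullSubcategory)
    exact ⟨N.obj K, j.app K, (hj K).2.2.1, (hj K).2.1⟩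
  let a1 := Groth.DerivedAdj.derivedAdj adjY (Groth.DerivedCoh.KFlat.enoughKInj Y)
  let a2 : pb.mapDerivedCategory ⊣ DCoh.Rpush f :=
    Groth.DerivedAdj.derivedAdj adjf (Groth.DerivedCoh.KFlat.enoughKInj X)
  let a3 := Groth.DerivedAdj.derivedAdj adjX (Groth.DerivedCoh.KFlat.enoughKInj X)
  let a4 := Groth.DerivedAdj.derivedAdj adjq hQX
  obtain ⟨e⟩ := nonempty_mapDerivedCategory_square PY.ι pb L PX.ι (Iso.refl _)
  exact ⟨((a1.comp a2).ofNatIsoLeft e).rightAdjointUniq (a4.comp a3)⟩

end Groth.Agent.S7271
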