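import Groth.Statements.S7275
import Groth.Agent.DerivedCoh.RelPerfectFP


set_option autoImplicit false
universe u
open CategoryTheory CategoryTheory.Limits AlgebraicGeometry
attribute [local instance] HasDerivedCategory.standard
open Perf

namespace Groth.Agent.S7275

/-- Let f : X ⟶ S be flat and locally of finite presentation and E ∈ D(O_X). Then E is S-perfect
(pseudo-coherent, and locally on X represented by a bounded complex of O_X-modules flat over S) if
and only if E satisfies the alternative definition of relative perfectness: locally on X, E becomes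
isomorphic in the derived category to a bounded complex whose terms are O_X-modules of finite
presentation that are S-flat (every point has an open neighbourhood V such that the restriction to V
of any representing complex is isomorphic in D(O_V) to such a complex). -/
theorem result {X S : Scheme.{u}} (f : X ⟶ S)
    [Flat f] [LocallyOfFinitePresentation f] (E : DCoh.D X) :
    ((∀ m : ℤ, DCoh.IsPseudoCoherentD m E) ∧ DCoh.LocHasFiniteRelTorDim f E) ↔
      ∀ x : X, ∃ V : X.Opens, x ∈ V ∧ ∀ F : CochainComplex X.Modules ℤ, Nonempty (DCoh.toD X F ≅ E) →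
        ∃ (G : CochainComplex (V : Scheme.{u}).Modules ℤ) (a b : ℤ), DCoh.VanishesOutside G a b ∧
          (∀ i : ℤ, CohB1.IsFP (G.X i) ∧ FlatMod.IsFlatOver (V.ι ≫ f) (G.X i)) ∧
          Nonempty (DerivedCategory.Q.obj ((DCoh.restrictCx V).obj F) ≅ DerivedCategory.Q.obj G) := by
  open Groth.DerivedCoh Groth.DerivedCoh.PCoh Groth.KTheory.Perf in
  constructor
  · rintro ⟨hpc, hta⟩ x
    obtain ⟨V, G, a, b, hx, hG, hterms, ⟨e⟩⟩ := RelPerfectFP.exists_fp_flat_model f hpc
      ((RelAmp.locHasFiniteRelTorDim_iff _).1 hta) x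
    exact ⟨V, hx, fun F ⟨i⟩ => ⟨G, a, b, hG, hterms,
      ⟨(rdQIso V.ι F).symm ≪≫ (Rd V.ι).mapIso i ≪≫ e.symm⟩⟩⟩
  · intro h
    obtain ⟨F, ⟨i⟩⟩ := exists_rep E
    have key : ∀ x : X, ∃ (V : X.Opens) (G : CochainComplex (V : Scheme.{u}).Modules ℤ) (a b : ℤ),
        x ∈ V ∧ DCoh.VanishesOutside G a b ∧
        (∀ k : ℤ, CohB1.IsFP (G.X k) ∧ FlatMod.IsFlatOver (V.ι ≫ f) (G.X k)) ∧
        Nonempty (DCoh.toD _ G ≅ (Rd V.ι).obj E) := fun x => by
      obtain ⟨V, hx, hV⟩ := h x
      obtain ⟨G, a, b, hG, hterms, ⟨e⟩⟩ := hV F ⟨i⟩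
      exact ⟨V, G, a, b, hx, hG, hterms, ⟨e.symm ≪≫ (rdQIso V.ι F).symm ≪≫ (Rd V.ι).mapIso i⟩⟩
    refine ⟨fun m => isPseudoCoherentD_of_local fun x => ?_,
      (RelAmp.locHasFiniteRelTorDim_iff _).2 fun x => ?_⟩
    · obtain ⟨V, G, a, b, hx, hG, hterms, ⟨e⟩⟩ := key x
      exact ⟨V, hx, isPseudoCoherentD_of_iso e (RelPerfectFP.pc_of_bounded (V.ι ≫ f) G hG hterms m)⟩
    · obtain ⟨V, G, a, b, hx, hG, hterms, e⟩ := key x
      exact ⟨V, a, b, hx, fun y hy => (RelAmp.ampAt_rd_iff V.ι ⟨y, hy⟩ f E a b).1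
        (RelAmp.ampAt_of_relFlatAmp ⟨G, hG, fun k => (hterms k).2, e⟩ ⟨y, hy⟩)⟩

end Groth.Agent.S7275
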