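import Groth.Statements.S7276
import Groth.Agent.DerivedCoh.HomVanish
import Groth.Agent.AdicLinTop.HomologyCoprod
import Groth.Agent.QCohMod.Sections
import Groth.Agent.Misc4.OpenImmApprox

set_option autoImplicit false
universe u
open CategoryTheory CategoryTheory.Limits AlgebraicGeometry
attribute [local instance] HasDerivedCategory.standard
open Perf

namespace Groth.Agent.S7276

open Groth.DerivedCoh Groth.DerivedCoh.PCoh Pretriangulated Groth.QCohMod

/-- one minus a shift by a locally nilpotent endomorphism is invertible on a direct sum -/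
theorem isIso_one_sub_shift {I : Type} {N : AddCommGrpCat.{u}} (e : N ⟶ N)
    (he : ∀ x : N, ∃ n : ℕ, (⇑e.hom)^[n] x = 0) (c : Cofan fun _ : ULift.{u} ℕ => N) (hc : IsColimit c)
    (φ : c.pt ⟶ c.pt) (hφ : ∀ n : ℕ, c.inj ⟨n⟩ ≫ φ = c.inj ⟨n⟩ - e ≫ c.inj ⟨n + 1⟩) : IsIso φ := by
  classical
  let ι : ℕ → (N →+ c.pt) := fun n => (c.inj ⟨n⟩).hom
  have hφ' : ∀ (n : ℕ) (x : N), φ.hom (ι n x) = ι n x - ι (n + 1) (e.hom x) := fun n x => by
    have := congrArg (fun p : N ⟶ c.pt => p.hom x) (hφ n)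
    simpa [ι] using this
  let g : ℕ → N → c.pt := fun n x => ∑ j ∈ Finset.range (Nat.find (he x)), ι (n + j) ((⇑e.hom)^[j] x)
  have hz : ∀ (x : N) (m j : ℕ), (⇑e.hom)^[m] x = 0 → m ≤ j → (⇑e.hom)^[j] x = 0 := fun x m j hm hj => by
    obtain ⟨k, rfl⟩ := Nat.exists_eq_add_of_le hj
    rw [Nat.add_comm, Function.iterate_add_apply, hm, iterate_map_zero]
  have hg : ∀ (n : ℕ) (x : N) (m : ℕ), (⇑e.hom)^[m] x = 0 →
      g n x = ∑ j ∈ Finset.range m, ι (n + j) ((⇑e.hom)^[j] x) := fun n x m hm => by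
    refine Finset.sum_subset (by simpa using Nat.find_min' (he x) hm) fun j _ hj => ?_
    rw [hz x _ j (Nat.find_spec (he x)) (by simpa using hj), map_zero]
  have hadd : ∀ n x y, g n (x + y) = g n x + g n y := fun n x y => by
    let m := max (Nat.find (he x)) (Nat.find (he y))
    have hx := hz x _ m (Nat.find_spec (he x)) (le_max_left _ _)
    have hy := hz y _ m (Nat.find_spec (he y)) (le_max_right _ _)
    rw [hg n x m hx, hg n y m hy, hg n (x + y) m (by rw [iterate_map_add, hx, hy, add_zero]),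
      ← Finset.sum_add_distrib]
    exact Finset.sum_congr rfl fun j _ => by rw [iterate_map_add, map_add]
  let r : c.pt ⟶ c.pt := Cofan.IsColimit.desc hc fun n : ULift.{u} ℕ => AddCommGrpCat.ofHom (AddMonoidHom.mk' (g n.down) (hadd n.down))
  have hr : ∀ (n : ℕ) (x : N), r.hom (ι n x) = g n x := fun n x => by
    have := congrArg (fun p : N ⟶ c.pt => p.hom x)
      (Cofan.IsColimit.fac hc (fun n : ULift.{u} ℕ => AddCommGrpCat.ofHom (AddMonoidHom.mk' (g n.down) (hadd n.down))) ⟨n⟩)
    exact this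
  refine ⟨r, Cofan.IsColimit.hom_ext hc _ _ fun ⟨n⟩ => ?_, Cofan.IsColimit.hom_ext hc _ _ fun ⟨n⟩ => ?_⟩
  · ext x
    obtain ⟨m, hm⟩ := he x
    have hm1 : (⇑e.hom)^[m + 1] x = 0 := hz x m _ hm (Nat.le_succ m)
    have hm2 : (⇑e.hom)^[m] (e.hom x) = 0 := by rw [← Function.iterate_succ_apply]; exact hm1
    show r.hom (φ.hom (ι n x)) = ι n x
    rw [hφ', map_sub, hr, hr, hg n x (m + 1) hm1, hg (n + 1) (e.hom x) m hm2, Finset.sum_range_succ']
    have : ∀ j, ι (n + (j + 1)) ((⇑e.hom)^[j + 1] x) = ι (n + 1 + j) ((⇑e.hom)^[j] (e.hom x)) := fun j => by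
      rw [Function.iterate_succ_apply, show n + (j + 1) = n + 1 + j by omega]
    simp only [this, Function.iterate_zero, id_eq, add_zero, add_sub_cancel_left]
  · ext x
    obtain ⟨m, hm⟩ := he x
    show φ.hom (r.hom (ι n x)) = ι n x
    rw [hr, hg n x m hm, map_sum]
    have h1 : ∀ j ∈ Finset.range m, φ.hom (ι (n + j) ((⇑e.hom)^[j] x)) =
        (fun j => ι (n + j) ((⇑e.hom)^[j] x)) j - (fun j => ι (n + j) ((⇑e.hom)^[j] x)) (j + 1) :=
      fun j _ => by
        rw [hφ']
        simp only [Function.iterate_succ_apply', Nat.add_assoc]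
    rw [Finset.sum_congr rfl h1,
      Finset.sum_range_sub' (fun j => ι (n + j) ((⇑e.hom)^[j] x)) m, hm, map_zero, sub_zero]
    rfl

/-- homology on the derived category is linear -/
theorem linear_homologyFunctor {A : Type u} [CommRing A] (X : Scheme.{u}) [X.Over (Spec (CommRingCat.of A))] (i : ℤ) :
    (DerivedCategory.homologyFunctor X.Modules i).Linear A := by
  haveI : Localization.Lifting DerivedCategory.Q (HomologicalComplex.quasiIso X.Modules (ComplexShape.up ℤ))
      (HomologicalComplex.homologyFunctor X.Modules (ComplexShape.up ℤ) i)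
      (DerivedCategory.homologyFunctor X.Modules i) := ⟨DerivedCategory.homologyFunctorFactors _ i⟩
  refine (Localization.functor_linear_iff DerivedCategory.Q (HomologicalComplex.quasiIso _ _) A
    (HomologicalComplex.homologyFunctor X.Modules (ComplexShape.up ℤ) i) _).1 ⟨fun {K L} f r => ?_⟩
  let g := (HomologicalComplex.shortComplexFunctor X.Modules (ComplexShape.up ℤ) i).map f
  have h1 : (HomologicalComplex.shortComplexFunctor X.Modules (ComplexShape.up ℤ) i).map (r • f) = r • g := by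
    ext <;> rfl
  show ShortComplex.homologyMap ((HomologicalComplex.shortComplexFunctor X.Modules (ComplexShape.up ℤ) i).map (r • f)) =
    r • ShortComplex.homologyMap g
  rw [h1, ShortComplex.homologyMap_smul]

/-- multiplication by a function acts locally nilpotently on stalks of qcoh modules supported on its zeros -/
theorem stalk_smul_nilpotent {A : Type u} [CommRing A] {X : Scheme.{u}} [X.Over (Spec (CommRingCat.of A))]
    (a : A) (M : X.Modules) (hM : Coh.IsQCoh M)
    (hsupp : CohB1.support M ⊆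
      (X.zeroLocus (U := ⊤) {Coh.toGlobal (X ↘ Spec (CommRingCat.of A)) a} : Set X))
    (x : X) (t : (stalk x).obj M) : ∃ n : ℕ, (⇑((stalk x).map (a • 𝟙 M)).hom)^[n] t = 0 := by
  let g := Coh.toGlobal (X ↘ Spec (CommRingCat.of A)) a
  obtain ⟨W, hxW, s, rfl⟩ := M.presheaf.exists_germ_eq t
  obtain ⟨U, hU, hxU, hUW⟩ := exists_isAffineOpen_mem_and_subset (U := W) (x := x) hxW
  let s' : Γ(M, U) := M.presheaf.map (homOfLE hUW).op s
  let f : Γ(X, U) := X.presheaf.map (homOfLE (le_top : U ≤ ⊤)).op g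
  haveI : M.IsQuasicoherent := hM
  obtain ⟨n, hn⟩ := exists_pow_smul_eq_zero M hU f s' (by
    refine TopCat.Presheaf.section_ext ⟨M.presheaf, M.isSheaf⟩ _ _ _ fun y hy => ?_
    have hyg : y ∉ (X.zeroLocus (U := ⊤) {g} : Set X) := by
      rw [Scheme.mem_zeroLocus_iff]
      exact fun h => h g rfl ((X.basicOpen_res g (homOfLE (le_top : U ≤ ⊤)).op ▸ hy :).2)
    haveI : Subsingleton (M.presheaf.stalk y) := not_not.1 fun h => hyg (hsupp h)
    exact Subsingleton.elim _ _)
  refine ⟨n, ?_⟩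
  have key : ∀ (k : ℕ), (⇑((stalk x).map (a • 𝟙 M)).hom)^[k] (M.presheaf.germ W x hxW s) =
      M.presheaf.germ U x hxU (f ^ k • s') := fun k => by
    induction k with
    | zero =>
      rw [Function.iterate_zero, id_eq, pow_zero, one_smul]
      exact (TopCat.Presheaf.germ_res_apply M.presheaf (homOfLE hUW) x hxU s).symm
    | succ k ih =>
      rw [Function.iterate_succ_apply', ih, pow_succ', mul_smul]
      refine (TopCat.Presheaf.stalkFunctor_map_germ_apply U x hxU
        ((Scheme.Modules.toPresheaf X).map (a • 𝟙 M)) (f ^ k • s')).trans (congrArg _ ?_)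
      exact KLin.smul_app_apply a (𝟙 M) U (f ^ k • s')
  rw [key, hn, map_zero]
  rfl



/-- Let X be a quasi-compact and quasi-separated scheme over Spec A for a ring A, let a ∈ A with image ā
∈ Γ(X, O_X), and let α : E ⟶ E' be a morphism in D(O_X) where E is perfect and E' has quasi-coherent
cohomology sheaves, all supported on the zero locus T = V(ā). Then aⁿ α = 0 for some n ≥ 0; here A
acts on morphisms of D(O_X) through A → Γ(X, O_X) (for A = Γ(X, O_X) over itself this is the
statement for a global function ā = a). -/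
theorem result (A : Type u) [CommRing A] (X : Scheme.{u})
    [X.Over (Spec (CommRingCat.of A))] [CompactSpace ↥X] [QuasiSeparatedSpace ↥X] (a : A) {E E' : DCoh.D X}
    (hE : DCoh.IsPerfect E) (hE'q : DCoh.IsQCohD E')
    (hsupp : ∀ i : ℤ, CohB1.support (DCoh.HD E' i) ⊆
      (X.zeroLocus (U := ⊤) {Coh.toGlobal (X ↘ Spec (CommRingCat.of A)) a} : Set X))
    (α : E ⟶ E') : ∃ n : ℕ, (a ^ n) • α = 0 := by
  classical
  obtain ⟨C, ⟨eC⟩⟩ := Groth.KTheory.Perf.exists_rep E
  obtain ⟨e₀, he₀⟩ := HomVanish.exists_hom_eq_zero_low hE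
  let t := (DerivedCategory.TStructure.t : Triangulated.TStructure (DCoh.D X))
  let T := (t.triangleLTGE (e₀ + 1)).obj E'
  have hT : T ∈ distTriang _ := t.triangleLTGE_distinguished (e₀ + 1) E'
  haveI h₁ : T.obj₁.IsLE e₀ := t.isLE_truncLT_obj E' (e₀ + 1) e₀ (by omega)
  haveI h₃ : T.obj₃.IsGE (e₀ + 1) := t.isGE_truncGE_obj E' (e₀ + 1) (e₀ + 1) le_rfl
  have h₁z : ∀ i, e₀ < i → IsZero ((DerivedCategory.homologyFunctor _ i).obj T.obj₁) := fun i hi =>
    DerivedCategory.isZero_of_isLE _ e₀ i hi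
  have h₃z : ∀ i, i ≤ e₀ → IsZero ((DerivedCategory.homologyFunctor _ i).obj T.obj₃) := fun i hi =>
    DerivedCategory.isZero_of_isGE _ (e₀ + 1) i (by omega)
  have hiso : ∀ i, e₀ < i → Nonempty ((DerivedCategory.homologyFunctor _ i).obj E' ≅
      (DerivedCategory.homologyFunctor _ i).obj T.obj₃) := fun i hi => by
    haveI : Mono ((DerivedCategory.homologyFunctor _ i).map T.mor₂) :=
      (DerivedCategory.HomologySequence.mono_homologyMap_mor₂_iff T hT i).2 ((h₁z i hi).eq_of_src _ _)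
    haveI : Epi ((DerivedCategory.homologyFunctor _ i).map T.mor₂) :=
      (DerivedCategory.HomologySequence.epi_homologyMap_mor₂_iff T hT i (i + 1) rfl).2
        ((h₁z (i + 1) (by omega)).eq_of_tgt _ _)
    haveI hI := isIso_of_mono_of_epi ((DerivedCategory.homologyFunctor _ i).map T.mor₂)
    let ε := @asIso _ _ _ _ ((DerivedCategory.homologyFunctor _ i).map T.mor₂) hI
    exact ⟨ε⟩
  have hq₁ : DCoh.IsQCohD T.obj₁ := fun i => by
    rcases le_or_gt i e₀ with hi | hi
    · haveI : Epi ((DerivedCategory.homologyFunctor _ i).map T.mor₁) :=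
        (DerivedCategory.HomologySequence.epi_homologyMap_mor₁_iff T hT i).2 ((h₃z i hi).eq_of_tgt _ _)
      haveI : Mono ((DerivedCategory.homologyFunctor _ i).map T.mor₁) :=
        (DerivedCategory.HomologySequence.mono_homologyMap_mor₁_iff T hT (i - 1) i (by omega)).2
          ((h₃z (i - 1) (by omega)).eq_of_src _ _)
      haveI := isIso_of_mono_of_epi ((DerivedCategory.homologyFunctor _ i).map T.mor₁)
      exact (isQCoh_iff_of_iso (asIso ((DerivedCategory.homologyFunctor _ i).map T.mor₁))).2 (hE'q i)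
    · exact Groth.Misc4.QCohDPerf.isQCoh_isZero (h₁z i hi)
  have hH : ∀ i, Coh.IsQCoh (DCoh.HD T.obj₃ i) ∧ CohB1.support (DCoh.HD T.obj₃ i) ⊆
      (X.zeroLocus (U := ⊤) {Coh.toGlobal (X ↘ Spec (CommRingCat.of A)) a} : Set X) := fun i => by
    rcases le_or_gt i e₀ with hi | hi
    · refine ⟨Groth.Misc4.QCohDPerf.isQCoh_isZero (h₃z i hi), ?_⟩
      rw [(isZero_iff_support_eq_empty _).1 (h₃z i hi)]
      exact Set.empty_subset _
    · obtain ⟨ε⟩ := hiso i hi
      exact ⟨(isQCoh_iff_of_iso ε).1 (hE'q i), (Groth.Misc4.ApproxExtend.support_of_iso ε) ▸ hsupp i⟩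
  -- the direct sum of copies of the truncation and `1 - shift`
  haveI : HasCoproducts.{u} (DCoh.D X) := Groth.DerivedCoh.KInjRes.hasCoproducts
  let F := fun _ : ULift.{u} ℕ => T.obj₃
  let inj := fun n : ℕ => Limits.Sigma.ι F ⟨n⟩
  let φ : ∐ F ⟶ ∐ F := Limits.Sigma.desc fun n => inj n.down - (a • 𝟙 T.obj₃) ≫ inj (n.down + 1)
  haveI : IsIso φ := (DerivedCategory.isIso_iff X.Modules φ).2 fun i => isIso_of_stalk _ fun x => by
    haveI := Groth.AdicLinTop.HomologyCoprod.preservesColimitsOfShape_homologyFunctor (A := X.Modules)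
      (ULift.{u} ℕ) i
    let G := DerivedCategory.homologyFunctor X.Modules i ⋙ stalk x
    let e : G.obj T.obj₃ ⟶ G.obj T.obj₃ := (stalk x).map (a • 𝟙 (DCoh.HD T.obj₃ i))
    have he : G.map (a • 𝟙 T.obj₃) = e := by
      show (stalk x).map ((DerivedCategory.homologyFunctor X.Modules i).map (a • 𝟙 T.obj₃)) = _
      haveI := linear_homologyFunctor (A := A) X i
      rw [Functor.map_smul, CategoryTheory.Functor.map_id]
    exact isIso_one_sub_shift (I := Unit) e (stalk_smul_nilpotent a _ (hH i).1 (hH i).2 x) _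
      (Cofan.isColimitMapCoconeEquiv G F (c := Cofan.mk (∐ F) (Limits.Sigma.ι F))
        (isColimitOfPreserves G (coproductIsCoproduct F))) (G.map φ) fun n => by
      show G.map (inj n) ≫ G.map φ = G.map (inj n) - e ≫ G.map (inj (n + 1))
      rw [← G.map_comp, show inj n ≫ φ = _ from Limits.Sigma.ι_desc _ _, G.map_sub, G.map_comp, he]
  -- compactness
  let K₀ := (KFlat.flatResolution X).obj C
  haveI : IsIso (DerivedCategory.Q.map ((KFlat.flatResolutionAug X).app C)) :=
    (DerivedCategory.isIso_Q_map_iff_quasiIso _ _).2 (KFlat.flatResolution_quasiIso C)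
  let eK : DCoh.toD X K₀ ≅ E :=
    asIso (DerivedCategory.Q.map ((KFlat.flatResolutionAug X).app C)) ≪≫ eC
  haveI := KFlat.hasLTensorCx K₀
  haveI := Groth.Misc4.HasRSheafHom.hasRSheafHom K₀ (KFlat.flatResolution_isKFlat C) (KFlat.flatResolution_isFlat C)
  obtain ⟨S, y, hy⟩ := Groth.Misc4.PerfectCompact.exists_sum K₀ (KFlat.flatResolution_isKFlat C)
    (Groth.KTheory.Perf.isPerfect_of_iso eK.symm hE) F (Y := ∐ F) (ι := Limits.Sigma.ι F)
    (coproductIsCoproduct F) (.inl ⟨e₀ + 1, fun _ => h₃⟩) ((eK.hom ≫ α ≫ T.mor₂ ≫ inj 0) ≫ inv φ)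
  let π : ℕ → (∐ F ⟶ T.obj₃) := fun n => Limits.Sigma.desc fun m => if m.down = n then 𝟙 _ else 0
  have hπ : ∀ m n, inj m ≫ π n = if m = n then 𝟙 _ else 0 := fun m n => Limits.Sigma.ι_desc _ _
  let z : ℕ → (DCoh.toD X K₀ ⟶ T.obj₃) := fun n => ((eK.hom ≫ α ≫ T.mor₂ ≫ inj 0) ≫ inv φ) ≫ π n
  have h0 : φ ≫ π 0 = π 0 := Limits.Sigma.hom_ext _ _ fun ⟨m⟩ => by
    rw [← Category.assoc, show Limits.Sigma.ι F ⟨m⟩ ≫ φ = _ from Limits.Sigma.ι_desc _ _,
      Preadditive.sub_comp, Category.assoc, hπ, hπ]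
    simp only [Nat.add_one_ne_zero, if_false, comp_zero, sub_zero]
  have h1 : ∀ n, φ ≫ π (n + 1) = π (n + 1) - π n ≫ (a • 𝟙 _) := fun n => Limits.Sigma.hom_ext _ _ fun ⟨m⟩ => by
    rw [← Category.assoc, show Limits.Sigma.ι F ⟨m⟩ ≫ φ = _ from Limits.Sigma.ι_desc _ _,
      Preadditive.sub_comp, Category.assoc, hπ, hπ, Preadditive.comp_sub, ← Category.assoc]
    show _ = inj m ≫ π (n + 1) - (inj m ≫ π n) ≫ _
    rw [hπ, hπ]
    by_cases h : m = n
    · subst h
      simp only [if_pos rfl]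
      exact sub_eq_sub_iff_add_eq_add.2 (by simp [F])
    · simp [h]
  have hz : ∀ n, z n = a ^ n • (eK.hom ≫ α ≫ T.mor₂) := fun n => by
    induction n with
    | zero =>
      rw [pow_zero, one_smul]
      show _ = _
      simp only [z]
      rw [← h0, Category.assoc (_ ≫ _), IsIso.inv_hom_id_assoc, Category.assoc, Category.assoc, Category.assoc,
        hπ, if_pos rfl, Category.comp_id]
    | succ n ih =>
      have : π (n + 1) = φ ≫ π (n + 1) + π n ≫ (a • 𝟙 _) := by rw [h1, sub_add_cancel]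
      simp only [z] at ih ⊢
      rw [this, Preadditive.comp_add, ← Category.assoc _ (π n), ih, Category.assoc (_ ≫ _),
        IsIso.inv_hom_id_assoc, Category.assoc, Category.assoc, Category.assoc, hπ,
        if_neg (Nat.succ_ne_zero n).symm, comp_zero, comp_zero, comp_zero, zero_add, Linear.comp_smul,
        Category.comp_id, smul_smul, pow_succ']
  let N := (S.image ULift.down).sup id + 1
  refine ⟨N, ?_⟩
  have hN : z N = 0 := by
    simp only [z]
    rw [hy, Preadditive.sum_comp]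
    refine Finset.sum_eq_zero fun i hi => ?_
    have : i.down ≤ (S.image ULift.down).sup id :=
      Finset.le_sup (f := id) (Finset.mem_image_of_mem _ hi)
    rw [Category.assoc, show Limits.Sigma.ι F i = inj i.down from rfl, hπ,
      if_neg (by omega), comp_zero]
  rw [hz] at hN
  have h2 : (a ^ N • α) ≫ T.mor₂ = 0 := by
    rw [← cancel_epi eK.hom, comp_zero, ← hN, Linear.smul_comp, Linear.comp_smul]
  obtain ⟨g, hg⟩ := Triangle.coyoneda_exact₂ T hT _ h2
  rw [hg, he₀ T.obj₁ hq₁ h₁ g]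
  exact zero_comp

end Groth.Agent.S7276
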