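import Groth.Statements.S7278
import Groth.Agent.DerivedCoh.RelPerfectAffine
import Groth.Agent.Misc4.QCohDPerf
import Groth.Agent.S0997


set_option autoImplicit false
universe u
open CategoryTheory CategoryTheory.Limits AlgebraicGeometry Opposite
attribute [local instance] HasDerivedCategory.standard
open Perf

namespace Groth.Agent.S7278

/-- Let f : X ⟶ S be flat and locally of finite presentation and E an object of D(O_X) with
quasi-coherent cohomology sheaves (tilde recorded as exact). For affine opens U ⊆ X and V ⊆ S with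
f(U) ⊆ V, say that E is algebraically perfect on U over V when every M ∈ D(Γ(U, O_X)) whose
associated object M~ on Spec Γ(U, O_X) is isomorphic to the restriction E|_U (transported along U ≅
Spec Γ(U, O_X)) is Γ(V, O_S)-perfect: pseudo-coherent as a complex of Γ(U, O_X)-modules and of
finite tor dimension over Γ(V, O_S) through f^♯ (such M exist and are unique up to isomorphism,
namely RΓ(U, E)). Then: E is S-perfect (pseudo-coherent, and locally on X represented by a bounded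
complex of O_X-modules flat over S) if and only if E is algebraically perfect on every affine open U
over every affine open V with U ⊆ f⁻¹V; and E is S-perfect as soon as this holds for the members
U_ij of affine open coverings f⁻¹V_i = ⋃ U_ij attached to an affine open covering S = ⋃ V_i. -/
theorem result {X S : Scheme.{u}} (f : X ⟶ S) [Flat f] [LocallyOfFinitePresentation f]
    [∀ R : CommRingCat.{u}, PreservesFiniteLimits (tilde.functor R)]
    (E : DCoh.D X) (hE : DCoh.IsQCohD E) :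
    (((∀ m : ℤ, DCoh.IsPseudoCoherentD m E) ∧ DCoh.LocHasFiniteRelTorDim f E) ↔
      ∀ (U : X.Opens) (hU : IsAffineOpen U) (V : S.Opens) (hV : IsAffineOpen V) (hUV : U ≤ f ⁻¹ᵁ V)
        (M : DerivedCategory (ModuleCat.{u} Γ(X, U))),
        Nonempty ((DCoh.restrictD hU.isoSpec.inv).obj ((DCoh.restrictD U.ι).obj E) ≅ (DCoh.tildeD Γ(X, U)).obj M) →
          @Dual2.IsRelPerfect Γ(S, V) Γ(X, U) _ _ (f.appLE V U hUV).hom.toAlgebra M) ∧
    (∀ (ι : Type u) (V : ι → S.Opens) (hV : ∀ i, IsAffineOpen (V i)) (hVcov : ⨆ i, V i = ⊤)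
        (κ : ι → Type u) (U : ∀ i, κ i → X.Opens) (hU : ∀ i j, IsAffineOpen (U i j))
        (hUV : ∀ i j, U i j ≤ f ⁻¹ᵁ V i) (hUcov : ∀ i, ⨆ j, U i j = f ⁻¹ᵁ V i),
        (∀ (i : ι) (j : κ i) (M : DerivedCategory (ModuleCat.{u} Γ(X, U i j))),
          Nonempty ((DCoh.restrictD (hU i j).isoSpec.inv).obj ((DCoh.restrictD (U i j).ι).obj E) ≅
              (DCoh.tildeD Γ(X, U i j)).obj M) →
            @Dual2.IsRelPerfect Γ(S, V i) Γ(X, U i j) _ _ (f.appLE (V i) (U i j) (hUV i j)).hom.toAlgebra M) →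
        (∀ m : ℤ, DCoh.IsPseudoCoherentD m E) ∧ DCoh.LocHasFiniteRelTorDim f E) := by
  open Groth.DerivedCoh Groth.DerivedCoh.PCoh Groth.KTheory.Perf in
  open Groth.DerivedCoh.RelPerfectAffine in
  have hcomp : ∀ (U : X.Opens) (hU : IsAffineOpen U), Nonempty ((Rd hU.fromSpec).obj E ≅
      (DCoh.restrictD hU.isoSpec.inv).obj ((DCoh.restrictD U.ι).obj E)) := fun U hU =>
    nonempty_rdComp (k := hU.isoSpec.inv) (j := U.ι) (l := hU.fromSpec) hU.isoSpec_inv_ι.symm E
  have cover : ∀ (U : X.Opens) (hU : IsAffineOpen U) (V : S.Opens) (hV : IsAffineOpen V) (hUV : U ≤ f ⁻¹ᵁ V),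
      (∀ M : DerivedCategory (ModuleCat.{u} Γ(X, U)),
        Nonempty ((DCoh.restrictD hU.isoSpec.inv).obj ((DCoh.restrictD U.ι).obj E) ≅ (DCoh.tildeD Γ(X, U)).obj M) →
          @Dual2.IsRelPerfect Γ(S, V) Γ(X, U) _ _ (f.appLE V U hUV).hom.toAlgebra M) →
      ∀ x ∈ U, (∀ m, ∃ W : X.Opens, x ∈ W ∧ PCohOn m E W) ∧
        ∃ (W : X.Opens) (a b : ℤ), x ∈ W ∧ ∀ y ∈ W, RelAmp.AmpAt f a b E y := by
    intro U hU V hV hUV hM x hx
    obtain ⟨M, ⟨e⟩⟩ := ((Groth.Agent.S0997.result Γ(X, U)).2.2 _).1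
      (Groth.Misc4.QCohDPerf.isQCohD_restrict hU.fromSpec hE)
    obtain ⟨c⟩ := hcomp U hU
    obtain ⟨hpc, hamp⟩ := (chart_iff f hU hV hUV E M e.symm).2 (hM M ⟨c.symm ≪≫ e.symm⟩)
    obtain ⟨z, rfl⟩ : ∃ z, hU.fromSpec z = x := by
      have : x ∈ Set.range hU.fromSpec := by rw [hU.range_fromSpec]; exact hx
      exact this
    exact ⟨fun m => RelPerfectFP.pcohOn_of_rd hU.fromSpec (hpc m) z,
      exists_amp_of_rd hU.fromSpec f hamp z⟩
  have perf : (∀ x : X, (∀ m, ∃ W : X.Opens, x ∈ W ∧ PCohOn m E W) ∧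
      ∃ (W : X.Opens) (a b : ℤ), x ∈ W ∧ ∀ y ∈ W, RelAmp.AmpAt f a b E y) →
      (∀ m : ℤ, DCoh.IsPseudoCoherentD m E) ∧ DCoh.LocHasFiniteRelTorDim f E := fun h =>
    ⟨fun m => (isPseudoCoherentD_iff m E).2 fun x => (h x).1 m,
      (RelAmp.locHasFiniteRelTorDim_iff _).2 fun x => (h x).2⟩
  refine ⟨⟨?_, fun h => perf fun x => ?_⟩, fun ι V hV hVcov κ U hU hUV hUcov h => perf fun x => ?_⟩
  · rintro ⟨hpc, hta⟩ U hU V hV hUV M ⟨e⟩
    obtain ⟨c⟩ := hcomp U hU
    exact (chart_iff f hU hV hUV E M (c ≪≫ e)).1 ⟨fun m => isPseudoCoherentD_rd _ (hpc m),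
      locAmp_rd _ f ((RelAmp.locHasFiniteRelTorDim_iff _).1 hta)⟩
  · obtain ⟨V, hV, hxV, -⟩ := exists_isAffineOpen_mem_and_subset (U := (⊤ : S.Opens)) (x := f x) trivial
    obtain ⟨U, hU, hxU, hUV⟩ := exists_isAffineOpen_mem_and_subset (U := f ⁻¹ᵁ V) (x := x) hxV
    exact cover U hU V hV hUV (h U hU V hV hUV) x hxU
  · obtain ⟨i, hi⟩ := TopologicalSpace.Opens.mem_iSup.1
      (show f x ∈ ⨆ i, V i by rw [hVcov]; trivial)
    obtain ⟨j, hj⟩ := TopologicalSpace.Opens.mem_iSup.1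
      (show x ∈ ⨆ j, U i j by rw [hUcov]; exact hi)
    exact cover (U i j) (hU i j) (V i) (hV i) (hUV i j) (h i j) x hj

end Groth.Agent.S7278
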