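import Groth.Statements.S7279
import Groth.Agent.Misc4.KillSupported
import Groth.Agent.LocFree.Basic
import Groth.Agent.DerivedCoh.PCoh.ModuleFP
-- import your own Groth.Agent.* helpers here

set_option autoImplicit false
universe u
open CategoryTheory CategoryTheory.Limits AlgebraicGeometry
attribute [local instance] HasDerivedCategory.standard
open Perf

namespace Groth.Agent.S7279

/-- Let X be a quasi-compact and quasi-separated scheme, U ⊆ X a quasi-compact open with closed
complement T = X ∖ U, P a cochain complex of O_X-modules with quasi-coherent cohomology sheaves and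
E ∈ D_QCoh(O_X) supported on T (every cohomology sheaf of E has support in T). Assume either (1) P
is perfect, or (2) P is pseudo-coherent and E is bounded below, and assume the derived functors -
⊗^L P and RHom(P, -) exist. Then for every morphism γ : O_X[0] ⊗^L P ⟶ E there exist a perfect I ∈
D(O_X) and a morphism i : I ⟶ O_X[0] such that the composition of i ⊗^L P with γ is zero and the
restriction i|_U is an isomorphism. (The published statement is about a morphism α : P ⟶ E and the
induced map I ⊗^L P ⟶ E; composing with the unit isomorphism O_X[0] ⊗^L P ≅ P identifies morphisms α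
with morphisms γ, so the present form, quantified over all γ, is the same assertion.) -/
theorem result (X : Scheme.{u}) [CompactSpace ↥X]
    [QuasiSeparatedSpace ↥X] (U : X.Opens) (hU : IsCompact (U : Set X))
    (P : CochainComplex X.Modules ℤ) (hPq : DCoh.IsQCohD (DCoh.toD X P)) [DCoh.HasLTensorCx P] [DCoh.HasRSheafHom P]
    (E : DCoh.D X) (hEq : DCoh.IsQCohD E) (hEsupp : ∀ i : ℤ, CohB1.support (DCoh.HD E i) ⊆ (U : Set X)ᶜ)
    (h : DCoh.IsPerfect (DCoh.toD X P) ∨ ((∀ m : ℤ, DCoh.IsPseudoCoherentD m (DCoh.toD X P)) ∧ ∃ a : ℤ, E.IsGE a))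
    (γ : (DCoh.LTensorCx P).obj (DCoh.inD X (Coh.structureModule X)) ⟶ E) :
    ∃ (I : DCoh.D X) (i : I ⟶ DCoh.inD X (Coh.structureModule X)), DCoh.IsPerfect I ∧
      (DCoh.LTensorCx P).map i ≫ γ = 0 ∧ IsIso ((DCoh.restrictD U.ι).map i) := by
  let adj := DCoh.RSheafHomAdj P
  let O := DCoh.inD X (Coh.structureModule X)
  have hq : DCoh.IsQCohD ((DCoh.RSheafHom P).obj E) := by
    rcases h with h | ⟨h, a, ha⟩
    · exact Groth.Misc4.QCohDPerf.isQCohD_rhom P h hEq
    · exact Groth.Misc4.QCohDRHom.isQCohD_rhom_pcoh P h hEq a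
  have hoff : Groth.Misc4.KillSupported.Off U ((DCoh.RSheafHom P).obj E) :=
    Groth.Misc4.KillSupported.off_rhom P ((Groth.Misc4.KillSupported.off_iff E).2 hEsupp)
  obtain ⟨I, i, hI, hi, h0⟩ := Groth.Misc4.KillSupported.exists_killed hU O
    (Groth.DerivedCoh.PCoh.isPerfect_inD (Groth.LocFree.isFinLocFree_unit X)) _ hq hoff (adj.homEquiv _ _ γ)
  refine ⟨I, i, hI, ?_, hi⟩
  have h1 : (adj.homEquiv _ _).symm (i ≫ adj.homEquiv _ _ γ) = (DCoh.LTensorCx P).map i ≫ γ := by
    rw [adj.homEquiv_naturality_left_symm, Equiv.symm_apply_apply]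
  haveI : (DCoh.LTensorCx P).PreservesZeroMorphisms :=
    haveI := adj.leftAdjoint_preservesColimits
    Functor.preservesZeroMorphisms_of_preserves_initial_object (F := DCoh.LTensorCx P)
  rw [← h1, h0, adj.homEquiv_counit, Functor.map_zero, zero_comp]

end Groth.Agent.S7279
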