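import Groth.Statements.S7282
import Groth.Agent.EtaleDeep.Eps.Colim
-- import your own Groth.Agent.* helpers here

set_option autoImplicit false
open CategoryTheory CategoryTheory.Limits AlgebraicGeometry Opposite
universe u
open ProEtS

namespace Groth.Agent.S7282

/-- Let X be a scheme and F an abelian sheaf on the small etale site of X. Let (Y_i) be a cofiltered
system of objects of the small pro-etale site of X, each quasi-compact and quasi-separated, with
affine transition morphisms, and let Y be a cone over it which is a limit of the Y_i as schemes.
Then the restriction maps exhibit the sections of the pro-etale pullback of F over Y as the colimit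
of its sections over the Y_i. (Continuity of the inclusion of the etale site into the pro-etale site
is carried as a binder.) -/
theorem result (X : Scheme.{u}) [ProEtS.EpsCont X]
    {I : Type u} [SmallCategory I] [IsCofiltered I] (D : I ⥤ X.ProEt)
    [∀ (i j : I) (a : i ⟶ j), IsAffineHom (D.map a).left]
    [∀ i, CompactSpace ↥(D.obj i).left] [∀ i, QuasiSeparatedSpace ↥(D.obj i).left]
    (c : Cone D) (hc : IsLimit ((Scheme.ProEt.forget X ⋙ Over.forget X).mapCone c))
    (F : EtCoh.Ab X) :
    Nonempty (IsColimit (((ProEtS.epsPull X).obj F).obj.mapCocone c.op)) := by
  exact Groth.EtaleDeep.Eps.nonempty_isColimit_epsPull D c hc F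

end Groth.Agent.S7282
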