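import Groth.Statements.S7283
import Groth.Agent.Pi1FEt.FullClopen
import Groth.Agent.Hensel1.EtaleStalk
import Groth.Agent.Hensel1.Transfer
import Mathlib

set_option autoImplicit false
universe u
open Pi1

set_option backward.isDefEq.respectTransparency false

namespace Groth.Agent.S7283

open AlgebraicGeometry CategoryTheory CategoryTheory.Limits

/-- Disjoint open subsets which cover a dense open have disjoint closures, when the punctured
strictly henselian spectra at the missing points are connected. -/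
theorem disjoint_closure {Y : Scheme.{u}}
    (hfin : ∀ y : Y, ∃ (O : Y.Opens) (G : Set Y), y ∈ O ∧ G.Finite ∧ ∀ z ∈ O, ∃ η ∈ G, η ⤳ z ∧ ∀ η', η' ⤳ η → η' = η)
    (W₁ W₂ : Set Y) (h₁ : IsOpen W₁) (h₂ : IsOpen W₂) (hdisj : Disjoint W₁ W₂)
    (hcov : ∀ z : Y, z ∈ closure W₁ ∪ closure W₂)
    (hsh : ∀ y : Y, y ∉ W₁ → y ∉ W₂ → ∀ (R : Type u) [CommRing R] [IsLocalRing R]
      [Algebra (Y.presheaf.stalk y) R] [IsLocalHom (algebraMap (Y.presheaf.stalk y) R)]
      [Hensel.IsStrictHenselization (Y.presheaf.stalk y) R],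
      ConnectedSpace (FEt.puncturedSpec R : Scheme.{u})) :
    Disjoint (closure W₁) (closure W₂) := by
  classical
  -- a point of the closure of an open specialises from a generic point in it
  have hgen : ∀ (W : Set Y), IsOpen W → ∀ y ∈ closure W, ∃ w ∈ W, w ⤳ y := by
    intro W hW y hy
    obtain ⟨O, G, hyO, hG, hO⟩ := hfin y
    have hcl : IsClosed (⋃ η ∈ G ∩ W, closure ({η} : Set Y)) :=
      (hG.subset Set.inter_subset_left).isClosed_biUnion fun _ _ => isClosed_closure
    have hsub : (O : Set Y) ∩ W ⊆ ⋃ η ∈ G ∩ W, closure ({η} : Set Y) := fun z ⟨hz, hzW⟩ => by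
      obtain ⟨η, hη, hηz, -⟩ := hO z hz
      exact Set.mem_biUnion (x := η) ⟨hη, hηz.mem_open hW hzW⟩ (specializes_iff_mem_closure.mp hηz)
    obtain ⟨η, hη, hηy⟩ := Set.mem_iUnion₂.mp
      (closure_minimal hsub hcl (O.isOpen.inter_closure ⟨hyO, hy⟩))
    exact ⟨η, hη.2, specializes_iff_mem_closure.mpr hηy⟩
  by_contra hnd
  obtain ⟨y₀, hy₀⟩ := Set.not_disjoint_iff_nonempty_inter.mp hnd
  set E := closure W₁ ∩ closure W₂ with hE
  have hEc : IsClosed E := isClosed_closure.inter isClosed_closure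
  -- a generic point of the intersection
  obtain ⟨y, hy, hmin⟩ : ∃ y ∈ E, ∀ z ∈ E, z ⤳ y → z = y := by
    haveI : QuasiSober E := hEc.isClosedEmbedding_subtypeVal.quasiSober
    let Z := irreducibleComponent (⟨y₀, hy₀⟩ : E)
    have hZ : IsIrreducible Z := isIrreducible_irreducibleComponent
    obtain ⟨g, hg⟩ := QuasiSober.sober hZ isClosed_irreducibleComponent
    refine ⟨g.1, g.2, fun z hz hzg => ?_⟩
    have hsp : (⟨z, hz⟩ : E) ⤳ g := (subtype_specializes_iff _ _).mpr hzg
    have hle : Z ⊆ closure {⟨z, hz⟩} := by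
      rw [← hg.def]
      exact closure_minimal (Set.singleton_subset_iff.mpr (specializes_iff_mem_closure.mp hsp)) isClosed_closure
    have heq : Z = closure {⟨z, hz⟩} :=
      ((irreducibleComponent_property _).2.2 _ isIrreducible_singleton.closure.isPreirreducible hle).symm
    have : IsGenericPoint (⟨z, hz⟩ : E) Z := heq.symm
    exact congrArg Subtype.val (this.eq hg)
  have hy1 : y ∉ W₁ := fun h => by
    obtain ⟨z, hz1, hz2⟩ := mem_closure_iff.mp hy.2 W₁ h₁ h
    exact Set.disjoint_left.mp hdisj hz1 hz2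
  have hy2 : y ∉ W₂ := fun h => by
    obtain ⟨z, hz2, hz1⟩ := mem_closure_iff.mp hy.1 W₂ h₂ h
    exact Set.disjoint_left.mp hdisj hz1 hz2
  obtain ⟨R, _, _, _, _, _⟩ := Groth.Hensel1.exists_isStrictHenselization (Y.presheaf.stalk y)
  haveI := hsh y hy1 hy2 R
  obtain ⟨M⟩ := Groth.Hensel1.hensModel_of_isStrictHenselization (R := Y.presheaf.stalk y) (S := R)
  haveI := M.faithfullyFlat
  let π : Spec (CommRingCat.of R) ⟶ Y :=
    Spec.map (CommRingCat.ofHom (algebraMap (Y.presheaf.stalk y) R)) ≫ Y.fromSpecStalk y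
  have hπy : π.base (IsLocalRing.closedPoint R) = y := by
    rw [Scheme.Hom.comp_apply]
    exact (congrArg (Y.fromSpecStalk y).base (IsLocalRing.comap_closedPoint _)).trans Scheme.fromSpecStalk_closedPoint
  have hπspec : ∀ q, π.base q ⤳ y := fun q =>
    hπy ▸ (IsLocalRing.specializes_closedPoint q).map π.continuous
  have hπuniq : ∀ q, π.base q = y → q = IsLocalRing.closedPoint R := by
    intro q hq
    have h1 : (Spec.map (CommRingCat.ofHom (algebraMap (Y.presheaf.stalk y) R))).base q =
        IsLocalRing.closedPoint (Y.presheaf.stalk y) :=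
      (Y.fromSpecStalk y).isEmbedding.injective (hq.trans Scheme.fromSpecStalk_closedPoint.symm)
    have h2 : Ideal.comap (algebraMap (Y.presheaf.stalk y) R) q.asIdeal =
        IsLocalRing.maximalIdeal (Y.presheaf.stalk y) := congrArg PrimeSpectrum.asIdeal h1
    refine PrimeSpectrum.ext ((IsLocalRing.maximalIdeal.isMaximal R).eq_of_le q.isPrime.ne_top ?_).symm
    rw [← M.map_maximalIdeal, Ideal.map_le_iff_le_comap, h2]
  have hπsurj : ∀ z : Y, z ⤳ y → ∃ q, π.base q = z := by
    intro z hz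
    obtain ⟨p, rfl⟩ : z ∈ Set.range (Y.fromSpecStalk y).base := by
      rw [Scheme.range_fromSpecStalk]; exact hz
    obtain ⟨q, hq⟩ := PrimeSpectrum.comap_surjective_of_faithfullyFlat
      (A := Y.presheaf.stalk y) (B := R) p
    exact ⟨q, by rw [Scheme.Hom.comp_apply]; exact congrArg _ hq⟩
  let ψ : (FEt.puncturedSpec R : Scheme.{u}) ⟶ Y := (FEt.puncturedSpec R).ι ≫ π
  have hψne : ∀ q, ψ.base q ≠ y := fun q hq => q.2 (hπuniq q.1 hq)
  have hψspec : ∀ q, ψ.base q ⤳ y := fun q => hπspec q.1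
  have hlift : ∀ z : Y, z ⤳ y → z ≠ y → ∃ q, ψ.base q = z := fun z hz hne => by
    obtain ⟨q, hq⟩ := hπsurj z hz
    exact ⟨⟨q, fun h => hne (by rw [← hq, Set.mem_singleton_iff.mp h, hπy])⟩, hq⟩
  have hcover : ∀ q, ψ.base q ∈ closure W₁ ∪ closure W₂ := by
    intro q
    exact hcov _
  obtain ⟨w₁, hw₁, hw₁y⟩ := hgen W₁ h₁ y hy.1
  obtain ⟨w₂, hw₂, hw₂y⟩ := hgen W₂ h₂ y hy.2
  obtain ⟨q₁, hq₁⟩ := hlift w₁ hw₁y fun h => hy1 (h ▸ hw₁)
  obtain ⟨q₂, hq₂⟩ := hlift w₂ hw₂y fun h => hy2 (h ▸ hw₂)
  obtain ⟨q, -, hq1, hq2⟩ := isPreconnected_closed_iff.mp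
    (PreconnectedSpace.isPreconnected_univ (α := ↥(FEt.puncturedSpec R : Scheme.{u})))
    (ψ.base ⁻¹' closure W₁) (ψ.base ⁻¹' closure W₂)
    (isClosed_closure.preimage ψ.continuous) (isClosed_closure.preimage ψ.continuous)
    (fun q _ => hcover q) ⟨q₁, trivial, show ψ.base q₁ ∈ closure W₁ from hq₁ ▸ subset_closure hw₁⟩
    ⟨q₂, trivial, show ψ.base q₂ ∈ closure W₂ from hq₂ ▸ subset_closure hw₂⟩
  exact hψne q (hmin _ ⟨hq1, hq2⟩ (hψspec q))

open AlgebraicGeometry CategoryTheory CategoryTheory.Limits in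
/-- Let X be a scheme and U a dense open subscheme such that every quasi-compact open subset of X has
finitely many irreducible components and, for every point x of the complement of U and every strict
henselization R of the local ring at x, the punctured spectrum of R is connected. Then restriction
of finite etale covers from X to U is fully faithful. -/
theorem result {X : Scheme.{u}} (U : X.Opens)
    (hU : Dense (U : Set X))
    (hirr : ∀ V : X.Opens, IsCompact (V : Set X) → (irreducibleComponents ↥V).Finite)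
    (hsh : ∀ x : X, x ∉ U → ∀ (R : Type u) [CommRing R] [IsLocalRing R] [Algebra (X.presheaf.stalk x) R]
      [IsLocalHom (algebraMap (X.presheaf.stalk x) R)] [Hensel.IsStrictHenselization (X.presheaf.stalk x) R],
      ConnectedSpace (FEt.puncturedSpec R : Scheme.{u})) :
    (FEt.restrict U.ι).Full ∧ (FEt.restrict U.ι).Faithful := by
  refine ⟨Groth.Pi1FEt.restrict_full_of_clopen U.ι ?_ ?_,
    Groth.Pi1Etale.restrict_faithful_of_denseRange U.ι (by rw [DenseRange, Scheme.Opens.range_ι]; exact hU)⟩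
  · intro A C hC hsub
    haveI : Etale A.hom := A.prop.2
    have hd' := Groth.Pi1Etale.denseRange_pullback_fst A.hom U.ι A.hom.isOpenMap
      (by rw [DenseRange, Scheme.Opens.range_ι]; exact hU)
    exact Set.univ_subset_iff.1 (hd'.closure_range.symm.subset.trans (hC.1.closure_subset_iff.2 hsub))
  intro A C₀ hC₀
  let g : A.left ⟶ X := A.hom
  haveI : IsFinite g := A.prop.1
  haveI : Etale g := A.prop.2
  let j := pullback.fst g U.ι
  have hjrange : Set.range j.base = g.base ⁻¹' (U : Set X) := by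
    rw [Scheme.Pullback.range_fst, Scheme.Opens.range_ι]
  have hd' : DenseRange j.base := Groth.Pi1Etale.denseRange_pullback_fst g U.ι g.isOpenMap
    (by rw [DenseRange, Scheme.Opens.range_ι]; exact hU)
  let W₁ := j.base '' C₀
  let W₂ := j.base '' C₀ᶜ
  have hcov : ∀ z, z ∈ closure W₁ ∪ closure W₂ := fun z => by
    rw [← closure_union, ← Set.image_union, Set.union_compl_self, Set.image_univ]
    exact hd' z
  have hdisj : Disjoint W₁ W₂ :=
    Set.disjoint_image_of_injective j.isOpenEmbedding.injective disjoint_compl_right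
  have hfin : ∀ y : A.left, ∃ (O : A.left.Opens) (G : Set A.left), y ∈ O ∧ G.Finite ∧
      ∀ z ∈ O, ∃ η ∈ G, η ⤳ z ∧ ∀ η', η' ⤳ η → η' = η := by
    intro y
    obtain ⟨_, ⟨V, hV, rfl⟩, hyV, -⟩ :=
      X.isBasis_affineOpens.exists_subset_of_mem_open (Set.mem_univ (g.base y)) isOpen_univ
    have hfV := hirr V hV.isCompact
    haveI : Finite (irreducibleComponents ↥V) := hfV.to_subtype
    haveI : QuasiSober ↥V := V.isOpen.isOpenEmbedding_subtypeVal.quasiSober
    let GV : Set X := {x | ∃ hx : x ∈ V, ∀ x' : X, x' ⤳ x → x' = x}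
    have hGV : GV.Finite := by
      refine ((Set.finite_range (fun Z : irreducibleComponents ↥V =>
        ((IsIrreducible.genericPoint Z.2.1 : ↥V) : X)))).subset ?_
      rintro x ⟨hx, hmin⟩
      let Z : irreducibleComponents ↥V := ⟨irreducibleComponent ⟨x, hx⟩,
        irreducibleComponent_mem_irreducibleComponents _⟩
      have hgx : (IsIrreducible.genericPoint Z.2.1 : ↥V) ⤳ ⟨x, hx⟩ := by
        refine (IsIrreducible.isGenericPoint_genericPoint Z.2.1 ?_).specializes mem_irreducibleComponent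
        exact isClosed_irreducibleComponent
      exact ⟨Z, hmin _ ((subtype_specializes_iff _ _).mp hgx)⟩
    refine ⟨g ⁻¹ᵁ V, g.base ⁻¹' GV ∩ {η | ∀ η', η' ⤳ η → η' = η}, hyV,
      ((hGV.preimage' fun x _ => g.finite_preimage_singleton x)).subset Set.inter_subset_left,
      fun z hz => ?_⟩
    -- a maximal generisation of `z`
    obtain ⟨Z, hZ, hzZ⟩ : ∃ Z ∈ irreducibleComponents ↥A.left, z ∈ Z :=
      ⟨_, irreducibleComponent_mem_irreducibleComponents z, mem_irreducibleComponent⟩
    let η := hZ.1.genericPoint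
    have hη := hZ.1.isGenericPoint_genericPoint (isClosed_of_mem_irreducibleComponents Z hZ)
    have hηmax : ∀ η', η' ⤳ η → η' = η := fun η' h => by
      have h1 : Z ⊆ closure {η'} := by
        rw [← hη.def]
        exact closure_minimal (Set.singleton_subset_iff.mpr (specializes_iff_mem_closure.mp h)) isClosed_closure
      have h2 : closure {η'} = Z := Set.Subset.antisymm (hZ.2 isIrreducible_singleton.closure h1) h1
      exact (show IsGenericPoint η' Z from h2).eq hη
    have hηz : η ⤳ z := hη.specializes hzZ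
    refine ⟨η, ⟨⟨(hηz.map g.continuous).mem_open V.isOpen hz, fun x' hx' => ?_⟩, hηmax⟩, hηz, hηmax⟩
    obtain ⟨η', hη', rfl⟩ := Flat.generalizingMap g hx'
    rw [hηmax η' hη']
  have hsh' : ∀ y : A.left, y ∉ W₁ → y ∉ W₂ → ∀ (R : Type u) [CommRing R] [IsLocalRing R]
      [Algebra (A.left.presheaf.stalk y) R] [IsLocalHom (algebraMap (A.left.presheaf.stalk y) R)]
      [Hensel.IsStrictHenselization (A.left.presheaf.stalk y) R],
      ConnectedSpace (FEt.puncturedSpec R : Scheme.{u}) := by
    intro y h1 h2 R _ _ _ _ _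
    have hyU : g.base y ∉ U := fun h => by
      obtain ⟨w, hw⟩ := hjrange.ge h
      rcases Classical.em (w ∈ C₀) with hw' | hw'
      · exact h1 ⟨w, hw', hw⟩
      · exact h2 ⟨w, hw', hw⟩
    letI : Algebra (X.presheaf.stalk (g.base y)) (A.left.presheaf.stalk y) := (g.stalkMap y).hom.toAlgebra
    haveI : IsLocalHom (algebraMap (X.presheaf.stalk (g.base y)) (A.left.presheaf.stalk y)) :=
      inferInstanceAs (IsLocalHom (g.stalkMap y).hom)
    letI : Algebra (X.presheaf.stalk (g.base y)) R :=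
      ((algebraMap (A.left.presheaf.stalk y) R).comp (g.stalkMap y).hom).toAlgebra
    haveI : IsScalarTower (X.presheaf.stalk (g.base y)) (A.left.presheaf.stalk y) R :=
      .of_algebraMap_eq fun _ => rfl
    haveI : IsLocalHom (algebraMap (X.presheaf.stalk (g.base y)) R) :=
      inferInstanceAs (IsLocalHom ((algebraMap (A.left.presheaf.stalk y) R).comp (g.stalkMap y).hom))
    haveI := Groth.Hensel1.isStrictHenselization_of_essentiallyEtale
      (Groth.Hensel1.isEssentiallyEtale_stalkMap_of_etale g y) R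
    exact hsh (g.base y) hyU R
  have hcl := disjoint_closure hfin W₁ W₂ (j.isOpenEmbedding.isOpenMap _ hC₀.2)
    (j.isOpenEmbedding.isOpenMap _ hC₀.compl.2) hdisj hcov hsh'
  refine ⟨closure W₁, ⟨isClosed_closure, ?_⟩, ?_⟩
  · have : closure W₁ = (closure W₂)ᶜ := Set.ext fun z =>
      ⟨fun h => Set.disjoint_left.mp hcl h, fun h => (hcov z).resolve_right h⟩
    rw [this]; exact isClosed_closure.isOpen_compl
  · rw [show (pullback.fst A.hom U.ι).base ⁻¹' closure W₁ = closure (j.base ⁻¹' W₁) from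
      j.isOpenEmbedding.isOpenMap.preimage_closure_eq_closure_preimage j.continuous W₁,
      Set.preimage_image_eq _ j.isOpenEmbedding.injective, hC₀.1.closure_eq]

end Groth.Agent.S7283
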