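import Groth.Statements.S7284
import Groth.Agent.EtaleDeep.ProEt.EnoughPoints

set_option autoImplicit false
open CategoryTheory CategoryTheory.Limits AlgebraicGeometry Opposite
universe u
open ProEtS

namespace Groth.Agent.S7284

/-- For every scheme S the small pro-etale site of S has enough points, that is, it admits a small
conservative family of points (fibre functors valued one universe up, the universe in which
pro-etale sheaves are valued). -/
theorem result (S : Scheme.{u}) :
    GrothendieckTopology.HasEnoughPoints.{u + 1} (Scheme.ProEt.topology S) := by
  exact Groth.EtaleDeep.ProEt.hasEnoughPoints S

end Groth.Agent.S7284
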