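import Groth.Statements.S7285
import Groth.Agent.EtaleDeep.ProEt.Lan

set_option autoImplicit false
open CategoryTheory CategoryTheory.Limits AlgebraicGeometry Opposite
universe u
open ProEtS

namespace Groth.Agent.S7285

/-- Let f be a morphism of schemes from X to Y and F a sheaf of sets on the small pro-etale site of Y.
For an affine weakly contractible object W of the small pro-etale site of X, the value at W of the
pullback of F along f is the colimit of the values F(V) over morphisms from W to the base change of
V, V ranging over the pro-etale site of Y; equivalently, the left Kan extension presheaf of F along
base change has the same sections over W as its sheafification. (Continuity of base change between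
the small pro-etale sites is carried as a binder.) -/
theorem result {X Y : Scheme.{u}} (f : X ⟶ Y) [ProEtS.PCont f]
    (F : Sheaf (Scheme.ProEt.topology Y) (Type (u + 1))) (W : X.ProEt) [IsAffine W.left]
    (hW : ProEtS.IsWC W) :
    Function.Bijective
      ((toSheafify (Scheme.ProEt.topology X) ((ProEtS.bcP f).op.lan.obj F.obj)).app (op W)) := by
  exact Groth.EtaleDeep.ProEt.toSheafify_bijective_of_decomposition _ W
    ((Groth.EtaleDeep.ProEt.isWContractible_iff_refinements W).1
      ((Groth.EtaleDeep.ProEt.isWContractible_iff_isWC W).2 hW))
    fun O hd hc => Groth.EtaleDeep.ProEt.bijective_lan_decomposition f F O hd hc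

end Groth.Agent.S7285
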