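import Groth.Statements.S7287
import Groth.Agent.Misc1.PairTrdeg.Scheme
import Groth.Agent.Misc1.PairTrdeg.Alg


set_option autoImplicit false
open CategoryTheory CategoryTheory.Limits AlgebraicGeometry Opposite
universe u
open RelCyc

namespace Groth.Agent.S7287

open CategoryTheory CategoryTheory.Limits AlgebraicGeometry Groth.PairTrdeg

/-- Let f from X to S be locally of finite type, r a natural number and g from S' to S a surjective
morphism. Let S'' be the fibre product of S' with itself over S (projections p, q), X' the base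
change of X along g (structure map f', projection g' to X), and X'' the base change of X along S''
with structure map f'' and the two projections p', q' to X' lying over p and q and compatible with
the projections to X. Let x be a point of X whose residue field has transcendence degree r over that
of f(x). If x1 and x2 are points of X' mapping to x whose residue fields have transcendence degree r
over those of their images in S', then there is a point of X'' whose residue field has transcendence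
degree r over that of its image in S'' and whose two projections are x1 and x2. -/
theorem result {X S S' S'' X' X'' : Scheme.{u}}
    (f : X ⟶ S) [LocallyOfFiniteType f] (r : ℕ) (g : S' ⟶ S) [Surjective g]
    (p q : S'' ⟶ S') (hS : IsPullback p q g g)
    (f' : X' ⟶ S') (g' : X' ⟶ X) (hX : IsPullback g' f' f g)
    (f'' : X'' ⟶ S'') (p' q' : X'' ⟶ X') (hp : IsPullback p' f'' f' p) (hq : IsPullback q' f'' f' q)
    (hpq : p' ≫ g' = q' ≫ g')
    (x : ↥X) (hx : Dual3.resTrdeg f x = r)
    (x₁ x₂ : ↥X') (h₁ : g'.base x₁ = x) (h₂ : g'.base x₂ = x)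
    (hx₁ : Dual3.resTrdeg f' x₁ = r) (hx₂ : Dual3.resTrdeg f' x₂ = r) :
    ∃ x'' : ↥X'', Dual3.resTrdeg f'' x'' = r ∧ p'.base x'' = x₁ ∧ q'.base x'' = x₂ := by
  classical
  subst h₁
  set x := g'.base x₁
  let kk := S.residueField (f x)
  let K := X.residueField x
  let k₁ := S'.residueField (f' x₁)
  let k₂ := S'.residueField (f' x₂)
  let K₁ := X'.residueField x₁
  let K₂ := X'.residueField x₂
  let j₁ : K ⟶ K₁ := residueMap g' x₁ x rfl
  let j₂ : K ⟶ K₂ := residueMap g' x₂ x h₂
  have hg₁ : g (f' x₁) = f x := congrArg (fun φ => φ x₁) hX.w.symm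
  have hg₂ : g (f' x₂) = f x := by
    rw [← h₂]
    exact congrArg (fun φ => φ x₂) hX.w.symm
  let l₁ : kk ⟶ k₁ := residueMap g (f' x₁) (f x) hg₁
  let l₂ : kk ⟶ k₂ := residueMap g (f' x₂) (f x) hg₂
  have c₁ : f.residueFieldMap x ≫ j₁ = l₁ ≫ f'.residueFieldMap x₁ := by
    have := residueMap_comm hX.w x₁ x rfl (f' x₁) rfl (f x) rfl hg₁
    rwa [residueMap_rfl f x, residueMap_rfl f' x₁] at this
  have c₂ : f.residueFieldMap x ≫ j₂ = l₂ ≫ f'.residueFieldMap x₂ := by
    have := residueMap_comm hX.w x₂ x h₂ (f' x₂) rfl (f x) rfl hg₂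
    rwa [residueMap_rfl f x, residueMap_rfl f' x₂] at this
  let _ : Algebra kk K := (f.residueFieldMap x).hom.toAlgebra
  let _ : Algebra k₁ K₁ := (f'.residueFieldMap x₁).hom.toAlgebra
  let _ : Algebra k₂ K₂ := (f'.residueFieldMap x₂).hom.toAlgebra
  let _ : Algebra kk k₁ := l₁.hom.toAlgebra
  let _ : Algebra kk k₂ := l₂.hom.toAlgebra
  let _ : Algebra K K₁ := j₁.hom.toAlgebra
  let _ : Algebra K K₂ := j₂.hom.toAlgebra
  have : Module.Free kk K := Module.Free.of_divisionRing _ _
  obtain ⟨ι, t, ht⟩ := exists_isTranscendenceBasis' kk K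
  have hcard : Cardinal.mk ι = r := ht.cardinalMk_eq_trdeg.trans hx
  have : Finite ι := Cardinal.mk_lt_aleph0_iff.1 (hcard ▸ Cardinal.natCast_lt_aleph0)
  have ht₁ : IsTranscendenceBasis k₁ (j₁.hom ∘ t) := by
    have := isAlgebraic_adjoin_of_isPullback hX x₁ x rfl t ht
    exact isTranscendenceBasis_of_card _ (hcard.trans hx₁.symm)
  have ht₂ : IsTranscendenceBasis k₂ (j₂.hom ∘ t) := by
    have := isAlgebraic_adjoin_of_isPullback hX x₂ x h₂ t ht
    exact isTranscendenceBasis_of_card _ (hcard.trans hx₂.symm)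
  obtain ⟨Ω, _, s₁, s₂, γ, hagree, hγ₁, hγ₂, hind⟩ := exists_glue kk K k₁ k₂ K₁ K₂
    (congrArg CommRingCat.Hom.hom c₁) (congrArg CommRingCat.Hom.hom c₂) t ht ht₁.1 ht₂.1
  let R₀ : Subring Ω := γ.range
  let F : Subfield Ω := Subfield.closure (R₀ : Set Ω)
  let a₁ : k₁ →+* F := (s₁.comp (algebraMap k₁ K₁)).codRestrict F.toSubring fun c =>
    Subfield.subset_closure ⟨_, hγ₁ c⟩
  let a₂ : k₂ →+* F := (s₂.comp (algebraMap k₂ K₂)).codRestrict F.toSubring fun c =>
    Subfield.subset_closure ⟨_, hγ₂ c⟩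
  let iF : CommRingCat.of F ⟶ CommRingCat.of Ω := CommRingCat.ofHom F.subtype
  let b₁ : k₁ ⟶ CommRingCat.of F := CommRingCat.ofHom a₁
  let b₂ : k₂ ⟶ CommRingCat.of F := CommRingCat.ofHom a₂
  let v₁ : Spec (CommRingCat.of F) ⟶ S' := Spec.map b₁ ≫ S'.fromSpecResidueField (f' x₁)
  let v₂ : Spec (CommRingCat.of F) ⟶ S' := Spec.map b₂ ≫ S'.fromSpecResidueField (f' x₂)
  have hl : l₁ ≫ b₁ = l₂ ≫ b₂ := by
    refine CommRingCat.hom_ext (RingHom.ext fun c => Subtype.ext ?_)
    change s₁ (algebraMap k₁ K₁ (algebraMap kk k₁ c)) = s₂ (algebraMap k₂ K₂ (algebraMap kk k₂ c))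
    rw [← hγ₁, ← hγ₂, Algebra.algebraMap_eq_smul_one (R := kk) (A := k₁), TensorProduct.smul_tmul,
      ← Algebra.algebraMap_eq_smul_one]
  let v : Spec (CommRingCat.of F) ⟶ S'' := hS.lift v₁ v₂ (by
    simp only [v₁, v₂, Category.assoc]
    rw [← residueMap_fromSpec g (f' x₁) (f x) hg₁, ← residueMap_fromSpec g (f' x₂) (f x) hg₂,
      ← Spec.map_comp_assoc, ← Spec.map_comp_assoc]
    exact congrArg (fun m => Spec.map m ≫ S.fromSpecResidueField (f x)) hl)
  let u₁ : Spec (CommRingCat.of Ω) ⟶ X' := Spec.map (CommRingCat.ofHom s₁) ≫ X'.fromSpecResidueField x₁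
  let u₂ : Spec (CommRingCat.of Ω) ⟶ X' := Spec.map (CommRingCat.ofHom s₂) ≫ X'.fromSpecResidueField x₂
  have hu₁ : u₁ ≫ f' = Spec.map iF ≫ v₁ := by
    simp only [u₁, v₁, Category.assoc, ← f'.SpecMap_residueFieldMap_fromSpecResidueField, ← Spec.map_comp_assoc]
    rfl
  have hu₂ : u₂ ≫ f' = Spec.map iF ≫ v₂ := by
    simp only [u₂, v₂, Category.assoc, ← f'.SpecMap_residueFieldMap_fromSpecResidueField, ← Spec.map_comp_assoc]
    rfl
  have hu : u₁ ≫ g' = u₂ ≫ g' := by
    simp only [u₁, u₂, Category.assoc]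
    rw [← residueMap_fromSpec g' x₁ x rfl, ← residueMap_fromSpec g' x₂ x h₂, ← Spec.map_comp_assoc,
      ← Spec.map_comp_assoc]
    exact congrArg (fun m => Spec.map m ≫ X.fromSpecResidueField x) (CommRingCat.hom_ext hagree)
  let w : Spec (CommRingCat.of Ω) ⟶ X'' := hp.lift u₁ (Spec.map iF ≫ v) (by
    rw [hu₁, Category.assoc, hS.lift_fst])
  have hwp : w ≫ p' = u₁ := hp.lift_fst _ _ _
  have hwf : w ≫ f'' = Spec.map iF ≫ v := hp.lift_snd _ _ _
  have hwq : w ≫ q' = u₂ := by
    refine hX.hom_ext ?_ ?_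
    · rw [Category.assoc, ← hpq, ← Category.assoc, hwp, hu]
    · rw [Category.assoc, hq.w, ← Category.assoc, hwf, Category.assoc, hS.lift_snd, hu₂]
  obtain ⟨⟨z, φ⟩, hw⟩ := (Scheme.SpecToEquivOfField Ω X'').symm.surjective w
  change Spec.map φ ≫ X''.fromSpecResidueField z = w at hw
  have hwpt : w (IsLocalRing.closedPoint Ω) = z := hw ▸ eq_point_of_fac φ _
  have hz₁ : p' z = x₁ := by
    have e := congrArg (fun m => m (IsLocalRing.closedPoint Ω)) hwp
    rw [← hwpt]
    exact e.trans (eq_point_of_fac (CommRingCat.ofHom s₁) _)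
  have hz₂ : q' z = x₂ := by
    have e := congrArg (fun m => m (IsLocalRing.closedPoint Ω)) hwq
    rw [← hwpt]
    exact e.trans (eq_point_of_fac (CommRingCat.ofHom s₂) _)
  refine ⟨z, ?_, hz₁, hz₂⟩
  let k'' := S''.residueField (f'' z)
  let L := X''.residueField z
  let _ : Algebra k'' L := (f''.residueFieldMap z).hom.toAlgebra
  let j : K₁ ⟶ L := residueMap p' z x₁ hz₁
  have hj : j ≫ φ = CommRingCat.ofHom s₁ := residue_hom_ext (by
    rw [Spec.map_comp, Category.assoc, residueMap_fromSpec, ← Category.assoc, hw, hwp])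
  have := isAlgebraic_adjoin_of_isPullback hp z x₁ hz₁ (j₁.hom ∘ t) ht₁
  -- the image of `κ(f'' z)` lies in `F`
  have hF : ∀ c : k'', φ.hom (algebraMap k'' L c) ∈ F := by
    obtain ⟨⟨y, ψ⟩, hv⟩ := (Scheme.SpecToEquivOfField F S'').symm.surjective v
    change Spec.map ψ ≫ S''.fromSpecResidueField y = v at hv
    have e := congrArg (fun m => m (IsLocalRing.closedPoint Ω)) hwf
    rw [← hw, ← hv] at e
    have hy : f'' z = y := by simpa using e
    subst hy
    have h3 : f''.residueFieldMap z ≫ φ = ψ ≫ iF := residue_hom_ext (by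
      rw [Spec.map_comp, Spec.map_comp, Category.assoc, Category.assoc,
        f''.SpecMap_residueFieldMap_fromSpecResidueField, ← Category.assoc, hw, hv, hwf])
    intro c
    rw [show φ.hom (algebraMap k'' L c) = iF.hom (ψ.hom c) from congrArg (fun m => m.hom c) h3]
    exact (ψ.hom c).2
  have hindz : AlgebraicIndependent k'' (j.hom ∘ (j₁.hom ∘ t)) := by
    let tΩ : ι → Ω := fun i => s₁ (j₁.hom (t i))
    have h1 : AlgebraicIndependent R₀ tΩ := by
      rw [AlgebraicIndependent, injective_iff_map_eq_zero]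
      intro h hh
      obtain ⟨h₀, rfl⟩ := MvPolynomial.map_surjective γ.rangeRestrict γ.rangeRestrict_surjective h
      rw [MvPolynomial.aeval_def, MvPolynomial.eval₂_map] at hh
      ext m
      rw [MvPolynomial.coeff_map, MvPolynomial.coeff_zero]
      exact hind h₀ hh m
    let _ : Algebra R₀ F := (R₀.subtype.codRestrict F.toSubring fun c => Subfield.subset_closure c.2).toAlgebra
    have : IsScalarTower R₀ F Ω := IsScalarTower.of_algebraMap_eq fun _ => rfl
    have : Algebra.IsAlgebraic R₀ F := by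
      refine ⟨fun c => ?_⟩
      obtain ⟨y, hy, z', hz', hyz⟩ := Subfield.mem_closure_iff.1 c.2
      rw [Subring.closure_eq] at hy hz'
      by_cases hz0 : z' = 0
      · have : c = algebraMap R₀ F 0 := Subtype.ext (by rw [← hyz, hz0, div_zero]; rfl)
        exact this ▸ isAlgebraic_algebraMap _
      · refine ⟨Polynomial.C (⟨z', hz'⟩ : R₀) * Polynomial.X - Polynomial.C ⟨y, hy⟩, fun h => hz0 ?_, ?_⟩
        · have h' := congrArg (fun q => (q.coeff 1 : Ω)) h
          simpa [Polynomial.coeff_X] using h'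
        · refine Subtype.ext ?_
          simp only [map_sub, map_mul, Polynomial.aeval_C, Polynomial.aeval_X]
          change z' * (c : Ω) - y = 0
          rw [← hyz, mul_div_cancel₀ _ hz0, sub_self]
    have h2 : AlgebraicIndependent F tΩ := h1.extendScalars F
    rw [AlgebraicIndependent, injective_iff_map_eq_zero]
    intro h hh
    let ζ : k'' →+* F := (φ.hom.comp (algebraMap k'' L)).codRestrict F.toSubring hF
    have h3 : MvPolynomial.aeval tΩ (MvPolynomial.map ζ h) = 0 := by
      rw [MvPolynomial.aeval_def, MvPolynomial.eval₂_map]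
      have h4 := congrArg φ.hom hh
      rw [map_zero, MvPolynomial.aeval_def, MvPolynomial.eval₂_comp_left] at h4
      refine Eq.trans ?_ h4
      congr 1
      funext i
      exact (congrArg (fun m => m.hom (j₁.hom (t i))) hj).symm
    have h5 := (injective_iff_map_eq_zero _).1 h2 _ h3
    exact MvPolynomial.map_injective ζ ζ.injective (h5.trans (map_zero _).symm)
  have hb : IsTranscendenceBasis k'' (j.hom ∘ (j₁.hom ∘ t)) :=
    hindz.isTranscendenceBasis_iff_isAlgebraic.2 this
  exact hb.cardinalMk_eq_trdeg.symm.trans hcard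

end Groth.Agent.S7287
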