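import Groth.Statements.S7288
import Groth.Agent.EtaleDeep.Eps.Module

set_option autoImplicit false
set_option backward.isDefEq.respectTransparency.types false
open CategoryTheory CategoryTheory.Limits AlgebraicGeometry Opposite
universe u
open EtModW

namespace Groth.Agent.S7288

/-- Let X be a scheme and Λ a ring. The essential image of the pullback functor from sheaves of
Λ-modules on the small etale site of X to sheaves of Λ-modules on the small pro-etale site is a weak
Serre subcategory: the kernel and the cokernel of a morphism between objects of the essential image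
lie in it, and an extension of two objects of the essential image lies in it. (Continuity of the
inclusion of the etale site into the pro-etale site is carried as a binder.) -/
theorem result (Λ : Type (u + 1)) [CommRing Λ] (X : Scheme.{u})
    [ProEtS.EpsCont X] :
    (∀ (F G : EtModW.ModP Λ X) (φ : F ⟶ G), (EtModW.epsPullMod Λ X).essImage F →
      (EtModW.epsPullMod Λ X).essImage G →
        (EtModW.epsPullMod Λ X).essImage (kernel φ) ∧ (EtModW.epsPullMod Λ X).essImage (cokernel φ)) ∧
    ∀ (T : ShortComplex (EtModW.ModP Λ X)), T.ShortExact →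
      (EtModW.epsPullMod Λ X).essImage T.X₁ → (EtModW.epsPullMod Λ X).essImage T.X₃ →
        (EtModW.epsPullMod Λ X).essImage T.X₂ := by
  let P : ObjectProperty (ProEtS.AbP X) := fun F => ∃ G : EtCoh.Ab X,
    (⊤ : ObjectProperty (EtCoh.Ab X)) G ∧ Nonempty ((ProEtS.epsPull X).obj G ≅ F)
  have hW : WSerre.IsWeakSerre (⊤ : ObjectProperty (EtCoh.Ab X)) := inferInstance
  have hP : WSerre.IsWeakSerre P := Groth.EtaleDeep.Eps.isWeakSerre_image_epsPull ⊤
  have h1 : ∀ F, (EtModW.epsPullMod Λ X).essImage F ↔
      P ((Groth.EtaleDeep.Eps.toAbP Λ X).obj F) := fun F => by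
    rw [Groth.EtaleDeep.Eps.essImage_epsPullMod_iff]
    exact ⟨fun h => ⟨h.witness, trivial, ⟨h.getIso⟩⟩, fun ⟨G, _, e⟩ => ⟨G, e⟩⟩
  refine ⟨fun F G φ hF hG => ?_, fun T hT h₁ h₃ => ?_⟩
  · rw [h1] at hF hG
    rw [h1, h1]
    exact ⟨P.prop_of_iso (PreservesKernel.iso (Groth.EtaleDeep.Eps.toAbP Λ X) φ).symm
        (P.prop_kernel _ hF hG),
      P.prop_of_iso (PreservesCokernel.iso (Groth.EtaleDeep.Eps.toAbP Λ X) φ).symm
        (P.prop_cokernel _ hF hG)⟩
  · rw [h1] at h₁ h₃ ⊢
    exact P.prop_X₂_of_shortExact (hT.map_of_exact (Groth.EtaleDeep.Eps.toAbP Λ X)) h₁ h₃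

end Groth.Agent.S7288
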