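import Groth.Statements.S7290
import Mathlib

set_option autoImplicit false
open CategoryTheory CategoryTheory.Limits AlgebraicGeometry Opposite
universe u
open ProEtW

namespace Groth.Agent.S7290

theorem dependsOn {A : Type u} [CommRing A] {s : Set (PrimeSpectrum A)}
    (hs : Topology.IsConstructible s) :
    ∃ E : Finset A, ∀ x y : PrimeSpectrum A, (∀ f ∈ E, f ∈ x.asIdeal ↔ f ∈ y.asIdeal) →
      (x ∈ s ↔ y ∈ s) := by
  classical
  induction hs using Topology.IsConstructible.empty_union_induction with
  | open_retrocompact U hU hUc =>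
    have hc : IsCompact U := by
      have := hUc isCompact_univ isOpen_univ
      rwa [Set.inter_univ] at this
    obtain ⟨I, ⟨G, hG⟩, hI⟩ := PrimeSpectrum.isCompact_isOpen_iff_ideal.1 ⟨hc, hU⟩
    refine ⟨G, fun x y h => ?_⟩
    have key : ∀ z : PrimeSpectrum A, z ∈ U ↔ ¬ ∀ f ∈ G, f ∈ z.asIdeal := fun z => by
      rw [← hI, ← hG]
      simp [PrimeSpectrum.mem_zeroLocus, Set.subset_def]
    rw [key, key]
    exact not_congr ⟨fun hx f hf => (h f hf).1 (hx f hf), fun hy f hf => (h f hf).2 (hy f hf)⟩
  | union s _ t _ hs ht =>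
    obtain ⟨E, hE⟩ := hs
    obtain ⟨F, hF⟩ := ht
    refine ⟨E ∪ F, fun x y h => ?_⟩
    rw [Set.mem_union, Set.mem_union, hE x y fun f hf => h f (Finset.mem_union_left _ hf),
      hF x y fun f hf => h f (Finset.mem_union_right _ hf)]
  | compl s _ hs =>
    obtain ⟨E, hE⟩ := hs
    exact ⟨E, fun x y h => not_congr (hE x y h)⟩

/-- Let A be a ring and let Spec A be the disjoint union of finitely many constructible subsets T_i.
Then there is a finite subset E of A such that the stratification of Spec A according to which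
elements of E vanish at a point refines the given one: each nonempty stratum, consisting of the
primes whose intersection with E is a prescribed subset, is contained in one of the T_i. -/
theorem result (A : Type u) [CommRing A] {ι : Type u} [Finite ι]
    (T : ι → Set (PrimeSpectrum A)) (hT : ∀ i, Topology.IsConstructible (T i))
    (hcov : ⋃ i, T i = Set.univ) (hdisj : Pairwise fun i j => Disjoint (T i) (T j)) :
    ∃ E : Finset A, ∀ E'' : Finset A, E'' ⊆ E →
      ∀ x : PrimeSpectrum A, (∀ f ∈ E, f ∈ x.asIdeal ↔ f ∈ E'') →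
        ∃ i, {y : PrimeSpectrum A | ∀ f ∈ E, f ∈ y.asIdeal ↔ f ∈ E''} ⊆ T i := by
  classical
  have := Fintype.ofFinite ι
  choose E hE using fun i => dependsOn (hT i)
  refine ⟨Finset.univ.biUnion E, fun E'' _ x hx => ?_⟩
  obtain ⟨i, hi⟩ := Set.mem_iUnion.1 (hcov.ge (Set.mem_univ x))
  refine ⟨i, fun y hy => (hE i x y fun f hf => ?_).1 hi⟩
  have hfE : f ∈ Finset.univ.biUnion E := Finset.mem_biUnion.2 ⟨i, Finset.mem_univ i, hf⟩
  exact (hx f hfE).trans (hy f hfE).symm

end Groth.Agent.S7290
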