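import Groth.Statements.S7292
import Groth.Agent.HTopHyper.VLimit
import Groth.Agent.HTopHyper.VToPh2
import Groth.Agent.HTopHyper.VCover
import Groth.Agent.Limits.RelApproxCor

set_option autoImplicit false
open CategoryTheory CategoryTheory.Limits AlgebraicGeometry Opposite
universe w u
open HTop

namespace Groth.Agent.S7292

/-- Let f be a morphism of affine schemes from X to Y. The following are equivalent: (1) the one-member
family given by f is a standard V covering; (2) X (with f) is the limit, as a scheme over Y, of a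
cofiltered system of affine schemes X_i over Y such that each one-member family X_i over Y is a ph
covering; (3) the same with each X_i over Y an h covering. -/
theorem result {X Y : Scheme.{u}} [IsAffine X] [IsAffine Y] (f : X ⟶ Y) :
    List.TFAE
      [HTop.IsStandardV (PreZeroHypercover.singleton.{w} f),
       ∃ (I : Type u) (_ : SmallCategory I) (_ : IsCofiltered I) (D : I ⥤ Over Y) (c : Cone D)
          (_ : IsLimit ((Over.forget Y).mapCone c)) (_ : c.pt ≅ Over.mk f),
          (∀ i, IsAffine (D.obj i).left) ∧ ∀ i, HTop.IsPhCover (PreZeroHypercover.singleton.{w} (D.obj i).hom),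
       ∃ (I : Type u) (_ : SmallCategory I) (_ : IsCofiltered I) (D : I ⥤ Over Y) (c : Cone D)
          (_ : IsLimit ((Over.forget Y).mapCone c)) (_ : c.pt ≅ Over.mk f),
          (∀ i, IsAffine (D.obj i).left) ∧ ∀ i, HTop.IsHCover (PreZeroHypercover.singleton.{w} (D.obj i).hom)] := by
  tfae_have 1 → 3 := by
    intro h
    have : IsAffineHom f := isAffineHom_of_isAffine f
    obtain ⟨R, hR⟩ := Groth.Limits.exists_affineRelSystem f
    have : IsConnected R.Iᵒᵖ := IsCofiltered.isConnected _
    refine ⟨R.Iᵒᵖ, inferInstance, inferInstance, R.D, R.cone,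
      isLimitOfPreserves (Over.forget Y) R.isLimit, Iso.refl _,
      fun i => have := hR i; isAffine_of_isAffineHom (R.D.obj i).hom, fun i => ?_⟩
    refine ⟨fun _ => R.locallyOfFinitePresentation i, ?_⟩
    have : Finite (PreZeroHypercover.singleton.{w} (R.D.obj i).hom).I₀ :=
      inferInstanceAs (Finite PUnit)
    refine Groth.HTopHyper.isVCover_of_hasValLift (fun _ => R.quasiCompact i) fun V _ _ g => ?_
    obtain ⟨W, hW, hW', φ, hφ, -, (g' : Spec W ⟶ X), (hg' : g' ≫ f = Spec.map φ ≫ g)⟩ := h.lift V g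
    exact ⟨W, hW, hW', φ, hφ, PUnit.unit, g' ≫ (R.π.app i).left, by
      refine (Category.assoc _ _ _).trans (Eq.trans ?_ hg')
      exact congrArg (g' ≫ ·) (Over.w (R.π.app i))⟩
  tfae_have 3 → 2 := by
    rintro ⟨I, i1, i2, D, c, hc, e, ha, h⟩
    exact ⟨I, i1, i2, D, c, hc, e, ha, fun i =>
      (Groth.HTopHyper.isPhCover_iff_isVCover _ (h i).1).mpr (h i).2⟩
  tfae_have 2 → 1 := by
    rintro ⟨I, i1, i2, D, c, hc, e, ha, h⟩
    refine ⟨inferInstance, inferInstanceAs (Finite PUnit), fun _ => ‹IsAffine X›, ?_⟩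
    have key := Groth.HTopHyper.hasValLift_of_isLimit.{w, w} D c hc fun i =>
      Groth.HTopHyper.hasValLift_of_isVCover fun U => by
        obtain ⟨F, hF, hr⟩ := (h i).2 U
        exact ⟨F, Groth.HTopHyper.isStandardV_of_isStandardPh hF, hr⟩
    intro V _ _ g
    obtain ⟨W, hW, hW', φ, hφ, -, (g' : Spec W ⟶ c.pt.left), (hg' : g' ≫ c.pt.hom = Spec.map φ ≫ g)⟩ :=
      key V g
    exact ⟨W, hW, hW', φ, hφ, PUnit.unit, g' ≫ e.hom.left, by
      refine (Category.assoc _ _ _).trans (Eq.trans ?_ hg')
      exact congrArg (g' ≫ ·) (Over.w e.hom)⟩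
  tfae_finish

end Groth.Agent.S7292
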