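import Groth.Statements.S7304
import Groth.Agent.BlowUpBasics.SheafOf
import Groth.Agent.AdicLinTop.CompletionQuot
import Groth.Agent.Calg1.CompletionLocal

set_option autoImplicit false
universe u
open CategoryTheory CategoryTheory.Limits AlgebraicGeometry
open Resolve

namespace Groth.Agent.S7304

open Groth.BlowUpBasics IsLocalRing in
theorem descend (A : Type u) [CommRing A] [IsLocalRing A] [IsNoetherianRing A]
    (K : Ideal (Curv2.cpl A))
    (hK : ∀ P : Ideal (Curv2.cpl A), P.IsPrime → K ≤ P → P = maximalIdeal (Curv2.cpl A)) :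
    (K.comap (algebraMap A (Curv2.cpl A))).map (algebraMap A (Curv2.cpl A)) = K := by
  refine le_antisymm Ideal.map_comap_le fun k hk => ?_
  have hfg := IsNoetherian.noetherian (maximalIdeal A)
  have : IsNoetherianRing (Curv2.cpl A) := Groth.Calg1.isNoetherianRing_adicCompletion _ hfg
  have hrad : maximalIdeal (Curv2.cpl A) ≤ K.radical := by
    rw [Ideal.radical_eq_sInf]
    exact le_sInf fun P hP => (hK P hP.2 hP.1).ge
  obtain ⟨n, hn⟩ := Ideal.exists_pow_le_of_le_radical_of_fg hrad (IsNoetherian.noetherian _)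
  rw [AdicCompletion.maximalIdeal_eq_map] at hn
  obtain ⟨a, ha⟩ := Ideal.Quotient.mk_surjective (AdicCompletion.evalₐ (maximalIdeal A) n k)
  have h : k - algebraMap A (Curv2.cpl A) a ∈
      (maximalIdeal A).map (algebraMap A (Curv2.cpl A)) ^ n := by
    rw [← Groth.AdicLinTop.CompletionQuot.ker_evalₐ _ hfg, RingHom.mem_ker]
    show AdicCompletion.evalₐ _ n _ = 0
    rw [map_sub, Groth.AdicLinTop.CompletionQuot.evalₐ_algebraMap, ha, sub_self]
  have haK : a ∈ K.comap (algebraMap A (Curv2.cpl A)) := by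
    have := K.sub_mem hk (hn h)
    rwa [sub_sub_cancel] at this
  have hle : (maximalIdeal A) ^ n ≤ K.comap (algebraMap A (Curv2.cpl A)) := by
    rw [← Ideal.map_le_iff_le_comap, Ideal.map_pow]
    exact hn
  rw [← Ideal.map_pow] at h
  have := add_mem (Ideal.map_mono hle h) (Ideal.mem_map_of_mem (algebraMap A (Curv2.cpl A)) haK)
  rwa [sub_add_cancel] at this

/-- Let (A, m) be a Noetherian local ring with m-adic completion A^, and U ⊂ Spec A, U^ ⊂ Spec A^ the
punctured spectra. If c : Y → Spec A^ is a U^-admissible blowing up (a blowing up in a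
quasi-coherent ideal of finite type whose support misses U^), then there is a U-admissible blowing
up b : X → Spec A such that Y is isomorphic, over Spec A^, to the base change of X to Spec A^. -/
theorem result (A : Type u) [CommRing A] [IsLocalRing A] [IsNoetherianRing A]
    (Y : Scheme.{u}) (c : Y ⟶ Spec (CommRingCat.of (Curv2.cpl A)))
    (J : (Spec (CommRingCat.of (Curv2.cpl A))).IdealSheafData)
    (hJ : BlowUp.IsAdmissibleFor (FEt.puncturedSpec (Curv2.cpl A)) J) (hc : BlowUp.IsBlowUp c J) :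
    ∃ (I : (Spec (CommRingCat.of A)).IdealSheafData) (X : Scheme.{u}) (b : X ⟶ Spec (CommRingCat.of A)),
      BlowUp.IsAdmissibleFor (FEt.puncturedSpec A) I ∧ BlowUp.IsBlowUp b I ∧
      ∃ e : Y ≅ Curv2.bcCpl A b, e.hom ≫ Curv2.bcCplSnd A b = c := by
  obtain ⟨K, rfl⟩ := Groth.BlowUpBasics.sheafOf_surjective J
  let K₀ := K.comap (algebraMap A (Curv2.cpl A))
  have hK : ∀ P : Ideal (Curv2.cpl A), P.IsPrime → K ≤ P →
      P = IsLocalRing.maximalIdeal (Curv2.cpl A) := fun P hP hKP => by
    by_contra hne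
    refine Set.disjoint_left.1 hJ.2 ((Groth.BlowUpBasics.mem_support_sheafOf K ⟨P, hP⟩).2 hKP) ?_
    exact fun h => hne (congrArg PrimeSpectrum.asIdeal h)
  have hmap : K₀.map (algebraMap A (Curv2.cpl A)) = K := descend A K hK
  obtain ⟨X, b, hb⟩ := Groth.BlowUpBasics.exists_isBlowUp _ (Groth.BlowUpBasics.sheafOf K₀)
  refine ⟨Groth.BlowUpBasics.sheafOf K₀, X, b, ⟨fun W => ?_, ?_⟩, hb, ?_⟩
  · have : IsNoetherianRing Γ(Spec (CommRingCat.of A), W.1) := IsLocallyNoetherian.component_noetherian W
    exact IsNoetherian.noetherian _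
  · refine Set.disjoint_left.2 fun p hp hpU => hpU (PrimeSpectrum.ext ?_)
    have hle := (Groth.BlowUpBasics.mem_support_sheafOf K₀ p).1 hp
    have : IsNoetherianRing (Curv2.cpl A) :=
      Groth.Calg1.isNoetherianRing_adicCompletion _ (IsNoetherian.noetherian _)
    obtain ⟨n, hn⟩ := Ideal.exists_pow_le_of_le_radical_of_fg
      (show IsLocalRing.maximalIdeal (Curv2.cpl A) ≤ K.radical by
        rw [Ideal.radical_eq_sInf]
        exact le_sInf fun P hP => (hK P hP.2 hP.1).ge) (IsNoetherian.noetherian _)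
    refine ((IsLocalRing.maximalIdeal.isMaximal A).eq_of_le p.isPrime.ne_top ?_).symm
    refine p.isPrime.le_of_pow_le (n := n) (le_trans ?_ hle)
    rw [← Ideal.map_le_iff_le_comap, Ideal.map_pow, ← AdicCompletion.maximalIdeal_eq_map]
    exact hn
  · have : Flat (Spec.map (CommRingCat.ofHom (algebraMap A (Curv2.cpl A)))) := by
      rw [HasRingHomProperty.Spec_iff (P := @Flat), CommRingCat.hom_ofHom, RingHom.flat_algebraMap_iff]
      infer_instance
    have h2 := Groth.BlowUpBasics.isBlowUp_of_isPullback hb (IsPullback.of_hasPullback b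
      (Spec.map (CommRingCat.ofHom (algebraMap A (Curv2.cpl A))))).flip
    rw [Groth.BlowUpBasics.comap_sheafOf_Spec, hmap] at h2
    exact Groth.BlowUpBasics.exists_iso_of_isBlowUp hc h2

end Groth.Agent.S7304
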