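import Groth.Statements.S7301
import Groth.Agent.ResolveSurf.RationalBaseChange
import Groth.Agent.BlowUpBasics.Global
import Groth.Agent.Calg1.CompletionLocal
import Groth.Agent.S1274
import Groth.Agent.S7304
import Groth.Agent.S5333
-- import your own Groth.Agent.* helpers here

set_option autoImplicit false
set_option backward.isDefEq.respectTransparency.types false
set_option linter.style.haveILetI false
universe u
open CategoryTheory CategoryTheory.Limits AlgebraicGeometry
open Resolve

namespace Groth.Agent.S7301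

/-- Let (A, m) be a Nagata local normal domain of dimension two which defines a rational singularity,
and assume the m-adic completion of A is a normal domain. Then the completion defines a rational
singularity as well. -/
theorem result (A : Type u) [CommRing A] [IsDomain A] [IsLocalRing A] [IsNoetherianRing A]
    [IsIntegrallyClosed A] (hN : CAlg.IsNagata A) (hdim : ringKrullDim A = 2) (hA : Curv2.IsRationalSing A)
    [IsDomain (Curv2.cpl A)] [IsIntegrallyClosed (Curv2.cpl A)] : Curv2.IsRationalSing (Curv2.cpl A) := by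
  intro Y f hfp hYi hYn hmod
  haveI := hfp
  haveI := hYi
  haveI : IsNoetherianRing (Curv2.cpl A) :=
    Groth.Calg1.isNoetherianRing_adicCompletion _ (IsNoetherian.noetherian (IsLocalRing.maximalIdeal A))
  have hdimC : ringKrullDim (Curv2.cpl A) = 2 := (Groth.Calg1.ringKrullDim_adicCompletion A).trans hdim
  obtain ⟨U, hU, hiso⟩ := hmod
  haveI := hiso
  let S : Scheme.{u} := Spec (CommRingCat.of (Curv2.cpl A))
  let φ := algebraMap A (Curv2.cpl A)
  have hφ : Function.Injective φ := fun a b h =>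
    AdicCompletion.of_injective (IsLocalRing.maximalIdeal A) A (by exact h)
  obtain ⟨hfgen, hfst⟩ := Groth.ResolveSurf.RationalDescend.birational f U hU
  have hne : ((f ⁻¹ᵁ U : Y.Opens) : Set Y).Nonempty :=
    Groth.ResolveSurf.ModVanish.preimage_nonempty f hU hiso
  haveI : IsIso (f ∣_ FEt.puncturedSpec (Curv2.cpl A)) :=
    Groth.ResolveSurf.RegularRational.isIso_restrict_punctured hdimC.le f hfgen hfst U hne hiso _ (fun h => h rfl)
  obtain ⟨J, S', bJ, hbJ, hadm, h0, h0f⟩ := Groth.Agent.S1274.result f (FEt.puncturedSpec (Curv2.cpl A))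
    (TopologicalSpace.NoetherianSpace.isCompact _)
  obtain ⟨I, X₁, b, hadmI, hb, e, he⟩ := Groth.Agent.S7304.result A S' bJ J hadm hbJ
  obtain ⟨I₀, rfl⟩ := Groth.BlowUpBasics.sheafOf_surjective I
  have hηm : genericPoint (Spec (CommRingCat.of A)) ∈ FEt.puncturedSpec A := fun hh => by
    have h1 : IsField A := IsLocalRing.isField_iff_maximalIdeal_eq.2
      (congrArg PrimeSpectrum.asIdeal
        ((Set.mem_singleton_iff.1 hh).symm.trans (genericPoint_eq_bot_of_affine (CommRingCat.of A))))
    rw [ringKrullDim_eq_zero_of_isField h1] at hdim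
    exact absurd hdim (by norm_num)
  have hI0 : I₀ ≠ ⊥ := fun h => by
    refine Set.disjoint_left.1 hadmI.2 ?_ hηm
    rw [SetLike.mem_coe, Groth.BlowUpBasics.mem_support_sheafOf, h]
    exact bot_le
  obtain ⟨X, g, hgp, hXi, hXn, hbirA, hCI⟩ :=
    Groth.ResolveSurf.RationalDescend.exists_normal_modification hN I₀ hI0
  haveI := hgp
  haveI := hXi
  obtain ⟨h, hh, -⟩ := hb.2 X g hCI
  obtain ⟨U₀, hU₀, hgU₀⟩ := id hbirA
  haveI := hgU₀
  let sφ : S ⟶ Spec (CommRingCat.of A) := Spec.map (CommRingCat.ofHom φ)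
  let Q : Scheme.{u} := pullback g sφ
  let q : Q ⟶ S := pullback.snd g sφ
  haveI : IsProper q := MorphismProperty.pullback_snd _ _ hgp
  haveI hqU : IsIso (q ∣_ (sφ ⁻¹ᵁ U₀)) :=
    Groth.ResolveSurf.RationalDescend.isIso_restrict_of_isPullback (IsPullback.of_hasPullback g sφ) U₀
  have hsη : sφ (genericPoint S) = genericPoint (Spec (CommRingCat.of A)) := by
    rw [genericPoint_eq_bot_of_affine, genericPoint_eq_bot_of_affine]
    refine PrimeSpectrum.ext ?_
    change (⊥ : Ideal (Curv2.cpl A)).comap φ = ⊥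
    exact (RingHom.injective_iff_ker_eq_bot φ).1 hφ
  let U' : S.Opens := U ⊓ sφ ⁻¹ᵁ U₀
  have hηU' : genericPoint S ∈ U' :=
    ⟨((genericPoint_spec S).mem_open_set_iff U.2).2 (by simpa using hU),
      show sφ _ ∈ U₀ from hsη ▸ ((genericPoint_spec _).mem_open_set_iff U₀.2).2 (by simpa using hU₀)⟩
  haveI : IsIso (q ∣_ U') := Groth.ArSurfBasics.Principalization.isIso_restrict_mono q inf_le_right
  obtain ⟨w₀, hw₀⟩ := (q ∣_ U').surjective ⟨_, hηU'⟩
  -- the closure of the point over the generic point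
  let K : Q.IdealSheafData := Scheme.IdealSheafData.vanishingIdeal ⟨closure {w₀.1}, isClosed_closure⟩
  let Z : Scheme.{u} := K.subscheme
  let i : Z ⟶ Q := K.subschemeι
  have hsupp : (K.support : Set Q) = closure {w₀.1} := Scheme.IdealSheafData.coe_support_vanishingIdeal _
  haveI : IrreducibleSpace Z :=
    Groth.ResolveSurf.RationalBaseChange.irreducibleSpace_subscheme K (hsupp ▸ isIrreducible_singleton.closure)
  haveI : AlgebraicGeometry.IsReduced Z := Groth.Agent.S5333.isReduced_vanishingIdeal' _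
  haveI : IsIntegral Z := isIntegral_of_irreducibleSpace_of_isReduced Z
  have hH : Subsingleton (Coh.HH Z (Coh.structureModule Z) 1) :=
    Groth.ResolveSurf.RationalBaseChange.subsingleton_H1_closed_baseChange φ g hN hdim hA hXn hbirA i
  haveI : IsIso (i ∣_ (q ⁻¹ᵁ U')) := by
    haveI : Surjective (i ∣_ (q ⁻¹ᵁ U')) := ⟨fun z => by
      have hz : z.1 ∈ Set.range i := by
        rw [K.range_subschemeι, hsupp]
        exact Groth.ResolveSurf.RationalBaseChange.mem_closure_of_iso q U' (genericPoint_spec S) w₀ (congrArg Subtype.val hw₀) z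
      obtain ⟨t, ht⟩ := hz
      exact ⟨⟨t, show i t ∈ q ⁻¹ᵁ U' from ht ▸ z.2⟩, Subtype.ext (by rw [morphismRestrict_base_coe]; exact ht)⟩⟩
    haveI : IsReduced (q ⁻¹ᵁ U' : Q.Opens).toScheme := isReduced_of_isOpenImmersion (q ∣_ U')
    exact isIso_of_isClosedImmersion_of_surjective _
  -- factor through `Y`
  let hQ : Q ⟶ Curv2.bcCpl A b := pullback.lift (pullback.fst g sφ ≫ h) q
    (by rw [Category.assoc, hh]; exact pullback.condition)
  let k₁ : Q ⟶ Y := hQ ≫ e.inv ≫ h0
  have hk₁ : k₁ ≫ f = q := by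
    have he' : e.inv ≫ bJ = Curv2.bcCplSnd A b := by rw [← he, Iso.inv_hom_id_assoc]
    rw [Category.assoc, Category.assoc, h0f, he']
    exact pullback.lift_snd _ _ _
  let k : Z ⟶ Y := i ≫ k₁
  have hkf : k ≫ f = i ≫ q := by rw [Category.assoc, hk₁]
  haveI : IsProper k := by
    haveI : IsProper (k ≫ f) := hkf ▸ inferInstance
    exact IsProper.of_comp k f
  haveI : IsIso (f ∣_ U') := Groth.ArSurfBasics.Principalization.isIso_restrict_mono f inf_le_left
  haveI : IsIso (k ∣_ (f ⁻¹ᵁ U')) := by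
    have h1 : IsIso ((k ≫ f) ∣_ U') := by
      rw [hkf, morphismRestrict_comp]
      exact @IsIso.comp_isIso _ _ _ _ _ (i ∣_ (q ⁻¹ᵁ U')) (q ∣_ U') ‹_› ‹_›
    rw [morphismRestrict_comp] at h1
    exact @IsIso.of_isIso_comp_right _ _ _ _ _ _ (f ∣_ U') inferInstance h1
  obtain ⟨hkgen, hkbir⟩ := Groth.ResolveSurf.RationalDescend.birational k (f ⁻¹ᵁ U') (by
    obtain ⟨y, hy⟩ := (f ∣_ U').surjective ⟨_, hηU'⟩
    exact ⟨y.1, y.2⟩)
  haveI : IsLocallyNoetherian Y := LocallyOfFiniteType.isLocallyNoetherian f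
  haveI := Groth.ModelsGraphs.RatSingPush.isIso_unitToPush k (fun y => (hYn y).2) hkgen hkbir
  exact Groth.ResolveSurf.RegularRational.subsingleton_H1_of_dominated k hH

end Groth.Agent.S7301
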