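import Groth.Statements.S7302
import Groth.Agent.S1650
import Groth.Agent.S7301
import Groth.Agent.S7305
import Groth.Agent.S0598
import Groth.Agent.S0599
import Groth.Agent.S2652
import Groth.Agent.S2654
import Groth.Agent.Calg1.SmoothCompletion
import Groth.Agent.LocDual.NormalExcellent
import Groth.Agent.Ega4Algebra1.GRingDescent
import Groth.Agent.Ega4Algebra1.ExcellentLoc
import Groth.Agent.BlowUpBasics.Global
-- import your own Groth.Agent.* helpers here

set_option autoImplicit false
set_option backward.isDefEq.respectTransparency.types false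
set_option linter.style.haveILetI false
universe u
open CategoryTheory CategoryTheory.Limits AlgebraicGeometry
open Resolve

namespace Groth.Agent.S7302

open IsLocalRing

/-- The completion of a normal local G-ring domain is normal. -/
theorem isIntegrallyClosed_completion (R : Type u) [CommRing R] [IsLocalRing R] [IsNoetherianRing R] [IsDomain R]
    [IsIntegrallyClosed R] (hR : CAlg.IsGRing R) :
    IsDomain (Curv2.cpl R) ∧ IsIntegrallyClosed (Curv2.cpl R) := by
  haveI := Groth.LocCohTransform.HLVT.isNoetherianRing_completion R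
  haveI hdom := Groth.LocDual.NormalExcellent.isDomain_completion R hR
  obtain ⟨hflat, hfib⟩ := Groth.LocDual.NormalExcellent.isRegularHom_completion R hR
  have hC : EGA4.IsNormalRing (Curv2.cpl R) := by
    refine Groth.Calg4.isNormalRing_of_flat_of_regular_fibers R (Curv2.cpl R)
      (Groth.LocDual.NormalExcellent.isNormalRing_of_domain R) fun p _ => ?_
    have := (hfib p).2 p.ResidueField inferInstance
    exact IsRegularRing.of_ringEquiv (R := TensorProduct p.ResidueField p.ResidueField (p.Fiber (Curv2.cpl R))) (Algebra.TensorProduct.lid p.ResidueField (p.Fiber (Curv2.cpl R))).toRingEquiv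
  haveI h := (hC (maximalIdeal (Curv2.cpl R))).2
  haveI : IsLocalization.AtPrime (Curv2.cpl R) (maximalIdeal (Curv2.cpl R)) :=
    IsLocalization.self fun x hx => by
      by_contra hu
      exact hx hu
  exact ⟨hdom, IsIntegrallyClosed.of_equiv (IsLocalization.algEquiv (maximalIdeal (Curv2.cpl R)).primeCompl
    (Localization.AtPrime (maximalIdeal (Curv2.cpl R))) (Curv2.cpl R)).toRingEquiv⟩


/-- Let (A, m) be a Nagata local normal domain of dimension two which defines a rational singularity and
whose m-adic completion is a normal domain, and let b : X → Spec A be the blowing up in m. Then for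
every closed point x of X the completion of the local ring O_{X,x} at its maximal ideal is a normal
domain. -/
theorem result (A : Type u) [CommRing A] [IsDomain A] [IsLocalRing A] [IsNoetherianRing A]
    [IsIntegrallyClosed A] (hN : CAlg.IsNagata A) (hdim : ringKrullDim A = 2) (hA : Curv2.IsRationalSing A)
    [IsDomain (Curv2.cpl A)] [IsIntegrallyClosed (Curv2.cpl A)]
    (X : Scheme.{u}) (b : X ⟶ Spec (CommRingCat.of A)) (hb : BlowUp.IsBlowUp b (Curv2.idealSheaf A (IsLocalRing.maximalIdeal A)))
    (x : X) (hx : IsClosed ({x} : Set X)) :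
    IsDomain (Curv2.cpl (X.presheaf.stalk x)) ∧ IsIntegrallyClosed (Curv2.cpl (X.presheaf.stalk x)) := by
  haveI : IsNoetherianRing (Curv2.cpl A) :=
    Groth.Calg1.isNoetherianRing_adicCompletion _ (IsNoetherian.noetherian (IsLocalRing.maximalIdeal A))
  haveI : IsAdicComplete (IsLocalRing.maximalIdeal (Curv2.cpl A)) (Curv2.cpl A) := by
    rw [AdicCompletion.maximalIdeal_eq_map]
    exact AdicCompletion.isAdicComplete_self _ (IsLocalRing.maximalIdeal A).fg_of_isNoetherianRing
  have hexC := Groth.Agent.S2652.result (Curv2.cpl A)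
  have hNC : CAlg.IsNagata (Curv2.cpl A) := Groth.Agent.S2654.result _ ⟨hexC.1, hexC.2.2.1, hexC.2.2.2⟩
  have hdimC : ringKrullDim (Curv2.cpl A) = 2 := (Groth.Calg1.ringKrullDim_adicCompletion A).trans hdim
  have hAC : Curv2.IsRationalSing (Curv2.cpl A) := Groth.Agent.S7301.result A hN hdim hA
  let φ := algebraMap A (Curv2.cpl A)
  haveI : Flat (Spec.map (CommRingCat.ofHom φ)) := (HasRingHomProperty.Spec_iff (P := @Flat)).2
    (RingHom.flat_algebraMap_iff.2 inferInstance)
  have hbl : BlowUp.IsBlowUp (Curv2.bcCplSnd A b) (Curv2.idealSheaf (Curv2.cpl A) (IsLocalRing.maximalIdeal (Curv2.cpl A))) := by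
    have h1 := Groth.BlowUpBasics.isBlowUp_of_isPullback hb (IsPullback.of_hasPullback b (Spec.map (CommRingCat.ofHom φ))).flip
    rw [show Curv2.idealSheaf A (IsLocalRing.maximalIdeal A) = Groth.BlowUpBasics.sheafOf (IsLocalRing.maximalIdeal A) from rfl,
      Groth.BlowUpBasics.comap_sheafOf_Spec, ← AdicCompletion.maximalIdeal_eq_map] at h1
    exact h1
  have hYn := Groth.Agent.S1650.result (Curv2.cpl A) hNC hdimC hAC _ (Curv2.bcCplSnd A b) hbl
  haveI : IsProper b := Groth.HTopHyper.isProper_of_isBlowUp hb fun U => by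
    haveI := IsLocallyNoetherian.component_noetherian U
    exact IsNoetherian.noetherian _
  have hbx : b x = IsLocalRing.closedPoint A := by
    have h1 : IsClosed ({b x} : Set (Spec (CommRingCat.of A))) := by
      rw [← Set.image_singleton]
      exact b.isClosedMap _ hx
    exact ((IsLocalRing.specializes_closedPoint (b x)).mem_closed h1 rfl).symm
  have hclosed : Spec.map (CommRingCat.ofHom φ) (IsLocalRing.closedPoint (Curv2.cpl A)) = IsLocalRing.closedPoint A := by
    haveI : IsLocalHom φ := ((IsLocalRing.local_hom_TFAE φ).out 0 2).mpr AdicCompletion.maximalIdeal_eq_map.ge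
    exact IsLocalRing.comap_closedPoint φ
  obtain ⟨q, hqx, hqm⟩ := Scheme.exists_preimage_of_isPullback
    (IsPullback.of_hasPullback b (Spec.map (CommRingCat.ofHom φ))) x _ (hbx.trans hclosed.symm)
  subst hqx
  let Y := Curv2.bcCpl A b
  haveI : IsLocallyNoetherian Y := LocallyOfFiniteType.isLocallyNoetherian (Curv2.bcCplSnd A b)
  haveI : IsLocallyNoetherian X := LocallyOfFiniteType.isLocallyNoetherian b
  -- the local ring upstairs is a G-ring
  obtain ⟨_, ⟨W, hW, rfl⟩, hqW, -⟩ := Y.isBasis_affineOpens.exists_subset_of_mem_open (Set.mem_univ q) isOpen_univ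
  let γ := Groth.BlowUpBasics.phi (Curv2.bcCplSnd A b) W
  have hγ : γ.FiniteType := by
    refine RingHom.FiniteType.comp ?_ (RingHom.FiniteType.of_surjective _
      (ConcreteCategory.bijective_of_isIso (Scheme.ΓSpecIso (CommRingCat.of (Curv2.cpl A))).inv).2)
    exact HasRingHomProperty.appLE @LocallyOfFiniteType (Curv2.bcCplSnd A b) inferInstance ⟨⊤, isAffineOpen_top _⟩ ⟨W, hW⟩ _
  letI := γ.toAlgebra
  haveI : Algebra.FiniteType (Curv2.cpl A) Γ(Y, W) := hγ
  have hGW : CAlg.IsGRing Γ(Y, W) := Groth.Agent.S0599.result (Curv2.cpl A) (Groth.Agent.S0598.result _) _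
  letI := (Y.presheaf.germ W q hqW).hom.toAlgebra
  haveI : IsLocalization.AtPrime (Y.presheaf.stalk q) (hW.primeIdealOf ⟨q, hqW⟩).asIdeal := hW.isLocalization_stalk ⟨q, hqW⟩
  have hGq : CAlg.IsGRing (Y.presheaf.stalk q) :=
    Groth.Ega4Algebra1.isGRing_of_ringEquiv
      (IsLocalization.algEquiv (hW.primeIdealOf ⟨q, hqW⟩).asIdeal.primeCompl (Localization.AtPrime (hW.primeIdealOf ⟨q, hqW⟩).asIdeal)
        (Y.presheaf.stalk q)).toRingEquiv
      (Groth.Ega4Algebra1.isGRing_localization hGW _)
  obtain ⟨h1, h2⟩ := hYn q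
  haveI := h1
  haveI := h2
  obtain ⟨hd, hic⟩ := isIntegrallyClosed_completion (Y.presheaf.stalk q) hGq
  -- compare the completions
  let σ := (Curv2.bcCplFst A b).stalkMap q
  letI : Algebra (X.presheaf.stalk ((Curv2.bcCplFst A b) q)) (Y.presheaf.stalk q) := σ.hom.toAlgebra
  have hle : ∀ n : ℕ, IsLocalRing.maximalIdeal (X.presheaf.stalk ((Curv2.bcCplFst A b) q)) ^ n ≤
      (IsLocalRing.maximalIdeal (Y.presheaf.stalk q) ^ n).comap σ.hom := fun n => by
    refine le_trans (Ideal.pow_right_mono ?_ n) (Ideal.le_comap_pow _ n)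
    exact (IsLocalRing.maximalIdeal_comap σ.hom).ge
  obtain ⟨e⟩ := Groth.Calg1.nonempty_algEquiv_adicCompletion
    (IsLocalRing.maximalIdeal (X.presheaf.stalk ((Curv2.bcCplFst A b) q))) (IsLocalRing.maximalIdeal (Y.presheaf.stalk q))
    (Algebra.ofId (X.presheaf.stalk ((Curv2.bcCplFst A b) q)) (Y.presheaf.stalk q)) hle fun n => by
      rcases Nat.eq_zero_or_pos n with rfl | hn
      · haveI : Subsingleton (X.presheaf.stalk ((Curv2.bcCplFst A b) q) ⧸
            IsLocalRing.maximalIdeal (X.presheaf.stalk ((Curv2.bcCplFst A b) q)) ^ 0) :=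
          Ideal.Quotient.subsingleton_iff.2 (by rw [pow_zero, Ideal.one_eq_top])
        haveI : Subsingleton (Y.presheaf.stalk q ⧸ IsLocalRing.maximalIdeal (Y.presheaf.stalk q) ^ 0) :=
          Ideal.Quotient.subsingleton_iff.2 (by rw [pow_zero, Ideal.one_eq_top])
        exact ⟨fun a b _ => Subsingleton.elim _ _, fun a => ⟨0, Subsingleton.elim _ _⟩⟩
      · exact Groth.Agent.S7305.result A (IsLocalRing.maximalIdeal A).fg_of_isNoetherianRing X b q hbx n hn (hle n)
  haveI := hd
  haveI := hic
  exact ⟨e.toRingEquiv.toMulEquiv.isDomain _, IsIntegrallyClosed.of_equiv e.toRingEquiv.symm⟩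

end Groth.Agent.S7302
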