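import Groth.Statements.S7303
import Groth.Agent.S7336
import Groth.Agent.ArSurfBasics.ExcConormal
-- import your own Groth.Agent.* helpers here

set_option autoImplicit false
universe u
open CategoryTheory CategoryTheory.Limits AlgebraicGeometry
open Resolve

namespace Groth.Agent.S7303

/-- Let (A, m) be a local Noetherian normal domain of dimension two, f : X → Spec A a proper morphism
from an integral normal scheme which is an isomorphism over some nonempty open, and Z ⊂ X a nonempty
effective Cartier divisor, with ideal sheaf I, whose support lies in the closed fibre of f. Then the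
conormal sheaf of Z in X, namely the pullback of I to Z, is not isomorphic to O_Z. (The published
statement adds that the restriction of the conormal sheaf to some irreducible component of the
closed fibre contained in Z has positive degree; this row states only that the conormal sheaf is not
trivial.) -/
theorem result (A : Type u) [CommRing A] [IsDomain A] [IsLocalRing A] [IsNoetherianRing A]
    [IsIntegrallyClosed A] (hdim : ringKrullDim A = 2)
    (X : Scheme.{u}) (f : X ⟶ Spec (CommRingCat.of A)) [IsProper f] [IsIntegral X]
    (hbir : ∃ U : (Spec (CommRingCat.of A)).Opens, (U : Set (Spec (CommRingCat.of A))).Nonempty ∧ IsIso (f ∣_ U)) (hXn : Pi1.IsNormalScheme X)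
    (I : X.IdealSheafData) (hI : BlowUp.IsEffCartierIdeal I) (hne : (I.support : Set X).Nonempty)
    (hZ : (I.support : Set X) ⊆ f.base ⁻¹' {IsLocalRing.closedPoint A}) :
    IsEmpty ((Scheme.Modules.pullback I.subschemeι).obj (ClSub.idealMod I) ≅ Coh.structureModule I.subscheme) := by
  haveI : IsLocallyNoetherian X := LocallyOfFiniteType.isLocallyNoetherian f
  obtain ⟨U, hU, hiso⟩ := hbir
  haveI := hiso
  exact Groth.ArSurfBasics.EffNormal.isEmpty_conormal_iso f hdim hU (fun z => (hXn z).2) hI hne hZ
    fun hf => Groth.Agent.S7336.result A hdim X f ⟨U, hU, hiso⟩ hf

end Groth.Agent.S7303
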