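import Groth.Statements.S7308
import Groth.Agent.ResolveSurf.ContractionDesc
-- import your own Groth.Agent.* helpers here

set_option autoImplicit false
universe u
open CategoryTheory CategoryTheory.Limits AlgebraicGeometry
open Resolve

namespace Groth.Agent.S7308

/-- Let X be a Noetherian scheme and ι : E → X a closed immersion which is an exceptional curve of the
first kind. A contraction of E, if it exists, is unique up to unique isomorphism: for contractions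
b₁ : X → X₁ and b₂ : X → X₂ of E there is a unique isomorphism e : X₁ ≅ X₂ with b₁ ≫ e = b₂. -/
theorem result {E X X₁ X₂ : Scheme.{u}} [IsNoetherian X] (ι : E ⟶ X) [IsClosedImmersion ι]
    (hE : Models.IsExcCurve ι) (b₁ : X ⟶ X₁) (hb₁ : Models.IsContractionOf ι b₁) (b₂ : X ⟶ X₂) (hb₂ : Models.IsContractionOf ι b₂) :
    ∃! e : X₁ ≅ X₂, b₁ ≫ e.hom = b₂ := by
  have hc : ∀ {X' : Scheme.{u}} (b : X ⟶ X'), Models.IsContractionOf ι b → ∀ e e' : E, b (ι e) = b (ι e') := by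
    intro X' b hb e e'
    obtain ⟨-, -, y, -, hr, -⟩ := hb
    have h : ∀ a : E, b (ι a) = y := fun a => by
      have : (ι ≫ b).base a ∈ ({y} : Set X') := hr ▸ ⟨a, rfl⟩
      exact this
    rw [h e, h e']
  have u₁ : ∀ {Y : Scheme.{u}} (φ : X ⟶ Y), (∀ e e', φ (ι e) = φ (ι e')) → ∃! ψ : X₁ ⟶ Y, b₁ ≫ ψ = φ :=
    fun φ h => Groth.ResolveSurf.ContractionDesc.existsUnique_desc ι hE b₁ hb₁ φ h
  have u₂ : ∀ {Y : Scheme.{u}} (φ : X ⟶ Y), (∀ e e', φ (ι e) = φ (ι e')) → ∃! ψ : X₂ ⟶ Y, b₂ ≫ ψ = φ :=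
    fun φ h => Groth.ResolveSurf.ContractionDesc.existsUnique_desc ι hE b₂ hb₂ φ h
  obtain ⟨p, hp, -⟩ := u₁ b₂ (hc b₂ hb₂)
  obtain ⟨q, hq, -⟩ := u₂ b₁ (hc b₁ hb₁)
  have h1 : p ≫ q = 𝟙 X₁ := (u₁ b₁ (hc b₁ hb₁)).unique
    (by rw [← Category.assoc, hp, hq]) (Category.comp_id _)
  have h2 : q ≫ p = 𝟙 X₂ := (u₂ b₂ (hc b₂ hb₂)).unique
    (by rw [← Category.assoc, hq, hp]) (Category.comp_id _)
  exact ⟨⟨p, q, h1, h2⟩, hp, fun e he => Iso.ext ((u₁ b₂ (hc b₂ hb₂)).unique he hp)⟩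

end Groth.Agent.S7308
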