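import Groth.Statements.S7324
import Groth.Agent.ResolveSurf.PointBlowUpPic

set_option autoImplicit false
universe u
open CategoryTheory CategoryTheory.Limits AlgebraicGeometry
open Resolve

namespace Groth.Agent.S7324

/-- Let (A, m) be a regular local ring of dimension two and b : X → Spec A the blowing up in m, with
exceptional divisor E, ideal sheaf I = O_X(-E), and M = O_X(E) an inverse of I for the tensor
product. Then Pic(X) = Z generated by O_X(E): every invertible O_X-module is isomorphic to I^{⊗ n}
or to M^{⊗ n} for some n ≥ 0, and I^{⊗ n} is not isomorphic to O_X for n ≥ 1. -/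
theorem result (A : Type u) [CommRing A] [IsRegularLocalRing A] (hA : ringKrullDim A = 2)
    (X : Scheme.{u}) (b : X ⟶ Spec (CommRingCat.of A)) (hb : BlowUp.IsBlowUp b (Curv2.idealSheaf A (IsLocalRing.maximalIdeal A)))
    (M : X.Modules) (hM : ClSub.IsInverseOf M (ClSub.idealMod (BlowUp.exceptional b (Curv2.idealSheaf A (IsLocalRing.maximalIdeal A))))) :
    (∀ L : X.Modules, PicF.IsInvertible L → ∃ n : ℕ,
      Nonempty (L ≅ CohB1.tensorPow (ClSub.idealMod (BlowUp.exceptional b (Curv2.idealSheaf A (IsLocalRing.maximalIdeal A)))) n) ∨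
        Nonempty (L ≅ CohB1.tensorPow M n)) ∧
    ∀ n : ℕ, 1 ≤ n →
      IsEmpty (CohB1.tensorPow (ClSub.idealMod (BlowUp.exceptional b (Curv2.idealSheaf A (IsLocalRing.maximalIdeal A)))) n ≅
        Coh.structureModule X) := by
  exact Groth.ResolveSurf.PointBlowUpPic.pic hb hA M hM

end Groth.Agent.S7324
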