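import Groth.Statements.S7325
import Groth.Agent.ResolveSurf.ContractionPic

set_option autoImplicit false
universe u
open CategoryTheory CategoryTheory.Limits AlgebraicGeometry
open Resolve

namespace Groth.Agent.S7325

/-- Let X be a Noetherian scheme, ι : E → X a closed immersion which is an exceptional curve of the
first kind, and b : X → X' a contraction of E. Then pullback along b is injective on isomorphism
classes of invertible modules, and an invertible O_X-module L is the pullback of some invertible
O_{X'}-module if and only if ι^* L ≅ O_E. (The published statement is a split short exact sequence 0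
→ Pic(X') → Pic(X) → Z → 0 whose second map is the degree on E; this row states the injectivity of
the first map and the description of its image, and does not restate the degree map or the
splitting.) -/
theorem result {E X X' : Scheme.{u}} [IsNoetherian X] (ι : E ⟶ X) [IsClosedImmersion ι]
    (hE : Models.IsExcCurve ι) (b : X ⟶ X') (hb : Models.IsContractionOf ι b) :
    (∀ L₁ L₂ : X'.Modules, PicF.IsInvertible L₁ → PicF.IsInvertible L₂ →
      Nonempty ((Scheme.Modules.pullback b).obj L₁ ≅ (Scheme.Modules.pullback b).obj L₂) → Nonempty (L₁ ≅ L₂)) ∧
    ∀ L : X.Modules, PicF.IsInvertible L →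
      ((∃ L' : X'.Modules, PicF.IsInvertible L' ∧ Nonempty ((Scheme.Modules.pullback b).obj L' ≅ L)) ↔
        Nonempty ((Scheme.Modules.pullback ι).obj L ≅ Coh.structureModule E)) := by
  exact Groth.ResolveSurf.ContractionPic.pic ι b hE hb

end Groth.Agent.S7325
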