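import Groth.Statements.S7326
import Groth.Agent.ModelsGraphs.InterTorsion

set_option autoImplicit false
set_option linter.unusedSimpArgs false
universe u
open CategoryTheory CategoryTheory.Limits AlgebraicGeometry
open Models

open scoped Groth.Abvar.PicCalc
namespace Groth.Agent.S7326

/-- Let R be a discrete valuation ring with fraction field K, C a smooth proper curve over K with H^0(C,
O_C) = K, X a regular proper model of C, Γ_1, …, Γ_n the irreducible components of the closed fibre
with multiplicities m_i, d = gcd(m_i), and D = Σ (m_i/d) Γ_i the effective Cartier divisor with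
ideal sheaf I_D = Π I(Γ_i)^{m_i/d}. Then O_X(D) (any L with L ⊗ I_D ≅ O_X) has order dividing d in
Pic(X), i.e. L^{⊗ d} ≅ O_X, and the conormal sheaf I_D|_D, an invertible O_D-module, has order
dividing d in Pic(D). -/
theorem result (R : Type u) [CommRing R] [IsDomain R] [IsDiscreteValuationRing R]
    (C X : Scheme.{u}) (f : C ⟶ Spec (CommRingCat.of (FractionRing R))) (p : X ⟶ Spec (CommRingCat.of R))
    (hC : Curve.IsSmoothProperCurve (FractionRing R) C f) (hH0 : IsIso f.appTop)
    (hX : Models.IsRegularProperModel R X p C f)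
    {n : ℕ} (Γ : Fin n → ArSurf.VertComp R (Over.mk p)) (hΓ : Models.IsComponentList R (Over.mk p) Γ)
    (L : X.Modules)
    (hL : ClSub.IsInverseOf L (ClSub.idealMod (∏ i, (Γ i).ι.ker ^ (Models.mult R (Over.mk p) (Γ i) / Models.multGcd R (Over.mk p) Γ)))) :
    Nonempty (CohB1.tensorPow L (Models.multGcd R (Over.mk p) Γ) ≅ Coh.structureModule X) ∧
      Nonempty (CohB1.tensorPow ((Scheme.Modules.pullback
          (∏ i, (Γ i).ι.ker ^ (Models.mult R (Over.mk p) (Γ i) / Models.multGcd R (Over.mk p) Γ)).subschemeι).obj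
          (ClSub.idealMod (∏ i, (Γ i).ι.ker ^ (Models.mult R (Over.mk p) (Γ i) / Models.multGcd R (Over.mk p) Γ))))
          (Models.multGcd R (Over.mk p) Γ) ≅
        Coh.structureModule (∏ i, (Γ i).ι.ker ^ (Models.mult R (Over.mk p) (Γ i) / Models.multGcd R (Over.mk p) Γ)).subscheme) := by
  obtain ⟨L', hL'⟩ := Groth.ModelsGraphs.InterLattice.exists_inverses f p hX Γ hΓ
  obtain ⟨S, rfl, rfl⟩ := Groth.ModelsGraphs.InterLattice.exists_sit f p hH0 hX Γ hΓ L' hL'
  haveI := S.proper
  haveI := S.flat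
  haveI : IsLocallyNoetherian (Over.mk p).left := LocallyOfFiniteType.isLocallyNoetherian (Over.mk p).hom
  set d := Models.multGcd R (Over.mk p) S.Γs
  set e : Fin n → ℕ := fun i => Models.mult R (Over.mk p) (S.Γs i) / d
  obtain ⟨hI, hinv⟩ := Groth.ModelsGraphs.InterPic.isInverseOf_multiTwist S.L (fun i => (S.Γs i).ι.ker)
    (fun i => Groth.ModelsGraphs.Inter.isEffCartier S.reg (Groth.ModelsGraphs.Inter.range_mem S.list i)) hL' e
  obtain ⟨hLi, hIi⟩ := Groth.PicAux.isInvertible_left_of_isInverseOf hL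
  obtain ⟨hm, em⟩ := S.exists_cls_multiTwist e
  have hLc : Groth.Abvar.PicCalc.cls hLi = S.vtw (fun i => (e i : ℤ)) := by
    rw [← em, ← Groth.Abvar.PicCalc.nonempty_iso_iff]
    exact Groth.ModelsGraphs.InterPic.isInverseOf_unique_left hL hinv
  have hd : S.vtw (fun i => (e i : ℤ)) ^ d = 1 := by
    rw [← S.vtw_nsmul, S.vtw_eq_one_iff]
    refine ⟨1, fun i => ?_⟩
    rw [one_mul, ← Nat.cast_mul]
    exact congrArg _ (Nat.mul_div_cancel' (S.gcd_dvd i))
  refine ⟨?_, ?_⟩
  · rw [Groth.Abvar.PicCalc.nonempty_iso_structure_iff (Groth.Abvar.PicCalc.isInvertible_tensorPow hLi d),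
      Groth.Abvar.PicCalc.cls_tensorPow hLi d, hLc, hd]
  · have hIc : Groth.Abvar.PicCalc.cls hLi * Groth.Abvar.PicCalc.cls hIi = 1 := by
      rw [← Groth.Abvar.PicCalc.cls_tensorMod hLi hIi, ← Groth.Abvar.PicCalc.nonempty_iso_structure_iff]
      exact hL
    have hId : Groth.Abvar.PicCalc.cls hIi ^ d = 1 := by
      have := congrArg (· ^ d) hIc
      rwa [mul_pow, hLc, hd, one_mul, one_pow] at this
    let ι := (∏ i, (S.Γs i).ι.ker ^ e i).subschemeι
    have hp := PicLoc.isInvertible_pullback ι hIi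
    change Nonempty (CohB1.tensorPow ((Scheme.Modules.pullback ι).obj _) d ≅ _)
    rw [Groth.Abvar.PicCalc.nonempty_iso_structure_iff (Groth.Abvar.PicCalc.isInvertible_tensorPow hp d),
      Groth.Abvar.PicCalc.cls_tensorPow hp d, ← Groth.Abvar.PicCalc.pull_cls ι hIi, ← map_pow, hId, map_one]

end Groth.Agent.S7326
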