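import Groth.Statements.S7327
import Groth.Agent.ResolveSurf.FormalFibreScheme
-- import your own Groth.Agent.* helpers here

set_option autoImplicit false
universe u
open CategoryTheory CategoryTheory.Limits AlgebraicGeometry
open Resolve

namespace Groth.Agent.S7327

/-- Let (A, m) be a Noetherian local ring with completion A^, f : X → Spec A a morphism locally of
finite type with X integral, and Y = X ×_{Spec A} Spec(A^). If the complement of the closed fibre in
Y is normal (the local rings of Y at points not over the closed point of Spec(A^) are integrally
closed domains), then the normalization morphism of X is finite. (The published statement also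
identifies the base change of the normalization of X to A^ with the normalization of Y; this row
does not restate that part. The quasi-compactness and quasi-separatedness binders on Spec K(X) → X
always hold.) -/
theorem result (A : Type u) [CommRing A] [IsLocalRing A] [IsNoetherianRing A]
    (X : Scheme.{u}) [IsIntegral X] (f : X ⟶ Spec (CommRingCat.of A)) [LocallyOfFiniteType f]
    [QuasiCompact (X.fromSpecStalk (genericPoint X))] [QuasiSeparated (X.fromSpecStalk (genericPoint X))]
    (hY : ∀ y : ↥(Curv2.bcCpl A f), (Curv2.bcCplSnd A f).base y ≠ IsLocalRing.closedPoint (Curv2.cpl A) →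
      IsDomain ((Curv2.bcCpl A f).presheaf.stalk y) ∧ IsIntegrallyClosed ((Curv2.bcCpl A f).presheaf.stalk y)) :
    IsFinite (Curv2.normalizationι X) := by
  refine Groth.ResolveSurf.AnalyticUnramified.isFinite_normalizationι X f ?_
  by_cases hξ : f (genericPoint X) = IsLocalRing.closedPoint A
  · exact Groth.ResolveSurf.FormalFibre.isReduced_genericFibre_of_closedPoint f hξ
  have := Groth.ResolveSurf.FormalFibre.flat_fromSpecStalk_genericPoint X
  refine Groth.ResolveSurf.FormalFibre.isReduced_genericFibre f f (X.fromSpecStalk (genericPoint X)) rfl
    fun z => ?_
  have h := (hY (pullback.snd (X.fromSpecStalk (genericPoint X)) (Curv2.bcCplFst A f) z) fun hc => hξ ?_).1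
  · infer_instance
  have h1 := Groth.ResolveSurf.CompletionRegular.fst_closed_of_snd_closed A f _ hc
  have h2 : (Curv2.bcCplFst A f) (pullback.snd (X.fromSpecStalk (genericPoint X)) (Curv2.bcCplFst A f) z) =
      genericPoint X := by
    rw [← Scheme.Hom.comp_apply, ← pullback.condition, Scheme.Hom.comp_apply]
    exact (((Scheme.range_fromSpecStalk (x := genericPoint X)).le ⟨_, rfl⟩).antisymm (genericPoint_specializes _)).eq
  rw [← h2]
  exact h1

end Groth.Agent.S7327
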