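import Groth.Statements.S7330
import Groth.Agent.ResolveSurf.PunctualExtension
import Groth.Agent.S1274
import Groth.Agent.S4452
import Groth.Agent.S9708
import Groth.Agent.SchemeMorphisms.BlowUpProjective

set_option autoImplicit false
set_option backward.isDefEq.respectTransparency.types false
set_option linter.style.haveILetI false
universe u
open CategoryTheory CategoryTheory.Limits AlgebraicGeometry
open Resolve

namespace Groth.Agent.S7330

open TopologicalSpace Groth.ResolveSurf Groth.BlowUpBasics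

/-- A normal modification. -/
def IsNormMod {A : Type u} [CommRing A] (X : Scheme.{u}) (f : X ⟶ Spec (CommRingCat.of A)) : Prop :=
  IsProper f ∧ IsIntegral X ∧ Pi1.IsNormalScheme X ∧
    ∃ U : (Spec (CommRingCat.of A)).Opens, (U : Set (Spec (CommRingCat.of A))).Nonempty ∧ IsIso (f ∣_ U)

/-- The length of the first cohomology of the structure sheaf. -/
noncomputable def h1 {A : Type u} [CommRing A] (X : Scheme.{u}) (f : X ⟶ Spec (CommRingCat.of A)) : ℕ∞ :=
  letI : X.Over (Spec (CommRingCat.of A)) := ⟨f⟩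
  Module.length A (Coh.HH X (Coh.structureModule X) 1)

/-- The edge map as a linear map. -/
noncomputable def edgeLin (R : Type u) [CommRing R] {X' X : Scheme.{u}} [X.Over (Spec (CommRingCat.of R))]
    [X'.Over (Spec (CommRingCat.of R))] (ρ : X' ⟶ X)
    (hρ : ρ ≫ (X ↘ Spec (CommRingCat.of R)) = X' ↘ Spec (CommRingCat.of R)) (G : X'.Modules) :
    Coh.HH X ((Scheme.Modules.pushforward ρ).obj G) 1 →ₗ[R] Coh.HH X' G 1 where
  toFun x := Groth.CohDev.edgeAb (X := X'.toTopCat) (Y := X.toTopCat) ρ.base (Coh.toAb G) 1 x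
  map_add' := map_add _
  map_smul' a x := by
    rw [RingHom.id_apply]
    have h1 : EulerDeg.hMap R ((Scheme.Modules.pushforward ρ).map (Formal.smulMod R G a)) 1 x = a • x := by
      rw [Groth.CohC3.pushforward_map_smulMod hρ G a]
      rfl
    rw [← h1]
    exact (Groth.CohDev.edgeAb_map (X := X'.toTopCat) (Y := X.toTopCat) ρ.base
      ((SheafOfModules.toSheaf.{u} X'.ringCatSheaf).map (Formal.smulMod R G a)) 1 x).trans rfl

/-- `H¹(X, O)` does not grow; if it does not shrink either, the edge map is surjective. -/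
theorem h1_le_and {A : Type u} [CommRing A] {X' X : Scheme.{u}} (f : X ⟶ Spec (CommRingCat.of A))
    (ρ : X' ⟶ X) (hunit : IsIso (ClSub.unitToPush ρ)) :
    h1 X f ≤ h1 X' (ρ ≫ f) ∧
      (h1 X' (ρ ≫ f) ≤ h1 X f → h1 X f ≠ ⊤ →
        Function.Surjective (Groth.CohDev.edgeAb (X := X'.toTopCat) (Y := X.toTopCat) ρ.base
          (Coh.toAb (Coh.structureModule X')) 1)) := by
  letI : X.Over (Spec (CommRingCat.of A)) := ⟨f⟩
  letI : X'.Over (Spec (CommRingCat.of A)) := ⟨ρ ≫ f⟩
  let L : Coh.HH X (Coh.structureModule X) 1 →ₗ[A] Coh.HH X' (Coh.structureModule X') 1 :=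
    (edgeLin A ρ rfl (Coh.structureModule X')) ∘ₗ
      (EulerDeg.hEquiv A (asIso (ClSub.unitToPush ρ)) 1).toLinearMap
  have hL : Function.Injective L :=
    (EdgeInjective.edgeAb_one_injective (X := X'.toTopCat) (Y := X.toTopCat) ρ.base _).comp
      (EulerDeg.hEquiv A (asIso (ClSub.unitToPush ρ)) 1).injective
  refine ⟨Module.length_le_of_injective L hL, fun h hfin => ?_⟩
  have hle : Module.length A (Coh.HH X' (Coh.structureModule X') 1) ≤
      Module.length A (Coh.HH X (Coh.structureModule X) 1) := h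
  rw [Module.length_eq_add_of_exact L (LinearMap.range L).mkQ hL (Submodule.mkQ_surjective _)
    (LinearMap.exact_map_mkQ_range L)] at hle
  have hq : Module.length A (_ ⧸ LinearMap.range L) = 0 :=
    le_zero_iff.1 ((ENat.add_le_add_iff_left hfin).1 (hle.trans (add_zero _).ge))
  have hsub := Module.length_eq_zero_iff.1 hq
  intro y
  obtain ⟨x, hx⟩ := LinearMap.range_eq_top.1 (Submodule.Quotient.subsingleton_iff.1 hsub) y
  exact ⟨_, hx⟩

/-- Modifications are dominated by projective ones. -/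
theorem exists_projective {A : Type u} [CommRing A] [IsDomain A] [IsNoetherianRing A] [IsIntegrallyClosed A]
    (hN : CAlg.IsNagata A) {X₀ : Scheme.{u}} (f₀ : X₀ ⟶ Spec (CommRingCat.of A)) (h₀ : IsNormMod X₀ f₀) :
    ∃ (X : Scheme.{u}) (f : X ⟶ Spec (CommRingCat.of A)),
      IsNormMod X f ∧ RelProj.IsProjective f ∧ h1 X₀ f₀ ≤ h1 X f := by
  obtain ⟨hp₀, hi₀, hn₀, U, hU, hiso⟩ := h₀
  obtain ⟨𝓘, S', b, hb, ⟨-, hdis⟩, h, hh⟩ :=
    Groth.Agent.S1274.result f₀ U (TopologicalSpace.NoetherianSpace.isCompact _)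
  let K : Ideal A := (𝓘.ideal ⟨⊤, isAffineOpen_top _⟩).comap (Scheme.ΓSpecIso (CommRingCat.of A)).inv.hom
  have hK : 𝓘 = sheafOf K := by
    refine Scheme.IdealSheafData.ext_of_isAffine ?_
    rw [sheafOf_ideal_top]
    exact (Ideal.map_comap_of_surjective _
      (ConcreteCategory.bijective_of_isIso (Scheme.ΓSpecIso (CommRingCat.of A)).inv).2 _).symm
  have hK0 : K ≠ ⊥ := by
    intro h0
    obtain ⟨y, hy⟩ := hU
    refine hdis.le_bot ⟨?_, hy⟩
    rw [SetLike.mem_coe, hK, mem_support_sheafOf, h0]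
    exact bot_le
  obtain ⟨e, he⟩ := exists_iso_of_isBlowUp (isBlowUp_projBase K) (hK ▸ hb)
  obtain ⟨X, i, g, hi, hg, hX, hig, -, hXn, hXbir, -⟩ := RationalDescend.exists_normalized_blowUp hN K hK0
  refine ⟨X, g, ⟨hg, hX, hXn, hXbir⟩, ?_, ?_⟩
  · rw [← hig]
    refine Groth.Agent.S9708.result i _ (Groth.Agent.S4452.result i) ?_
    refine Groth.SchemeMorphisms.BlowUpProj.isProjective_of_isBlowUp (isBlowUp_projBase K) fun V => ?_
    haveI : IsNoetherianRing Γ(Spec (CommRingCat.of A), V.1) := IsLocallyNoetherian.component_noetherian V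
    exact IsNoetherian.noetherian _
  · let ρ : X ⟶ X₀ := i ≫ e.hom ≫ h
    have hρ : ρ ≫ f₀ = g := by simp only [ρ, Category.assoc, hh, he, hig]
    haveI : IsProper ρ := by
      haveI : IsProper (ρ ≫ f₀) := hρ ▸ hg
      exact IsProper.of_comp ρ f₀
    haveI := hiso
    obtain ⟨W, hW, hWiso⟩ := hXbir
    let U' : (Spec (CommRingCat.of A)).Opens := U ⊓ W
    have hU' : genericPoint (Spec (CommRingCat.of A)) ∈ U' :=
      ⟨((genericPoint_spec (Spec (CommRingCat.of A))).mem_open_set_iff U.2).2 (by simpa using hU),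
        ((genericPoint_spec (Spec (CommRingCat.of A))).mem_open_set_iff W.2).2 (by simpa using hW)⟩
    haveI : IsIso (g ∣_ U') := Groth.ArSurfBasics.Principalization.isIso_restrict_mono g inf_le_right
    haveI : IsIso (f₀ ∣_ U') := Groth.ArSurfBasics.Principalization.isIso_restrict_mono f₀ inf_le_left
    haveI : IsIso (ρ ∣_ (f₀ ⁻¹ᵁ U')) := by
      have h1 : IsIso ((ρ ≫ f₀) ∣_ U') := by rw [hρ]; infer_instance
      rw [morphismRestrict_comp] at h1
      exact @IsIso.of_isIso_comp_right _ _ _ _ _ _ (f₀ ∣_ U') inferInstance h1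
    obtain ⟨hgen, hbir⟩ := RationalDescend.birational ρ (f₀ ⁻¹ᵁ U') (by
      obtain ⟨y, hy⟩ := (f₀ ∣_ U').surjective ⟨_, hU'⟩
      exact ⟨y.1, y.2⟩)
    have := (h1_le_and f₀ ρ (Groth.ModelsGraphs.RatSingPush.isIso_unitToPush ρ (fun y => (hn₀ y).2) hgen hbir)).1
    rwa [hρ] at this


/-- At a point where `H¹` cannot grow the singularity is rational. -/
theorem rationalSing_of_max {A : Type u} [CommRing A] [IsDomain A] [IsLocalRing A] [IsNoetherianRing A]
    [IsIntegrallyClosed A] (hN : CAlg.IsNagata A) (hdim : ringKrullDim A = 2)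
    {X : Scheme.{u}} (f : X ⟶ Spec (CommRingCat.of A)) [IsProper f] [IsIntegral X]
    (U : (Spec (CommRingCat.of A)).Opens) (hU : (U : Set (Spec (CommRingCat.of A))).Nonempty) [IsIso (f ∣_ U)]
    (hXn : Pi1.IsNormalScheme X) (hfin : h1 X f ≠ ⊤)
    (hmax : ∀ (X' : Scheme.{u}) (f' : X' ⟶ Spec (CommRingCat.of A)), IsNormMod X' f' → h1 X' f' ≤ h1 X f)
    (x : X) (hxc : IsClosed ({x} : Set X)) : Curv2.IsRationalSing (X.presheaf.stalk x) := by
  obtain ⟨hfgen, hfbir⟩ := RationalDescend.birational f U hU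
  haveI : IsLocallyNoetherian X := LocallyOfFiniteType.isLocallyNoetherian f
  haveI : CompactSpace X := QuasiCompact.compactSpace_of_compactSpace f
  haveI : X.IsSeparated := ⟨by rw [← terminal.comp_from f]; infer_instance⟩
  haveI : IsNoetherian X := ⟨⟩
  set η := genericPoint (Spec (CommRingCat.of A)) with hη
  -- the generic point is not closed
  have hηc : ¬ IsClosed ({η} : Set (Spec (CommRingCat.of A))) := fun h => by
    have hall : ∀ z : Spec (CommRingCat.of A), z = η := fun z => (genericPoint_specializes z).mem_closed h rfl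
    haveI : Subsingleton (PrimeSpectrum A) := ⟨fun a b => (hall a).trans (hall b).symm⟩
    have h0 : ringKrullDim A = 0 := Order.krullDim_eq_zero (α := PrimeSpectrum A)
    rw [hdim] at h0
    exact absurd h0 (by norm_num)
  have hfx : f x ≠ η := fun h => hηc (by
    have := f.isClosedMap _ hxc
    rwa [Set.image_singleton, h] at this)
  have hxη : x ≠ genericPoint X := fun h => hfx (h ▸ hfgen)
  -- the neighbourhood
  obtain ⟨V, hV, hxV⟩ := Groth.QCohMod.exists_affine_mem x
  haveI : Nonempty V := ⟨⟨x, hxV⟩⟩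
  let U₀ : X.Opens := ⟨({x} : Set X)ᶜ, hxc.isOpen_compl⟩
  have hUV : U₀ ⊔ V = ⊤ := eq_top_iff.2 fun z _ => by
    by_cases hz : z = x
    · exact Or.inr (hz ▸ hxV)
    · exact Or.inl hz
  let B := X.presheaf.stalk x
  let ψ : Γ(X, V) →+* B := (X.presheaf.germ V x hxV).hom
  letI : Algebra Γ(X, V) B := ψ.toAlgebra
  haveI : IsLocalization.AtPrime B (hV.primeIdealOf ⟨x, hxV⟩).asIdeal := hV.isLocalization_stalk ⟨x, hxV⟩
  haveI : IsDomain B := (hXn x).1
  haveI : IsIntegrallyClosed B := (hXn x).2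
  have hdimB : ringKrullDim B ≤ 2 := by
    refine (Groth.Agent.S18879.result f (PunctualExtension.isBirational f U hU) x).trans ?_
    letI : Algebra A ((Spec (CommRingCat.of A)).presheaf.stalk (f x)) := StructureSheaf.stalkAlgebra A (f x)
    haveI : IsLocalization.AtPrime ((Spec (CommRingCat.of A)).presheaf.stalk (f x)) (f x).asIdeal :=
      StructureSheaf.IsLocalization.to_stalk A (f x)
    rw [IsLocalization.AtPrime.ringKrullDim_eq_height (f x).asIdeal]
    exact (Ideal.height_le_ringKrullDim_of_ne_top (f x).isPrime.ne_top).trans hdim.le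
  -- the local modification
  intro Y g hg hY hYn hgU
  obtain ⟨U₁, hU₁, hgU₁⟩ := hgU
  obtain ⟨hggen, hgbir⟩ := RationalDescend.birational g U₁ hU₁
  let Wp : (Spec (CommRingCat.of B)).Opens :=
    ⟨({IsLocalRing.closedPoint B} : Set (PrimeSpectrum B))ᶜ,
      (IsLocalRing.isClosed_singleton_closedPoint B).isOpen_compl⟩
  haveI : IsIso (g ∣_ Wp) := RegularRational.isIso_restrict_punctured hdimB g hggen hgbir U₁
    (ModVanish.preimage_nonempty g hU₁ hgU₁) hgU₁ Wp (fun h => h rfl)
  obtain ⟨𝓘, S', bJ, hbJ, ⟨-, hdis⟩, h0, hh0⟩ :=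
    Groth.Agent.S1274.result g Wp (TopologicalSpace.NoetherianSpace.isCompact _)
  let J : Ideal B := (𝓘.ideal ⟨⊤, isAffineOpen_top _⟩).comap (Scheme.ΓSpecIso (CommRingCat.of B)).inv.hom
  have hJ : 𝓘 = sheafOf J := by
    refine Scheme.IdealSheafData.ext_of_isAffine ?_
    rw [sheafOf_ideal_top]
    exact (Ideal.map_comap_of_surjective _
      (ConcreteCategory.bijective_of_isIso (Scheme.ΓSpecIso (CommRingCat.of B)).inv).2 _).symm
  have hJrad : IsLocalRing.maximalIdeal B ≤ J.radical := by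
    rw [Ideal.radical_eq_sInf]
    refine le_sInf fun q hq => ?_
    obtain ⟨hJq, hq'⟩ := hq
    by_contra hne
    have hnot : (⟨q, hq'⟩ : PrimeSpectrum B) ∉ (Wp : Set (Spec (CommRingCat.of B))) :=
      Set.disjoint_left.1 hdis (by rw [SetLike.mem_coe, hJ, mem_support_sheafOf]; exact hJq)
    have hh : (⟨q, hq'⟩ : PrimeSpectrum B) = IsLocalRing.closedPoint B := not_not.1 hnot
    exact hne (le_of_eq (congrArg PrimeSpectrum.asIdeal hh).symm)
  obtain ⟨n, hn⟩ := Ideal.exists_pow_le_of_le_radical_of_fg hJrad (IsNoetherian.noetherian _)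
  let JC : Ideal Γ(X, V) := J.comap ψ
  have hJC : JC.map ψ = J := IsLocalization.map_under (hV.primeIdealOf ⟨x, hxV⟩).asIdeal.primeCompl B J
  have hp : (hV.primeIdealOf ⟨x, hxV⟩).asIdeal ^ n ≤ JC := by
    refine Ideal.map_le_iff_le_comap.1 ?_
    rw [Ideal.map_pow]
    refine le_trans ?_ hn
    exact Ideal.pow_right_mono (IsLocalization.AtPrime.map_eq_maximalIdeal
      (hV.primeIdealOf ⟨x, hxV⟩).asIdeal B).le n
  obtain ⟨K, hKV, hKsupp⟩ := PunctualExtension.exists_extension hV x hxc hxV JC n hp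
  have hK : K ≠ ⊥ := fun h => hxη (by
    have h1 : genericPoint X ∈ (K.support : Set X) := by
      rw [h, Scheme.IdealSheafData.support_bot]; trivial
    exact (hKsupp h1).symm)
  obtain ⟨X', ρ, hρp, hX', hX'n, hρgen, hρbir, hρiso, hρC⟩ := PunctualModification.exists_normalized_blowUp
    (Normalization.isNagata_of_locallyOfFiniteType f (Normalization.isNagata_spec hN)) hXn K hK
  haveI : IsIso (ρ ∣_ U₀) := hρiso U₀ (Set.disjoint_left.2 fun z hz hz' => hz' (hKsupp hz))
  -- `X'` is a normal modification of `A`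
  let O : (Spec (CommRingCat.of A)).Opens :=
    U ⊓ ⟨({f x} : Set (Spec (CommRingCat.of A)))ᶜ, by
      have := f.isClosedMap _ hxc
      rw [Set.image_singleton] at this
      exact this.isOpen_compl⟩
  haveI : IsIso (f ∣_ O) := Groth.ArSurfBasics.Principalization.isIso_restrict_mono f inf_le_left
  haveI : IsIso (ρ ∣_ (f ⁻¹ᵁ O)) := Groth.ArSurfBasics.Principalization.isIso_restrict_mono ρ
    (show f ⁻¹ᵁ O ≤ U₀ from fun z hz (hzx : z = x) => hz.2 (congrArg f hzx))
  have hX'mod : IsNormMod X' (ρ ≫ f) := by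
    refine ⟨inferInstance, hX', hX'n, O,
      ⟨η, ((genericPoint_spec (Spec (CommRingCat.of A))).mem_open_set_iff U.2).2 (by simpa using hU), hfx.symm⟩, ?_⟩
    rw [morphismRestrict_comp]
    exact @IsIso.comp_isIso _ _ _ _ _ _ _ (inferInstance : IsIso (ρ ∣_ (f ⁻¹ᵁ O))) (inferInstance : IsIso (f ∣_ O))
  have hsurj := (h1_le_and f ρ (Groth.ModelsGraphs.RatSingPush.isIso_unitToPush ρ (fun y => (hXn y).2) hρgen hρbir)).2
    (hmax X' _ hX'mod) hfin
  have h2 : Subsingleton (Coh.HH X ((Scheme.Modules.pushforward ρ).obj (Coh.structureModule X')) 2) := by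
    letI : X.Over (Spec (CommRingCat.of A)) := ⟨f⟩
    haveI : IsProper (X ↘ Spec (CommRingCat.of A)) := ‹IsProper f›
    haveI : ((Scheme.Modules.pushforward ρ).obj (Coh.structureModule X')).IsQuasicoherent :=
      Groth.QCohMod.isQCoh_pushforward _ ρ
    exact Groth.Limits.FibreVanishing.subsingleton_HH_of_dim_fiber_le (A := A) 1
      (ModVanish.fiber_dim_le_one f hdim.le U (ModVanish.preimage_nonempty f hU inferInstance) inferInstance) _ 2 one_lt_two
  have hP1 := PunctualExtension.subsingleton_H1_preimage ρ U₀ hV hUV hsurj h2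
  -- localise
  haveI : Nonempty (ρ ⁻¹ᵁ V) := ⟨⟨genericPoint X', show ρ _ ∈ V by
    rw [hρgen]
    exact ((genericPoint_spec X).mem_open_set_iff V.2).2 ⟨x, trivial, hxV⟩⟩⟩
  haveI : IsIntegral (ρ ⁻¹ᵁ V) := isIntegral_of_isOpenImmersion (ρ ⁻¹ᵁ V).ι
  haveI : IsDomain Γ(X, V) := inferInstance
  let π₂ := CohBase.preimageToSpec ρ (V := V)
  have hpb := CohBase.isPullback_preimageToSpec ρ hV
  haveI : IsProper π₂ := MorphismProperty.of_isPullback hpb hρp
  haveI : IsIso (π₂ ∣_ (hV.fromSpec ⁻¹ᵁ U₀)) := RationalDescend.isIso_restrict_of_isPullback hpb U₀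
  have hηV : genericPoint (Spec (CommRingCat.of Γ(X, V))) ∈ hV.fromSpec ⁻¹ᵁ U₀ := fun h => by
    haveI : Nonempty (Spec Γ(X, V)) := ⟨hV.primeIdealOf ⟨x, hxV⟩⟩
    exact hxη (((Set.mem_singleton_iff.1 h).symm).trans (genericPoint_eq_of_isOpenImmersion hV.fromSpec))
  have hCP : BlowUp.IsEffCartierIdeal ((sheafOf JC).comap π₂) := by
    have e : K.comap hV.fromSpec = sheafOf JC := hKV ▸ Groth.HTopHyper.comap_fromSpec K ⟨V, hV⟩
    rw [← e, ← Scheme.IdealSheafData.comap_comp, ← hpb.w, Scheme.IdealSheafData.comap_comp]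
    exact isEffCartierIdeal_comap_of_flat _ hρC
  refine RationalDescend.subsingleton_H1_of_localization ψ (germ_injective_of_isIntegral X x hxV) ?_ π₂
    (hV.fromSpec ⁻¹ᵁ U₀) hηV hP1 JC hCP g hYn U₁ hU₁ bJ h0 hh0 ?_
  · intro b
    obtain ⟨⟨a, s⟩, hs⟩ := IsLocalization.surj (hV.primeIdealOf ⟨x, hxV⟩).asIdeal.primeCompl b
    exact ⟨a, s, IsLocalization.map_units B s, hs⟩
  · rw [hJC, ← hJ]
    exact hbJ

/-- Let (A, m) be a local normal Nagata domain of dimension two for which reduction to rational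
singularities is possible (the lengths of H^1(X, O_X) over all proper morphisms X → Spec A from an
integral normal scheme which are an isomorphism over a nonempty open are bounded). Then there is
such a normal modification f : X → Spec A, with f projective, such that at each closed point x of X
the stalk O_{X,x} is a rational singularity. (The published statement obtains X by a finite sequence
of normalized blowings up in closed points; this row asserts only the resulting modification.) -/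
theorem result (A : Type u) [CommRing A] [IsDomain A] [IsLocalRing A] [IsNoetherianRing A]
    [IsIntegrallyClosed A] (hN : CAlg.IsNagata A) (hdim : ringKrullDim A = 2)
    (hA : (∃ N : ℕ, ∀ (X : Scheme.{u}) [X.Over (Spec (CommRingCat.of A))], IsProper (X ↘ Spec (CommRingCat.of A)) →
        IsIntegral X → Pi1.IsNormalScheme X →
        (∃ U : (Spec (CommRingCat.of A)).Opens, (U : Set (Spec (CommRingCat.of A))).Nonempty ∧ IsIso ((X ↘ Spec (CommRingCat.of A)) ∣_ U)) →
        Module.length A (Coh.HH X (Coh.structureModule X) 1) ≤ (N : ℕ∞))) :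
    ∃ (X : Scheme.{u}) (f : X ⟶ Spec (CommRingCat.of A)), IsProper f ∧ IsIntegral X ∧ Pi1.IsNormalScheme X ∧
      (∃ U : (Spec (CommRingCat.of A)).Opens, (U : Set (Spec (CommRingCat.of A))).Nonempty ∧ IsIso (f ∣_ U)) ∧
      RelProj.IsProjective f ∧
      ∀ x : X, IsClosed ({x} : Set X) → Curv2.IsRationalSing (X.presheaf.stalk x) := by
  classical
  obtain ⟨N, hN'⟩ := hA
  have hbound : ∀ (X : Scheme.{u}) (f : X ⟶ Spec (CommRingCat.of A)), IsNormMod X f → h1 X f ≤ (N : ℕ∞) :=
    fun X f ⟨hp, hi, hn, hU⟩ => @hN' X ⟨f⟩ hp hi hn hU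
  let S := Spec (CommRingCat.of A)
  have hid : IsNormMod S (𝟙 S) := by
    refine ⟨inferInstance, inferInstance, ?_, ⊤, ⟨genericPoint S, trivial⟩, inferInstance⟩
    intro z
    letI : Algebra A (S.presheaf.stalk z) := StructureSheaf.stalkAlgebra A z
    haveI : IsLocalization.AtPrime (S.presheaf.stalk z) z.asIdeal := StructureSheaf.IsLocalization.to_stalk A z
    exact ⟨inferInstance, isIntegrallyClosed_of_isLocalization _ z.asIdeal.primeCompl
      z.asIdeal.primeCompl_le_nonZeroDivisors⟩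
  -- choose the maximum
  let P : ℕ → Prop := fun n => ∃ (X : Scheme.{u}) (f : X ⟶ S), IsNormMod X f ∧ h1 X f = (n : ℕ∞)
  have hnat : ∀ (X : Scheme.{u}) (f : X ⟶ S), IsNormMod X f → ∃ n ≤ N, P n ∧ h1 X f = (n : ℕ∞) := by
    intro X f h
    obtain ⟨n, hn⟩ := ENat.ne_top_iff_exists.1 (ne_top_of_le_ne_top (ENat.natCast_ne_top N) (hbound X f h))
    have hb := hbound X f h
    rw [← hn, Nat.cast_le] at hb
    exact ⟨n, hb, ⟨X, f, h, hn.symm⟩, hn.symm⟩
  obtain ⟨n₀, hn₀N, hP₀, -⟩ := hnat S (𝟙 S) hid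
  obtain ⟨X₀, f₀, h₀, hmax₀⟩ := Nat.findGreatest_spec hn₀N hP₀
  obtain ⟨X, f, hXf, hproj, hge⟩ := exists_projective hN f₀ h₀
  have hmax : ∀ (X' : Scheme.{u}) (f' : X' ⟶ S), IsNormMod X' f' → h1 X' f' ≤ h1 X f := by
    intro X' f' h'
    obtain ⟨n, hn, hPn, he⟩ := hnat X' f' h'
    refine le_trans ?_ hge
    rw [he, hmax₀, Nat.cast_le]
    exact Nat.le_findGreatest hn hPn
  obtain ⟨hfp, hXi, hXn, U, hU, hUi⟩ := hXf
  refine ⟨X, f, hfp, hXi, hXn, ⟨U, hU, hUi⟩, hproj, fun x hxc => ?_⟩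
  exact rationalSing_of_max hN hdim f U hU hXn (ne_top_of_le_ne_top (ENat.natCast_ne_top N)
    (hbound X f ⟨hfp, hXi, hXn, U, hU, hUi⟩)) hmax x hxc

end Groth.Agent.S7330
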