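import Groth.Statements.S7334
import Groth.Agent.ResolveSurf.GenericFractions
import Groth.Agent.ResolveSurf.FiniteExtensionTrace
import Groth.Agent.Duality.ShriekBridge.Curve
import Groth.Agent.SchemeMorphisms.PrinParts.FlatExact
import Groth.Agent.Misc4.RFSingle
import Groth.Agent.AbSub.TruncFactor

set_option autoImplicit false
set_option backward.isDefEq.respectTransparency.types false
set_option linter.style.haveILetI false
set_option backward.isDefEq.respectTransparency false
set_option maxHeartbeats 1000000
set_option synthInstance.maxHeartbeats 400000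
universe u
open CategoryTheory CategoryTheory.Limits AlgebraicGeometry
attribute [local instance] HasDerivedCategory.standard
open Resolve

namespace Groth.Agent.S7334

open Pretriangulated DerivedCategory

attribute [local instance] HasDerivedCategory.standard

/-- A module in degree zero goes to the associated sheaf in degree zero. -/
noncomputable def tildeSingleIso (R : CommRingCat.{u}) [PreservesFiniteLimits (tilde.functor R)] (M : ModuleCat.{u} R) :
    (DCoh.tildeD R).obj ((DerivedCategory.singleFunctor (ModuleCat.{u} R) 0).obj M) ≅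
      (DerivedCategory.singleFunctor _ 0).obj ((tilde.functor R).obj M) :=
  ((tilde.functor R).mapDerivedCategorySingleFunctor 0).app M

/-- A morphism out of an associated sheaf vanishes when it does on global sections. -/
theorem eq_zero_of_homEquiv (R : CommRingCat.{u}) {M : ModuleCat.{u} R} {N : (Spec (CommRingCat.of R)).Modules}
    (h : (tilde.functor R).obj M ⟶ N) (hh : ∀ x, (tilde.adjunction.homEquiv M N h).hom x = 0) : h = 0 := by
  apply (tilde.adjunction.homEquiv M N).injective
  rw [show tilde.adjunction.homEquiv M N (0 : (tilde.functor R).obj M ⟶ N) = 0 from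
    map_zero (tilde.adjunction.homAddEquiv M N)]
  exact ModuleCat.hom_ext (LinearMap.ext hh)

/-- Flat direct images preserve injective modules. -/
theorem injective_pushforward {X Y : Scheme.{u}} (g : X ⟶ Y) [Flat g] (I : X.Modules) [Injective I] :
    Injective ((Scheme.Modules.pushforward g).obj I) := by
  haveI := Groth.PrinPartsAux.preservesFiniteLimits_pullback g
  exact Adjunction.map_injective (Scheme.Modules.pullbackPushforwardAdjunction g) I inferInstance

/-- Let (A, m, κ) be a local Noetherian normal domain of dimension two which is Nagata, and f : X → Spec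
A a proper morphism from an integral normal scheme which is an isomorphism over a nonempty open.
Then Hom(κ[-1], Rf_* O_X) = 0, computed in D(O_{Spec A}) with κ[-1] the shift of the quasi-coherent
module attached to κ. The published statement computes this group in D(A), identified with
D_QCoh(O_{Spec A}); this row computes it in D(O_{Spec A}), which gives the same group because D_QCoh
is a full subcategory containing both objects. Existence of Rf_* on the unbounded derived category
and left exactness of M ↦ M~ are carried as instance hypotheses. -/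
theorem result (A : Type u) [CommRing A] [IsDomain A] [IsLocalRing A] [IsNoetherianRing A]
    [IsIntegrallyClosed A] (hN : CAlg.IsNagata A) (hdim : ringKrullDim A = 2)
    (X : Scheme.{u}) (f : X ⟶ Spec (CommRingCat.of A)) [IsProper f] [IsIntegral X] (hXn : Pi1.IsNormalScheme X)
    (hbir : ∃ U : (Spec (CommRingCat.of A)).Opens, (U : Set (Spec (CommRingCat.of A))).Nonempty ∧ IsIso (f ∣_ U))
    [PreservesFiniteLimits (tilde.functor (CommRingCat.of A))] [DCoh.HasRpush f] :
    Subsingleton ((((DCoh.tildeD (CommRingCat.of A)).obj (Dual.inD A (IsLocalRing.ResidueField A)))⟦(-1 : ℤ)⟧) ⟶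
      (DCoh.Rpush f).obj (DCoh.inD X (Coh.structureModule X))) := by
  obtain ⟨U, hU, hiso⟩ := hbir
  haveI := hiso
  let G := Scheme.Modules.pushforward f
  let RF := DCoh.Rpush f
  let β := (DCoh.pushKh f).totalRightDerivedUnit DerivedCategory.Qh
    (HomotopyCategory.quasiIso X.Modules (ComplexShape.up ℤ))
  let ι := Groth.ResolveSurf.GenericFractions.incl X
  let g := Groth.ResolveSurf.GenericFractions.gen X
  let Kf := Groth.ResolveSurf.GenericFractions.ratMod X
  let Qm := cokernel ι
  let S : ShortComplex X.Modules := ShortComplex.mk ι (cokernel.π ι) (cokernel.condition ι)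
  have hS : S.ShortExact :=
    { exact := ShortComplex.exact_of_g_is_cokernel _ (cokernelIsCokernel _)
      mono_f := inferInstanceAs (Mono ι)
      epi_g := inferInstanceAs (Epi (cokernel.π ι)) }
  -- injectivity of the rational functions
  haveI : Injective (Coh.structureModule (Spec X.functionField)) :=
    Groth.Duality.ShriekBridge.injective_structure_spec_field X.functionField
  haveI : Flat g := Groth.PropsBasic2.flat_fromSpecStalk _
  haveI hK : Injective Kf := injective_pushforward g _
  haveI : Flat (g ≫ f) := by
    rw [show g ≫ f = Spec.map (CommRingCat.ofHom (Groth.ArSurfBasics.FibreFn.phi f (genericPoint X))) from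
      Groth.ArSurfBasics.FibreFn.fromSpecStalk_comp f _]
    letI := (Groth.ResolveSurf.FiniteExtensionTrace.toFF f).toAlgebra
    haveI := Groth.ResolveSurf.FiniteExtensionTrace.isFractionRing_toFF f U hU
    exact (HasRingHomProperty.Spec_iff (P := @Flat)).mpr
      (RingHom.flat_algebraMap_iff.mpr (IsLocalization.flat X.functionField (nonZeroDivisors A)))
  haveI hfK : Injective (G.obj Kf) := Injective.of_iso
    ((Scheme.Modules.pushforwardComp g f).app (Coh.structureModule (Spec X.functionField))).symm
    (injective_pushforward (g ≫ f) _)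
  let κ : (Spec (CommRingCat.of A)).Modules :=
    (tilde.functor (CommRingCat.of A)).obj (ModuleCat.of A (IsLocalRing.ResidueField A))
  let κD := (DerivedCategory.singleFunctor (Spec (CommRingCat.of A)).Modules 0).obj κ
  let e₀ : (DCoh.tildeD (CommRingCat.of A)).obj (Dual.inD A (IsLocalRing.ResidueField A)) ≅ κD :=
    tildeSingleIso (CommRingCat.of A) (ModuleCat.of A (IsLocalRing.ResidueField A))
  -- no morphisms into the rational functions
  have hb : ∀ ψ : (κD⟦(-1 : ℤ)⟧) ⟶ RF.obj ((singleFunctor X.Modules 0).obj Kf), ψ = 0 := by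
    intro ψ
    haveI := Groth.Misc4.RFSingle.isIso_compSingle G RF β Kf fun q hq => by
      rcases lt_or_gt_of_ne hq with h | h
      · haveI := Groth.Misc4.RFBounded.isGE_obj G RF β ((singleFunctor X.Modules 0).obj Kf) 0
        exact isZero_of_isGE _ 0 q h
      · obtain ⟨k, rfl⟩ : ∃ k : ℕ, q = ((k + 1 : ℕ) : ℤ) := ⟨q.toNat - 1, by omega⟩
        obtain ⟨e⟩ := Groth.Misc4.RFBounded.nonempty_homology_single G RF β Kf 0 ((k + 1 : ℕ) : ℤ) (k + 1) (by omega)
        exact IsZero.of_iso (G.isZero_rightDerived_obj_injective_succ k Kf) e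
    let e := asIso ((Groth.Misc4.RFSingle.compSingle G RF β).app Kf)
    haveI : (κD⟦(-1 : ℤ)⟧).IsGE 1 := TStructure.t.isGE_shift κD 0 (-1) 1 (by omega)
    rw [← cancel_mono e.inv, zero_comp]
    exact Groth.Duality.ShriekBridge.hom_eq_zero_of_isGE_one (G.obj Kf) _ _
  -- no morphisms into rational modulo regular functions
  have ha : ∀ ψ : κD ⟶ RF.obj ((singleFunctor X.Modules 0).obj Qm), ψ = 0 := by
    intro ψ
    haveI := Groth.Misc4.RFBounded.isGE_obj G RF β ((singleFunctor X.Modules 0).obj Qm) 0
    refine Groth.TruncFactor.eq_zero_of_homology ψ 0 inferInstance inferInstance ?_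
    obtain ⟨e⟩ := Groth.Misc4.RFBounded.nonempty_homology_single G RF β Qm 0 0 0 (by simp)
    let e' := e ≪≫ G.rightDerivedZeroIsoSelf.app Qm
    let h : κ ⟶ G.obj Qm := (singleFunctorCompHomologyFunctorIso _ 0).inv.app κ ≫
      (homologyFunctor _ 0).map ψ ≫ e'.hom
    suffices hh : h = 0 by
      rwa [← cancel_epi ((singleFunctorCompHomologyFunctorIso _ 0).inv.app κ), ← cancel_mono e'.hom,
        comp_zero, zero_comp, Category.assoc]
    refine eq_zero_of_homEquiv (CommRingCat.of A) h fun x => ?_
    refine Groth.ResolveSurf.GenericFractions.eq_zero_of_maximalIdeal_smul hdim f hU (fun z => (hXn z).2)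
      ((tilde.adjunction.homEquiv _ _ h).hom x) fun a ha => ?_
    have h1 : (tilde.adjunction.homEquiv _ _ h).hom (a • x) = a • (tilde.adjunction.homEquiv _ _ h).hom x :=
      map_smul _ _ _
    have h2 : a • x = 0 := by
      obtain ⟨y, rfl⟩ := IsLocalRing.residue_surjective x
      change IsLocalRing.residue A a * IsLocalRing.residue A y = 0
      rw [(IsLocalRing.residue_eq_zero_iff _).2 ha, zero_mul]
    rw [h2, map_zero] at h1
    exact h1.symm
  refine subsingleton_of_forall_eq 0 fun φ => ?_
  obtain ⟨c, hc⟩ := Groth.DAlg.RFTriangle.exists_distinguished G RF β _ hS.singleTriangle_distinguished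
  let k := (shiftFunctor (DerivedCategory (Spec (CommRingCat.of A)).Modules) (-1 : ℤ)).map e₀.inv
  obtain ⟨χ, hχ⟩ := Triangle.coyoneda_exact₂ _ (inv_rot_of_distTriang _ hc) (k ≫ φ) (hb _)
  obtain ⟨χ₀, hχ₀⟩ := (shiftFunctor (DerivedCategory (Spec (CommRingCat.of A)).Modules) (-1 : ℤ)).map_surjective
    (show (κD⟦(-1 : ℤ)⟧) ⟶ (RF.obj ((singleFunctor X.Modules 0).obj Qm))⟦(-1 : ℤ)⟧ from χ)
  rw [← cancel_epi k, comp_zero]
  refine hχ.trans ?_
  have : χ = 0 := by
    rw [← hχ₀.trans rfl, ha χ₀, Functor.map_zero]
  rw [this]
  exact zero_comp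

end Groth.Agent.S7334
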