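import Groth.Statements.S7338
import Groth.Agent.ResModR1.Main

set_option autoImplicit false
universe u
open CategoryTheory CategoryTheory.Limits AlgebraicGeometry
open Resolve

namespace Groth.Agent.S7338

/-- Let (A, m) be a Noetherian normal local domain of dimension two, and X, X' integral schemes proper
over Spec A, each an isomorphism over some nonempty open of Spec A (modifications), with X normal,
and g : X' → X a morphism over Spec A. Then R^1 g_* O_{X'} is generated by global sections and its
support is a finite set of closed points of X, and there is a short exact sequence 0 → H^1(X, O_X) →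
H^1(X', O_{X'}) → H^0(X, R^1 g_* O_{X'}) → 0, recorded here as the additivity of A-lengths. (R^1 g_*
is the right derived functor of g_* on O-modules; that O_{X'}-modules have injective resolutions is
carried as an instance hypothesis.) -/
theorem result (A : Type u) [CommRing A] [IsDomain A] [IsLocalRing A] [IsNoetherianRing A]
    [IsIntegrallyClosed A] (hdim : ringKrullDim A = 2)
    (X X' : Scheme.{u}) [X.Over (Spec (CommRingCat.of A))] [X'.Over (Spec (CommRingCat.of A))]
    [IsProper (X ↘ Spec (CommRingCat.of A))] [IsProper (X' ↘ Spec (CommRingCat.of A))] [IsIntegral X] [IsIntegral X']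
    (hX : ∃ U : (Spec (CommRingCat.of A)).Opens, (U : Set (Spec (CommRingCat.of A))).Nonempty ∧ IsIso ((X ↘ Spec (CommRingCat.of A)) ∣_ U))
    (hX' : ∃ U : (Spec (CommRingCat.of A)).Opens, (U : Set (Spec (CommRingCat.of A))).Nonempty ∧ IsIso ((X' ↘ Spec (CommRingCat.of A)) ∣_ U))
    (hXn : Pi1.IsNormalScheme X) (g : X' ⟶ X) (hg : g ≫ (X ↘ Spec (CommRingCat.of A)) = X' ↘ Spec (CommRingCat.of A))
    [HasInjectiveResolutions X'.Modules] :
    Curv2.IsGloballyGenerated ((Coh.Rpush g 1).obj (Coh.structureModule X')) ∧
      {x : X | Nontrivial (((Coh.Rpush g 1).obj (Coh.structureModule X')).presheaf.stalk x)}.Finite ∧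
      (∀ x : X, Nontrivial (((Coh.Rpush g 1).obj (Coh.structureModule X')).presheaf.stalk x) → IsClosed ({x} : Set X)) ∧
      Module.length A (Coh.HH X' (Coh.structureModule X') 1) =
        Module.length A (Coh.HH X (Coh.structureModule X) 1) +
          Module.length A (Coh.HH X ((Coh.Rpush g 1).obj (Coh.structureModule X')) 0) := by
  exact Groth.ResModR1.R1_between_modifications A hdim X X' hX hX' hXn g hg

end Groth.Agent.S7338
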