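import Groth.Statements.S7340
import Mathlib.RingTheory.AdjoinRoot
import Mathlib.Algebra.MvPolynomial.PDeriv
import Mathlib.RingTheory.Kaehler.Basic
import Mathlib.Tactic
-- import your own Groth.Agent.* helpers here

set_option autoImplicit false
universe u
open Polynomial
open Resolve

namespace Groth.Agent.S7340

open KaehlerDifferential

theorem chain_rule {A S M : Type*} [CommRing A] [CommRing S] [AddCommGroup M] [Algebra A S]
    [Module S M] [Module A M] (d : Derivation A S M) (g : Fin 2 → S) (f : MvPolynomial (Fin 2) ℤ) :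
    d (MvPolynomial.aeval g f) = MvPolynomial.aeval g (MvPolynomial.pderiv 0 f) • d (g 0) +
      MvPolynomial.aeval g (MvPolynomial.pderiv 1 f) • d (g 1) := by
  induction f using MvPolynomial.induction_on with
  | C a => simp
  | add f h hf hh => simp only [map_add, hf, hh, add_smul]; abel
  | mul_X f i hf =>
    rw [map_mul, MvPolynomial.aeval_X, d.leibniz, hf, MvPolynomial.pderiv_mul,
      MvPolynomial.pderiv_mul, map_add, map_add, map_mul, map_mul, map_mul, map_mul,
      MvPolynomial.aeval_X]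
    fin_cases i
    · simp only [Fin.isValue, Fin.zero_eta, MvPolynomial.pderiv_X_self,
        MvPolynomial.pderiv_X_of_ne (zero_ne_one), map_one, map_zero]
      module
    · simp only [Fin.isValue, Fin.mk_one, MvPolynomial.pderiv_X_self,
        MvPolynomial.pderiv_X_of_ne (one_ne_zero), map_one, map_zero]
      module

/-- `u ↦ u^(p-1) du` is additive up to exact forms. -/
theorem exists_exact {A S M : Type*} [CommRing A] [CommRing S] [AddCommGroup M] [Algebra A S]
    [Module S M] [Module A M] (p : ℕ) [Fact p.Prime] (d : Derivation A S M) (P Q : S) :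
    ∃ u : S, (P + Q) ^ (p - 1) • d (P + Q) = P ^ (p - 1) • d P + Q ^ (p - 1) • d Q + d u := by
  obtain ⟨r, hr⟩ := exists_add_pow_prime_eq (Fact.out : p.Prime)
    (MvPolynomial.X 0 : MvPolynomial (Fin 2) ℤ) (MvPolynomial.X 1)
  set X0 : MvPolynomial (Fin 2) ℤ := MvPolynomial.X 0
  set X1 : MvPolynomial (Fin 2) ℤ := MvPolynomial.X 1
  have hp : (p : MvPolynomial (Fin 2) ℤ) ≠ 0 := Nat.cast_ne_zero.mpr (Fact.out : p.Prime).ne_zero
  have h0 : MvPolynomial.pderiv 0 (X0 * X1 * r) = (X0 + X1) ^ (p - 1) - X0 ^ (p - 1) := by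
    apply mul_left_cancel₀ hp
    have := congr_arg (MvPolynomial.pderiv 0) hr
    simp only [X0, X1, map_add, MvPolynomial.pderiv_pow, MvPolynomial.pderiv_X_self,
      MvPolynomial.pderiv_X_of_ne (zero_ne_one' (Fin 2)).symm, Derivation.leibniz,
      Derivation.map_natCast, smul_eq_mul] at this ⊢
    linear_combination -this
  have h1 : MvPolynomial.pderiv 1 (X0 * X1 * r) = (X0 + X1) ^ (p - 1) - X1 ^ (p - 1) := by
    apply mul_left_cancel₀ hp
    have := congr_arg (MvPolynomial.pderiv 1) hr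
    simp only [X0, X1, map_add, MvPolynomial.pderiv_pow, MvPolynomial.pderiv_X_self,
      MvPolynomial.pderiv_X_of_ne (zero_ne_one' (Fin 2)), Derivation.leibniz,
      Derivation.map_natCast, smul_eq_mul] at this ⊢
    linear_combination -this
  refine ⟨MvPolynomial.aeval ![P, Q] (X0 * X1 * r), ?_⟩
  rw [chain_rule, h0, h1]
  simp only [X0, X1, map_sub, map_pow, map_add, MvPolynomial.aeval_X, Matrix.cons_val_zero,
    Matrix.cons_val_one, Matrix.cons_val_fin_one, d.map_add]
  module

variable {p : ℕ} [Fact p.Prime] {R : Type u} [CommRing R] [CharP R p] {b : R}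

omit [Fact p.Prime] [CharP R p] in
theorem root_pow (b : R) : (AdjoinRoot.root (X ^ p - C b : R[X])) ^ p =
    algebraMap R (AdjoinRoot (X ^ p - C b : R[X])) b := by
  have := AdjoinRoot.eval₂_root (X ^ p - C b : R[X])
  simp only [eval₂_sub, eval₂_pow, eval₂_X, eval₂_C, sub_eq_zero] at this
  exact this

omit [Fact p.Prime] [CharP R p] in
theorem span_powers (b : R) (u : AdjoinRoot (X ^ p - C b : R[X])) :
    u ∈ Submodule.span R (Set.range fun j : ℕ => AdjoinRoot.root (X ^ p - C b : R[X]) ^ j) := by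
  obtain ⟨F, rfl⟩ := AdjoinRoot.mk_surjective u
  induction F using Polynomial.induction_on' with
  | add F G hF hG => rw [map_add]; exact add_mem hF hG
  | monomial n c =>
    rw [← C_mul_X_pow_eq_monomial, map_mul, map_pow, AdjoinRoot.mk_C, AdjoinRoot.mk_X]
    change algebraMap R (AdjoinRoot (X ^ p - C b : R[X])) c * _ ∈ _
    rw [← Algebra.smul_def]
    exact Submodule.smul_mem _ c (Submodule.subset_span ⟨n, rfl⟩)

section Trace

variable {S : Type u} [CommRing S] [Algebra R S] {y : S} (hy : y ^ p = algebraMap R S b)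
  (hspan : ∀ u : S, u ∈ Submodule.span R (Set.range fun j : ℕ => y ^ j)) (T : Ω[S⁄R] →ₗ[R] Ω[R⁄ℤ])
  (hT : ∀ i : ℕ, i + 2 ≤ p → T (y ^ i • D R S y) = 0)
  (hT' : T (y ^ (p - 1) • D R S y) = D ℤ R b)

include hy in
theorem trace_pow (n : ℕ) :
    T (y ^ n • D R S y) = b ^ (n / p) • T (y ^ (n % p) • D R S y) := by
  conv_lhs => rw [← Nat.div_add_mod n p, pow_add, pow_mul, hy, ← map_pow, ← smul_smul,
    algebraMap_smul, map_smul]

include hy hspan hT in
theorem trace_exact (u : S) : T (D R S u) = 0 := by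
  refine Submodule.span_induction ?_ (by simp) (fun _ _ _ _ h h' => by simp [h, h'])
    (fun c _ _ h => by rw [(D R S).map_smul, map_smul, h, smul_zero]) (hspan u)
  rintro _ ⟨j, rfl⟩
  simp only
  rw [(D R S).leibniz_pow, map_nsmul, trace_pow hy]
  by_cases hj : (p : ℕ) ∣ j
  · rw [← Nat.cast_smul_eq_nsmul R, (CharP.cast_eq_zero_iff R p j).mpr hj, zero_smul]
  · rw [hT, smul_zero, smul_zero]
    have hp := (Fact.out : p.Prime).two_le
    have h2 := Nat.mod_lt (j - 1) (Nat.lt_of_lt_of_le two_pos hp)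
    by_contra hc
    apply hj
    have h3 : (j - 1) % p = p - 1 := by omega
    have hj0 : j ≠ 0 := by rintro rfl; exact hj (dvd_zero p)
    refine Nat.dvd_of_mod_eq_zero ?_
    have h4 : j = (j - 1) + 1 := by omega
    rw [h4, Nat.add_mod, h3, Nat.mod_eq_of_lt (show 1 < p by omega),
      show p - 1 + 1 = p by omega, Nat.mod_self]

theorem D_pow_char (c : R) : D ℤ R (c ^ p) = 0 := by
  rw [(D ℤ R).leibniz_pow, ← Nat.cast_smul_eq_nsmul R, CharP.cast_eq_zero, zero_smul]

include hy hspan hT hT' in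
theorem trace_cartier (P : S) :
    ∃ r : R, P ^ p = algebraMap R S r ∧ T (P ^ (p - 1) • D R S P) = D ℤ R r := by
  refine Submodule.span_induction (p := fun P _ => ∃ r : R, P ^ p = algebraMap R S r ∧
    T (P ^ (p - 1) • D R S P) = D ℤ R r) ?_ ?_ ?_ ?_ (hspan P)
  · rintro _ ⟨j, rfl⟩
    refine ⟨b ^ j, by rw [← pow_mul, mul_comm, pow_mul, hy, map_pow], ?_⟩
    rcases j with _ | j
    · simp
    simp only [(D R S).leibniz_pow, (D ℤ R).leibniz_pow, Nat.add_sub_cancel]
    rw [smul_comm, map_nsmul, smul_smul, ← pow_mul, ← pow_add, trace_pow hy]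
    have hp := (Fact.out : p.Prime).two_le
    have h1 : (j + 1) * (p - 1) + j = (p - 1) + p * j := by
      obtain ⟨k, rfl⟩ : ∃ k, p = k + 1 := ⟨p - 1, by omega⟩
      simp only [Nat.add_sub_cancel]; ring
    rw [h1, Nat.add_mul_div_left _ _ (by omega : 0 < p), Nat.add_mul_mod_self_left,
      Nat.div_eq_of_lt (by omega : p - 1 < p), Nat.mod_eq_of_lt (by omega : p - 1 < p), zero_add, hT']
  · refine ⟨0, ?_, by simp⟩
    rw [map_zero, zero_pow (Fact.out : p.Prime).ne_zero]
  · rintro P Q - - ⟨r, hr, hr'⟩ ⟨r', hq, hq'⟩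
    refine ⟨r + r', ?_, ?_⟩
    · obtain ⟨w, hw⟩ := exists_add_pow_prime_eq (Fact.out : p.Prime) P Q
      rw [hw, ← map_natCast (algebraMap R S), CharP.cast_eq_zero, map_zero, map_add, hr, hq]
      ring
    · obtain ⟨w, hw⟩ := exists_exact p (D R S) P Q
      rw [hw, map_add, map_add, trace_exact hy hspan T hT, add_zero, hr', hq', (D ℤ R).map_add]
  · rintro c P - ⟨r, hr, hr'⟩
    refine ⟨c ^ p * r, ?_, ?_⟩
    · rw [Algebra.smul_def, mul_pow, hr, ← map_pow, map_mul]
    · rw [smul_pow, (D R S).map_smul, smul_assoc, smul_comm _ c, ← mul_smul, ← pow_succ,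
        Nat.sub_add_cancel (Fact.out : p.Prime).one_le, map_smul, hr', (D ℤ R).leibniz,
        D_pow_char, smul_zero, add_zero]

end Trace

theorem algebraMap_injective (b : R) :
    Function.Injective (algebraMap R (AdjoinRoot (X ^ p - C b : R[X]))) := by
  rw [injective_iff_map_eq_zero]
  intro r hr
  change AdjoinRoot.mk (X ^ p - C b) (C r) = 0 at hr
  rw [AdjoinRoot.mk_eq_zero] at hr
  by_contra h0
  haveI : Nontrivial R := nontrivial_of_ne r 0 h0
  have hp := (Fact.out : p.Prime).pos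
  refine (monic_X_pow_sub_C b hp.ne').not_dvd_of_natDegree_lt (C_ne_zero.mpr h0) ?_ hr
  rw [natDegree_C, natDegree_X_pow_sub_C]
  exact hp

/-- Let p be a prime number and R an F_p-algebra, a, b ∈ R, S_a = R[x]/(x^p - a) and S_b = R[y]/(y^p -
b). The trace Tr_x : Ω_{S_a/R} → Ω_R is the R-linear map with x^i dx ↦ 0 for 0 ≤ i ≤ p - 2 and
x^{p-1} dx ↦ da (these determine it, Ω_{S_a/R} being free over R on the x^i dx), and similarly Tr_y.
Then for every R-algebra homomorphism φ : S_a → S_b one has Tr_x = Tr_y ∘ φ_*: for all s, t ∈ S_a,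
Tr_x(s dt) = Tr_y(φ(s) dφ(t)). Here Ω_R is the module of absolute differentials Ω_{R/Z}. -/
theorem result (p : ℕ) [Fact p.Prime] (R : Type u) [CommRing R] [CharP R p] (a b : R)
    (φ : AdjoinRoot (X ^ p - C a : R[X]) →ₐ[R] AdjoinRoot (X ^ p - C b : R[X]))
    (Tx : Ω[AdjoinRoot (X ^ p - C a : R[X])⁄R] →ₗ[R] Ω[R⁄ℤ])
    (Ty : Ω[AdjoinRoot (X ^ p - C b : R[X])⁄R] →ₗ[R] Ω[R⁄ℤ])
    (hTx : ∀ i : ℕ, i + 2 ≤ p →
      Tx (AdjoinRoot.root (X ^ p - C a) ^ i • KaehlerDifferential.D R _ (AdjoinRoot.root (X ^ p - C a))) = 0)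
    (hTx' : Tx (AdjoinRoot.root (X ^ p - C a) ^ (p - 1) • KaehlerDifferential.D R _ (AdjoinRoot.root (X ^ p - C a))) =
      KaehlerDifferential.D ℤ R a)
    (hTy : ∀ i : ℕ, i + 2 ≤ p →
      Ty (AdjoinRoot.root (X ^ p - C b) ^ i • KaehlerDifferential.D R _ (AdjoinRoot.root (X ^ p - C b))) = 0)
    (hTy' : Ty (AdjoinRoot.root (X ^ p - C b) ^ (p - 1) • KaehlerDifferential.D R _ (AdjoinRoot.root (X ^ p - C b))) =
      KaehlerDifferential.D ℤ R b)
    (s t : AdjoinRoot (X ^ p - C a : R[X])) :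
    Tx (s • KaehlerDifferential.D R _ t) = Ty (φ s • KaehlerDifferential.D R _ (φ t)) := by
  set y' := φ (AdjoinRoot.root (X ^ p - C a)) with hy'
  have hy'p : y' ^ p = algebraMap R _ a := by
    rw [hy', ← map_pow, root_pow, φ.commutes]
  have key : ∀ n : ℕ, Tx (AdjoinRoot.root (X ^ p - C a) ^ n • D R _ (AdjoinRoot.root (X ^ p - C a))) =
      Ty (y' ^ n • D R _ y') := by
    intro n
    rw [trace_pow (root_pow a) Tx n]
    conv_rhs => rw [← Nat.div_add_mod n p, pow_add, pow_mul, hy'p, ← map_pow, ← smul_smul,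
      algebraMap_smul, map_smul]
    congr 1
    have hp := (Fact.out : p.Prime).two_le
    have hlt := Nat.mod_lt n (by omega : 0 < p)
    by_cases hm : n % p + 2 ≤ p
    · rw [hTx _ hm]
      have h1 := trace_exact (root_pow b) (span_powers b) Ty hTy (y' ^ (n % p + 1))
      rw [(D R _).leibniz_pow, Nat.add_sub_cancel, map_nsmul, ← Nat.cast_smul_eq_nsmul R] at h1
      have hu : IsUnit ((n % p + 1 : ℕ) : R) :=
        (CharP.isUnit_natCast_iff (Fact.out : p.Prime)).mpr (Nat.not_dvd_of_pos_of_lt (by omega) (by omega))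
      exact (hu.smul_eq_zero.mp h1).symm
    · rw [show n % p = p - 1 by omega, hTx']
      obtain ⟨r, hr, hr'⟩ := trace_cartier (root_pow b) (span_powers b) Ty hTy hTy' y'
      rw [hy'p] at hr
      rw [hr', algebraMap_injective b hr]
  refine Submodule.span_induction (p := fun s _ => Tx (s • D R _ t) = Ty (φ s • D R _ (φ t))) ?_
    (by simp) (fun _ _ _ _ h h' => by simp [add_smul, h, h']) (fun c u _ h => by
      rw [smul_assoc, Tx.map_smul, map_smul φ, smul_assoc, Ty.map_smul, h]) (span_powers a s)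
  rintro _ ⟨i, rfl⟩
  refine Submodule.span_induction
    (p := fun t _ => Tx (AdjoinRoot.root (X ^ p - C a) ^ i • D R _ t) =
      Ty (φ (AdjoinRoot.root (X ^ p - C a) ^ i) • D R _ (φ t))) ?_
    (by simp) (fun _ _ _ _ h h' => by simp [smul_add, h, h']) (fun c u _ h => by
      rw [(D R _).map_smul, map_smul φ, (D R _).map_smul, smul_comm, Tx.map_smul, h,
        smul_comm _ c, Ty.map_smul]) (span_powers a t)
  rintro _ ⟨j, rfl⟩
  simp only [map_pow, ← hy', (D R _).leibniz_pow, smul_comm _ j, map_nsmul, smul_smul, ← pow_add, key]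

end Groth.Agent.S7340
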