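import Groth.Statements.S7341
import Groth.Agent.ModelsGraphs.ChainFin

set_option autoImplicit false
open Finset
open Models Models.NumericalType

namespace Groth.Agent.S7341

/-- Classification of proper subgraphs which are chains of three vertices: let T be a numerical type on
n > 3 indices and i, j, k distinct (-2)-indices with a_ij > 0 and a_jk > 0. Then a_ik = 0 and, up to
reversing the order of i, j, k, one of the following holds for some integer w: (A3) w_i = w_j = w_k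
= w, a_ij = a_jk = w, with 2 m_i ≥ m_j, 2 m_j ≥ m_i + m_k, 2 m_k ≥ m_j; (C3) w_i = w_j = w, w_k =
2w, a_ij = w, a_jk = 2w, with 2 m_i ≥ m_j, 2 m_j ≥ m_i + 2 m_k, 2 m_k ≥ m_j; (B3) w_i = w_j = 2w,
w_k = w, a_ij = a_jk = 2w, with 2 m_i ≥ m_j, 2 m_j ≥ m_i + m_k, m_k ≥ m_j. -/
theorem result {n : ℕ} (T : Models.NumericalType n) (hn : 3 < n) (i j k : Fin n)
    (hij : i ≠ j) (hjk : j ≠ k) (hik : i ≠ k) (hi : T.IsMinusTwo i) (hj : T.IsMinusTwo j) (hk : T.IsMinusTwo k)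
    (h1 : 0 < T.a i j) (h2 : 0 < T.a j k) :
    T.a i k = 0 ∧ ∃ (i' k' : Fin n) (w : ℤ), ((i' = i ∧ k' = k) ∨ (i' = k ∧ k' = i)) ∧
      ((T.w i' = w ∧ T.w j = w ∧ T.w k' = w ∧ T.a i' j = w ∧ T.a j k' = w ∧
          T.m j ≤ 2 * T.m i' ∧ T.m i' + T.m k' ≤ 2 * T.m j ∧ T.m j ≤ 2 * T.m k') ∨
        (T.w i' = w ∧ T.w j = w ∧ T.w k' = 2 * w ∧ T.a i' j = w ∧ T.a j k' = 2 * w ∧
          T.m j ≤ 2 * T.m i' ∧ T.m i' + 2 * T.m k' ≤ 2 * T.m j ∧ T.m j ≤ 2 * T.m k') ∨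
        (T.w i' = 2 * w ∧ T.w j = 2 * w ∧ T.w k' = w ∧ T.a i' j = 2 * w ∧ T.a j k' = 2 * w ∧
          T.m j ≤ 2 * T.m i' ∧ T.m i' + T.m k' ≤ 2 * T.m j ∧ T.m j ≤ T.m k')) := by
  let p : ℕ → Fin n := fun a => if a = 0 then i else if a = 1 then j else k
  have hp : Groth.ModelsGraphs.IsPath T p 3 := by
    refine ⟨fun a ha b hb e => ?_, fun a ha => ?_, fun a ha => ?_⟩
    · rw [Set.mem_Iio] at ha hb
      interval_cases a <;> interval_cases b <;> simp_all [p, eq_comm]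
    · interval_cases a <;> simp [p, *]
    · have h2' : a < 2 := by omega
      interval_cases a <;> simp [p, *]
  refine ⟨hp.no_chord hn (i := 0) (k := 2) (by norm_num) (by norm_num), ?_⟩
  obtain ⟨w, hw⟩ := Groth.ModelsGraphs.chain_class hp le_rfl hn (fun a h1 h2 => by omega)
  have key : ∀ (q : ℕ → Fin n) (x z : Fin n), q 0 = x → q 1 = j → q 2 = z → x ≠ j → z ≠ j → x ≠ z →
      T.IsMinusTwo x → T.IsMinusTwo z → Groth.ModelsGraphs.ChainForm T q 3 w →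
      ((T.w x = w ∧ T.w j = w ∧ T.w z = w ∧ T.a x j = w ∧ T.a j z = w ∧
          T.m j ≤ 2 * T.m x ∧ T.m x + T.m z ≤ 2 * T.m j ∧ T.m j ≤ 2 * T.m z) ∨
        (T.w x = w ∧ T.w j = w ∧ T.w z = 2 * w ∧ T.a x j = w ∧ T.a j z = 2 * w ∧
          T.m j ≤ 2 * T.m x ∧ T.m x + 2 * T.m z ≤ 2 * T.m j ∧ T.m j ≤ 2 * T.m z) ∨
        (T.w x = 2 * w ∧ T.w j = 2 * w ∧ T.w z = w ∧ T.a x j = 2 * w ∧ T.a j z = 2 * w ∧
          T.m j ≤ 2 * T.m x ∧ T.m x + T.m z ≤ 2 * T.m j ∧ T.m j ≤ T.m z)) := by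
    intro q x z q0 q1 q2 hxj hzj hxz hx hz hf
    have rx := Groth.ModelsGraphs.row_le1 hx hxj.symm
    have rj := Groth.ModelsGraphs.row_le2 hj hxj hzj hxz
    have rz := Groth.ModelsGraphs.row_le1 hz hzj.symm
    rw [Groth.ModelsGraphs.a_comm T j x] at rj
    rw [Groth.ModelsGraphs.a_comm T z j] at rz
    have px := T.w_pos x
    have pz := T.w_pos z
    rcases hf with ⟨a1, a2⟩ | ⟨a1, a2, a3, a4⟩ | ⟨a1, a2, a3⟩
    · have d0 := a1 0 (by omega); have d1 := a1 1 (by omega); have d2 := a1 2 (by omega)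
      have e0 := a2 0 (by omega); have e1 := a2 1 (by omega)
      simp only [Nat.zero_add, Nat.reduceAdd, q0, q1, q2] at d0 d1 d2 e0 e1
      simp only [d0, d1, d2, e0, e1] at rx rj rz px
      refine Or.inl ⟨d0, d1, d2, e0, e1, ?_, ?_, ?_⟩ <;> refine Groth.ModelsGraphs.cancel_w px ?_ <;> linarith
    · have d0 := a1 0 (by omega); have d1 := a1 1 (by omega)
      have e0 := a3 0 (by omega)
      simp only [Nat.zero_add, Nat.reduceAdd, Nat.reduceSub, q0, q1, q2] at d0 d1 a2 e0 a4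
      simp only [d0, d1, a2, e0, a4] at rx rj rz px
      refine Or.inr (Or.inl ⟨d0, d1, a2, e0, a4, ?_, ?_, ?_⟩) <;> refine Groth.ModelsGraphs.cancel_w px ?_ <;> linarith
    · have d0 := a1 0 (by omega); have d1 := a1 1 (by omega)
      have e0 := a3 0 (by omega); have e1 := a3 1 (by omega)
      simp only [Nat.zero_add, Nat.reduceAdd, Nat.reduceSub, q0, q1, q2] at d0 d1 a2 e0 e1
      simp only [d0, d1, a2, e0, e1] at rx rj rz pz
      refine Or.inr (Or.inr ⟨d0, d1, a2, e0, e1, ?_, ?_, ?_⟩) <;> refine Groth.ModelsGraphs.cancel_w pz ?_ <;> linarith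
  rcases hw with hw | hw
  · exact ⟨i, k, w, Or.inl ⟨rfl, rfl⟩, key p i k rfl rfl rfl hij hjk.symm hik hi hk hw⟩
  · exact ⟨k, i, w, Or.inr ⟨rfl, rfl⟩, key _ k i rfl rfl rfl hjk.symm hij hik.symm hk hi hw⟩

end Groth.Agent.S7341
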