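import Groth.Statements.S7342
import Groth.Agent.ModelsGraphs.ChainFin

set_option autoImplicit false
open Finset
open Models Models.NumericalType

namespace Groth.Agent.S7342

/-- Let T be a numerical type on n indices, t ≥ 4 and n > t + 2. Then no t + 2 (-2)-indices of T,
pairwise distinct and numbered i_0, …, i_{t+1}, satisfy: a_{i_j i_{j+1}} > 0 for 1 ≤ j ≤ t - 1,
a_{i_0 i_2} > 0 and a_{i_{t-1} i_{t+1}} > 0. -/
theorem result {n : ℕ} (T : Models.NumericalType n) (t : ℕ) (ht : 4 ≤ t) (hn : t + 2 < n)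
    (v : Fin (t + 2) ↪ Fin n) (hv : ∀ j, T.IsMinusTwo (v j))
    (hchain : ∀ j j' : Fin (t + 2), 1 ≤ j.val → j.val + 1 ≤ t → j'.val = j.val + 1 → 0 < T.a (v j) (v j'))
    (h02 : ∀ j j' : Fin (t + 2), j.val = 0 → j'.val = 2 → 0 < T.a (v j) (v j'))
    (hlast : ∀ j j' : Fin (t + 2), j.val = t - 1 → j'.val = t + 1 → 0 < T.a (v j) (v j')) : False := by
  let g : Fin (t - 2) → Fin (t + 2) := fun i => ⟨i.val + 2, by omega⟩
  have hg : Function.Injective g := fun a b e => Fin.ext (by simpa [g] using e)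
  let p : ℕ → Fin n := fun i => if h : i + 2 < t + 2 then v ⟨i + 2, h⟩ else v ⟨0, by omega⟩
  have hp : ∀ i (h : i + 2 < t + 2), p i = v ⟨i + 2, h⟩ := fun i h => dif_pos h
  have hpath : Groth.ModelsGraphs.IsPath T p (t - 3 + 1) := by
    refine ⟨fun a ha b hb e => ?_, fun a ha => ?_, fun a ha => ?_⟩
    · rw [Set.mem_Iio] at ha hb
      rw [hp a (by omega), hp b (by omega)] at e
      simpa using v.injective e
    · rw [hp a (by omega)]; exact hv _
    · rw [hp a (by omega), hp (a + 1) (by omega)]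
      exact hchain _ _ (by simp) (by simp; omega) (by simp)
  let x : Fin 4 → Fin (t + 2) := ![⟨0, by omega⟩, ⟨1, by omega⟩, ⟨t, by omega⟩, ⟨t + 1, by omega⟩]
  have hx : ![v ⟨0, by omega⟩, v ⟨1, by omega⟩, v ⟨t, by omega⟩, v ⟨t + 1, by omega⟩] = v ∘ x := by
    funext a; fin_cases a <;> rfl
  have h0 : p 0 = v ⟨2, by omega⟩ := hp 0 (by omega)
  have hk : p (t - 3) = v ⟨t - 1, by omega⟩ := (hp _ (by omega)).trans (congrArg v (Fin.ext (by simp; omega)))
  refine Groth.ModelsGraphs.fork_fork_false hpath (x := v ⟨0, by omega⟩) (y := v ⟨1, by omega⟩) (z := v ⟨t, by omega⟩)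
    (u := v ⟨t + 1, by omega⟩) ?_ (fun a i hi => ?_) (fun a => by rw [hx]; exact hv _) ?_ ?_ ?_ ?_ (by omega)
  · rw [hx]
    refine v.injective.comp fun a b e => ?_
    fin_cases a <;> fin_cases b <;> simp [x] at e ⊢ <;> omega
  · rw [hx, hp i (by omega)]
    refine v.injective.ne fun e => ?_
    fin_cases a <;> simp [x] at e <;> omega
  · rw [h0, Groth.ModelsGraphs.a_comm]; exact h02 _ _ rfl rfl
  · rw [h0, Groth.ModelsGraphs.a_comm]; exact hchain _ _ le_rfl (by simp; omega) rfl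
  · rw [hk]; exact hchain _ _ (by simp; omega) (by simp; omega) (by simp; omega)
  · rw [hk]; exact hlast _ _ rfl rfl

end Groth.Agent.S7342
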