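import Groth.Statements.S7344
import Groth.Agent.ModelsGraphs.ChainFin

set_option autoImplicit false
open Finset
open Models Models.NumericalType

namespace Groth.Agent.S7344

/-- Let T be a numerical type on n > 8 indices. Then no eight (-2)-indices of T, pairwise distinct and
named e, f, g, h, i, j, k, l, have a_ef, a_fg, a_gh, a_hi, a_ij, a_jk and a_lh all nonzero (a chain
of seven, e to k, with l joined to its fourth vertex h). -/
theorem result {n : ℕ} (T : Models.NumericalType n) (hn : 8 < n)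
    (v : Fin 8 ↪ Fin n) (hv : ∀ j, T.IsMinusTwo (v j))
    (h01 : T.a (v 0) (v 1) ≠ 0) (h12 : T.a (v 1) (v 2) ≠ 0) (h23 : T.a (v 2) (v 3) ≠ 0)
    (h34 : T.a (v 3) (v 4) ≠ 0) (h45 : T.a (v 4) (v 5) ≠ 0) (h56 : T.a (v 5) (v 6) ≠ 0)
    (h73 : T.a (v 7) (v 3) ≠ 0) : False := by
  have := (Groth.ModelsGraphs.e7_test T v hv (fun x => Groth.ModelsGraphs.pos_of_ne
    (v.injective.ne (by revert x; decide)) (by
      fin_cases x
      exacts [h01, h12, h23, h34, h45, h56, Groth.ModelsGraphs.ne_comm' h73]))).1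
  omega

end Groth.Agent.S7344
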