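import Groth.Statements.S7346
import Groth.Agent.ModelsGraphs.ChainFin

set_option autoImplicit false
open Finset
open Models Models.NumericalType

namespace Groth.Agent.S7346

/-- Classification of proper subgraphs of type D4 (one vertex joined to three others): let T be a
numerical type on n > 4 indices and i_1, …, i_4 distinct (-2)-indices with a_{12}, a_{13}, a_{14}
nonzero. Then for some integer w all w_{i_j} equal w, these intersection numbers equal w, all other
a_{i_j i_k} (j ≠ k) vanish, and 2 m_1 ≥ m_2 + m_3 + m_4, 2 m_2 ≥ m_1, 2 m_3 ≥ m_1, 2 m_4 ≥ m_1. -/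
theorem result {n : ℕ} (T : Models.NumericalType n) (hn : 4 < n)
    (v : Fin 4 ↪ Fin n) (hv : ∀ j, T.IsMinusTwo (v j)) (h01 : T.a (v 0) (v 1) ≠ 0) (h02 : T.a (v 0) (v 2) ≠ 0) (h03 : T.a (v 0) (v 3) ≠ 0) :
    ∃ w : ℤ, (∀ j : Fin 4, T.w (v j) = w) ∧
      T.a (v 0) (v 1) = w ∧
      T.a (v 0) (v 2) = w ∧
      T.a (v 0) (v 3) = w ∧
      T.a (v 1) (v 2) = 0 ∧
      T.a (v 1) (v 3) = 0 ∧
      T.a (v 2) (v 3) = 0 ∧
      T.m (v 1) + T.m (v 2) + T.m (v 3) ≤ 2 * T.m (v 0) ∧
      T.m (v 0) ≤ 2 * T.m (v 1) ∧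
      T.m (v 0) ≤ 2 * T.m (v 2) ∧
      T.m (v 0) ≤ 2 * T.m (v 3) := by
  have s01 : Groth.ModelsGraphs.Simple T (v 0) (v 1) := Groth.ModelsGraphs.branch0 hv (by omega) 0 1 2 3 (by decide) (by decide) (by decide) (by decide) (by decide) (by decide) h01 h02 h03
  have s02 : Groth.ModelsGraphs.Simple T (v 0) (v 2) := Groth.ModelsGraphs.branch0 hv (by omega) 0 2 1 3 (by decide) (by decide) (by decide) (by decide) (by decide) (by decide) h02 h01 h03
  have s03 : Groth.ModelsGraphs.Simple T (v 0) (v 3) := Groth.ModelsGraphs.branch0 hv (by omega) 0 3 1 2 (by decide) (by decide) (by decide) (by decide) (by decide) (by decide) h03 h01 h02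
  have z12 : T.a (v 1) (v 2) = 0 := Groth.ModelsGraphs.chord0 hv hn (by omega) (![1, 0, 2] : Fin 3 → Fin 4) (by decide) (by intro i; fin_cases i; exacts [(Groth.ModelsGraphs.ne_comm' h01), h02])
  have z13 : T.a (v 1) (v 3) = 0 := Groth.ModelsGraphs.chord0 hv hn (by omega) (![1, 0, 3] : Fin 3 → Fin 4) (by decide) (by intro i; fin_cases i; exacts [(Groth.ModelsGraphs.ne_comm' h01), h03])
  have z23 : T.a (v 2) (v 3) = 0 := Groth.ModelsGraphs.chord0 hv hn (by omega) (![2, 0, 3] : Fin 3 → Fin 4) (by decide) (by intro i; fin_cases i; exacts [(Groth.ModelsGraphs.ne_comm' h02), h03])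
  have hwb := T.w_pos (v 0)
  obtain ⟨p01, q01⟩ := s01
  obtain ⟨p02, q02⟩ := s02
  obtain ⟨p03, q03⟩ := s03
  have w0 : T.w (v 0) = T.w (v 0) := by omega
  have w1 : T.w (v 1) = T.w (v 0) := by omega
  have w2 : T.w (v 2) = T.w (v 0) := by omega
  have w3 : T.w (v 3) = T.w (v 0) := by omega
  have e01 : T.a (v 0) (v 1) = T.w (v 0) := by omega
  have f01 : T.a (v 1) (v 0) = T.w (v 0) := by rw [Groth.ModelsGraphs.a_comm]; omega
  have e02 : T.a (v 0) (v 2) = T.w (v 0) := by omega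
  have f02 : T.a (v 2) (v 0) = T.w (v 0) := by rw [Groth.ModelsGraphs.a_comm]; omega
  have e03 : T.a (v 0) (v 3) = T.w (v 0) := by omega
  have f03 : T.a (v 3) (v 0) = T.w (v 0) := by rw [Groth.ModelsGraphs.a_comm]; omega
  have r0 := Groth.ModelsGraphs.row_le3 (hv 0) (x := v 1) (y := v 2) (z := v 3) (v.injective.ne (by decide)) (v.injective.ne (by decide)) (v.injective.ne (by decide)) (v.injective.ne (by decide)) (v.injective.ne (by decide)) (v.injective.ne (by decide))
  rw [e01, e02, e03, w0] at r0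
  have r1 := Groth.ModelsGraphs.row_le1 (hv 1) (x := v 0) (v.injective.ne (by decide))
  rw [f01, w1] at r1
  have r2 := Groth.ModelsGraphs.row_le1 (hv 2) (x := v 0) (v.injective.ne (by decide))
  rw [f02, w2] at r2
  have r3 := Groth.ModelsGraphs.row_le1 (hv 3) (x := v 0) (v.injective.ne (by decide))
  rw [f03, w3] at r3
  refine ⟨T.w (v 0), fun j => by fin_cases j <;> assumption, e01, e02, e03, z12, z13, z23, ?_, ?_, ?_, ?_⟩
  all_goals apply Groth.ModelsGraphs.cancel_w hwb
  all_goals linarith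

end Groth.Agent.S7346
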