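import Groth.Statements.S7347
import Groth.Agent.ModelsGraphs.ChainFin

set_option autoImplicit false
open Finset
open Models Models.NumericalType

namespace Groth.Agent.S7347

/-- Classification of proper subgraphs of type D5 (a chain i_1 i_2 i_3 with i_4 and i_5 both joined to
i_3): let T be a numerical type on n > 5 indices and i_1, …, i_5 distinct (-2)-indices with a_{12},
a_{23}, a_{34}, a_{35} nonzero. Then for some integer w all w_{i_j} equal w, these intersection
numbers equal w, all other a_{i_j i_k} (j ≠ k) vanish, and 2 m_1 ≥ m_2, 2 m_2 ≥ m_1 + m_3, 2 m_3 ≥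
m_2 + m_4 + m_5, 2 m_4 ≥ m_3, 2 m_5 ≥ m_3. -/
theorem result {n : ℕ} (T : Models.NumericalType n) (hn : 5 < n)
    (v : Fin 5 ↪ Fin n) (hv : ∀ j, T.IsMinusTwo (v j)) (h01 : T.a (v 0) (v 1) ≠ 0) (h12 : T.a (v 1) (v 2) ≠ 0) (h23 : T.a (v 2) (v 3) ≠ 0) (h24 : T.a (v 2) (v 4) ≠ 0) :
    ∃ w : ℤ, (∀ j : Fin 5, T.w (v j) = w) ∧
      T.a (v 0) (v 1) = w ∧
      T.a (v 1) (v 2) = w ∧
      T.a (v 2) (v 3) = w ∧
      T.a (v 2) (v 4) = w ∧
      T.a (v 0) (v 2) = 0 ∧
      T.a (v 0) (v 3) = 0 ∧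
      T.a (v 0) (v 4) = 0 ∧
      T.a (v 1) (v 3) = 0 ∧
      T.a (v 1) (v 4) = 0 ∧
      T.a (v 3) (v 4) = 0 ∧
      T.m (v 1) ≤ 2 * T.m (v 0) ∧
      T.m (v 0) + T.m (v 2) ≤ 2 * T.m (v 1) ∧
      T.m (v 1) + T.m (v 3) + T.m (v 4) ≤ 2 * T.m (v 2) ∧
      T.m (v 2) ≤ 2 * T.m (v 3) ∧
      T.m (v 2) ≤ 2 * T.m (v 4) := by
  have s01 : Groth.ModelsGraphs.Simple T (v 0) (v 1) := (Groth.ModelsGraphs.arm0 hv hn (![2, 1, 0] : Fin 3 → Fin 5) (by decide) (by intro i; fin_cases i; exacts [(Groth.ModelsGraphs.ne_comm' h12), (Groth.ModelsGraphs.ne_comm' h01)]) 3 4 (by decide) (by decide) (by decide) h23 h24).symm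
  have s12 : Groth.ModelsGraphs.Simple T (v 1) (v 2) := (Groth.ModelsGraphs.branch0 hv (by omega) 2 1 3 4 (by decide) (by decide) (by decide) (by decide) (by decide) (by decide) (Groth.ModelsGraphs.ne_comm' h12) h23 h24).symm
  have s23 : Groth.ModelsGraphs.Simple T (v 2) (v 3) := Groth.ModelsGraphs.branch0 hv (by omega) 2 3 1 4 (by decide) (by decide) (by decide) (by decide) (by decide) (by decide) h23 (Groth.ModelsGraphs.ne_comm' h12) h24
  have s24 : Groth.ModelsGraphs.Simple T (v 2) (v 4) := Groth.ModelsGraphs.branch0 hv (by omega) 2 4 1 3 (by decide) (by decide) (by decide) (by decide) (by decide) (by decide) h24 (Groth.ModelsGraphs.ne_comm' h12) h23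
  have z02 : T.a (v 0) (v 2) = 0 := Groth.ModelsGraphs.chord0 hv hn (by omega) (![0, 1, 2] : Fin 3 → Fin 5) (by decide) (by intro i; fin_cases i; exacts [h01, h12])
  have z03 : T.a (v 0) (v 3) = 0 := Groth.ModelsGraphs.chord0 hv hn (by omega) (![0, 1, 2, 3] : Fin 4 → Fin 5) (by decide) (by intro i; fin_cases i; exacts [h01, h12, h23])
  have z04 : T.a (v 0) (v 4) = 0 := Groth.ModelsGraphs.chord0 hv hn (by omega) (![0, 1, 2, 4] : Fin 4 → Fin 5) (by decide) (by intro i; fin_cases i; exacts [h01, h12, h24])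
  have z13 : T.a (v 1) (v 3) = 0 := Groth.ModelsGraphs.chord0 hv hn (by omega) (![1, 2, 3] : Fin 3 → Fin 5) (by decide) (by intro i; fin_cases i; exacts [h12, h23])
  have z14 : T.a (v 1) (v 4) = 0 := Groth.ModelsGraphs.chord0 hv hn (by omega) (![1, 2, 4] : Fin 3 → Fin 5) (by decide) (by intro i; fin_cases i; exacts [h12, h24])
  have z34 : T.a (v 3) (v 4) = 0 := Groth.ModelsGraphs.chord0 hv hn (by omega) (![3, 2, 4] : Fin 3 → Fin 5) (by decide) (by intro i; fin_cases i; exacts [(Groth.ModelsGraphs.ne_comm' h23), h24])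
  have hwb := T.w_pos (v 2)
  obtain ⟨p01, q01⟩ := s01
  obtain ⟨p12, q12⟩ := s12
  obtain ⟨p23, q23⟩ := s23
  obtain ⟨p24, q24⟩ := s24
  have w0 : T.w (v 0) = T.w (v 2) := by omega
  have w1 : T.w (v 1) = T.w (v 2) := by omega
  have w2 : T.w (v 2) = T.w (v 2) := by omega
  have w3 : T.w (v 3) = T.w (v 2) := by omega
  have w4 : T.w (v 4) = T.w (v 2) := by omega
  have e01 : T.a (v 0) (v 1) = T.w (v 2) := by omega
  have f01 : T.a (v 1) (v 0) = T.w (v 2) := by rw [Groth.ModelsGraphs.a_comm]; omega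
  have e12 : T.a (v 1) (v 2) = T.w (v 2) := by omega
  have f12 : T.a (v 2) (v 1) = T.w (v 2) := by rw [Groth.ModelsGraphs.a_comm]; omega
  have e23 : T.a (v 2) (v 3) = T.w (v 2) := by omega
  have f23 : T.a (v 3) (v 2) = T.w (v 2) := by rw [Groth.ModelsGraphs.a_comm]; omega
  have e24 : T.a (v 2) (v 4) = T.w (v 2) := by omega
  have f24 : T.a (v 4) (v 2) = T.w (v 2) := by rw [Groth.ModelsGraphs.a_comm]; omega
  have r0 := Groth.ModelsGraphs.row_le1 (hv 0) (x := v 1) (v.injective.ne (by decide))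
  rw [e01, w0] at r0
  have r1 := Groth.ModelsGraphs.row_le2 (hv 1) (x := v 0) (y := v 2) (v.injective.ne (by decide)) (v.injective.ne (by decide)) (v.injective.ne (by decide))
  rw [f01, e12, w1] at r1
  have r2 := Groth.ModelsGraphs.row_le3 (hv 2) (x := v 1) (y := v 3) (z := v 4) (v.injective.ne (by decide)) (v.injective.ne (by decide)) (v.injective.ne (by decide)) (v.injective.ne (by decide)) (v.injective.ne (by decide)) (v.injective.ne (by decide))
  rw [f12, e23, e24, w2] at r2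
  have r3 := Groth.ModelsGraphs.row_le1 (hv 3) (x := v 2) (v.injective.ne (by decide))
  rw [f23, w3] at r3
  have r4 := Groth.ModelsGraphs.row_le1 (hv 4) (x := v 2) (v.injective.ne (by decide))
  rw [f24, w4] at r4
  refine ⟨T.w (v 2), fun j => by fin_cases j <;> assumption, e01, e12, e23, e24, z02, z03, z04, z13, z14, z34, ?_, ?_, ?_, ?_, ?_⟩
  all_goals apply Groth.ModelsGraphs.cancel_w hwb
  all_goals linarith

end Groth.Agent.S7347
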