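import Groth.Statements.S7348
import Groth.Agent.ModelsGraphs.ChainFin

set_option autoImplicit false
open Finset
open Models Models.NumericalType

namespace Groth.Agent.S7348

/-- Classification of proper subgraphs of type E6 (a chain i_1 … i_5 with i_6 joined to i_3): let T be a
numerical type on n > 6 indices and i_1, …, i_6 distinct (-2)-indices with a_{12}, a_{23}, a_{34},
a_{45}, a_{36} nonzero. Then for some integer w all w_{i_j} equal w, these intersection numbers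
equal w, all other a_{i_j i_k} (j ≠ k) vanish, and 2 m_1 ≥ m_2, 2 m_2 ≥ m_1 + m_3, 2 m_3 ≥ m_2 + m_4
+ m_6, 2 m_4 ≥ m_3 + m_5, 2 m_5 ≥ m_4, 2 m_6 ≥ m_3. (The published list of inequalities has 2 m_5 ≥
m_3 where the intersection matrix gives 2 m_5 ≥ m_4; the former fails for the extended E8
configuration of multiplicities 4, 5, 6, 4, 2 with 3 attached to the third vertex, so 2 m_5 ≥ m_4 is
stated.) -/
theorem result {n : ℕ} (T : Models.NumericalType n) (hn : 6 < n)
    (v : Fin 6 ↪ Fin n) (hv : ∀ j, T.IsMinusTwo (v j)) (h01 : T.a (v 0) (v 1) ≠ 0) (h12 : T.a (v 1) (v 2) ≠ 0) (h23 : T.a (v 2) (v 3) ≠ 0) (h34 : T.a (v 3) (v 4) ≠ 0) (h25 : T.a (v 2) (v 5) ≠ 0) :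
    ∃ w : ℤ, (∀ j : Fin 6, T.w (v j) = w) ∧
      T.a (v 0) (v 1) = w ∧
      T.a (v 1) (v 2) = w ∧
      T.a (v 2) (v 3) = w ∧
      T.a (v 3) (v 4) = w ∧
      T.a (v 2) (v 5) = w ∧
      T.a (v 0) (v 2) = 0 ∧
      T.a (v 0) (v 3) = 0 ∧
      T.a (v 0) (v 4) = 0 ∧
      T.a (v 0) (v 5) = 0 ∧
      T.a (v 1) (v 3) = 0 ∧
      T.a (v 1) (v 4) = 0 ∧
      T.a (v 1) (v 5) = 0 ∧
      T.a (v 2) (v 4) = 0 ∧
      T.a (v 3) (v 5) = 0 ∧
      T.a (v 4) (v 5) = 0 ∧
      T.m (v 1) ≤ 2 * T.m (v 0) ∧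
      T.m (v 0) + T.m (v 2) ≤ 2 * T.m (v 1) ∧
      T.m (v 1) + T.m (v 3) + T.m (v 5) ≤ 2 * T.m (v 2) ∧
      T.m (v 2) + T.m (v 4) ≤ 2 * T.m (v 3) ∧
      T.m (v 3) ≤ 2 * T.m (v 4) ∧
      T.m (v 2) ≤ 2 * T.m (v 5) := by
  have s01 : Groth.ModelsGraphs.Simple T (v 0) (v 1) := (Groth.ModelsGraphs.arm0 hv hn (![2, 1, 0] : Fin 3 → Fin 6) (by decide) (by intro i; fin_cases i; exacts [(Groth.ModelsGraphs.ne_comm' h12), (Groth.ModelsGraphs.ne_comm' h01)]) 3 5 (by decide) (by decide) (by decide) h23 h25).symm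
  have s12 : Groth.ModelsGraphs.Simple T (v 1) (v 2) := (Groth.ModelsGraphs.branch0 hv (by omega) 2 1 3 5 (by decide) (by decide) (by decide) (by decide) (by decide) (by decide) (Groth.ModelsGraphs.ne_comm' h12) h23 h25).symm
  have s23 : Groth.ModelsGraphs.Simple T (v 2) (v 3) := Groth.ModelsGraphs.branch0 hv (by omega) 2 3 1 5 (by decide) (by decide) (by decide) (by decide) (by decide) (by decide) h23 (Groth.ModelsGraphs.ne_comm' h12) h25
  have s34 : Groth.ModelsGraphs.Simple T (v 3) (v 4) := Groth.ModelsGraphs.arm0 hv hn (![2, 3, 4] : Fin 3 → Fin 6) (by decide) (by intro i; fin_cases i; exacts [h23, h34]) 1 5 (by decide) (by decide) (by decide) (Groth.ModelsGraphs.ne_comm' h12) h25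
  have s25 : Groth.ModelsGraphs.Simple T (v 2) (v 5) := Groth.ModelsGraphs.branch0 hv (by omega) 2 5 1 3 (by decide) (by decide) (by decide) (by decide) (by decide) (by decide) h25 (Groth.ModelsGraphs.ne_comm' h12) h23
  have z02 : T.a (v 0) (v 2) = 0 := Groth.ModelsGraphs.chord0 hv hn (by omega) (![0, 1, 2] : Fin 3 → Fin 6) (by decide) (by intro i; fin_cases i; exacts [h01, h12])
  have z03 : T.a (v 0) (v 3) = 0 := Groth.ModelsGraphs.chord0 hv hn (by omega) (![0, 1, 2, 3] : Fin 4 → Fin 6) (by decide) (by intro i; fin_cases i; exacts [h01, h12, h23])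
  have z04 : T.a (v 0) (v 4) = 0 := Groth.ModelsGraphs.chord0 hv hn (by omega) (![0, 1, 2, 3, 4] : Fin 5 → Fin 6) (by decide) (by intro i; fin_cases i; exacts [h01, h12, h23, h34])
  have z05 : T.a (v 0) (v 5) = 0 := Groth.ModelsGraphs.chord0 hv hn (by omega) (![0, 1, 2, 5] : Fin 4 → Fin 6) (by decide) (by intro i; fin_cases i; exacts [h01, h12, h25])
  have z13 : T.a (v 1) (v 3) = 0 := Groth.ModelsGraphs.chord0 hv hn (by omega) (![1, 2, 3] : Fin 3 → Fin 6) (by decide) (by intro i; fin_cases i; exacts [h12, h23])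
  have z14 : T.a (v 1) (v 4) = 0 := Groth.ModelsGraphs.chord0 hv hn (by omega) (![1, 2, 3, 4] : Fin 4 → Fin 6) (by decide) (by intro i; fin_cases i; exacts [h12, h23, h34])
  have z15 : T.a (v 1) (v 5) = 0 := Groth.ModelsGraphs.chord0 hv hn (by omega) (![1, 2, 5] : Fin 3 → Fin 6) (by decide) (by intro i; fin_cases i; exacts [h12, h25])
  have z24 : T.a (v 2) (v 4) = 0 := Groth.ModelsGraphs.chord0 hv hn (by omega) (![2, 3, 4] : Fin 3 → Fin 6) (by decide) (by intro i; fin_cases i; exacts [h23, h34])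
  have z35 : T.a (v 3) (v 5) = 0 := Groth.ModelsGraphs.chord0 hv hn (by omega) (![3, 2, 5] : Fin 3 → Fin 6) (by decide) (by intro i; fin_cases i; exacts [(Groth.ModelsGraphs.ne_comm' h23), h25])
  have z45 : T.a (v 4) (v 5) = 0 := Groth.ModelsGraphs.chord0 hv hn (by omega) (![4, 3, 2, 5] : Fin 4 → Fin 6) (by decide) (by intro i; fin_cases i; exacts [(Groth.ModelsGraphs.ne_comm' h34), (Groth.ModelsGraphs.ne_comm' h23), h25])
  have hwb := T.w_pos (v 2)
  obtain ⟨p01, q01⟩ := s01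
  obtain ⟨p12, q12⟩ := s12
  obtain ⟨p23, q23⟩ := s23
  obtain ⟨p34, q34⟩ := s34
  obtain ⟨p25, q25⟩ := s25
  have w0 : T.w (v 0) = T.w (v 2) := by omega
  have w1 : T.w (v 1) = T.w (v 2) := by omega
  have w2 : T.w (v 2) = T.w (v 2) := by omega
  have w3 : T.w (v 3) = T.w (v 2) := by omega
  have w4 : T.w (v 4) = T.w (v 2) := by omega
  have w5 : T.w (v 5) = T.w (v 2) := by omega
  have e01 : T.a (v 0) (v 1) = T.w (v 2) := by omega
  have f01 : T.a (v 1) (v 0) = T.w (v 2) := by rw [Groth.ModelsGraphs.a_comm]; omega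
  have e12 : T.a (v 1) (v 2) = T.w (v 2) := by omega
  have f12 : T.a (v 2) (v 1) = T.w (v 2) := by rw [Groth.ModelsGraphs.a_comm]; omega
  have e23 : T.a (v 2) (v 3) = T.w (v 2) := by omega
  have f23 : T.a (v 3) (v 2) = T.w (v 2) := by rw [Groth.ModelsGraphs.a_comm]; omega
  have e34 : T.a (v 3) (v 4) = T.w (v 2) := by omega
  have f34 : T.a (v 4) (v 3) = T.w (v 2) := by rw [Groth.ModelsGraphs.a_comm]; omega
  have e25 : T.a (v 2) (v 5) = T.w (v 2) := by omega
  have f25 : T.a (v 5) (v 2) = T.w (v 2) := by rw [Groth.ModelsGraphs.a_comm]; omega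
  have r0 := Groth.ModelsGraphs.row_le1 (hv 0) (x := v 1) (v.injective.ne (by decide))
  rw [e01, w0] at r0
  have r1 := Groth.ModelsGraphs.row_le2 (hv 1) (x := v 0) (y := v 2) (v.injective.ne (by decide)) (v.injective.ne (by decide)) (v.injective.ne (by decide))
  rw [f01, e12, w1] at r1
  have r2 := Groth.ModelsGraphs.row_le3 (hv 2) (x := v 1) (y := v 3) (z := v 5) (v.injective.ne (by decide)) (v.injective.ne (by decide)) (v.injective.ne (by decide)) (v.injective.ne (by decide)) (v.injective.ne (by decide)) (v.injective.ne (by decide))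
  rw [f12, e23, e25, w2] at r2
  have r3 := Groth.ModelsGraphs.row_le2 (hv 3) (x := v 2) (y := v 4) (v.injective.ne (by decide)) (v.injective.ne (by decide)) (v.injective.ne (by decide))
  rw [f23, e34, w3] at r3
  have r4 := Groth.ModelsGraphs.row_le1 (hv 4) (x := v 3) (v.injective.ne (by decide))
  rw [f34, w4] at r4
  have r5 := Groth.ModelsGraphs.row_le1 (hv 5) (x := v 2) (v.injective.ne (by decide))
  rw [f25, w5] at r5
  refine ⟨T.w (v 2), fun j => by fin_cases j <;> assumption, e01, e12, e23, e34, e25, z02, z03, z04, z05, z13, z14, z15, z24, z35, z45, ?_, ?_, ?_, ?_, ?_, ?_⟩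
  all_goals apply Groth.ModelsGraphs.cancel_w hwb
  all_goals linarith

end Groth.Agent.S7348
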