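import Groth.Statements.S7350
import Groth.Agent.ModelsGraphs.ChainFin

set_option autoImplicit false
open Finset
open Models Models.NumericalType

namespace Groth.Agent.S7350

/-- Classification of proper subgraphs of type E8 (a chain i_1 … i_7 with i_8 joined to i_5): let T be a
numerical type on n > 8 indices and i_1, …, i_8 distinct (-2)-indices with a_{12}, a_{23}, a_{34},
a_{45}, a_{56}, a_{67}, a_{58} nonzero. Then for some integer w all w_{i_j} equal w, these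
intersection numbers equal w, all other a_{i_j i_k} (j ≠ k) vanish, and 2 m_1 ≥ m_2, 2 m_2 ≥ m_1 +
m_3, 2 m_3 ≥ m_2 + m_4, 2 m_4 ≥ m_3 + m_5, 2 m_5 ≥ m_4 + m_6 + m_8, 2 m_6 ≥ m_5 + m_7, 2 m_7 ≥ m_6,
2 m_8 ≥ m_5. (The published statement lists a_{65} and a_{57} among the nonzero entries, which
contradicts its own conclusion a_{57} = 0; this row uses the edges of the E8 graph, a_{67} and
a_{58}, as the pictured graph and the matrix give them.) -/
theorem result {n : ℕ} (T : Models.NumericalType n) (hn : 8 < n)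
    (v : Fin 8 ↪ Fin n) (hv : ∀ j, T.IsMinusTwo (v j)) (h01 : T.a (v 0) (v 1) ≠ 0) (h12 : T.a (v 1) (v 2) ≠ 0) (h23 : T.a (v 2) (v 3) ≠ 0) (h34 : T.a (v 3) (v 4) ≠ 0) (h45 : T.a (v 4) (v 5) ≠ 0) (h56 : T.a (v 5) (v 6) ≠ 0) (h47 : T.a (v 4) (v 7) ≠ 0) :
    ∃ w : ℤ, (∀ j : Fin 8, T.w (v j) = w) ∧
      T.a (v 0) (v 1) = w ∧
      T.a (v 1) (v 2) = w ∧
      T.a (v 2) (v 3) = w ∧
      T.a (v 3) (v 4) = w ∧
      T.a (v 4) (v 5) = w ∧
      T.a (v 5) (v 6) = w ∧
      T.a (v 4) (v 7) = w ∧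
      T.a (v 0) (v 2) = 0 ∧
      T.a (v 0) (v 3) = 0 ∧
      T.a (v 0) (v 4) = 0 ∧
      T.a (v 0) (v 5) = 0 ∧
      T.a (v 0) (v 6) = 0 ∧
      T.a (v 0) (v 7) = 0 ∧
      T.a (v 1) (v 3) = 0 ∧
      T.a (v 1) (v 4) = 0 ∧
      T.a (v 1) (v 5) = 0 ∧
      T.a (v 1) (v 6) = 0 ∧
      T.a (v 1) (v 7) = 0 ∧
      T.a (v 2) (v 4) = 0 ∧
      T.a (v 2) (v 5) = 0 ∧
      T.a (v 2) (v 6) = 0 ∧
      T.a (v 2) (v 7) = 0 ∧
      T.a (v 3) (v 5) = 0 ∧
      T.a (v 3) (v 6) = 0 ∧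
      T.a (v 3) (v 7) = 0 ∧
      T.a (v 4) (v 6) = 0 ∧
      T.a (v 5) (v 7) = 0 ∧
      T.a (v 6) (v 7) = 0 ∧
      T.m (v 1) ≤ 2 * T.m (v 0) ∧
      T.m (v 0) + T.m (v 2) ≤ 2 * T.m (v 1) ∧
      T.m (v 1) + T.m (v 3) ≤ 2 * T.m (v 2) ∧
      T.m (v 2) + T.m (v 4) ≤ 2 * T.m (v 3) ∧
      T.m (v 3) + T.m (v 5) + T.m (v 7) ≤ 2 * T.m (v 4) ∧
      T.m (v 4) + T.m (v 6) ≤ 2 * T.m (v 5) ∧
      T.m (v 5) ≤ 2 * T.m (v 6) ∧
      T.m (v 4) ≤ 2 * T.m (v 7) := by
  have s01 : Groth.ModelsGraphs.Simple T (v 0) (v 1) := (Groth.ModelsGraphs.arm0 hv hn (![4, 3, 2, 1, 0] : Fin 5 → Fin 8) (by decide) (by intro i; fin_cases i; exacts [(Groth.ModelsGraphs.ne_comm' h34), (Groth.ModelsGraphs.ne_comm' h23), (Groth.ModelsGraphs.ne_comm' h12), (Groth.ModelsGraphs.ne_comm' h01)]) 5 7 (by decide) (by decide) (by decide) h45 h47).symm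
  have s12 : Groth.ModelsGraphs.Simple T (v 1) (v 2) := (Groth.ModelsGraphs.arm0 hv hn (![4, 3, 2, 1] : Fin 4 → Fin 8) (by decide) (by intro i; fin_cases i; exacts [(Groth.ModelsGraphs.ne_comm' h34), (Groth.ModelsGraphs.ne_comm' h23), (Groth.ModelsGraphs.ne_comm' h12)]) 5 7 (by decide) (by decide) (by decide) h45 h47).symm
  have s23 : Groth.ModelsGraphs.Simple T (v 2) (v 3) := (Groth.ModelsGraphs.arm0 hv hn (![4, 3, 2] : Fin 3 → Fin 8) (by decide) (by intro i; fin_cases i; exacts [(Groth.ModelsGraphs.ne_comm' h34), (Groth.ModelsGraphs.ne_comm' h23)]) 5 7 (by decide) (by decide) (by decide) h45 h47).symm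
  have s34 : Groth.ModelsGraphs.Simple T (v 3) (v 4) := (Groth.ModelsGraphs.branch0 hv (by omega) 4 3 5 7 (by decide) (by decide) (by decide) (by decide) (by decide) (by decide) (Groth.ModelsGraphs.ne_comm' h34) h45 h47).symm
  have s45 : Groth.ModelsGraphs.Simple T (v 4) (v 5) := Groth.ModelsGraphs.branch0 hv (by omega) 4 5 3 7 (by decide) (by decide) (by decide) (by decide) (by decide) (by decide) h45 (Groth.ModelsGraphs.ne_comm' h34) h47
  have s56 : Groth.ModelsGraphs.Simple T (v 5) (v 6) := Groth.ModelsGraphs.arm0 hv hn (![4, 5, 6] : Fin 3 → Fin 8) (by decide) (by intro i; fin_cases i; exacts [h45, h56]) 3 7 (by decide) (by decide) (by decide) (Groth.ModelsGraphs.ne_comm' h34) h47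
  have s47 : Groth.ModelsGraphs.Simple T (v 4) (v 7) := Groth.ModelsGraphs.branch0 hv (by omega) 4 7 3 5 (by decide) (by decide) (by decide) (by decide) (by decide) (by decide) h47 (Groth.ModelsGraphs.ne_comm' h34) h45
  have z02 : T.a (v 0) (v 2) = 0 := Groth.ModelsGraphs.chord0 hv hn (by omega) (![0, 1, 2] : Fin 3 → Fin 8) (by decide) (by intro i; fin_cases i; exacts [h01, h12])
  have z03 : T.a (v 0) (v 3) = 0 := Groth.ModelsGraphs.chord0 hv hn (by omega) (![0, 1, 2, 3] : Fin 4 → Fin 8) (by decide) (by intro i; fin_cases i; exacts [h01, h12, h23])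
  have z04 : T.a (v 0) (v 4) = 0 := Groth.ModelsGraphs.chord0 hv hn (by omega) (![0, 1, 2, 3, 4] : Fin 5 → Fin 8) (by decide) (by intro i; fin_cases i; exacts [h01, h12, h23, h34])
  have z05 : T.a (v 0) (v 5) = 0 := Groth.ModelsGraphs.chord0 hv hn (by omega) (![0, 1, 2, 3, 4, 5] : Fin 6 → Fin 8) (by decide) (by intro i; fin_cases i; exacts [h01, h12, h23, h34, h45])
  have z06 : T.a (v 0) (v 6) = 0 := Groth.ModelsGraphs.chord0 hv hn (by omega) (![0, 1, 2, 3, 4, 5, 6] : Fin 7 → Fin 8) (by decide) (by intro i; fin_cases i; exacts [h01, h12, h23, h34, h45, h56])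
  have z07 : T.a (v 0) (v 7) = 0 := Groth.ModelsGraphs.chord0 hv hn (by omega) (![0, 1, 2, 3, 4, 7] : Fin 6 → Fin 8) (by decide) (by intro i; fin_cases i; exacts [h01, h12, h23, h34, h47])
  have z13 : T.a (v 1) (v 3) = 0 := Groth.ModelsGraphs.chord0 hv hn (by omega) (![1, 2, 3] : Fin 3 → Fin 8) (by decide) (by intro i; fin_cases i; exacts [h12, h23])
  have z14 : T.a (v 1) (v 4) = 0 := Groth.ModelsGraphs.chord0 hv hn (by omega) (![1, 2, 3, 4] : Fin 4 → Fin 8) (by decide) (by intro i; fin_cases i; exacts [h12, h23, h34])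
  have z15 : T.a (v 1) (v 5) = 0 := Groth.ModelsGraphs.chord0 hv hn (by omega) (![1, 2, 3, 4, 5] : Fin 5 → Fin 8) (by decide) (by intro i; fin_cases i; exacts [h12, h23, h34, h45])
  have z16 : T.a (v 1) (v 6) = 0 := Groth.ModelsGraphs.chord0 hv hn (by omega) (![1, 2, 3, 4, 5, 6] : Fin 6 → Fin 8) (by decide) (by intro i; fin_cases i; exacts [h12, h23, h34, h45, h56])
  have z17 : T.a (v 1) (v 7) = 0 := Groth.ModelsGraphs.chord0 hv hn (by omega) (![1, 2, 3, 4, 7] : Fin 5 → Fin 8) (by decide) (by intro i; fin_cases i; exacts [h12, h23, h34, h47])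
  have z24 : T.a (v 2) (v 4) = 0 := Groth.ModelsGraphs.chord0 hv hn (by omega) (![2, 3, 4] : Fin 3 → Fin 8) (by decide) (by intro i; fin_cases i; exacts [h23, h34])
  have z25 : T.a (v 2) (v 5) = 0 := Groth.ModelsGraphs.chord0 hv hn (by omega) (![2, 3, 4, 5] : Fin 4 → Fin 8) (by decide) (by intro i; fin_cases i; exacts [h23, h34, h45])
  have z26 : T.a (v 2) (v 6) = 0 := Groth.ModelsGraphs.chord0 hv hn (by omega) (![2, 3, 4, 5, 6] : Fin 5 → Fin 8) (by decide) (by intro i; fin_cases i; exacts [h23, h34, h45, h56])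
  have z27 : T.a (v 2) (v 7) = 0 := Groth.ModelsGraphs.chord0 hv hn (by omega) (![2, 3, 4, 7] : Fin 4 → Fin 8) (by decide) (by intro i; fin_cases i; exacts [h23, h34, h47])
  have z35 : T.a (v 3) (v 5) = 0 := Groth.ModelsGraphs.chord0 hv hn (by omega) (![3, 4, 5] : Fin 3 → Fin 8) (by decide) (by intro i; fin_cases i; exacts [h34, h45])
  have z36 : T.a (v 3) (v 6) = 0 := Groth.ModelsGraphs.chord0 hv hn (by omega) (![3, 4, 5, 6] : Fin 4 → Fin 8) (by decide) (by intro i; fin_cases i; exacts [h34, h45, h56])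
  have z37 : T.a (v 3) (v 7) = 0 := Groth.ModelsGraphs.chord0 hv hn (by omega) (![3, 4, 7] : Fin 3 → Fin 8) (by decide) (by intro i; fin_cases i; exacts [h34, h47])
  have z46 : T.a (v 4) (v 6) = 0 := Groth.ModelsGraphs.chord0 hv hn (by omega) (![4, 5, 6] : Fin 3 → Fin 8) (by decide) (by intro i; fin_cases i; exacts [h45, h56])
  have z57 : T.a (v 5) (v 7) = 0 := Groth.ModelsGraphs.chord0 hv hn (by omega) (![5, 4, 7] : Fin 3 → Fin 8) (by decide) (by intro i; fin_cases i; exacts [(Groth.ModelsGraphs.ne_comm' h45), h47])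
  have z67 : T.a (v 6) (v 7) = 0 := Groth.ModelsGraphs.chord0 hv hn (by omega) (![6, 5, 4, 7] : Fin 4 → Fin 8) (by decide) (by intro i; fin_cases i; exacts [(Groth.ModelsGraphs.ne_comm' h56), (Groth.ModelsGraphs.ne_comm' h45), h47])
  have hwb := T.w_pos (v 4)
  obtain ⟨p01, q01⟩ := s01
  obtain ⟨p12, q12⟩ := s12
  obtain ⟨p23, q23⟩ := s23
  obtain ⟨p34, q34⟩ := s34
  obtain ⟨p45, q45⟩ := s45
  obtain ⟨p56, q56⟩ := s56
  obtain ⟨p47, q47⟩ := s47
  have w0 : T.w (v 0) = T.w (v 4) := by omega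
  have w1 : T.w (v 1) = T.w (v 4) := by omega
  have w2 : T.w (v 2) = T.w (v 4) := by omega
  have w3 : T.w (v 3) = T.w (v 4) := by omega
  have w4 : T.w (v 4) = T.w (v 4) := by omega
  have w5 : T.w (v 5) = T.w (v 4) := by omega
  have w6 : T.w (v 6) = T.w (v 4) := by omega
  have w7 : T.w (v 7) = T.w (v 4) := by omega
  have e01 : T.a (v 0) (v 1) = T.w (v 4) := by omega
  have f01 : T.a (v 1) (v 0) = T.w (v 4) := by rw [Groth.ModelsGraphs.a_comm]; omega
  have e12 : T.a (v 1) (v 2) = T.w (v 4) := by omega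
  have f12 : T.a (v 2) (v 1) = T.w (v 4) := by rw [Groth.ModelsGraphs.a_comm]; omega
  have e23 : T.a (v 2) (v 3) = T.w (v 4) := by omega
  have f23 : T.a (v 3) (v 2) = T.w (v 4) := by rw [Groth.ModelsGraphs.a_comm]; omega
  have e34 : T.a (v 3) (v 4) = T.w (v 4) := by omega
  have f34 : T.a (v 4) (v 3) = T.w (v 4) := by rw [Groth.ModelsGraphs.a_comm]; omega
  have e45 : T.a (v 4) (v 5) = T.w (v 4) := by omega
  have f45 : T.a (v 5) (v 4) = T.w (v 4) := by rw [Groth.ModelsGraphs.a_comm]; omega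
  have e56 : T.a (v 5) (v 6) = T.w (v 4) := by omega
  have f56 : T.a (v 6) (v 5) = T.w (v 4) := by rw [Groth.ModelsGraphs.a_comm]; omega
  have e47 : T.a (v 4) (v 7) = T.w (v 4) := by omega
  have f47 : T.a (v 7) (v 4) = T.w (v 4) := by rw [Groth.ModelsGraphs.a_comm]; omega
  have r0 := Groth.ModelsGraphs.row_le1 (hv 0) (x := v 1) (v.injective.ne (by decide))
  rw [e01, w0] at r0
  have r1 := Groth.ModelsGraphs.row_le2 (hv 1) (x := v 0) (y := v 2) (v.injective.ne (by decide)) (v.injective.ne (by decide)) (v.injective.ne (by decide))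
  rw [f01, e12, w1] at r1
  have r2 := Groth.ModelsGraphs.row_le2 (hv 2) (x := v 1) (y := v 3) (v.injective.ne (by decide)) (v.injective.ne (by decide)) (v.injective.ne (by decide))
  rw [f12, e23, w2] at r2
  have r3 := Groth.ModelsGraphs.row_le2 (hv 3) (x := v 2) (y := v 4) (v.injective.ne (by decide)) (v.injective.ne (by decide)) (v.injective.ne (by decide))
  rw [f23, e34, w3] at r3
  have r4 := Groth.ModelsGraphs.row_le3 (hv 4) (x := v 3) (y := v 5) (z := v 7) (v.injective.ne (by decide)) (v.injective.ne (by decide)) (v.injective.ne (by decide)) (v.injective.ne (by decide)) (v.injective.ne (by decide)) (v.injective.ne (by decide))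
  rw [f34, e45, e47, w4] at r4
  have r5 := Groth.ModelsGraphs.row_le2 (hv 5) (x := v 4) (y := v 6) (v.injective.ne (by decide)) (v.injective.ne (by decide)) (v.injective.ne (by decide))
  rw [f45, e56, w5] at r5
  have r6 := Groth.ModelsGraphs.row_le1 (hv 6) (x := v 5) (v.injective.ne (by decide))
  rw [f56, w6] at r6
  have r7 := Groth.ModelsGraphs.row_le1 (hv 7) (x := v 4) (v.injective.ne (by decide))
  rw [f47, w7] at r7
  refine ⟨T.w (v 4), fun j => by fin_cases j <;> assumption, e01, e12, e23, e34, e45, e56, e47, z02, z03, z04, z05, z06, z07, z13, z14, z15, z16, z17, z24, z25, z26, z27, z35, z36, z37, z46, z57, z67, ?_, ?_, ?_, ?_, ?_, ?_, ?_, ?_⟩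
  all_goals apply Groth.ModelsGraphs.cancel_w hwb
  all_goals linarith

end Groth.Agent.S7350
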