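import Groth.Statements.S7352
import Groth.Agent.ModelsGraphs.ChainFin

set_option autoImplicit false
open Finset
open Models Models.NumericalType

namespace Groth.Agent.S7352

/-- Classification of proper subgraphs which are chains of four vertices: let T be a numerical type on n
> 4 indices and i_1, …, i_4 distinct (-2)-indices with a_{i_j i_{j+1}} nonzero for j < 4. Then
a_{i_j i_l} = 0 for |j - l| ≥ 2 and, after possibly reversing the order of the indices, for some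
integer w one of the following holds: (A4) w = (w, w, w, w), consecutive a = (w, w, w), with 2m_1 ≥
m_2, 2m_2 ≥ m_1 + m_3, 2m_3 ≥ m_2 + m_4, 2m_4 ≥ m_3; (C4) w = (w, w, w, 2w), consecutive a = (w, w,
2w), with 2m_1 ≥ m_2, 2m_2 ≥ m_1 + m_3, 2m_3 ≥ m_2 + 2m_4, 2m_4 ≥ m_3; (B4) w = (2w, 2w, 2w, w),
consecutive a = (2w, 2w, 2w), with 2m_1 ≥ m_2, 2m_2 ≥ m_1 + m_3, 2m_3 ≥ m_2 + m_4, m_4 ≥ m_3; (F4) w
= (w, w, 2w, 2w), consecutive a = (w, 2w, 2w), with 2m_1 ≥ m_2, 2m_2 ≥ m_1 + 2m_3, 2m_3 ≥ m_2 + m_4,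
2m_4 ≥ m_3. -/
theorem result {n : ℕ} (T : Models.NumericalType n) (hn : 4 < n)
    (v : Fin 4 ↪ Fin n) (hv : ∀ j, T.IsMinusTwo (v j)) (h01 : T.a (v 0) (v 1) ≠ 0) (h12 : T.a (v 1) (v 2) ≠ 0) (h23 : T.a (v 2) (v 3) ≠ 0) :
    (T.a (v 0) (v 2) = 0 ∧ T.a (v 0) (v 3) = 0 ∧ T.a (v 1) (v 3) = 0) ∧
    ∃ (u : Fin 4 → Fin n) (w : ℤ), ((∀ j, u j = v j) ∨ (∀ j, u j = v (Fin.rev j))) ∧
      ((T.w (u 0) = w ∧ T.w (u 1) = w ∧ T.w (u 2) = w ∧ T.w (u 3) = w ∧ T.a (u 0) (u 1) = w ∧ T.a (u 1) (u 2) = w ∧ T.a (u 2) (u 3) = w ∧ T.m (u 1) ≤ 2 * T.m (u 0) ∧ T.m (u 0) + T.m (u 2) ≤ 2 * T.m (u 1) ∧ T.m (u 1) + T.m (u 3) ≤ 2 * T.m (u 2) ∧ T.m (u 2) ≤ 2 * T.m (u 3)) ∨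
      (T.w (u 0) = w ∧ T.w (u 1) = w ∧ T.w (u 2) = w ∧ T.w (u 3) = 2 * w ∧ T.a (u 0) (u 1) = w ∧ T.a (u 1) (u 2) = w ∧ T.a (u 2) (u 3) = 2 * w ∧ T.m (u 1) ≤ 2 * T.m (u 0) ∧ T.m (u 0) + T.m (u 2) ≤ 2 * T.m (u 1) ∧ T.m (u 1) + 2 * T.m (u 3) ≤ 2 * T.m (u 2) ∧ T.m (u 2) ≤ 2 * T.m (u 3)) ∨
      (T.w (u 0) = 2 * w ∧ T.w (u 1) = 2 * w ∧ T.w (u 2) = 2 * w ∧ T.w (u 3) = w ∧ T.a (u 0) (u 1) = 2 * w ∧ T.a (u 1) (u 2) = 2 * w ∧ T.a (u 2) (u 3) = 2 * w ∧ T.m (u 1) ≤ 2 * T.m (u 0) ∧ T.m (u 0) + T.m (u 2) ≤ 2 * T.m (u 1) ∧ T.m (u 1) + T.m (u 3) ≤ 2 * T.m (u 2) ∧ T.m (u 2) ≤ T.m (u 3)) ∨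
      (T.w (u 0) = w ∧ T.w (u 1) = w ∧ T.w (u 2) = 2 * w ∧ T.w (u 3) = 2 * w ∧ T.a (u 0) (u 1) = w ∧ T.a (u 1) (u 2) = 2 * w ∧ T.a (u 2) (u 3) = 2 * w ∧ T.m (u 1) ≤ 2 * T.m (u 0) ∧ T.m (u 0) + 2 * T.m (u 2) ≤ 2 * T.m (u 1) ∧ T.m (u 1) + T.m (u 3) ≤ 2 * T.m (u 2) ∧ T.m (u 2) ≤ 2 * T.m (u 3))) := by
  have hp0 := Groth.ModelsGraphs.isPath_seqOf hv (id : Fin 4 → Fin 4) Function.injective_id (by intro i; fin_cases i; exacts [h01, h12, h23])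
  generalize hP : Groth.ModelsGraphs.seqOf v (id : Fin 4 → Fin 4) = p at hp0
  have p0 : p 0 = v 0 := by rw [← hP]; rfl
  have p1 : p 1 = v 1 := by rw [← hP]; rfl
  have p2 : p 2 = v 2 := by rw [← hP]; rfl
  have p3 : p 3 = v 3 := by rw [← hP]; rfl
  refine ⟨⟨by simpa only [p0, p2] using hp0.no_chord hn (i := 0) (k := 2) (by norm_num) (by norm_num), by simpa only [p0, p3] using hp0.no_chord hn (i := 0) (k := 3) (by norm_num) (by norm_num), by simpa only [p1, p3] using hp0.no_chord hn (i := 1) (k := 3) (by norm_num) (by norm_num)⟩, ?_⟩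
  have key : ∀ (q : ℕ → Fin n) (u : Fin 4 → Fin n) (w : ℤ), q 0 = u 0 → q 1 = u 1 → q 2 = u 2 → q 3 = u 3 → Function.Injective u → (∀ j, T.IsMinusTwo (u j)) → (Groth.ModelsGraphs.ChainForm T q 4 w ∨ (T.w (q 0) = w ∧ T.w (q 1) = w ∧ T.w (q 2) = 2 * w ∧ T.w (q 3) = 2 * w ∧ T.a (q 0) (q 1) = w ∧ T.a (q 1) (q 2) = 2 * w ∧ T.a (q 2) (q 3) = 2 * w)) →
      ((T.w (u 0) = w ∧ T.w (u 1) = w ∧ T.w (u 2) = w ∧ T.w (u 3) = w ∧ T.a (u 0) (u 1) = w ∧ T.a (u 1) (u 2) = w ∧ T.a (u 2) (u 3) = w ∧ T.m (u 1) ≤ 2 * T.m (u 0) ∧ T.m (u 0) + T.m (u 2) ≤ 2 * T.m (u 1) ∧ T.m (u 1) + T.m (u 3) ≤ 2 * T.m (u 2) ∧ T.m (u 2) ≤ 2 * T.m (u 3)) ∨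
      (T.w (u 0) = w ∧ T.w (u 1) = w ∧ T.w (u 2) = w ∧ T.w (u 3) = 2 * w ∧ T.a (u 0) (u 1) = w ∧ T.a (u 1) (u 2) = w ∧ T.a (u 2) (u 3) = 2 * w ∧ T.m (u 1) ≤ 2 * T.m (u 0) ∧ T.m (u 0) + T.m (u 2) ≤ 2 * T.m (u 1) ∧ T.m (u 1) + 2 * T.m (u 3) ≤ 2 * T.m (u 2) ∧ T.m (u 2) ≤ 2 * T.m (u 3)) ∨
      (T.w (u 0) = 2 * w ∧ T.w (u 1) = 2 * w ∧ T.w (u 2) = 2 * w ∧ T.w (u 3) = w ∧ T.a (u 0) (u 1) = 2 * w ∧ T.a (u 1) (u 2) = 2 * w ∧ T.a (u 2) (u 3) = 2 * w ∧ T.m (u 1) ≤ 2 * T.m (u 0) ∧ T.m (u 0) + T.m (u 2) ≤ 2 * T.m (u 1) ∧ T.m (u 1) + T.m (u 3) ≤ 2 * T.m (u 2) ∧ T.m (u 2) ≤ T.m (u 3)) ∨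
      (T.w (u 0) = w ∧ T.w (u 1) = w ∧ T.w (u 2) = 2 * w ∧ T.w (u 3) = 2 * w ∧ T.a (u 0) (u 1) = w ∧ T.a (u 1) (u 2) = 2 * w ∧ T.a (u 2) (u 3) = 2 * w ∧ T.m (u 1) ≤ 2 * T.m (u 0) ∧ T.m (u 0) + 2 * T.m (u 2) ≤ 2 * T.m (u 1) ∧ T.m (u 1) + T.m (u 3) ≤ 2 * T.m (u 2) ∧ T.m (u 2) ≤ 2 * T.m (u 3))) := by
    intro q u w q0 q1 q2 q3 hu h2 hf
    have r0 := Groth.ModelsGraphs.row_le1 (h2 0) (x := u 1) (hu.ne (by decide))
    have r1 := Groth.ModelsGraphs.row_le2 (h2 1) (x := u 0) (y := u 2) (hu.ne (by decide)) (hu.ne (by decide)) (hu.ne (by decide))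
    have r2 := Groth.ModelsGraphs.row_le2 (h2 2) (x := u 1) (y := u 3) (hu.ne (by decide)) (hu.ne (by decide)) (hu.ne (by decide))
    have r3 := Groth.ModelsGraphs.row_le1 (h2 3) (x := u 2) (hu.ne (by decide))
    rw [Groth.ModelsGraphs.a_comm T (u 1) (u 0)] at r1
    rw [Groth.ModelsGraphs.a_comm T (u 2) (u 1)] at r2
    rw [Groth.ModelsGraphs.a_comm T (u 3) (u 2)] at r3
    have pw0 := T.w_pos (u 0)
    have pwl := T.w_pos (u 3)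
    rcases hf with (⟨a1, a2⟩ | ⟨a1, a2, a3, a4⟩ | ⟨a1, a2, a3⟩) | ⟨d0, d1, d2, d3, e0, e1, e2⟩
    · have d0 := a1 0 (by omega); have d1 := a1 1 (by omega); have d2 := a1 2 (by omega); have d3 := a1 3 (by omega); have e0 := a2 0 (by omega); have e1 := a2 1 (by omega); have e2 := a2 2 (by omega)
      simp only [q0, q1, q2, q3, Nat.zero_add, Nat.reduceAdd, Nat.reduceSub] at d0 d1 d2 d3 e0 e1 e2
      simp only [d0, d1, d2, d3, e0, e1, e2] at r0 r1 r2 r3 pw0 pwl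
      refine Or.inl ⟨d0, d1, d2, d3, e0, e1, e2, ?_, ?_, ?_, ?_⟩ <;> refine Groth.ModelsGraphs.cancel_w pw0 ?_ <;> linarith
    · have d0 := a1 0 (by omega); have d1 := a1 1 (by omega); have d2 := a1 2 (by omega); have d3 := a2; have e0 := a3 0 (by omega); have e1 := a3 1 (by omega); have e2 := a4
      simp only [q0, q1, q2, q3, Nat.zero_add, Nat.reduceAdd, Nat.reduceSub] at d0 d1 d2 d3 e0 e1 e2
      simp only [d0, d1, d2, d3, e0, e1, e2] at r0 r1 r2 r3 pw0 pwl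
      refine Or.inr (Or.inl ⟨d0, d1, d2, d3, e0, e1, e2, ?_, ?_, ?_, ?_⟩) <;> refine Groth.ModelsGraphs.cancel_w pw0 ?_ <;> linarith
    · have d0 := a1 0 (by omega); have d1 := a1 1 (by omega); have d2 := a1 2 (by omega); have d3 := a2; have e0 := a3 0 (by omega); have e1 := a3 1 (by omega); have e2 := a3 2 (by omega)
      simp only [q0, q1, q2, q3, Nat.zero_add, Nat.reduceAdd, Nat.reduceSub] at d0 d1 d2 d3 e0 e1 e2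
      simp only [d0, d1, d2, d3, e0, e1, e2] at r0 r1 r2 r3 pw0 pwl
      refine Or.inr (Or.inr (Or.inl ⟨d0, d1, d2, d3, e0, e1, e2, ?_, ?_, ?_, ?_⟩)) <;> refine Groth.ModelsGraphs.cancel_w pwl ?_ <;> linarith
    · skip
      simp only [q0, q1, q2, q3, Nat.zero_add, Nat.reduceAdd, Nat.reduceSub] at d0 d1 d2 d3 e0 e1 e2
      simp only [d0, d1, d2, d3, e0, e1, e2] at r0 r1 r2 r3 pw0 pwl
      refine Or.inr (Or.inr (Or.inr ⟨d0, d1, d2, d3, e0, e1, e2, ?_, ?_, ?_, ?_⟩)) <;> refine Groth.ModelsGraphs.cancel_w pw0 ?_ <;> linarith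
  rcases Groth.ModelsGraphs.simple_or_big T (hp0.adj 1 (by norm_num)) with h | hb
  · obtain ⟨w, hw | hw⟩ := Groth.ModelsGraphs.chain_class hp0 (by norm_num) hn (fun i h1 h2 => by
      obtain rfl : i = 1 := by omega
      exact h)
    · exact ⟨v, w, Or.inl fun j => rfl, key p v w p0 p1 p2 p3 v.injective hv (Or.inl hw)⟩
    · exact ⟨fun j => v (Fin.rev j), w, Or.inr fun j => rfl, key (fun i => p (3 - i)) _ w p3 p2 p1 p0 (v.injective.comp Fin.rev_injective) (fun j => hv _) (Or.inl hw)⟩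
  · obtain ⟨s0, s0'⟩ := (Groth.ModelsGraphs.simple_or_big T (hp0.adj 0 (by norm_num))).resolve_right
      fun h => Groth.ModelsGraphs.two_big_false hp0 hn (i := 0) (j := 1) (by norm_num) (by norm_num) h hb
    obtain ⟨s2, s2'⟩ := (Groth.ModelsGraphs.simple_or_big T (hp0.adj 2 (by norm_num))).resolve_right
      fun h => Groth.ModelsGraphs.two_big_false hp0 hn (i := 1) (j := 2) (by norm_num) (by norm_num) hb h
    simp only [Nat.zero_add, Nat.reduceAdd] at s0 s0' s2 s2' hb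
    rcases (Groth.ModelsGraphs.mid_class T (show 3 < n by omega) (i := p 2) (c := p 1) (k := p 0)
      (Groth.ModelsGraphs.ne_of_path T hp0 (by norm_num) (by norm_num) (by norm_num)) (hp0.two 2 (by norm_num)) (hp0.two 1 (by norm_num))
      (hp0.two 0 (by norm_num)) hb.1 (by rw [Groth.ModelsGraphs.a_comm]; exact hp0.adj 0 (by norm_num))).1 with ⟨q1, q2⟩ | ⟨q1, q2⟩ | ⟨q1, q2⟩
    · have h2 := hb.2
      rw [← q1, ← q2] at h2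
      nlinarith [hb.1]
    · obtain ⟨w, hw⟩ : ∃ w, T.w (p 1) = w := ⟨_, rfl⟩
      exact ⟨v, w, Or.inl fun j => rfl, key p v w p0 p1 p2 p3 v.injective hv (Or.inr ⟨by omega, hw, by omega, by omega, by omega, by omega, by omega⟩)⟩
    · obtain ⟨w, hw⟩ : ∃ w, T.w (p 2) = w := ⟨_, rfl⟩
      refine ⟨fun j => v (Fin.rev j), w, Or.inr fun j => rfl, key (fun i => p (3 - i)) _ w p3 p2 p1 p0 (v.injective.comp Fin.rev_injective) (fun j => hv _) (Or.inr ?_)⟩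
      simp only [Nat.reduceSub, Groth.ModelsGraphs.a_comm T (p 3) (p 2), Groth.ModelsGraphs.a_comm T (p 2) (p 1), Groth.ModelsGraphs.a_comm T (p 1) (p 0)]
      omega

end Groth.Agent.S7352
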