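import Groth.Statements.S7353
import Groth.Agent.ModelsGraphs.ChainFin

set_option autoImplicit false
open Finset
open Models Models.NumericalType

namespace Groth.Agent.S7353

/-- Classification of proper subgraphs which are chains of five vertices: let T be a numerical type on n
> 5 indices and i_1, …, i_5 distinct (-2)-indices with a_{i_j i_{j+1}} nonzero for j < 5. Then
a_{i_j i_l} = 0 for |j - l| ≥ 2 and, after possibly reversing the order of the indices, for some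
integer w one of the following holds: (A5) w = (w, w, w, w, w), consecutive a = (w, w, w, w), with
2m_1 ≥ m_2, 2m_2 ≥ m_1 + m_3, 2m_3 ≥ m_2 + m_4, 2m_4 ≥ m_3 + m_5, 2m_5 ≥ m_4; (C5) w = (w, w, w, w,
2w), consecutive a = (w, w, w, 2w), with 2m_1 ≥ m_2, 2m_2 ≥ m_1 + m_3, 2m_3 ≥ m_2 + m_4, 2m_4 ≥ m_3
+ 2m_5, 2m_5 ≥ m_4; (B5) w = (2w, 2w, 2w, 2w, w), consecutive a = (2w, 2w, 2w, 2w), with 2m_1 ≥ m_2,
2m_2 ≥ m_1 + m_3, 2m_3 ≥ m_2 + m_4, 2m_4 ≥ m_3 + m_5, m_5 ≥ m_4. (The inequalities are those given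
by the rows Σ_l a_{kl} m_l = 0 of the displayed matrices; the published text has 2m_3 ≥ m_2 + 2m_4
and 2m_4 ≥ m_3 + m_5 in case C5 and m_4 ≥ m_3 in case B5, of which the first does not follow — for
the numerical type with six indices, weights (1,1,1,1,2,1), chain intersection numbers (1,1,1,2)
plus a_{16} = 1, a_{66} = -1 and multiplicities (2,2,2,2,1,2) one has 2m_3 = 4 < m_2 + 2m_4 = 6 — so
the matrix inequalities are stated.) -/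
theorem result {n : ℕ} (T : Models.NumericalType n) (hn : 5 < n)
    (v : Fin 5 ↪ Fin n) (hv : ∀ j, T.IsMinusTwo (v j)) (h01 : T.a (v 0) (v 1) ≠ 0) (h12 : T.a (v 1) (v 2) ≠ 0) (h23 : T.a (v 2) (v 3) ≠ 0) (h34 : T.a (v 3) (v 4) ≠ 0) :
    (T.a (v 0) (v 2) = 0 ∧ T.a (v 0) (v 3) = 0 ∧ T.a (v 0) (v 4) = 0 ∧ T.a (v 1) (v 3) = 0 ∧ T.a (v 1) (v 4) = 0 ∧ T.a (v 2) (v 4) = 0) ∧
    ∃ (u : Fin 5 → Fin n) (w : ℤ), ((∀ j, u j = v j) ∨ (∀ j, u j = v (Fin.rev j))) ∧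
      ((T.w (u 0) = w ∧ T.w (u 1) = w ∧ T.w (u 2) = w ∧ T.w (u 3) = w ∧ T.w (u 4) = w ∧ T.a (u 0) (u 1) = w ∧ T.a (u 1) (u 2) = w ∧ T.a (u 2) (u 3) = w ∧ T.a (u 3) (u 4) = w ∧ T.m (u 1) ≤ 2 * T.m (u 0) ∧ T.m (u 0) + T.m (u 2) ≤ 2 * T.m (u 1) ∧ T.m (u 1) + T.m (u 3) ≤ 2 * T.m (u 2) ∧ T.m (u 2) + T.m (u 4) ≤ 2 * T.m (u 3) ∧ T.m (u 3) ≤ 2 * T.m (u 4)) ∨
      (T.w (u 0) = w ∧ T.w (u 1) = w ∧ T.w (u 2) = w ∧ T.w (u 3) = w ∧ T.w (u 4) = 2 * w ∧ T.a (u 0) (u 1) = w ∧ T.a (u 1) (u 2) = w ∧ T.a (u 2) (u 3) = w ∧ T.a (u 3) (u 4) = 2 * w ∧ T.m (u 1) ≤ 2 * T.m (u 0) ∧ T.m (u 0) + T.m (u 2) ≤ 2 * T.m (u 1) ∧ T.m (u 1) + T.m (u 3) ≤ 2 * T.m (u 2) ∧ T.m (u 2) + 2 * T.m (u 4) ≤ 2 * T.m (u 3) ∧ T.m (u 3) ≤ 2 * T.m (u 4)) ∨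
      (T.w (u 0) = 2 * w ∧ T.w (u 1) = 2 * w ∧ T.w (u 2) = 2 * w ∧ T.w (u 3) = 2 * w ∧ T.w (u 4) = w ∧ T.a (u 0) (u 1) = 2 * w ∧ T.a (u 1) (u 2) = 2 * w ∧ T.a (u 2) (u 3) = 2 * w ∧ T.a (u 3) (u 4) = 2 * w ∧ T.m (u 1) ≤ 2 * T.m (u 0) ∧ T.m (u 0) + T.m (u 2) ≤ 2 * T.m (u 1) ∧ T.m (u 1) + T.m (u 3) ≤ 2 * T.m (u 2) ∧ T.m (u 2) + T.m (u 4) ≤ 2 * T.m (u 3) ∧ T.m (u 3) ≤ T.m (u 4))) := by
  have hp0 := Groth.ModelsGraphs.isPath_seqOf hv (id : Fin 5 → Fin 5) Function.injective_id (by intro i; fin_cases i; exacts [h01, h12, h23, h34])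
  generalize hP : Groth.ModelsGraphs.seqOf v (id : Fin 5 → Fin 5) = p at hp0
  have p0 : p 0 = v 0 := by rw [← hP]; rfl
  have p1 : p 1 = v 1 := by rw [← hP]; rfl
  have p2 : p 2 = v 2 := by rw [← hP]; rfl
  have p3 : p 3 = v 3 := by rw [← hP]; rfl
  have p4 : p 4 = v 4 := by rw [← hP]; rfl
  refine ⟨⟨by simpa only [p0, p2] using hp0.no_chord hn (i := 0) (k := 2) (by norm_num) (by norm_num), by simpa only [p0, p3] using hp0.no_chord hn (i := 0) (k := 3) (by norm_num) (by norm_num), by simpa only [p0, p4] using hp0.no_chord hn (i := 0) (k := 4) (by norm_num) (by norm_num), by simpa only [p1, p3] using hp0.no_chord hn (i := 1) (k := 3) (by norm_num) (by norm_num), by simpa only [p1, p4] using hp0.no_chord hn (i := 1) (k := 4) (by norm_num) (by norm_num), by simpa only [p2, p4] using hp0.no_chord hn (i := 2) (k := 4) (by norm_num) (by norm_num)⟩,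 ?_⟩
  have key : ∀ (q : ℕ → Fin n) (u : Fin 5 → Fin n) (w : ℤ), q 0 = u 0 → q 1 = u 1 → q 2 = u 2 → q 3 = u 3 → q 4 = u 4 → Function.Injective u → (∀ j, T.IsMinusTwo (u j)) → (Groth.ModelsGraphs.ChainForm T q 5 w) →
      ((T.w (u 0) = w ∧ T.w (u 1) = w ∧ T.w (u 2) = w ∧ T.w (u 3) = w ∧ T.w (u 4) = w ∧ T.a (u 0) (u 1) = w ∧ T.a (u 1) (u 2) = w ∧ T.a (u 2) (u 3) = w ∧ T.a (u 3) (u 4) = w ∧ T.m (u 1) ≤ 2 * T.m (u 0) ∧ T.m (u 0) + T.m (u 2) ≤ 2 * T.m (u 1) ∧ T.m (u 1) + T.m (u 3) ≤ 2 * T.m (u 2) ∧ T.m (u 2) + T.m (u 4) ≤ 2 * T.m (u 3) ∧ T.m (u 3) ≤ 2 * T.m (u 4)) ∨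
      (T.w (u 0) = w ∧ T.w (u 1) = w ∧ T.w (u 2) = w ∧ T.w (u 3) = w ∧ T.w (u 4) = 2 * w ∧ T.a (u 0) (u 1) = w ∧ T.a (u 1) (u 2) = w ∧ T.a (u 2) (u 3) = w ∧ T.a (u 3) (u 4) = 2 * w ∧ T.m (u 1) ≤ 2 * T.m (u 0) ∧ T.m (u 0) + T.m (u 2) ≤ 2 * T.m (u 1) ∧ T.m (u 1) + T.m (u 3) ≤ 2 * T.m (u 2) ∧ T.m (u 2) + 2 * T.m (u 4) ≤ 2 * T.m (u 3) ∧ T.m (u 3) ≤ 2 * T.m (u 4)) ∨
      (T.w (u 0) = 2 * w ∧ T.w (u 1) = 2 * w ∧ T.w (u 2) = 2 * w ∧ T.w (u 3) = 2 * w ∧ T.w (u 4) = w ∧ T.a (u 0) (u 1) = 2 * w ∧ T.a (u 1) (u 2) = 2 * w ∧ T.a (u 2) (u 3) = 2 * w ∧ T.a (u 3) (u 4) = 2 * w ∧ T.m (u 1) ≤ 2 * T.m (u 0) ∧ T.m (u 0) + T.m (u 2) ≤ 2 * T.m (u 1) ∧ T.m (u 1) + T.m (u 3) ≤ 2 * T.m (u 2) ∧ T.m (u 2) + T.m (u 4) ≤ 2 * T.m (u 3) ∧ T.m (u 3) ≤ T.m (u 4))) := by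
    intro q u w q0 q1 q2 q3 q4 hu h2 hf
    have r0 := Groth.ModelsGraphs.row_le1 (h2 0) (x := u 1) (hu.ne (by decide))
    have r1 := Groth.ModelsGraphs.row_le2 (h2 1) (x := u 0) (y := u 2) (hu.ne (by decide)) (hu.ne (by decide)) (hu.ne (by decide))
    have r2 := Groth.ModelsGraphs.row_le2 (h2 2) (x := u 1) (y := u 3) (hu.ne (by decide)) (hu.ne (by decide)) (hu.ne (by decide))
    have r3 := Groth.ModelsGraphs.row_le2 (h2 3) (x := u 2) (y := u 4) (hu.ne (by decide)) (hu.ne (by decide)) (hu.ne (by decide))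
    have r4 := Groth.ModelsGraphs.row_le1 (h2 4) (x := u 3) (hu.ne (by decide))
    rw [Groth.ModelsGraphs.a_comm T (u 1) (u 0)] at r1
    rw [Groth.ModelsGraphs.a_comm T (u 2) (u 1)] at r2
    rw [Groth.ModelsGraphs.a_comm T (u 3) (u 2)] at r3
    rw [Groth.ModelsGraphs.a_comm T (u 4) (u 3)] at r4
    have pw0 := T.w_pos (u 0)
    have pwl := T.w_pos (u 4)
    rcases hf with ⟨a1, a2⟩ | ⟨a1, a2, a3, a4⟩ | ⟨a1, a2, a3⟩
    · have d0 := a1 0 (by omega); have d1 := a1 1 (by omega); have d2 := a1 2 (by omega); have d3 := a1 3 (by omega); have d4 := a1 4 (by omega); have e0 := a2 0 (by omega); have e1 := a2 1 (by omega); have e2 := a2 2 (by omega); have e3 := a2 3 (by omega)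
      simp only [q0, q1, q2, q3, q4, Nat.zero_add, Nat.reduceAdd, Nat.reduceSub] at d0 d1 d2 d3 d4 e0 e1 e2 e3
      simp only [d0, d1, d2, d3, d4, e0, e1, e2, e3] at r0 r1 r2 r3 r4 pw0 pwl
      refine Or.inl ⟨d0, d1, d2, d3, d4, e0, e1, e2, e3, ?_, ?_, ?_, ?_, ?_⟩ <;> refine Groth.ModelsGraphs.cancel_w pw0 ?_ <;> linarith
    · have d0 := a1 0 (by omega); have d1 := a1 1 (by omega); have d2 := a1 2 (by omega); have d3 := a1 3 (by omega); have d4 := a2; have e0 := a3 0 (by omega); have e1 := a3 1 (by omega); have e2 := a3 2 (by omega); have e3 := a4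
      simp only [q0, q1, q2, q3, q4, Nat.zero_add, Nat.reduceAdd, Nat.reduceSub] at d0 d1 d2 d3 d4 e0 e1 e2 e3
      simp only [d0, d1, d2, d3, d4, e0, e1, e2, e3] at r0 r1 r2 r3 r4 pw0 pwl
      refine Or.inr (Or.inl ⟨d0, d1, d2, d3, d4, e0, e1, e2, e3, ?_, ?_, ?_, ?_, ?_⟩) <;> refine Groth.ModelsGraphs.cancel_w pw0 ?_ <;> linarith
    · have d0 := a1 0 (by omega); have d1 := a1 1 (by omega); have d2 := a1 2 (by omega); have d3 := a1 3 (by omega); have d4 := a2; have e0 := a3 0 (by omega); have e1 := a3 1 (by omega); have e2 := a3 2 (by omega); have e3 := a3 3 (by omega)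
      simp only [q0, q1, q2, q3, q4, Nat.zero_add, Nat.reduceAdd, Nat.reduceSub] at d0 d1 d2 d3 d4 e0 e1 e2 e3
      simp only [d0, d1, d2, d3, d4, e0, e1, e2, e3] at r0 r1 r2 r3 r4 pw0 pwl
      refine Or.inr (Or.inr ⟨d0, d1, d2, d3, d4, e0, e1, e2, e3, ?_, ?_, ?_, ?_, ?_⟩) <;> refine Groth.ModelsGraphs.cancel_w pwl ?_ <;> linarith
  obtain ⟨w, hw | hw⟩ := Groth.ModelsGraphs.chain_class hp0 (by norm_num) hn
    (fun i h1 h2 => Groth.ModelsGraphs.interior_simple hp0 hn (by norm_num) h1 h2)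
  · exact ⟨v, w, Or.inl fun j => rfl, key p v w p0 p1 p2 p3 p4 v.injective hv hw⟩
  · exact ⟨fun j => v (Fin.rev j), w, Or.inr fun j => rfl, key (fun i => p (4 - i)) _ w p4 p3 p2 p1 p0 (v.injective.comp Fin.rev_injective) (fun j => hv _) hw⟩

end Groth.Agent.S7353
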