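import Groth.Statements.S7354
import Groth.Agent.ModelsGraphs.ChainFin

set_option autoImplicit false
open Finset
open Models Models.NumericalType

namespace Groth.Agent.S7354

/-- Let T be a numerical type on n indices, t > 5 with n > t, and i_1, …, i_t distinct (-2)-indices with
a_{i_j i_{j+1}} nonzero for j = 1, …, t - 1. Then, after possibly reversing the order of the
indices, for some integer w either (A) w_{i_1} = … = w_{i_t} = w and a_{i_j i_{j+1}} = w for all j;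
or (C) w_{i_1} = … = w_{i_{t-1}} = w, w_{i_t} = 2w, a_{i_j i_{j+1}} = w for j < t - 1 and a_{i_{t-1}
i_t} = 2w; or (B) w_{i_1} = … = w_{i_{t-1}} = 2w, w_{i_t} = w and a_{i_j i_{j+1}} = 2w for all j;
and in every case a_{i_j i_k} = 0 whenever k > j + 1. -/
theorem result {n : ℕ} (T : Models.NumericalType n) (t : ℕ) (ht : 5 < t) (hn : t < n)
    (v : Fin t ↪ Fin n) (hv : ∀ j, T.IsMinusTwo (v j))
    (hchain : ∀ j j' : Fin t, j'.val = j.val + 1 → T.a (v j) (v j') ≠ 0) :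
    ∃ (u : Fin t → Fin n) (w : ℤ), ((∀ j, u j = v j) ∨ (∀ j, u j = v (Fin.rev j))) ∧
      (∀ j k : Fin t, j.val + 1 < k.val → T.a (u j) (u k) = 0) ∧
      ((∀ j : Fin t, T.w (u j) = w) ∧ (∀ j j' : Fin t, j'.val = j.val + 1 → T.a (u j) (u j') = w) ∨
        ((∀ j : Fin t, j.val + 1 < t → T.w (u j) = w) ∧ (∀ j : Fin t, j.val + 1 = t → T.w (u j) = 2 * w) ∧
          (∀ j j' : Fin t, j'.val = j.val + 1 → j'.val + 1 < t → T.a (u j) (u j') = w) ∧
          (∀ j j' : Fin t, j'.val = j.val + 1 → j'.val + 1 = t → T.a (u j) (u j') = 2 * w)) ∨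
        ((∀ j : Fin t, j.val + 1 < t → T.w (u j) = 2 * w) ∧ (∀ j : Fin t, j.val + 1 = t → T.w (u j) = w) ∧
          (∀ j j' : Fin t, j'.val = j.val + 1 → T.a (u j) (u j') = 2 * w))) := by
  have h0 : 0 < t := by omega
  have hp := Groth.ModelsGraphs.IsPath.of_emb h0 hv hchain
  set p : ℕ → Fin n := fun i => if h : i < t then v ⟨i, h⟩ else v ⟨0, h0⟩ with hpdef
  have hpe : ∀ j : Fin t, p j.val = v j := fun j => dif_pos j.2
  obtain ⟨w, hw⟩ := Groth.ModelsGraphs.chain_class hp (by omega) hn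
    (fun i h1 h2 => Groth.ModelsGraphs.interior_simple hp hn (by omega) h1 h2)
  have main : ∀ (q : ℕ → Fin n), Groth.ModelsGraphs.IsPath T q t → Groth.ModelsGraphs.ChainForm T q t w →
      ∀ u : Fin t → Fin n, (∀ j : Fin t, u j = q j.val) →
      (∀ j k : Fin t, j.val + 1 < k.val → T.a (u j) (u k) = 0) ∧
      ((∀ j : Fin t, T.w (u j) = w) ∧ (∀ j j' : Fin t, j'.val = j.val + 1 → T.a (u j) (u j') = w) ∨
        ((∀ j : Fin t, j.val + 1 < t → T.w (u j) = w) ∧ (∀ j : Fin t, j.val + 1 = t → T.w (u j) = 2 * w) ∧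
          (∀ j j' : Fin t, j'.val = j.val + 1 → j'.val + 1 < t → T.a (u j) (u j') = w) ∧
          (∀ j j' : Fin t, j'.val = j.val + 1 → j'.val + 1 = t → T.a (u j) (u j') = 2 * w)) ∨
        ((∀ j : Fin t, j.val + 1 < t → T.w (u j) = 2 * w) ∧ (∀ j : Fin t, j.val + 1 = t → T.w (u j) = w) ∧
          (∀ j j' : Fin t, j'.val = j.val + 1 → T.a (u j) (u j') = 2 * w))) := by
    intro q hq hf u hu
    refine ⟨fun j k hjk => by rw [hu, hu]; exact hq.no_chord hn hjk k.2, ?_⟩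
    simp only [hu]
    rcases hf with ⟨a1, a2⟩ | ⟨a1, a2, a3, a4⟩ | ⟨a1, a2, a3⟩
    · exact Or.inl ⟨fun j => a1 _ j.2, fun j j' h => h ▸ a2 _ (h ▸ j'.2)⟩
    · exact Or.inr (Or.inl ⟨fun j h => a1 _ h, fun j h => (show j.val = t - 1 by omega) ▸ a2,
        fun j j' h h' => h ▸ a3 _ (by omega),
        fun j j' h h' => by rwa [show j.val = t - 2 by omega, show j'.val = t - 1 by omega]⟩)
    · exact Or.inr (Or.inr ⟨fun j h => a1 _ h, fun j h => (show j.val = t - 1 by omega) ▸ a2,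
        fun j j' h => h ▸ a3 _ (h ▸ j'.2)⟩)
  rcases hw with hw | hw
  · obtain ⟨m1, m2⟩ := main p hp hw v (fun j => (hpe j).symm)
    exact ⟨v, w, Or.inl fun j => rfl, m1, m2⟩
  · obtain ⟨m1, m2⟩ := main _ hp.rev hw (fun j => v (Fin.rev j)) (fun j => by
      rw [← hpe]
      exact congrArg p (by simp [Fin.val_rev]; omega))
    exact ⟨_, w, Or.inr fun j => rfl, m1, m2⟩

end Groth.Agent.S7354
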