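import Groth.Statements.S7355
import Groth.Agent.ModelsGraphs.ChainFin

set_option autoImplicit false
open Finset
open Models Models.NumericalType

namespace Groth.Agent.S7355

/-- Classification of proper subgraphs of type D: let T be a numerical type on n indices, t > 4 with n >
t + 1, and i_1, …, i_{t+1} distinct (-2)-indices such that a_{i_j i_{j+1}} is nonzero for j = 1, …,
t - 1 and a_{i_{t-1} i_{t+1}} is nonzero. Then for some integer w one has w_{i_1} = … = w_{i_{t+1}}
= w, a_{i_j i_{j+1}} = w for j < t, a_{i_{t-1} i_{t+1}} = w, and a_{i_j i_k} = 0 for all other pairs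
j ≠ k. -/
theorem result {n : ℕ} (T : Models.NumericalType n) (t : ℕ) (ht : 4 < t) (hn : t + 1 < n)
    (v : Fin (t + 1) ↪ Fin n) (hv : ∀ j, T.IsMinusTwo (v j))
    (hchain : ∀ j j' : Fin (t + 1), j'.val = j.val + 1 → j'.val < t → T.a (v j) (v j') ≠ 0)
    (hbranch : ∀ j j' : Fin (t + 1), j.val + 2 = t → j'.val = t → T.a (v j) (v j') ≠ 0) :
    ∃ w : ℤ, (∀ j : Fin (t + 1), T.w (v j) = w) ∧
      (∀ j j' : Fin (t + 1), j'.val = j.val + 1 → j'.val < t → T.a (v j) (v j') = w) ∧
      (∀ j j' : Fin (t + 1), j.val + 2 = t → j'.val = t → T.a (v j) (v j') = w) ∧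
      (∀ j k : Fin (t + 1), j.val < k.val → ¬ (k.val = j.val + 1 ∧ k.val < t) → ¬ (j.val + 2 = t ∧ k.val = t) →
        T.a (v j) (v k) = 0) := by
  have h0 : 0 < t + 1 := by omega
  let V : ℕ → Fin n := fun i => if h : i < t + 1 then v ⟨i, h⟩ else v ⟨0, h0⟩
  have hV : ∀ j : Fin (t + 1), V j.val = v j := fun j => dif_pos j.2
  have hVne : ∀ i j, i < t + 1 → j < t + 1 → i ≠ j → V i ≠ V j := fun i j hi hj hij e => by
    have := v.injective ((hV ⟨i, hi⟩).symm.trans (e.trans (hV ⟨j, hj⟩)))
    exact hij (congrArg Fin.val this)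
  have hV2 : ∀ i, i < t + 1 → T.IsMinusTwo (V i) := fun i hi => by
    show T.IsMinusTwo (if h : i < t + 1 then v ⟨i, h⟩ else v ⟨0, h0⟩)
    rw [dif_pos hi]; exact hv _
  have hadj : ∀ i, i + 1 < t → 0 < T.a (V i) (V (i + 1)) := fun i hi => by
    refine Groth.ModelsGraphs.pos_of_ne (hVne _ _ (by omega) (by omega) (by omega)) ?_
    have := hchain ⟨i, by omega⟩ ⟨i + 1, by omega⟩ rfl hi
    rwa [← hV, ← hV] at this
  have hb : 0 < T.a (V (t - 2)) (V t) := by
    refine Groth.ModelsGraphs.pos_of_ne (hVne _ _ (by omega) (by omega) (by omega)) ?_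
    have := hbranch ⟨t - 2, by omega⟩ ⟨t, by omega⟩ (by simp; omega) rfl
    rwa [← hV, ← hV] at this
  have hP1 : Groth.ModelsGraphs.IsPath T V t :=
    ⟨fun a ha b hb e => by_contra fun hne =>
      hVne a b (by rw [Set.mem_Iio] at ha; omega) (by rw [Set.mem_Iio] at hb; omega) hne e,
      fun a ha => hV2 a (by omega), hadj⟩
  let W : ℕ → Fin n := fun i => if i + 1 < t then V i else V t
  have hP2 : Groth.ModelsGraphs.IsPath T W t := by
    refine ⟨fun a ha b hb e => ?_, fun a ha => ?_, fun a ha => ?_⟩
    · rw [Set.mem_Iio] at ha hb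
      simp only [W] at e
      by_contra hne
      split_ifs at e with q1 q2 q2
      · exact hVne a b (by omega) (by omega) hne e
      · exact hVne a t (by omega) (by omega) (by omega) e
      · exact hVne t b (by omega) (by omega) (by omega) e
      · omega
    · simp only [W]; split_ifs <;> exact hV2 _ (by omega)
    · simp only [W, if_pos (show a + 1 < t by omega)]
      split_ifs with q
      · exact hadj a (by omega)
      · rwa [show a = t - 2 by omega]
  have hc : 0 < T.a (V (t - 2)) (V (t - 1)) := by
    simpa [show t - 2 + 1 = t - 1 by omega] using hadj (t - 2) (by omega)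
  have hd : 0 < T.a (V (t - 2)) (V (t - 3)) := by
    rw [Groth.ModelsGraphs.a_comm]
    simpa [show t - 3 + 1 = t - 2 by omega] using hadj (t - 3) (by omega)
  have hbs : Groth.ModelsGraphs.Simple T (V (t - 2)) (V (t - 1)) ∧ Groth.ModelsGraphs.Simple T (V (t - 2)) (V t) := by
    constructor
    · exact Groth.ModelsGraphs.branch_simple T (by omega) (hVne _ _ (by omega) (by omega) (by omega))
        (hVne _ _ (by omega) (by omega) (by omega)) (hVne t (t - 3) (by omega) (by omega) (by omega))
        (hV2 _ (by omega)) (hV2 _ (by omega)) (hV2 _ (by omega)) (hV2 _ (by omega)) hc hb hd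
    · exact Groth.ModelsGraphs.branch_simple T (by omega) (hVne _ _ (by omega) (by omega) (by omega))
        (hVne _ _ (by omega) (by omega) (by omega)) (hVne (t - 1) (t - 3) (by omega) (by omega) (by omega))
        (hV2 _ (by omega)) (hV2 _ (by omega)) (hV2 _ (by omega)) (hV2 _ (by omega)) hb hc hd
  have hs : ∀ j, j + 2 < t → Groth.ModelsGraphs.Simple T (V j) (V (j + 1)) := fun j hj => by
    have hk : t - 3 - j + 2 = t - 1 - j := by omega
    have hq : Groth.ModelsGraphs.IsPath T (fun i => V (t - 1 - (1 + i))) (t - 3 - j + 2) :=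
      hP1.rev.mono (i := 1) (k := t - 3 - j + 2) (by omega)
    have := Groth.ModelsGraphs.arm_simple hq (x := V (t - 1)) (y := V t) (hVne _ _ (by omega) (by omega) (by omega))
      (fun i hi => hVne _ _ (by omega) (by omega) (by omega))
      (fun i hi => hVne _ _ (by omega) (by omega) (by omega))
      (hV2 _ (by omega)) (hV2 _ (by omega)) (by simpa [show t - 1 - 1 = t - 2 by omega] using hc)
      (by simpa [show t - 1 - 1 = t - 2 by omega] using hb) (by omega)
    have e1 : t - 1 - (1 + (t - 3 - j)) = j + 1 := by omega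
    have e2 : t - 1 - (1 + (t - 3 - j + 1)) = j := by omega
    simp only [e1, e2] at this
    exact this.symm
  have hw := Groth.ModelsGraphs.w_const hs
  have hwall : ∀ i, i < t + 1 → T.w (V i) = T.w (V 0) := fun i hi => by
    have e := hw (t - 2) (by omega)
    rcases (show i + 1 < t ∨ i = t - 1 ∨ i = t by omega) with h | rfl | rfl
    · exact hw i h
    · rw [← hbs.1.2, hbs.1.1, e]
    · rw [← hbs.2.2, hbs.2.1, e]
  refine ⟨T.w (V 0), fun j => ?_, fun j j' h h' => ?_, fun j j' h h' => ?_, fun j k hjk h1 h2 => ?_⟩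
  · rw [← hV]; exact hwall _ j.2
  · rw [← hV, ← hV, h]
    rcases (show j.val + 2 < t ∨ j.val = t - 2 by omega) with hh | hh
    · rw [(hs _ hh).1, hwall _ j.2]
    · rw [hh, show t - 2 + 1 = t - 1 by omega, hbs.1.1, hwall _ (by omega)]
  · rw [← hV, ← hV, show j.val = t - 2 by omega, h', hbs.2.1, hwall _ (by omega)]
  · rw [← hV j, ← hV k]
    have := k.2
    rcases (show k.val < t ∨ (k.val = t ∧ j.val + 2 < t) ∨ (k.val = t ∧ j.val = t - 1) by omega) with
      hh | ⟨e, hh⟩ | ⟨e, hh⟩
    · exact hP1.no_chord (by omega) (by omega) hh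
    · have := hP2.no_chord (i := j.val) (k := t - 1) (by omega) (by omega) (by omega)
      simp only [W, if_pos (show j.val + 1 < t by omega), if_neg (show ¬ t - 1 + 1 < t by omega)] at this
      rwa [e]
    · let U : ℕ → Fin n := fun i => if i = 0 then V (t - 1) else if i = 1 then V (t - 2) else V t
      have hU : Groth.ModelsGraphs.IsPath T U 3 := by
        refine ⟨fun a ha b hb e => ?_, fun a ha => ?_, fun a ha => ?_⟩
        · rw [Set.mem_Iio] at ha hb
          have n1 := hVne (t - 1) (t - 2) (by omega) (by omega) (by omega)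
          have n2 := hVne (t - 1) t (by omega) (by omega) (by omega)
          have n3 := hVne (t - 2) t (by omega) (by omega) (by omega)
          interval_cases a <;> interval_cases b <;> simp [U] at e <;>
            first | rfl | exact absurd e n1 | exact absurd e n2 | exact absurd e n3 |
              exact absurd e.symm n1 | exact absurd e.symm n2 | exact absurd e.symm n3
        · interval_cases a <;> exact hV2 _ (by omega)
        · have h2' : a < 2 := by omega
          interval_cases a
          · simpa [U, Groth.ModelsGraphs.a_comm T (V (t - 1)) (V (t - 2))] using hc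
          · simpa [U] using hb
      have := hU.no_chord (i := 0) (k := 2) (by omega) (by norm_num) (by norm_num)
      rw [hh, e]
      simpa [U] using this

end Groth.Agent.S7355
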