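import Groth.Statements.S7357
import Groth.Agent.LocFree.ExtBaseChange
-- import your own Groth.Agent.* helpers here

set_option autoImplicit false
universe u
open Polynomial
open Resolve
open TensorProduct

namespace Groth.Agent.S7357

section Helpers

open TensorProduct

variable {p : ℕ} {Λ R : Type u} [CommRing Λ] [CommRing R] [Algebra Λ R] (a : R)

/-- An alternating map killed by `K` in any argument descends to the quotient by `K`. -/
noncomputable def quotAlt {A : Type*} [CommRing A] {M N : Type*} [AddCommGroup M] [AddCommGroup N]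
    [Module A M] [Module A N] {n : ℕ} (f : M [⋀^Fin n]→ₗ[A] N) (K : Submodule A M)
    (hf : ∀ v i, v i ∈ K → f v = 0) : (M ⧸ K) [⋀^Fin n]→ₗ[A] N :=
  have key : ∀ v w : Fin n → M, (∀ i, v i - w i ∈ K) → f v = f w := by
    intro v w h
    have hv : v = w + (v - w) := by abel
    conv_lhs => rw [hv]
    rw [← AlternatingMap.coe_multilinearMap, MultilinearMap.map_add_univ,
      Finset.sum_eq_single Finset.univ]
    · simp
    · intro s _ hs
      obtain ⟨i, hi⟩ : ∃ i, i ∉ s := by
        by_contra! hcon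
        exact hs (Finset.eq_univ_iff_forall.2 hcon)
      exact hf _ i (by rw [Finset.piecewise_eq_of_notMem _ _ _ hi]; exact h i)
    · simp
  have out : ∀ x : M ⧸ K, Submodule.Quotient.mk (Quotient.out x) = x := Quotient.out_eq
  { toFun := fun v => f fun i => (v i).out
    map_update_add' := by
      intro inst v i x y
      have h : ∀ z, f (fun j => (Function.update v i z j).out) =
          f (Function.update (fun j => (v j).out) i z.out) := fun z => by
        congr 1; funext j; exact Function.apply_update (fun _ (q : M ⧸ K) => q.out) v i z j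
      rw [h, h, h, ← AlternatingMap.map_update_add]
      refine key _ _ fun j => ?_
      rcases eq_or_ne j i with rfl | hj
      · simp only [Function.update_self]
        rw [← Submodule.Quotient.eq, Submodule.Quotient.mk_add, out, out, out]
      · simp [Function.update_of_ne hj]
    map_update_smul' := by
      intro inst v i c x
      have h : ∀ z, f (fun j => (Function.update v i z j).out) =
          f (Function.update (fun j => (v j).out) i z.out) := fun z => by
        congr 1; funext j; exact Function.apply_update (fun _ (q : M ⧸ K) => q.out) v i z j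
      rw [h, h, ← AlternatingMap.map_update_smul]
      refine key _ _ fun j => ?_
      rcases eq_or_ne j i with rfl | hj
      · simp only [Function.update_self]
        rw [← Submodule.Quotient.eq, Submodule.Quotient.mk_smul, out, out]
      · simp [Function.update_of_ne hj]
    map_eq_zero_of_eq' := fun v i j h hij => f.map_eq_zero_of_eq _ (by simp [h]) hij }

theorem quotAlt_mk {A : Type*} [CommRing A] {M N : Type*} [AddCommGroup M] [AddCommGroup N]
    [Module A M] [Module A N] {n : ℕ} (f : M [⋀^Fin n]→ₗ[A] N) (K : Submodule A M)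
    (hf : ∀ v i, v i ∈ K → f v = 0) (v : Fin n → M) :
    quotAlt f K hf (fun i => Submodule.Quotient.mk (v i)) = f v := by
  change f (fun i => (Submodule.Quotient.mk (v i) : M ⧸ K).out) = f v
  have hv : ∀ i, (Submodule.Quotient.mk (v i) : M ⧸ K).out - v i ∈ K := fun i =>
    (Submodule.Quotient.eq K).1 (Quotient.out_eq _)
  have h2 : (fun i => (Submodule.Quotient.mk (v i) : M ⧸ K).out) =
      v + fun i => (Submodule.Quotient.mk (v i) : M ⧸ K).out - v i := by funext i; simp
  rw [h2, ← AlternatingMap.coe_multilinearMap, MultilinearMap.map_add_univ,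
    Finset.sum_eq_single Finset.univ]
  · simp
  · intro s _ hs
    obtain ⟨i, hi⟩ : ∃ i, i ∉ s := by
      by_contra! hcon
      exact hs (Finset.eq_univ_iff_forall.2 hcon)
    exact hf _ i (by rw [Finset.piecewise_eq_of_notMem _ _ _ hi]; exact hv i)
  · simp

/-- `g (w + c • d) - g w`, on pairs `(w, c)`. -/
noncomputable def shiftAlt {A : Type*} [CommRing A] {M N : Type*} [AddCommGroup M] [AddCommGroup N]
    [Module A M] [Module A N] {n : ℕ} (g : M [⋀^Fin n]→ₗ[A] N) (d : M) :
    (M × A) [⋀^Fin n]→ₗ[A] N :=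
  g.compLinearMap (LinearMap.fst A M A + (LinearMap.toSpanSingleton A M d).comp (LinearMap.snd A M A))
    - g.compLinearMap (LinearMap.fst A M A)

theorem shiftAlt_apply {A : Type*} [CommRing A] {M N : Type*} [AddCommGroup M] [AddCommGroup N]
    [Module A M] [Module A N] {n : ℕ} (g : M [⋀^Fin n]→ₗ[A] N) (d : M) (v : Fin n → M × A) :
    shiftAlt g d v = g (fun i => (v i).1 + (v i).2 • d) - g (fun i => (v i).1) := rfl

theorem shiftAlt_zero {A : Type*} [CommRing A] {M N : Type*} [AddCommGroup M] [AddCommGroup N]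
    [Module A M] [Module A N] {n : ℕ} (g : M [⋀^Fin n]→ₗ[A] N) (d : M) (v : Fin n → M × A)
    (i : Fin n) (hi : v i ∈ Submodule.span A {((d, 0) : M × A)}) : shiftAlt g d v = 0 := by
  obtain ⟨s, hs⟩ := Submodule.mem_span_singleton.1 hi
  have h1 : (v i).1 = s • d := by rw [← hs]; rfl
  have h2 : (v i).2 = 0 := by rw [← hs]; simp
  have zero2 : ∀ (w : Fin n → M) (j k : Fin n), j ≠ k → (∃ b : A, w j = b • d) →
      (∃ b : A, w k = b • d) → g w = 0 := by
    rintro w j k hjk ⟨b, hb⟩ ⟨c, hc⟩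
    have hw : w = Function.update (Function.update w j (b • d)) k (c • d) := by
      rw [← hb, Function.update_eq_self, ← hc, Function.update_eq_self]
    rw [hw, AlternatingMap.map_update_smul, Function.update_comm hjk,
      AlternatingMap.map_update_smul,
      g.map_eq_zero_of_eq _ (i := j) (j := k) (by simp [hjk.symm]) hjk]
    simp
  rw [shiftAlt_apply, sub_eq_zero]
  change g ((fun j => (v j).1) + fun j => (v j).2 • d) = _
  rw [← AlternatingMap.coe_multilinearMap, MultilinearMap.map_add_univ,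
    Finset.sum_eq_single Finset.univ]
  · simp
  · intro S _ hS
    obtain ⟨j, hj⟩ : ∃ j, j ∉ S := by
      by_contra! hcon
      exact hS (Finset.eq_univ_iff_forall.2 hcon)
    rcases eq_or_ne j i with rfl | hji
    · refine MultilinearMap.map_coord_zero _ j ?_
      rw [Finset.piecewise_eq_of_notMem _ _ _ hj, h2, zero_smul]
    · refine zero2 _ j i hji ⟨_, Finset.piecewise_eq_of_notMem _ _ _ hj⟩ ?_
      by_cases hiS : i ∈ S
      · exact ⟨s, by rw [Finset.piecewise_eq_of_mem _ _ _ hiS, h1]⟩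
      · exact ⟨_, Finset.piecewise_eq_of_notMem _ _ _ hiS⟩
  · simp

/-- `S = R[x]/(x^p - a)`. -/
abbrev Ext1 (p : ℕ) (a : R) : Type u := AdjoinRoot (X ^ p - C a : R[X])

variable (Λ) (p)

/-- The class `1 ⊗ da`. -/
noncomputable abbrev da' : Ext1 p a ⊗[R] Ω[R⁄Λ] := 1 ⊗ₜ KaehlerDifferential.D Λ R a

/-- A model of `Ω_{S/Λ}`. -/
abbrev Model : Type u :=
  ((Ext1 p a ⊗[R] Ω[R⁄Λ]) × Ext1 p a) ⧸
    Submodule.span (Ext1 p a)
      {((da' p Λ a, 0) : (Ext1 p a ⊗[R] Ω[R⁄Λ]) × Ext1 p a)}

theorem exists_derivation [CharP R p] :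
    ∃ d : Derivation Λ (Ext1 p a) (Model p Λ a),
      (∀ r : R, d (algebraMap R _ r) =
        Submodule.Quotient.mk ((1 : Ext1 p a) ⊗ₜ[R] KaehlerDifferential.D Λ R r, 0)) ∧
      d (AdjoinRoot.root _) = Submodule.Quotient.mk (0, 1) := by
  let δ : R → Model p Λ a := fun r =>
    Submodule.Quotient.mk ((1 : Ext1 p a) ⊗ₜ[R] KaehlerDifferential.D Λ R r, 0)
  have δadd : ∀ r s, δ (r + s) = δ r + δ s := fun r s => by
    simp only [δ, ← Submodule.Quotient.mk_add, map_add, tmul_add, Prod.mk_add_mk, add_zero]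
  have δmul : ∀ r s, δ (r * s) = algebraMap R (Ext1 p a) r • δ s + algebraMap R (Ext1 p a) s • δ r := by
    intro r s
    simp only [δ, algebraMap_smul, ← Submodule.Quotient.mk_smul, ← Submodule.Quotient.mk_add,
      Derivation.leibniz, tmul_add, tmul_smul, Prod.smul_mk, Prod.mk_add_mk, smul_zero, add_zero]
  let E := TrivSqZeroExt (Ext1 p a) (Model p Λ a)
  let ρ : R →+* E :=
    { toFun := fun r => (algebraMap R (Ext1 p a) r, δ r)
      map_one' := by
        have h := δmul 1 1
        simp only [mul_one, map_one, one_smul] at h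
        exact TrivSqZeroExt.ext (map_one _) (by simpa using h)
      map_mul' := fun r s => TrivSqZeroExt.ext (map_mul _ _ _) (by
        rw [TrivSqZeroExt.snd_mul]
        exact (δmul r s).trans (by rw [op_smul_eq_smul]; rfl))
      map_zero' := TrivSqZeroExt.ext (map_zero _) (by
        have h := δadd 0 0
        rw [add_zero] at h
        exact (left_eq_add.1 h))
      map_add' := fun r s => TrivSqZeroExt.ext (map_add _ _ _) (δadd r s) }
  let ξ : E := (AdjoinRoot.root _, Submodule.Quotient.mk (0, 1))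
  have hξ : eval₂ ρ ξ (X ^ p - C a : R[X]) = 0 := by
    rw [eval₂_sub, eval₂_X_pow, eval₂_C, sub_eq_zero]
    refine TrivSqZeroExt.ext ?_ ?_
    · rw [TrivSqZeroExt.fst_pow]
      change (AdjoinRoot.root (X ^ p - C a : R[X])) ^ p = algebraMap R _ a
      have h := AdjoinRoot.eval₂_root (X ^ p - C a : R[X])
      rw [eval₂_sub, eval₂_X_pow, eval₂_C, sub_eq_zero] at h
      exact h
    · rw [TrivSqZeroExt.snd_pow]
      have h0 : (p : Ext1 p a) = 0 := by
        rw [← map_natCast (algebraMap R (Ext1 p a)), CharP.cast_eq_zero R p, map_zero]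
      rw [← Nat.cast_smul_eq_nsmul (Ext1 p a), h0, zero_smul]
      change (0 : Model p Λ a) = δ a
      exact ((Submodule.Quotient.mk_eq_zero _ (x := (da' p Λ a, 0))).2
        (Submodule.mem_span_singleton_self _)).symm
  let Φ : Ext1 p a →+* E := AdjoinRoot.lift ρ ξ hξ
  have hof : ∀ r, Φ (algebraMap R _ r) = ρ r := fun r => AdjoinRoot.lift_of hξ
  have hroot : Φ (AdjoinRoot.root _) = ξ := AdjoinRoot.lift_root hξ
  have hfst : ∀ s, (Φ s).fst = s := by
    intro s
    induction s using AdjoinRoot.induction_on with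
    | ih q =>
      induction q using Polynomial.induction_on' with
      | add q₁ q₂ h₁ h₂ => rw [map_add, map_add, TrivSqZeroExt.fst_add, h₁, h₂]
      | monomial k c =>
        rw [← C_mul_X_pow_eq_monomial, map_mul, map_pow, AdjoinRoot.mk_X, AdjoinRoot.mk_C,
          map_mul, map_pow, hroot, TrivSqZeroExt.fst_mul, TrivSqZeroExt.fst_pow]
        rw [← AdjoinRoot.algebraMap_eq, hof]
        rfl
  refine ⟨Derivation.mk'
    { toFun := fun s => (Φ s).snd
      map_add' := fun s t => by rw [map_add, TrivSqZeroExt.snd_add]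
      map_smul' := fun l s => ?_ } ?_, fun r => ?_, ?_⟩
  · rw [Algebra.smul_def, IsScalarTower.algebraMap_apply Λ R (Ext1 p a), map_mul, hof,
      TrivSqZeroExt.snd_mul, RingHom.id_apply]
    have h0 : (ρ (algebraMap Λ R l)).snd = 0 := by
      change δ _ = 0
      simp [δ, Prod.mk_zero_zero]
    rw [h0, smul_zero, add_zero]
    change (algebraMap R (Ext1 p a) (algebraMap Λ R l)) • _ = _
    rw [← IsScalarTower.algebraMap_apply, algebraMap_smul]
  · intro s t
    change (Φ (s * t)).snd = s • (Φ t).snd + t • (Φ s).snd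
    rw [map_mul, TrivSqZeroExt.snd_mul, hfst, hfst, op_smul_eq_smul]
  · change (Φ (algebraMap R _ r)).snd = _
    rw [hof]
    rfl
  · change (Φ (AdjoinRoot.root _)).snd = _
    rw [hroot]
    rfl

end Helpers

/-- Let p be a prime number, Λ → R a ring map with R of characteristic p, a ∈ R and S = R[x]/(x^p - a).
For every t ≥ 0 there is a canonical R-linear map Tr : Ω^{t+1}_{S/Λ} → Ω^{t+1}_{R/Λ} with η_1 ∧ … ∧
η_t ∧ x^i dx ↦ 0 for 0 ≤ i ≤ p - 2 and η_1 ∧ … ∧ η_t ∧ x^{p-1} dx ↦ η_1 ∧ … ∧ η_t ∧ da (η_j ∈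
Ω_{R/Λ}, pulled back to Ω_{S/Λ}), and Tr annihilates the image of S ⊗_R Ω^{t+1}_{R/Λ} →
Ω^{t+1}_{S/Λ}. (Existence of such a map is asserted; R-linearity is written through the R-action on
S.) -/
theorem result (p : ℕ) [Fact p.Prime] (Λ R : Type u) [CommRing Λ] [CommRing R] [Algebra Λ R]
    [CharP Λ p] [CharP R p] (a : R) (t : ℕ) :
    ∃ Tr : (⋀[AdjoinRoot (X ^ p - C a : R[X])]^(t + 1) (Ω[AdjoinRoot (X ^ p - C a : R[X])⁄Λ])) →+ (⋀[R]^(t + 1) (Ω[R⁄Λ])),
      (∀ (r : R) (ω : ⋀[AdjoinRoot (X ^ p - C a : R[X])]^(t + 1) (Ω[AdjoinRoot (X ^ p - C a : R[X])⁄Λ])),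
        Tr (algebraMap R (AdjoinRoot (X ^ p - C a : R[X])) r • ω) = r • Tr ω) ∧
      (∀ (η : Fin t → Ω[R⁄Λ]) (i : ℕ), i + 2 ≤ p →
        Tr (exteriorPower.ιMulti _ (t + 1) (Fin.snoc (fun j => KaehlerDifferential.map Λ Λ R (AdjoinRoot (X ^ p - C a : R[X])) (η j))
          (AdjoinRoot.root (X ^ p - C a) ^ i • KaehlerDifferential.D Λ _ (AdjoinRoot.root (X ^ p - C a))))) = 0) ∧
      (∀ (η : Fin t → Ω[R⁄Λ]),
        Tr (exteriorPower.ιMulti _ (t + 1) (Fin.snoc (fun j => KaehlerDifferential.map Λ Λ R (AdjoinRoot (X ^ p - C a : R[X])) (η j))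
          (AdjoinRoot.root (X ^ p - C a) ^ (p - 1) • KaehlerDifferential.D Λ _ (AdjoinRoot.root (X ^ p - C a))))) =
          exteriorPower.ιMulti R (t + 1) (Fin.snoc η (KaehlerDifferential.D Λ R a))) ∧
      (∀ (s : AdjoinRoot (X ^ p - C a : R[X])) (η : Fin (t + 1) → Ω[R⁄Λ]),
        Tr (s • exteriorPower.ιMulti _ (t + 1) (fun j => KaehlerDifferential.map Λ Λ R (AdjoinRoot (X ^ p - C a : R[X])) (η j))) = 0) := by
  classical

  obtain ⟨d, hd, hdx⟩ := exists_derivation p Λ a
  have hmonic : (X ^ p - C a : R[X]).Monic := monic_X_pow_sub_C a (Fact.out : p.Prime).ne_zero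
  rcases subsingleton_or_nontrivial R with hR | hR
  · exfalso
    exact (Fact.out : p.Prime).ne_one
      (Nat.dvd_one.1 ((CharP.cast_eq_zero_iff R p 1).1 (Subsingleton.elim _ _)))
  let S := Ext1 p a
  let φ : Ω[S⁄Λ] →ₗ[S] Model p Λ a := d.liftKaehlerDifferential
  have hφD : ∀ s, φ (KaehlerDifferential.D Λ S s) = d s := d.liftKaehlerDifferential_comp_D
  have hφmap : ∀ η : Ω[R⁄Λ], φ (KaehlerDifferential.map Λ Λ R S η) =
      Submodule.Quotient.mk ((1 : S) ⊗ₜ[R] η, 0) := by
    intro η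
    have hη : η ∈ Submodule.span R (Set.range (KaehlerDifferential.D Λ R)) := by
      rw [KaehlerDifferential.span_range_derivation]; trivial
    induction hη using Submodule.span_induction with
    | mem x hx =>
      obtain ⟨r, rfl⟩ := hx
      rw [KaehlerDifferential.map_D, hφD, hd]
    | zero =>
      simp only [map_zero, tmul_zero]
      rfl
    | add x y _ _ hx hy =>
      rw [map_add, map_add, hx, hy, tmul_add, ← Submodule.Quotient.mk_add, Prod.mk_add_mk,
        add_zero]
    | smul r x _ hx =>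
      rw [map_smul, ← algebraMap_smul S r (KaehlerDifferential.map Λ Λ R S x), map_smul, hx,
        algebraMap_smul, tmul_smul, ← Submodule.Quotient.mk_smul, Prod.smul_mk, smul_zero]
  have hbc := Groth.LocFree.extMap_isBaseChange (t + 1) (TensorProduct.mk R S (Ω[R⁄Λ]) 1)
    (TensorProduct.isBaseChange R (Ω[R⁄Λ]) S)
  let g : (S ⊗[R] Ω[R⁄Λ]) [⋀^Fin (t + 1)]→ₗ[S] ⋀[S]^(t + 1) (S ⊗[R] Ω[R⁄Λ]) :=
    exteriorPower.ιMulti S (t + 1)
  let G : Model p Λ a [⋀^Fin (t + 1)]→ₗ[S] ⋀[S]^(t + 1) (S ⊗[R] Ω[R⁄Λ]) :=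
    quotAlt (shiftAlt g (da' p Λ a)) _ (shiftAlt_zero g _)
  let L : ⋀[S]^(t + 1) (Ω[S⁄Λ]) →ₗ[S] ⋀[S]^(t + 1) (S ⊗[R] Ω[R⁄Λ]) :=
    exteriorPower.alternatingMapLinearEquiv (G.compLinearMap φ)
  have hL : ∀ v, L (exteriorPower.ιMulti S (t + 1) v) = G (fun i => φ (v i)) :=
    fun v => exteriorPower.alternatingMapLinearEquiv_apply_ιMulti _ _
  let co : S →ₗ[R] R := (Polynomial.lcoeff R (p - 1)).comp (AdjoinRoot.modByMonicHom hmonic)
  let P : ⋀[S]^(t + 1) (S ⊗[R] Ω[R⁄Λ]) →ₗ[R] ⋀[R]^(t + 1) (Ω[R⁄Λ]) :=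
    (TensorProduct.lid R _).toLinearMap ∘ₗ co.rTensor _ ∘ₗ
      hbc.equiv.symm.toLinearMap.restrictScalars R
  have hP : ∀ (s : S) (η : Fin (t + 1) → Ω[R⁄Λ]),
      P (s • exteriorPower.ιMulti S (t + 1) fun j => (1 : S) ⊗ₜ[R] η j) =
        co s • exteriorPower.ιMulti R (t + 1) η := by
    intro s η
    have h : hbc.equiv.symm (s • exteriorPower.ιMulti S (t + 1) fun j => (1 : S) ⊗ₜ[R] η j) =
        s ⊗ₜ exteriorPower.ιMulti R (t + 1) η := by
      rw [LinearEquiv.symm_apply_eq, IsBaseChange.equiv_tmul, Groth.LocFree.extMap_ιMulti]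
      rfl
    simp [P, h]
  have hco : ∀ i, i < p → co (AdjoinRoot.root (X ^ p - C a : R[X]) ^ i) = if i = p - 1 then 1 else 0 := by
    intro i hi
    have hdeg : (X ^ i : R[X]) %ₘ (X ^ p - C a) = X ^ i := by
      rw [modByMonic_eq_self_iff hmonic, degree_X_pow, degree_X_pow_sub_C (by omega)]
      exact_mod_cast hi
    simp only [co, LinearMap.comp_apply, lcoeff_apply]
    rw [← AdjoinRoot.mk_X, ← map_pow, AdjoinRoot.modByMonicHom_mk, hdeg, coeff_X_pow]
    simp only [eq_comm]
  refine ⟨(P ∘ₗ L.restrictScalars R).toAddMonoidHom, ?_, ?_⟩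
  · intro r ω
    simp only [LinearMap.toAddMonoidHom_coe, algebraMap_smul, map_smul]
  have hsnoc : ∀ (η : Fin t → Ω[R⁄Λ]) (i : ℕ), i < p →
      P (L (exteriorPower.ιMulti S (t + 1) (Fin.snoc (fun j => KaehlerDifferential.map Λ Λ R S (η j))
        (AdjoinRoot.root (X ^ p - C a : R[X]) ^ i • KaehlerDifferential.D Λ S (AdjoinRoot.root (X ^ p - C a : R[X]))) :
          Fin (t + 1) → Ω[S⁄Λ]))) =
      (if i = p - 1 then (1 : R) else 0) •
        exteriorPower.ιMulti R (t + 1) (Fin.snoc η (KaehlerDifferential.D Λ R a)) := by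
    intro η i hi
    let v : Fin (t + 1) → (S ⊗[R] Ω[R⁄Λ]) × S :=
      Fin.snoc (fun j => ((1 : S) ⊗ₜ[R] η j, 0)) (0, AdjoinRoot.root (X ^ p - C a : R[X]) ^ i)
    have hv : ∀ j, φ ((Fin.snoc (fun j => KaehlerDifferential.map Λ Λ R S (η j))
        (AdjoinRoot.root (X ^ p - C a : R[X]) ^ i • KaehlerDifferential.D Λ S (AdjoinRoot.root (X ^ p - C a : R[X]))) :
          Fin (t + 1) → Ω[S⁄Λ]) j) = Submodule.Quotient.mk (v j) := by
      intro j
      refine Fin.lastCases ?_ ?_ j
      · simp only [v, Fin.snoc_last, map_smul, hφD, hdx, ← Submodule.Quotient.mk_smul,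
          Prod.smul_mk, smul_zero, smul_eq_mul, mul_one]
      · intro k
        simp only [v, Fin.snoc_castSucc, hφmap]
    rw [hL, show (fun j => φ _) = fun j => Submodule.Quotient.mk (v j) from funext hv]
    change P (quotAlt (shiftAlt g (da' p Λ a)) _ _ (fun j => Submodule.Quotient.mk (v j))) = _
    rw [quotAlt_mk, shiftAlt_apply]
    have h0 : g (fun j => (v j).1) = 0 := g.map_coord_zero (Fin.last t) (by simp [v])
    rw [h0, sub_zero]
    have h1 : (fun j => (v j).1 + (v j).2 • da' p Λ a) =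
        Function.update (fun j => (1 : S) ⊗ₜ[R] (Fin.snoc η (KaehlerDifferential.D Λ R a) :
          Fin (t + 1) → Ω[R⁄Λ]) j) (Fin.last t)
          (AdjoinRoot.root (X ^ p - C a : R[X]) ^ i • da' p Λ a) := by
      funext j
      refine Fin.lastCases ?_ ?_ j
      · simp [v]
      · intro k
        rw [Function.update_of_ne (Fin.castSucc_ne_last k)]
        simp [v]
    have h2 : Function.update (fun j => (1 : S) ⊗ₜ[R] (Fin.snoc η (KaehlerDifferential.D Λ R a) :
          Fin (t + 1) → Ω[R⁄Λ]) j) (Fin.last t) (da' p Λ a) =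
        fun j => (1 : S) ⊗ₜ[R] (Fin.snoc η (KaehlerDifferential.D Λ R a) :
          Fin (t + 1) → Ω[R⁄Λ]) j := by
      rw [Function.update_eq_self_iff]
      simp
    rw [h1, AlternatingMap.map_update_smul, h2, hP, hco i hi]
  refine ⟨fun η i hi => ?_, fun η => ?_, fun s η => ?_⟩
  · exact (hsnoc η i (by omega)).trans (by rw [if_neg (by omega), zero_smul])
  · exact (hsnoc η (p - 1) (by have := (Fact.out : p.Prime).pos; omega)).trans
      (by rw [if_pos rfl, one_smul])
  · change P (L (s • exteriorPower.ιMulti S (t + 1) _)) = 0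
    rw [map_smul, hL, show (fun j => φ (KaehlerDifferential.map Λ Λ R S (η j))) =
      fun j => Submodule.Quotient.mk ((1 : S) ⊗ₜ[R] η j, (0 : S)) from funext fun j => hφmap _]
    change P (s • quotAlt (shiftAlt g (da' p Λ a)) _ _ (fun j => Submodule.Quotient.mk _)) = 0
    rw [quotAlt_mk, shiftAlt_apply]
    simp

end Groth.Agent.S7357
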