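import Groth.Statements.S7358
import Groth.Agent.ResolveSurf.CurvesTransform
import Groth.Agent.Calg6.ClosedImmStalk
import Groth.Agent.ArSurfBasics.FactorBlowUp
import Groth.Agent.PointBlowUp.SelfInt

set_option autoImplicit false
universe u
open CategoryTheory CategoryTheory.Limits AlgebraicGeometry
open Resolve

namespace Groth.Agent.S7358

open Groth.ResolveSurf.CurveBU TopologicalSpace

set_option backward.isDefEq.respectTransparency.types false
set_option linter.style.haveILetI false

theorem stalkIdeal_mono {W : Scheme.{u}} {I J : W.IdealSheafData} (h : I ≤ J) (x : W) :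
    IntMult.stalkIdeal I x ≤ IntMult.stalkIdeal J x :=
  iSup₂_mono fun U _ => Ideal.map_mono (h U)

theorem length_quotient_of_surjective {R S : Type u} [CommRing R] [CommRing S] (φ : R →+* S)
    (hφ : Function.Surjective φ) (J : Ideal R) :
    Module.length R (R ⧸ (RingHom.ker φ ⊔ J)) = Module.length S (S ⧸ J.map φ) := by
  letI : Algebra R S := φ.toAlgebra
  have hs : Function.Surjective (algebraMap R S) := hφ
  rw [← Module.length_eq_of_surjective (M := S ⧸ J.map φ) hs]
  let l : R →ₗ[R] S ⧸ J.map φ := ((J.map φ).mkQ.restrictScalars R).comp (Algebra.linearMap R S)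
  have hl : Function.Surjective l := (Submodule.mkQ_surjective _).comp hs
  refine ((Submodule.quotEquivOfEq _ _ ?_).trans (l.quotKerEquivOfSurjective hl)).length_eq
  ext r
  show r ∈ RingHom.ker φ ⊔ J ↔ Ideal.Quotient.mk (J.map φ) (φ r) = 0
  rw [Ideal.Quotient.eq_zero_iff_mem, ← Ideal.mem_comap, Ideal.comap_map_of_surjective' φ hφ, sup_comm]

/-- Lengths in an intersection with a closed subscheme. -/
theorem length_inter {C W : Scheme.{u}} (i : C ⟶ W) [IsClosedImmersion i] (J K : W.IdealSheafData)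
    (hJ : J = i.ker ⊔ K) (c : C) (q : J.subscheme) (hq : J.subschemeι q = i c) :
    Module.length (J.subscheme.presheaf.stalk q) (J.subscheme.presheaf.stalk q) =
      Module.length (C.presheaf.stalk c) (C.presheaf.stalk c ⧸ IntMult.stalkIdeal (K.comap i) c) := by
  rw [Groth.Calg6.ClosedImmStalk.length_stalk J.subschemeι q, Scheme.IdealSheafData.ker_subschemeι]
  have key : ∀ x : W, x = i c → Module.length (W.presheaf.stalk x)
      (W.presheaf.stalk x ⧸ IntMult.stalkIdeal J x) =
        Module.length (C.presheaf.stalk c) (C.presheaf.stalk c ⧸ IntMult.stalkIdeal (K.comap i) c) := by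
    rintro _ rfl
    rw [hJ, Groth.PointBlowUp.stalkIdeal_sup, ← Groth.Calg6.ClosedImmStalk.ker_stalkMap_eq,
      Groth.ParaFormal.stalkIdeal_comap]
    exact length_quotient_of_surjective _ (i.stalkMap_surjective c) _
  exact key _ hq

/-- Outside the exceptional divisor the total transform has the ideal of the strict transform. -/
theorem le_ker_mul {W : Scheme.{u}} [IsLocallyNoetherian W] (K E : W.IdealSheafData)
    (hE : BlowUp.IsEffCartierIdeal E) (hKE : K ≤ E) :
    K ≤ ((K.subschemeι ⁻¹ᵁ E.support.compl).ι ≫ K.subschemeι).ker * E := by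
  haveI : IsLocallyNoetherian K.subscheme := LocallyOfFiniteType.isLocallyNoetherian K.subschemeι
  set j := (K.subschemeι ⁻¹ᵁ E.support.compl).ι ≫ K.subschemeι with hj
  choose V hV t ht using fun x : W => Groth.Divisors.exists_generator hE x ⊤ trivial
  refine Scheme.IdealSheafData.le_of_iSup_eq_top V (eq_top_iff.2 fun x _ => Opens.mem_iSup.2 ⟨x, hV x⟩)
    fun x a ha => ?_
  have hk : j.app (V x).1 a = 0 := by
    have h1 := ((Scheme.IdealSheafData.ker_subschemeι K).ge.trans
      (Scheme.Hom.le_ker_comp _ _) : K ≤ j.ker) (V x) ha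
    rwa [Scheme.Hom.ker_apply, RingHom.mem_ker] at h1
  have haE : a ∈ E.ideal (V x) := hKE (V x) ha
  obtain ⟨t₀, htn, htI⟩ := ht x
  rw [htI] at haE
  obtain ⟨c, rfl⟩ := Ideal.mem_span_singleton'.1 haE
  rw [Scheme.IdealSheafData.ideal_mul, Pi.mul_apply, htI]
  refine Ideal.mul_mem_mul ?_ (Ideal.mem_span_singleton_self _)
  rw [Scheme.Hom.ker_apply, RingHom.mem_ker]
  rw [map_mul] at hk
  refine IsUnit.mul_left_eq_zero ?_ |>.1 hk
  refine RingedSpace.isUnit_of_isUnit_germ _ _ _ fun y hy => ?_
  have hu := ((Groth.Divisors.not_mem_support_iff htI (show j y ∈ (V x).1 from hy)).1 y.2).map (j.stalkMap y).hom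
  rw [Scheme.Hom.germ_stalkMap_apply] at hu
  exact hu

/-- The kernel of the strict transform of a closed subscheme that lifts to the blow-up. -/
theorem ker_strictTransform {X W Y : Scheme.{u}} {b : W ⟶ X} {I : X.IdealSheafData}
    (hb : BlowUp.IsBlowUp b I) [IsLocallyNoetherian W] [IsIntegral Y] (f : Y ⟶ X) [IsClosedImmersion f]
    (i : Y ⟶ W) [IsClosedImmersion i] (h : i ≫ b = f) (hη : f (genericPoint Y) ∉ I.support)
    (IY : X.IdealSheafData) (hIY : f.ker = IY) :
    (((IY.comap b).subschemeι ⁻¹ᵁ (BlowUp.exceptional b I).support.compl).ι ≫ (IY.comap b).subschemeι).ker =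
      i.ker := by
  set s := (IY.comap b).subschemeι
  set U := s ⁻¹ᵁ (BlowUp.exceptional b I).support.compl
  haveI : IsLocallyNoetherian (IY.comap b).subscheme := LocallyOfFiniteType.isLocallyNoetherian s
  haveI : IsLocallyNoetherian Y := LocallyOfFiniteType.isLocallyNoetherian i
  refine le_antisymm ?_ ?_
  · let V : Y.Opens := f ⁻¹ᵁ I.support.compl
    haveI : IsDominant V.ι := ⟨by
      show Dense (Set.range V.ι)
      rw [Scheme.Opens.range_ι]
      exact V.2.dense ⟨_, hη⟩⟩
    haveI : IsSchemeTheoreticallyDominant V.ι := .of_isDominant _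
    have h1 : (V.ι ≫ i).ker = i.ker := by
      rw [Scheme.Hom.ker_comp, V.ι.ker_eq_bot, Scheme.IdealSheafData.map_bot]
    rw [← h1]
    have h2 : s.ker ≤ (V.ι ≫ i).ker := by
      rw [Scheme.IdealSheafData.ker_subschemeι, h1, ← hIY]
      exact Groth.ResolveSurf.CurvesTransform.ker_comap_le h
    let l := IsClosedImmersion.lift s (V.ι ≫ i) h2
    have hl : l ≫ s = V.ι ≫ i := IsClosedImmersion.lift_fac _ _ _
    have hr : Set.range l ⊆ Set.range U.ι := by
      rw [Scheme.Opens.range_ι]
      rintro _ ⟨v, rfl⟩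
      show s (l v) ∈ (I.comap b).support.compl
      rw [← Scheme.Hom.comp_apply, hl]
      have hv : f v.1 ∉ I.support := v.2
      intro hmem
      rw [Scheme.IdealSheafData.support_comap] at hmem
      exact hv (h ▸ hmem)
    calc (U.ι ≫ s).ker ≤ (IsOpenImmersion.lift U.ι l hr ≫ U.ι ≫ s).ker := Scheme.Hom.le_ker_comp _ _
      _ = (V.ι ≫ i).ker := by rw [← Category.assoc, IsOpenImmersion.lift_fac, hl]
  · have h1 : f.ker ≤ ((U.ι ≫ s) ≫ b).ker := by
      rw [Scheme.Hom.ker_comp (U.ι ≫ s) b, Scheme.IdealSheafData.le_map_iff_comap_le, hIY]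
      exact (Scheme.IdealSheafData.ker_subschemeι _).ge.trans (Scheme.Hom.le_ker_comp _ _)
    have hk : IsClosedImmersion.lift f ((U.ι ≫ s) ≫ b) h1 ≫ i = U.ι ≫ s := by
      refine Groth.BlowUpBasics.hom_ext_isBlowUp hb ?_ ?_
      · rw [Category.assoc, h, IsClosedImmersion.lift_fac]
      · rw [Category.assoc, h, IsClosedImmersion.lift_fac]
        refine Eq.subst (motive := BlowUp.IsEffCartierIdeal)
          (Groth.BlowUpBasics.comap_eq_top_of_range_subset _ _ ?_).symm Groth.Divisors.isEffCartierIdeal_top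
        rintro _ ⟨v, rfl⟩ hmem
        refine v.2 ?_
        show s v.1 ∈ ((I.comap b).support : Set W)
        rw [Scheme.IdealSheafData.support_comap]
        exact hmem
    rw [← hk]
    exact Scheme.Hom.le_ker_comp _ _

/-- Let X be a locally Noetherian scheme, Y and Z closed subschemes with ideal sheaves I_Y and I_Z, p a
closed point lying on Y and on Z, with Y integral of dimension one, the generic point of Y not on Z,
and O_{Y,p} regular; the multiplicity m_p(Y ∩ Z) is the length of the local ring of Y ∩ Z (ideal I_Y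
+ I_Z) at p. Let b : X' → X be the blowing up of X at p (in the reduced point), E its exceptional
divisor, and Y', Z' ⊂ X' the strict transforms of Y and Z, i.e. the closed subschemes whose ideals
are the kernels of b^{-1}(Y) ∖ E → X' and b^{-1}(Z) ∖ E → X'. Then (1) b induces an isomorphism Y' ≅
Y; (2) Y' meets E in exactly one point q, and m_q(Y' ∩ E) = 1; (3) if moreover q ∈ Z', then m_q(Y' ∩
Z') < m_p(Y ∩ Z). -/
theorem result (X : Scheme.{u}) [IsLocallyNoetherian X]
    (IY IZ : X.IdealSheafData) [IsIntegral IY.subscheme] (hdimY : topologicalKrullDim ↥IY.subscheme = 1)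
    (p : X) (hp : IsClosed ({p} : Set X)) (hpY : p ∈ (IY.support : Set X)) (hpZ : p ∈ (IZ.support : Set X))
    (hgen : IY.subschemeι.base (genericPoint ↥IY.subscheme) ∉ (IZ.support : Set X))
    (hreg : ∀ y : ↥IY.subscheme, IY.subschemeι.base y = p → IsRegularLocalRing (IY.subscheme.presheaf.stalk y))
    (X' : Scheme.{u}) (b : X' ⟶ X) (hb : BlowUp.IsBlowUp b (Scheme.IdealSheafData.vanishingIdeal ⟨{p}, hp⟩))
    (IY' IZ' : X'.IdealSheafData)
    (hY' : IY' = Scheme.Hom.ker ((((IY.comap b).subschemeι ⁻¹ᵁ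
        (BlowUp.exceptional b (Scheme.IdealSheafData.vanishingIdeal ⟨{p}, hp⟩)).support.compl).ι) ≫ (IY.comap b).subschemeι))
    (hZ' : IZ' = Scheme.Hom.ker ((((IZ.comap b).subschemeι ⁻¹ᵁ
        (BlowUp.exceptional b (Scheme.IdealSheafData.vanishingIdeal ⟨{p}, hp⟩)).support.compl).ι) ≫ (IZ.comap b).subschemeι)) :
    (∃ e : IY'.subscheme ≅ IY.subscheme, e.hom ≫ IY.subschemeι = IY'.subschemeι ≫ b) ∧
    (∃ q : X', {x : X' | x ∈ (IY'.support : Set X') ∧
          x ∈ ((BlowUp.exceptional b (Scheme.IdealSheafData.vanishingIdeal ⟨{p}, hp⟩)).support : Set X')} = {q} ∧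
      (∀ q1 : ↥(IY' ⊔ BlowUp.exceptional b (Scheme.IdealSheafData.vanishingIdeal ⟨{p}, hp⟩)).subscheme,
          (IY' ⊔ BlowUp.exceptional b (Scheme.IdealSheafData.vanishingIdeal ⟨{p}, hp⟩)).subschemeι.base q1 = q →
          Module.length
            ((IY' ⊔ BlowUp.exceptional b (Scheme.IdealSheafData.vanishingIdeal ⟨{p}, hp⟩)).subscheme.presheaf.stalk q1)
            ((IY' ⊔ BlowUp.exceptional b (Scheme.IdealSheafData.vanishingIdeal ⟨{p}, hp⟩)).subscheme.presheaf.stalk q1) = 1) ∧
      (q ∈ (IZ'.support : Set X') →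
        ∀ (q0 : ↥(IY ⊔ IZ).subscheme) (q1 : ↥(IY' ⊔ IZ').subscheme),
          (IY ⊔ IZ).subschemeι.base q0 = p → (IY' ⊔ IZ').subschemeι.base q1 = q →
          Module.length ((IY' ⊔ IZ').subscheme.presheaf.stalk q1) ((IY' ⊔ IZ').subscheme.presheaf.stalk q1) <
            Module.length ((IY ⊔ IZ).subscheme.presheaf.stalk q0) ((IY ⊔ IZ).subscheme.presheaf.stalk q0))) := by
  set f := IY.subschemeι with hfdef
  set I := Scheme.IdealSheafData.vanishingIdeal ⟨{p}, hp⟩ with hIdef
  obtain ⟨y₀, hy₀⟩ : p ∈ Set.range f := by rwa [Scheme.IdealSheafData.range_subschemeι]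
  haveI : IsLocallyNoetherian IY.subscheme := LocallyOfFiniteType.isLocallyNoetherian f
  haveI hpr : IsProper b := Groth.HTopHyper.isProper_of_isBlowUp hb (fun U => by
    haveI := IsLocallyNoetherian.component_noetherian U
    exact IsNoetherian.noetherian _)
  haveI : IsLocallyNoetherian X' := LocallyOfFiniteType.isLocallyNoetherian b
  have hIsupp : (I.support : Set X) = {p} := Scheme.IdealSheafData.coe_support_vanishingIdeal _
  have hz : IsClosed ({y₀} : Set IY.subscheme) := by
    have : ({y₀} : Set IY.subscheme) = f ⁻¹' {p} := by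
      ext w
      exact ⟨fun hw => (congrArg f hw).trans hy₀, fun hw => f.isClosedEmbedding.injective (hw.trans hy₀.symm)⟩
    rw [this]
    exact hp.preimage f.continuous
  have hηI : f (genericPoint IY.subscheme) ∉ I.support := by
    rw [← SetLike.mem_coe, hIsupp]
    exact fun e => hgen ((Set.mem_singleton_iff.1 e) ▸ hpZ)
  have hIf : I.comap f = ptIdeal y₀ hz := by
    subst hy₀
    exact Groth.ResolveSurf.CurvesTransform.comap_ptIdeal f hz hp
  have hmax : IntMult.stalkIdeal (I.comap f) y₀ = IsLocalRing.maximalIdeal _ := by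
    rw [hIf]; exact Groth.ArSurfBasics.FactorBlowUp.stalkIdeal_vanishingIdeal hz
  haveI := hreg y₀ hy₀
  haveI hpid : IsPrincipalIdealRing (IY.subscheme.presheaf.stalk y₀) := by
    refine ((tfae_of_isNoetherianRing_of_isLocalRing_of_isDomain
      (R := IY.subscheme.presheaf.stalk y₀)).out 4 0).1 ?_
    have h1 := (isRegularLocalRing_iff (R := IY.subscheme.presheaf.stalk y₀)).1 (hreg y₀ hy₀)
    rw [ringKrullDim_stalk_eq_coheight] at h1
    have h2 : (IsLocalRing.maximalIdeal (IY.subscheme.presheaf.stalk y₀)).spanFinrank ≤ 1 := by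
      have h3 : ((IsLocalRing.maximalIdeal (IY.subscheme.presheaf.stalk y₀)).spanFinrank : ℕ∞) =
          Order.coheight y₀ := WithBot.coe_inj.1 h1
      exact_mod_cast h3.trans_le (coheight_le_of_dim hdimY.le _)
    rcases Nat.le_one_iff_eq_zero_or_eq_one.1 h2 with h3 | h3
    · rw [Submodule.spanFinrank_eq_zero_iff_eq_bot (IsNoetherian.noetherian _)] at h3
      exact ⟨⟨0, h3.trans (Submodule.span_zero_singleton _).symm⟩⟩
    · obtain ⟨g, hg⟩ := ((Submodule.spanFinrank_eq_one_iff _).1 h3).1
      exact ⟨⟨g, hg⟩⟩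
  have hne : ∀ D : IY.subscheme.IdealSheafData, genericPoint IY.subscheme ∉ D.support →
      IntMult.stalkIdeal D y₀ ≠ ⊥ := fun D hD h0 => hD (by
    by_contra hD'
    have h1 := Groth.ParaFormal.stalkIdeal_spec D (genericPoint_specializes y₀)
    rw [h0, Ideal.map_bot, (Groth.ArSurfBasics.Principalization.stalkIdeal_eq_top_iff D _).2 hD'] at h1
    exact bot_ne_top h1)
  have hcar : BlowUp.IsEffCartierIdeal (I.comap f) := by
    refine Groth.Divisors.isEffCartierIdeal_of_stalk _ fun x hx U hxU => ?_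
    obtain rfl : x = y₀ := by
      rw [hIf, ← SetLike.mem_coe, Scheme.IdealSheafData.coe_support_vanishingIdeal] at hx
      exact hx
    obtain ⟨g, hg⟩ := IsPrincipalIdealRing.principal (IntMult.stalkIdeal (I.comap f) x)
    refine ⟨g, mem_nonZeroDivisors_of_ne_zero fun h0 => hne (I.comap f) ?_ ?_, ?_⟩
    · rw [← SetLike.mem_coe, Scheme.IdealSheafData.support_comap]
      exact hηI
    · rw [hg, h0, Submodule.span_zero_singleton]
    · rw [← Groth.ParaFormal.stalkIdeal_eq _ U hxU, hg]
  obtain ⟨W, w, g, hw, hcomm, hg⟩ := Groth.BlowUpBasics.exists_strictTransform hb f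
  haveI := hw
  haveI := Groth.ResolveSurf.CurvesTransform.isIso_of_isEffCartier hg hcar
  let i := inv g ≫ w
  haveI hi : IsClosedImmersion i := inferInstance
  have hib : i ≫ b = f := by rw [Category.assoc, ← hcomm, IsIso.inv_hom_id_assoc]
  have hker : IY' = i.ker :=
    hY'.trans (ker_strictTransform hb f i hib hηI IY (Scheme.IdealSheafData.ker_subschemeι IY))
  clear hY'
  subst hker
  have hbi : ∀ c, b (i c) = f c := fun c => by rw [← Scheme.Hom.comp_apply, hib]
  refine ⟨⟨(asIso i.toImage).symm, ?_⟩, i y₀, ?_, fun q₁ hq₁ => ?_, fun _ q₀ q₁ hq₀ hq₁ => ?_⟩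
  · rw [Iso.symm_hom, asIso_inv, IsIso.inv_comp_eq]
    exact hib.symm.trans (i.toImage_imageι_assoc b).symm
  · ext x
    simp only [Set.mem_ofPred_eq, Set.mem_singleton_iff, Scheme.IdealSheafData.support_comap,
      Scheme.Hom.support_ker, Closeds.coe_preimage, Set.mem_preimage, SetLike.mem_coe]
    rw [i.isClosedEmbedding.isClosed_range.closure_eq, ← SetLike.mem_coe, hIsupp]
    constructor
    · rintro ⟨⟨c, rfl⟩, hx⟩
      exact congrArg i (f.isClosedEmbedding.injective ((hbi c).symm.trans (hx.trans hy₀.symm)))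
    · rintro rfl
      exact ⟨⟨y₀, rfl⟩, (hbi y₀).trans hy₀⟩
  · rw [length_inter i _ (I.comap b) rfl y₀ q₁ hq₁, ← Scheme.IdealSheafData.comap_comp, hib, hmax]
    haveI : IsSimpleModule (IY.subscheme.presheaf.stalk y₀) (IY.subscheme.presheaf.stalk y₀ ⧸
        IsLocalRing.maximalIdeal (IY.subscheme.presheaf.stalk y₀)) :=
      isSimpleModule_iff_isCoatom.2 (IsLocalRing.maximalIdeal.isMaximal _).out
    exact Module.length_eq_one _ _
  · rw [length_inter f _ IZ (by rw [Scheme.IdealSheafData.ker_subschemeι]) y₀ q₀ (hq₀.trans hy₀.symm),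
      length_inter i _ IZ' rfl y₀ q₁ hq₁, Module.length_quotient, Module.length_quotient]
    set a := IntMult.stalkIdeal (IZ.comap f) y₀
    set a' := IntMult.stalkIdeal (IZ'.comap i) y₀
    have hZE : IZ.comap b ≤ I.comap b := Scheme.IdealSheafData.comap_mono b
      (Scheme.IdealSheafData.le_support_iff_le_vanishingIdeal.1 fun x hx => by
        rw [show x = p from hx]; exact hpZ)
    have hle : a ≤ a' * IsLocalRing.maximalIdeal _ := by
      rw [← hmax, ← Groth.PointBlowUp.stalkIdeal_mul]
      refine stalkIdeal_mono (le_of_le_of_eq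
        (le_of_eq_of_le ?_ (Scheme.IdealSheafData.comap_mono i (hZ' ▸ le_ker_mul _ _ hb.1 hZE))) ?_) y₀
      · show IZ.comap f = (IZ.comap b).comap i
        rw [← Scheme.IdealSheafData.comap_comp, hib]
      · show (IZ' * I.comap b).comap i = _
        rw [Groth.Divisors.comap_mul, ← Scheme.IdealSheafData.comap_comp, hib]
    have ha : a ≠ ⊥ := hne _ (by
      rw [← SetLike.mem_coe, Scheme.IdealSheafData.support_comap]
      exact hgen)
    have hlt : a < a' := lt_of_le_of_ne (hle.trans Ideal.mul_le_left) fun e => ha (by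
      refine Submodule.eq_bot_of_le_smul_of_le_jacobson_bot _ _ (IsNoetherian.noetherian a) ?_
        (IsLocalRing.maximalIdeal_le_jacobson ⊥)
      rw [smul_eq_mul, mul_comm]
      exact hle.trans (le_of_eq (by rw [e])))
    refine Order.coheight_strictAnti hlt (lt_top_iff_ne_top.2 ?_)
    rw [← Module.length_quotient]
    obtain ⟨x, hx⟩ := IsPrincipalIdealRing.principal a'
    have hx0 : x ≠ 0 := fun h0 => hlt.ne_bot (by rw [hx, h0, Submodule.span_zero_singleton])
    rw [Module.length_ne_top_iff, hx]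
    exact isFiniteLength_quotient_span_singleton _ (mem_nonZeroDivisors_of_ne_zero hx0)

end Groth.Agent.S7358
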