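import Groth.Statements.S7362
import Groth.Agent.ModelsGraphs.AffineMain

set_option autoImplicit false
set_option linter.unusedSimpArgs false
open Finset
open Models Models.NumericalType

namespace Groth.Agent.S7362

/-- Genus one classification: case n = 2: let T be a minimal numerical type of genus 1 on two indices.
Then for some ordering i, j of the indices and some integers m, w, either m_i = m_j = m, a_ii = a_jj
= -2w, a_ij = 2w, w_i = w_j = w, g_i = g_j = 0; or m_i = 2m, m_j = m, a_ii = -2w, a_ij = 4w, a_jj =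
-8w, w_i = w, w_j = 4w, g_i = g_j = 0. Only the classification direction is stated. -/
theorem result (T : Models.NumericalType 2) (hmin : T.IsMinimal) (hg : T.genus = 1) :
    ∃ (i j : Fin 2) (m w : ℤ), i ≠ j ∧ T.g i = 0 ∧ T.g j = 0 ∧
      ((T.m i = m ∧ T.m j = m ∧ T.a i i = -2 * w ∧ T.a i j = 2 * w ∧ T.a j j = -2 * w ∧ T.w i = w ∧ T.w j = w) ∨
        (T.m i = 2 * m ∧ T.m j = m ∧ T.a i i = -2 * w ∧ T.a i j = 4 * w ∧ T.a j j = -8 * w ∧ T.w i = w ∧ T.w j = 4 * w)) := by
  have hall : ∀ i, T.IsMinusTwo i := fun i => Groth.ModelsGraphs.allMinusTwo_of_genus_one (by norm_num) hmin hg i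
  have h0 := Groth.ModelsGraphs.row_sum T 0
  have h1 := Groth.ModelsGraphs.row_sum T 1
  simp only [Fin.sum_univ_two, (hall 0).2, (hall 1).2, Groth.ModelsGraphs.a_comm T 1 0] at h0 h1
  obtain ⟨j, hj, hpos⟩ := Groth.ModelsGraphs.exists_nbr T (show 1 < 2 by norm_num) (0 : Fin 2)
  obtain rfl : j = 1 := by omega
  obtain ⟨p, q, hp, hq, ha, ha', haa⟩ := Groth.ModelsGraphs.exists_pq T hpos
  have w0 := T.w_pos 0; have w1 := T.w_pos 1; have m0 := T.m_pos 0; have m1 := T.m_pos 1
  have e0 : p * T.m 1 = 2 * T.m 0 := mul_left_cancel₀ w0.ne' (by rw [ha] at h0; linarith)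
  have e1 : q * T.m 0 = 2 * T.m 1 := mul_left_cancel₀ w1.ne' (by rw [ha'] at h1; linarith)
  have hpq : p * q = 4 := mul_right_cancel₀ m0.ne' (by
    have : p * (q * T.m 0) = p * (2 * T.m 1) := by rw [e1]
    linarith)
  have : p ≤ 4 := by nlinarith
  have : q ≤ 4 := by nlinarith
  have d0 := (hall 0).2; have d1 := (hall 1).2
  have s := Groth.ModelsGraphs.a_comm T 1 0
  interval_cases p <;> interval_cases q <;> norm_num at hpq
  · exact ⟨1, 0, T.m 0, T.w 1, by decide, (hall 1).1, (hall 0).1, Or.inr (by omega)⟩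
  · exact ⟨0, 1, T.m 0, T.w 0, by decide, (hall 0).1, (hall 1).1, Or.inl (by omega)⟩
  · exact ⟨0, 1, T.m 1, T.w 0, by decide, (hall 0).1, (hall 1).1, Or.inr (by omega)⟩

end Groth.Agent.S7362
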