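import Groth.Statements.S7369
import Groth.Agent.ModelsGraphs.AffineMain

set_option autoImplicit false
set_option linter.unusedSimpArgs false
open Finset
open Models Models.NumericalType

namespace Groth.Agent.S7369

/-- Genus one classification: case n = 8: let T be a minimal numerical type of genus 1 on 8 indices.
Then all g_i = 0 and, for some permutation σ of the indices and some integers m, w, the
multiplicities, weights and intersection matrix (m_{σ(i)}, w_{σ(i)}, a_{σ(i)σ(j)}) are those of one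
of the following 8 types: [cycle] m = (m, m, m, m, m, m, m, m), w = (w, w, w, w, w, w, w, w), a =
(-2 * w w 0 0 0 0 0 w / w -2 * w w 0 0 0 0 0 / 0 w -2 * w w 0 0 0 0 / 0 0 w -2 * w w 0 0 0 / 0 0 0 w
-2 * w w 0 0 / 0 0 0 0 w -2 * w w 0 / 0 0 0 0 0 w -2 * w w / w 0 0 0 0 0 w -2 * w); [up chain equal
up] m = (2 * m, 2 * m, 2 * m, 2 * m, 2 * m, 2 * m, 2 * m, m), w = (w, 2 * w, 2 * w, 2 * w, 2 * w, 2
* w, 2 * w, 4 * w), a = (-2 * w 2 * w 0 0 0 0 0 0 / 2 * w -4 * w 2 * w 0 0 0 0 0 / 0 2 * w -4 * w 2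
* w 0 0 0 0 / 0 0 2 * w -4 * w 2 * w 0 0 0 / 0 0 0 2 * w -4 * w 2 * w 0 0 / 0 0 0 0 2 * w -4 * w 2 *
w 0 / 0 0 0 0 0 2 * w -4 * w 4 * w / 0 0 0 0 0 0 4 * w -8 * w); [up chain equal down] m = (m, m, m,
m, m, m, m, m), w = (w, 2 * w, 2 * w, 2 * w, 2 * w, 2 * w, 2 * w, w), a = (-2 * w 2 * w 0 0 0 0 0 0
/ 2 * w -4 * w 2 * w 0 0 0 0 0 / 0 2 * w -4 * w 2 * w 0 0 0 0 / 0 0 2 * w -4 * w 2 * w 0 0 0 / 0 0 0
2 * w -4 * w 2 * w 0 0 / 0 0 0 0 2 * w -4 * w 2 * w 0 / 0 0 0 0 0 2 * w -4 * w 2 * w / 0 0 0 0 0 0 2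
* w -2 * w); [down chain equal up] m = (m, 2 * m, 2 * m, 2 * m, 2 * m, 2 * m, 2 * m, m), w = (2 * w,
w, w, w, w, w, w, 2 * w), a = (-4 * w 2 * w 0 0 0 0 0 0 / 2 * w -2 * w w 0 0 0 0 0 / 0 w -2 * w w 0
0 0 0 / 0 0 w -2 * w w 0 0 0 / 0 0 0 w -2 * w w 0 0 / 0 0 0 0 w -2 * w w 0 / 0 0 0 0 0 w -2 * w 2 *
w / 0 0 0 0 0 0 2 * w -4 * w); [D extended up] m = (m, 2 * m, 2 * m, 2 * m, 2 * m, 2 * m, m, m), w =
(2 * w, w, w, w, w, w, w, w), a = (-4 * w 2 * w 0 0 0 0 0 0 / 2 * w -2 * w w 0 0 0 0 0 / 0 w -2 * w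
w 0 0 0 0 / 0 0 w -2 * w w 0 0 0 / 0 0 0 w -2 * w w 0 0 / 0 0 0 0 w -2 * w w w / 0 0 0 0 0 w -2 * w
0 / 0 0 0 0 0 w 0 -2 * w); [D extended down] m = (2 * m, 2 * m, 2 * m, 2 * m, 2 * m, 2 * m, m, m), w
= (w, 2 * w, 2 * w, 2 * w, 2 * w, 2 * w, 2 * w, 2 * w), a = (-2 * w 2 * w 0 0 0 0 0 0 / 2 * w -4 * w
2 * w 0 0 0 0 0 / 0 2 * w -4 * w 2 * w 0 0 0 0 / 0 0 2 * w -4 * w 2 * w 0 0 0 / 0 0 0 2 * w -4 * w 2
* w 0 0 / 0 0 0 0 2 * w -4 * w 2 * w 2 * w / 0 0 0 0 0 2 * w -4 * w 0 / 0 0 0 0 0 2 * w 0 -4 * w);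
[double triple] m = (m, m, 2 * m, 2 * m, 2 * m, 2 * m, m, m), w = (w, w, w, w, w, w, w, w), a = (-2
* w 0 w 0 0 0 0 0 / 0 -2 * w w 0 0 0 0 0 / w w -2 * w w 0 0 0 0 / 0 0 w -2 * w w 0 0 0 / 0 0 0 w -2
* w w 0 0 / 0 0 0 0 w -2 * w w w / 0 0 0 0 0 w -2 * w 0 / 0 0 0 0 0 w 0 -2 * w); [E7 completed] m =
(m, 2 * m, 3 * m, 4 * m, 3 * m, 2 * m, m, 2 * m), w = (w, w, w, w, w, w, w, w), a = (-2 * w w 0 0 0
0 0 0 / w -2 * w w 0 0 0 0 0 / 0 w -2 * w w 0 0 0 0 / 0 0 w -2 * w w 0 0 w / 0 0 0 w -2 * w w 0 0 /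
0 0 0 0 w -2 * w w 0 / 0 0 0 0 0 w -2 * w 0 / 0 0 0 w 0 0 0 -2 * w). Only the classification
direction is stated. (In the family with weights (w, 2w, …, 2w, w) the consecutive intersection
numbers are 2w, as divisibility by the weights forces; the published list prints w there, and omits
m_{n-2} = 2m in the two D-type families.) -/
theorem result (T : Models.NumericalType 8) (hmin : T.IsMinimal) (hg : T.genus = 1) :
    (∀ i, T.g i = 0) ∧ ∃ (σ : Equiv.Perm (Fin 8)) (m w : ℤ),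
      ((T.m (σ 0) = m ∧ T.m (σ 1) = m ∧ T.m (σ 2) = m ∧ T.m (σ 3) = m ∧ T.m (σ 4) = m ∧ T.m (σ 5) = m ∧ T.m (σ 6) = m ∧ T.m (σ 7) = m ∧ T.w (σ 0) = w ∧ T.w (σ 1) = w ∧ T.w (σ 2) = w ∧ T.w (σ 3) = w ∧ T.w (σ 4) = w ∧ T.w (σ 5) = w ∧ T.w (σ 6) = w ∧ T.w (σ 7) = w ∧ T.a (σ 0) (σ 0) = -2 * w ∧ T.a (σ 0) (σ 1) = w ∧ T.a (σ 0) (σ 2) = 0 ∧ T.a (σ 0) (σ 3) = 0 ∧ T.a (σ 0) (σ 4) = 0 ∧ T.a (σ 0) (σ 5) = 0 ∧ T.a (σ 0) (σ 6) = 0 ∧ T.a (σ 0) (σ 7) = w ∧ T.a (σ 1) (σ 1) = -2 * w ∧ T.a (σ 1) (σ 2) = w ∧ T.a (σ 1) (σ 3) = 0 ∧ T.a (σ 1) (σ 4) = 0 ∧ T.a (σ 1) (σ 5) = 0 ∧ T.a (σ 1) (σ 6) = 0 ∧ T.a (σ 1) (σ 7) = 0 ∧ T.a (σ 2) (σ 2) = -2 * w ∧ T.a (σ 2) (σ 3) = w ∧ T.a (σ 2) (σ 4) = 0 ∧ T.a (σ 2) (σ 5) = 0 ∧ T.a (σ 2) (σ 6) = 0 ∧ T.a (σ 2) (σ 7) = 0 ∧ T.a (σ 3) (σ 3) = -2 * w ∧ T.a (σ 3) (σ 4) = w ∧ T.a (σ 3) (σ 5) = 0 ∧ T.a (σ 3) (σ 6) = 0 ∧ T.a (σ 3) (σ 7) = 0 ∧ T.a (σ 4) (σ 4) = -2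 * w ∧ T.a (σ 4) (σ 5) = w ∧ T.a (σ 4) (σ 6) = 0 ∧ T.a (σ 4) (σ 7) = 0 ∧ T.a (σ 5) (σ 5) = -2 * w ∧ T.a (σ 5) (σ 6) = w ∧ T.a (σ 5) (σ 7) = 0 ∧ T.a (σ 6) (σ 6) = -2 * w ∧ T.a (σ 6) (σ 7) = w ∧ T.a (σ 7) (σ 7) = -2 * w) ∨
      (T.m (σ 0) = 2 * m ∧ T.m (σ 1) = 2 * m ∧ T.m (σ 2) = 2 * m ∧ T.m (σ 3) = 2 * m ∧ T.m (σ 4) = 2 * m ∧ T.m (σ 5) = 2 * m ∧ T.m (σ 6) = 2 * m ∧ T.m (σ 7) = m ∧ T.w (σ 0) = w ∧ T.w (σ 1) = 2 * w ∧ T.w (σ 2) = 2 * w ∧ T.w (σ 3) = 2 * w ∧ T.w (σ 4) = 2 * w ∧ T.w (σ 5) = 2 * w ∧ T.w (σ 6) = 2 * w ∧ T.w (σ 7) = 4 * w ∧ T.a (σ 0) (σ 0) = -2 * w ∧ T.a (σ 0) (σ 1) = 2 * w ∧ T.a (σ 0) (σ 2) = 0 ∧ T.a (σ 0) (σ 3) = 0 ∧ T.a (σ 0) (σ 4) = 0 ∧ T.a (σ 0) (σ 5) = 0 ∧ T.a (σ 0) (σ 6) = 0 ∧ T.a (σ 0) (σ 7) = 0 ∧ T.a (σ 1) (σ 1) = -4 * w ∧ T.a (σ 1) (σ 2) = 2 * w ∧ T.a (σ 1) (σ 3) = 0 ∧ T.a (σ 1) (σ 4) = 0 ∧ T.a (σ 1) (σ 5) = 0 ∧ T.a (σ 1) (σ 6) = 0 ∧ T.a (σ 1)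 (σ 7) = 0 ∧ T.a (σ 2) (σ 2) = -4 * w ∧ T.a (σ 2) (σ 3) = 2 * w ∧ T.a (σ 2) (σ 4) = 0 ∧ T.a (σ 2) (σ 5) = 0 ∧ T.a (σ 2) (σ 6) = 0 ∧ T.a (σ 2) (σ 7) = 0 ∧ T.a (σ 3) (σ 3) = -4 * w ∧ T.a (σ 3) (σ 4) = 2 * w ∧ T.a (σ 3) (σ 5) = 0 ∧ T.a (σ 3) (σ 6) = 0 ∧ T.a (σ 3) (σ 7) = 0 ∧ T.a (σ 4) (σ 4) = -4 * w ∧ T.a (σ 4) (σ 5) = 2 * w ∧ T.a (σ 4) (σ 6) = 0 ∧ T.a (σ 4) (σ 7) = 0 ∧ T.a (σ 5) (σ 5) = -4 * w ∧ T.a (σ 5) (σ 6) = 2 * w ∧ T.a (σ 5) (σ 7) = 0 ∧ T.a (σ 6) (σ 6) = -4 * w ∧ T.a (σ 6) (σ 7) = 4 * w ∧ T.a (σ 7) (σ 7) = -8 * w) ∨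
      (T.m (σ 0) = m ∧ T.m (σ 1) = m ∧ T.m (σ 2) = m ∧ T.m (σ 3) = m ∧ T.m (σ 4) = m ∧ T.m (σ 5) = m ∧ T.m (σ 6) = m ∧ T.m (σ 7) = m ∧ T.w (σ 0) = w ∧ T.w (σ 1) = 2 * w ∧ T.w (σ 2) = 2 * w ∧ T.w (σ 3) = 2 * w ∧ T.w (σ 4) = 2 * w ∧ T.w (σ 5) = 2 * w ∧ T.w (σ 6) = 2 * w ∧ T.w (σ 7) = w ∧ T.a (σ 0) (σ 0) = -2 * w ∧ T.a (σ 0) (σ 1) = 2 * w ∧ T.a (σ 0) (σ 2) = 0 ∧ T.a (σ 0) (σ 3) = 0 ∧ T.a (σ 0) (σ 4) = 0 ∧ T.a (σ 0) (σ 5) = 0 ∧ T.a (σ 0) (σ 6) = 0 ∧ T.a (σ 0) (σ 7) = 0 ∧ T.a (σ 1) (σ 1) = -4 * w ∧ T.a (σ 1) (σ 2) = 2 * w ∧ T.a (σ 1) (σ 3) = 0 ∧ T.a (σ 1) (σ 4) = 0 ∧ T.a (σ 1) (σ 5) = 0 ∧ T.a (σ 1) (σ 6) = 0 ∧ T.a (σ 1) (σ 7) = 0 ∧ T.a (σ 2) (σ 2) = -4 * w ∧ T.a (σ 2) (σ 3) = 2 * w ∧ T.a (σ 2) (σ 4) = 0 ∧ T.a (σ 2) (σ 5) = 0 ∧ T.a (σ 2) (σ 6) = 0 ∧ T.a (σ 2) (σ 7) = 0 ∧ T.a (σ 3) (σ 3) = -4 * w ∧ T.a (σ 3) (σ 4) = 2 * w ∧ T.a (σ 3) (σ 5) = 0 ∧ T.a (σ 3) (σ 6) = 0 ∧ T.a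 (σ 3) (σ 7) = 0 ∧ T.a (σ 4) (σ 4) = -4 * w ∧ T.a (σ 4) (σ 5) = 2 * w ∧ T.a (σ 4) (σ 6) = 0 ∧ T.a (σ 4) (σ 7) = 0 ∧ T.a (σ 5) (σ 5) = -4 * w ∧ T.a (σ 5) (σ 6) = 2 * w ∧ T.a (σ 5) (σ 7) = 0 ∧ T.a (σ 6) (σ 6) = -4 * w ∧ T.a (σ 6) (σ 7) = 2 * w ∧ T.a (σ 7) (σ 7) = -2 * w) ∨
      (T.m (σ 0) = m ∧ T.m (σ 1) = 2 * m ∧ T.m (σ 2) = 2 * m ∧ T.m (σ 3) = 2 * m ∧ T.m (σ 4) = 2 * m ∧ T.m (σ 5) = 2 * m ∧ T.m (σ 6) = 2 * m ∧ T.m (σ 7) = m ∧ T.w (σ 0) = 2 * w ∧ T.w (σ 1) = w ∧ T.w (σ 2) = w ∧ T.w (σ 3) = w ∧ T.w (σ 4) = w ∧ T.w (σ 5) = w ∧ T.w (σ 6) = w ∧ T.w (σ 7) = 2 * w ∧ T.a (σ 0) (σ 0) = -4 * w ∧ T.a (σ 0) (σ 1) = 2 * w ∧ T.a (σ 0) (σ 2) = 0 ∧ T.a (σ 0) (σ 3) = 0 ∧ T.a (σ 0) (σ 4) = 0 ∧ T.a (σ 0) (σ 5) = 0 ∧ T.a (σ 0) (σ 6) = 0 ∧ T.a (σ 0) (σ 7) = 0 ∧ T.a (σ 1) (σ 1) = -2 * w ∧ T.a (σ 1) (σ 2) = w ∧ T.a (σ 1) (σ 3) = 0 ∧ T.a (σ 1) (σ 4) = 0 ∧ T.a (σ 1) (σ 5) = 0 ∧ T.a (σ 1)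 (σ 6) = 0 ∧ T.a (σ 1) (σ 7) = 0 ∧ T.a (σ 2) (σ 2) = -2 * w ∧ T.a (σ 2) (σ 3) = w ∧ T.a (σ 2) (σ 4) = 0 ∧ T.a (σ 2) (σ 5) = 0 ∧ T.a (σ 2) (σ 6) = 0 ∧ T.a (σ 2) (σ 7) = 0 ∧ T.a (σ 3) (σ 3) = -2 * w ∧ T.a (σ 3) (σ 4) = w ∧ T.a (σ 3) (σ 5) = 0 ∧ T.a (σ 3) (σ 6) = 0 ∧ T.a (σ 3) (σ 7) = 0 ∧ T.a (σ 4) (σ 4) = -2 * w ∧ T.a (σ 4) (σ 5) = w ∧ T.a (σ 4) (σ 6) = 0 ∧ T.a (σ 4) (σ 7) = 0 ∧ T.a (σ 5) (σ 5) = -2 * w ∧ T.a (σ 5) (σ 6) = w ∧ T.a (σ 5) (σ 7) = 0 ∧ T.a (σ 6) (σ 6) = -2 * w ∧ T.a (σ 6) (σ 7) = 2 * w ∧ T.a (σ 7) (σ 7) = -4 * w) ∨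
      (T.m (σ 0) = m ∧ T.m (σ 1) = 2 * m ∧ T.m (σ 2) = 2 * m ∧ T.m (σ 3) = 2 * m ∧ T.m (σ 4) = 2 * m ∧ T.m (σ 5) = 2 * m ∧ T.m (σ 6) = m ∧ T.m (σ 7) = m ∧ T.w (σ 0) = 2 * w ∧ T.w (σ 1) = w ∧ T.w (σ 2) = w ∧ T.w (σ 3) = w ∧ T.w (σ 4) = w ∧ T.w (σ 5) = w ∧ T.w (σ 6) = w ∧ T.w (σ 7) = w ∧ T.a (σ 0) (σ 0) = -4 * w ∧ T.a (σ 0) (σ 1) = 2 * w ∧ T.a (σ 0) (σ 2) = 0 ∧ T.a (σ 0) (σ 3) = 0 ∧ T.a (σ 0) (σ 4) = 0 ∧ T.a (σ 0) (σ 5) = 0 ∧ T.a (σ 0) (σ 6) = 0 ∧ T.a (σ 0) (σ 7) = 0 ∧ T.a (σ 1) (σ 1) = -2 * w ∧ T.a (σ 1) (σ 2) = w ∧ T.a (σ 1) (σ 3) = 0 ∧ T.a (σ 1) (σ 4) = 0 ∧ T.a (σ 1) (σ 5) = 0 ∧ T.a (σ 1) (σ 6) = 0 ∧ T.a (σ 1) (σ 7) = 0 ∧ T.a (σ 2) (σ 2) = -2 * w ∧ T.a (σ 2) (σ 3) = w ∧ T.a (σ 2) (σ 4) = 0 ∧ T.a (σ 2) (σ 5) = 0 ∧ T.a (σ 2) (σ 6) = 0 ∧ T.a (σ 2) (σ 7) = 0 ∧ T.a (σ 3) (σ 3) = -2 * w ∧ T.a (σ 3) (σ 4) = w ∧ T.a (σ 3) (σ 5) = 0 ∧ T.a (σ 3) (σ 6) = 0 ∧ T.a (σ 3) (σ 7)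 = 0 ∧ T.a (σ 4) (σ 4) = -2 * w ∧ T.a (σ 4) (σ 5) = w ∧ T.a (σ 4) (σ 6) = 0 ∧ T.a (σ 4) (σ 7) = 0 ∧ T.a (σ 5) (σ 5) = -2 * w ∧ T.a (σ 5) (σ 6) = w ∧ T.a (σ 5) (σ 7) = w ∧ T.a (σ 6) (σ 6) = -2 * w ∧ T.a (σ 6) (σ 7) = 0 ∧ T.a (σ 7) (σ 7) = -2 * w) ∨
      (T.m (σ 0) = 2 * m ∧ T.m (σ 1) = 2 * m ∧ T.m (σ 2) = 2 * m ∧ T.m (σ 3) = 2 * m ∧ T.m (σ 4) = 2 * m ∧ T.m (σ 5) = 2 * m ∧ T.m (σ 6) = m ∧ T.m (σ 7) = m ∧ T.w (σ 0) = w ∧ T.w (σ 1) = 2 * w ∧ T.w (σ 2) = 2 * w ∧ T.w (σ 3) = 2 * w ∧ T.w (σ 4) = 2 * w ∧ T.w (σ 5) = 2 * w ∧ T.w (σ 6) = 2 * w ∧ T.w (σ 7) = 2 * w ∧ T.a (σ 0) (σ 0) = -2 * w ∧ T.a (σ 0) (σ 1) = 2 * w ∧ T.a (σ 0) (σ 2) = 0 ∧ T.a (σ 0) (σ 3) = 0 ∧ T.a (σ 0) (σ 4) = 0 ∧ T.a (σ 0) (σ 5) = 0 ∧ T.a (σ 0) (σ 6) = 0 ∧ T.a (σ 0) (σ 7) = 0 ∧ T.a (σ 1) (σ 1) = -4 * w ∧ T.a (σ 1) (σ 2) = 2 * w ∧ T.a (σ 1) (σ 3) = 0 ∧ T.a (σ 1) (σ 4) = 0 ∧ T.a (σ 1) (σ 5) = 0 ∧ T.a (σ 1)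 (σ 6) = 0 ∧ T.a (σ 1) (σ 7) = 0 ∧ T.a (σ 2) (σ 2) = -4 * w ∧ T.a (σ 2) (σ 3) = 2 * w ∧ T.a (σ 2) (σ 4) = 0 ∧ T.a (σ 2) (σ 5) = 0 ∧ T.a (σ 2) (σ 6) = 0 ∧ T.a (σ 2) (σ 7) = 0 ∧ T.a (σ 3) (σ 3) = -4 * w ∧ T.a (σ 3) (σ 4) = 2 * w ∧ T.a (σ 3) (σ 5) = 0 ∧ T.a (σ 3) (σ 6) = 0 ∧ T.a (σ 3) (σ 7) = 0 ∧ T.a (σ 4) (σ 4) = -4 * w ∧ T.a (σ 4) (σ 5) = 2 * w ∧ T.a (σ 4) (σ 6) = 0 ∧ T.a (σ 4) (σ 7) = 0 ∧ T.a (σ 5) (σ 5) = -4 * w ∧ T.a (σ 5) (σ 6) = 2 * w ∧ T.a (σ 5) (σ 7) = 2 * w ∧ T.a (σ 6) (σ 6) = -4 * w ∧ T.a (σ 6) (σ 7) = 0 ∧ T.a (σ 7) (σ 7) = -4 * w) ∨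
      (T.m (σ 0) = m ∧ T.m (σ 1) = m ∧ T.m (σ 2) = 2 * m ∧ T.m (σ 3) = 2 * m ∧ T.m (σ 4) = 2 * m ∧ T.m (σ 5) = 2 * m ∧ T.m (σ 6) = m ∧ T.m (σ 7) = m ∧ T.w (σ 0) = w ∧ T.w (σ 1) = w ∧ T.w (σ 2) = w ∧ T.w (σ 3) = w ∧ T.w (σ 4) = w ∧ T.w (σ 5) = w ∧ T.w (σ 6) = w ∧ T.w (σ 7) = w ∧ T.a (σ 0) (σ 0) = -2 * w ∧ T.a (σ 0) (σ 1) = 0 ∧ T.a (σ 0) (σ 2) = w ∧ T.a (σ 0) (σ 3) = 0 ∧ T.a (σ 0) (σ 4) = 0 ∧ T.a (σ 0) (σ 5) = 0 ∧ T.a (σ 0) (σ 6) = 0 ∧ T.a (σ 0) (σ 7) = 0 ∧ T.a (σ 1) (σ 1) = -2 * w ∧ T.a (σ 1) (σ 2) = w ∧ T.a (σ 1) (σ 3) = 0 ∧ T.a (σ 1) (σ 4) = 0 ∧ T.a (σ 1) (σ 5) = 0 ∧ T.a (σ 1) (σ 6) = 0 ∧ T.a (σ 1) (σ 7) = 0 ∧ T.a (σ 2) (σ 2) = -2 * w ∧ T.a (σ 2) (σ 3) = w ∧ T.a (σ 2) (σ 4) = 0 ∧ T.a (σ 2) (σ 5) = 0 ∧ T.a (σ 2) (σ 6) = 0 ∧ T.a (σ 2) (σ 7) = 0 ∧ T.a (σ 3) (σ 3) = -2 * w ∧ T.a (σ 3) (σ 4) = w ∧ T.a (σ 3) (σ 5) = 0 ∧ T.a (σ 3) (σ 6) = 0 ∧ T.a (σ 3) (σ 7) = 0 ∧ T.a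 (σ 4) (σ 4) = -2 * w ∧ T.a (σ 4) (σ 5) = w ∧ T.a (σ 4) (σ 6) = 0 ∧ T.a (σ 4) (σ 7) = 0 ∧ T.a (σ 5) (σ 5) = -2 * w ∧ T.a (σ 5) (σ 6) = w ∧ T.a (σ 5) (σ 7) = w ∧ T.a (σ 6) (σ 6) = -2 * w ∧ T.a (σ 6) (σ 7) = 0 ∧ T.a (σ 7) (σ 7) = -2 * w) ∨
      (T.m (σ 0) = m ∧ T.m (σ 1) = 2 * m ∧ T.m (σ 2) = 3 * m ∧ T.m (σ 3) = 4 * m ∧ T.m (σ 4) = 3 * m ∧ T.m (σ 5) = 2 * m ∧ T.m (σ 6) = m ∧ T.m (σ 7) = 2 * m ∧ T.w (σ 0) = w ∧ T.w (σ 1) = w ∧ T.w (σ 2) = w ∧ T.w (σ 3) = w ∧ T.w (σ 4) = w ∧ T.w (σ 5) = w ∧ T.w (σ 6) = w ∧ T.w (σ 7) = w ∧ T.a (σ 0) (σ 0) = -2 * w ∧ T.a (σ 0) (σ 1) = w ∧ T.a (σ 0) (σ 2) = 0 ∧ T.a (σ 0) (σ 3) = 0 ∧ T.a (σ 0) (σ 4) = 0 ∧ T.a (σ 0) (σ 5) = 0 ∧ T.a (σ 0) (σ 6) = 0 ∧ T.a (σ 0) (σ 7) = 0 ∧ T.a (σ 1) (σ 1) = -2 * w ∧ T.a (σ 1) (σ 2) = w ∧ T.a (σ 1) (σ 3) = 0 ∧ T.a (σ 1) (σ 4) = 0 ∧ T.a (σ 1) (σ 5) = 0 ∧ T.a (σ 1) (σ 6) = 0 ∧ T.a (σ 1) (σ 7) = 0 ∧ T.a (σ 2) (σ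 2) = -2 * w ∧ T.a (σ 2) (σ 3) = w ∧ T.a (σ 2) (σ 4) = 0 ∧ T.a (σ 2) (σ 5) = 0 ∧ T.a (σ 2) (σ 6) = 0 ∧ T.a (σ 2) (σ 7) = 0 ∧ T.a (σ 3) (σ 3) = -2 * w ∧ T.a (σ 3) (σ 4) = w ∧ T.a (σ 3) (σ 5) = 0 ∧ T.a (σ 3) (σ 6) = 0 ∧ T.a (σ 3) (σ 7) = w ∧ T.a (σ 4) (σ 4) = -2 * w ∧ T.a (σ 4) (σ 5) = w ∧ T.a (σ 4) (σ 6) = 0 ∧ T.a (σ 4) (σ 7) = 0 ∧ T.a (σ 5) (σ 5) = -2 * w ∧ T.a (σ 5) (σ 6) = w ∧ T.a (σ 5) (σ 7) = 0 ∧ T.a (σ 6) (σ 6) = -2 * w ∧ T.a (σ 6) (σ 7) = 0 ∧ T.a (σ 7) (σ 7) = -2 * w)) := by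
  obtain ⟨hg0, hd, H⟩ := Groth.ModelsGraphs.facts_of_genus_one (T := T) (by norm_num) hmin hg
  rcases H with h | h | h | h | ⟨hn, h⟩ | ⟨hn, h⟩ | ⟨hn, h⟩ | ⟨hn, h⟩ | ⟨hn, h⟩ | ⟨hn, h⟩ | ⟨hn, h⟩ | ⟨hn, h⟩ | ⟨hn, h⟩ | ⟨hn, h⟩
  · obtain ⟨f, m, w, h⟩ := h
    obtain ⟨σ, hσ⟩ := Groth.ModelsGraphs.IsListed.perm h
    obtain ⟨-, hmw, ha⟩ := h
    simp only [Groth.ModelsGraphs.cycM, Groth.ModelsGraphs.cycA, Groth.ModelsGraphs.c1M, Groth.ModelsGraphs.c1W, Groth.ModelsGraphs.c1A, Groth.ModelsGraphs.c2W, Groth.ModelsGraphs.c2A, Groth.ModelsGraphs.c3M, Groth.ModelsGraphs.c3W, Groth.ModelsGraphs.c3A, Groth.ModelsGraphs.b1M, Groth.ModelsGraphs.b1W, Groth.ModelsGraphs.b1A, Groth.ModelsGraphs.b2M, Groth.ModelsGraphs.b2W, Groth.ModelsGraphs.b2A, Groth.ModelsGraphs.dM, Groth.ModelsGraphs.dA] at hmw ha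
    obtain ⟨m0, w0⟩ := hmw 0 (by norm_num)
    obtain ⟨m1, w1⟩ := hmw 1 (by norm_num)
    obtain ⟨m2, w2⟩ := hmw 2 (by norm_num)
    obtain ⟨m3, w3⟩ := hmw 3 (by norm_num)
    obtain ⟨m4, w4⟩ := hmw 4 (by norm_num)
    obtain ⟨m5, w5⟩ := hmw 5 (by norm_num)
    obtain ⟨m6, w6⟩ := hmw 6 (by norm_num)
    obtain ⟨m7, w7⟩ := hmw 7 (by norm_num)
    have a01 := ha 0 1 (by norm_num) (by norm_num)
    have a10 := (Groth.ModelsGraphs.a_comm T (f 1) (f 0)).trans a01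
    have a02 := ha 0 2 (by norm_num) (by norm_num)
    have a20 := (Groth.ModelsGraphs.a_comm T (f 2) (f 0)).trans a02
    have a03 := ha 0 3 (by norm_num) (by norm_num)
    have a30 := (Groth.ModelsGraphs.a_comm T (f 3) (f 0)).trans a03
    have a04 := ha 0 4 (by norm_num) (by norm_num)
    have a40 := (Groth.ModelsGraphs.a_comm T (f 4) (f 0)).trans a04
    have a05 := ha 0 5 (by norm_num) (by norm_num)
    have a50 := (Groth.ModelsGraphs.a_comm T (f 5) (f 0)).trans a05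
    have a06 := ha 0 6 (by norm_num) (by norm_num)
    have a60 := (Groth.ModelsGraphs.a_comm T (f 6) (f 0)).trans a06
    have a07 := ha 0 7 (by norm_num) (by norm_num)
    have a70 := (Groth.ModelsGraphs.a_comm T (f 7) (f 0)).trans a07
    have a12 := ha 1 2 (by norm_num) (by norm_num)
    have a21 := (Groth.ModelsGraphs.a_comm T (f 2) (f 1)).trans a12
    have a13 := ha 1 3 (by norm_num) (by norm_num)
    have a31 := (Groth.ModelsGraphs.a_comm T (f 3) (f 1)).trans a13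
    have a14 := ha 1 4 (by norm_num) (by norm_num)
    have a41 := (Groth.ModelsGraphs.a_comm T (f 4) (f 1)).trans a14
    have a15 := ha 1 5 (by norm_num) (by norm_num)
    have a51 := (Groth.ModelsGraphs.a_comm T (f 5) (f 1)).trans a15
    have a16 := ha 1 6 (by norm_num) (by norm_num)
    have a61 := (Groth.ModelsGraphs.a_comm T (f 6) (f 1)).trans a16
    have a17 := ha 1 7 (by norm_num) (by norm_num)
    have a71 := (Groth.ModelsGraphs.a_comm T (f 7) (f 1)).trans a17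
    have a23 := ha 2 3 (by norm_num) (by norm_num)
    have a32 := (Groth.ModelsGraphs.a_comm T (f 3) (f 2)).trans a23
    have a24 := ha 2 4 (by norm_num) (by norm_num)
    have a42 := (Groth.ModelsGraphs.a_comm T (f 4) (f 2)).trans a24
    have a25 := ha 2 5 (by norm_num) (by norm_num)
    have a52 := (Groth.ModelsGraphs.a_comm T (f 5) (f 2)).trans a25
    have a26 := ha 2 6 (by norm_num) (by norm_num)
    have a62 := (Groth.ModelsGraphs.a_comm T (f 6) (f 2)).trans a26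
    have a27 := ha 2 7 (by norm_num) (by norm_num)
    have a72 := (Groth.ModelsGraphs.a_comm T (f 7) (f 2)).trans a27
    have a34 := ha 3 4 (by norm_num) (by norm_num)
    have a43 := (Groth.ModelsGraphs.a_comm T (f 4) (f 3)).trans a34
    have a35 := ha 3 5 (by norm_num) (by norm_num)
    have a53 := (Groth.ModelsGraphs.a_comm T (f 5) (f 3)).trans a35
    have a36 := ha 3 6 (by norm_num) (by norm_num)
    have a63 := (Groth.ModelsGraphs.a_comm T (f 6) (f 3)).trans a36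
    have a37 := ha 3 7 (by norm_num) (by norm_num)
    have a73 := (Groth.ModelsGraphs.a_comm T (f 7) (f 3)).trans a37
    have a45 := ha 4 5 (by norm_num) (by norm_num)
    have a54 := (Groth.ModelsGraphs.a_comm T (f 5) (f 4)).trans a45
    have a46 := ha 4 6 (by norm_num) (by norm_num)
    have a64 := (Groth.ModelsGraphs.a_comm T (f 6) (f 4)).trans a46
    have a47 := ha 4 7 (by norm_num) (by norm_num)
    have a74 := (Groth.ModelsGraphs.a_comm T (f 7) (f 4)).trans a47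
    have a56 := ha 5 6 (by norm_num) (by norm_num)
    have a65 := (Groth.ModelsGraphs.a_comm T (f 6) (f 5)).trans a56
    have a57 := ha 5 7 (by norm_num) (by norm_num)
    have a75 := (Groth.ModelsGraphs.a_comm T (f 7) (f 5)).trans a57
    have a67 := ha 6 7 (by norm_num) (by norm_num)
    have a76 := (Groth.ModelsGraphs.a_comm T (f 7) (f 6)).trans a67
    refine ⟨hg0, σ, m, w, Or.inl ?_⟩
    simp only [hσ, Fin.isValue, Fin.val_zero, Fin.val_one, Fin.val_two, Fin.reduceFinMk, Fin.val_natCast, Fin.coe_ofNat_eq_mod, Nat.reduceMod, a01, a10, a02, a20, a03, a30, a04, a40, a05, a50, a06, a60, a07, a70, a12, a21, a13, a31, a14, a41, a15, a51, a16, a61, a17, a71, a23, a32, a24, a42, a25, a52, a26, a62, a27, a72, a34, a43, a35, a53, a36, a63, a37, a73, a45, a54, a46, a64, a47, a74, a56, a65, a57, a75, a67, a76, hd (f 0), hd (f 1), hd (f 2), hd (f 3), hd (f 4), hd (f 5),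 hd (f 6), hd (f 7), m0, m1, m2, m3, m4, m5, m6, m7, w0, w1, w2, w3, w4, w5, w6, w7]
    and_intros <;> simp <;> omega
  · obtain ⟨f, m, w, h⟩ := h
    obtain ⟨σ, hσ⟩ := Groth.ModelsGraphs.IsListed.perm h
    obtain ⟨-, hmw, ha⟩ := h
    simp only [Groth.ModelsGraphs.cycM, Groth.ModelsGraphs.cycA, Groth.ModelsGraphs.c1M, Groth.ModelsGraphs.c1W, Groth.ModelsGraphs.c1A, Groth.ModelsGraphs.c2W, Groth.ModelsGraphs.c2A, Groth.ModelsGraphs.c3M, Groth.ModelsGraphs.c3W, Groth.ModelsGraphs.c3A, Groth.ModelsGraphs.b1M, Groth.ModelsGraphs.b1W, Groth.ModelsGraphs.b1A, Groth.ModelsGraphs.b2M, Groth.ModelsGraphs.b2W, Groth.ModelsGraphs.b2A, Groth.ModelsGraphs.dM, Groth.ModelsGraphs.dA] at hmw ha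
    obtain ⟨m0, w0⟩ := hmw 0 (by norm_num)
    obtain ⟨m1, w1⟩ := hmw 1 (by norm_num)
    obtain ⟨m2, w2⟩ := hmw 2 (by norm_num)
    obtain ⟨m3, w3⟩ := hmw 3 (by norm_num)
    obtain ⟨m4, w4⟩ := hmw 4 (by norm_num)
    obtain ⟨m5, w5⟩ := hmw 5 (by norm_num)
    obtain ⟨m6, w6⟩ := hmw 6 (by norm_num)
    obtain ⟨m7, w7⟩ := hmw 7 (by norm_num)
    have a01 := ha 0 1 (by norm_num) (by norm_num)
    have a10 := (Groth.ModelsGraphs.a_comm T (f 1) (f 0)).trans a01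
    have a02 := ha 0 2 (by norm_num) (by norm_num)
    have a20 := (Groth.ModelsGraphs.a_comm T (f 2) (f 0)).trans a02
    have a03 := ha 0 3 (by norm_num) (by norm_num)
    have a30 := (Groth.ModelsGraphs.a_comm T (f 3) (f 0)).trans a03
    have a04 := ha 0 4 (by norm_num) (by norm_num)
    have a40 := (Groth.ModelsGraphs.a_comm T (f 4) (f 0)).trans a04
    have a05 := ha 0 5 (by norm_num) (by norm_num)
    have a50 := (Groth.ModelsGraphs.a_comm T (f 5) (f 0)).trans a05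
    have a06 := ha 0 6 (by norm_num) (by norm_num)
    have a60 := (Groth.ModelsGraphs.a_comm T (f 6) (f 0)).trans a06
    have a07 := ha 0 7 (by norm_num) (by norm_num)
    have a70 := (Groth.ModelsGraphs.a_comm T (f 7) (f 0)).trans a07
    have a12 := ha 1 2 (by norm_num) (by norm_num)
    have a21 := (Groth.ModelsGraphs.a_comm T (f 2) (f 1)).trans a12
    have a13 := ha 1 3 (by norm_num) (by norm_num)
    have a31 := (Groth.ModelsGraphs.a_comm T (f 3) (f 1)).trans a13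
    have a14 := ha 1 4 (by norm_num) (by norm_num)
    have a41 := (Groth.ModelsGraphs.a_comm T (f 4) (f 1)).trans a14
    have a15 := ha 1 5 (by norm_num) (by norm_num)
    have a51 := (Groth.ModelsGraphs.a_comm T (f 5) (f 1)).trans a15
    have a16 := ha 1 6 (by norm_num) (by norm_num)
    have a61 := (Groth.ModelsGraphs.a_comm T (f 6) (f 1)).trans a16
    have a17 := ha 1 7 (by norm_num) (by norm_num)
    have a71 := (Groth.ModelsGraphs.a_comm T (f 7) (f 1)).trans a17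
    have a23 := ha 2 3 (by norm_num) (by norm_num)
    have a32 := (Groth.ModelsGraphs.a_comm T (f 3) (f 2)).trans a23
    have a24 := ha 2 4 (by norm_num) (by norm_num)
    have a42 := (Groth.ModelsGraphs.a_comm T (f 4) (f 2)).trans a24
    have a25 := ha 2 5 (by norm_num) (by norm_num)
    have a52 := (Groth.ModelsGraphs.a_comm T (f 5) (f 2)).trans a25
    have a26 := ha 2 6 (by norm_num) (by norm_num)
    have a62 := (Groth.ModelsGraphs.a_comm T (f 6) (f 2)).trans a26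
    have a27 := ha 2 7 (by norm_num) (by norm_num)
    have a72 := (Groth.ModelsGraphs.a_comm T (f 7) (f 2)).trans a27
    have a34 := ha 3 4 (by norm_num) (by norm_num)
    have a43 := (Groth.ModelsGraphs.a_comm T (f 4) (f 3)).trans a34
    have a35 := ha 3 5 (by norm_num) (by norm_num)
    have a53 := (Groth.ModelsGraphs.a_comm T (f 5) (f 3)).trans a35
    have a36 := ha 3 6 (by norm_num) (by norm_num)
    have a63 := (Groth.ModelsGraphs.a_comm T (f 6) (f 3)).trans a36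
    have a37 := ha 3 7 (by norm_num) (by norm_num)
    have a73 := (Groth.ModelsGraphs.a_comm T (f 7) (f 3)).trans a37
    have a45 := ha 4 5 (by norm_num) (by norm_num)
    have a54 := (Groth.ModelsGraphs.a_comm T (f 5) (f 4)).trans a45
    have a46 := ha 4 6 (by norm_num) (by norm_num)
    have a64 := (Groth.ModelsGraphs.a_comm T (f 6) (f 4)).trans a46
    have a47 := ha 4 7 (by norm_num) (by norm_num)
    have a74 := (Groth.ModelsGraphs.a_comm T (f 7) (f 4)).trans a47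
    have a56 := ha 5 6 (by norm_num) (by norm_num)
    have a65 := (Groth.ModelsGraphs.a_comm T (f 6) (f 5)).trans a56
    have a57 := ha 5 7 (by norm_num) (by norm_num)
    have a75 := (Groth.ModelsGraphs.a_comm T (f 7) (f 5)).trans a57
    have a67 := ha 6 7 (by norm_num) (by norm_num)
    have a76 := (Groth.ModelsGraphs.a_comm T (f 7) (f 6)).trans a67
    refine ⟨hg0, σ, m, w, Or.inr (Or.inl ?_)⟩
    simp only [hσ, Fin.isValue, Fin.val_zero, Fin.val_one, Fin.val_two, Fin.reduceFinMk, Fin.val_natCast, Fin.coe_ofNat_eq_mod, Nat.reduceMod, a01, a10, a02, a20, a03, a30, a04, a40, a05, a50, a06, a60, a07, a70, a12, a21, a13, a31, a14, a41, a15, a51, a16, a61, a17, a71, a23, a32, a24, a42, a25, a52, a26, a62, a27, a72, a34, a43, a35, a53, a36, a63, a37, a73, a45, a54, a46, a64, a47, a74, a56, a65, a57, a75, a67, a76, hd (f 0), hd (f 1), hd (f 2), hd (f 3), hd (f 4),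 hd (f 5), hd (f 6), hd (f 7), m0, m1, m2, m3, m4, m5, m6, m7, w0, w1, w2, w3, w4, w5, w6, w7]
    and_intros <;> simp <;> omega
  · obtain ⟨f, m, w, h⟩ := h
    obtain ⟨σ, hσ⟩ := Groth.ModelsGraphs.IsListed.perm h
    obtain ⟨-, hmw, ha⟩ := h
    simp only [Groth.ModelsGraphs.cycM, Groth.ModelsGraphs.cycA, Groth.ModelsGraphs.c1M, Groth.ModelsGraphs.c1W, Groth.ModelsGraphs.c1A, Groth.ModelsGraphs.c2W, Groth.ModelsGraphs.c2A, Groth.ModelsGraphs.c3M, Groth.ModelsGraphs.c3W, Groth.ModelsGraphs.c3A, Groth.ModelsGraphs.b1M, Groth.ModelsGraphs.b1W, Groth.ModelsGraphs.b1A, Groth.ModelsGraphs.b2M, Groth.ModelsGraphs.b2W, Groth.ModelsGraphs.b2A, Groth.ModelsGraphs.dM, Groth.ModelsGraphs.dA] at hmw ha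
    obtain ⟨m0, w0⟩ := hmw 0 (by norm_num)
    obtain ⟨m1, w1⟩ := hmw 1 (by norm_num)
    obtain ⟨m2, w2⟩ := hmw 2 (by norm_num)
    obtain ⟨m3, w3⟩ := hmw 3 (by norm_num)
    obtain ⟨m4, w4⟩ := hmw 4 (by norm_num)
    obtain ⟨m5, w5⟩ := hmw 5 (by norm_num)
    obtain ⟨m6, w6⟩ := hmw 6 (by norm_num)
    obtain ⟨m7, w7⟩ := hmw 7 (by norm_num)
    have a01 := ha 0 1 (by norm_num) (by norm_num)
    have a10 := (Groth.ModelsGraphs.a_comm T (f 1) (f 0)).trans a01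
    have a02 := ha 0 2 (by norm_num) (by norm_num)
    have a20 := (Groth.ModelsGraphs.a_comm T (f 2) (f 0)).trans a02
    have a03 := ha 0 3 (by norm_num) (by norm_num)
    have a30 := (Groth.ModelsGraphs.a_comm T (f 3) (f 0)).trans a03
    have a04 := ha 0 4 (by norm_num) (by norm_num)
    have a40 := (Groth.ModelsGraphs.a_comm T (f 4) (f 0)).trans a04
    have a05 := ha 0 5 (by norm_num) (by norm_num)
    have a50 := (Groth.ModelsGraphs.a_comm T (f 5) (f 0)).trans a05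
    have a06 := ha 0 6 (by norm_num) (by norm_num)
    have a60 := (Groth.ModelsGraphs.a_comm T (f 6) (f 0)).trans a06
    have a07 := ha 0 7 (by norm_num) (by norm_num)
    have a70 := (Groth.ModelsGraphs.a_comm T (f 7) (f 0)).trans a07
    have a12 := ha 1 2 (by norm_num) (by norm_num)
    have a21 := (Groth.ModelsGraphs.a_comm T (f 2) (f 1)).trans a12
    have a13 := ha 1 3 (by norm_num) (by norm_num)
    have a31 := (Groth.ModelsGraphs.a_comm T (f 3) (f 1)).trans a13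
    have a14 := ha 1 4 (by norm_num) (by norm_num)
    have a41 := (Groth.ModelsGraphs.a_comm T (f 4) (f 1)).trans a14
    have a15 := ha 1 5 (by norm_num) (by norm_num)
    have a51 := (Groth.ModelsGraphs.a_comm T (f 5) (f 1)).trans a15
    have a16 := ha 1 6 (by norm_num) (by norm_num)
    have a61 := (Groth.ModelsGraphs.a_comm T (f 6) (f 1)).trans a16
    have a17 := ha 1 7 (by norm_num) (by norm_num)
    have a71 := (Groth.ModelsGraphs.a_comm T (f 7) (f 1)).trans a17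
    have a23 := ha 2 3 (by norm_num) (by norm_num)
    have a32 := (Groth.ModelsGraphs.a_comm T (f 3) (f 2)).trans a23
    have a24 := ha 2 4 (by norm_num) (by norm_num)
    have a42 := (Groth.ModelsGraphs.a_comm T (f 4) (f 2)).trans a24
    have a25 := ha 2 5 (by norm_num) (by norm_num)
    have a52 := (Groth.ModelsGraphs.a_comm T (f 5) (f 2)).trans a25
    have a26 := ha 2 6 (by norm_num) (by norm_num)
    have a62 := (Groth.ModelsGraphs.a_comm T (f 6) (f 2)).trans a26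
    have a27 := ha 2 7 (by norm_num) (by norm_num)
    have a72 := (Groth.ModelsGraphs.a_comm T (f 7) (f 2)).trans a27
    have a34 := ha 3 4 (by norm_num) (by norm_num)
    have a43 := (Groth.ModelsGraphs.a_comm T (f 4) (f 3)).trans a34
    have a35 := ha 3 5 (by norm_num) (by norm_num)
    have a53 := (Groth.ModelsGraphs.a_comm T (f 5) (f 3)).trans a35
    have a36 := ha 3 6 (by norm_num) (by norm_num)
    have a63 := (Groth.ModelsGraphs.a_comm T (f 6) (f 3)).trans a36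
    have a37 := ha 3 7 (by norm_num) (by norm_num)
    have a73 := (Groth.ModelsGraphs.a_comm T (f 7) (f 3)).trans a37
    have a45 := ha 4 5 (by norm_num) (by norm_num)
    have a54 := (Groth.ModelsGraphs.a_comm T (f 5) (f 4)).trans a45
    have a46 := ha 4 6 (by norm_num) (by norm_num)
    have a64 := (Groth.ModelsGraphs.a_comm T (f 6) (f 4)).trans a46
    have a47 := ha 4 7 (by norm_num) (by norm_num)
    have a74 := (Groth.ModelsGraphs.a_comm T (f 7) (f 4)).trans a47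
    have a56 := ha 5 6 (by norm_num) (by norm_num)
    have a65 := (Groth.ModelsGraphs.a_comm T (f 6) (f 5)).trans a56
    have a57 := ha 5 7 (by norm_num) (by norm_num)
    have a75 := (Groth.ModelsGraphs.a_comm T (f 7) (f 5)).trans a57
    have a67 := ha 6 7 (by norm_num) (by norm_num)
    have a76 := (Groth.ModelsGraphs.a_comm T (f 7) (f 6)).trans a67
    refine ⟨hg0, σ, m, w, Or.inr (Or.inr (Or.inl ?_))⟩
    simp only [hσ, Fin.isValue, Fin.val_zero, Fin.val_one, Fin.val_two, Fin.reduceFinMk, Fin.val_natCast, Fin.coe_ofNat_eq_mod, Nat.reduceMod, a01, a10, a02, a20, a03, a30, a04, a40, a05, a50, a06, a60, a07, a70, a12, a21, a13, a31, a14, a41, a15, a51, a16, a61, a17, a71, a23, a32, a24, a42, a25, a52, a26, a62, a27, a72, a34, a43, a35, a53, a36, a63, a37, a73, a45, a54, a46, a64, a47, a74, a56, a65, a57, a75, a67, a76, hd (f 0), hd (f 1), hd (f 2), hd (f 3),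 hd (f 4), hd (f 5), hd (f 6), hd (f 7), m0, m1, m2, m3, m4, m5, m6, m7, w0, w1, w2, w3, w4, w5, w6, w7]
    and_intros <;> simp <;> omega
  · obtain ⟨f, m, w, h⟩ := h
    obtain ⟨σ, hσ⟩ := Groth.ModelsGraphs.IsListed.perm h
    obtain ⟨-, hmw, ha⟩ := h
    simp only [Groth.ModelsGraphs.cycM, Groth.ModelsGraphs.cycA, Groth.ModelsGraphs.c1M, Groth.ModelsGraphs.c1W, Groth.ModelsGraphs.c1A, Groth.ModelsGraphs.c2W, Groth.ModelsGraphs.c2A, Groth.ModelsGraphs.c3M, Groth.ModelsGraphs.c3W, Groth.ModelsGraphs.c3A, Groth.ModelsGraphs.b1M, Groth.ModelsGraphs.b1W, Groth.ModelsGraphs.b1A, Groth.ModelsGraphs.b2M, Groth.ModelsGraphs.b2W, Groth.ModelsGraphs.b2A, Groth.ModelsGraphs.dM, Groth.ModelsGraphs.dA] at hmw ha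
    obtain ⟨m0, w0⟩ := hmw 0 (by norm_num)
    obtain ⟨m1, w1⟩ := hmw 1 (by norm_num)
    obtain ⟨m2, w2⟩ := hmw 2 (by norm_num)
    obtain ⟨m3, w3⟩ := hmw 3 (by norm_num)
    obtain ⟨m4, w4⟩ := hmw 4 (by norm_num)
    obtain ⟨m5, w5⟩ := hmw 5 (by norm_num)
    obtain ⟨m6, w6⟩ := hmw 6 (by norm_num)
    obtain ⟨m7, w7⟩ := hmw 7 (by norm_num)
    have a01 := ha 0 1 (by norm_num) (by norm_num)
    have a10 := (Groth.ModelsGraphs.a_comm T (f 1) (f 0)).trans a01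
    have a02 := ha 0 2 (by norm_num) (by norm_num)
    have a20 := (Groth.ModelsGraphs.a_comm T (f 2) (f 0)).trans a02
    have a03 := ha 0 3 (by norm_num) (by norm_num)
    have a30 := (Groth.ModelsGraphs.a_comm T (f 3) (f 0)).trans a03
    have a04 := ha 0 4 (by norm_num) (by norm_num)
    have a40 := (Groth.ModelsGraphs.a_comm T (f 4) (f 0)).trans a04
    have a05 := ha 0 5 (by norm_num) (by norm_num)
    have a50 := (Groth.ModelsGraphs.a_comm T (f 5) (f 0)).trans a05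
    have a06 := ha 0 6 (by norm_num) (by norm_num)
    have a60 := (Groth.ModelsGraphs.a_comm T (f 6) (f 0)).trans a06
    have a07 := ha 0 7 (by norm_num) (by norm_num)
    have a70 := (Groth.ModelsGraphs.a_comm T (f 7) (f 0)).trans a07
    have a12 := ha 1 2 (by norm_num) (by norm_num)
    have a21 := (Groth.ModelsGraphs.a_comm T (f 2) (f 1)).trans a12
    have a13 := ha 1 3 (by norm_num) (by norm_num)
    have a31 := (Groth.ModelsGraphs.a_comm T (f 3) (f 1)).trans a13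
    have a14 := ha 1 4 (by norm_num) (by norm_num)
    have a41 := (Groth.ModelsGraphs.a_comm T (f 4) (f 1)).trans a14
    have a15 := ha 1 5 (by norm_num) (by norm_num)
    have a51 := (Groth.ModelsGraphs.a_comm T (f 5) (f 1)).trans a15
    have a16 := ha 1 6 (by norm_num) (by norm_num)
    have a61 := (Groth.ModelsGraphs.a_comm T (f 6) (f 1)).trans a16
    have a17 := ha 1 7 (by norm_num) (by norm_num)
    have a71 := (Groth.ModelsGraphs.a_comm T (f 7) (f 1)).trans a17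
    have a23 := ha 2 3 (by norm_num) (by norm_num)
    have a32 := (Groth.ModelsGraphs.a_comm T (f 3) (f 2)).trans a23
    have a24 := ha 2 4 (by norm_num) (by norm_num)
    have a42 := (Groth.ModelsGraphs.a_comm T (f 4) (f 2)).trans a24
    have a25 := ha 2 5 (by norm_num) (by norm_num)
    have a52 := (Groth.ModelsGraphs.a_comm T (f 5) (f 2)).trans a25
    have a26 := ha 2 6 (by norm_num) (by norm_num)
    have a62 := (Groth.ModelsGraphs.a_comm T (f 6) (f 2)).trans a26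
    have a27 := ha 2 7 (by norm_num) (by norm_num)
    have a72 := (Groth.ModelsGraphs.a_comm T (f 7) (f 2)).trans a27
    have a34 := ha 3 4 (by norm_num) (by norm_num)
    have a43 := (Groth.ModelsGraphs.a_comm T (f 4) (f 3)).trans a34
    have a35 := ha 3 5 (by norm_num) (by norm_num)
    have a53 := (Groth.ModelsGraphs.a_comm T (f 5) (f 3)).trans a35
    have a36 := ha 3 6 (by norm_num) (by norm_num)
    have a63 := (Groth.ModelsGraphs.a_comm T (f 6) (f 3)).trans a36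
    have a37 := ha 3 7 (by norm_num) (by norm_num)
    have a73 := (Groth.ModelsGraphs.a_comm T (f 7) (f 3)).trans a37
    have a45 := ha 4 5 (by norm_num) (by norm_num)
    have a54 := (Groth.ModelsGraphs.a_comm T (f 5) (f 4)).trans a45
    have a46 := ha 4 6 (by norm_num) (by norm_num)
    have a64 := (Groth.ModelsGraphs.a_comm T (f 6) (f 4)).trans a46
    have a47 := ha 4 7 (by norm_num) (by norm_num)
    have a74 := (Groth.ModelsGraphs.a_comm T (f 7) (f 4)).trans a47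
    have a56 := ha 5 6 (by norm_num) (by norm_num)
    have a65 := (Groth.ModelsGraphs.a_comm T (f 6) (f 5)).trans a56
    have a57 := ha 5 7 (by norm_num) (by norm_num)
    have a75 := (Groth.ModelsGraphs.a_comm T (f 7) (f 5)).trans a57
    have a67 := ha 6 7 (by norm_num) (by norm_num)
    have a76 := (Groth.ModelsGraphs.a_comm T (f 7) (f 6)).trans a67
    refine ⟨hg0, σ, m, w, Or.inr (Or.inr (Or.inr (Or.inl ?_)))⟩
    simp only [hσ, Fin.isValue, Fin.val_zero, Fin.val_one, Fin.val_two, Fin.reduceFinMk, Fin.val_natCast, Fin.coe_ofNat_eq_mod, Nat.reduceMod, a01, a10, a02, a20, a03, a30, a04, a40, a05, a50, a06, a60, a07, a70, a12, a21, a13, a31, a14, a41, a15, a51, a16, a61, a17, a71, a23, a32, a24, a42, a25, a52, a26, a62, a27, a72, a34, a43, a35, a53, a36, a63, a37, a73, a45, a54, a46, a64, a47, a74, a56, a65, a57, a75, a67, a76, hd (f 0), hd (f 1), hd (f 2), hd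 (f 3), hd (f 4), hd (f 5), hd (f 6), hd (f 7), m0, m1, m2, m3, m4, m5, m6, m7, w0, w1, w2, w3, w4, w5, w6, w7]
    and_intros <;> simp <;> omega
  · obtain ⟨f, m, w, h⟩ := h
    obtain ⟨σ, hσ⟩ := Groth.ModelsGraphs.IsListed.perm h
    obtain ⟨-, hmw, ha⟩ := h
    simp only [Groth.ModelsGraphs.cycM, Groth.ModelsGraphs.cycA, Groth.ModelsGraphs.c1M, Groth.ModelsGraphs.c1W, Groth.ModelsGraphs.c1A, Groth.ModelsGraphs.c2W, Groth.ModelsGraphs.c2A, Groth.ModelsGraphs.c3M, Groth.ModelsGraphs.c3W, Groth.ModelsGraphs.c3A, Groth.ModelsGraphs.b1M, Groth.ModelsGraphs.b1W, Groth.ModelsGraphs.b1A, Groth.ModelsGraphs.b2M, Groth.ModelsGraphs.b2W, Groth.ModelsGraphs.b2A, Groth.ModelsGraphs.dM, Groth.ModelsGraphs.dA] at hmw ha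
    obtain ⟨m0, w0⟩ := hmw 0 (by norm_num)
    obtain ⟨m1, w1⟩ := hmw 1 (by norm_num)
    obtain ⟨m2, w2⟩ := hmw 2 (by norm_num)
    obtain ⟨m3, w3⟩ := hmw 3 (by norm_num)
    obtain ⟨m4, w4⟩ := hmw 4 (by norm_num)
    obtain ⟨m5, w5⟩ := hmw 5 (by norm_num)
    obtain ⟨m6, w6⟩ := hmw 6 (by norm_num)
    obtain ⟨m7, w7⟩ := hmw 7 (by norm_num)
    have a01 := ha 0 1 (by norm_num) (by norm_num)
    have a10 := (Groth.ModelsGraphs.a_comm T (f 1) (f 0)).trans a01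
    have a02 := ha 0 2 (by norm_num) (by norm_num)
    have a20 := (Groth.ModelsGraphs.a_comm T (f 2) (f 0)).trans a02
    have a03 := ha 0 3 (by norm_num) (by norm_num)
    have a30 := (Groth.ModelsGraphs.a_comm T (f 3) (f 0)).trans a03
    have a04 := ha 0 4 (by norm_num) (by norm_num)
    have a40 := (Groth.ModelsGraphs.a_comm T (f 4) (f 0)).trans a04
    have a05 := ha 0 5 (by norm_num) (by norm_num)
    have a50 := (Groth.ModelsGraphs.a_comm T (f 5) (f 0)).trans a05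
    have a06 := ha 0 6 (by norm_num) (by norm_num)
    have a60 := (Groth.ModelsGraphs.a_comm T (f 6) (f 0)).trans a06
    have a07 := ha 0 7 (by norm_num) (by norm_num)
    have a70 := (Groth.ModelsGraphs.a_comm T (f 7) (f 0)).trans a07
    have a12 := ha 1 2 (by norm_num) (by norm_num)
    have a21 := (Groth.ModelsGraphs.a_comm T (f 2) (f 1)).trans a12
    have a13 := ha 1 3 (by norm_num) (by norm_num)
    have a31 := (Groth.ModelsGraphs.a_comm T (f 3) (f 1)).trans a13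
    have a14 := ha 1 4 (by norm_num) (by norm_num)
    have a41 := (Groth.ModelsGraphs.a_comm T (f 4) (f 1)).trans a14
    have a15 := ha 1 5 (by norm_num) (by norm_num)
    have a51 := (Groth.ModelsGraphs.a_comm T (f 5) (f 1)).trans a15
    have a16 := ha 1 6 (by norm_num) (by norm_num)
    have a61 := (Groth.ModelsGraphs.a_comm T (f 6) (f 1)).trans a16
    have a17 := ha 1 7 (by norm_num) (by norm_num)
    have a71 := (Groth.ModelsGraphs.a_comm T (f 7) (f 1)).trans a17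
    have a23 := ha 2 3 (by norm_num) (by norm_num)
    have a32 := (Groth.ModelsGraphs.a_comm T (f 3) (f 2)).trans a23
    have a24 := ha 2 4 (by norm_num) (by norm_num)
    have a42 := (Groth.ModelsGraphs.a_comm T (f 4) (f 2)).trans a24
    have a25 := ha 2 5 (by norm_num) (by norm_num)
    have a52 := (Groth.ModelsGraphs.a_comm T (f 5) (f 2)).trans a25
    have a26 := ha 2 6 (by norm_num) (by norm_num)
    have a62 := (Groth.ModelsGraphs.a_comm T (f 6) (f 2)).trans a26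
    have a27 := ha 2 7 (by norm_num) (by norm_num)
    have a72 := (Groth.ModelsGraphs.a_comm T (f 7) (f 2)).trans a27
    have a34 := ha 3 4 (by norm_num) (by norm_num)
    have a43 := (Groth.ModelsGraphs.a_comm T (f 4) (f 3)).trans a34
    have a35 := ha 3 5 (by norm_num) (by norm_num)
    have a53 := (Groth.ModelsGraphs.a_comm T (f 5) (f 3)).trans a35
    have a36 := ha 3 6 (by norm_num) (by norm_num)
    have a63 := (Groth.ModelsGraphs.a_comm T (f 6) (f 3)).trans a36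
    have a37 := ha 3 7 (by norm_num) (by norm_num)
    have a73 := (Groth.ModelsGraphs.a_comm T (f 7) (f 3)).trans a37
    have a45 := ha 4 5 (by norm_num) (by norm_num)
    have a54 := (Groth.ModelsGraphs.a_comm T (f 5) (f 4)).trans a45
    have a46 := ha 4 6 (by norm_num) (by norm_num)
    have a64 := (Groth.ModelsGraphs.a_comm T (f 6) (f 4)).trans a46
    have a47 := ha 4 7 (by norm_num) (by norm_num)
    have a74 := (Groth.ModelsGraphs.a_comm T (f 7) (f 4)).trans a47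
    have a56 := ha 5 6 (by norm_num) (by norm_num)
    have a65 := (Groth.ModelsGraphs.a_comm T (f 6) (f 5)).trans a56
    have a57 := ha 5 7 (by norm_num) (by norm_num)
    have a75 := (Groth.ModelsGraphs.a_comm T (f 7) (f 5)).trans a57
    have a67 := ha 6 7 (by norm_num) (by norm_num)
    have a76 := (Groth.ModelsGraphs.a_comm T (f 7) (f 6)).trans a67
    refine ⟨hg0, σ, m, w, Or.inr (Or.inr (Or.inr (Or.inr (Or.inl ?_))))⟩
    simp only [hσ, Fin.isValue, Fin.val_zero, Fin.val_one, Fin.val_two, Fin.reduceFinMk, Fin.val_natCast, Fin.coe_ofNat_eq_mod, Nat.reduceMod, a01, a10, a02, a20, a03, a30, a04, a40, a05, a50, a06, a60, a07, a70, a12, a21, a13, a31, a14, a41, a15, a51, a16, a61, a17, a71, a23, a32, a24, a42, a25, a52, a26, a62, a27, a72, a34, a43, a35, a53, a36, a63, a37, a73, a45, a54, a46, a64, a47, a74, a56, a65, a57, a75, a67, a76, hd (f 0), hd (f 1), hd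 (f 2), hd (f 3), hd (f 4), hd (f 5), hd (f 6), hd (f 7), m0, m1, m2, m3, m4, m5, m6, m7, w0, w1, w2, w3, w4, w5, w6, w7]
    and_intros <;> simp <;> omega
  · obtain ⟨f, m, w, h⟩ := h
    obtain ⟨σ, hσ⟩ := Groth.ModelsGraphs.IsListed.perm h
    obtain ⟨-, hmw, ha⟩ := h
    simp only [Groth.ModelsGraphs.cycM, Groth.ModelsGraphs.cycA, Groth.ModelsGraphs.c1M, Groth.ModelsGraphs.c1W, Groth.ModelsGraphs.c1A, Groth.ModelsGraphs.c2W, Groth.ModelsGraphs.c2A, Groth.ModelsGraphs.c3M, Groth.ModelsGraphs.c3W, Groth.ModelsGraphs.c3A, Groth.ModelsGraphs.b1M, Groth.ModelsGraphs.b1W, Groth.ModelsGraphs.b1A, Groth.ModelsGraphs.b2M, Groth.ModelsGraphs.b2W, Groth.ModelsGraphs.b2A, Groth.ModelsGraphs.dM, Groth.ModelsGraphs.dA] at hmw ha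
    obtain ⟨m0, w0⟩ := hmw 0 (by norm_num)
    obtain ⟨m1, w1⟩ := hmw 1 (by norm_num)
    obtain ⟨m2, w2⟩ := hmw 2 (by norm_num)
    obtain ⟨m3, w3⟩ := hmw 3 (by norm_num)
    obtain ⟨m4, w4⟩ := hmw 4 (by norm_num)
    obtain ⟨m5, w5⟩ := hmw 5 (by norm_num)
    obtain ⟨m6, w6⟩ := hmw 6 (by norm_num)
    obtain ⟨m7, w7⟩ := hmw 7 (by norm_num)
    have a01 := ha 0 1 (by norm_num) (by norm_num)
    have a10 := (Groth.ModelsGraphs.a_comm T (f 1) (f 0)).trans a01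
    have a02 := ha 0 2 (by norm_num) (by norm_num)
    have a20 := (Groth.ModelsGraphs.a_comm T (f 2) (f 0)).trans a02
    have a03 := ha 0 3 (by norm_num) (by norm_num)
    have a30 := (Groth.ModelsGraphs.a_comm T (f 3) (f 0)).trans a03
    have a04 := ha 0 4 (by norm_num) (by norm_num)
    have a40 := (Groth.ModelsGraphs.a_comm T (f 4) (f 0)).trans a04
    have a05 := ha 0 5 (by norm_num) (by norm_num)
    have a50 := (Groth.ModelsGraphs.a_comm T (f 5) (f 0)).trans a05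
    have a06 := ha 0 6 (by norm_num) (by norm_num)
    have a60 := (Groth.ModelsGraphs.a_comm T (f 6) (f 0)).trans a06
    have a07 := ha 0 7 (by norm_num) (by norm_num)
    have a70 := (Groth.ModelsGraphs.a_comm T (f 7) (f 0)).trans a07
    have a12 := ha 1 2 (by norm_num) (by norm_num)
    have a21 := (Groth.ModelsGraphs.a_comm T (f 2) (f 1)).trans a12
    have a13 := ha 1 3 (by norm_num) (by norm_num)
    have a31 := (Groth.ModelsGraphs.a_comm T (f 3) (f 1)).trans a13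
    have a14 := ha 1 4 (by norm_num) (by norm_num)
    have a41 := (Groth.ModelsGraphs.a_comm T (f 4) (f 1)).trans a14
    have a15 := ha 1 5 (by norm_num) (by norm_num)
    have a51 := (Groth.ModelsGraphs.a_comm T (f 5) (f 1)).trans a15
    have a16 := ha 1 6 (by norm_num) (by norm_num)
    have a61 := (Groth.ModelsGraphs.a_comm T (f 6) (f 1)).trans a16
    have a17 := ha 1 7 (by norm_num) (by norm_num)
    have a71 := (Groth.ModelsGraphs.a_comm T (f 7) (f 1)).trans a17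
    have a23 := ha 2 3 (by norm_num) (by norm_num)
    have a32 := (Groth.ModelsGraphs.a_comm T (f 3) (f 2)).trans a23
    have a24 := ha 2 4 (by norm_num) (by norm_num)
    have a42 := (Groth.ModelsGraphs.a_comm T (f 4) (f 2)).trans a24
    have a25 := ha 2 5 (by norm_num) (by norm_num)
    have a52 := (Groth.ModelsGraphs.a_comm T (f 5) (f 2)).trans a25
    have a26 := ha 2 6 (by norm_num) (by norm_num)
    have a62 := (Groth.ModelsGraphs.a_comm T (f 6) (f 2)).trans a26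
    have a27 := ha 2 7 (by norm_num) (by norm_num)
    have a72 := (Groth.ModelsGraphs.a_comm T (f 7) (f 2)).trans a27
    have a34 := ha 3 4 (by norm_num) (by norm_num)
    have a43 := (Groth.ModelsGraphs.a_comm T (f 4) (f 3)).trans a34
    have a35 := ha 3 5 (by norm_num) (by norm_num)
    have a53 := (Groth.ModelsGraphs.a_comm T (f 5) (f 3)).trans a35
    have a36 := ha 3 6 (by norm_num) (by norm_num)
    have a63 := (Groth.ModelsGraphs.a_comm T (f 6) (f 3)).trans a36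
    have a37 := ha 3 7 (by norm_num) (by norm_num)
    have a73 := (Groth.ModelsGraphs.a_comm T (f 7) (f 3)).trans a37
    have a45 := ha 4 5 (by norm_num) (by norm_num)
    have a54 := (Groth.ModelsGraphs.a_comm T (f 5) (f 4)).trans a45
    have a46 := ha 4 6 (by norm_num) (by norm_num)
    have a64 := (Groth.ModelsGraphs.a_comm T (f 6) (f 4)).trans a46
    have a47 := ha 4 7 (by norm_num) (by norm_num)
    have a74 := (Groth.ModelsGraphs.a_comm T (f 7) (f 4)).trans a47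
    have a56 := ha 5 6 (by norm_num) (by norm_num)
    have a65 := (Groth.ModelsGraphs.a_comm T (f 6) (f 5)).trans a56
    have a57 := ha 5 7 (by norm_num) (by norm_num)
    have a75 := (Groth.ModelsGraphs.a_comm T (f 7) (f 5)).trans a57
    have a67 := ha 6 7 (by norm_num) (by norm_num)
    have a76 := (Groth.ModelsGraphs.a_comm T (f 7) (f 6)).trans a67
    refine ⟨hg0, σ, m, w, Or.inr (Or.inr (Or.inr (Or.inr (Or.inr (Or.inl ?_)))))⟩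
    simp only [hσ, Fin.isValue, Fin.val_zero, Fin.val_one, Fin.val_two, Fin.reduceFinMk, Fin.val_natCast, Fin.coe_ofNat_eq_mod, Nat.reduceMod, a01, a10, a02, a20, a03, a30, a04, a40, a05, a50, a06, a60, a07, a70, a12, a21, a13, a31, a14, a41, a15, a51, a16, a61, a17, a71, a23, a32, a24, a42, a25, a52, a26, a62, a27, a72, a34, a43, a35, a53, a36, a63, a37, a73, a45, a54, a46, a64, a47, a74, a56, a65, a57, a75, a67, a76, hd (f 0), hd (f 1), hd (f 2), hd (f 3), hd (f 4), hd (f 5), hd (f 6), hd (f 7), m0, m1, m2, m3, m4, m5, m6, m7, w0, w1, w2, w3, w4, w5, w6, w7]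
    and_intros <;> simp <;> omega
  · obtain ⟨f, m, w, h⟩ := h
    obtain ⟨σ, hσ⟩ := Groth.ModelsGraphs.IsListed.perm h
    obtain ⟨-, hmw, ha⟩ := h
    simp only [Groth.ModelsGraphs.cycM, Groth.ModelsGraphs.cycA, Groth.ModelsGraphs.c1M, Groth.ModelsGraphs.c1W, Groth.ModelsGraphs.c1A, Groth.ModelsGraphs.c2W, Groth.ModelsGraphs.c2A, Groth.ModelsGraphs.c3M, Groth.ModelsGraphs.c3W, Groth.ModelsGraphs.c3A, Groth.ModelsGraphs.b1M, Groth.ModelsGraphs.b1W, Groth.ModelsGraphs.b1A, Groth.ModelsGraphs.b2M, Groth.ModelsGraphs.b2W, Groth.ModelsGraphs.b2A, Groth.ModelsGraphs.dM, Groth.ModelsGraphs.dA] at hmw ha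
    obtain ⟨m0, w0⟩ := hmw 0 (by norm_num)
    obtain ⟨m1, w1⟩ := hmw 1 (by norm_num)
    obtain ⟨m2, w2⟩ := hmw 2 (by norm_num)
    obtain ⟨m3, w3⟩ := hmw 3 (by norm_num)
    obtain ⟨m4, w4⟩ := hmw 4 (by norm_num)
    obtain ⟨m5, w5⟩ := hmw 5 (by norm_num)
    obtain ⟨m6, w6⟩ := hmw 6 (by norm_num)
    obtain ⟨m7, w7⟩ := hmw 7 (by norm_num)
    have a01 := ha 0 1 (by norm_num) (by norm_num)
    have a10 := (Groth.ModelsGraphs.a_comm T (f 1) (f 0)).trans a01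
    have a02 := ha 0 2 (by norm_num) (by norm_num)
    have a20 := (Groth.ModelsGraphs.a_comm T (f 2) (f 0)).trans a02
    have a03 := ha 0 3 (by norm_num) (by norm_num)
    have a30 := (Groth.ModelsGraphs.a_comm T (f 3) (f 0)).trans a03
    have a04 := ha 0 4 (by norm_num) (by norm_num)
    have a40 := (Groth.ModelsGraphs.a_comm T (f 4) (f 0)).trans a04
    have a05 := ha 0 5 (by norm_num) (by norm_num)
    have a50 := (Groth.ModelsGraphs.a_comm T (f 5) (f 0)).trans a05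
    have a06 := ha 0 6 (by norm_num) (by norm_num)
    have a60 := (Groth.ModelsGraphs.a_comm T (f 6) (f 0)).trans a06
    have a07 := ha 0 7 (by norm_num) (by norm_num)
    have a70 := (Groth.ModelsGraphs.a_comm T (f 7) (f 0)).trans a07
    have a12 := ha 1 2 (by norm_num) (by norm_num)
    have a21 := (Groth.ModelsGraphs.a_comm T (f 2) (f 1)).trans a12
    have a13 := ha 1 3 (by norm_num) (by norm_num)
    have a31 := (Groth.ModelsGraphs.a_comm T (f 3) (f 1)).trans a13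
    have a14 := ha 1 4 (by norm_num) (by norm_num)
    have a41 := (Groth.ModelsGraphs.a_comm T (f 4) (f 1)).trans a14
    have a15 := ha 1 5 (by norm_num) (by norm_num)
    have a51 := (Groth.ModelsGraphs.a_comm T (f 5) (f 1)).trans a15
    have a16 := ha 1 6 (by norm_num) (by norm_num)
    have a61 := (Groth.ModelsGraphs.a_comm T (f 6) (f 1)).trans a16
    have a17 := ha 1 7 (by norm_num) (by norm_num)
    have a71 := (Groth.ModelsGraphs.a_comm T (f 7) (f 1)).trans a17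
    have a23 := ha 2 3 (by norm_num) (by norm_num)
    have a32 := (Groth.ModelsGraphs.a_comm T (f 3) (f 2)).trans a23
    have a24 := ha 2 4 (by norm_num) (by norm_num)
    have a42 := (Groth.ModelsGraphs.a_comm T (f 4) (f 2)).trans a24
    have a25 := ha 2 5 (by norm_num) (by norm_num)
    have a52 := (Groth.ModelsGraphs.a_comm T (f 5) (f 2)).trans a25
    have a26 := ha 2 6 (by norm_num) (by norm_num)
    have a62 := (Groth.ModelsGraphs.a_comm T (f 6) (f 2)).trans a26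
    have a27 := ha 2 7 (by norm_num) (by norm_num)
    have a72 := (Groth.ModelsGraphs.a_comm T (f 7) (f 2)).trans a27
    have a34 := ha 3 4 (by norm_num) (by norm_num)
    have a43 := (Groth.ModelsGraphs.a_comm T (f 4) (f 3)).trans a34
    have a35 := ha 3 5 (by norm_num) (by norm_num)
    have a53 := (Groth.ModelsGraphs.a_comm T (f 5) (f 3)).trans a35
    have a36 := ha 3 6 (by norm_num) (by norm_num)
    have a63 := (Groth.ModelsGraphs.a_comm T (f 6) (f 3)).trans a36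
    have a37 := ha 3 7 (by norm_num) (by norm_num)
    have a73 := (Groth.ModelsGraphs.a_comm T (f 7) (f 3)).trans a37
    have a45 := ha 4 5 (by norm_num) (by norm_num)
    have a54 := (Groth.ModelsGraphs.a_comm T (f 5) (f 4)).trans a45
    have a46 := ha 4 6 (by norm_num) (by norm_num)
    have a64 := (Groth.ModelsGraphs.a_comm T (f 6) (f 4)).trans a46
    have a47 := ha 4 7 (by norm_num) (by norm_num)
    have a74 := (Groth.ModelsGraphs.a_comm T (f 7) (f 4)).trans a47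
    have a56 := ha 5 6 (by norm_num) (by norm_num)
    have a65 := (Groth.ModelsGraphs.a_comm T (f 6) (f 5)).trans a56
    have a57 := ha 5 7 (by norm_num) (by norm_num)
    have a75 := (Groth.ModelsGraphs.a_comm T (f 7) (f 5)).trans a57
    have a67 := ha 6 7 (by norm_num) (by norm_num)
    have a76 := (Groth.ModelsGraphs.a_comm T (f 7) (f 6)).trans a67
    refine ⟨hg0, σ, m, w, Or.inr (Or.inr (Or.inr (Or.inr (Or.inr (Or.inr (Or.inl ?_))))))⟩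
    simp only [hσ, Fin.isValue, Fin.val_zero, Fin.val_one, Fin.val_two, Fin.reduceFinMk, Fin.val_natCast, Fin.coe_ofNat_eq_mod, Nat.reduceMod, a01, a10, a02, a20, a03, a30, a04, a40, a05, a50, a06, a60, a07, a70, a12, a21, a13, a31, a14, a41, a15, a51, a16, a61, a17, a71, a23, a32, a24, a42, a25, a52, a26, a62, a27, a72, a34, a43, a35, a53, a36, a63, a37, a73, a45, a54, a46, a64, a47, a74, a56, a65, a57, a75, a67, a76, hd (f 0), hd (f 1), hd (f 2), hd (f 3), hd (f 4), hd (f 5), hd (f 6), hd (f 7), m0, m1, m2, m3, m4, m5, m6, m7, w0, w1, w2, w3, w4, w5, w6, w7]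
    and_intros <;> simp <;> omega
  · omega
  · omega
  · omega
  · omega
  · omega
  · obtain ⟨f, m, w, h⟩ := h
    obtain ⟨σ, hσ⟩ := Groth.ModelsGraphs.IsListed.perm h
    obtain ⟨-, hmw, ha⟩ := h
    simp only [Groth.ModelsGraphs.cycM, Groth.ModelsGraphs.cycA, Groth.ModelsGraphs.c1M, Groth.ModelsGraphs.c1W, Groth.ModelsGraphs.c1A, Groth.ModelsGraphs.c2W, Groth.ModelsGraphs.c2A, Groth.ModelsGraphs.c3M, Groth.ModelsGraphs.c3W, Groth.ModelsGraphs.c3A, Groth.ModelsGraphs.b1M, Groth.ModelsGraphs.b1W, Groth.ModelsGraphs.b1A, Groth.ModelsGraphs.b2M, Groth.ModelsGraphs.b2W, Groth.ModelsGraphs.b2A, Groth.ModelsGraphs.dM, Groth.ModelsGraphs.dA] at hmw ha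
    obtain ⟨m0, w0⟩ := hmw 0 (by norm_num)
    obtain ⟨m1, w1⟩ := hmw 1 (by norm_num)
    obtain ⟨m2, w2⟩ := hmw 2 (by norm_num)
    obtain ⟨m3, w3⟩ := hmw 3 (by norm_num)
    obtain ⟨m4, w4⟩ := hmw 4 (by norm_num)
    obtain ⟨m5, w5⟩ := hmw 5 (by norm_num)
    obtain ⟨m6, w6⟩ := hmw 6 (by norm_num)
    obtain ⟨m7, w7⟩ := hmw 7 (by norm_num)
    have a01 := ha 0 1 (by norm_num) (by norm_num)
    have a10 := (Groth.ModelsGraphs.a_comm T (f 1) (f 0)).trans a01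
    have a02 := ha 0 2 (by norm_num) (by norm_num)
    have a20 := (Groth.ModelsGraphs.a_comm T (f 2) (f 0)).trans a02
    have a03 := ha 0 3 (by norm_num) (by norm_num)
    have a30 := (Groth.ModelsGraphs.a_comm T (f 3) (f 0)).trans a03
    have a04 := ha 0 4 (by norm_num) (by norm_num)
    have a40 := (Groth.ModelsGraphs.a_comm T (f 4) (f 0)).trans a04
    have a05 := ha 0 5 (by norm_num) (by norm_num)
    have a50 := (Groth.ModelsGraphs.a_comm T (f 5) (f 0)).trans a05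
    have a06 := ha 0 6 (by norm_num) (by norm_num)
    have a60 := (Groth.ModelsGraphs.a_comm T (f 6) (f 0)).trans a06
    have a07 := ha 0 7 (by norm_num) (by norm_num)
    have a70 := (Groth.ModelsGraphs.a_comm T (f 7) (f 0)).trans a07
    have a12 := ha 1 2 (by norm_num) (by norm_num)
    have a21 := (Groth.ModelsGraphs.a_comm T (f 2) (f 1)).trans a12
    have a13 := ha 1 3 (by norm_num) (by norm_num)
    have a31 := (Groth.ModelsGraphs.a_comm T (f 3) (f 1)).trans a13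
    have a14 := ha 1 4 (by norm_num) (by norm_num)
    have a41 := (Groth.ModelsGraphs.a_comm T (f 4) (f 1)).trans a14
    have a15 := ha 1 5 (by norm_num) (by norm_num)
    have a51 := (Groth.ModelsGraphs.a_comm T (f 5) (f 1)).trans a15
    have a16 := ha 1 6 (by norm_num) (by norm_num)
    have a61 := (Groth.ModelsGraphs.a_comm T (f 6) (f 1)).trans a16
    have a17 := ha 1 7 (by norm_num) (by norm_num)
    have a71 := (Groth.ModelsGraphs.a_comm T (f 7) (f 1)).trans a17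
    have a23 := ha 2 3 (by norm_num) (by norm_num)
    have a32 := (Groth.ModelsGraphs.a_comm T (f 3) (f 2)).trans a23
    have a24 := ha 2 4 (by norm_num) (by norm_num)
    have a42 := (Groth.ModelsGraphs.a_comm T (f 4) (f 2)).trans a24
    have a25 := ha 2 5 (by norm_num) (by norm_num)
    have a52 := (Groth.ModelsGraphs.a_comm T (f 5) (f 2)).trans a25
    have a26 := ha 2 6 (by norm_num) (by norm_num)
    have a62 := (Groth.ModelsGraphs.a_comm T (f 6) (f 2)).trans a26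
    have a27 := ha 2 7 (by norm_num) (by norm_num)
    have a72 := (Groth.ModelsGraphs.a_comm T (f 7) (f 2)).trans a27
    have a34 := ha 3 4 (by norm_num) (by norm_num)
    have a43 := (Groth.ModelsGraphs.a_comm T (f 4) (f 3)).trans a34
    have a35 := ha 3 5 (by norm_num) (by norm_num)
    have a53 := (Groth.ModelsGraphs.a_comm T (f 5) (f 3)).trans a35
    have a36 := ha 3 6 (by norm_num) (by norm_num)
    have a63 := (Groth.ModelsGraphs.a_comm T (f 6) (f 3)).trans a36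
    have a37 := ha 3 7 (by norm_num) (by norm_num)
    have a73 := (Groth.ModelsGraphs.a_comm T (f 7) (f 3)).trans a37
    have a45 := ha 4 5 (by norm_num) (by norm_num)
    have a54 := (Groth.ModelsGraphs.a_comm T (f 5) (f 4)).trans a45
    have a46 := ha 4 6 (by norm_num) (by norm_num)
    have a64 := (Groth.ModelsGraphs.a_comm T (f 6) (f 4)).trans a46
    have a47 := ha 4 7 (by norm_num) (by norm_num)
    have a74 := (Groth.ModelsGraphs.a_comm T (f 7) (f 4)).trans a47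
    have a56 := ha 5 6 (by norm_num) (by norm_num)
    have a65 := (Groth.ModelsGraphs.a_comm T (f 6) (f 5)).trans a56
    have a57 := ha 5 7 (by norm_num) (by norm_num)
    have a75 := (Groth.ModelsGraphs.a_comm T (f 7) (f 5)).trans a57
    have a67 := ha 6 7 (by norm_num) (by norm_num)
    have a76 := (Groth.ModelsGraphs.a_comm T (f 7) (f 6)).trans a67
    refine ⟨hg0, σ, m, w, Or.inr (Or.inr (Or.inr (Or.inr (Or.inr (Or.inr (Or.inr (?_)))))))⟩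
    simp only [hσ, Fin.isValue, Fin.val_zero, Fin.val_one, Fin.val_two, Fin.reduceFinMk, Fin.val_natCast, Fin.coe_ofNat_eq_mod, Nat.reduceMod, a01, a10, a02, a20, a03, a30, a04, a40, a05, a50, a06, a60, a07, a70, a12, a21, a13, a31, a14, a41, a15, a51, a16, a61, a17, a71, a23, a32, a24, a42, a25, a52, a26, a62, a27, a72, a34, a43, a35, a53, a36, a63, a37, a73, a45, a54, a46, a64, a47, a74, a56, a65, a57, a75, a67, a76, hd (f 0), hd (f 1), hd (f 2), hd (f 3), hd (f 4), hd (f 5), hd (f 6), hd (f 7), m0, m1, m2, m3, m4, m5, m6, m7, w0, w1, w2, w3, w4, w5, w6, w7]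
    and_intros <;> simp <;> omega
  · omega

end Groth.Agent.S7369
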