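import Groth.Statements.S7371
import Groth.Agent.ModelsGraphs.AffineMain

set_option autoImplicit false
set_option linter.unusedSimpArgs false
open Finset
open Models Models.NumericalType

namespace Groth.Agent.S7371

/-- Genus one classification: cases n ≥ 10: let T be a minimal numerical type of genus 1 on n ≥ 10
indices. Then all g_i = 0, a_{ii} = -2 w_i, and for some permutation σ of the indices and integers
m, w the type is one of: the n-cycle (all m_i = m, all w_i = w, a_{i,i+1} = a_{1n} = w); the chain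
with m = (2m,…,2m,m), w = (w,2w,…,2w,4w), a_{i,i+1} = 2w except a_{n-1,n} = 4w; the chain with all
m_i = m, w = (w,2w,…,2w,w), a_{i,i+1} = 2w; the chain with m = (m,2m,…,2m,m), w = (2w,w,…,w,2w),
a_{12} = a_{n-1,n} = 2w and a_{i,i+1} = w otherwise; the D-type graph (chain 1 … n-1 with n attached
to n-2) with m = (m,2m,…,2m,m,m), w = (2w,w,…,w), a_{12} = 2w, other edges w; the same D-type graph
with m = (2m,…,2m,m,m), w = (w,2w,…,2w), all edges 2w; the double fork (1, 2 attached to 3; chain 3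
… n-2; n-1, n attached to n-2) with m = (m,m,2m,…,2m,m,m), all w_i = w, all edges w; all
intersection numbers not listed are zero. (Indices are written 0, …, n-1 in the formal statement.
For n ≥ 10 the exceptional completed E6, E7, E8 types do not occur, so only the infinite families
remain. In the family with weights (w,2w,…,2w,w) the consecutive intersection numbers are 2w, as
divisibility by the weights forces; the published list prints w there, and omits m_{n-2} = 2m in the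
two D-type families.) Only the classification direction is stated. -/
theorem result {n : ℕ} (T : Models.NumericalType n) (hn : 10 ≤ n) (hmin : T.IsMinimal) (hg : T.genus = 1) :
    (∀ i, T.g i = 0) ∧ (∀ i, T.a i i = -2 * T.w i) ∧ ∃ (σ : Equiv.Perm (Fin n)) (m w : ℤ),
      (((∀ i : Fin n, T.m (σ i) = m) ∧
        (∀ i : Fin n, T.w (σ i) = w) ∧
        (∀ i j : Fin n, i.val < j.val → j.val = i.val + 1 → T.a (σ i) (σ j) = w) ∧
        (∀ i j : Fin n, i.val < j.val → i.val = 0 ∧ j.val + 1 = n → T.a (σ i) (σ j) = w) ∧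
        (∀ i j : Fin n, i.val < j.val → ¬ (j.val = i.val + 1) → ¬ (i.val = 0 ∧ j.val + 1 = n) → T.a (σ i) (σ j) = 0)) ∨
      ((∀ i : Fin n, i.val + 1 < n → T.m (σ i) = 2 * m) ∧
        (∀ i : Fin n, i.val + 1 = n → T.m (σ i) = m) ∧
        (∀ i : Fin n, i.val = 0 → T.w (σ i) = w) ∧
        (∀ i : Fin n, 0 < i.val ∧ i.val + 1 < n → T.w (σ i) = 2 * w) ∧
        (∀ i : Fin n, i.val + 1 = n → T.w (σ i) = 4 * w) ∧
        (∀ i j : Fin n, i.val < j.val → j.val = i.val + 1 ∧ j.val + 1 < n → T.a (σ i) (σ j) = 2 * w) ∧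
        (∀ i j : Fin n, i.val < j.val → j.val = i.val + 1 ∧ j.val + 1 = n → T.a (σ i) (σ j) = 4 * w) ∧
        (∀ i j : Fin n, i.val < j.val → ¬ (j.val = i.val + 1 ∧ j.val + 1 < n) → ¬ (j.val = i.val + 1 ∧ j.val + 1 = n) → T.a (σ i) (σ j) = 0)) ∨
      ((∀ i : Fin n, T.m (σ i) = m) ∧
        (∀ i : Fin n, i.val = 0 → T.w (σ i) = w) ∧
        (∀ i : Fin n, 0 < i.val ∧ i.val + 1 < n → T.w (σ i) = 2 * w) ∧
        (∀ i : Fin n, i.val + 1 = n → T.w (σ i) = w) ∧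
        (∀ i j : Fin n, i.val < j.val → j.val = i.val + 1 → T.a (σ i) (σ j) = 2 * w) ∧
        (∀ i j : Fin n, i.val < j.val → ¬ (j.val = i.val + 1) → T.a (σ i) (σ j) = 0)) ∨
      ((∀ i : Fin n, i.val = 0 → T.m (σ i) = m) ∧
        (∀ i : Fin n, 0 < i.val ∧ i.val + 1 < n → T.m (σ i) = 2 * m) ∧
        (∀ i : Fin n, i.val + 1 = n → T.m (σ i) = m) ∧
        (∀ i : Fin n, i.val = 0 → T.w (σ i) = 2 * w) ∧
        (∀ i : Fin n, 0 < i.val ∧ i.val + 1 < n → T.w (σ i) = w) ∧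
        (∀ i : Fin n, i.val + 1 = n → T.w (σ i) = 2 * w) ∧
        (∀ i j : Fin n, i.val < j.val → i.val = 0 ∧ j.val = 1 → T.a (σ i) (σ j) = 2 * w) ∧
        (∀ i j : Fin n, i.val < j.val → j.val = i.val + 1 ∧ 1 ≤ i.val ∧ j.val + 2 ≤ n → T.a (σ i) (σ j) = w) ∧
        (∀ i j : Fin n, i.val < j.val → j.val = i.val + 1 ∧ j.val + 1 = n → T.a (σ i) (σ j) = 2 * w) ∧
        (∀ i j : Fin n, i.val < j.val → ¬ (i.val = 0 ∧ j.val = 1) → ¬ (j.val = i.val + 1 ∧ 1 ≤ i.val ∧ j.val + 2 ≤ n) → ¬ (j.val = i.val + 1 ∧ j.val + 1 = n) → T.a (σ i) (σ j) = 0)) ∨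
      ((∀ i : Fin n, i.val = 0 → T.m (σ i) = m) ∧
        (∀ i : Fin n, 1 ≤ i.val ∧ i.val + 2 < n → T.m (σ i) = 2 * m) ∧
        (∀ i : Fin n, n ≤ i.val + 2 → T.m (σ i) = m) ∧
        (∀ i : Fin n, i.val = 0 → T.w (σ i) = 2 * w) ∧
        (∀ i : Fin n, 0 < i.val → T.w (σ i) = w) ∧
        (∀ i j : Fin n, i.val < j.val → i.val = 0 ∧ j.val = 1 → T.a (σ i) (σ j) = 2 * w) ∧
        (∀ i j : Fin n, i.val < j.val → j.val = i.val + 1 ∧ 1 ≤ i.val ∧ j.val + 2 ≤ n → T.a (σ i) (σ j) = w) ∧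
        (∀ i j : Fin n, i.val < j.val → i.val + 3 = n ∧ j.val + 1 = n → T.a (σ i) (σ j) = w) ∧
        (∀ i j : Fin n, i.val < j.val → ¬ (i.val = 0 ∧ j.val = 1) → ¬ (j.val = i.val + 1 ∧ 1 ≤ i.val ∧ j.val + 2 ≤ n) → ¬ (i.val + 3 = n ∧ j.val + 1 = n) → T.a (σ i) (σ j) = 0)) ∨
      ((∀ i : Fin n, i.val + 2 < n → T.m (σ i) = 2 * m) ∧
        (∀ i : Fin n, n ≤ i.val + 2 → T.m (σ i) = m) ∧
        (∀ i : Fin n, i.val = 0 → T.w (σ i) = w) ∧
        (∀ i : Fin n, 0 < i.val → T.w (σ i) = 2 * w) ∧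
        (∀ i j : Fin n, i.val < j.val → j.val = i.val + 1 ∧ j.val + 2 ≤ n → T.a (σ i) (σ j) = 2 * w) ∧
        (∀ i j : Fin n, i.val < j.val → i.val + 3 = n ∧ j.val + 1 = n → T.a (σ i) (σ j) = 2 * w) ∧
        (∀ i j : Fin n, i.val < j.val → ¬ (j.val = i.val + 1 ∧ j.val + 2 ≤ n) → ¬ (i.val + 3 = n ∧ j.val + 1 = n) → T.a (σ i) (σ j) = 0)) ∨
      ((∀ i : Fin n, i.val ≤ 1 → T.m (σ i) = m) ∧
        (∀ i : Fin n, 2 ≤ i.val ∧ i.val + 2 < n → T.m (σ i) = 2 * m) ∧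
        (∀ i : Fin n, n ≤ i.val + 2 → T.m (σ i) = m) ∧
        (∀ i : Fin n, T.w (σ i) = w) ∧
        (∀ i j : Fin n, i.val < j.val → i.val = 0 ∧ j.val = 2 → T.a (σ i) (σ j) = w) ∧
        (∀ i j : Fin n, i.val < j.val → i.val = 1 ∧ j.val = 2 → T.a (σ i) (σ j) = w) ∧
        (∀ i j : Fin n, i.val < j.val → j.val = i.val + 1 ∧ 2 ≤ i.val ∧ j.val + 2 ≤ n → T.a (σ i) (σ j) = w) ∧
        (∀ i j : Fin n, i.val < j.val → i.val + 3 = n ∧ j.val + 1 = n → T.a (σ i) (σ j) = w) ∧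
        (∀ i j : Fin n, i.val < j.val → ¬ (i.val = 0 ∧ j.val = 2) → ¬ (i.val = 1 ∧ j.val = 2) → ¬ (j.val = i.val + 1 ∧ 2 ≤ i.val ∧ j.val + 2 ≤ n) → ¬ (i.val + 3 = n ∧ j.val + 1 = n) → T.a (σ i) (σ j) = 0))) := by
  obtain ⟨hg0, hd, H⟩ := Groth.ModelsGraphs.facts_of_genus_one (T := T) (by omega) hmin hg
  refine ⟨hg0, hd, ?_⟩
  rcases H with h | h | h | h | ⟨hn', h⟩ | ⟨hn', h⟩ | ⟨hn', h⟩ | ⟨hn', -⟩ | ⟨hn', -⟩ | ⟨hn', -⟩ | ⟨hn', -⟩ | ⟨hn', -⟩ | ⟨hn', -⟩ | ⟨hn', -⟩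
  · obtain ⟨f, m, w, h⟩ := h
    obtain ⟨σ, hσ⟩ := Groth.ModelsGraphs.IsListed.perm h
    obtain ⟨-, hmw, ha⟩ := h
    simp only [Groth.ModelsGraphs.cycM, Groth.ModelsGraphs.cycA, Groth.ModelsGraphs.c1M, Groth.ModelsGraphs.c1W, Groth.ModelsGraphs.c1A, Groth.ModelsGraphs.c2W, Groth.ModelsGraphs.c2A, Groth.ModelsGraphs.c3M, Groth.ModelsGraphs.c3W, Groth.ModelsGraphs.c3A, Groth.ModelsGraphs.b1M, Groth.ModelsGraphs.b1W, Groth.ModelsGraphs.b1A, Groth.ModelsGraphs.b2M, Groth.ModelsGraphs.b2W, Groth.ModelsGraphs.b2A, Groth.ModelsGraphs.dM, Groth.ModelsGraphs.dA] at hmw ha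
    have hm := fun i : Fin n => (hmw i i.2).1
    have hw := fun i : Fin n => (hmw i i.2).2
    have ha' := fun (i j : Fin n) (hij : i.val < j.val) => ha i j hij j.2
    refine ⟨σ, m, w, Or.inl ?_⟩
    simp only [hσ]
    and_intros <;> intros <;> simp (discharger := omega) only [hm, hw, ha'] <;> (try split_ifs) <;> omega
  · obtain ⟨f, m, w, h⟩ := h
    obtain ⟨σ, hσ⟩ := Groth.ModelsGraphs.IsListed.perm h
    obtain ⟨-, hmw, ha⟩ := h
    simp only [Groth.ModelsGraphs.cycM, Groth.ModelsGraphs.cycA, Groth.ModelsGraphs.c1M, Groth.ModelsGraphs.c1W, Groth.ModelsGraphs.c1A, Groth.ModelsGraphs.c2W, Groth.ModelsGraphs.c2A, Groth.ModelsGraphs.c3M, Groth.ModelsGraphs.c3W, Groth.ModelsGraphs.c3A, Groth.ModelsGraphs.b1M, Groth.ModelsGraphs.b1W, Groth.ModelsGraphs.b1A, Groth.ModelsGraphs.b2M, Groth.ModelsGraphs.b2W, Groth.ModelsGraphs.b2A, Groth.ModelsGraphs.dM, Groth.ModelsGraphs.dA] at hmw ha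
    have hm := fun i : Fin n => (hmw i i.2).1
    have hw := fun i : Fin n => (hmw i i.2).2
    have ha' := fun (i j : Fin n) (hij : i.val < j.val) => ha i j hij j.2
    refine ⟨σ, m, w, Or.inr (Or.inl ?_)⟩
    simp only [hσ]
    and_intros <;> intros <;> simp (discharger := omega) only [hm, hw, ha'] <;> (try split_ifs) <;> omega
  · obtain ⟨f, m, w, h⟩ := h
    obtain ⟨σ, hσ⟩ := Groth.ModelsGraphs.IsListed.perm h
    obtain ⟨-, hmw, ha⟩ := h
    simp only [Groth.ModelsGraphs.cycM, Groth.ModelsGraphs.cycA, Groth.ModelsGraphs.c1M, Groth.ModelsGraphs.c1W, Groth.ModelsGraphs.c1A, Groth.ModelsGraphs.c2W, Groth.ModelsGraphs.c2A, Groth.ModelsGraphs.c3M, Groth.ModelsGraphs.c3W, Groth.ModelsGraphs.c3A, Groth.ModelsGraphs.b1M, Groth.ModelsGraphs.b1W, Groth.ModelsGraphs.b1A, Groth.ModelsGraphs.b2M, Groth.ModelsGraphs.b2W, Groth.ModelsGraphs.b2A, Groth.ModelsGraphs.dM, Groth.ModelsGraphs.dA] at hmw ha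
    have hm := fun i : Fin n => (hmw i i.2).1
    have hw := fun i : Fin n => (hmw i i.2).2
    have ha' := fun (i j : Fin n) (hij : i.val < j.val) => ha i j hij j.2
    refine ⟨σ, m, w, Or.inr (Or.inr (Or.inl ?_))⟩
    simp only [hσ]
    and_intros <;> intros <;> simp (discharger := omega) only [hm, hw, ha'] <;> (try split_ifs) <;> omega
  · obtain ⟨f, m, w, h⟩ := h
    obtain ⟨σ, hσ⟩ := Groth.ModelsGraphs.IsListed.perm h
    obtain ⟨-, hmw, ha⟩ := h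
    simp only [Groth.ModelsGraphs.cycM, Groth.ModelsGraphs.cycA, Groth.ModelsGraphs.c1M, Groth.ModelsGraphs.c1W, Groth.ModelsGraphs.c1A, Groth.ModelsGraphs.c2W, Groth.ModelsGraphs.c2A, Groth.ModelsGraphs.c3M, Groth.ModelsGraphs.c3W, Groth.ModelsGraphs.c3A, Groth.ModelsGraphs.b1M, Groth.ModelsGraphs.b1W, Groth.ModelsGraphs.b1A, Groth.ModelsGraphs.b2M, Groth.ModelsGraphs.b2W, Groth.ModelsGraphs.b2A, Groth.ModelsGraphs.dM, Groth.ModelsGraphs.dA] at hmw ha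
    have hm := fun i : Fin n => (hmw i i.2).1
    have hw := fun i : Fin n => (hmw i i.2).2
    have ha' := fun (i j : Fin n) (hij : i.val < j.val) => ha i j hij j.2
    refine ⟨σ, m, w, Or.inr (Or.inr (Or.inr (Or.inl ?_)))⟩
    simp only [hσ]
    and_intros <;> intros <;> simp (discharger := omega) only [hm, hw, ha'] <;> (try split_ifs) <;> omega
  · obtain ⟨f, m, w, h⟩ := h
    obtain ⟨σ, hσ⟩ := Groth.ModelsGraphs.IsListed.perm h
    obtain ⟨-, hmw, ha⟩ := h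
    simp only [Groth.ModelsGraphs.cycM, Groth.ModelsGraphs.cycA, Groth.ModelsGraphs.c1M, Groth.ModelsGraphs.c1W, Groth.ModelsGraphs.c1A, Groth.ModelsGraphs.c2W, Groth.ModelsGraphs.c2A, Groth.ModelsGraphs.c3M, Groth.ModelsGraphs.c3W, Groth.ModelsGraphs.c3A, Groth.ModelsGraphs.b1M, Groth.ModelsGraphs.b1W, Groth.ModelsGraphs.b1A, Groth.ModelsGraphs.b2M, Groth.ModelsGraphs.b2W, Groth.ModelsGraphs.b2A, Groth.ModelsGraphs.dM, Groth.ModelsGraphs.dA] at hmw ha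
    have hm := fun i : Fin n => (hmw i i.2).1
    have hw := fun i : Fin n => (hmw i i.2).2
    have ha' := fun (i j : Fin n) (hij : i.val < j.val) => ha i j hij j.2
    refine ⟨σ, m, w, Or.inr (Or.inr (Or.inr (Or.inr (Or.inl ?_))))⟩
    simp only [hσ]
    and_intros <;> intros <;> simp (discharger := omega) only [hm, hw, ha'] <;> (try split_ifs) <;> omega
  · obtain ⟨f, m, w, h⟩ := h
    obtain ⟨σ, hσ⟩ := Groth.ModelsGraphs.IsListed.perm h
    obtain ⟨-, hmw, ha⟩ := h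
    simp only [Groth.ModelsGraphs.cycM, Groth.ModelsGraphs.cycA, Groth.ModelsGraphs.c1M, Groth.ModelsGraphs.c1W, Groth.ModelsGraphs.c1A, Groth.ModelsGraphs.c2W, Groth.ModelsGraphs.c2A, Groth.ModelsGraphs.c3M, Groth.ModelsGraphs.c3W, Groth.ModelsGraphs.c3A, Groth.ModelsGraphs.b1M, Groth.ModelsGraphs.b1W, Groth.ModelsGraphs.b1A, Groth.ModelsGraphs.b2M, Groth.ModelsGraphs.b2W, Groth.ModelsGraphs.b2A, Groth.ModelsGraphs.dM, Groth.ModelsGraphs.dA] at hmw ha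
    have hm := fun i : Fin n => (hmw i i.2).1
    have hw := fun i : Fin n => (hmw i i.2).2
    have ha' := fun (i j : Fin n) (hij : i.val < j.val) => ha i j hij j.2
    refine ⟨σ, m, w, Or.inr (Or.inr (Or.inr (Or.inr (Or.inr (Or.inl ?_)))))⟩
    simp only [hσ]
    and_intros <;> intros <;> simp (discharger := omega) only [hm, hw, ha'] <;> (try split_ifs) <;> omega
  · obtain ⟨f, m, w, h⟩ := h
    obtain ⟨σ, hσ⟩ := Groth.ModelsGraphs.IsListed.perm h
    obtain ⟨-, hmw, ha⟩ := h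
    simp only [Groth.ModelsGraphs.cycM, Groth.ModelsGraphs.cycA, Groth.ModelsGraphs.c1M, Groth.ModelsGraphs.c1W, Groth.ModelsGraphs.c1A, Groth.ModelsGraphs.c2W, Groth.ModelsGraphs.c2A, Groth.ModelsGraphs.c3M, Groth.ModelsGraphs.c3W, Groth.ModelsGraphs.c3A, Groth.ModelsGraphs.b1M, Groth.ModelsGraphs.b1W, Groth.ModelsGraphs.b1A, Groth.ModelsGraphs.b2M, Groth.ModelsGraphs.b2W, Groth.ModelsGraphs.b2A, Groth.ModelsGraphs.dM, Groth.ModelsGraphs.dA] at hmw ha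
    have hm := fun i : Fin n => (hmw i i.2).1
    have hw := fun i : Fin n => (hmw i i.2).2
    have ha' := fun (i j : Fin n) (hij : i.val < j.val) => ha i j hij j.2
    refine ⟨σ, m, w, Or.inr (Or.inr (Or.inr (Or.inr (Or.inr (Or.inr (?_))))))⟩
    simp only [hσ]
    and_intros <;> intros <;> simp (discharger := omega) only [hm, hw, ha'] <;> (try split_ifs) <;> omega
  · omega
  · omega
  · omega
  · omega
  · omega
  · omega
  · omega

end Groth.Agent.S7371
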