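import Groth.Statements.S7372
import Groth.Agent.ResolveSurf.CurveBlowUp

set_option backward.isDefEq.respectTransparency.types false
set_option linter.style.haveILetI false

set_option autoImplicit false
universe u
open CategoryTheory CategoryTheory.Limits AlgebraicGeometry
open Resolve

namespace Groth.Agent.S7372

/-- Let Y be an integral Noetherian scheme of dimension one. Then Y has a resolution of singularities (a
proper morphism X → Y from an integral scheme with regular local rings which is an isomorphism over
a nonempty open of Y) if and only if there is a finite sequence of blowings up in closed points Y_n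
→ Y_{n-1} → … → Y_1 → Y with Y_n regular (all local rings regular). -/
theorem result (Y : Scheme.{u}) [IsIntegral Y] [IsNoetherian Y]
    (hdim : topologicalKrullDim Y = 1) :
    (∃ (X : Scheme.{u}) (g : X ⟶ Y), IsProper g ∧ IsIntegral X ∧
        (∃ V : Y.Opens, (V : Set Y).Nonempty ∧ IsIso (g ∣_ V)) ∧ ∀ x : X, IsRegularLocalRing (X.presheaf.stalk x)) ↔
      ∃ (Y' : Scheme.{u}) (g : Y' ⟶ Y), Resolve.IsPtBlowupSeq g ∧ ∀ y : Y', IsRegularLocalRing (Y'.presheaf.stalk y) := by
  have hY : ¬ IsClosed ({genericPoint Y} : Set Y) := fun h => by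
    have hall : ∀ y : Y, y = genericPoint Y := fun y =>
      ((genericPoint_spec Y).specializes (y := y) trivial).mem_closed h rfl
    haveI : Subsingleton Y := ⟨fun a b => (hall a).trans (hall b).symm⟩
    haveI : Subsingleton (TopologicalSpace.IrreducibleCloseds Y) :=
      (irreducibleSetEquivPoints (α := Y)).toEquiv.subsingleton
    have h2 : topologicalKrullDim Y ≤ 0 := Order.krullDim_nonpos_of_subsingleton
    rw [hdim] at h2
    exact absurd h2 (by decide)
  constructor
  · rintro ⟨X, g, hg, hX, ⟨V, hV, hVi⟩, hreg⟩
    haveI := hg; haveI := hX; haveI := hVi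
    have hη : genericPoint Y ∈ V := ((genericPoint_spec Y).mem_open_set_iff V.2).2 (by simpa using hV)
    obtain ⟨q, hq⟩ := (g ∣_ V).homeomorph.surjective ⟨_, hη⟩
    have hq' : g q.1 = genericPoint Y :=
      (morphismRestrict_base_coe g V q).symm.trans (congrArg Subtype.val hq)
    have h5 := (genericPoint_specializes q.1).map g.continuous
    rw [hq'] at h5
    have hgen : g (genericPoint X) = genericPoint Y := (h5.antisymm (genericPoint_specializes _)).eq
    have hdim' := Groth.ResolveSurf.CurveBU.coheight_le_of_dim hdim.le
    haveI : LocallyQuasiFinite g := .of_finite_preimage_singleton g fun y => by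
      haveI := Groth.ResPropLib.finite_fiber g V ((g ⁻¹ᵁ V).2.dense ⟨q.1, q.2⟩)
        (fun z hz => Groth.ResPropLib.finite_fiber_of_isIso g V hVi z hz) y (hdim' y)
      exact Set.finite_coe_iff.1 (Finite.of_equiv _ (g.fiberHomeo y).toEquiv)
    haveI : IsFinite g := IsFinite.of_isProper_of_locallyQuasiFinite g
    exact Groth.ResolveSurf.CurveBU.exists_regular g hdim' hY hreg hgen
  · rintro ⟨Y', g, hg, hreg⟩
    obtain ⟨hp, hint, hV⟩ := Groth.ResolveSurf.CurveBU.seq_props hg hY
    exact ⟨Y', g, hp, hint, hV, hreg⟩

end Groth.Agent.S7372
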