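import Groth.Statements.S7384
import Groth.Agent.Limits.ApproxHom
import Groth.Agent.Limits.Approximation

set_option autoImplicit false
universe u
open CategoryTheory AlgebraicGeometry
open Lim

namespace Groth.Agent.S7384

/-- Let `f : X → S` be a morphism of quasi-compact quasi-separated schemes. Then `f` is a limit of
morphisms `f_i : X_i → S_i` indexed by a nonempty directed set: there are inverse systems `X_i`,
`S_i` of quasi-compact schemes locally of finite type over `ℤ` with affine transition morphisms, a
compatible family of morphisms `f_i`, and limit cones identified with `X` and `S` compatibly with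
`f`. -/
theorem result {X S : Scheme.{u}} (f : X ⟶ S) [CompactSpace X]
    [QuasiSeparatedSpace X] [CompactSpace S] [QuasiSeparatedSpace S] :
    ∃ (I : Type u) (_ : Preorder I) (_ : IsDirected I (fun a b => a ≤ b)) (_ : Nonempty I)
      (DX DS : Iᵒᵖ ⥤ Scheme.{u}) (φ : DX ⟶ DS)
      (cX : Limits.Cone DX) (cS : Limits.Cone DS) (_ : Limits.IsLimit cX) (_ : Limits.IsLimit cS)
      (eX : cX.pt ≅ X) (eS : cS.pt ≅ S),
      (∀ (i j : Iᵒᵖ) (a : i ⟶ j), IsAffineHom (DX.map a) ∧ IsAffineHom (DS.map a)) ∧
      (∀ i, CompactSpace (DX.obj i) ∧ CompactSpace (DS.obj i) ∧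
        LocallyOfFiniteType (Limits.IsTerminal.from specULiftZIsTerminal (DX.obj i)) ∧
        LocallyOfFiniteType (Limits.IsTerminal.from specULiftZIsTerminal (DS.obj i))) ∧
      (∀ i, cX.π.app i ≫ φ.app i = eX.hom ≫ f ≫ eS.inv ≫ cS.π.app i) := by
    obtain ⟨A⟩ := Groth.Limits.exists_zsystem S
    obtain ⟨B⟩ := Groth.Limits.exists_zsystem X
    exact ⟨Groth.Limits.HomIndex f B A, inferInstance, inferInstance, inferInstance,
      Groth.Limits.HomIndex.toSource f B A ⋙ B.D, Groth.Limits.HomIndex.toTarget f B A ⋙ A.D,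
      Groth.Limits.HomIndex.natTrans f B A, B.cone.whisker _, A.cone.whisker _,
      (Functor.Initial.isLimitWhiskerEquiv _ _).symm B.isLimit,
      (Functor.Initial.isLimitWhiskerEquiv _ _).symm A.isLimit,
      Iso.refl _, Iso.refl _,
      fun i j a => ⟨B.affine _ _ _, A.affine _ _ _⟩,
      fun i => ⟨B.compact _, A.compact _, B.locallyOfFiniteType _, A.locallyOfFiniteType _⟩,
      fun i => by
        simp only [Iso.refl_hom, Iso.refl_inv]
        erw [Category.id_comp, Category.id_comp]
        exact i.unop.w⟩

end Groth.Agent.S7384
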