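import Groth.Statements.S7387
import Groth.Agent.PropsBasic.ZeroDim

set_option autoImplicit false
universe u
open CategoryTheory AlgebraicGeometry
open Mor

namespace Groth.Agent.S7387

/-- A quasi-compact scheme has a dense open subscheme which is separated. -/
theorem result (X : Scheme.{u}) [CompactSpace X] :
    ∃ V : X.Opens, Dense (V : Set X) ∧ (V : Scheme.{u}).IsSeparated := by
  classical
  obtain ⟨s, hs, htop⟩ := isCompact_iff_finite_and_eq_biUnion_affineOpens.mp
    (show IsCompact ((⊤ : X.Opens) : Set X) from isCompact_univ)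
  haveI := hs.fintype
  let e := Fintype.equivFin s
  let U : ULift.{u} (Fin (Fintype.card s)) → X.Opens := fun i => ((e.symm i.down).1 : X.Opens)
  have hU : ∀ i, IsAffineOpen (U i) := fun i => (e.symm i.down).1.2
  let V : ULift.{u} (Fin (Fintype.card s)) → X.Opens := fun i =>
    ⟨(U i : Set X) \ closure (⋃ j ∈ {j | j.down < i.down}, (U j : Set X)),
      (U i).isOpen.sdiff isClosed_closure⟩
  have hcov : ∀ x : X, ∃ i, x ∈ U i := fun x => by
    have hx : x ∈ (⊤ : X.Opens) := trivial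
    rw [htop] at hx
    obtain ⟨W, hW⟩ := TopologicalSpace.Opens.mem_iSup.mp hx
    obtain ⟨hWs, hxW⟩ := TopologicalSpace.Opens.mem_iSup.mp hW
    exact ⟨⟨e ⟨W, hWs⟩⟩, by simpa [U] using hxW⟩
  have hdisj : ∀ i j, i ≠ j → Disjoint (V i : Set X) (V j) := by
    have key : ∀ i j, i.down < j.down → Disjoint (V i : Set X) (V j) := fun i j h =>
      Set.disjoint_left.mpr fun x hi hj => hj.2 (subset_closure (Set.mem_biUnion h hi.1))
    intro i j hij
    rcases lt_trichotomy i.down j.down with h | h | h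
    exacts [key i j h, absurd (ULift.ext _ _ h) hij, (key j i h).symm]
  refine ⟨⨆ i, V i, dense_iff_inter_open.mpr fun O hO ⟨x, hx⟩ => ?_, ?_⟩
  · have hex : ∃ k, ∃ h : k < Fintype.card s, (O ∩ (U ⟨⟨k, h⟩⟩ : Set X)).Nonempty := by
      obtain ⟨i, hi⟩ := hcov x
      exact ⟨i.down.1, i.down.2, x, hx, hi⟩
    obtain ⟨hk, y, hyO, hy⟩ := Nat.find_spec hex
    refine ⟨y, hyO, TopologicalSpace.Opens.mem_iSup.mpr ⟨⟨⟨_, hk⟩⟩, hy, fun hc => ?_⟩⟩
    obtain ⟨z, hzO, hz⟩ := mem_closure_iff.mp hc O hO hyO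
    obtain ⟨j, hj, hzj⟩ := Set.mem_iUnion₂.mp hz
    exact Nat.find_min hex hj ⟨j.down.2, z, hzO, hzj⟩
  · have hle : ∀ i, V i ≤ U i := fun i x hx => hx.1
    haveI : ∀ i, IsAffine (U i : Scheme.{u}) := hU
    let φ : (∐ fun i => (V i : Scheme.{u})) ⟶ (∐ fun i => (U i : Scheme.{u})) :=
      Limits.Sigma.desc fun i => X.homOfLE (hle i) ≫ Limits.Sigma.ι (fun i => (U i : Scheme.{u})) i
    haveI : IsOpenImmersion φ := by
      refine isOpenImmersion_sigmaDesc _ _ fun i j hij => ?_
      refine Set.disjoint_left.mpr fun z ⟨a, ha⟩ ⟨b, hb⟩ => ?_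
      have := disjoint_opensRange_sigmaι (fun i => (U i : Scheme.{u})) i j hij
      rw [← TopologicalSpace.Opens.coe_disjoint] at this
      have h1 : (Limits.Sigma.ι (fun i => (U i : Scheme.{u})) i) (X.homOfLE (hle i) a) = z :=
        (Scheme.Hom.comp_apply _ _ _).symm.trans ha
      have h2 : (Limits.Sigma.ι (fun i => (U i : Scheme.{u})) j) (X.homOfLE (hle j) b) = z :=
        (Scheme.Hom.comp_apply _ _ _).symm.trans hb
      exact (Set.disjoint_left.mp this ⟨_, h1⟩) ⟨_, h2⟩
    haveI : (∐ fun i => (V i : Scheme.{u})).IsSeparated := by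
      refine ⟨?_⟩
      rw [← Limits.terminal.comp_from φ]
      infer_instance
    haveI : IsOpenImmersion (Limits.Sigma.desc fun i => (V i).ι) :=
      isOpenImmersion_sigmaDesc _ _ fun i j hij => by simpa using hdisj i j hij
    let iso : ((⨆ i, V i : X.Opens) : Scheme.{u}) ≅ ∐ fun i => (V i : Scheme.{u}) :=
      IsOpenImmersion.isoOfRangeEq (⨆ i, V i : X.Opens).ι (Limits.Sigma.desc fun i => (V i).ι) (by
        rw [Scheme.Opens.range_ι]
        ext x
        simp only [TopologicalSpace.Opens.coe_iSup, Set.mem_iUnion, Set.mem_range]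
        constructor
        · rintro ⟨i, hi⟩
          refine ⟨Limits.Sigma.ι (fun i => (V i : Scheme.{u})) i ⟨x, hi⟩, ?_⟩
          refine (Scheme.Hom.comp_apply _ _ _).symm.trans ?_
          rw [Limits.Sigma.ι_desc]
          rfl
        · rintro ⟨z, rfl⟩
          obtain ⟨⟨i, y⟩, rfl⟩ := (sigmaMk (fun i => (V i : Scheme.{u}))).surjective z
          refine ⟨i, ?_⟩
          rw [sigmaMk_mk, ← Scheme.Hom.comp_apply, Limits.Sigma.ι_desc]
          exact y.2)
    refine ⟨?_⟩
    rw [← Limits.terminal.comp_from iso.hom]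
    infer_instance

end Groth.Agent.S7387
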