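import Groth.Statements.S7392
import Mathlib
import Groth.Agent.PropsBasic.ProjectiveSections

set_option autoImplicit false
universe u
open CategoryTheory AlgebraicGeometry
open Opposite
open Mor

namespace Groth.Agent.S7392

set_option backward.isDefEq.respectTransparency.types false

theorem projective_trans (R : Type u) (S : Type u) (M : Type u) [CommRing R] [CommRing S]
    [Algebra R S] [AddCommGroup M] [Module R M] [Module S M] [IsScalarTower R S M]
    [Module.Projective R S] [Module.Projective S M] : Module.Projective R M := by
  obtain ⟨s, hs⟩ := (Module.projective_def' (R := S) (P := M)).mp inferInstance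
  classical
  have : Module.Projective R (M →₀ S) :=
    Module.Projective.of_equiv (finsuppLequivDFinsupp R).symm
  exact Module.Projective.of_split (M := M →₀ S) (s.restrictScalars R)
    ((Finsupp.linearCombination S id).restrictScalars R) (LinearMap.ext fun m => congr($hs m))

theorem projective_of_surjective (R : Type u) (S : Type u) (M : Type u) [CommRing R] [CommRing S]
    [Algebra R S] [AddCommGroup M] [Module R M] [Module S M] [IsScalarTower R S M]
    [Module.Projective R M] (h : Function.Surjective (algebraMap R S)) : Module.Projective S M := by
  obtain ⟨s, hs⟩ := (Module.projective_def' (R := R) (P := M)).mp inferInstance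
  let c : (M →₀ R) →ₗ[R] (M →₀ S) := Finsupp.mapRange.linearMap (Algebra.linearMap R S)
  let σ : M →ₗ[S] (M →₀ S) :=
    { toFun := fun m => c (s m)
      map_add' := fun a b => by simp
      map_smul' := fun a m => by
        obtain ⟨r, rfl⟩ := h a
        simp only [algebraMap_smul, map_smul, RingHom.id_apply] }
  refine Module.Projective.of_split σ (Finsupp.linearCombination S id) (LinearMap.ext fun m => ?_)
  have key : ∀ w : M →₀ R, Finsupp.linearCombination S id (c w) =
      Finsupp.linearCombination R id w := fun w => by
    induction w using Finsupp.induction_linear with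
    | zero => simp
    | add x y hx hy => simp [map_add, hx, hy]
    | single a r => simp [c]
  exact (key (s m)).trans congr($hs m)

/-- For a ring `A` and an `A`-module `M`, the module `M~` on `Spec A` is locally projective (projective
sections over every affine open) if and only if `M` is a projective `A`-module. -/
theorem result (A : CommRingCat.{u}) (M : ModuleCat.{u} A) :
    (∀ U : (Spec A).Opens, IsAffineOpen U →
      Module.Projective ((Spec A).ringCatSheaf.obj.obj (op U)) ((tilde M).val.obj (op U))) ↔
      Module.Projective A M := by
  have hb := Groth.PropsBasic.FPSections.bijective_algebraMap_Γ A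
  let e := Groth.PropsBasic.FPSections.topLinearEquiv M
  have : Module.Projective A Γ(Spec A, (⊤ : (Spec A).Opens)) :=
    Module.Projective.of_equiv (LinearEquiv.ofBijective (Algebra.linearMap A _) hb)
  constructor
  · intro h
    have h' : Module.Projective Γ(Spec A, (⊤ : (Spec A).Opens)) Γ(tilde M, (⊤ : (Spec A).Opens)) :=
      h ⊤ (isAffineOpen_top _)
    have : Module.Projective A Γ(tilde M, (⊤ : (Spec A).Opens)) :=
      Groth.Agent.S7392.projective_trans A Γ(Spec A, (⊤ : (Spec A).Opens)) _
    exact Module.Projective.of_equiv e.symm
  · intro h U hU
    have : Module.Projective A Γ(tilde M, (⊤ : (Spec A).Opens)) := Module.Projective.of_equiv e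
    have h' : Module.Projective Γ(Spec A, (⊤ : (Spec A).Opens)) Γ(tilde M, (⊤ : (Spec A).Opens)) :=
      Groth.Agent.S7392.projective_of_surjective A Γ(Spec A, (⊤ : (Spec A).Opens)) _ hb.2
    exact Groth.PropsBasic.ProjectiveLocal.projective_of_cover (tilde M)
      (fun _ : PUnit.{1} => (⊤ : (Spec A).Opens)) (iSup_const) (fun _ => isAffineOpen_top _)
      (fun _ => h') hU

end Groth.Agent.S7392
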