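import Groth.Statements.S7394
import Groth.Agent.Limits.CommonField
import Mathlib.AlgebraicGeometry.Limits

set_option autoImplicit false
universe u
open CategoryTheory AlgebraicGeometry
open Lim

namespace Groth.Agent.S7394

/-- Let `S` be a scheme and `T_i → S`, `i ∈ I`, surjective affine morphisms. Then any product of the
`T_i` in the category of schemes over `S` maps surjectively onto `S`. -/
theorem result {S : Scheme.{u}} {I : Type u} (T : I → Over S)
    (hT : ∀ i, IsAffineHom (T i).hom ∧ Surjective (T i).hom) (c : Limits.Fan T) (hc : Limits.IsLimit c) :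
    Surjective c.pt.hom := by
  refine ⟨fun s ↦ ?_⟩
  choose x hx using fun i ↦ (hT i).2.surj s
  obtain ⟨K, _, p, q, hpq, hp⟩ := Groth.Limits.exists_field_point (fun i ↦ (T i).hom) s x hx
  let cc : Limits.Fan T := Limits.Fan.mk (Over.mk p) fun i ↦ Over.homMk (q i) (hpq i)
  obtain ⟨z⟩ := (inferInstance : Nonempty (Spec (CommRingCat.of K)))
  refine ⟨(hc.lift cc).left z, ?_⟩
  rw [← Scheme.Hom.comp_apply, Over.w]
  exact hp z

end Groth.Agent.S7394
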