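import Groth.Statements.S7397
import Groth.Agent.PropsBasic.UnivHomeoTower

set_option autoImplicit false
universe u
open Mor

namespace Groth.Agent.S7397

/-- Let `A ⊆ B` be a ring extension and `b ∈ B`, `b ∉ A`, with `b^n, b^(n+1) ∈ A` for some `n ≥ 2`. Then
some `b' ∈ B` with `b' ∉ A` has `b'^2 ∈ A` and `b'^3 ∈ A`. -/
theorem result {B : Type u} [CommRing B] (A : Subring B) (b : B) (hb : b ∉ A)
    (n : ℕ) (hn : 2 ≤ n) (h1 : b ^ n ∈ A) (h2 : b ^ (n + 1) ∈ A) :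
    ∃ b' : B, b' ∉ A ∧ b' ^ 2 ∈ A ∧ b' ^ 3 ∈ A := by
  refine Groth.PropsBasic.UH.exists_sq_cube_of_eventually A hb (N := n * n) fun m hm => ?_
  obtain ⟨n, rfl⟩ : ∃ k, n = k + 1 := ⟨n - 1, by omega⟩
  have hr : m % (n + 1) ≤ m / (n + 1) := by
    have h3 := Nat.mod_lt m (show n + 1 > 0 by omega)
    have h4 : n + 1 ≤ m / (n + 1) := (Nat.le_div_iff_mul_le (show 0 < n + 1 by omega)).mpr hm
    omega
  obtain ⟨q, hq⟩ := Nat.exists_eq_add_of_le hr
  have e : m = (n + 1) * q + (n + 1 + 1) * (m % (n + 1)) := by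
    have h1 := Nat.div_add_mod m (n + 1)
    rw [hq] at h1
    linarith
  rw [e, pow_add, pow_mul, pow_mul]
  exact mul_mem (pow_mem h1 _) (pow_mem h2 _)

end Groth.Agent.S7397
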