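import Groth.Statements.S7400
import Groth.Agent.PropsBasic.UnivHomeoTower

set_option autoImplicit false
universe u
open CategoryTheory AlgebraicGeometry
open Mor

namespace Groth.Agent.S7400

/-- Let `A ⊆ B` be a ring extension. The morphism `Spec B → Spec A` is a universal homeomorphism with
all residue field extensions trivial exactly when each finite subset of `B` is contained in some
`A[b_1, …, b_n] ⊆ B` such that `b_i^2` and `b_i^3` lie in `A[b_1, …, b_{i-1}]` for every `i`. (Here
`A → B` is an injective ring map and `A[b_1, …, b_{i-1}]` is the `A`-subalgebra generated by the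
earlier entries.) -/
theorem result {A B : Type u} [CommRing A] [CommRing B] [Algebra A B]
    (hinj : Function.Injective (algebraMap A B)) :
    (FlatMor.IsUnivHomeo (Spec.map (CommRingCat.ofHom (algebraMap A B))) ∧
      ∀ x : Spec (CommRingCat.of B),
        Function.Surjective ((Spec.map (CommRingCat.ofHom (algebraMap A B))).residueFieldMap x)) ↔
    ∀ E : Finset B, ∃ l : List B, (↑E : Set B) ⊆ Algebra.adjoin A {b : B | b ∈ l} ∧
      ∀ i : Fin l.length, l.get i ^ 2 ∈ Algebra.adjoin A {b : B | ∃ j : Fin l.length, j < i ∧ b = l.get j} ∧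
        l.get i ^ 3 ∈ Algebra.adjoin A {b : B | ∃ j : Fin l.length, j < i ∧ b = l.get j} := by
  rw [Groth.PropsBasic.UH.spec_isUnivHomeo_iff_of_injective hinj,
    Groth.PropsBasic.UH.rt_iff_residueFieldMap_surjective]
  refine ⟨fun ⟨⟨hint, hui⟩, hrt⟩ E => ?_, fun h => ?_⟩
  · obtain ⟨l, hl, hE⟩ := Groth.PropsBasic.UH.exists_valid_of_forall Groth.PropsBasic.UH.SQ.mono
      (Groth.PropsBasic.UH.reach_SQ_eq_top hint hui hrt) E
    exact ⟨l, hE, hl⟩
  · have hr : ∀ b : B, ∃ l, Groth.PropsBasic.UH.Valid (Groth.PropsBasic.UH.SQ (A := A)) l ∧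
        b ∈ Algebra.adjoin A {x : B | x ∈ l} := fun b => by
      obtain ⟨l, hE, hl⟩ := h {b}
      exact ⟨l, hl, hE (by simp)⟩
    refine ⟨Groth.PropsBasic.UH.isIntegral_and_ui_of_reach (fun b => ?_),
      Groth.PropsBasic.UH.rt_of_reach hr⟩
    obtain ⟨l, hl, hb⟩ := hr b
    exact ⟨l, fun i => Or.inl (hl i), hb⟩

end Groth.Agent.S7400
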