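import Groth.Statements.S7402
import Groth.Agent.PropsBasic.UnivHomeoAdjoinRoot

set_option autoImplicit false
universe u
open CategoryTheory AlgebraicGeometry
open Polynomial
open Mor

namespace Groth.Agent.S7402

open Groth.PropsBasic.UH

/-- Let `A` be a ring and `x, y ∈ A` with `x^3 = y^2`. Then `A → B = A[t]/(t^2 - x, t^3 - y)` induces a
universal homeomorphism on spectra and isomorphisms on residue fields. -/
theorem result (A : Type u) [CommRing A] (x y : A) (h : x ^ 3 = y ^ 2) :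
    FlatMor.IsUnivHomeo (Spec.map (CommRingCat.ofHom (algebraMap A
      (A[X] ⧸ Ideal.span ({X ^ 2 - C x, X ^ 3 - C y} : Set A[X]))))) ∧
    ∀ q : Spec (CommRingCat.of (A[X] ⧸ Ideal.span ({X ^ 2 - C x, X ^ 3 - C y} : Set A[X]))),
      Function.Surjective ((Spec.map (CommRingCat.ofHom (algebraMap A
        (A[X] ⧸ Ideal.span ({X ^ 2 - C x, X ^ 3 - C y} : Set A[X]))))).residueFieldMap q) := by
  set I := Ideal.span ({X ^ 2 - C x, X ^ 3 - C y} : Set A[X])
  have h2 : Ideal.Quotient.mk I X ^ 2 = algebraMap A (A[X] ⧸ I) x := by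
    rw [← map_pow, Ideal.Quotient.eq.mpr (show X ^ 2 - C x ∈ I from Ideal.subset_span (by simp))]
    rfl
  have h3 : Ideal.Quotient.mk I X ^ 3 = algebraMap A (A[X] ⧸ I) y := by
    rw [← map_pow, Ideal.Quotient.eq.mpr (show X ^ 3 - C y ∈ I from Ideal.subset_span (by simp))]
    rfl
  have hv : Valid (SQ (A := A)) [Ideal.Quotient.mk I X] :=
    valid_singleton SQ.mono ⟨h2 ▸ Subalgebra.algebraMap_mem _ x, h3 ▸ Subalgebra.algebraMap_mem _ y⟩
  have hr : ∀ b : A[X] ⧸ I, ∃ l, Valid (SQ (A := A)) l ∧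
      b ∈ Algebra.adjoin A {t : A[X] ⧸ I | t ∈ l} := fun b =>
    ⟨_, hv, by rw [adjoin_root_singleton_eq_top]; trivial⟩
  have hr' : ∀ b : A[X] ⧸ I, ∃ l, Valid (SQP (A := A)) l ∧
      b ∈ Algebra.adjoin A {t : A[X] ⧸ I | t ∈ l} := fun b =>
    ⟨[Ideal.Quotient.mk I X], fun i => Or.inl (hv i), by rw [adjoin_root_singleton_eq_top]; trivial⟩
  rw [spec_isUnivHomeo_iff, rt_iff_residueFieldMap_surjective]
  refine ⟨⟨(isIntegral_and_ui_of_reach hr').1, (isIntegral_and_ui_of_reach hr').2,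
    comap_surjective_of_lifts _ fun K _ _ g => ?_⟩, rt_of_reach hr⟩
  have hg : g x ^ 3 = g y ^ 2 := by rw [← map_pow, h, map_pow]
  obtain ⟨t, ht2, ht3⟩ : ∃ t : K, t ^ 2 = g x ∧ t ^ 3 = g y := by
    by_cases h0 : g x = 0
    · refine ⟨0, by simp [h0], ?_⟩
      rw [h0, zero_pow (by norm_num), eq_comm, sq_eq_zero_iff] at hg
      simp [hg]
    · refine ⟨g y / g x, ?_, ?_⟩
      · rw [div_pow, ← hg]; field_simp
      · rw [div_pow, hg]; field_simp
  refine ⟨Ideal.Quotient.lift I (Polynomial.eval₂RingHom g t) ?_, RingHom.ext fun a => ?_⟩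
  · intro z hz
    refine (Ideal.span_le.mpr ?_ hz : z ∈ RingHom.ker (Polynomial.eval₂RingHom g t))
    intro w hw
    rcases hw with rfl | rfl <;> simp [ht2, ht3]
  · change (Polynomial.eval₂RingHom g t) (C a) = g a
    simp

end Groth.Agent.S7402
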