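import Groth.Statements.S7403
import Groth.Agent.PropsBasic.UnivHomeoAdjoinRoot

set_option autoImplicit false
universe u
open CategoryTheory AlgebraicGeometry
open Polynomial
open Mor

namespace Groth.Agent.S7403

open Groth.PropsBasic.UH

/-- Let `A` be a ring, `p` a prime number and `x, y ∈ A` with `p^p x = y^p`. Then `A → B = A[t]/(t^p -
x, p t - y)` induces a universal homeomorphism on spectra. -/
theorem result (A : Type u) [CommRing A] (p : ℕ) (hp : p.Prime) (x y : A)
    (h : (p : A) ^ p * x = y ^ p) :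
    FlatMor.IsUnivHomeo (Spec.map (CommRingCat.ofHom (algebraMap A
      (A[X] ⧸ Ideal.span ({X ^ p - C x, C (p : A) * X - C y} : Set A[X]))))) := by
  set I := Ideal.span ({X ^ p - C x, C (p : A) * X - C y} : Set A[X])
  have h2 : Ideal.Quotient.mk I X ^ p = algebraMap A (A[X] ⧸ I) x := by
    rw [← map_pow, Ideal.Quotient.eq.mpr (show X ^ p - C x ∈ I from Ideal.subset_span (by simp))]
    rfl
  have h3 : (p : A[X] ⧸ I) * Ideal.Quotient.mk I X = algebraMap A (A[X] ⧸ I) y := by
    have hm : C (p : A) * X - C y ∈ I := Ideal.subset_span (Set.mem_insert_of_mem _ rfl)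
    have := Ideal.Quotient.eq.mpr hm
    rw [map_mul, Polynomial.C_eq_natCast, map_natCast] at this
    exact this
  have hr' : ∀ b : A[X] ⧸ I, ∃ l, Valid (SQP (A := A)) l ∧
      b ∈ Algebra.adjoin A {t : A[X] ⧸ I | t ∈ l} := fun b =>
    ⟨[Ideal.Quotient.mk I X], valid_singleton SQP.mono (Or.inr ⟨p, hp,
      h3 ▸ Subalgebra.algebraMap_mem _ y, h2 ▸ Subalgebra.algebraMap_mem _ x⟩),
      by rw [adjoin_root_singleton_eq_top]; trivial⟩
  rw [spec_isUnivHomeo_iff]
  refine ⟨(isIntegral_and_ui_of_reach hr').1, (isIntegral_and_ui_of_reach hr').2,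
    comap_surjective_of_lifts _ fun K _ _ g => ?_⟩
  have hg : (p : K) ^ p * g x = g y ^ p := by
    rw [← map_natCast g, ← map_pow, ← map_mul, h, map_pow]
  obtain ⟨t, ht2, ht3⟩ : ∃ t : K, t ^ p = g x ∧ (p : K) * t = g y := by
    by_cases h0 : (p : K) = 0
    · obtain ⟨t, ht⟩ := IsAlgClosed.exists_pow_nat_eq (g x) hp.pos
      refine ⟨t, ht, ?_⟩
      rw [h0, zero_pow hp.ne_zero, zero_mul, eq_comm] at hg
      rw [h0, zero_mul, eq_zero_of_pow_eq_zero hg]
    · refine ⟨g y / (p : K), ?_, by field_simp⟩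
      rw [div_pow, ← hg]; field_simp
  refine ⟨Ideal.Quotient.lift I (Polynomial.eval₂RingHom g t) ?_, RingHom.ext fun a => ?_⟩
  · intro z hz
    refine (Ideal.span_le.mpr ?_ hz : z ∈ RingHom.ker (Polynomial.eval₂RingHom g t))
    intro w hw
    rcases hw with rfl | rfl <;> simp [ht2, ht3]
  · change (Polynomial.eval₂RingHom g t) (C a) = g a
    simp

end Groth.Agent.S7403
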