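import Groth.Statements.S7404
import Groth.Agent.PropsBasic.UnivHomeoTower

set_option autoImplicit false
universe u
open CategoryTheory AlgebraicGeometry
open Mor

namespace Groth.Agent.S7404

open Groth.PropsBasic.UH

/-- Let `A → B` be a ring map and `B' ⊆ B` an `A`-subalgebra, with `f : Spec B → Spec A` and `f' : Spec
B' → Spec A` the induced morphisms. Each of the following properties passes from `f` to `f'`: being
a universal homeomorphism; being a universal homeomorphism with trivial residue field extensions;
being universally closed; being both universally closed and universally injective. -/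
theorem result {A B : Type u} [CommRing A] [CommRing B] [Algebra A B]
    (B' : Subalgebra A B) :
    (FlatMor.IsUnivHomeo (Spec.map (CommRingCat.ofHom (algebraMap A B))) →
      FlatMor.IsUnivHomeo (Spec.map (CommRingCat.ofHom (algebraMap A B')))) ∧
    ((FlatMor.IsUnivHomeo (Spec.map (CommRingCat.ofHom (algebraMap A B))) ∧
      ∀ x : Spec (CommRingCat.of B),
        Function.Surjective ((Spec.map (CommRingCat.ofHom (algebraMap A B))).residueFieldMap x)) →
      FlatMor.IsUnivHomeo (Spec.map (CommRingCat.ofHom (algebraMap A B'))) ∧
      ∀ x : Spec (CommRingCat.of B'),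
        Function.Surjective ((Spec.map (CommRingCat.ofHom (algebraMap A B'))).residueFieldMap x)) ∧
    (UniversallyClosed (Spec.map (CommRingCat.ofHom (algebraMap A B))) →
      UniversallyClosed (Spec.map (CommRingCat.ofHom (algebraMap A B')))) ∧
    (UniversallyClosed (Spec.map (CommRingCat.ofHom (algebraMap A B))) →
      UniversallyInjective (Spec.map (CommRingCat.ofHom (algebraMap A B))) →
      UniversallyClosed (Spec.map (CommRingCat.ofHom (algebraMap A B'))) ∧
      UniversallyInjective (Spec.map (CommRingCat.ofHom (algebraMap A B')))) := by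
  have hcomp : B'.val.toRingHom.comp (algebraMap A B') = algebraMap A B := B'.val.comp_algebraMap
  have hinj : Function.Injective B'.val.toRingHom := Subtype.val_injective
  have hbot : (algebraMap A B).IsIntegral → (algebraMap A B').IsIntegral := fun h =>
    RingHom.IsIntegral.tower_bot (algebraMap A B') B'.val.toRingHom hinj (by rw [hcomp]; exact h)
  have htop : (algebraMap A B).IsIntegral → B'.val.toRingHom.IsIntegral := fun h =>
    RingHom.IsIntegral.tower_top (f := algebraMap A B') _ (by rw [hcomp]; exact h)
  have hsur : Function.Surjective (PrimeSpectrum.comap (algebraMap A B)) →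
      Function.Surjective (PrimeSpectrum.comap (algebraMap A B')) := fun h p => by
    obtain ⟨q, hq⟩ := h p
    exact ⟨PrimeSpectrum.comap B'.val.toRingHom q, by
      rw [← PrimeSpectrum.comap_comp_apply, hcomp, hq]⟩
  have hui : (algebraMap A B).IsIntegral → UI (algebraMap A B) → UI (algebraMap A B') :=
    fun h h' => UI.of_injective_isIntegral hinj (htop h) (by rw [hcomp]; exact h')
  have hrt : (algebraMap A B).IsIntegral → RT (algebraMap A B) → RT (algebraMap A B') :=
    fun h h' => RT.of_injective_isIntegral hinj (htop h) (by rw [hcomp]; exact h')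
  simp only [spec_isUnivHomeo_iff, rt_iff_residueFieldMap_surjective, universallyClosed_spec_iff,
    UI.spec_iff]
  exact ⟨fun ⟨a, b, c⟩ => ⟨hbot a, hui a b, hsur c⟩,
    fun ⟨⟨a, b, c⟩, d⟩ => ⟨⟨hbot a, hui a b, hsur c⟩, hrt a d⟩, hbot,
    fun a b => ⟨hbot a, hui a b⟩⟩

end Groth.Agent.S7404
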