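import Groth.Statements.S7405
import Groth.Agent.PropsBasic.UnivHomeoColimit

set_option autoImplicit false
universe u
open CategoryTheory AlgebraicGeometry
open Mor

namespace Groth.Agent.S7405

open Groth.PropsBasic.UH

/-- Let `A` be a ring and `B` the colimit of a filtered diagram `j ↦ B_j` of `A`-algebras. Each of the
following properties, when it holds for every `Spec B_j → Spec A`, holds for `Spec B → Spec A`:
being a universal homeomorphism; being a universal homeomorphism with trivial residue field
extensions; being universally closed; being both universally closed and universally injective. -/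
theorem result (A : CommRingCat.{u}) {J : Type u} [SmallCategory J]
    [IsFiltered J] (F : J ⥤ Under A) (c : Limits.Cocone F) (hc : Limits.IsColimit c) :
    ((∀ j, FlatMor.IsUnivHomeo (Spec.map (F.obj j).hom)) → FlatMor.IsUnivHomeo (Spec.map c.pt.hom)) ∧
    ((∀ j, FlatMor.IsUnivHomeo (Spec.map (F.obj j).hom) ∧
        ∀ x : Spec (F.obj j).right, Function.Surjective ((Spec.map (F.obj j).hom).residueFieldMap x)) →
      FlatMor.IsUnivHomeo (Spec.map c.pt.hom) ∧
        ∀ x : Spec c.pt.right, Function.Surjective ((Spec.map c.pt.hom).residueFieldMap x)) ∧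
    ((∀ j, UniversallyClosed (Spec.map (F.obj j).hom)) → UniversallyClosed (Spec.map c.pt.hom)) ∧
    ((∀ j, UniversallyClosed (Spec.map (F.obj j).hom) ∧ UniversallyInjective (Spec.map (F.obj j).hom)) →
      UniversallyClosed (Spec.map c.pt.hom) ∧ UniversallyInjective (Spec.map c.pt.hom)) := by
  have hw : ∀ j, (c.ι.app j).right.hom.comp (F.obj j).hom.hom = c.pt.hom.hom := fun j => by
    have := congr($(Under.w (c.ι.app j)).hom)
    rwa [CommRingCat.hom_comp] at this
  have hsurj := colimit_jointly_surjective A F c hc
  have hS : ∀ (B : CommRingCat.{u}) (f : A ⟶ B), FlatMor.IsUnivHomeo (Spec.map f) ↔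
      f.hom.IsIntegral ∧ UI f.hom ∧ Function.Surjective (PrimeSpectrum.comap f.hom) :=
    fun B f => spec_isUnivHomeo_iff f.hom
  have hR : ∀ (B : CommRingCat.{u}) (f : A ⟶ B),
      (∀ x : Spec B, Function.Surjective ((Spec.map f).residueFieldMap x)) ↔ RT f.hom :=
    fun B f => rt_iff_residueFieldMap_surjective f.hom
  have hU : ∀ (B : CommRingCat.{u}) (f : A ⟶ B), UniversallyInjective (Spec.map f) ↔ UI f.hom :=
    fun B f => UI.spec_iff f.hom
  have hC : ∀ (B : CommRingCat.{u}) (f : A ⟶ B),
      UniversallyClosed (Spec.map f) ↔ f.hom.IsIntegral :=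
    fun B f => universallyClosed_spec_iff f.hom
  simp only [hS, hC, hU, hR]
  exact ⟨fun h => ⟨isIntegral_of_family _ _ hw hsurj fun j => (h j).1,
      ui_of_family _ _ hw hsurj fun j => (h j).2.1,
      comap_surjective_of_colimit A F c hc fun j => (h j).2.2⟩,
    fun h => ⟨⟨isIntegral_of_family _ _ hw hsurj fun j => (h j).1.1,
      ui_of_family _ _ hw hsurj fun j => (h j).1.2.1,
      comap_surjective_of_colimit A F c hc fun j => (h j).1.2.2⟩,
      rt_of_family _ _ hw hsurj fun j => (h j).2⟩,
    fun h => isIntegral_of_family _ _ hw hsurj h,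
    fun h => ⟨isIntegral_of_family _ _ hw hsurj fun j => (h j).1,
      ui_of_family _ _ hw hsurj fun j => (h j).2⟩⟩

end Groth.Agent.S7405
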