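import Groth.Statements.S7406
import Mathlib.AlgebraicGeometry.Morphisms.Etale
import Mathlib.AlgebraicGeometry.Fiber
import Groth.Agent.FlatMor2.NoethFibre
import Mathlib.RingTheory.Etale.Field

set_option autoImplicit false
universe u
open CategoryTheory AlgebraicGeometry
open Desc

namespace Groth.Agent.S7406

/-- Consider a commutative square of schemes with horizontal maps `h' : U' → V'`, `h : U → V` and étale
vertical maps `a : U' → U`, `b : V' → V`, and let `v' ∈ V'` with image `v = b(v')`. Then the induced
morphism of fibres `U'_{v'} → U_v` is étale. (The morphism of fibres is characterised by its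
compatibility with `a` and with `Spec κ(v') → Spec κ(v)`.) -/
theorem result {U U' V V' : Scheme.{u}} (h : U ⟶ V) (h' : U' ⟶ V') (a : U' ⟶ U)
    (b : V' ⟶ V) [Etale a] [Etale b] (comm : h' ≫ b = a ≫ h) (v' : V')
    (φ : h'.fiber v' ⟶ h.fiber (b v')) (hφ1 : φ ≫ h.fiberι (b v') = h'.fiberι v' ≫ a)
    (hφ2 : φ ≫ h.fiberToSpecResidueField (b v') = h'.fiberToSpecResidueField v' ≫ Spec.map (b.residueFieldMap v')) :
    Etale φ := by
  let s : Spec (V'.residueField v') ⟶ Limits.pullback b (V.fromSpecResidueField (b v')) :=
    Limits.pullback.lift (V'.fromSpecResidueField v') (Spec.map (b.residueFieldMap v'))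
      (Scheme.Hom.SpecMap_residueFieldMap_fromSpecResidueField b v').symm
  have hr : Etale (Spec.map (b.residueFieldMap v')) := by
    algebraize [(b.residueFieldMap v').hom]
    have : Algebra.IsSeparable (V.residueField (b v')) (V'.residueField v') := inferInstance
    have : Algebra.EssFiniteType (V.residueField (b v')) (V'.residueField v') :=
      Groth.FlatMor2.essFiniteType_residueFieldMap b v'
    have : Algebra.FormallyUnramified (V.residueField (b v')) (V'.residueField v') :=
      Algebra.FormallyUnramified.of_isSeparable _ _
    have : FiniteDimensional (V.residueField (b v')) (V'.residueField v') :=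
      Algebra.FormallyUnramified.finite_of_free _ _
    have : Algebra.FormallyEtale (V.residueField (b v')) (V'.residueField v') :=
      Algebra.FormallyEtale.of_isSeparable _ _
    have : Algebra.Etale (V.residueField (b v')) (V'.residueField v') :=
      ⟨inferInstance, (Algebra.FinitePresentation.of_finiteType).1 inferInstance⟩
    rw [HasRingHomProperty.Spec_iff (P := @Etale)]
    exact RingHom.etale_algebraMap.2 this
  have : Etale (s ≫ Limits.pullback.snd b (V.fromSpecResidueField (b v'))) := by
    rw [Limits.pullback.lift_snd]; exact hr
  have hs : Etale s := Etale.of_comp s (Limits.pullback.snd b (V.fromSpecResidueField (b v')))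
  let q : h'.fiber v' ⟶ Limits.pullback a (h.fiberι (b v')) := Limits.pullback.lift (h'.fiberι v') φ hφ1.symm
  have hq : Etale q := by
    let m : Limits.pullback a (h.fiberι (b v')) ⟶ Limits.pullback b (V.fromSpecResidueField (b v')) :=
      Limits.pullback.lift (Limits.pullback.fst _ _ ≫ h') (Limits.pullback.snd _ _ ≫ h.fiberToSpecResidueField (b v')) (by
        rw [Category.assoc, comm, Limits.pullback.condition_assoc, Category.assoc]
        exact congrArg (_ ≫ ·) Limits.pullback.condition)
    have hbig : IsPullback (Limits.pullback.fst a (h.fiberι (b v'))) m h' (Limits.pullback.fst b (V.fromSpecResidueField (b v'))) := by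
      refine IsPullback.of_bot ?_ (Limits.pullback.lift_fst _ _ _).symm (IsPullback.of_hasPullback b _)
      rw [Limits.pullback.lift_snd, comm]
      exact (IsPullback.of_hasPullback a (h.fiberι (b v'))).paste_vert
        (IsPullback.of_hasPullback h (V.fromSpecResidueField (b v')))
    refine MorphismProperty.of_isPullback (P := @Etale) (g := s) (g' := q)
      (f' := h'.fiberToSpecResidueField v') (f := m) ?_ hs
    refine (IsPullback.of_right ?_ ?_ hbig.flip.flip).flip
    · rw [Limits.pullback.lift_fst, Limits.pullback.lift_fst]
      exact IsPullback.of_hasPullback h' _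
    · apply Limits.pullback.hom_ext
      · rw [Category.assoc, Limits.pullback.lift_fst, Limits.pullback.lift_fst_assoc, Category.assoc, Limits.pullback.lift_fst]
        exact Limits.pullback.condition
      · rw [Category.assoc, Limits.pullback.lift_snd, Limits.pullback.lift_snd_assoc, Category.assoc, Limits.pullback.lift_snd]
        exact hφ2
  have : Etale (Limits.pullback.snd a (h.fiberι (b v'))) := inferInstance
  rw [show φ = q ≫ Limits.pullback.snd a (h.fiberι (b v')) from (Limits.pullback.lift_snd _ _ _).symm]
  exact MorphismProperty.comp_mem (W := @Etale) _ _ hq this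

end Groth.Agent.S7406
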