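import Groth.Statements.S7407
import Mathlib.AlgebraicGeometry.Morphisms.Etale
import Mathlib.RingTheory.AlgebraicIndependent.TranscendenceBasis

set_option autoImplicit false
universe u
open CategoryTheory AlgebraicGeometry
open Desc

namespace Groth.Agent.S7407

/-- The transcendence degree of the residue field extension `κ(x)/κ(s)` of a morphism of germs `(X, x) →
(S, s)` is étale local on the source-and-target: for a commutative square with horizontal maps `h' :
U' → V'`, `h : U → V`, étale vertical maps `a : U' → U`, `b : V' → V` and `u' ∈ U'` with `u =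
a(u')`, the transcendence degree of `κ(u)` over `κ(h(u))` equals that of `κ(u')` over `κ(h'(u'))`. -/
theorem result {U U' V V' : Scheme.{u}} (h : U ⟶ V) (h' : U' ⟶ V') (a : U' ⟶ U)
    (b : V' ⟶ V) [Etale a] [Etale b] (comm : h' ≫ b = a ≫ h) (u' : U') :
    @Algebra.trdeg (V.residueField (h (a u'))) (U.residueField (a u')) _ _ (h.residueFieldMap (a u')).hom.toAlgebra =
      @Algebra.trdeg (V'.residueField (h' u')) (U'.residueField u') _ _ (h'.residueFieldMap u').hom.toAlgebra := by
  have key : ∀ {F L : Type u} [Field F] [Field L] [Algebra F L], Algebra.IsSeparable F L → Algebra.trdeg F L = 0 :=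
    fun {F L} _ _ _ h => by
      have := h
      exact trdeg_eq_zero
  let F := V.residueField (h (a u'))
  let i1 : Algebra (V.residueField (h (a u'))) (U.residueField (a u')) := (h.residueFieldMap (a u')).hom.toAlgebra
  let i2 : Algebra (U.residueField (a u')) (U'.residueField u') := (a.residueFieldMap u').hom.toAlgebra
  have hs2 : Algebra.IsSeparable (U.residueField (a u')) (U'.residueField u') := inferInstance
  let i3 : Algebra (V'.residueField (h' u')) (U'.residueField u') := (h'.residueFieldMap u').hom.toAlgebra
  let i4 : Algebra (V.residueField (b (h' u'))) (V'.residueField (h' u')) := (b.residueFieldMap (h' u')).hom.toAlgebra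
  have hs4 : Algebra.IsSeparable (V.residueField (b (h' u'))) (V'.residueField (h' u')) := inferInstance
  let i5 : Algebra (V.residueField (h (a u'))) (U'.residueField u') := ((a ≫ h).residueFieldMap u').hom.toAlgebra
  have t1 : IsScalarTower (V.residueField (h (a u'))) (U.residueField (a u')) (U'.residueField u') :=
    IsScalarTower.of_algebraMap_eq fun c => by
      show ((a ≫ h).residueFieldMap u').hom c = (a.residueFieldMap u').hom ((h.residueFieldMap (a u')).hom c)
      rw [Scheme.residueFieldMap_comp]
      rfl
  let i6 : Algebra (V.residueField (b (h' u'))) (U'.residueField u') := ((h' ≫ b).residueFieldMap u').hom.toAlgebra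
  have t2 : IsScalarTower (V.residueField (b (h' u'))) (V'.residueField (h' u')) (U'.residueField u') :=
    IsScalarTower.of_algebraMap_eq fun c => by
      show ((h' ≫ b).residueFieldMap u').hom c = (h'.residueFieldMap u').hom ((b.residueFieldMap (h' u')).hom c)
      rw [Scheme.residueFieldMap_comp]
      rfl
  have e1 := trdeg_add_eq (V.residueField (h (a u'))) (U.residueField (a u')) (A := U'.residueField u')
  have e2 := trdeg_add_eq (V.residueField (b (h' u'))) (V'.residueField (h' u')) (A := U'.residueField u')
  rw [key hs2, add_zero] at e1
  rw [key hs4, zero_add] at e2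
  rw [e1, e2]
  have gen : ∀ (φ ψ : U' ⟶ V), φ = ψ →
      @Algebra.trdeg (V.residueField (φ u')) (U'.residueField u') _ _ (φ.residueFieldMap u').hom.toAlgebra =
        @Algebra.trdeg (V.residueField (ψ u')) (U'.residueField u') _ _ (ψ.residueFieldMap u').hom.toAlgebra := by
    rintro φ ψ rfl
    rfl
  exact (gen (a ≫ h) (h' ≫ b) comm.symm)

end Groth.Agent.S7407
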