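import Groth.Statements.S7408
import Groth.Agent.AlgSp3.FibreInv

set_option autoImplicit false
universe u
open CategoryTheory AlgebraicGeometry
open Desc

namespace Groth.Agent.S7408

/-- The local dimension of the fibre at a point is étale local on the source-and-target: for a
commutative square with horizontal maps `h' : U' → V'`, `h : U → V`, étale vertical maps `a : U' →
U`, `b : V' → V` and `u' ∈ U'`, the local dimension at `a(u')` of the fibre of `h` equals the local
dimension at `u'` of the fibre of `h'`. -/
theorem result {U U' V V' : Scheme.{u}} (h : U ⟶ V) (h' : U' ⟶ V') (a : U' ⟶ U)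
    (b : V' ⟶ V) [Etale a] [Etale b] (comm : h' ≫ b = a ≫ h) (u' : U') :
    FlatMor.fibreDimAt h (a u') = FlatMor.fibreDimAt h' u' := by
  rw [← Groth.AlgSp3.fibreDimAt_etale_comp a h u', ← Groth.AlgSp3.fibreDimAt_comp_etale h' b u', comm]

end Groth.Agent.S7408
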