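import Groth.Statements.S7411
import Groth.Agent.Limits.FibreVanishingGeneral

set_option autoImplicit false
universe u
open Lim

namespace Groth.Agent.S7411

open AlgebraicGeometry CategoryTheory in
/-- Let `f : X → Y` be proper and `y ∈ Y` a point whose fibre `X_y` has dimension at most `d`. Then for
every quasi-coherent `O_X`-module `F` and every `i > d` the stalk `(R^i f_* F)_y` vanishes. (The
published statement assumes that the fibre has dimension exactly `d`; this row assumes dimension at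
most `d`.) -/
theorem result {X Y : Scheme.{u}} (f : X ⟶ Y) [IsProper f]
    (y : Y) (d : ℕ) (hd : topologicalKrullDim ↥(f.fiber y) ≤ d) (M : X.Modules) [Coh.IsQCoh M] (i : ℕ)
    (hi : d < i) :
    Limits.IsZero (TopCat.Presheaf.stalk ((Coh.RpushAb f i).obj (Coh.toAb M)).obj y) := by
  obtain ⟨V, hV, hy⟩ := Groth.QCohMod.exists_affine_mem y
  refine Groth.Limits.FibreVanishing.isZero_stalk_RpushAb f M i hV y hy ?_
  letI : ((f ⁻¹ᵁ V : X.Opens) : Scheme.{u}).Over (Spec (CommRingCat.of Γ(Y, V))) :=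
    ⟨Groth.CohBase.preimageToSpec f⟩
  intro ξ
  haveI : IsProper ((f ⁻¹ᵁ V : X.Opens).toScheme ↘ Spec (CommRingCat.of Γ(Y, V))) :=
    MorphismProperty.of_isPullback (Groth.CohBase.isPullback_preimageToSpec f hV) ‹IsProper f›
  haveI : (M.restrict (f ⁻¹ᵁ V).ι).IsQuasicoherent :=
    Scheme.Modules.isQuasicoherent_restrictFunctor _ M
  obtain ⟨s, hs, hξ⟩ := Groth.Limits.FibreVanishing.exists_smul_eq_zero_general
    (X := (f ⁻¹ᵁ V : X.Opens)) (hV.primeIdealOf ⟨y, hy⟩) d
    (Groth.Limits.FibreVanishing.dim_fiber_preimageToSpec_le f hV y hy d hd) _ i hi ξ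
  refine ⟨s, ?_, hξ⟩
  have h1 : hV.primeIdealOf ⟨y, hy⟩ ∈ hV.fromSpec ⁻¹ᵁ Y.basicOpen s := by
    rw [hV.fromSpec_preimage_basicOpen]
    exact hs
  have h2 : hV.fromSpec.base (hV.primeIdealOf ⟨y, hy⟩) ∈ Y.basicOpen s := h1
  have h3 : hV.fromSpec.base (hV.primeIdealOf ⟨y, hy⟩) = y := hV.fromSpec_primeIdealOf ⟨y, hy⟩
  rw [h3] at h2
  exact h2

end Groth.Agent.S7411
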