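import Groth.Statements.S7412
import Mathlib

set_option autoImplicit false
universe u
open Desc

namespace Groth.Agent.S7412

open TensorProduct

/-- Let `R` be a ring and `f : M → N` a map of `R`-modules. Then `f` is universally injective (`f ⊗ 1_P`
is injective for every `R`-module `P`; here `P` ranges over modules in the same universe, which
suffices) if and only if the map of character modules `C(N) → C(M)`, `C(-) = Hom_ℤ(-, ℚ/ℤ)`, is a
split surjection of `R`-modules. -/
theorem result {R : Type u} [CommRing R] {M N : Type u}
    [AddCommGroup M] [Module R M] [AddCommGroup N] [Module R N] (f : M →ₗ[R] N) :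
    (∀ (P : Type u) [AddCommGroup P] [Module R P], Function.Injective (f.lTensor P)) ↔
      ∃ g : CharacterModule M →ₗ[R] CharacterModule N, (CharacterModule.dual f).comp g = LinearMap.id := by
  constructor
  · intro h
    let ev : CharacterModule (CharacterModule M ⊗[R] M) :=
      CharacterModule.uncurry (LinearMap.id : CharacterModule M →ₗ[R] CharacterModule M)
    obtain ⟨G, hG⟩ := CharacterModule.dual_surjective_of_injective (f.lTensor (CharacterModule M))
      (h (CharacterModule M)) ev
    refine ⟨CharacterModule.curry G, LinearMap.ext fun χ => DFunLike.ext _ _ fun m => ?_⟩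
    exact DFunLike.congr_fun hG (χ ⊗ₜ m)
  · rintro ⟨g, hg⟩ P _ _
    refine (injective_iff_map_eq_zero _).2 fun z hz =>
      CharacterModule.eq_zero_of_character_apply fun Ω => ?_
    have key : ∀ w, CharacterModule.uncurry (g ∘ₗ CharacterModule.curry Ω) (f.lTensor P w) = Ω w := by
      intro w
      induction w using TensorProduct.induction_on with
      | zero => simp
      | tmul p m => exact DFunLike.congr_fun (LinearMap.congr_fun hg (CharacterModule.curry Ω p)) m
      | add a b ha hb => simp only [map_add, ha, hb]
    rw [← key, hz, map_zero]

end Groth.Agent.S7412
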