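import Groth.Statements.S7414
import Mathlib
import Groth.Agent.PropsBasic.GRingLocal

set_option autoImplicit false
universe u
open CategoryTheory AlgebraicGeometry
open Mor

namespace Groth.Agent.S7414

/-- A scheme `X` is a G-scheme (every point has an affine open neighbourhood with G-ring coordinate
ring) if and only if `O_X(U)` is a G-ring for every affine open `U ⊆ X`. -/
theorem result (X : Scheme.{u}) :
    (∀ x : X, ∃ U : X.Opens, x ∈ U ∧ IsAffineOpen U ∧ CAlg.IsGRing Γ(X, U)) ↔
      ∀ U : X.Opens, IsAffineOpen U → CAlg.IsGRing Γ(X, U) := by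
  constructor
  · intro h U hU
    choose V hxV hV hG using h
    have : IsLocallyNoetherian X := isLocallyNoetherian_of_affine_cover (S := fun x => ⟨V x, hV x⟩)
      (top_le_iff.mp fun x _ => TopologicalSpace.Opens.mem_iSup.mpr ⟨x, hxV x⟩) fun x => (hG x).1
    refine ⟨IsLocallyNoetherian.component_noetherian ⟨U, hU⟩, fun p hp => ?_⟩
    let x : X := hU.fromSpec ⟨p, hp⟩
    have hxU : x ∈ U := hU.range_fromSpec.subset ⟨_, rfl⟩
    let q := (hV x).primeIdealOf ⟨x, hxV x⟩
    letI : Algebra Γ(X, U) (X.presheaf.stalk x) := X.presheaf.algebra_section_stalk ⟨x, hxU⟩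
    letI : Algebra Γ(X, V x) (X.presheaf.stalk x) := X.presheaf.algebra_section_stalk ⟨x, hxV x⟩
    have : IsLocalization.AtPrime (X.presheaf.stalk x) p := hU.isLocalization_stalk' ⟨p, hp⟩ hxU
    have : IsLocalization.AtPrime (X.presheaf.stalk x) q.asIdeal :=
      (hV x).isLocalization_stalk ⟨x, hxV x⟩
    let e₁ := (IsLocalization.algEquiv p.primeCompl (Localization.AtPrime p)
      (X.presheaf.stalk x)).toRingEquiv
    let e₂ := (IsLocalization.algEquiv q.asIdeal.primeCompl (Localization.AtPrime q.asIdeal)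
      (X.presheaf.stalk x)).toRingEquiv
    exact Groth.PropsBasic.GRingLocal.isRegularHom_completion_of_equiv (e₂.trans e₁.symm)
      ((hG x).2 q.asIdeal)
  · intro h x
    obtain ⟨_, ⟨U, hU, rfl⟩, hxU, -⟩ :=
      X.isBasis_affineOpens.exists_subset_of_mem_open (Set.mem_univ x) isOpen_univ
    exact ⟨U, hxU, hU, h U hU⟩

end Groth.Agent.S7414
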