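import Groth.Statements.S7415
import Groth.Agent.PropsBasic.ZeroDim

set_option autoImplicit false
universe u
open CategoryTheory AlgebraicGeometry
open Mor

namespace Groth.Agent.S7415

/-- Let `X` be a reduced scheme with finitely many irreducible components and `x ∈ X`. Then `x` has an
affine open neighbourhood `U` such that `O_X(U) → O_{X,x}` is injective. -/
theorem result (X : Scheme.{u}) [AlgebraicGeometry.IsReduced X]
    (hirr : (irreducibleComponents (X : Type u)).Finite) (x : X) : X.IsGermInjectiveAt x := by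
  let C : Set X := ⋃ W ∈ {W ∈ irreducibleComponents (X : Type u) | x ∉ W}, W
  have hC : IsClosed C := (hirr.subset (Set.sep_subset _ _)).isClosed_biUnion fun W hW =>
    isClosed_of_mem_irreducibleComponents W hW.1
  have hxC : x ∉ C := fun h => by
    obtain ⟨W, hW, hxW⟩ := Set.mem_iUnion₂.mp h
    exact hW.2 hxW
  obtain ⟨U, hU, hxU, hle⟩ := TopologicalSpace.Opens.isBasis_iff_nbhd.mp X.isBasis_affineOpens
    (show x ∈ (⟨Cᶜ, hC.isOpen_compl⟩ : X.Opens) from hxC)
  refine ⟨⟨U, hxU, hU, (injective_iff_map_eq_zero _).mpr fun s hs => ?_⟩⟩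
  rw [← map_zero (X.presheaf.germ U x hxU).hom] at hs
  obtain ⟨W, hxW, i₁, i₂, e⟩ := X.presheaf.germ_eq x hxU hxU s 0 hs
  rw [map_zero] at e
  apply eq_zero_of_basicOpen_eq_bot
  rw [← TopologicalSpace.Opens.coe_inj, TopologicalSpace.Opens.coe_bot]
  by_contra hne
  obtain ⟨y, hy⟩ := Set.nonempty_iff_ne_empty.mpr hne
  have hyU : y ∈ U := X.basicOpen_le s hy
  obtain ⟨η, hη, hηy⟩ := Groth.PropsBasic2.exists_genericPoint_specializes y
  have hηU : η ∈ U := hηy.mem_open U.isOpen hyU
  have hxη : x ∈ closure {η} := by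
    by_contra hn
    exact hle hηU (Set.mem_biUnion (show closure {η} ∈ {W ∈ irreducibleComponents (X : Type u) | x ∉ W}
      from ⟨hη, hn⟩) (subset_closure rfl))
  have hηW : η ∈ W := (specializes_iff_mem_closure.mpr hxη).mem_open W.isOpen hxW
  have h2 : η ∈ W ⊓ X.basicOpen s := ⟨hηW, hηy.mem_open (X.basicOpen s).isOpen hy⟩
  rw [← X.basicOpen_res s i₁.op, e, Scheme.basicOpen_zero] at h2
  exact h2

end Groth.Agent.S7415
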