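import Mathlib
import Groth.Statements.S7416


set_option autoImplicit false
universe u
open CategoryTheory AlgebraicGeometry
open Mor

namespace Groth.Agent.S7416

/-- Let `U`, `V` be affine schemes and `W → U`, `W → V` open immersions. Then every `w ∈ W` has an open
neighbourhood `W' ⊆ W` whose images in `U` and in `V` are standard opens `D(f) ⊆ U`, `D(g) ⊆ V` (in
particular `W'` is affine). -/
theorem result {U V W : Scheme.{u}} [IsAffine U]
    [IsAffine V] (i : W ⟶ U) (j : W ⟶ V) [IsOpenImmersion i] [IsOpenImmersion j] (w : W) :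
    ∃ (W' : W.Opens) (f : Γ(U, ⊤)) (g : Γ(V, ⊤)), w ∈ W' ∧ i ''ᵁ W' = U.basicOpen f ∧ j ''ᵁ W' = V.basicOpen g := by
  have hrange : i w ∈ i.opensRange := ⟨w, rfl⟩
  obtain ⟨f, hf, hwf⟩ := (isAffineOpen_top U).exists_basicOpen_le ⟨i w, hrange⟩ trivial
  have hDf : IsAffineOpen (U.basicOpen f) := (isAffineOpen_top U).basicOpen f
  have e1 : i ''ᵁ (i ⁻¹ᵁ U.basicOpen f) = U.basicOpen f := by
    rw [Scheme.Hom.image_preimage_eq_opensRange_inf, inf_eq_right.mpr hf]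
  have hW1 : IsAffineOpen (i ⁻¹ᵁ U.basicOpen f) :=
    (i.isAffineOpen_iff_of_isOpenImmersion).mp (by rw [e1]; exact hDf)
  have hw1 : j w ∈ j ''ᵁ (i ⁻¹ᵁ U.basicOpen f) := ⟨w, hwf, rfl⟩
  obtain ⟨g, hg, hwg⟩ := (isAffineOpen_top V).exists_basicOpen_le ⟨j w, hw1⟩ trivial
  have hle : j ⁻¹ᵁ V.basicOpen g ≤ i ⁻¹ᵁ U.basicOpen f := fun z hz => by
    obtain ⟨z', hz', e⟩ := hg hz
    exact j.isOpenEmbedding.injective e ▸ hz'
  set W1 := i ⁻¹ᵁ U.basicOpen f with hW1def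
  let t : Γ(W, W1) := W.presheaf.map (homOfLE le_top).op (j.appTop g)
  have et : W.basicOpen t = j ⁻¹ᵁ V.basicOpen g := by
    rw [Scheme.basicOpen_res, ← Scheme.preimage_basicOpen_top]
    exact inf_eq_right.mpr hle
  obtain ⟨s, hs⟩ : ∃ s : Γ(U, U.basicOpen f), i ''ᵁ W.basicOpen t = U.basicOpen s :=
    ⟨U.presheaf.map (eqToHom e1.symm).op ((i.appIso W1).inv t), by
      refine (Scheme.image_basicOpen i t).trans ?_
      exact ((Scheme.basicOpen_res _ _ _).trans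
        (inf_eq_right.mpr ((Scheme.basicOpen_le _ _).trans e1.le))).symm⟩
  obtain ⟨f', hf'⟩ := (isAffineOpen_top U).basicOpen_basicOpen_is_basicOpen f s
  refine ⟨j ⁻¹ᵁ V.basicOpen g, f', g, hwg, ?_, ?_⟩
  · rw [← et, hs, hf']
  · rw [Scheme.Hom.image_preimage_eq_opensRange_inf,
      inf_eq_right.mpr (hg.trans (j.image_le_opensRange _))]

end Groth.Agent.S7416
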