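import Groth.Statements.S7421
import Groth.Agent.HTopHyper.Local

set_option autoImplicit false
universe u
open CategoryTheory AlgebraicGeometry
open HTop

namespace Groth.Agent.S7421

/-- A seminormal ring is reduced, and a seminormal scheme is reduced. -/
theorem result :
    (∀ (A : Type u) [CommRing A], HTop.IsSeminormalRing A → IsReduced A) ∧
    ∀ (X : Scheme.{u}), HTop.IsSeminormal X → AlgebraicGeometry.IsReduced X := by
  refine ⟨fun A _ h => Groth.HTopHyper.isReduced_of_seminormal h, fun X h => ?_⟩
  have hr : ∀ i, AlgebraicGeometry.IsReduced (X.affineCover.X i) := fun i => by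
    have hU : IsAffineOpen (X.affineCover.f i).opensRange := isAffineOpen_opensRange _
    have := Groth.HTopHyper.isReduced_of_seminormal (Groth.HTopHyper.forall_affine_of_isSeminormal h ⟨_, hU⟩)
    have : AlgebraicGeometry.IsReduced (Spec Γ(X, (X.affineCover.f i).opensRange)) :=
      (affine_isReduced_iff _).mpr this
    exact isReduced_of_isOpenImmersion ((X.affineCover.f i).isoOpensRange ≪≫ hU.isoSpec).hom
  exact IsReduced.of_openCover (X := X) X.affineCover

end Groth.Agent.S7421
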