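import Groth.Statements.S7426
import Groth.Agent.HTopHyper.SchemeAWN

set_option autoImplicit false
universe u
open CategoryTheory AlgebraicGeometry
open HTop

namespace Groth.Agent.S7426

/-- For a scheme `X` the following are equivalent: `X` is absolutely weakly normal; `X^awn → X` is an
isomorphism (equivalently, the identity of `X` is an absolute weak normalization); every universal
homeomorphism `Y → X` with `Y` reduced is an isomorphism. -/
theorem result (X : Scheme.{u}) :
    (HTop.IsAWN X ↔ HTop.IsAWNormalization (𝟙 X)) ∧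
    (HTop.IsAWN X ↔ ∀ (Y : Scheme.{u}) (π : Y ⟶ X), FlatMor.IsUnivHomeo π → AlgebraicGeometry.IsReduced Y → IsIso π) := by
  obtain ⟨X', ν, hν⟩ : ∃ (X' : Scheme.{u}) (ν : X' ⟶ X), HTop.IsAWNormalization ν :=
    ⟨_, _, Groth.HTopHyper.isAWNormalization_awnToBase X⟩
  have hX' := Groth.HTopHyper.isAWN_of_isAWNormalization hν
  refine ⟨⟨fun h => Groth.HTopHyper.isAWNormalization_of_isAWN _ (Groth.HTopHyper.isUnivHomeo_of_isIso _) h,
    fun h => ?_⟩, ⟨fun h Y π hπ _ => Groth.HTopHyper.isIso_of_isUnivHomeo hπ (Or.inl h), fun h => ?_⟩⟩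
  · exact Groth.HTopHyper.isAWN_of_isAWNormalization h
  · have := Groth.HTopHyper.isReduced_of_isAWN hX'
    have := h X' ν hν.1 inferInstance
    exact Groth.HTopHyper.isAWN_of_isOpenImmersion (inv ν) hX'

end Groth.Agent.S7426
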