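import Groth.Statements.S7427
import Groth.Agent.PropsBasic.UnivHomeoSup

set_option autoImplicit false
universe u
open CategoryTheory AlgebraicGeometry
open Mor

namespace Groth.Agent.S7427

open Groth.PropsBasic.UH

/-- Let `A → B` be a ring map with `Spec B → Spec A` dominant. Then some `A`-subalgebra `B' ⊆ B` has
`Spec B' → Spec A` a universal homeomorphism and contains the image of `C → B` whenever `C` is an
`A`-algebra with an `A`-algebra map `C → B` whose structure map gives a universal homeomorphism
`Spec C → Spec A`. (The test algebras `C` range over the universe of `A` and `B`.) -/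
theorem result {A B : Type u} [CommRing A] [CommRing B] [Algebra A B]
    [IsDominant (Spec.map (CommRingCat.ofHom (algebraMap A B)))] :
    ∃ B' : Subalgebra A B, FlatMor.IsUnivHomeo (Spec.map (CommRingCat.ofHom (algebraMap A B'))) ∧
      ∀ (C : Type u) [CommRing C] [Algebra A C] (g : C →ₐ[A] B),
        FlatMor.IsUnivHomeo (Spec.map (CommRingCat.ofHom (algebraMap A C))) → g.range ≤ B' := by
  let φ := algebraMap A B
  let Ds : Set (Subalgebra A B) := {D | (algebraMap A D).IsIntegral ∧ UI (algebraMap A D)}
  have hker : RingHom.ker φ ≤ nilradical A := by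
    have h : DenseRange (PrimeSpectrum.comap φ) :=
      (Spec.map (CommRingCat.ofHom φ)).denseRange
    exact (PrimeSpectrum.denseRange_comap_iff_ker_le_nilRadical φ).mp h
  have hk : ∀ D : Subalgebra A B, RingHom.ker (algebraMap A D) ≤ nilradical A := fun D a ha =>
    hker (show φ a = 0 from congrArg Subtype.val (RingHom.mem_ker.mp ha))
  have hB' : (algebraMap A (sSup Ds : Subalgebra A B)).IsIntegral ∧
      UI (algebraMap A (sSup Ds : Subalgebra A B)) := uh_sSup Ds (fun D hD => hD)
  refine ⟨sSup Ds, (spec_isUnivHomeo_iff _).mpr ⟨hB'.1, hB'.2,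
    comap_surjective_of_isIntegral hB'.1 (hk _)⟩, fun C _ _ g hC => le_sSup ?_⟩
  obtain ⟨hi, hu, -⟩ := (spec_isUnivHomeo_iff _).mp hC
  exact uh_range g hi hu

end Groth.Agent.S7427
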