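import Groth.Statements.S7428
import Groth.Agent.PropsBasic.UnivHomeoSup

set_option autoImplicit false
universe u
open CategoryTheory AlgebraicGeometry
open Mor

namespace Groth.Agent.S7428

open Groth.PropsBasic.UH

/-- Let `A → B` be a ring map with `Spec B → Spec A` dominant. Then some `A`-subalgebra `B' ⊆ B` has
`Spec B' → Spec A` a universal homeomorphism with trivial residue field extensions and contains the
image of `C → B` for every `A`-algebra `C` with an `A`-algebra map `C → B` such that `Spec C → Spec
A` is a universal homeomorphism with trivial residue field extensions. (Trivial residue field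
extensions: every residue field map of the morphism of spectra is surjective. The test algebras `C`
range over the universe of `A` and `B`.) -/
theorem result {A B : Type u} [CommRing A] [CommRing B] [Algebra A B]
    [IsDominant (Spec.map (CommRingCat.ofHom (algebraMap A B)))] :
    ∃ B' : Subalgebra A B, (FlatMor.IsUnivHomeo (Spec.map (CommRingCat.ofHom (algebraMap A B'))) ∧
      ∀ x : Spec (CommRingCat.of B'),
        Function.Surjective ((Spec.map (CommRingCat.ofHom (algebraMap A B'))).residueFieldMap x)) ∧
      ∀ (C : Type u) [CommRing C] [Algebra A C] (g : C →ₐ[A] B),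
        FlatMor.IsUnivHomeo (Spec.map (CommRingCat.ofHom (algebraMap A C))) →
        (∀ x : Spec (CommRingCat.of C),
          Function.Surjective ((Spec.map (CommRingCat.ofHom (algebraMap A C))).residueFieldMap x)) →
        g.range ≤ B' := by
  let φ := algebraMap A B
  let Ds : Set (Subalgebra A B) :=
    {D | ((algebraMap A D).IsIntegral ∧ UI (algebraMap A D)) ∧ RT (algebraMap A D)}
  have hker : RingHom.ker φ ≤ nilradical A := by
    have h : DenseRange (PrimeSpectrum.comap φ) :=
      (Spec.map (CommRingCat.ofHom φ)).denseRange
    exact (PrimeSpectrum.denseRange_comap_iff_ker_le_nilRadical φ).mp h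
  have hk : ∀ D : Subalgebra A B, RingHom.ker (algebraMap A D) ≤ nilradical A := fun D a ha =>
    hker (show φ a = 0 from congrArg Subtype.val (RingHom.mem_ker.mp ha))
  have hB' : (algebraMap A (sSup Ds : Subalgebra A B)).IsIntegral ∧
      UI (algebraMap A (sSup Ds : Subalgebra A B)) := uh_sSup Ds (fun D hD => hD.1)
  refine ⟨sSup Ds, ⟨(spec_isUnivHomeo_iff _).mpr ⟨hB'.1, hB'.2,
    comap_surjective_of_isIntegral hB'.1 (hk _)⟩,
    (rt_iff_residueFieldMap_surjective _).mpr (rt_sSup Ds fun D hD => hD.2)⟩,
    fun C _ _ g hC hres => le_sSup ?_⟩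
  obtain ⟨hi, hu, -⟩ := (spec_isUnivHomeo_iff _).mp hC
  exact ⟨uh_range g hi hu, rt_range g ((rt_iff_residueFieldMap_surjective _).mp hres)⟩

end Groth.Agent.S7428
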