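import Groth.Statements.S7431
import Groth.Agent.Lim71.CartesianAway
-- import your own Groth.Agent.* helpers here

set_option autoImplicit false
universe u
open CategoryTheory AlgebraicGeometry
open Lim

namespace Groth.Agent.S7431

/-- Let `B' = B ×_R R'` be a cartesian square of rings with maps `s : B → R`, `t : R' → R`, and let `W'
= D(f_1) ∪ … ∪ D(f_n) ⊆ Spec R'` with `t(f_i) = s(g_i)` for elements `g_i ∈ B` such that `B_{g_i} →
R_{s(g_i)}` is an isomorphism for each `i`. Then the composite `W' → Spec R' → Spec B'`, the second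
map coming from `B' → R'`, is an open immersion. -/
theorem result {B B' R R' : Type u} [CommRing B] [CommRing B']
    [CommRing R] [CommRing R'] (s : B →+* R) (t : R' →+* R) (p : B' →+* B) (q : B' →+* R')
    (hsq : IsPullback (CommRingCat.ofHom p) (CommRingCat.ofHom q) (CommRingCat.ofHom s) (CommRingCat.ofHom t))
    {n : ℕ} (f : Fin n → R') (g : Fin n → B) (hfg : ∀ i, t (f i) = s (g i))
    (hiso : ∀ i, Function.Bijective (Localization.awayMap s (g i))) :
    IsOpenImmersion (Scheme.Opens.ι (X := Spec (CommRingCat.of R')) (⨆ i, PrimeSpectrum.basicOpen (f i)) ≫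
      Spec.map (CommRingCat.ofHom q)) :=
  Groth.Lim71.isOpenImmersion_of_cartesian s t p q hsq f g hfg hiso

end Groth.Agent.S7431
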