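import Groth.Statements.S7432
import Groth.Agent.Limits.FibreVanishingGeneral
import Groth.Agent.QCohMod.PullbackQCoh

set_option autoImplicit false
universe u
open Lim

namespace Groth.Agent.S7432

open AlgebraicGeometry CategoryTheory in
/-- Assume `f : X → Y` is a proper morphism whose fibres all have dimension no greater than `d`, and
consider an `O_X`-module `F` that is quasi-coherent and of finite type. Then `R^d f_* F` is again an
`O_Y`-module that is quasi-coherent and of finite type. (Being 'quasi-coherent of finite type' is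
expressed via the prelude's predicate `Coh.IsCoh`, which on an arbitrary scheme means precisely
this; `R^d f_*` denotes the right derived functor of `f_*` on `O`-modules, defined under the
instance binder asserting that `O_X`-modules admit injective resolutions.) -/
theorem result {X Y : Scheme.{u}} (f : X ⟶ Y) [IsProper f] (d : ℕ)
    (hd : ∀ y : Y, topologicalKrullDim ↥(f.fiber y) ≤ d) [HasInjectiveResolutions X.Modules] (M : X.Modules)
    (hM : Coh.IsCoh M) : Coh.IsCoh ((Coh.Rpush f d).obj M) := by
  haveI := hM.1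
  haveI := Groth.CohBase.isQCoh_Rpush f (M := M) d
  refine (Groth.QCohMod.isCoh_iff _).2 ⟨inferInstance, fun U hU => ?_⟩
  letI : ((f ⁻¹ᵁ U : X.Opens) : Scheme.{u}).Over (Spec (CommRingCat.of Γ(Y, U))) :=
    ⟨Groth.CohBase.preimageToSpec f⟩
  haveI : IsProper ((f ⁻¹ᵁ U : X.Opens).toScheme ↘ Spec (CommRingCat.of Γ(Y, U))) :=
    MorphismProperty.of_isPullback (Groth.CohBase.isPullback_preimageToSpec f hU) ‹IsProper f›
  haveI : IsAffine U.toScheme := hU
  haveI := Groth.Limits.FibreVanishing.finite_HH_top (X := (f ⁻¹ᵁ U : X.Opens)) d (fun P => by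
      have hP : hU.fromSpec.base P ∈ U := hU.range_fromSpec.le ⟨P, rfl⟩
      have e : hU.primeIdealOf ⟨_, hP⟩ = P := hU.fromSpec.isEmbedding.injective
        (hU.fromSpec_primeIdealOf ⟨_, hP⟩)
      have h := Groth.Limits.FibreVanishing.dim_fiber_preimageToSpec_le f hU _ hP d (hd _)
      rwa [e] at h)
    (M.restrict (f ⁻¹ᵁ U).ι)
    (Groth.QCohMod.isCoh_of_iso ((Scheme.Modules.restrictFunctorIsoPullback (f ⁻¹ᵁ U).ι).app M).symm
      ⟨Groth.QCohMod.isQCoh_pullback_obj _ M, Groth.QCohMod.isFT_pullback _ M hM.2⟩)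
  obtain ⟨e⟩ := Groth.CohBase.exists_Rpush_linEquiv f (M := M) d hU
  exact Module.Finite.equiv e.symm

end Groth.Agent.S7432
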