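import Groth.Statements.S7436
import Groth.Agent.Misc3Fib.Comp

set_option autoImplicit false
universe u
open CategoryTheory AlgebraicGeometry
open BddFib

namespace Groth.Agent.S7436

/-- When every fibre of `f : X → Y` has degree at most `n` and every fibre of `g : Y → Z` has degree at
most `m`, every fibre of `g ∘ f` has degree at most `n m`. -/
theorem result {X Y Z : Scheme.{u}} (f : X ⟶ Y) (g : Y ⟶ Z) (n m : ℕ) (hf : BddFib.FibreDegLE f n)
    (hg : BddFib.FibreDegLE g m) : BddFib.FibreDegLE (f ≫ g) (n * m) := by
  exact Groth.Misc3Fib.fibreDegLE_comp f g n m hf hg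

end Groth.Agent.S7436
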