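import Groth.Statements.S7440
import Groth.Agent.Misc3Fib.Etale

set_option autoImplicit false
universe u
open CategoryTheory AlgebraicGeometry
open BddFib

namespace Groth.Agent.S7440

/-- Let `f : X → Y` be étale and `n ≥ 0`. If for every field `k` and every `Spec k → Y` the base change
`X_k = Spec k ×_Y X` has finitely many, and at most `n`, points, then `n` bounds the degrees of the
fibres of `f`. (The converse implication holds for every morphism of schemes, étale or not, and is
not restated here.) -/
theorem result {X Y : Scheme.{u}} (f : X ⟶ Y) [Etale f] (n : ℕ)
    (h : ∀ (k : Type u) [Field k] (g : Spec (CommRingCat.of k) ⟶ Y),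
      Finite ↥(Limits.pullback f g) ∧ Nat.card ↥(Limits.pullback f g) ≤ n) :
    BddFib.FibreDegLE f n := by
  exact Groth.Misc3Fib.fibreDegLE_of_natCard_le f n h

end Groth.Agent.S7440
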