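import Groth.Statements.S7443
import Groth.Agent.PropsBasic.UnivHomeoFP

set_option autoImplicit false
universe u
open CategoryTheory AlgebraicGeometry
open Mor

namespace Groth.Agent.S7443

open Groth.PropsBasic.UH

/-- Let `φ : A → B` be a ring map with `Spec B → Spec A` a universal homeomorphism. Then `B`, as an
`A`-algebra, is the colimit of a filtered diagram of finitely presented `A`-algebras `B_i`, and
every `Spec B_i → Spec A` is again a universal homeomorphism. (The colimit is taken in the category
of rings under `A`, over a small filtered index category.) -/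
theorem result {A B : Type u} [CommRing A] [CommRing B] (φ : A →+* B)
    (hφ : FlatMor.IsUnivHomeo (Spec.map (CommRingCat.ofHom φ))) :
    ∃ (J : Type u) (_ : SmallCategory J) (_ : IsFiltered J) (F : J ⥤ Under (CommRingCat.of A))
      (c : Limits.Cocone F) (_ : Limits.IsColimit c),
      (∀ j, (F.obj j).hom.hom.FinitePresentation ∧ FlatMor.IsUnivHomeo (Spec.map (F.obj j).hom)) ∧
      Nonempty (c.pt ≅ Under.mk (CommRingCat.ofHom φ)) := by
  letI := φ.toAlgebra
  obtain ⟨hint, hui, hsurj⟩ := (spec_isUnivHomeo_iff φ).mp hφ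
  obtain ⟨J, hJ, hJ', F, c, hc, dat, hdat, hiso⟩ :=
    FPData.exists_colimit (A := A) (B := B)
      (fun e => ∃ l, Valid (SQP (B := e.Ring)) l ∧ Algebra.adjoin A {x : e.Ring | x ∈ l} = ⊤)
      (FPData.exists_good (fun R _ _ => SQP (B := R)) SQP.mono liftable_SQP
        fun E => exists_valid_of_forall SQP.mono (reach_SQP_eq_top hint hui) E)
  refine ⟨J, hJ, hJ', F, c, hc, fun j => ?_, hiso⟩
  obtain ⟨⟨l, hl, htop⟩, hj⟩ := hdat j
  rw [hj]
  have h := isIntegral_and_ui_of_reach (A := A) (B := (dat j).Ring)
    fun b => ⟨l, hl, htop ▸ trivial⟩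
  exact ⟨(dat j).finitePresentation,
    (spec_isUnivHomeo_iff _).mpr ⟨h.1, h.2, (dat j).comap_surjective hsurj⟩⟩

end Groth.Agent.S7443
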