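import Groth.Statements.S7444
import Groth.Agent.PropsBasic.UnivHomeoFP

set_option autoImplicit false
universe u
open CategoryTheory AlgebraicGeometry
open Mor

namespace Groth.Agent.S7444

open Groth.PropsBasic.UH

/-- Let `φ : A → B` be a ring map such that `Spec B → Spec A` is a universal homeomorphism and all
residue field extensions are trivial (every residue field map is surjective). Then `B`, as an
`A`-algebra, is the colimit of a filtered diagram of finitely presented `A`-algebras `B_i`, each of
which has the same two properties over `A`. (The colimit is taken in the category of rings under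
`A`, over a small filtered index category.) -/
theorem result {A B : Type u} [CommRing A] [CommRing B]
    (φ : A →+* B) (hφ : FlatMor.IsUnivHomeo (Spec.map (CommRingCat.ofHom φ)))
    (hres : ∀ x : Spec (CommRingCat.of B), Function.Surjective ((Spec.map (CommRingCat.ofHom φ)).residueFieldMap x)) :
    ∃ (J : Type u) (_ : SmallCategory J) (_ : IsFiltered J) (F : J ⥤ Under (CommRingCat.of A))
      (c : Limits.Cocone F) (_ : Limits.IsColimit c),
      (∀ j, (F.obj j).hom.hom.FinitePresentation ∧ FlatMor.IsUnivHomeo (Spec.map (F.obj j).hom) ∧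
        ∀ x : Spec (F.obj j).right, Function.Surjective ((Spec.map (F.obj j).hom).residueFieldMap x)) ∧
      Nonempty (c.pt ≅ Under.mk (CommRingCat.ofHom φ)) := by
  letI := φ.toAlgebra
  obtain ⟨hint, hui, hsurj⟩ := (spec_isUnivHomeo_iff φ).mp hφ
  obtain ⟨J, hJ, hJ', F, c, hc, dat, hdat, hiso⟩ :=
    FPData.exists_colimit (A := A) (B := B)
      (fun e => ∃ l, Valid (SQ (B := e.Ring)) l ∧ Algebra.adjoin A {x : e.Ring | x ∈ l} = ⊤)
      (FPData.exists_good (fun R _ _ => SQ (B := R)) SQ.mono liftable_SQ
        fun E => exists_valid_of_forall SQ.mono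
          (reach_SQ_eq_top hint hui ((rt_iff_residueFieldMap_surjective φ).mp hres)) E)
  refine ⟨J, hJ, hJ', F, c, hc, fun j => ?_, hiso⟩
  obtain ⟨⟨l, hl, htop⟩, hj⟩ := hdat j
  rw [hj]
  have h := isIntegral_and_ui_of_reach (A := A) (B := (dat j).Ring)
    fun b => ⟨l, fun i => Or.inl (hl i), htop ▸ trivial⟩
  have h' := rt_of_reach (A := A) (B := (dat j).Ring) fun b => ⟨l, hl, htop ▸ trivial⟩
  exact ⟨(dat j).finitePresentation,
    (spec_isUnivHomeo_iff _).mpr ⟨h.1, h.2, (dat j).comap_surjective hsurj⟩,
    (rt_iff_residueFieldMap_surjective _).mpr h'⟩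

end Groth.Agent.S7444
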