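import Groth.Statements.S7445
import Groth.Agent.QCohMod.QCohCatAbelian

set_option autoImplicit false
universe u
open CategoryTheory AlgebraicGeometry
open QCohCat

namespace Groth.Agent.S7445

/-- For a scheme `X` the category `QCoh(O_X)` of quasi-coherent `O_X`-modules (the full subcategory of
all `O_X`-modules on the quasi-coherent ones) has enough injectives. (The published statement is
that `QCoh(O_X)` is a Grothendieck abelian category, from which enough injectives and all limits
follow; this row states enough injectives only, the existence of all limits being a short
consequence of the existence of the coherator, the right adjoint of the inclusion into all
`O_X`-modules.) -/
theorem result (X : Scheme.{u}) : EnoughInjectives (QCohCat.QCoh X) := by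
  infer_instance

end Groth.Agent.S7445
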