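import Groth.Statements.S7448
import Groth.Agent.CohBase.RpushAffineLin
import Groth.Agent.CohBase.RelAmpleVanish
import Groth.Agent.CohBase.FiniteBC.PushNat

set_option autoImplicit false
universe u
open Lim

open CategoryTheory CategoryTheory.Limits AlgebraicGeometry Groth.CohBase TopologicalSpace

namespace Groth.Agent.S7448

set_option linter.style.haveILetI false in
set_option backward.isDefEq.respectTransparency false in
/-- The hypothesis on the preimage of an affine open. -/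
theorem subsingleton_preimage {X Y : Scheme.{u}} (f : X ⟶ Y) [QuasiCompact f] [QuasiSeparated f] (i : ℕ)
    (hvan : ∀ M : X.Modules, Coh.IsQCoh M → IsZero ((Coh.RpushAb f i).obj (Coh.toAb M)))
    {V : Y.Opens} (hV : IsAffineOpen V) [QuasiCompact (f ⁻¹ᵁ V).ι]
    (N : (f ⁻¹ᵁ V).toScheme.Modules) [N.IsQuasicoherent] :
    Subsingleton (Coh.HH (f ⁻¹ᵁ V).toScheme N i) := by
  let j := (f ⁻¹ᵁ V).ι
  haveI := QCohMod.isQCoh_pushforward N j
  obtain ⟨e⟩ := nonempty_RpushAb_sections (M := (Scheme.Modules.pushforward j).obj N) (f := f) (p := i) hV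
  have h0 := hvan ((Scheme.Modules.pushforward j).obj N) inferInstance
  haveI : Subsingleton (Sheaf.H' (abSheaf ((Scheme.Modules.pushforward j).obj N)) i (f ⁻¹ᵁ V) : Type u) := by
    exact @Equiv.subsingleton _ _ e.symm.toEquiv (AddCommGrpCat.subsingleton_of_isZero
      ((sheafToPresheaf _ _ ⋙ (evaluation _ _).obj (Opposite.op V)).map_isZero h0))
  obtain ⟨e'⟩ := nonempty_equiv_HHon ((Scheme.Modules.pushforward j).obj N) (f ⁻¹ᵁ V) i
  haveI : Subsingleton (Sheaf.H (abSheaf (((Scheme.Modules.pushforward j).obj N).restrict j)) i : Type u) :=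
    e'.toEquiv.subsingleton
  let c : ((Scheme.Modules.pushforward j).obj N).restrict j ≅ N :=
    (asIso (Scheme.Modules.restrictAdjunction j).counit).app N
  exact @Equiv.subsingleton _ _
    ((Sheaf.functorH _ i).mapIso ((toAbF _).mapIso c)).addCommGroupIsoToAddEquiv.symm.toEquiv ‹_›


open AlgebraicGeometry CategoryTheory in
/-- Let `f : X → Y` be a morphism with `X`, `Y` quasi-compact and quasi-separated, and `d ≥ 0` such that
`R^i f_* F = 0` for all `i > d` and all quasi-coherent `F`. Then for every cartesian square with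
base change `f' : X' → Y'` of `f`, `R^i f'_* F' = 0` for all `i > d` and all quasi-coherent
`O_{X'}`-modules `F'`. -/
theorem result {X Y X' Y' : Scheme.{u}} (f : X ⟶ Y) [CompactSpace X]
    [QuasiSeparatedSpace X] [CompactSpace Y] [QuasiSeparatedSpace Y] (d : ℕ)
    (hvan : ∀ (M : X.Modules) (i : ℕ), Coh.IsQCoh M → d < i → Limits.IsZero ((Coh.RpushAb f i).obj (Coh.toAb M)))
    (g : Y' ⟶ Y) (f' : X' ⟶ Y') (g' : X' ⟶ X) (sq : IsPullback g' f' f g) (M' : X'.Modules) [Coh.IsQCoh M']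
    (i : ℕ) (hi : d < i) : Limits.IsZero ((Coh.RpushAb f' i).obj (Coh.toAb M')) := by
  classical
  haveI : QuasiCompact f := QuasiCompact.of_comp f (terminal.from Y)
  haveI : QuasiSeparated f := QuasiSeparated.of_comp f (terminal.from Y)
  haveI : QuasiCompact f' := MorphismProperty.of_isPullback sq inferInstance
  haveI : QuasiSeparated f' := MorphismProperty.of_isPullback sq inferInstance
  obtain ⟨e⟩ := nonempty_toAb_Rpush_iso (f := f') (p := i) (M := M')
  refine IsZero.of_iso ?_ e.symm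
  refine (toAbF Y').map_isZero ?_
  haveI := isQCoh_Rpush f' i (M := M')
  have hcov : ⨆ W : {W : Y'.Opens // IsAffineOpen W ∧ ∃ V : Y.Opens, IsAffineOpen V ∧ W ≤ g ⁻¹ᵁ V}, W.1 = ⊤ := by
    refine eq_top_iff.2 fun y _ => ?_
    obtain ⟨V, hV, hyV, -⟩ := exists_isAffineOpen_mem_and_subset (X := Y) (x := g y) (U := ⊤) trivial
    obtain ⟨W, hW, hyW, hWV⟩ := exists_isAffineOpen_mem_and_subset (X := Y') (x := y) (U := g ⁻¹ᵁ V) hyV
    exact Opens.mem_iSup.2 ⟨⟨W, hW, V, hV, hWV⟩, hyW⟩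
  refine isZero_of_sections_cover _ (fun W : {W : Y'.Opens // IsAffineOpen W ∧
      ∃ V : Y.Opens, IsAffineOpen V ∧ W ≤ g ⁻¹ᵁ V} => W.1) (fun W => W.2.1) hcov fun ⟨W, hW, V, hV, hWV⟩ => ?_
  obtain ⟨l⟩ := exists_Rpush_linEquiv (M := M') (f := f') (p := i) hW
  suffices Subsingleton (Coh.HH (f' ⁻¹ᵁ W : X'.Opens) (M'.restrict (f' ⁻¹ᵁ W).ι) i) from l.injective.subsingleton
  haveI : IsAffine W.toScheme := hW
  haveI : IsAffine V.toScheme := hV
  have hr : Set.range (W.ι ≫ g) ⊆ Set.range V.ι := by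
    rw [Scheme.Opens.range_ι]
    rintro _ ⟨w, rfl⟩
    exact hWV w.2
  let r : W.toScheme ⟶ V.toScheme := IsOpenImmersion.lift V.ι (W.ι ≫ g) hr
  have hrV : r ≫ V.ι = W.ι ≫ g := IsOpenImmersion.lift_fac _ _ _
  have big : IsPullback ((f' ⁻¹ᵁ W).ι ≫ g') (f' ∣_ W) f (r ≫ V.ι) := by
    rw [hrV]
    exact (isPullback_morphismRestrict f' W).flip.paste_horiz sq
  have bot := (isPullback_morphismRestrict f V).flip
  let a := bot.lift ((f' ⁻¹ᵁ W).ι ≫ g') ((f' ∣_ W) ≫ r) (by simpa only [Category.assoc] using big.w)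
  have ha : IsPullback a (f' ∣_ W) (f ∣_ V) r := by
    refine IsPullback.of_right ?_ (bot.lift_snd _ _ _) bot
    rw [bot.lift_fst]
    exact big
  haveI : IsAffineHom r := inferInstance
  haveI : IsAffineHom a := MorphismProperty.of_isPullback ha.flip inferInstance
  haveI : QuasiCompact (f ⁻¹ᵁ V).ι :=
    MorphismProperty.of_isPullback (isPullback_morphismRestrict f V)
      (QuasiCompact.of_comp V.ι (terminal.from Y))
  haveI : (M'.restrict (f' ⁻¹ᵁ W).ι).IsQuasicoherent :=
    Scheme.Modules.isQuasicoherent_restrictFunctor _ M'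
  haveI := QCohMod.isQCoh_pushforward (M'.restrict (f' ⁻¹ᵁ W).ι) a
  haveI : Subsingleton (Coh.HH (f ⁻¹ᵁ V).toScheme ((Scheme.Modules.pushforward a).obj (M'.restrict (f' ⁻¹ᵁ W).ι)) i) :=
    subsingleton_preimage f i (fun M hM => hvan M i hM hi) hV _
  exact @Equiv.subsingleton _ _ (Groth.CohBase.FiniteBC.pushHA a (preimageToSpec f) (preimageToSpec f')
    (M'.restrict (f' ⁻¹ᵁ W).ι) i).symm.toEquiv ‹_›

end Groth.Agent.S7448
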