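import Groth.Statements.S7449
import Groth.Agent.Valuative.CurveCriteria

set_option autoImplicit false
universe u
open CategoryTheory AlgebraicGeometry
open CategoryTheory.Limits
open Lim Groth.Valuative

namespace Groth.Agent.S7449

/-- Let `S` be a Nagata scheme, `X`, `Y` locally of finite type over `S` and `f : X → Y` a quasi-compact
morphism over `S`. Then `f` is universally closed if and only if for every commutative diagram `U →
X`, `C → Y` over `S` where `C` is a normal integral scheme of finite type over `S`, `c ∈ C` is a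
closed point whose local ring `A = O_{C,c}` has dimension `1` and `U = C ∖ {c}`, there is a morphism
`Spec A → X` making the square `Spec K → X`, `Spec A → Y` (with `K = Frac A`, `Spec K → X` through
`U`, `Spec A → Y` through `C`) commute. -/
theorem result (S : Scheme.{u}) (hS : ∀ W : S.affineOpens, CAlg.IsNagata Γ(S, W))
    {X Y : Scheme.{u}} (p : X ⟶ S) (q : Y ⟶ S) [LocallyOfFiniteType p] [LocallyOfFiniteType q] (f : X ⟶ Y)
    (hf : f ≫ q = p) [QuasiCompact f] :
    UniversallyClosed f ↔
      ∀ (C : Scheme.{u}) (r : C ⟶ S) [IsIntegral C] [LocallyOfFiniteType r] [QuasiCompact r],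
        (∀ x : C, IsIntegrallyClosed (C.presheaf.stalk x)) →
        ∀ (c : C), IsClosed ({c} : Set C) → ringKrullDim (C.presheaf.stalk c) = 1 →
        ∀ (U : C.Opens), (U : Set C) = {c}ᶜ →
        ∀ (u : (U : Scheme.{u}) ⟶ X) (g : C ⟶ Y), g ≫ q = r → u ≫ f = U.ι ≫ g →
        ∀ (k : Spec (CommRingCat.of (FractionRing (C.presheaf.stalk c))) ⟶ (U : Scheme.{u})),
          k ≫ U.ι = Spec.map (CommRingCat.ofHom (algebraMap (C.presheaf.stalk c)
            (FractionRing (C.presheaf.stalk c)))) ≫ C.fromSpecStalk c →
        ∃ l : Spec (C.presheaf.stalk c) ⟶ X, l ≫ f = C.fromSpecStalk c ≫ g ∧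
          Spec.map (CommRingCat.ofHom (algebraMap (C.presheaf.stalk c) (FractionRing (C.presheaf.stalk c)))) ≫ l =
            k ≫ u := by
  have := isLocallyNoetherian_of_nagata hS
  constructor
  · intro huc C r _ _ _ hnorm c _ hdim U _ u g _ hu k hk
    have := LocallyOfFiniteType.isLocallyNoetherian r
    have := valuationRing_stalk c (hnorm c) hdim
    have hex : ValuativeCriterion.Existence f :=
      (UniversallyClosed.eq_valuativeCriterion.le _ _ f huc).1
    have hsq : CommSq (k ≫ u) (genMap c) f (C.fromSpecStalk c ≫ g) :=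
      ⟨by rw [Category.assoc, hu, reassoc_of% hk]; rfl⟩
    obtain ⟨⟨⟨l, hl1, hl2⟩⟩⟩ := hex
      { R := C.presheaf.stalk c
        domain := inferInstance
        K := FractionRing (C.presheaf.stalk c)
        i₁ := k ≫ u
        i₂ := C.fromSpecStalk c ≫ g
        commSq := hsq }
    exact ⟨l, hl2, hl1⟩
  · intro H
    subst hf
    have : LocallyOfFiniteType f := locallyOfFiniteType_of_comp f q
    refine Groth.ZetaAn.universallyClosed_of_lfp f fun T a ha Z hZ ↦ ?_
    have : LocallyOfFiniteType a := inferInstance
    let I : (pullback f a).IdealSheafData := Scheme.IdealSheafData.vanishingIdeal ⟨Z, hZ⟩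
    let i := I.subschemeι
    have hi : Set.range i = Z := by
      rw [Scheme.IdealSheafData.range_subschemeι, Scheme.IdealSheafData.coe_support_vanishingIdeal]
      rfl
    rw [← hi, ← Set.range_comp]
    by_contra hne
    obtain ⟨C, r, _, _, _, hnorm, c, hc, hdim, U, u, g, hU, hg, hu, hgc⟩ :=
      exists_curve_of_not_isClosed_range hS (i ≫ pullback.snd f a) (a ≫ q) hne
    obtain ⟨k, hk⟩ := exists_generic c hdim U hU
    obtain ⟨l, hl1, hl2⟩ := H C r hnorm c hc hdim U hU (u ≫ i ≫ pullback.fst f a) (g ≫ a)
      (by rw [Category.assoc]; exact hg)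
      (by rw [← reassoc_of% hu]; simp [pullback.condition]) k hk
    let l' : Spec (C.presheaf.stalk c) ⟶ pullback f a :=
      pullback.lift l (C.fromSpecStalk c ≫ g) (by rw [hl1, Category.assoc])
    have hl' : genMap c ≫ l' = (k ≫ u) ≫ i := by
      refine pullback.hom_ext ?_ ?_
      · erw [Category.assoc, pullback.lift_fst, hl2]
        simp
      · rw [Category.assoc, pullback.lift_snd, ← reassoc_of% hk, ← hu]
        simp
    have hmem : l' (IsLocalRing.closedPoint (C.presheaf.stalk c)) ∈ Set.range i := by
      refine (specializes_genMap c l'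
        (IsLocalRing.closedPoint (FractionRing (C.presheaf.stalk c)))).mem_closed
        (i.isClosedEmbedding.isClosed_range) ?_
      rw [hl', Scheme.Hom.comp_apply]
      exact ⟨_, rfl⟩
    obtain ⟨y, hy⟩ := hmem
    refine hgc ⟨y, ?_⟩
    rw [Scheme.Hom.comp_apply, hy, ← Scheme.Hom.comp_apply, pullback.lift_snd, Scheme.Hom.comp_apply,
      Scheme.fromSpecStalk_closedPoint]

end Groth.Agent.S7449
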