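import Groth.Statements.S7450
import Groth.Agent.Valuative.CurveCriteria

set_option autoImplicit false
universe u
open CategoryTheory AlgebraicGeometry
open CategoryTheory.Limits
open Lim Groth.Valuative

namespace Groth.Agent.S7450

/-- Assume `S` is a Nagata scheme and `f : X → Y` is a morphism over `S` between schemes `X`, `Y` that
are locally of finite type over `S`. Then `f` is separated exactly when the following holds. Take
any normal integral scheme `C` of finite type over `S` and a closed point `c ∈ C` such that the
local ring `A = O_{C,c}` is one-dimensional, put `U = C ∖ {c}`, and consider any commutative diagram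
of `S`-schemes formed by `U → X` and `C → Y`. Then at most one morphism `Spec A → X` makes the
square with `Spec K → X` and `Spec A → Y` commute. -/
theorem result (S : Scheme.{u}) (hS : ∀ W : S.affineOpens, CAlg.IsNagata Γ(S, W))
    {X Y : Scheme.{u}} (p : X ⟶ S) (q : Y ⟶ S) [LocallyOfFiniteType p] [LocallyOfFiniteType q] (f : X ⟶ Y)
    (hf : f ≫ q = p) :
    IsSeparated f ↔
      ∀ (C : Scheme.{u}) (r : C ⟶ S) [IsIntegral C] [LocallyOfFiniteType r] [QuasiCompact r],
        (∀ x : C, IsIntegrallyClosed (C.presheaf.stalk x)) →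
        ∀ (c : C), IsClosed ({c} : Set C) → ringKrullDim (C.presheaf.stalk c) = 1 →
        ∀ (U : C.Opens), (U : Set C) = {c}ᶜ →
        ∀ (u : (U : Scheme.{u}) ⟶ X) (g : C ⟶ Y), g ≫ q = r → u ≫ f = U.ι ≫ g →
        ∀ (k : Spec (CommRingCat.of (FractionRing (C.presheaf.stalk c))) ⟶ (U : Scheme.{u})),
          k ≫ U.ι = Spec.map (CommRingCat.ofHom (algebraMap (C.presheaf.stalk c)
            (FractionRing (C.presheaf.stalk c)))) ≫ C.fromSpecStalk c →
        ∀ l l' : Spec (C.presheaf.stalk c) ⟶ X,
          l ≫ f = C.fromSpecStalk c ≫ g →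
          Spec.map (CommRingCat.ofHom (algebraMap (C.presheaf.stalk c) (FractionRing (C.presheaf.stalk c)))) ≫ l =
            k ≫ u →
          l' ≫ f = C.fromSpecStalk c ≫ g →
          Spec.map (CommRingCat.ofHom (algebraMap (C.presheaf.stalk c) (FractionRing (C.presheaf.stalk c)))) ≫ l' =
            k ≫ u → l = l' := by
  constructor
  · intro hsep C r _ _ _ _ c _ _ U _ u g _ _ k _ l l' hl hlk hl' hlk'
    have := isDominant_genMap c
    exact ext_of_isDominant_of_isSeparated f (hl.trans hl'.symm) (genMap c) (hlk.trans hlk'.symm)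
  · intro H
    have := isLocallyNoetherian_of_nagata hS
    subst hf
    have : LocallyOfFiniteType f := locallyOfFiniteType_of_comp f q
    have := LocallyOfFiniteType.isLocallyNoetherian (f ≫ q)
    refine ⟨IsClosedImmersion.of_isPreimmersion _ ?_⟩
    by_contra hne
    obtain ⟨C, r, _, _, _, hnorm, c, hc, hdim, U, u, g, hU, hg, hu, hgc⟩ :=
      exists_curve_of_not_isClosed_range hS (pullback.diagonal f) (pullback.fst f f ≫ f ≫ q) hne
    obtain ⟨k, hk⟩ := exists_generic c hdim U hU
    have key := H C r hnorm c hc hdim U hU u (g ≫ pullback.fst f f ≫ f)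
      (by simp only [Category.assoc]; exact hg)
      (by rw [← reassoc_of% hu]; simp) k hk
      (C.fromSpecStalk c ≫ g ≫ pullback.fst f f) (C.fromSpecStalk c ≫ g ≫ pullback.snd f f)
      (by simp only [Category.assoc])
      (by erw [← reassoc_of% hk, ← reassoc_of% hu]; simp)
      (by simp only [Category.assoc, pullback.condition])
      (by erw [← reassoc_of% hk, ← reassoc_of% hu]; simp)
    have hfac : (C.fromSpecStalk c ≫ g ≫ pullback.fst f f) ≫ pullback.diagonal f =
        C.fromSpecStalk c ≫ g := by
      refine pullback.hom_ext ?_ ?_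
      · simp
      · simpa using key
    refine hgc ⟨(C.fromSpecStalk c ≫ g ≫ pullback.fst f f) (IsLocalRing.closedPoint _), ?_⟩
    rw [← Scheme.Hom.comp_apply, hfac, Scheme.Hom.comp_apply, Scheme.fromSpecStalk_closedPoint]

end Groth.Agent.S7450
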