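import Groth.Statements.S7451
import Mathlib.RingTheory.Ideal.MinimalPrime.Noetherian
import Mathlib.RingTheory.Polynomial.Basic
import Mathlib.RingTheory.Localization.FractionRing
import Mathlib.Algebra.CharP.Frobenius
import Mathlib.Algebra.CharP.Reduced
import Mathlib.Algebra.CharP.Algebra
-- import your own Groth.Agent.* helpers here

set_option autoImplicit false
universe u
open CategoryTheory AlgebraicGeometry
open Desc

namespace Groth.Agent.S7451

section Helpers

open MvPolynomial

variable {k : Type u} [Field k] {n : ℕ}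

/-- The substitution `x_i ↦ x_i + x_j ^ d`. -/
noncomputable def tau (i j : Fin n) (d : ℕ) : MvPolynomial (Fin n) k →ₐ[k] MvPolynomial (Fin n) k :=
  aeval (Function.update X i (X i + X j ^ d) : Fin n → MvPolynomial (Fin n) k)

/-- The point `a` kills the ideal. -/
def Kills (I : Ideal (MvPolynomial (Fin n) k)) {L : Type u} [Field L] [Algebra k L] (a : Fin n → L) :
    Prop := ∀ f ∈ I, aeval a f = 0

variable {I : Ideal (MvPolynomial (Fin n) k)}
  (hI : ∀ (i j : Fin n), i ≠ j → ∀ (d : ℕ) (P : Ideal (MvPolynomial (Fin n) k)), P.IsPrime → I ≤ P →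
    I ≤ P.comap (tau i j d))
  {L : Type u} [Field L] [Algebra k L]

include hI in
theorem kills_update (i j : Fin n) (hij : i ≠ j) (d : ℕ) (a : Fin n → L) (h : Kills I a) :
    Kills I (Function.update a i (a i + a j ^ d)) := by
  intro f hf
  have hp : (RingHom.ker (aeval a : MvPolynomial (Fin n) k →ₐ[k] L)).IsPrime := RingHom.ker_isPrime _
  have hmem := hI i j hij d _ hp (fun g hg => RingHom.mem_ker.2 (h g hg)) hf
  rw [Ideal.mem_comap, RingHom.mem_ker] at hmem
  rw [← hmem, tau, ← AlgHom.comp_apply, comp_aeval]
  congr 1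
  refine congrArg _ (funext fun l => ?_)
  by_cases hl : l = i
  · subst hl; simp
  · simp [hl]

include hI in
theorem kills_of_infinite (i j : Fin n) (hij : i ≠ j) (a : Fin n → L) (h : Kills I a)
    (hinf : (AddSubmonoid.closure (Set.range fun d : ℕ => a j ^ d) : Set L).Infinite) (e : L) :
    Kills I (Function.update a i e) := by
  have hc : ∀ c ∈ AddSubmonoid.closure (Set.range fun d : ℕ => a j ^ d),
      ∀ b : Fin n → L, b j = a j → Kills I b → Kills I (Function.update b i (b i + c)) := by
    intro c hc
    induction hc using AddSubmonoid.closure_induction with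
    | mem c hc =>
      obtain ⟨d, rfl⟩ := hc
      intro b hb hk
      change Kills I (Function.update b i (b i + a j ^ d))
      rw [← hb]
      exact kills_update hI i j hij d b hk
    | zero =>
      intro b _ hk
      rw [add_zero, Function.update_eq_self]
      exact hk
    | add c c' _ _ hc hc' =>
      intro b hb hk
      have h1 := hc' (Function.update b i (b i + c))
        (by rw [Function.update_of_ne (Ne.symm hij)]; exact hb) (hc b hb hk)
      rwa [Function.update_idem, Function.update_self, add_assoc] at h1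
  intro f hf
  let g : Polynomial L :=
    aeval (Function.update (fun l => Polynomial.C (a l)) i (Polynomial.C (a i) + Polynomial.X)) f
  have hg : ∀ t : L, Polynomial.eval t g = aeval (Function.update a i (a i + t)) f := by
    intro t
    have : ((Polynomial.aeval t : Polynomial L →ₐ[L] L).restrictScalars k).comp
        (aeval (Function.update (fun l => Polynomial.C (a l)) i (Polynomial.C (a i) + Polynomial.X))) =
        (aeval (Function.update a i (a i + t)) : MvPolynomial (Fin n) k →ₐ[k] L) := by
      refine algHom_ext fun l => ?_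
      by_cases hl : l = i
      · subst hl; simp
      · simp [hl]
    exact congrArg (fun φ : MvPolynomial (Fin n) k →ₐ[k] L => φ f) this
  have hg0 : g = 0 := Polynomial.eq_zero_of_infinite_isRoot g (hinf.mono fun c hc' => by
    rw [Set.mem_setOf_eq, Polynomial.IsRoot.def, hg]
    exact hc c hc' a rfl h f hf)
  have := hg (e - a i)
  rw [hg0, Polynomial.eval_zero, add_sub_cancel] at this
  exact this.symm

include hI in
theorem eq_bot_of_infinite (hn : 2 ≤ n) (a : Fin n → L) (h : Kills I a) (j : Fin n)
    (hinf : (AddSubmonoid.closure (Set.range fun d : ℕ => a j ^ d) : Set L).Infinite) : I = ⊥ := by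
  classical
  let M := FractionRing (MvPolynomial (Fin n) L)
  have hb : Kills I (fun l => algebraMap L M (a l)) := fun f hf => by
    have : (aeval (fun l => algebraMap L M (a l)) : MvPolynomial (Fin n) k →ₐ[k] M) =
        (IsScalarTower.toAlgHom k L M).comp (aeval a) := by
      refine algHom_ext fun l => ?_
      simp
    rw [this, AlgHom.comp_apply, h f hf, map_zero]
  let T : Fin n → M := fun l => algebraMap (MvPolynomial (Fin n) L) M (X l)
  have hTinf : ∀ l, (AddSubmonoid.closure (Set.range fun d : ℕ => T l ^ d) : Set M).Infinite := by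
    intro l
    refine Set.Infinite.mono AddSubmonoid.subset_closure (Set.infinite_range_of_injective fun d e hde => ?_)
    simp only [T, ← map_pow] at hde
    have h2 := IsFractionRing.injective (MvPolynomial (Fin n) L) M hde
    rw [X_pow_eq_monomial, X_pow_eq_monomial] at h2
    have := congrArg (coeff (Finsupp.single l d)) h2
    simp only [coeff_monomial, if_true] at this
    by_contra hne
    rw [if_neg (fun he => hne ((Finsupp.single_eq_single_iff _ _ _ _).1 he |>.elim
      (fun hh => hh.2.symm) (fun hh => hh.2.trans hh.1.symm)))] at this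
    exact one_ne_zero this
  have hinfb : (AddSubmonoid.closure
      (Set.range fun d : ℕ => (algebraMap L M (a j)) ^ d) : Set M).Infinite := by
    have himg := hinf.image (f := algebraMap L M) ((algebraMap L M).injective.injOn)
    refine himg.mono ?_
    rintro _ ⟨c, hc, rfl⟩
    induction hc using AddSubmonoid.closure_induction with
    | mem c hc =>
      obtain ⟨d, rfl⟩ := hc
      exact AddSubmonoid.subset_closure ⟨d, (map_pow _ _ _).symm⟩
    | zero => rw [map_zero]; exact zero_mem _
    | add c c' _ _ hc hc' => rw [map_add]; exact add_mem hc hc'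
  have : Nontrivial (Fin n) := Fin.nontrivial_iff_two_le.2 hn
  obtain ⟨i, hij⟩ := exists_ne j
  have key : ∀ s : Finset (Fin n), i ∉ s →
      Kills I (fun l => if l ∈ insert i s then T l else algebraMap L M (a l)) := by
    intro s
    induction s using Finset.induction_on with
    | empty =>
      intro _
      convert kills_of_infinite hI i j hij _ hb hinfb (T i) using 1
      funext l
      by_cases hl : l = i
      · subst hl; simp
      · simp [hl]
    | insert c s hc ih =>
      intro his
      rw [Finset.mem_insert] at his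
      push Not at his
      have := kills_of_infinite hI c i (Ne.symm his.1) _ (ih his.2)
        (by simpa using hTinf i) (T c)
      convert this using 1
      funext l
      by_cases hl : l = c
      · subst hl; simp
      · simp [hl]
  have hall := key (Finset.univ.erase i) (Finset.notMem_erase _ _)
  rw [Finset.insert_erase (Finset.mem_univ i)] at hall
  simp only [Finset.mem_univ, if_true] at hall
  rw [eq_bot_iff]
  intro f hf
  have hf0 := hall f hf
  have heq : (aeval T : MvPolynomial (Fin n) k →ₐ[k] M) =
      (IsScalarTower.toAlgHom k (MvPolynomial (Fin n) L) M).comp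
        (aeval (X : Fin n → MvPolynomial (Fin n) L)) := by
    refine algHom_ext fun l => ?_
    simp [T]
  rw [show (fun l => T l) = T from rfl, heq, AlgHom.comp_apply] at hf0
  have h3 : aeval (X : Fin n → MvPolynomial (Fin n) L) f = 0 :=
    IsFractionRing.injective (MvPolynomial (Fin n) L) M (hf0.trans (map_zero _).symm)
  have h4 : (aeval (X : Fin n → MvPolynomial (Fin n) L) : MvPolynomial (Fin n) k →ₐ[k] _) f =
      map (algebraMap k L) f := by
    clear hf hf0 h3
    induction f using MvPolynomial.induction_on <;> simp_all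
  rw [Ideal.mem_bot]
  exact map_injective _ (algebraMap k L).injective (by rw [← h4, h3, map_zero])

theorem exists_pow_eq_of_finite {L : Type u} [Field L] {a : L}
    (h : (AddSubmonoid.closure (Set.range fun d : ℕ => a ^ d) : Set L).Finite) :
    ∃ p : ℕ, p.Prime ∧ CharP L p ∧ ∃ m : ℕ, 0 < m ∧ a ^ p ^ m = a := by
  have hnat : (Set.range fun m : ℕ => (m : L)).Finite := h.subset (by
    rintro _ ⟨m, rfl⟩
    have h1 : (1 : L) ∈ AddSubmonoid.closure (Set.range fun d : ℕ => a ^ d) :=
      AddSubmonoid.subset_closure ⟨0, pow_zero a⟩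
    simpa using nsmul_mem h1 m)
  obtain ⟨p, hp⟩ := CharP.exists L
  rcases CharP.char_is_prime_or_zero L p with hpp | hp0
  · have : Fact p.Prime := ⟨hpp⟩
    have : ExpChar L p := ExpChar.prime hpp
    obtain ⟨x, y, hne, hxy⟩ := Set.Finite.exists_lt_map_eq_of_forall_mem
      (f := fun m : ℕ => a ^ p ^ m)
      (fun m => (AddSubmonoid.subset_closure ⟨p ^ m, rfl⟩ : a ^ p ^ m ∈
        (AddSubmonoid.closure (Set.range fun d : ℕ => a ^ d) : Set L))) h
    refine ⟨p, hpp, hp, y - x, Nat.sub_pos_of_lt hne, ?_⟩
    have h2 : (a ^ p ^ (y - x)) ^ p ^ x = a ^ p ^ x := by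
      rw [← pow_mul, ← pow_add, Nat.sub_add_cancel hne.le]
      exact hxy.symm
    exact iterateFrobenius_inj L p x (by simpa [iterateFrobenius_def] using h2)
  · subst hp0
    have : CharZero L := CharP.charP_to_charZero L
    exact absurd hnat (Set.infinite_range_of_injective Nat.cast_injective)

end Helpers

/-- Let `k` be a field and `n ≥ 2`. For `i ≠ j` and `d ≥ 0` let `T_{i,j,d}` be the automorphism of
`𝔸^n_k` given by `x_i ↦ x_i + x_j^d` and fixing the other coordinates. Let `W ⊆ 𝔸^n_k` be a nonempty
open subscheme with `T_{i,j,d}⁻¹(W) = W` for all `i, j, d`. Then either `W = 𝔸^n_k`, or `k` has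
prime characteristic `p` and the complement `𝔸^n_k ∖ W` consists of finitely many closed points,
each of whose coordinates `a` in the residue field satisfies `a^(p^m) = a` for some `m ≥ 1`
(equivalently, is algebraic over `𝔽_p`). -/
theorem result (k : Type u) [Field k] (n : ℕ) (hn : 2 ≤ n)
    (W : (Spec (CommRingCat.of (MvPolynomial (Fin n) k))).Opens)
    (hW : (W : Set ↥(Spec (CommRingCat.of (MvPolynomial (Fin n) k)))).Nonempty)
    (hinv : ∀ (i j : Fin n), i ≠ j → ∀ d : ℕ,
      (Spec.map (CommRingCat.ofHom (MvPolynomial.aeval (R := k)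
        (Function.update MvPolynomial.X i (MvPolynomial.X i + MvPolynomial.X j ^ d) :
          Fin n → MvPolynomial (Fin n) k)).toRingHom)) ⁻¹ᵁ W = W) :
    W = ⊤ ∨ ∃ p : ℕ, p.Prime ∧ CharP k p ∧ ((W : Set ↥(Spec (CommRingCat.of (MvPolynomial (Fin n) k))))ᶜ).Finite ∧
      ∀ x : ↥(Spec (CommRingCat.of (MvPolynomial (Fin n) k))),
        x ∉ (W : Set ↥(Spec (CommRingCat.of (MvPolynomial (Fin n) k)))) →
        IsClosed ({x} : Set ↥(Spec (CommRingCat.of (MvPolynomial (Fin n) k)))) ∧ ∀ i : Fin n, ∃ m : ℕ, 0 < m ∧
          (algebraMap (MvPolynomial (Fin n) k) x.asIdeal.ResidueField (MvPolynomial.X i)) ^ (p ^ m) =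
            algebraMap (MvPolynomial (Fin n) k) x.asIdeal.ResidueField (MvPolynomial.X i) := by
  by_cases htop : W = ⊤
  · exact Or.inl htop
  refine Or.inr ?_
  let Z : Set (PrimeSpectrum (MvPolynomial (Fin n) k)) :=
    (W : Set ↥(Spec (CommRingCat.of (MvPolynomial (Fin n) k))))ᶜ
  have hZ : IsClosed Z := W.isOpen.isClosed_compl
  let I := PrimeSpectrum.vanishingIdeal Z
  have hZI : ∀ x : PrimeSpectrum (MvPolynomial (Fin n) k), x ∈ Z ↔ I ≤ x.asIdeal := by
    intro x
    conv_lhs => rw [← hZ.closure_eq, ← PrimeSpectrum.zeroLocus_vanishingIdeal_eq_closure,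
      PrimeSpectrum.mem_zeroLocus]
    rfl
  have hI : ∀ (i j : Fin n), i ≠ j → ∀ (d : ℕ) (P : Ideal (MvPolynomial (Fin n) k)), P.IsPrime →
      I ≤ P → I ≤ P.comap (tau i j d) := by
    intro i j hij d P hP hle
    have hxZ : (⟨P, hP⟩ : PrimeSpectrum _) ∈ Z := (hZI _).2 hle
    let y : PrimeSpectrum (MvPolynomial (Fin n) k) :=
      PrimeSpectrum.comap (tau i j d).toRingHom ⟨P, hP⟩
    have hyZ : y ∈ Z := by
      intro hyW
      apply hxZ
      rw [← hinv i j hij d]
      exact hyW
    exact (hZI y).1 hyZ
  have hne : I ≠ ⊥ := by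
    intro hb
    obtain ⟨w, hw⟩ := hW
    exact ((hZI w).2 (by rw [hb]; exact bot_le)) hw
  have hpt : ∀ x : PrimeSpectrum (MvPolynomial (Fin n) k), x ∈ Z → ∀ i : Fin n,
      ∃ p : ℕ, p.Prime ∧ CharP k p ∧ ∃ m : ℕ, 0 < m ∧
        (algebraMap (MvPolynomial (Fin n) k) x.asIdeal.ResidueField (MvPolynomial.X i)) ^ (p ^ m) =
          algebraMap (MvPolynomial (Fin n) k) x.asIdeal.ResidueField (MvPolynomial.X i) := by
    intro x hx i
    let a : Fin n → x.asIdeal.ResidueField :=
      fun l => algebraMap (MvPolynomial (Fin n) k) x.asIdeal.ResidueField (MvPolynomial.X l)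
    have hk : Kills I a := fun f hf => by
      have he : (MvPolynomial.aeval a : MvPolynomial (Fin n) k →ₐ[k] x.asIdeal.ResidueField) =
          IsScalarTower.toAlgHom k (MvPolynomial (Fin n) k) x.asIdeal.ResidueField := by
        refine MvPolynomial.algHom_ext fun l => ?_
        simp [a]
      rw [he, IsScalarTower.coe_toAlgHom', Ideal.algebraMap_residueField_eq_zero]
      exact (hZI x).1 hx hf
    have hfin : (AddSubmonoid.closure (Set.range fun d : ℕ => a i ^ d) :
        Set x.asIdeal.ResidueField).Finite := by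
      by_contra hinf
      exact hne (eq_bot_of_infinite hI hn a hk i hinf)
    obtain ⟨p, hp, hchar, hm⟩ := exists_pow_eq_of_finite hfin
    exact ⟨p, hp, (algebraMap k x.asIdeal.ResidueField).charP
      (algebraMap k x.asIdeal.ResidueField).injective p, hm⟩
  obtain ⟨x₀, hx₀⟩ : Z.Nonempty := by
    by_contra hem
    apply htop
    ext x
    simp only [TopologicalSpace.Opens.coe_top, Set.mem_univ, iff_true]
    by_contra hx
    exact hem ⟨x, hx⟩
  obtain ⟨p, hp, hchar, -⟩ := hpt x₀ hx₀ ⟨0, by omega⟩
  have hpow : ∀ x : PrimeSpectrum (MvPolynomial (Fin n) k), x ∈ Z → ∀ i : Fin n, ∃ m : ℕ, 0 < m ∧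
      (algebraMap (MvPolynomial (Fin n) k) x.asIdeal.ResidueField (MvPolynomial.X i)) ^ (p ^ m) =
        algebraMap (MvPolynomial (Fin n) k) x.asIdeal.ResidueField (MvPolynomial.X i) := by
    intro x hx i
    obtain ⟨q, _, hq, hm⟩ := hpt x hx i
    obtain rfl := CharP.eq k hq hchar
    exact hm
  have hmax : ∀ x : PrimeSpectrum (MvPolynomial (Fin n) k), x ∈ Z → x.asIdeal.IsMaximal := by
    intro x hx
    have hint : Algebra.IsIntegral k (MvPolynomial (Fin n) k ⧸ x.asIdeal) := by
      refine ⟨fun q => ?_⟩
      obtain ⟨f, rfl⟩ := Ideal.Quotient.mk_surjective q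
      induction f using MvPolynomial.induction_on with
      | C c =>
        have : Ideal.Quotient.mk x.asIdeal (MvPolynomial.C c) =
            algebraMap k (MvPolynomial (Fin n) k ⧸ x.asIdeal) c := rfl
        rw [this]
        exact isIntegral_algebraMap
      | add f g hf hg => rw [map_add]; exact hf.add hg
      | mul_X f i hf =>
        rw [map_mul]
        refine hf.mul ?_
        obtain ⟨m, hm, he⟩ := hpow x hx i
        rw [← map_pow, ← sub_eq_zero, ← map_sub, Ideal.algebraMap_residueField_eq_zero] at he
        refine ⟨Polynomial.X ^ (p ^ m) - Polynomial.X, ?_, ?_⟩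
        · exact Polynomial.monic_X_pow_sub (by
            rw [Polynomial.degree_X]
            exact_mod_cast Nat.one_lt_pow hm.ne' hp.one_lt)
        · rw [← Polynomial.aeval_def, map_sub, map_pow, Polynomial.aeval_X, ← map_pow, ← map_sub,
            Ideal.Quotient.eq_zero_iff_mem]
          exact he
    exact Ideal.Quotient.maximal_of_isField _ (isField_of_isIntegral_of_isField' (Field.toIsField k))
  have hclosed : ∀ x : PrimeSpectrum (MvPolynomial (Fin n) k), x ∈ Z → IsClosed ({x} : Set _) :=
    fun x hx => (PrimeSpectrum.isClosed_singleton_iff_isMaximal x).2 (hmax x hx)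
  refine ⟨p, hp, hchar, ?_, fun x hx => ⟨hclosed x hx, hpow x hx⟩⟩
  have hmin : Z ⊆ {x | x.asIdeal ∈ I.minimalPrimes} := by
    intro x hx
    obtain ⟨q, hq, hqx⟩ := Ideal.exists_minimalPrimes_le ((hZI x).1 hx)
    have hq' : (⟨q, hq.1.1⟩ : PrimeSpectrum _) ∈ Z := (hZI _).2 hq.1.2
    have := (hmax _ hq').eq_of_le x.isPrime.ne_top hqx
    simp only [Set.mem_setOf_eq] at this ⊢
    rw [← this]
    exact hq
  exact Set.Finite.subset ((Ideal.finite_minimalPrimes_of_isNoetherianRing _ I).preimage
    (fun x _ y _ hxy => PrimeSpectrum.ext hxy)) hmin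

end Groth.Agent.S7451
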