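import Groth.Statements.S7453
import Mathlib
import Groth.Agent.GitQuot.GrpdField
-- import your own Groth.Agent.* helpers here

set_option autoImplicit false
universe u
open CategoryTheory CategoryTheory.Limits AlgebraicGeometry
open Grpd

namespace Groth.Agent.S7453

/-- Let (U, R, s, t, c) be a groupoid scheme over S with U the spectrum of a field. Then R is a
separated scheme. (A groupoid scheme carries U, R, s, t, c, e, i over S with the groupoid axioms on
T-points; c is defined on the fibre product of s and t and sends a pair (a, b) with s(a) = t(b) to a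
composed with b.) -/
theorem result (S : Scheme.{u}) (G : Grpd.GroupoidScheme S) (k : Type u) [Field k] (eU : G.U ≅ Spec (CommRingCat.of k)) : G.R.IsSeparated := by
  have := Groth.GrpdBasic.subsingleton_of_iso_field k eU
  have : IsAffine G.U := .of_isIso eU.hom
  have he : IsClosedImmersion G.e := by
    rw [IsZariskiLocalAtTarget.iff_of_iSup_eq_top (P := @IsClosedImmersion) _ (iSup_affineOpens_eq_top G.R)]
    intro V
    have : IsAffine (V.1 : Scheme) := V.2
    have hι : IsClosedImmersion (G.e ⁻¹ᵁ V.1).ι := by
      have : IsClosed (Set.range (G.e ⁻¹ᵁ V.1).ι) := isClosed_discrete _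
      exact IsClosedImmersion.of_isPreimmersion _ this
    have h : (G.e ∣_ V.1) ≫ (V.1.ι ≫ G.s) = (G.e ⁻¹ᵁ V.1).ι := by
      rw [← Category.assoc, morphismRestrict_ι, Category.assoc, G.e_s, Category.comp_id]
    have : IsClosedImmersion ((G.e ∣_ V.1) ≫ (V.1.ι ≫ G.s)) := by rw [h]; exact hι
    exact IsClosedImmersion.of_comp _ (V.1.ι ≫ G.s)
  let l : G.R ⟶ pullback G.s G.t := pullback.lift (G.t ≫ G.e) (𝟙 _)
    (by rw [Category.assoc, G.e_s, Category.comp_id, Category.id_comp])
  have hl : IsClosedImmersion l := by
    have : IsIso (G.e ≫ G.s) := by rw [G.e_s]; infer_instance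
    have : IsIso (l ≫ pullback.snd G.s G.t) := by rw [pullback.lift_snd]; infer_instance
    have out : IsPullback (l ≫ pullback.snd G.s G.t) G.t G.t (G.e ≫ G.s) :=
      IsPullback.of_horiz_isIso ⟨by rw [pullback.lift_snd, Category.id_comp, G.e_s, Category.comp_id]⟩
    exact MorphismProperty.of_isPullback
      (IsPullback.of_right out (pullback.lift_fst _ _ _) (IsPullback.of_hasPullback G.s G.t).flip).flip he
  have hd : pullback.diagonal G.s = l ≫ (Groth.GrpdBasic.shearS G).hom := by
    apply pullback.hom_ext
    · rw [pullback.diagonal_fst, Category.assoc]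
      simp only [Groth.GrpdBasic.shearS, pullback.lift_fst]
      rw [Groth.GrpdBasic.comp_comp_c]
      exact ((Groth.GrpdBasic.comp_congr G _ (pullback.lift_fst _ _ _) (pullback.lift_snd _ _ _)).trans
        (Groth.GrpdBasic.unit_comp G (𝟙 _) (Category.id_comp _))).symm
    · rw [pullback.diagonal_snd, Category.assoc]
      simp only [Groth.GrpdBasic.shearS, pullback.lift_snd]
      exact (pullback.lift_snd _ _ _).symm
  have : IsSeparated G.s := ⟨by rw [hd]; infer_instance⟩
  refine ⟨?_⟩
  rw [← terminal.comp_from G.s]
  infer_instance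

end Groth.Agent.S7453
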