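import Groth.Statements.S7454
import Groth.Agent.S1938
import Groth.Agent.S5000
import Groth.Agent.OmegaSheaf.Smooth
import Groth.Agent.OmegaSheaf.SectionConormal
import Groth.Agent.LocFree.Affine
import Groth.Agent.LocFree.Basic
import Groth.Agent.QCohMod.PullbackQCoh
import Groth.Agent.QCohMod.FiniteType
import Groth.Agent.Flatmor4.GeomDescent

set_option autoImplicit false
universe u
open CategoryTheory CategoryTheory.Limits AlgebraicGeometry
open Grpd

namespace Groth.Agent.S7454


open TensorProduct in
/-- In characteristic zero an algebra of finite type with finite projective differentials is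
smooth. -/
theorem smooth_of_projective_kaehler (k A : Type u) [Field k] [CharZero k] [CommRing A]
    [Algebra k A] [Algebra.FiniteType k A] [Module.Finite A Ω[A⁄k]]
    [Module.Projective A Ω[A⁄k]] : Algebra.Smooth k A := by
  have hfp : Algebra.FinitePresentation k A :=
    Algebra.FinitePresentation.of_finiteType.mp inferInstance
  have hfs : Algebra.FormallySmooth k A := by
    refine Algebra.smoothLocus_eq_univ_iff.mp (Set.eq_univ_iff_forall.mpr fun q => ?_)
    let B := Localization.AtPrime q.asIdeal
    have : Algebra.FormallyEtale A B := Algebra.FormallyEtale.of_isLocalization q.asIdeal.primeCompl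
    let E := KaehlerDifferential.tensorKaehlerEquivOfFormallyEtale k A B
    have : Module.Finite B Ω[B⁄k] := Module.Finite.equiv E
    have : Module.Projective B Ω[B⁄k] := Module.Projective.of_equiv E
    exact (Groth.Agent.S5000.result k A q.asIdeal).2 Module.free_of_flat_of_isLocalRing
  exact ⟨hfs, hfp⟩

/-- The sheaf of differentials of the target map over the spectrum of a field is finite locally
free. -/
theorem isFinLocFree_omega {S : Scheme.{u}} (G : Grpd.GroupoidScheme S) (k : Type u) [Field k]
    (eU : G.U ≅ Spec (CommRingCat.of k)) [QuasiSeparated G.t] [LocallyOfFiniteType G.t]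
    [Flat G.s] : FlatMod.IsFinLocFree (Omega.sheaf G.t) := by
  obtain ⟨-, hiso⟩ := Groth.Agent.S1938.result S G
  obtain ⟨e1⟩ := hiso inferInstance
  obtain ⟨e2⟩ := Groth.OmegaSheaf.nonempty_conormal_iso_of_section G.t G.e G.e_t
  have hE : FlatMod.IsFinLocFree ((Scheme.Modules.pullback G.e).obj (Omega.sheaf G.t)) := by
    have : IsAffine G.U := .of_isIso eU.hom
    refine Groth.LocFree.isFinLocFree_of_affine_cover fun x => ?_
    have hfld : IsField Γ(G.U, (⊤ : G.U.Opens)) :=
      MulEquiv.isField (Field.toIsField k)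
        ((Scheme.Γ.mapIso eU.symm.op) ≪≫ Scheme.ΓSpecIso (.of k)).commRingCatIsoToRingEquiv.toMulEquiv
    have hfin := Groth.QCohMod.finite_sections _
      (Groth.QCohMod.isFT_pullback G.e _ (Groth.OmegaSheaf.isFT_sheaf G.t))
      (isAffineOpen_top G.U)
    let _ := hfld.toField
    exact ⟨⊤, isAffineOpen_top _, trivial, hfin, inferInstance⟩
  exact Groth.KTheory.LocFree.isFinLocFree_of_iso
    ((Scheme.Modules.pullback G.s).mapIso e2.symm ≪≫ e1) (Groth.LocFree.isFinLocFree_pullback G.s hE)

/-- Let (U, R, s, t, c) be a groupoid scheme over S with U the spectrum of a field of characteristic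
zero and s, t locally of finite type. Then s and t are smooth. (A groupoid scheme carries U, R, s,
t, c, e, i over S with the groupoid axioms on T-points; c is defined on the fibre product of s and t
and sends a pair (a, b) with s(a) = t(b) to a composed with b.) -/
theorem result (S : Scheme.{u}) (G : Grpd.GroupoidScheme S) (k : Type u) [Field k] [CharZero k] (eU : G.U ≅ Spec (CommRingCat.of k)) [LocallyOfFiniteType G.s] [LocallyOfFiniteType G.t] : Smooth G.s ∧ Smooth G.t := by
  have : IsAffine G.U := .of_isIso eU.hom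
  have : IsLocallyNoetherian G.U := isLocallyNoetherian_of_isOpenImmersion eU.hom
  have : IsLocallyNoetherian G.R := LocallyOfFiniteType.isLocallyNoetherian G.t
  have : QuasiSeparated G.t := .of_quasiSeparatedSpace G.t
  have : Flat (G.s ≫ eU.hom) := Groth.Flatmor4.flat_to_specField _
  have : Flat G.s := by
    rw [show G.s = (G.s ≫ eU.hom) ≫ eU.inv by simp]; infer_instance
  have hΩ := isFinLocFree_omega G k eU
  have hU : IsAffineOpen (⊤ : G.U.Opens) := isAffineOpen_top _
  have ht : Smooth G.t := by
    refine (HasRingHomProperty.iff_exists_appLE (P := @Smooth) ?_).2 fun x => ?_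
    · exact (RingHom.Smooth.stableUnderComposition.stableUnderCompositionWithLocalizationAway
        RingHom.Smooth.holdsForLocalizationAway).1
    obtain ⟨W, hW, hxW⟩ := Groth.QCohMod.exists_affine_mem x
    refine ⟨⟨⊤, hU⟩, ⟨W, hW⟩, hxW, le_top, ?_⟩
    let _ := (G.t.appLE ⊤ W le_top).hom.toAlgebra
    show Algebra.Smooth Γ(G.U, ⊤) Γ(G.R, W)
    have hfld : IsField Γ(G.U, (⊤ : G.U.Opens)) :=
      MulEquiv.isField (Field.toIsField k)
        ((Scheme.Γ.mapIso eU.symm.op) ≪≫ Scheme.ΓSpecIso (.of k)).commRingCatIsoToRingEquiv.toMulEquiv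
    let _ := hfld.toField
    have : CharZero Γ(G.U, (⊤ : G.U.Opens)) := charZero_of_injective_ringHom (R := k)
      (f := ((Scheme.Γ.mapIso eU.symm.op) ≪≫ Scheme.ΓSpecIso (.of k)).commRingCatIsoToRingEquiv.symm.toRingHom)
      (RingEquiv.injective _)
    obtain ⟨hfin, hproj⟩ := Groth.LocFree.finite_projective_sections hΩ hW
    have : Algebra.FiniteType Γ(G.U, (⊤ : G.U.Opens)) Γ(G.R, W) := G.t.finiteType_appLE hU hW le_top
    let E := Groth.OmegaSheaf.chartEquiv G.t (V := ⊤) (U := W) le_top hU hW
    have : Module.Finite Γ(G.R, W) Ω[Γ(G.R, W)⁄Γ(G.U, (⊤ : G.U.Opens))] := Module.Finite.equiv E.symm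
    have : Module.Projective Γ(G.R, W) Ω[Γ(G.R, W)⁄Γ(G.U, (⊤ : G.U.Opens))] :=
      Module.Projective.of_equiv E.symm
    exact smooth_of_projective_kaehler _ _
  refine ⟨?_, ht⟩
  have : IsIso G.i := Groth.GrpdBasic.isIso_i G
  rw [← G.i_t]
  infer_instance

end Groth.Agent.S7454
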