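import Groth.Statements.S7460
import Groth.Agent.GrpschAbsch.ProfiniteProd

set_option autoImplicit false
universe u
open CategoryTheory CategoryTheory.Limits AlgebraicGeometry
open GrpSch

namespace Groth.Agent.S7460

/-- Let k be a field and A a k-algebra such that every finite subset of A is contained in a k-subalgebra
isomorphic to a finite product of copies of k (that is, A is a directed colimit of finite products
of copies of k). Let X be a scheme over k. Then the map from the underlying space of Spec A x_k X to
the product of the underlying spaces of Spec A and X, given by the two projections, is a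
homeomorphism. -/
theorem result (k : Type u) [Field k] (A : Type u) [CommRing A] [Algebra k A] (hA : ∀ s : Finset A, ∃ (B : Subalgebra k A) (n : ℕ), (↑s : Set A) ⊆ (B : Set A) ∧ Nonempty (B ≃ₐ[k] (Fin n → k))) (X : Scheme.{u}) (f : X ⟶ Spec (CommRingCat.of k)) : IsHomeomorph (fun p : ↑(pullback (Spec.map (CommRingCat.ofHom (algebraMap k A))) f) => (pullback.fst (Spec.map (CommRingCat.ofHom (algebraMap k A))) f p, pullback.snd (Spec.map (CommRingCat.ofHom (algebraMap k A))) f p)) := Groth.GrpschAbsch.ProfiniteProd.isHomeomorph_prod hA X f

end Groth.Agent.S7460
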