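import Groth.Statements.S7463
import Mathlib
import Groth.Agent.GitQuot.GrpdField
-- import your own Groth.Agent.* helpers here

set_option autoImplicit false
universe u
open CategoryTheory CategoryTheory.Limits AlgebraicGeometry
open Grpd

namespace Groth.Agent.S7463

/-- Consider a groupoid scheme (U, R, s, t, c) over S in which U is the spectrum of a field, and write Z
for the closure of the image of the morphism j = (t, s) : R -> U x_S U. Then, set-theoretically,
pr_02 carries Z x_(pr_1,U,pr_0) Z into Z: given the morphism pr_02 from (U x_S U) x_(pr_1,U,pr_0) (U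
x_S U) to U x_S U, whose components are pr_0 of the first factor and pr_1 of the second, any point
both of whose projections land in Z is mapped to a point of Z. (A groupoid scheme consists of U, R,
s, t, c, e, i over S satisfying the groupoid axioms on T-points; c is defined on the fibre product
of s and t and takes a pair (a, b) with s(a) = t(b) to the composite of a with b.) -/
theorem result (S : Scheme.{u}) (G : Grpd.GroupoidScheme S) (k : Type u) [Field k] (eU : G.U ≅ Spec (CommRingCat.of k)) (pr02 : pullback (pullback.snd G.pU G.pU) (pullback.fst G.pU G.pU) ⟶ pullback G.pU G.pU) (h0 : pr02 ≫ pullback.fst G.pU G.pU = pullback.fst (pullback.snd G.pU G.pU) (pullback.fst G.pU G.pU) ≫ pullback.fst G.pU G.pU) (h1 : pr02 ≫ pullback.snd G.pU G.pU = pullback.snd (pullback.snd G.pU G.pU) (pullback.fst G.pU G.pU) ≫ pullback.snd G.pU G.pU) (p : ↑(pullback (pullback.snd G.pU G.pU) (pullback.fst G.pU G.pU))) (h₁ : pullback.fst (pullback.snd G.pU G.pU) (pullback.fst G.pU G.pU) p ∈ closure (Set.range ⇑G.j)) (h₂ : pullback.snd (pullback.snd G.pU G.pU)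 (pullback.fst G.pU G.pU) p ∈ closure (Set.range ⇑G.j)) : pr02 p ∈ closure (Set.range ⇑G.j) := by
  refine map_mem_closure pr02.continuous
    (Groth.GrpdBasic.mem_closure_pullback k eU _ _ _ _ h₁ h₂) ?_
  rintro q ⟨hq₁, hq₂⟩
  have hq : q ∈ Set.range ⇑(pullback.map G.s G.t (pullback.snd G.pU G.pU) (pullback.fst G.pU G.pU)
      G.j G.j (𝟙 G.U) (by rw [GroupoidScheme.j, pullback.lift_snd, Category.comp_id]) (by rw [GroupoidScheme.j, pullback.lift_fst, Category.comp_id])) := by
    rw [Scheme.Pullback.range_map]; exact ⟨hq₁, hq₂⟩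
  obtain ⟨w, hw⟩ := hq
  refine ⟨G.c w, ?_⟩
  have e : G.c ≫ G.j = pullback.map G.s G.t (pullback.snd G.pU G.pU) (pullback.fst G.pU G.pU)
      G.j G.j (𝟙 G.U) (by rw [GroupoidScheme.j, pullback.lift_snd, Category.comp_id]) (by rw [GroupoidScheme.j, pullback.lift_fst, Category.comp_id]) ≫ pr02 := by
    apply pullback.hom_ext
    · simp only [Category.assoc, h0, GroupoidScheme.j, pullback.map, pullback.lift_fst, pullback.lift_fst_assoc]
      exact Groth.GrpdBasic.c_t G
    · simp only [Category.assoc, h1, GroupoidScheme.j, pullback.map, pullback.lift_snd, pullback.lift_snd_assoc]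
      exact Groth.GrpdBasic.c_s G
  rw [← hw, ← Scheme.Hom.comp_apply, ← Scheme.Hom.comp_apply, e]

end Groth.Agent.S7463
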