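import Groth.Statements.S7464
import Groth.Agent.GitQuot.GrpdBasic
-- import your own Groth.Agent.* helpers here

set_option autoImplicit false
universe u
open CategoryTheory CategoryTheory.Limits AlgebraicGeometry
open Grpd

namespace Groth.Agent.S7464

/-- Let (U, R, s, t, c) be a groupoid scheme over S with s and t finite, and let u, u' be distinct
points of U in the same orbit, say u = s(r) and u' = t(r). Then u' does not lie in the closure of u.
(The published statement calls u, u' points of R; this row takes them to be points of U, as the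
orbit condition and the proof require.) (A groupoid scheme carries U, R, s, t, c, e, i over S with
the groupoid axioms on T-points; c is defined on the fibre product of s and t and sends a pair (a,
b) with s(a) = t(b) to a composed with b.) -/
theorem result (S : Scheme.{u}) (G : Grpd.GroupoidScheme S) [IsFinite G.s] [IsFinite G.t] (r : G.R) (hne : G.s r ≠ G.t r) : ¬ (G.s r ⤳ G.t r) := by
  intro hsp
  classical
  let u := G.s r
  have hfinite : (⇑G.t '' (⇑G.s ⁻¹' {u})).Finite := (G.s.finite_preimage_singleton u).image _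
  have hE := Groth.GrpdBasic.orbit_equivalence G
  have hdisc : ∀ a b : G.R, G.s a = G.s b → a ⤳ b → a = b := by
    intro a b hab hsp'
    exact (G.s.isDiscrete_preimage_singleton (G.s a)).eq_of_specializes hsp' rfl hab.symm
  have hstep : ∀ w : G.U, w ∈ ⇑G.t '' (⇑G.s ⁻¹' {u}) →
      ∃ w' ∈ ⇑G.t '' (⇑G.s ⁻¹' {u}), w ⤳ w' ∧ w ≠ w' := by
    rintro w ⟨q, hq, rfl⟩
    -- arrows from `u` to `w`; lift the specialisation along `s`
    obtain ⟨a, ha, hau⟩ : ∃ a : G.R, G.s a = u ∧ G.t a = G.t q := ⟨q, hq, rfl⟩
    obtain ⟨b, hab, hb⟩ := G.s.isClosedMap.specializingMap (a := a) (show G.s a ⤳ G.t r by rw [ha]; exact hsp)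
    refine ⟨G.t b, ?_, ?_, ?_⟩
    · obtain ⟨c, hc1, hc2⟩ := hE.trans ⟨b, rfl, hb⟩ ⟨r, rfl, rfl⟩
      exact ⟨c, hc2, hc1⟩
    · rw [← hau]; exact hab.map G.t.continuous
    · intro he
      have hab' : a = b := by
        have := (G.t.isDiscrete_preimage_singleton (G.t a)).eq_of_specializes hab rfl
          (show G.t b = G.t a by rw [← he, hau])
        exact this
      exact hne (show G.s r = G.t r by rw [← hb, ← hab', ha])
  have hne' : (⇑G.t '' (⇑G.s ⁻¹' {u})).Nonempty := ⟨G.t r, r, rfl, rfl⟩
  obtain ⟨w, hw, hmin⟩ := hfinite.exists_minimalFor (fun w : G.U =>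
    (hfinite.toFinset.filter fun z => w ⤳ z).card) _ hne'
  obtain ⟨w', hw', hww', hne''⟩ := hstep w hw
  have hlt : (hfinite.toFinset.filter fun z => w' ⤳ z).card < (hfinite.toFinset.filter fun z => w ⤳ z).card := by
    refine Finset.card_lt_card ⟨fun z hz => ?_, fun hsub => ?_⟩
    · rw [Finset.mem_filter] at hz ⊢
      exact ⟨hz.1, hww'.trans hz.2⟩
    · have := hsub (Finset.mem_filter.2 ⟨hfinite.mem_toFinset.2 hw, specializes_rfl⟩)
      exact hne'' (hww'.antisymm (Finset.mem_filter.1 this).2).eq
  exact absurd (hmin hw' hlt.le) (not_le.2 hlt)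

end Groth.Agent.S7464
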