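import Groth.Statements.S7475
import Groth.Agent.HTopHyper.SheafGlue
-- import your own Groth.Agent.* helpers here

set_option autoImplicit false
universe w u
open HTop

namespace Groth.Agent.S7475

open CategoryTheory CategoryTheory.Limits AlgebraicGeometry in
/-- Variant with a single arrow: a presheaf of sets on all schemes has the sheaf property for every V
covering family exactly when it is a Zariski sheaf and has the sheaf property for every morphism V
-> U of affine schemes that on its own forms a standard V covering. -/
theorem result (F : Scheme.{u}ᵒᵖ ⥤ Type w) : HTop.IsVSheaf F ↔ (Presieve.IsSheaf Scheme.zariskiTopology F ∧ ∀ (U V : Scheme.{u}) (f : V ⟶ U), HTop.IsStandardV (PreZeroHypercover.singleton f) → Presieve.IsSheafFor F (Presieve.singleton f)) := by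
  refine ⟨fun h => ⟨Groth.HTopHyper.isVSheaf_zariski h, fun U V f hf => ?_⟩, fun h => ?_⟩
  · have := h _ ((HTop.presieve₀_mem_vPrecoverage_iff _).mpr
      (Groth.HTopHyper.isVCover_of_isStandardV hf))
    rwa [PreZeroHypercover.presieve₀_singleton] at this
  · refine Groth.HTopHyper.isVSheaf_of_standard h.1 fun T E hE => ?_
    have := hE.finite_index
    exact Groth.HTopHyper.isSheafFor_of_openCover_source h.1 (Sigma.desc E.f) E (Sigma.ι E.X)
      (fun j => Sigma.ι_desc E.f j) (fun x => (sigmaOpenCover E.X).exists_eq x)
      (h.2 _ _ _ (Groth.HTopHyper.isStandardV_sigmaDesc hE))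

end Groth.Agent.S7475
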