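import Groth.Statements.S7484
import Groth.Agent.Pi1Desc.FiniteFibres

set_option autoImplicit false
open CategoryTheory CategoryTheory.Limits AlgebraicGeometry
universe u
open Desc

namespace Groth.Agent.S7484

/-- Let p : X -> Y be a surjective finite locally free morphism and d a positive integer such that for
every algebraically closed field k and every k-point of Y there are at most d k-points of X over it.
Let V be a scheme over X such that any d points of V (not necessarily distinct) lying over one point
of Y are contained in an affine open of V. Then every descent datum on V relative to p is effective.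
(Descent data are taken in functor-of-points form.) -/
theorem result {X Y : Scheme.{u}} (p : X ⟶ Y) [Surjective p] [IsFinite p] [Flat p] [LocallyOfFinitePresentation p] (d : ℕ) (hd : 0 < d) (hfib : ∀ (k : Type u) [Field k] [IsAlgClosed k] (y : Spec (CommRingCat.of k) ⟶ Y), Set.encard {x : Spec (CommRingCat.of k) ⟶ X | x ≫ p = y} ≤ d) (D : Desc.SchDD p) (hV : ∀ (y : Y) (v : Fin d → ↑(D.obj.left)), (∀ i, p (D.obj.hom (v i)) = y) → ∃ U : D.obj.left.Opens, IsAffineOpen U ∧ ∀ i, v i ∈ U) : ∃ W : Over Y, Nonempty ((Desc.toDD p).obj W ≅ D) := by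
  open Groth.Pi1Desc in
  classical
  suffices hE : (ofDD D).Eff by
    obtain ⟨U, q, -, h⟩ := exists_iso_of_eff D hE
    exact ⟨U, h⟩
  refine (ofDD D).eff_of_finite_class fun v₀ => ?_
  let F := (ofDD D).σ '' ((ofDD D).d₁ ⁻¹' {v₀})
  have hF : F.encard ≤ d := (ofDD D).encard_class_le d hfib v₀
  have hfin : F.Finite := Set.finite_of_encard_le_coe hF
  obtain ⟨r₀, h1, h2⟩ := (ofDD D).exists_σ_eq v₀
  haveI : Fintype F := hfin.fintype
  have hcard : Fintype.card F ≤ Fintype.card (Fin d) := by
    rw [Fintype.card_fin]
    rw [← hfin.cast_ncard_eq, ← Nat.card_coe_set_eq, Nat.card_eq_fintype_card] at hF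
    exact_mod_cast hF
  obtain ⟨f⟩ := Function.Embedding.nonempty_of_card_le hcard
  haveI : Nonempty F := ⟨⟨v₀, r₀, h1, h2⟩⟩
  let v : Fin d → D.obj.left := fun i => (Function.invFun f i).1
  obtain ⟨U, hU, hUv⟩ := hV (p (D.obj.hom v₀)) v fun i => by
    obtain ⟨r, hr, hr'⟩ := (Function.invFun f i).2
    change p (D.obj.hom ((Function.invFun f i).1)) = _
    rw [← hr', (ofDD D).σ_hp, show (ofDD D).d₁ r = v₀ from hr]
  refine ⟨U, hU, fun r hr => ?_⟩
  have := hUv (f ⟨(ofDD D).σ r, r, hr, rfl⟩)
  change (Function.invFun f (f _)).1 ∈ U at this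
  rwa [Function.leftInverse_invFun f.injective] at this

end Groth.Agent.S7484
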