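import Groth.Statements.S7486
import Mathlib
import Groth.Agent.GitQuot.GrpdAffine
-- import your own Groth.Agent.* helpers here

set_option autoImplicit false
universe u
open CategoryTheory CategoryTheory.Limits AlgebraicGeometry
open Grpd

namespace Groth.Agent.S7486

/-- Let (U, R, s, t, c) be a groupoid scheme over S with U = Spec A and R = Spec B affine (A, B the
rings of global functions), and let x_i, i in I, be elements of A such that B is free as an A-module
through s^# with basis the elements t^#(x_i). Let C be the subring of R-invariant functions (those a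
with s^#(a) = t^#(a)). Then the x_i form a basis of A as a C-module, and the C-linear map A (x)_C A
-> B sending a (x) a' to t^#(a) s^#(a') is bijective (B carries the C-module structure through s^#).
(A groupoid scheme carries U, R, s, t, c, e, i over S with the groupoid axioms on T-points; c is
defined on the fibre product of s and t and sends a pair (a, b) with s(a) = t(b) to a composed with
b.) -/
theorem result (S : Scheme.{u}) (G : Grpd.GroupoidScheme S) [IsAffine G.U] [IsAffine G.R] (I : Type u) (x : I → Γ(G.U, ⊤)) (hB : letI := G.s.appTop.hom.toAlgebra; ∃ b : Module.Basis I Γ(G.U, ⊤) Γ(G.R, ⊤), ∀ i, b i = G.t.appTop.hom (x i)) : (∃ b : Module.Basis I G.invariants Γ(G.U, ⊤), ∀ i, b i = x i) ∧ (letI := (G.s.appTop.hom.comp G.invariants.subtype).toAlgebra; ∀ φ : TensorProduct G.invariants Γ(G.U, ⊤) Γ(G.U, ⊤) →ₗ[G.invariants] Γ(G.R, ⊤), (∀ a a' : Γ(G.U, ⊤), φ (a ⊗ₜ[G.invariants] a') = G.t.appTop.hom a * G.s.appTop.hom a') → Function.Bijective φ) := by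
  letI := G.s.appTop.hom.toAlgebra
  obtain ⟨b, hb⟩ := hB
  have hC : ∀ (c : G.invariants) (a : Γ(G.U, ⊤)),
      G.t.appTop.hom (c • a) = (c : Γ(G.U, ⊤)) • G.t.appTop.hom a := fun c a => by
    rw [Subring.smul_def, smul_eq_mul, map_mul, Algebra.smul_def, RingHom.algebraMap_toAlgebra]
    exact congrArg (· * _) c.2.symm
  have hli : LinearIndependent G.invariants x := by
    rw [linearIndependent_iff]
    intro l hl
    have h0 : Finsupp.linearCombination Γ(G.U, ⊤) b (l.mapRange (fun c : G.invariants => (c : Γ(G.U, ⊤))) rfl) = 0 := by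
      rw [Finsupp.linearCombination_apply, Finsupp.sum_mapRange_index (h := fun i (a : Γ(G.U, ⊤)) => a • b i) (fun i => zero_smul _ _)]
      rw [Finsupp.linearCombination_apply] at hl
      have := congrArg G.t.appTop.hom hl
      rw [map_zero, map_finsuppSum] at this
      refine Eq.trans ?_ this
      exact Finsupp.sum_congr fun i _ => by rw [hC, hb]
    have := linearIndependent_iff.1 b.linearIndependent _ h0
    ext i
    simpa using congrArg (fun g : I →₀ Γ(G.U, ⊤) => g i) this
  have hsp : ⊤ ≤ Submodule.span G.invariants (Set.range x) := by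
    intro a _
    obtain ⟨hinv, hsum⟩ := Groth.GrpdBasic.repr_t_mem_invariants G x b hb a
    rw [← hsum]
    refine Submodule.sum_mem _ fun i _ => ?_
    exact (Submodule.span G.invariants (Set.range x)).smul_mem ⟨_, hinv i⟩ (Submodule.subset_span ⟨i, rfl⟩)
  let bA := Module.Basis.mk hli hsp
  refine ⟨⟨bA, fun i => Module.Basis.mk_apply hli hsp i⟩, ?_⟩
  intro φ hφ
  classical
  have hkey : ∀ f : I →₀ Γ(G.U, ⊤), φ ((TensorProduct.equivFinsuppOfBasisLeft bA).symm f) = b.repr.symm f := by
    intro f
    rw [TensorProduct.equivFinsuppOfBasisLeft_symm_apply, map_finsuppSum, Module.Basis.repr_symm_apply,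
      Finsupp.linearCombination_apply]
    refine Finsupp.sum_congr fun i _ => ?_
    rw [hφ, Module.Basis.mk_apply, hb, Algebra.smul_def, RingHom.algebraMap_toAlgebra, mul_comm]
  have : (φ : _ → _) = b.repr.symm ∘ (TensorProduct.equivFinsuppOfBasisLeft bA) := by
    funext z
    rw [Function.comp_apply, ← hkey, LinearEquiv.symm_apply_apply]
  rw [this]
  exact b.repr.symm.bijective.comp (TensorProduct.equivFinsuppOfBasisLeft bA).bijective

end Groth.Agent.S7486
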