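import Groth.Statements.S7487
import Groth.Agent.GitQuot.AffGpd.InvBC
import Groth.Agent.GitQuot.AffGpd.OfScheme
-- import your own Groth.Agent.* helpers here

set_option autoImplicit false
universe u
open CategoryTheory CategoryTheory.Limits AlgebraicGeometry
open Grpd

namespace Groth.Agent.S7487

/-- Let (U, R, s, t, c) be a groupoid scheme over S with U = Spec A and R = Spec B affine and s, t
finite locally free; let C be the subring of R-invariant functions of A and C -> C' a ring map. Put
A' = A (x)_C C' and B' = B (x)_C C' (B a C-algebra through s^#) and let C^1 be the subring of A'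
where the two maps s^# (x) 1, t^# (x) 1 : A' -> B' agree; the structure map C' -> A' lands in C^1,
giving φ : C' -> C^1. Then: (a) for every f in C^1 there are n > 0 and a polynomial P over C' whose
image in A'[x] is (x - f)^n; (b) every element of the kernel of φ is nilpotent; (c) if C -> C' is
flat then φ is bijective, that is C' -> A' is injective with image C^1. (The published statement
also asserts that the base change is again a groupoid scheme; this row omits that clause.) (A
groupoid scheme carries U, R, s, t, c, e, i over S with the groupoid axioms on T-points; c is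
defined on the fibre product of s and t and sends a pair (a, b) with s(a) = t(b) to a composed with
b.) -/
theorem result (S : Scheme.{u}) (G : Grpd.GroupoidScheme S) [IsAffine G.U] [IsAffine G.R] [IsFinite G.s] [Flat G.s] [LocallyOfFinitePresentation G.s] [IsFinite G.t] [Flat G.t] [LocallyOfFinitePresentation G.t] (C' : Type u) [CommRing C'] [Algebra G.invariants C'] : letI : Algebra G.invariants Γ(G.R, ⊤) := (G.s.appTop.hom.comp G.invariants.subtype).toAlgebra; ∀ (sT tT : TensorProduct G.invariants Γ(G.U, ⊤) C' →ₐ[G.invariants] TensorProduct G.invariants Γ(G.R, ⊤) C'), (∀ (a : Γ(G.U, ⊤)) (c : C'), sT (a ⊗ₜ c) = G.s.appTop.hom a ⊗ₜ c) → (∀ (a : Γ(G.U, ⊤)) (c : C'), tT (a ⊗ₜ c) = G.t.appTop.hom a ⊗ₜ c) → (∀ f : TensorProduct G.invariants Γ(G.U, ⊤) C', sT f = tT f → ∃ (n : ℕ) (P : Polynomial C'), 0 < n ∧ Polynomial.map (Algebra.TensorProduct.includeRight : C' →ₐ[G.invariants] TensorProduct G.invariants Γ(G.U, ⊤) C').toRingHom P = (Polynomial.X - Polynomial.C f) ^ n) ∧ (∀ c : C', (Algebra.TensorProduct.includeRight : C' →ₐ[G.invariants] TensorProduct G.invariants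 Γ(G.U, ⊤) C') c = 0 → IsNilpotent c) ∧ (Module.Flat G.invariants C' → Function.Injective (Algebra.TensorProduct.includeRight : C' →ₐ[G.invariants] TensorProduct G.invariants Γ(G.U, ⊤) C') ∧ ∀ f : TensorProduct G.invariants Γ(G.U, ⊤) C', sT f = tT f → f ∈ Set.range (Algebra.TensorProduct.includeRight : C' →ₐ[G.invariants] TensorProduct G.invariants Γ(G.U, ⊤) C')) := by
  intro sT tT hsT htT
  letI : Algebra G.invariants Γ(G.R, ⊤) := (G.s.appTop.hom.comp G.invariants.subtype).toAlgebra
  let H := Groth.AffGpd.ofScheme G
  letI algH : Algebra H.inv C' := ‹Algebra G.invariants C'›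
  refine ⟨fun f hf => ?_, fun c hc => ?_, fun hflat => ?_⟩
  · obtain ⟨m, a, r, hfr⟩ := TensorProduct.exists_sum_tmul_eq f
    refine @Groth.AffGpd.exists_poly H C' _ _ ((G.s.appTop.hom.comp G.invariants.subtype).toAlgebra)
      (fun _ => rfl) f (sT f) (tT f) m a r hfr ?_ ?_ hf
    · rw [hfr, map_sum]; exact Finset.sum_congr rfl fun i _ => hsT _ _
    · rw [hfr, map_sum]; exact Finset.sum_congr rfl fun i _ => htT _ _
  · exact @Groth.AffGpd.isNilpotent_of_tmul_eq_zero H C' _ _ c hc
  · obtain ⟨h1, h2⟩ := @Groth.AffGpd.flat_bijective H C' _ _ ((G.s.appTop.hom.comp G.invariants.subtype).toAlgebra)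
      (fun _ => rfl) hflat
    refine ⟨h1, fun f hf => ?_⟩
    let σl : Γ(G.U, ⊤) →ₗ[G.invariants] Γ(G.R, ⊤) :=
      { toFun := G.s.appTop.hom
        map_add' := map_add _
        map_smul' := fun c a => map_mul G.s.appTop.hom (c : Γ(G.U, ⊤)) a }
    let τl : Γ(G.U, ⊤) →ₗ[G.invariants] Γ(G.R, ⊤) :=
      { toFun := G.t.appTop.hom
        map_add' := map_add _
        map_smul' := fun c a => (map_mul G.t.appTop.hom (c : Γ(G.U, ⊤)) a).trans
          (congrArg (· * G.t.appTop.hom a) c.2.symm) }
    have es : ∀ g, sT g = σl.rTensor C' g := fun g => by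
      induction g using TensorProduct.induction_on with
      | zero => rw [map_zero]; exact (map_zero _).symm
      | tmul a c => exact hsT a c
      | add x y hx hy => rw [map_add, hx, hy]; exact (map_add _ _ _).symm
    have et : ∀ g, tT g = τl.rTensor C' g := fun g => by
      induction g using TensorProduct.induction_on with
      | zero => rw [map_zero]; exact (map_zero _).symm
      | tmul a c => exact htT a c
      | add x y hx hy => rw [map_add, hx, hy]; exact (map_add _ _ _).symm
    exact h2 f (sT f) (tT f) σl τl (fun _ => rfl) (fun _ => rfl) (es f) (et f) hf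

end Groth.Agent.S7487
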