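import Groth.Statements.S7488
import Groth.Agent.GitQuot.QuotSheaf
import Groth.Agent.GitQuot.GrpdMonoAffine
import Groth.Agent.GitQuot.AffGpd.QuotAffine
-- import your own Groth.Agent.* helpers here

set_option autoImplicit false
universe u
open CategoryTheory CategoryTheory.Limits AlgebraicGeometry
open Grpd

namespace Groth.Agent.S7488

/-- Let (U, R, s, t, c) be a groupoid scheme over S with U and R affine, s and t finite locally free,
and j = (t, s) : R -> U x_S U a monomorphism. Let C be the ring of R-invariant functions on U and M
= Spec C. Then the structure morphism U -> S factors uniquely through U -> M, and for the resulting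
structure of scheme over S on M, the morphism U -> M represents the quotient sheaf U/R in the fppf
topology: it coequalizes s and t and the induced map from the coequalizer of h_R => h_U (sheaves of
sets on the big fppf site of S) to h_M is an isomorphism. (The published statement also asserts that
U -> M is finite locally free and that R = U x_M U; this row states only the quotient-sheaf clause.)
(A groupoid scheme carries U, R, s, t, c, e, i over S with the groupoid axioms on T-points; c is
defined on the fibre product of s and t and sends a pair (a, b) with s(a) = t(b) to a composed with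
b.) -/
theorem result (S : Scheme.{u}) (G : Grpd.GroupoidScheme S) [IsAffine G.U] [IsAffine G.R] [IsFinite G.s] [Flat G.s] [LocallyOfFinitePresentation G.s] [IsFinite G.t] [Flat G.t] [LocallyOfFinitePresentation G.t] [Mono G.j] : ∃! m : Spec (CommRingCat.of G.invariants) ⟶ S, ∃ h : G.toQuot ≫ m = G.pU, QuotSh.IsQuotient Scheme.fppfPrecoverage (Over.homMk G.s G.s_over : Over.mk G.pR ⟶ Over.mk G.pU) (Over.homMk G.t G.t_over : Over.mk G.pR ⟶ Over.mk G.pU) (Over.homMk G.toQuot h : Over.mk G.pU ⟶ Over.mk m) := by
  have hq := Groth.AffGpd.isQuot_toQuot G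
  obtain ⟨⟨h1, h2, h3⟩, hpb⟩ := Groth.AffGpd.mono_toQuot G
  obtain ⟨m, hm⟩ := hq.exists_desc G.pU (G.t_over.trans G.s_over.symm)
  refine ⟨m, ⟨hm, ?_⟩, fun m' h' => hq.epi (h'.choose.trans hm.symm)⟩
  have : Surjective G.toQuot := ⟨hq.surj⟩
  let qO : Over.mk G.pU ⟶ Over.mk m := Over.homMk G.toQuot hm
  refine Groth.QuotSheaf.isQuotient_of_epi _ (Over.OverMorphism.ext hq.w.symm) hq.w
    (@Groth.QuotSheaf.epi_repMap _ _ _ qO (by exact this) (by exact h2) (by exact h3))
    (a := (Over.homMk G.t G.t_over : Over.mk G.pR ⟶ Over.mk G.pU))
    (b := (Over.homMk G.s G.s_over : Over.mk G.pR ⟶ Over.mk G.pU)) hpb (𝟙 _)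
    (Category.id_comp _) (Category.id_comp _) ?_
  rw [← Groth.QuotSheaf.repFunctor_map, CategoryTheory.Functor.map_id]
  exact ⟨fun g h e => (Category.id_comp g).symm.trans (e.trans (Category.id_comp h))⟩

end Groth.Agent.S7488
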