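import Groth.Statements.S7492
import Groth.Agent.GitQuot.GrpdImage

set_option autoImplicit false
universe u
open CategoryTheory CategoryTheory.Limits AlgebraicGeometry
open Grpd

namespace Groth.Agent.S7492

/-- Let (U, R_1, s_1, t_1, c_1) -> (U, R_2, s_2, t_2, c_2) be a morphism of groupoid schemes over S that
is an isomorphism on object schemes, where U is the spectrum of a field, and assume a : R_1 -> R_2
is quasi-compact. Let Z be the scheme-theoretic image of a (the closed subscheme of R_2 cut out by
the kernel ideal sheaf of a). Then (U, Z, s_2|_Z, t_2|_Z, c_2|_Z) is a groupoid scheme over S;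
stated as: there are a groupoid scheme G' over S and a morphism of groupoid schemes G' -> (U, R_2,
...) which is an isomorphism on object schemes and whose arrow component is a closed immersion with
kernel ideal sheaf equal to that of a. (A groupoid scheme carries U, R, s, t, c, e, i over S with
the groupoid axioms on T-points; c is defined on the fibre product of s and t and sends a pair (a,
b) with s(a) = t(b) to a composed with b.) -/
theorem result (S : Scheme.{u}) (G₁ G₂ : Grpd.GroupoidScheme S) (f : Grpd.GroupoidScheme.Hom G₁ G₂) [IsIso f.fU] [QuasiCompact f.fR] (k : Type u) [Field k] (eU : G₂.U ≅ Spec (CommRingCat.of k)) : ∃ (G' : Grpd.GroupoidScheme S) (ψ : Grpd.GroupoidScheme.Hom G' G₂), IsIso ψ.fU ∧ IsClosedImmersion ψ.fR ∧ ψ.fR.ker = f.fR.ker :=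
  Groth.GrpdImage.exists_image f k eU

end Groth.Agent.S7492
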