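import Groth.Statements.S7493
import Groth.Agent.GitQuot.GrpdBigField

set_option autoImplicit false
universe u
open CategoryTheory CategoryTheory.Limits AlgebraicGeometry
open Grpd

namespace Groth.Agent.S7493

/-- Let (U, R, s, t, c) be a groupoid scheme over S with U = Spec k for a field k, and let r be a point
of R. Then there exist a field extension k -> k' with k' algebraically closed and a point r' of the
restriction R' of R along g : U' = Spec k' -> U, that is R' = (U' x_(g,U,t) R) x_(s pr, U, g) U'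
with t' the projection to the first factor U' and s' the projection to the last factor U', such that
r' maps to r under R' -> R and both s' and t' induce isomorphisms on residue fields at r' (k' ->
κ(r') bijective). (A groupoid scheme carries U, R, s, t, c, e, i over S with the groupoid axioms on
T-points; c is defined on the fibre product of s and t and sends a pair (a, b) with s(a) = t(b) to a
composed with b.) -/
theorem result (S : Scheme.{u}) (G : Grpd.GroupoidScheme S) (k : Type u) [Field k] (eU : G.U ≅ Spec (CommRingCat.of k)) (r : G.R) : ∃ (k' : Type u) (_ : Field k') (_ : IsAlgClosed k') (_ : Algebra k k'), ∃ r' : ↑(pullback (pullback.snd (Spec.map (CommRingCat.ofHom (algebraMap k k')) ≫ eU.inv) G.t ≫ G.s) (Spec.map (CommRingCat.ofHom (algebraMap k k')) ≫ eU.inv)), (pullback.fst (pullback.snd (Spec.map (CommRingCat.ofHom (algebraMap k k')) ≫ eU.inv) G.t ≫ G.s) (Spec.map (CommRingCat.ofHom (algebraMap k k')) ≫ eU.inv) ≫ pullback.snd (Spec.map (CommRingCat.ofHom (algebraMap k k'))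 ≫ eU.inv) G.t) r' = r ∧ IsIso ((pullback.snd (pullback.snd (Spec.map (CommRingCat.ofHom (algebraMap k k')) ≫ eU.inv) G.t ≫ G.s) (Spec.map (CommRingCat.ofHom (algebraMap k k')) ≫ eU.inv)).residueFieldMap r') ∧ IsIso ((pullback.fst (pullback.snd (Spec.map (CommRingCat.ofHom (algebraMap k k')) ≫ eU.inv) G.t ≫ G.s) (Spec.map (CommRingCat.ofHom (algebraMap k k')) ≫ eU.inv) ≫ pullback.fst (Spec.map (CommRingCat.ofHom (algebraMap k k')) ≫ eU.inv) G.t).residueFieldMap r') := by
  obtain ⟨Ω, hF, hA, ⟨ι⟩, hΩ⟩ := Groth.GrpdBigField.exists_big_field (G.R.residueField r) k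
  let ψ : Spec (CommRingCat.of Ω) ⟶ G.R := Spec.map (CommRingCat.ofHom ι) ≫ G.R.fromSpecResidueField r
  obtain ⟨a', ha⟩ := Spec.map_surjective (ψ ≫ G.s ≫ eU.hom)
  obtain ⟨b', hb⟩ := Spec.map_surjective (ψ ≫ G.t ≫ eU.hom)
  obtain ⟨σ, hσ⟩ := Groth.GrpdBigField.exists_conj a'.hom b'.hom hΩ
  refine ⟨Ω, hF, hA, a'.hom.toAlgebra, ?_⟩
  have hg : Spec.map a' ≫ eU.inv = ψ ≫ G.s := by
    rw [ha]; simp
  let φ : Spec (CommRingCat.of Ω) ⟶ Spec (CommRingCat.of Ω) := Spec.map (CommRingCat.ofHom σ.toRingHom)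
  have hφ : φ ≫ Spec.map a' ≫ eU.inv = ψ ≫ G.t := by
    have : a' ≫ CommRingCat.ofHom σ.toRingHom = b' := by ext x; exact hσ x
    rw [← Category.assoc, ← Spec.map_comp, this, hb]
    simp
  have : IsIso φ := ⟨Spec.map (CommRingCat.ofHom σ.symm.toRingHom),
    by rw [← Spec.map_comp, ← Spec.map_id]; congr 1; ext x; exact σ.apply_symm_apply x,
    by rw [← Spec.map_comp, ← Spec.map_id]; congr 1; ext x; exact σ.symm_apply_apply x⟩
  let q : Spec (CommRingCat.of Ω) ⟶ pullback (Spec.map a' ≫ eU.inv) G.t := pullback.lift φ ψ hφ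
  let p : Spec (CommRingCat.of Ω) ⟶
      pullback (pullback.snd (Spec.map a' ≫ eU.inv) G.t ≫ G.s) (Spec.map a' ≫ eU.inv) :=
    pullback.lift q (𝟙 _) (by rw [← Category.assoc, pullback.lift_snd, Category.id_comp, hg])
  refine ⟨p (IsLocalRing.closedPoint Ω), ?_, ?_, ?_⟩
  · rw [← Scheme.Hom.comp_apply]
    have : p ≫ pullback.fst (pullback.snd (Spec.map a' ≫ eU.inv) G.t ≫ G.s) (Spec.map a' ≫ eU.inv) ≫
        pullback.snd (Spec.map a' ≫ eU.inv) G.t = ψ := by
      rw [← Category.assoc, pullback.lift_fst, pullback.lift_snd]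
    exact (congrArg (fun m => m (IsLocalRing.closedPoint Ω)) this).trans
      ((Scheme.Hom.comp_apply _ _ _).trans (G.R.fromSpecResidueField_apply r _))
  · have : IsIso (p ≫ pullback.snd (pullback.snd (Spec.map a' ≫ eU.inv) G.t ≫ G.s)
        (Spec.map a' ≫ eU.inv)) := by
      rw [pullback.lift_snd]; infer_instance
    exact Groth.GrpdBigField.isIso_residueFieldMap _ p _
  · have : IsIso (p ≫ pullback.fst (pullback.snd (Spec.map a' ≫ eU.inv) G.t ≫ G.s)
        (Spec.map a' ≫ eU.inv) ≫ pullback.fst (Spec.map a' ≫ eU.inv) G.t) := by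
      rw [← Category.assoc, pullback.lift_fst, pullback.lift_fst]; infer_instance
    exact Groth.GrpdBigField.isIso_residueFieldMap _ p _

end Groth.Agent.S7493
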