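import Groth.Statements.S7494
import Groth.Agent.AlgGrp1.Act

set_option autoImplicit false
universe u
open CategoryTheory MonoidalCategory CartesianMonoidalCategory MonObj GrpObj AlgebraicGeometry
open AlgGrp

namespace Groth.Agent.S7494

/-- Let G be a group scheme over S acting on a scheme X over S by a. The action is free, meaning that
for every scheme T over S and all T-points g of G and x of X with g · x = x one has g = 1, if and
only if the morphism G x_S X -> X x_S X, (g, x) ↦ (a(g, x), x), is a monomorphism of schemes. -/
theorem result {S : Scheme.{u}} (G X : Over S) [GrpObj G] (a : AlgGrp.Action G X) : (∀ (T : Over S) (g : T ⟶ G) (x : T ⟶ X), lift g x ≫ a.act = x → g = toUnit T ≫ η[G]) ↔ Mono (lift a.act (snd G X)).left := by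
  constructor
  · intro h
    have : Mono (lift a.act (snd G X)) := by
      constructor
      intro T p q hpq
      rw [← lift_comp_fst_snd p, ← lift_comp_fst_snd q] at hpq ⊢
      simp only [comp_lift, lift_snd] at hpq
      have h1 := congrArg (fun r => r ≫ fst X X) hpq
      have h2 := congrArg (fun r => r ≫ snd X X) hpq
      simp only [lift_fst, lift_snd] at h1 h2
      rw [← h2] at h1 ⊢
      have h3 := h T _ _ ((Groth.AlgGrp1.act_eq_iff a _ _ _).1 h1)
      rw [show toUnit T ≫ η[G] = (1 : T ⟶ G) from rfl, inv_mul_eq_one] at h3
      rw [h3]
    exact Over.mono_left_of_mono _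
  · intro h T g x hgx
    have := Over.mono_of_mono_left (lift a.act (snd G X))
    have e : lift g x = lift (1 : T ⟶ G) x := by
      rw [← cancel_mono (lift a.act (snd G X))]
      simp only [comp_lift, lift_snd, hgx, a.lift_one_act]
    have e' := congrArg (fun r => r ≫ fst G X) e
    simp only [lift_fst] at e'
    exact e'

end Groth.Agent.S7494
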