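import Groth.Statements.S7497
import Groth.Agent.HTopHyper.Fpqc
-- import your own Groth.Agent.* helpers here

set_option autoImplicit false
universe u
open CategoryTheory CategoryTheory.Limits AlgebraicGeometry
open HTop

namespace Groth.Agent.S7497

/-- Let {f_i : T_i -> T} be a family of flat morphisms of schemes and {g_j : S_j -> T} an fpqc covering
such that for every j the family of base changes {S_j x_T T_i -> S_j} is an fpqc covering. Then {f_i
: T_i -> T} is an fpqc covering. (fpqc coverings are Mathlib's: flat, jointly surjective, every
affine open of the target covered by images of finitely many quasi-compact opens.) -/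
theorem result {T : Scheme.{u}} (E : PreZeroHypercover.{u} T) (hflat : ∀ i, Flat (E.f i)) (𝒱 : Scheme.Cover Scheme.fpqcPrecoverage T) (hloc : ∀ j, (E.pullback₁ (𝒱.f j)).presieve₀ ∈ Scheme.fpqcPrecoverage (𝒱.X j)) : E.presieve₀ ∈ Scheme.fpqcPrecoverage T := by
  exact Groth.HTopHyper.mem_fpqc_of_local E hflat 𝒱 hloc

end Groth.Agent.S7497
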