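import Groth.Statements.S7498
import Mathlib
import Groth.Agent.GitQuot.GrpdField
-- import your own Groth.Agent.* helpers here

set_option autoImplicit false
universe u
open CategoryTheory CategoryTheory.Limits AlgebraicGeometry
open Grpd

namespace Groth.Agent.S7498

/-- Let (U, R, s, t, c) be a groupoid scheme over S and r, r' points of R with t(r) = t(r'); put u =
s(r), u' = s(r') and let F_u, F_u' be the scheme-theoretic fibres of s. Then there are a field k
which is a common extension of κ(u) and κ(u') (morphisms a, b : Spec k -> U with images u, u') and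
an isomorphism of the base changes (F_u)_k and (F_u')_k over Spec k, which moreover can be chosen to
send some point lying over r to a point lying over r'. (The published statement also compares the
germs of s at r and at r' when s and t are flat or flat of finite presentation; this row omits
that.) (A groupoid scheme carries U, R, s, t, c, e, i over S with the groupoid axioms on T-points; c
is defined on the fibre product of s and t and sends a pair (a, b) with s(a) = t(b) to a composed
with b.) -/
theorem result (S : Scheme.{u}) (G : Grpd.GroupoidScheme S) (r r' : G.R) (h : G.t r = G.t r') : ∃ (k : Type u) (_ : Field k) (a b : Spec (CommRingCat.of k) ⟶ G.U) (φ : pullback G.s a ≅ pullback G.s b) (p : ↑(pullback G.s a)), a (IsLocalRing.closedPoint k) = G.s r ∧ b (IsLocalRing.closedPoint k) = G.s r' ∧ φ.hom ≫ pullback.snd G.s b = pullback.snd G.s a ∧ pullback.fst G.s a p = r ∧ pullback.fst G.s b (φ.hom p) = r' := by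
  obtain ⟨q, hq1, hq2⟩ := Scheme.Pullback.exists_preimage_pullback r r' h
  let P := pullback G.t G.t
  let ι : Spec (P.residueField q) ⟶ P := P.fromSpecResidueField q
  let α := ι ≫ pullback.fst G.t G.t
  let β := ι ≫ pullback.snd G.t G.t
  have hαβ : α ≫ G.t = β ≫ G.t := by simp [α, β, pullback.condition]
  have hpt : ∀ z : Spec (P.residueField q), α z = r ∧ β z = r' := fun z => by
    simp [α, β, ι, Scheme.fromSpecResidueField_apply, hq1, hq2]
  let γ := Groth.GrpdBasic.comp G (α ≫ G.i) β (by rw [Category.assoc, G.i_s]; exact hαβ)
  have hγs : γ ≫ G.s = β ≫ G.s := Groth.GrpdBasic.comp_s ..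
  have hγt : γ ≫ G.t = α ≫ G.s := by rw [Groth.GrpdBasic.comp_t, Category.assoc, G.i_t]
  let a := α ≫ G.s
  let b := β ≫ G.s
  let φ : pullback G.s a ⟶ pullback G.s b := pullback.lift
    (Groth.GrpdBasic.comp G (pullback.fst G.s a) (pullback.snd G.s a ≫ γ)
      (by rw [Category.assoc, hγt]; exact pullback.condition))
    (pullback.snd _ _) (by rw [Groth.GrpdBasic.comp_s, Category.assoc, hγs])
  let ψ : pullback G.s b ⟶ pullback G.s a := pullback.lift
    (Groth.GrpdBasic.comp G (pullback.fst G.s b) ((pullback.snd G.s b ≫ γ) ≫ G.i)
      (by rw [Category.assoc, G.i_t, Category.assoc, hγs]; exact pullback.condition))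
    (pullback.snd _ _) (by rw [Groth.GrpdBasic.comp_s, Category.assoc, G.i_s, Category.assoc, hγt])
  have e1 : φ ≫ ψ = 𝟙 _ := by
    apply pullback.hom_ext
    · rw [Category.assoc, pullback.lift_fst, Category.id_comp, Groth.GrpdBasic.precomp_comp]
      refine Eq.trans ?_ (Groth.GrpdBasic.comp_cancel_inv G (pullback.fst G.s a) (pullback.snd G.s a ≫ γ)
        (by rw [Category.assoc, hγt]; exact pullback.condition))
      apply Groth.GrpdBasic.comp_congr
      · rw [pullback.lift_fst]
      · simp only [← Category.assoc]; rw [pullback.lift_snd]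
    · rw [Category.assoc, pullback.lift_snd, pullback.lift_snd, Category.id_comp]
  have e2 : ψ ≫ φ = 𝟙 _ := by
    apply pullback.hom_ext
    · rw [Category.assoc, pullback.lift_fst, Category.id_comp, Groth.GrpdBasic.precomp_comp]
      refine Eq.trans ?_ (Groth.GrpdBasic.comp_inv_cancel G (pullback.fst G.s b) (pullback.snd G.s b ≫ γ)
        (by rw [Category.assoc, G.i_t, Category.assoc, hγs]; exact pullback.condition))
      apply Groth.GrpdBasic.comp_congr
      · rw [pullback.lift_fst]
      · simp only [← Category.assoc]; rw [pullback.lift_snd]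
    · rw [Category.assoc, pullback.lift_snd, pullback.lift_snd, Category.id_comp]
  let σ : Spec (P.residueField q) ⟶ pullback G.s a := pullback.lift α (𝟙 _) (by simp [a])
  let z : Spec (P.residueField q) := IsLocalRing.closedPoint _
  have eσ : σ ≫ φ ≫ pullback.fst G.s b = β := by
    rw [pullback.lift_fst, Groth.GrpdBasic.precomp_comp]
    refine Eq.trans ?_ (Groth.GrpdBasic.comp_inv_comp_cancel G α β (by rw [Category.assoc, G.i_s]; exact hαβ))
    apply Groth.GrpdBasic.comp_congr
    · exact pullback.lift_fst _ _ _
    · rw [← Category.assoc, pullback.lift_snd, Category.id_comp]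
  refine ⟨P.residueField q, inferInstance, a, b, ⟨φ, ψ, e1, e2⟩, σ z, ?_, ?_, pullback.lift_snd _ _ _, ?_, ?_⟩
  · exact congrArg G.s (hpt _).1
  · exact congrArg G.s (hpt _).2
  · rw [← Scheme.Hom.comp_apply, pullback.lift_fst]; exact (hpt z).1
  · rw [← Scheme.Hom.comp_apply, ← Scheme.Hom.comp_apply]
    exact (congrArg (fun f : _ ⟶ G.R => f z) eσ).trans (hpt z).2

end Groth.Agent.S7498
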