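import Groth.Statements.S7499
import Groth.Agent.S0593

set_option autoImplicit false
set_option backward.isDefEq.respectTransparency.types false
universe u
open CategoryTheory CategoryTheory.Limits AlgebraicGeometry
open Grpd

namespace Groth.Agent.S7499

theorem exists_comp_point {S : Scheme.{u}} (G : Grpd.GroupoidScheme S) (r₁ r₂ : G.R)
    (h : G.s r₁ = G.t r₂) : ∃ r : G.R, G.s r = G.s r₂ ∧ G.t r = G.t r₁ := by
  obtain ⟨z, hz₁, hz₂⟩ := Scheme.Pullback.exists_preimage_pullback r₁ r₂ h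
  have hc := G.comp_s (pullback.fst G.s G.t) (pullback.snd G.s G.t) pullback.condition
  have hc' := G.comp_t (pullback.fst G.s G.t) (pullback.snd G.s G.t) pullback.condition
  have hl : pullback.lift (pullback.fst G.s G.t) (pullback.snd G.s G.t) pullback.condition =
      𝟙 (pullback G.s G.t) := by ext <;> simp
  rw [hl, Category.id_comp] at hc hc'
  refine ⟨G.c z, ?_, ?_⟩
  · rw [← Scheme.Hom.comp_apply, hc, Scheme.Hom.comp_apply, hz₂]
  · rw [← Scheme.Hom.comp_apply, hc', Scheme.Hom.comp_apply, hz₁]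

/-- Let (U, R, s, t, c) be a groupoid scheme over S with s and t integral, and g : U' -> U an integral
morphism such that every R-orbit of U meets the image of g. Let R' = (U' x_(g,U,t) R) x_(s pr, U, g)
U' be the restriction of R to U', with t' the projection to the first factor U' and s' the
projection to the last. If u' is a point of U' contained in an affine open W' of U' with t'^{-1}(W')
= s'^{-1}(W'), then g(u') is contained in an affine open W of U with s^{-1}(W) = t^{-1}(W). (A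
groupoid scheme carries U, R, s, t, c, e, i over S with the groupoid axioms on T-points; c is
defined on the fibre product of s and t and sends a pair (a, b) with s(a) = t(b) to a composed with
b.) -/
theorem result (S : Scheme.{u}) (G : Grpd.GroupoidScheme S) [IsIntegralHom G.s] [IsIntegralHom G.t] (U' : Scheme.{u}) (g : U' ⟶ G.U) [IsIntegralHom g] (horb : ∀ u : G.U, ∃ r : G.R, G.s r = u ∧ G.t r ∈ Set.range ⇑g) (u' : U') (W' : U'.Opens) (hW' : IsAffineOpen W') (hu' : u' ∈ W') (hinv : (pullback.fst (pullback.snd g G.t ≫ G.s) g ≫ pullback.fst g G.t) ⁻¹ᵁ W' = (pullback.snd (pullback.snd g G.t ≫ G.s) g) ⁻¹ᵁ W') : ∃ W : G.U.Opens, IsAffineOpen W ∧ g u' ∈ W ∧ G.s ⁻¹ᵁ W = G.t ⁻¹ᵁ W := by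
  classical
  obtain ⟨hist, his⟩ : (∀ r, G.t (G.i r) = G.s r) ∧ (∀ r, G.s (G.i r) = G.t r) :=
    ⟨fun r => by rw [← Scheme.Hom.comp_apply, G.i_t],
      fun r => by rw [← Scheme.Hom.comp_apply, G.i_s]⟩
  let T : Set G.U := G.s '' (G.t ⁻¹' (g '' (W' : Set U')ᶜ))
  have hT : IsClosed T :=
    G.s.isClosedMap _ ((g.isClosedMap _ W'.isOpen.isClosed_compl).preimage G.t.continuous)
  let W : G.U.Opens := ⟨Tᶜ, hT.isOpen_compl⟩
  -- stability
  have hst : ∀ r : G.R, G.s r ∈ T ↔ G.t r ∈ T := by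
    intro r
    constructor
    · rintro ⟨r₂, hr₂, hr₂s⟩
      obtain ⟨q, hqs, hqt⟩ := exists_comp_point G r₂ (G.i r) (by rw [hist, hr₂s])
      refine ⟨q, ?_, by rw [hqs, his]⟩
      rw [Set.mem_preimage, hqt]; exact hr₂
    · rintro ⟨r₂, hr₂, hr₂s⟩
      obtain ⟨q, hqs, hqt⟩ := exists_comp_point G r₂ r hr₂s
      refine ⟨q, ?_, hqs⟩
      rw [Set.mem_preimage, hqt]; exact hr₂
  -- trace on `U'`
  have hgW : ∀ w : U', g w ∈ T ↔ w ∉ W' := by
    intro w
    constructor
    · rintro ⟨r, ⟨z, hz, hzr⟩, hrs⟩ hw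
      obtain ⟨p, hp₁, hp₂⟩ := Scheme.Pullback.exists_preimage_pullback z r hzr
      obtain ⟨q, hq₁, hq₂⟩ := Scheme.Pullback.exists_preimage_pullback
        (f := pullback.snd g G.t ≫ G.s) (g := g) p w (by rw [Scheme.Hom.comp_apply, hp₂, hrs])
      have := congrArg (fun V : TopologicalSpace.Opens _ => q ∈ V) hinv
      simp only [Scheme.Hom.mem_preimage, Scheme.Hom.comp_apply, hq₁, hq₂, hp₁] at this
      exact hz (this.symm ▸ hw)
    · intro hw
      refine ⟨G.e (g w), ⟨w, hw, ?_⟩, ?_⟩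
      · rw [← Scheme.Hom.comp_apply G.e G.t, G.e_t]; rfl
      · rw [← Scheme.Hom.comp_apply G.e G.s, G.e_s]; rfl
  refine ⟨W, ?_, fun h => (hgW u').1 h hu', ?_⟩
  · -- `U' ×_U R → U` is integral and surjective
    let φ := pullback.snd g G.t ≫ G.s
    have hint : IsIntegralHom φ := inferInstance
    have hsurj : Surjective φ := ⟨fun u => by
      obtain ⟨r, hr, z, hz⟩ := horb u
      obtain ⟨p, -, hp₂⟩ := Scheme.Pullback.exists_preimage_pullback z r hz
      exact ⟨p, by rw [Scheme.Hom.comp_apply, hp₂, hr]⟩⟩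
    have hpre : φ ⁻¹ᵁ W = pullback.fst g G.t ⁻¹ᵁ W' := by
      ext p
      show ¬ φ p ∈ T ↔ pullback.fst g G.t p ∈ W'
      rw [Scheme.Hom.comp_apply, hst, ← Scheme.Hom.comp_apply, ← pullback.condition,
        Scheme.Hom.comp_apply, hgW, not_not]
    have haff : IsAffine ((φ ⁻¹ᵁ W : (pullback g G.t).Opens) : Scheme.{u}) := by
      rw [hpre]; exact hW'.preimage (pullback.fst g G.t)
    have : Surjective (φ ∣_ W) := IsZariskiLocalAtTarget.restrict hsurj W
    have : IsIntegralHom (φ ∣_ W) := IsZariskiLocalAtTarget.restrict hint W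
    exact Groth.Agent.S0593.result _ _ (φ ∣_ W)
  · ext r
    show ¬ G.s r ∈ T ↔ ¬ G.t r ∈ T
    rw [hst]

end Groth.Agent.S7499
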