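import Groth.Statements.S7500
import Mathlib
import Groth.Agent.GitQuot.GrpdField
-- import your own Groth.Agent.* helpers here

set_option autoImplicit false
universe u
open CategoryTheory CategoryTheory.Limits AlgebraicGeometry
open Grpd

namespace Groth.Agent.S7500

/-- Let (U, R, s, t, c) be a groupoid scheme over S and G -> U its stabilizer group scheme (the base
change of j = (t, s) along the diagonal). The action of G on R by composition, base changed to G_0 =
G x_(U, pr_0) (U x_S U), makes R a pseudo G_0-torsor over U x_S U. Concretely: let α : G x_(U, t) R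
-> R x_(s, U, t) R be the morphism with components (γ viewed in R, r) and β : G x_(U, t) R -> R
x_(j, U x_S U, j) R the morphism with components (c ∘ α, r); then β is an isomorphism. (A groupoid
scheme carries U, R, s, t, c, e, i over S with the groupoid axioms on T-points; c is defined on the
fibre product of s and t and sends a pair (a, b) with s(a) = t(b) to a composed with b.) -/
theorem result (S : Scheme.{u}) (G : Grpd.GroupoidScheme S) (α : pullback G.stabilizerToU G.t ⟶ pullback G.s G.t) (hα₁ : α ≫ pullback.fst G.s G.t = pullback.fst G.stabilizerToU G.t ≫ pullback.fst G.j G.diag) (hα₂ : α ≫ pullback.snd G.s G.t = pullback.snd G.stabilizerToU G.t) (β : pullback G.stabilizerToU G.t ⟶ pullback G.j G.j) (hβ₁ : β ≫ pullback.fst G.j G.j = α ≫ G.c) (hβ₂ : β ≫ pullback.snd G.j G.j = pullback.snd G.stabilizerToU G.t) : IsIso β := by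
  open Groth.GrpdBasic in
  have hst : pullback.fst G.j G.diag ≫ G.t = pullback.snd G.j G.diag ∧
      pullback.fst G.j G.diag ≫ G.s = pullback.snd G.j G.diag := by
    have h := pullback.condition (f := G.j) (g := G.diag)
    constructor
    · have := congrArg (· ≫ pullback.fst G.pU G.pU) h
      simpa using this
    · have := congrArg (· ≫ pullback.snd G.pU G.pU) h
      simpa using this
  let x := pullback.fst G.j G.j
  let r := pullback.snd G.j G.j
  have hxr : x ≫ G.t = r ≫ G.t ∧ x ≫ G.s = r ≫ G.s := by
    have h := pullback.condition (f := G.j) (g := G.j)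
    constructor
    · have := congrArg (· ≫ pullback.fst G.pU G.pU) h
      simpa [x, r] using this
    · have := congrArg (· ≫ pullback.snd G.pU G.pU) h
      simpa [x, r] using this
  let γ := Groth.GrpdBasic.comp G x (r ≫ G.i) (by rw [Category.assoc, G.i_t]; exact hxr.2)
  have hγs : γ ≫ G.s = r ≫ G.t := by rw [Groth.GrpdBasic.comp_s, Category.assoc, G.i_s]
  have hγt : γ ≫ G.t = r ≫ G.t := by rw [Groth.GrpdBasic.comp_t]; exact hxr.1
  have hj : γ ≫ G.j = (r ≫ G.t) ≫ G.diag := by
    apply pullback.hom_ext
    · simp [hγt]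
    · simp [hγs]
  let q : pullback G.stabilizerToU G.t ⟶ pullback G.j G.diag := pullback.fst G.stabilizerToU G.t
  let ν : pullback G.j G.j ⟶ pullback G.stabilizerToU G.t :=
    pullback.lift (pullback.lift γ (r ≫ G.t) hj) r (pullback.lift_snd _ _ _)
  have hq : ν ≫ q = pullback.lift γ (r ≫ G.t) hj := pullback.lift_fst _ _ _
  have hq' : q ≫ pullback.snd G.j G.diag = pullback.snd G.stabilizerToU G.t ≫ G.t :=
    pullback.condition
  have hα₁' : α ≫ pullback.fst G.s G.t = q ≫ pullback.fst G.j G.diag := hα₁
  have hν1 : ν ≫ q ≫ pullback.fst G.j G.diag = γ := by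
    rw [← Category.assoc, hq]; exact pullback.lift_fst _ _ _
  have hν2 : ν ≫ pullback.snd G.stabilizerToU G.t = r := pullback.lift_snd _ _ _
  refine ⟨ν, ?_, ?_⟩
  · apply pullback.hom_ext
    · change (β ≫ ν) ≫ q = 𝟙 _ ≫ q
      rw [Category.assoc, Category.id_comp, hq]
      apply pullback.hom_ext
      · rw [Category.assoc, pullback.lift_fst, Groth.GrpdBasic.precomp_comp]
        refine Eq.trans ?_ ((Groth.GrpdBasic.comp_cancel_inv G (α ≫ pullback.fst G.s G.t) (α ≫ pullback.snd G.s G.t)
          (by simp [pullback.condition])).trans hα₁')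
        apply Groth.GrpdBasic.comp_congr
        · rw [hβ₁, Groth.GrpdBasic.comp_comp_c]
        · rw [← Category.assoc, hβ₂, hα₂]
      · rw [Category.assoc, pullback.lift_snd, ← Category.assoc, hβ₂, hq']
    · rw [Category.assoc, hν2, hβ₂, Category.id_comp]
  · apply pullback.hom_ext
    · rw [Category.assoc, hβ₁, Category.id_comp, Groth.GrpdBasic.comp_comp_c, Groth.GrpdBasic.precomp_comp]
      refine Eq.trans ?_ (Groth.GrpdBasic.comp_inv_cancel G x r (by rw [Category.assoc, G.i_t]; exact hxr.2))
      apply Groth.GrpdBasic.comp_congr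
      · rw [hα₁', hν1]
      · rw [hα₂, hν2]
    · rw [Category.assoc, hβ₂, hν2, Category.id_comp]

end Groth.Agent.S7500
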