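import Groth.Statements.S7502
import Groth.Agent.QCohMod.QCQS
import Groth.Agent.QCohMod.Coherent
import Groth.Agent.DescentBase.QCohFpqc
import Groth.Agent.SchemeMorphisms.PrinParts.FlatExact

set_option autoImplicit false
universe u
open CategoryTheory CategoryTheory.Limits AlgebraicGeometry
open Coh

namespace Groth.Agent.S7502

/-- Let f : Y -> X be a morphism of schemes which is quasi-compact, quasi-separated, flat and
surjective, with X and Y locally Noetherian. Let F be a quasi-coherent O_X-module, G a coherent
O_Y-module and φ : G -> f^*F an injective map of O_Y-modules. Then the O_X-module F ∩ f_*G, defined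
as the fibre product of the adjunction unit F -> f_*f^*F with f_*φ : f_*G -> f_*f^*F, is coherent.
('Coherent' is quasi-coherent of finite type, the usual notion on locally Noetherian schemes.) -/
theorem result {X Y : Scheme.{u}} (f : Y ⟶ X) [QuasiCompact f] [QuasiSeparated f] [Flat f] [Surjective f] [IsLocallyNoetherian X] [IsLocallyNoetherian Y] (F : X.Modules) (hF : Coh.IsQCoh F) (G : Y.Modules) (hG : Coh.IsCoh G) (φ : G ⟶ (Scheme.Modules.pullback f).obj F) [Mono φ] : Coh.IsCoh (Limits.pullback ((Scheme.Modules.pullbackPushforwardAdjunction f).unit.app F) ((Scheme.Modules.pushforward f).map φ)) := by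
  have : F.IsQuasicoherent := hF
  have : G.IsQuasicoherent := hG.1
  let adj := Scheme.Modules.pullbackPushforwardAdjunction f
  have : ((Scheme.Modules.pullback f).obj F).IsQuasicoherent := inferInstance
  have : ((Scheme.Modules.pushforward f).obj G).IsQuasicoherent :=
    Groth.QCohMod.isQCoh_pushforward G f
  have : ((Scheme.Modules.pushforward f).obj ((Scheme.Modules.pullback f).obj F)).IsQuasicoherent :=
    Groth.QCohMod.isQCoh_pushforward _ f
  let P := Limits.pullback (adj.unit.app F) ((Scheme.Modules.pushforward f).map φ)
  have : ((𝟭 X.Modules).obj F).IsQuasicoherent := hF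
  have : ((Scheme.Modules.pullback f ⋙ Scheme.Modules.pushforward f).obj F).IsQuasicoherent :=
    Groth.QCohMod.isQCoh_pushforward ((Scheme.Modules.pullback f).obj F) f
  have hP : P.IsQuasicoherent := Groth.QCohMod.isQCoh_pullback _ _
  refine ⟨hP, ?_⟩
  have : Mono ((Scheme.Modules.pushforward f).map φ) := inferInstance
  let a : P ⟶ F := pullback.fst _ _
  let b : P ⟶ (Scheme.Modules.pushforward f).obj G := pullback.snd _ _
  have : Mono a := inferInstanceAs (Mono (pullback.fst _ _))
  have : Mono ((Scheme.Modules.pullback f).map a) :=
    Groth.PrinPartsAux.mono_pullback_map f a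
  let c : (Scheme.Modules.pullback f).obj P ⟶ G := (adj.homEquiv _ _).symm b
  have hc : c ≫ φ = (Scheme.Modules.pullback f).map a := by
    rw [← Adjunction.homEquiv_naturality_right_symm, show b ≫ (Scheme.Modules.pushforward f).map φ =
      a ≫ adj.unit.app F from pullback.condition.symm, Equiv.symm_apply_eq, Adjunction.homEquiv_unit]
    exact adj.unit.naturality a
  have : Mono (c ≫ φ) := hc ▸ inferInstance
  have : Mono c := mono_of_mono c φ
  have : ((Scheme.Modules.pullback f).obj P).IsQuasicoherent := inferInstance
  exact Groth.DescentBase.QCohFpqc.isFT_of_pullback f P (Groth.QCohMod.isCoh_of_mono c hG).2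

end Groth.Agent.S7502
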