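import Groth.Statements.S7504
import Groth.Agent.GitQuot.GrpdShear

set_option autoImplicit false
set_option backward.isDefEq.respectTransparency.types false
universe u
open CategoryTheory CategoryTheory.Limits AlgebraicGeometry
open Grpd

namespace Groth.Agent.S7504

open Groth.GrpdBasic

theorem preimage_le {S : Scheme.{u}} (G : Grpd.GroupoidScheme S) (Q : MorphismProperty Scheme.{u})
    [Q.IsStableUnderBaseChange] [Q.IsStableUnderComposition]
    (hQI : ∀ {A B : Scheme.{u}} (f : A ⟶ B), IsOpenImmersion f → Q f)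
    (hQO : ∀ {A B : Scheme.{u}} (f : A ⟶ B), Q f → UniversallyOpen f)
    (P : MorphismProperty Scheme.{u}) [P.IsLocalAtTarget (Scheme.precoverage Q)]
    (hs : Q G.s) (ht : Q G.t) (hts : Function.Surjective G.t)
    (W : G.U.Opens) (hW : P (G.s ∣_ W)) (hmax : ∀ W' : G.U.Opens, P (G.s ∣_ W') → W' ≤ W) :
    G.t ⁻¹ᵁ W ≤ G.s ⁻¹ᵁ W := by
  let O : G.R.Opens := G.t ⁻¹ᵁ W
  have := hQO G.s hs
  let W'' : G.U.Opens := ⟨G.s '' (O : Set G.R), G.s.isOpenMap _ O.2⟩
  have hOW : O ≤ G.s ⁻¹ᵁ W'' := fun r hr => ⟨r, hr, rfl⟩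
  suffices h : P (G.s ∣_ W'') from hOW.trans (fun r hr => hmax W'' h hr)
  let σ := pullback.snd G.s G.t
  have hsq := (isPullback_morphismRestrict σ O).flip
  -- restriction of `s` along `t`
  have h₁ : IsPullback ((σ ⁻¹ᵁ O).ι ≫ pullback.fst G.s G.t) (σ ∣_ O) G.s ((G.t ∣_ W) ≫ W.ι) := by
    rw [morphismRestrict_ι]
    exact hsq.paste_horiz (IsPullback.of_hasPullback G.s G.t)
  have h₁' := IsPullback.of_right' h₁ (isPullback_morphismRestrict G.s W).flip
  -- restriction of `s` along `s`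
  let g := G.s.resLE W'' O hOW
  have h₂ : IsPullback ((σ ⁻¹ᵁ O).ι ≫ G.c) (σ ∣_ O) G.s (g ≫ W''.ι) := by
    rw [Scheme.Hom.resLE_comp_ι]
    exact hsq.paste_horiz (isPullback_c_snd G)
  have h₂' := IsPullback.of_right' h₂ (isPullback_morphismRestrict G.s W'').flip
  have hcov₁ : Presieve.singleton (G.t ∣_ W) ∈ Scheme.precoverage Q W := by
    rw [Scheme.singleton_mem_precoverage_iff]
    refine ⟨fun w => ?_, Q.of_isPullback (isPullback_morphismRestrict G.t W).flip ht⟩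
    obtain ⟨r, hr⟩ := hts w.1
    exact ⟨⟨r, show G.t r ∈ W from hr ▸ w.2⟩, Subtype.ext ((morphismRestrict_base_coe _ _ _).trans hr)⟩
  have hcov₂ : Presieve.singleton g ∈ Scheme.precoverage Q W'' := by
    rw [Scheme.singleton_mem_precoverage_iff]
    refine ⟨fun w => ?_, ?_⟩
    · obtain ⟨r, hr, hrw⟩ := w.2
      refine ⟨⟨r, hr⟩, Subtype.ext ?_⟩
      have h : (g ≫ W''.ι) ⟨r, hr⟩ = (O.ι ≫ G.s) ⟨r, hr⟩ := by rw [G.s.resLE_comp_ι hOW]
      exact h.trans hrw
    · exact Q.comp_mem _ _ (hQI _ inferInstance)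
        (Q.of_isPullback (isPullback_morphismRestrict G.s W'').flip hs)
  have hσ : P (σ ∣_ O) := by
    have := h₁'.hasPullback
    rw [← P.cancel_left_of_respectsIso h₁'.isoPullback.inv, h₁'.isoPullback_inv_snd]
    exact MorphismProperty.IsLocalAtTarget.pullbackSnd hcov₁ ⟨⟩ hW
  refine MorphismProperty.IsLocalAtTarget.of_forall_pullbackSnd hcov₂ ?_
  rintro U g' _ ⟨⟩
  rw [← P.cancel_left_of_respectsIso h₂'.isoPullback.hom, h₂'.isoPullback_hom_snd]
  exact hσ

theorem preimage_eq {S : Scheme.{u}} (G : Grpd.GroupoidScheme S) (Q : MorphismProperty Scheme.{u})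
    [Q.IsStableUnderBaseChange] [Q.IsStableUnderComposition]
    (hQI : ∀ {A B : Scheme.{u}} (f : A ⟶ B), IsOpenImmersion f → Q f)
    (hQO : ∀ {A B : Scheme.{u}} (f : A ⟶ B), Q f → UniversallyOpen f)
    (K : Precoverage Scheme.{u}) (hK : K = Scheme.precoverage Q)
    (P : MorphismProperty Scheme.{u}) [hP : P.IsLocalAtTarget K]
    (hs : Presieve.singleton G.s ∈ K G.U) (ht : Presieve.singleton G.t ∈ K G.U)
    (W : G.U.Opens) (hW : P (G.s ∣_ W)) (hmax : ∀ W' : G.U.Opens, P (G.s ∣_ W') → W' ≤ W) :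
    G.s ⁻¹ᵁ W = G.t ⁻¹ᵁ W := by
  subst hK
  rw [Scheme.singleton_mem_precoverage_iff] at hs ht
  have hle := preimage_le G Q hQI hQO P hs.2 ht.2 ht.1 W hW hmax
  refine le_antisymm ?_ hle
  intro r hr
  have h1 : G.i r ∈ G.s ⁻¹ᵁ W := hle (show G.t (G.i r) ∈ W by
    rw [← Scheme.Hom.comp_apply, G.i_t]; exact hr)
  show G.t r ∈ W
  rw [← G.i_s, Scheme.Hom.comp_apply]
  exact h1

theorem result (S : Scheme.{u}) (G : Grpd.GroupoidScheme S) (K : Precoverage Scheme.{u}) (hK : K = Scheme.zariskiPrecoverage ∨ K = Scheme.etalePrecoverage ∨ K = Scheme.precoverage @Smooth ∨ K = Scheme.fppfPrecoverage) (P : MorphismProperty Scheme.{u}) [P.IsLocalAtTarget K] (hs : Presieve.singleton G.s ∈ K G.U) (ht : Presieve.singleton G.t ∈ K G.U) (W : G.U.Opens) (hW : P (G.s ∣_ W)) (hmax : ∀ W' : G.U.Opens, P (G.s ∣_ W') → W' ≤ W) : G.s ⁻¹ᵁ W = G.t ⁻¹ᵁ W := by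
  rcases hK with h | h | h | h
  · exact preimage_eq G @IsOpenImmersion (fun _ h => h) (fun _ _ => inferInstance) K h P hs ht W hW hmax
  · exact preimage_eq G @Etale (fun _ _ => inferInstance) (fun _ _ => inferInstance) K h P hs ht W hW hmax
  · exact preimage_eq G @Smooth (fun _ _ => inferInstance) (fun _ _ => inferInstance) K h P hs ht W hW hmax
  · exact preimage_eq G (@Flat ⊓ @LocallyOfFinitePresentation) (fun f _ => ⟨inferInstance, inferInstance⟩)
      (fun f h => by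
        obtain ⟨h1, h2⟩ := h
        exact UniversallyOpen.of_flat f) K h P hs ht W hW hmax

end Groth.Agent.S7504
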