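import Groth.Statements.S7505
import Groth.Agent.GitQuot.GrpdShear

set_option autoImplicit false
set_option backward.isDefEq.respectTransparency.types false
universe u
open CategoryTheory CategoryTheory.Limits AlgebraicGeometry
open Grpd

noncomputable section

namespace Groth.Agent.S7505

open Groth.GrpdBasic

variable {S : Scheme.{u}} (G : Grpd.GroupoidScheme S) {T : Scheme.{u}}

/-- A loop as a point of the stabilizer. -/
def mkStab (α : T ⟶ G.R) (u : T ⟶ G.U) (hs : α ≫ G.s = u) (ht : α ≫ G.t = u) : T ⟶ G.stabilizer :=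
  pullback.lift α u (by
    apply pullback.hom_ext
    · rw [Category.assoc, Category.assoc, j_fst, diag_fst, Category.comp_id, ht]
    · rw [Category.assoc, Category.assoc, j_snd, diag_snd, Category.comp_id, hs])

theorem mkStab_fst (α : T ⟶ G.R) (u : T ⟶ G.U) (hs : α ≫ G.s = u) (ht : α ≫ G.t = u) :
    mkStab G α u hs ht ≫ pullback.fst G.j G.diag = α := pullback.lift_fst _ _ _

theorem mkStab_toU (α : T ⟶ G.R) (u : T ⟶ G.U) (hs : α ≫ G.s = u) (ht : α ≫ G.t = u) :
    mkStab G α u hs ht ≫ G.stabilizerToU = u := pullback.lift_snd _ _ _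

/-- The arrow underlying a point of the stabilizer. -/
def arr : G.stabilizer ⟶ G.R := pullback.fst G.j G.diag

theorem arr_t : arr G ≫ G.t = G.stabilizerToU := by
  have := congrArg (fun z => z ≫ pullback.fst G.pU G.pU)
    (pullback.condition : pullback.fst G.j G.diag ≫ G.j = _)
  simp only [Category.assoc, j_fst, diag_fst, Category.comp_id] at this
  exact this

theorem arr_s : arr G ≫ G.s = G.stabilizerToU := by
  have := congrArg (fun z => z ≫ pullback.snd G.pU G.pU)
    (pullback.condition : pullback.fst G.j G.diag ≫ G.j = _)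
  simp only [Category.assoc, j_snd, diag_snd, Category.comp_id] at this
  exact this

abbrev gT : pullback G.stabilizerToU G.t ⟶ G.R := pullback.fst G.stabilizerToU G.t ≫ arr G
abbrev rT : pullback G.stabilizerToU G.t ⟶ G.R := pullback.snd G.stabilizerToU G.t
abbrev gS : pullback G.stabilizerToU G.s ⟶ G.R := pullback.fst G.stabilizerToU G.s ≫ arr G
abbrev rS : pullback G.stabilizerToU G.s ⟶ G.R := pullback.snd G.stabilizerToU G.s

theorem gT_s : gT G ≫ G.s = rT G ≫ G.t := by rw [Category.assoc, arr_s]; exact pullback.condition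
theorem gT_t : gT G ≫ G.t = rT G ≫ G.t := by rw [Category.assoc, arr_t]; exact pullback.condition
theorem gS_s : gS G ≫ G.s = rS G ≫ G.s := by rw [Category.assoc, arr_s]; exact pullback.condition
theorem gS_t : gS G ≫ G.t = rS G ≫ G.s := by rw [Category.assoc, arr_t]; exact pullback.condition

/-- Conjugation of loops at the target to loops at the source. -/
def conj : pullback G.stabilizerToU G.t ⟶ pullback G.stabilizerToU G.s :=
  pullback.lift
    (mkStab G (comp G (rT G ≫ G.i) (comp G (gT G) (rT G) (gT_s G))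
        (by rw [comp_t, gT_t, Category.assoc, G.i_s]))
      (rT G ≫ G.s) (by rw [comp_s, comp_s]) (by rw [comp_t, Category.assoc, G.i_t]))
    (rT G) (mkStab_toU G _ _ _ _)

/-- Conjugation of loops at the source to loops at the target. -/
def conjInv : pullback G.stabilizerToU G.s ⟶ pullback G.stabilizerToU G.t :=
  pullback.lift
    (mkStab G (comp G (rS G) (comp G (gS G) (rS G ≫ G.i) (by rw [gS_s, Category.assoc, G.i_t]))
        (by rw [comp_t, gS_t]))
      (rS G ≫ G.t) (by rw [comp_s, comp_s, Category.assoc, G.i_s]) (by rw [comp_t]))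
    (rS G) (mkStab_toU G _ _ _ _)

theorem stab_ext {a b : T ⟶ G.stabilizer} (h : a ≫ arr G = b ≫ arr G) : a = b := by
  apply pullback.hom_ext
  · exact h
  · show a ≫ G.stabilizerToU = b ≫ G.stabilizerToU
    rw [← arr_s, ← Category.assoc, h, Category.assoc]

theorem conj_conjInv : conj G ≫ conjInv G = 𝟙 _ := by
  have h1 : conj G ≫ rS G = rT G := pullback.lift_snd _ _ _
  have h2 : conj G ≫ gS G = comp G (rT G ≫ G.i) (comp G (gT G) (rT G) (gT_s G))
      (by rw [comp_t, gT_t, Category.assoc, G.i_s]) := by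
    rw [conj, gS, ← Category.assoc, pullback.lift_fst]; exact mkStab_fst G _ _ _ _
  apply pullback.hom_ext
  · apply stab_ext
    rw [Category.assoc, Category.assoc, Category.id_comp, conjInv, pullback.lift_fst_assoc,
      show ∀ (α : pullback G.stabilizerToU G.s ⟶ G.R) u hs ht, mkStab G α u hs ht ≫ arr G = α from
        fun α u hs ht => mkStab_fst G α u hs ht, precomp_comp]
    refine Eq.trans (comp_congr G _ h1 ?_) (comp_inv_comp_cancel G (rT G) (gT G)
      (by rw [Category.assoc, Category.assoc, G.i_s]; exact (gT_t G).symm.trans (Category.assoc _ _ _)))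
    rw [precomp_comp]
    refine Eq.trans (comp_congr G _ h2 (by rw [← Category.assoc, h1])) ?_
    refine Eq.trans (comp_assoc G (rT G ≫ G.i) (comp G (gT G) (rT G) (gT_s G)) (rT G ≫ G.i)
      (by rw [comp_t, gT_t, Category.assoc, G.i_s]) (by rw [comp_s, Category.assoc, G.i_t])) ?_
    exact comp_congr G _ rfl (comp_cancel_inv G (gT G) (rT G) (gT_s G))
  · rw [Category.assoc, conjInv, pullback.lift_snd, Category.id_comp]
    exact h1

theorem conjInv_conj : conjInv G ≫ conj G = 𝟙 _ := by
  have h1 : conjInv G ≫ rT G = rS G := pullback.lift_snd _ _ _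
  have h2 : conjInv G ≫ gT G =
      comp G (rS G) (comp G (gS G) (rS G ≫ G.i) (by rw [gS_s, Category.assoc, G.i_t]))
        (by rw [comp_t, gS_t]) := by
    rw [conjInv, gT, ← Category.assoc, pullback.lift_fst]; exact mkStab_fst G _ _ _ _
  apply pullback.hom_ext
  · apply stab_ext
    rw [Category.assoc, Category.assoc, Category.id_comp, conj, pullback.lift_fst_assoc,
      show ∀ (α : pullback G.stabilizerToU G.t ⟶ G.R) u hs ht, mkStab G α u hs ht ≫ arr G = α from
        fun α u hs ht => mkStab_fst G α u hs ht, precomp_comp]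
    refine Eq.trans (comp_congr G _ (show _ = rS G ≫ G.i by rw [← Category.assoc, h1]) ?_)
      (inv_comp_cancel G (rS G) (gS G) (gS_t G).symm)
    rw [precomp_comp]
    refine Eq.trans (comp_congr G _ h2 h1) ?_
    refine Eq.trans (comp_assoc G (rS G) (comp G (gS G) (rS G ≫ G.i) (by rw [gS_s, Category.assoc, G.i_t]))
      (rS G) (by rw [comp_t, gS_t]) (by rw [comp_s, Category.assoc, G.i_s])) ?_
    exact comp_congr G _ rfl (comp_inv_cancel G (gS G) (rS G) (by rw [gS_s, Category.assoc, G.i_t]))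
  · rw [Category.assoc, conj, pullback.lift_snd, Category.id_comp]
    exact h1

theorem isPullback_conj : IsPullback (conj G ≫ pullback.fst G.stabilizerToU G.s)
    (pullback.snd G.stabilizerToU G.t) G.stabilizerToU G.s :=
  IsPullback.of_iso_pullback
    ⟨by rw [Category.assoc, pullback.condition, ← Category.assoc, conj, pullback.lift_snd]⟩
    ⟨conj G, conjInv G, conj_conjInv G, conjInv_conj G⟩ rfl (pullback.lift_snd _ _ _)

theorem preimage_le (Q : MorphismProperty Scheme.{u})
    [Q.IsStableUnderBaseChange] [Q.IsStableUnderComposition]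
    (hQI : ∀ {A B : Scheme.{u}} (f : A ⟶ B), IsOpenImmersion f → Q f)
    (hQO : ∀ {A B : Scheme.{u}} (f : A ⟶ B), Q f → UniversallyOpen f)
    (P : MorphismProperty Scheme.{u}) [P.IsLocalAtTarget (Scheme.precoverage Q)]
    (hs : Q G.s) (ht : Q G.t) (hts : Function.Surjective G.t)
    (W : G.U.Opens) (hW : P (G.stabilizerToU ∣_ W))
    (hmax : ∀ W' : G.U.Opens, P (G.stabilizerToU ∣_ W') → W' ≤ W) :
    G.t ⁻¹ᵁ W ≤ G.s ⁻¹ᵁ W := by
  let O : G.R.Opens := G.t ⁻¹ᵁ W
  have := hQO G.s hs
  let W'' : G.U.Opens := ⟨G.s '' (O : Set G.R), G.s.isOpenMap _ O.2⟩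
  have hOW : O ≤ G.s ⁻¹ᵁ W'' := fun r hr => ⟨r, hr, rfl⟩
  suffices h : P (G.stabilizerToU ∣_ W'') from hOW.trans (fun r hr => hmax W'' h hr)
  let σ := pullback.snd G.stabilizerToU G.t
  have hsq := (isPullback_morphismRestrict σ O).flip
  have h₁ : IsPullback ((σ ⁻¹ᵁ O).ι ≫ pullback.fst G.stabilizerToU G.t) (σ ∣_ O) G.stabilizerToU
      ((G.t ∣_ W) ≫ W.ι) := by
    rw [morphismRestrict_ι]
    exact hsq.paste_horiz (IsPullback.of_hasPullback G.stabilizerToU G.t)
  have h₁' := IsPullback.of_right' h₁ (isPullback_morphismRestrict G.stabilizerToU W).flip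
  let g := G.s.resLE W'' O hOW
  have h₂ : IsPullback ((σ ⁻¹ᵁ O).ι ≫ conj G ≫ pullback.fst G.stabilizerToU G.s) (σ ∣_ O)
      G.stabilizerToU (g ≫ W''.ι) := by
    rw [Scheme.Hom.resLE_comp_ι]
    exact hsq.paste_horiz (isPullback_conj G)
  have h₂' := IsPullback.of_right' h₂ (isPullback_morphismRestrict G.stabilizerToU W'').flip
  have hcov₁ : Presieve.singleton (G.t ∣_ W) ∈ Scheme.precoverage Q W := by
    rw [Scheme.singleton_mem_precoverage_iff]
    refine ⟨fun w => ?_, Q.of_isPullback (isPullback_morphismRestrict G.t W).flip ht⟩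
    obtain ⟨r, hr⟩ := hts w.1
    exact ⟨⟨r, show G.t r ∈ W from hr ▸ w.2⟩, Subtype.ext ((morphismRestrict_base_coe _ _ _).trans hr)⟩
  have hcov₂ : Presieve.singleton g ∈ Scheme.precoverage Q W'' := by
    rw [Scheme.singleton_mem_precoverage_iff]
    refine ⟨fun w => ?_, ?_⟩
    · obtain ⟨r, hr, hrw⟩ := w.2
      refine ⟨⟨r, hr⟩, Subtype.ext ?_⟩
      have h : (g ≫ W''.ι) ⟨r, hr⟩ = (O.ι ≫ G.s) ⟨r, hr⟩ := by rw [G.s.resLE_comp_ι hOW]
      exact h.trans hrw
    · exact Q.comp_mem _ _ (hQI _ inferInstance)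
        (Q.of_isPullback (isPullback_morphismRestrict G.s W'').flip hs)
  have hσ : P (σ ∣_ O) := by
    have := h₁'.hasPullback
    rw [← P.cancel_left_of_respectsIso h₁'.isoPullback.inv, h₁'.isoPullback_inv_snd]
    exact MorphismProperty.IsLocalAtTarget.pullbackSnd hcov₁ ⟨⟩ hW
  refine MorphismProperty.IsLocalAtTarget.of_forall_pullbackSnd hcov₂ ?_
  rintro U g' _ ⟨⟩
  rw [← P.cancel_left_of_respectsIso h₂'.isoPullback.hom, h₂'.isoPullback_hom_snd]
  exact hσ

theorem preimage_eq (Q : MorphismProperty Scheme.{u})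
    [Q.IsStableUnderBaseChange] [Q.IsStableUnderComposition]
    (hQI : ∀ {A B : Scheme.{u}} (f : A ⟶ B), IsOpenImmersion f → Q f)
    (hQO : ∀ {A B : Scheme.{u}} (f : A ⟶ B), Q f → UniversallyOpen f)
    (K : Precoverage Scheme.{u}) (hK : K = Scheme.precoverage Q)
    (P : MorphismProperty Scheme.{u}) [hP : P.IsLocalAtTarget K]
    (hs : Presieve.singleton G.s ∈ K G.U) (ht : Presieve.singleton G.t ∈ K G.U)
    (W : G.U.Opens) (hW : P (G.stabilizerToU ∣_ W))
    (hmax : ∀ W' : G.U.Opens, P (G.stabilizerToU ∣_ W') → W' ≤ W) :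
    G.s ⁻¹ᵁ W = G.t ⁻¹ᵁ W := by
  subst hK
  rw [Scheme.singleton_mem_precoverage_iff] at hs ht
  have hle := preimage_le G Q hQI hQO P hs.2 ht.2 ht.1 W hW hmax
  refine le_antisymm ?_ hle
  intro r hr
  have h1 : G.i r ∈ G.s ⁻¹ᵁ W := hle (show G.t (G.i r) ∈ W by
    rw [← Scheme.Hom.comp_apply, G.i_t]; exact hr)
  show G.t r ∈ W
  rw [← G.i_s, Scheme.Hom.comp_apply]
  exact h1

theorem result (S : Scheme.{u}) (G : Grpd.GroupoidScheme S) (K : Precoverage Scheme.{u}) (hK : K = Scheme.etalePrecoverage ∨ K = Scheme.precoverage @Smooth ∨ K = Scheme.fppfPrecoverage) (P : MorphismProperty Scheme.{u}) [P.IsLocalAtTarget K] (hs : Presieve.singleton G.s ∈ K G.U) (ht : Presieve.singleton G.t ∈ K G.U) (W : G.U.Opens) (hW : P (G.stabilizerToU ∣_ W)) (hmax : ∀ W' : G.U.Opens, P (G.stabilizerToU ∣_ W') → W' ≤ W) : G.s ⁻¹ᵁ W = G.t ⁻¹ᵁ W := by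
  rcases hK with h | h | h
  · exact preimage_eq G @Etale (fun _ _ => inferInstance) (fun _ _ => inferInstance) K h P hs ht W hW hmax
  · exact preimage_eq G @Smooth (fun _ _ => inferInstance) (fun _ _ => inferInstance) K h P hs ht W hW hmax
  · exact preimage_eq G (@Flat ⊓ @LocallyOfFinitePresentation) (fun f _ => ⟨inferInstance, inferInstance⟩)
      (fun f h => by
        obtain ⟨h1, h2⟩ := h
        exact UniversallyOpen.of_flat f) K h P hs ht W hW hmax

end Groth.Agent.S7505
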