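import Groth.Statements.S7510
import Groth.Agent.GitQuot.GrpdLocus

set_option autoImplicit false
universe u
open CategoryTheory CategoryTheory.Limits AlgebraicGeometry
open Grpd

namespace Groth.Agent.S7510

/-- Let (U, R, s, t, c, e, i) be a groupoid scheme over S and g : U' -> U a morphism; write h = s ∘ pr_1
: U' x_(g,U,t) R -> U. Let P, Q, R be properties of morphisms of schemes, with P invariant under
composition with isomorphisms, such that (1) R implies Q, (2) Q is stable under base change and
composition, (3) every morphism f : X -> Y with Q has a largest open W(P, f) of X on which the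
restriction of f has P (given here as a function W with these two properties), and (4) for f with Q
and a base change along Y' -> Y with R, the preimage of W(P, f) in X x_Y Y' is W(P, f') for the base
change f'. If s, t have R and g has Q, then there is an open W of U' whose preimage in U' x_(g,U,t)
R equals W(P, h). (The published statement speaks of arbitrary properties of morphisms; this row
asks P to be invariant under composition with isomorphisms, which the proof uses to identify the
largest opens on the two isomorphic fibre products of h with t and with s.) (A groupoid scheme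
carries U, R, s, t, c, e, i over S with the groupoid axioms on T-points; c is defined on the fibre
product of s and t and sends a pair (a, b) with s(a) = t(b) to a composed with b.) -/
theorem result (S : Scheme.{u}) (G : Grpd.GroupoidScheme S) {U' : Scheme.{u}} (g : U' ⟶ G.U) (P Q R : MorphismProperty Scheme.{u}) [P.RespectsIso] (hRQ : R ≤ Q) [Q.IsStableUnderBaseChange] [Q.IsStableUnderComposition] (W : ∀ {X Y : Scheme.{u}} (f : X ⟶ Y), Q f → X.Opens) (hWP : ∀ {X Y : Scheme.{u}} (f : X ⟶ Y) (hf : Q f), P ((W f hf).ι ≫ f)) (hWmax : ∀ {X Y : Scheme.{u}} (f : X ⟶ Y) (hf : Q f) (V : X.Opens), P (V.ι ≫ f) → V ≤ W f hf) (hWbc : ∀ {X Y Y' : Scheme.{u}} (f : X ⟶ Y) (hf : Q f) (b : Y' ⟶ Y), R b → ∀ hf' : Q (pullback.snd f b), pullback.fst f b ⁻¹ᵁ W f hf = W (pullback.snd f b) hf') (hs : R G.s) (ht : R G.t) (hg : Q g) (hh : Q (pullback.snd g G.t ≫ G.s)) : ∃ V : U'.Opens, pullback.fst g G.t ⁻¹ᵁ V = W (pullback.snd g G.t ≫ G.s) hh :=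
  Groth.GrpdLocus.exists_open P Q W hWP hWmax G g R hWbc hs ht hh

end Groth.Agent.S7510
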