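import Groth.Statements.S7514
import Mathlib

set_option autoImplicit false
universe u
open CategoryTheory CategoryTheory.Limits AlgebraicGeometry
open Grpd

namespace Groth.Agent.S7514

/-- Let S be a scheme, U a scheme over S and j : R -> U x_S U a pre-relation, with t = pr_0 ∘ j and s =
pr_1 ∘ j. Assume (1) s and t are unramified (formally unramified and locally of finite type), (2)
for every algebraically closed field k, the map from k-points of R to pairs of k-points of U is
injective with image an equivalence relation, and (3) there are morphisms e : U -> R, i : R -> R and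
c : R x_(s,U,t) R -> R such that j ∘ e is the diagonal, j ∘ i is j followed by the flip of the two
factors, and j ∘ c is pr_02 ∘ (j x j) (the arrow c(a, b) has target t(a) and source s(b)). Then j is
an equivalence relation: j is a monomorphism and, for every scheme T, the relation 'there is a
T-point r of R with t ∘ r = a and s ∘ r = b' on T-points a, b of U is an equivalence relation. -/
theorem result {S U R : Scheme.{u}} (pU : U ⟶ S) (j : R ⟶ pullback pU pU) [FormallyUnramified (j ≫ pullback.fst pU pU)] [LocallyOfFiniteType (j ≫ pullback.fst pU pU)] [FormallyUnramified (j ≫ pullback.snd pU pU)] [LocallyOfFiniteType (j ≫ pullback.snd pU pU)] (h₂ : ∀ (k : Type u) [Field k] [IsAlgClosed k], Function.Injective (fun r : Spec (CommRingCat.of k) ⟶ R => r ≫ j) ∧ Equivalence (fun a b : Spec (CommRingCat.of k) ⟶ U => ∃ r : Spec (CommRingCat.of k) ⟶ R, r ≫ j ≫ pullback.fst pU pU = a ∧ r ≫ j ≫ pullback.snd pU pU = b)) (e : U ⟶ R) (he : e ≫ j = pullback.lift (𝟙 U) (𝟙 U) rfl) (i : R ⟶ R) (hi : i ≫ j = j ≫ (pullbackSymmetry pU pU).hom) (c : pullback (j ≫ pullback.snd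 pU pU) (j ≫ pullback.fst pU pU) ⟶ R) (hc₁ : c ≫ j ≫ pullback.fst pU pU = pullback.fst (j ≫ pullback.snd pU pU) (j ≫ pullback.fst pU pU) ≫ j ≫ pullback.fst pU pU) (hc₂ : c ≫ j ≫ pullback.snd pU pU = pullback.snd (j ≫ pullback.snd pU pU) (j ≫ pullback.fst pU pU) ≫ j ≫ pullback.snd pU pU) : Mono j ∧ ∀ T : Scheme.{u}, Equivalence (fun a b : T ⟶ U => ∃ r : T ⟶ R, r ≫ j ≫ pullback.fst pU pU = a ∧ r ≫ j ≫ pullback.snd pU pU = b) := by
  refine ⟨?_, fun T => ⟨fun a => ⟨a ≫ e, ?_, ?_⟩, ?_, ?_⟩⟩
  · have : LocallyOfFiniteType j := locallyOfFiniteType_of_comp j (pullback.fst pU pU)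
    have : FormallyUnramified j := FormallyUnramified.of_comp j (pullback.fst pU pU)
    have : IsOpenImmersion (pullback.diagonal j) := inferInstance
    have : Surjective (pullback.diagonal j) := by
      refine ⟨fun z => ?_⟩
      let P := pullback j j
      let L := AlgebraicClosure (P.residueField z)
      let m : Spec (CommRingCat.of L) ⟶ P :=
        Spec.map (CommRingCat.ofHom (algebraMap (P.residueField z) L)) ≫ P.fromSpecResidueField z
      have hinj := (h₂ L).1
      have hr : m ≫ pullback.fst j j = m ≫ pullback.snd j j := by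
        apply hinj
        simp only [Category.assoc, pullback.condition]
      have hm : (m ≫ pullback.fst j j) ≫ pullback.diagonal j = m := by
        apply pullback.hom_ext
        · simp
        · simp [hr]
      refine ⟨(m ≫ pullback.fst j j) (IsLocalRing.closedPoint L), ?_⟩
      rw [← Scheme.Hom.comp_apply, hm]
      show (Spec.map _ ≫ P.fromSpecResidueField z) _ = z
      rw [Scheme.Hom.comp_apply]
      exact P.fromSpecResidueField_apply z _
    have : IsIso (pullback.diagonal j) :=
      (isIso_iff_isOpenImmersion_and_surjective _).2 ⟨inferInstance, inferInstance⟩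
    exact (pullback.isIso_diagonal_iff j).1 this
  · rw [← Category.assoc (a ≫ e) j, Category.assoc a e j, he, Category.assoc, pullback.lift_fst,
      Category.comp_id]
  · rw [← Category.assoc (a ≫ e) j, Category.assoc a e j, he, Category.assoc, pullback.lift_snd,
      Category.comp_id]
  · rintro a b ⟨r, rfl, rfl⟩
    refine ⟨r ≫ i, ?_, ?_⟩
    · rw [Category.assoc, ← Category.assoc i, hi, Category.assoc, pullbackSymmetry_hom_comp_fst]
    · rw [Category.assoc, ← Category.assoc i, hi, Category.assoc, pullbackSymmetry_hom_comp_snd]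
  · rintro a b d ⟨r, rfl, rfl⟩ ⟨r', h, rfl⟩
    refine ⟨pullback.lift r r' h.symm ≫ c, ?_, ?_⟩
    · rw [Category.assoc, hc₁, pullback.lift_fst_assoc]
    · rw [Category.assoc, hc₂, pullback.lift_snd_assoc]

end Groth.Agent.S7514
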