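import Groth.Statements.S7518
import Groth.Agent.Calg4.GrpdFieldEquidim

set_option autoImplicit false
universe u
open CategoryTheory CategoryTheory.Limits AlgebraicGeometry
open Grpd

namespace Groth.Agent.S7518

/-- Let (U, R, s, t, c) be a groupoid scheme over S with U the spectrum of a field and s, t locally of
finite type. Then R is equidimensional: every irreducible component of R has Krull dimension equal
to dim R; and for every point r of R the local dimension of R at r (the infimum of the dimensions of
open neighbourhoods) equals dim R. (The equality of the transcendence degrees of κ(r) over s(k) and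
over t(k), and the dimension of the local rings at closed points, are not stated here.) (A groupoid
scheme carries U, R, s, t, c, e, i over S with the groupoid axioms on T-points; c is defined on the
fibre product of s and t and sends a pair (a, b) with s(a) = t(b) to a composed with b.) -/
theorem result (S : Scheme.{u}) (G : Grpd.GroupoidScheme S) (k : Type u) [Field k] (eU : G.U ≅ Spec (CommRingCat.of k)) [LocallyOfFiniteType G.s] [LocallyOfFiniteType G.t] : (∀ Z ∈ irreducibleComponents ↥G.R, topologicalKrullDim ↥Z = topologicalKrullDim ↥G.R) ∧ ∀ r : G.R, FlatMor.localDim ↥G.R r = topologicalKrullDim ↥G.R := by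
  have hU : Subsingleton G.U := (Scheme.homeoOfIso eU).injective.subsingleton
  have hloc : ∀ r : G.R, FlatMor.localDim ↥G.R r = topologicalKrullDim ↥G.R := by
    intro r
    refine le_antisymm (Groth.SpectralTopology.localDim_le_dim r) ?_
    rw [Groth.Variety2.Dim.dim_eq_iSup_height]
    refine iSup_le fun z => ?_
    obtain ⟨ζ, hzζ, hζ⟩ := Groth.GrpschAbsch.exists_isMax_ge z
    refine le_trans (WithBot.coe_le_coe.2 (Order.height_mono hzζ)) (le_of_eq ?_)
    rw [← Groth.FibreDim.localDim_eq_height_of_isMax (k := k) (G.s ≫ eU.hom) hζ,
      Groth.Calg4.GrpdDim.localDim_eq_localDim_e G eU ζ, Groth.Calg4.GrpdDim.localDim_eq_localDim_e G eU r,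
      Subsingleton.elim (G.t ζ) (G.t r)]
  refine ⟨fun Z hZ => ?_, hloc⟩
  obtain ⟨η, hη⟩ := QuasiSober.sober hZ.1 (isClosed_of_mem_irreducibleComponents Z hZ)
  rw [← hη.def, Groth.Variety2.Dim.dim_closure_singleton,
    ← Groth.FibreDim.localDim_eq_height_of_isMax (k := k) (G.s ≫ eU.hom)
      (Groth.FibreDim.isMax_of_mem_genericPoints (hη.def.symm ▸ hZ)), hloc]

end Groth.Agent.S7518
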