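import Groth.Statements.S7521
import Groth.Agent.Pi1Desc.FiniteFlat
import Groth.Agent.Pi1Ample.FiniteAffine

set_option autoImplicit false
open CategoryTheory CategoryTheory.Limits AlgebraicGeometry
universe u
open Desc

namespace Groth.Agent.S7521

/-- Let p : X -> Y be a surjective finite locally free morphism and V a scheme over X which has an
invertible module ample relative to V -> X. Then every descent datum on V relative to p is
effective. (A quasi-projective morphism V -> X, in particular a projective one, carries such a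
module.) (Descent data are taken in functor-of-points form.) -/
theorem result {X Y : Scheme.{u}} (p : X ⟶ Y) [Surjective p] [IsFinite p] [Flat p] [LocallyOfFinitePresentation p] (D : Desc.SchDD p) (L : D.obj.left.Modules) (hL : RelAmple.IsRelAmple D.obj.hom L) : ∃ W : Over Y, Nonempty ((Desc.toDD p).obj W ≅ D) := by
  obtain ⟨U, q, -, h⟩ := Groth.Pi1Desc.exists_iso_of_eff D
    (Groth.Pi1Desc.Act.eff_of_finite _ fun y s hs => by
      obtain ⟨_, ⟨O, hO, rfl⟩, hyO, -⟩ :=
        Y.isBasis_affineOpens.exists_subset_of_mem_open (Set.mem_univ y) isOpen_univ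
      let T : D.obj.left.Opens := D.obj.hom ⁻¹ᵁ (p ⁻¹ᵁ O)
      obtain ⟨W, hW, hsW⟩ := Groth.PropsBasic.Ample.exists_affine_finite
        (hL.2 ⟨_, hO.preimage p⟩) (T.ι ⁻¹' (s : Set D.obj.left))
        (s.finite_toSet.preimage T.ι.isOpenEmbedding.injective.injOn)
      refine ⟨T.ι ''ᵁ W, hW.image_of_isOpenImmersion _, fun v hv => ?_⟩
      have hvT : v ∈ T := by
        change p (D.obj.hom v) ∈ O
        rw [hs v hv]; exact hyO
      exact ⟨⟨v, hvT⟩, hsW hv, rfl⟩)
  exact ⟨U, h⟩

end Groth.Agent.S7521
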