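import Groth.Statements.S7523
import Groth.Agent.SpectralTopology.Spectral

set_option autoImplicit false
universe u
open SpecSp

namespace Groth.Agent.S7523
open Groth.SpectralTopology Topology TopologicalSpace

/-- For a spectral map f : X → Y between spectral spaces, (1) f remains continuous once X and Y are both
given their constructible topologies, (2) every fibre of f is quasi-compact, and (3) f(X) is a
closed subset of Y for the constructible topology. -/
theorem result {X Y : Type u} [TopologicalSpace X] [TopologicalSpace Y]
    [SpectralSpace X] [SpectralSpace Y] (f : X → Y) (hf : IsSpectralMap f) :
    @Continuous X Y (constructibleTopology X) (constructibleTopology Y) f ∧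
    (∀ y : Y, IsCompact (f ⁻¹' {y})) ∧
    @IsClosed Y (constructibleTopology Y) (Set.range f) := by
  have hcont := continuous_ct hf
  refine ⟨hcont, fun y ↦ ?_, ?_⟩
  · have hy : IsClosed[constructibleTopology Y] ({y} : Set Y) :=
      @isClosed_singleton Y (constructibleTopology Y)
        (@T2Space.t1Space Y (constructibleTopology Y) t2Space_ct) y
    exact isCompact_of_isClosed_ct
      (@IsClosed.preimage X Y (constructibleTopology X) (constructibleTopology Y) f hcont _ hy)
  · exact @IsCompact.isClosed Y (constructibleTopology Y) t2Space_ct _
      (@isCompact_range X Y (constructibleTopology X) (constructibleTopology Y) compactSpace_ct f hcont)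

end Groth.Agent.S7523
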