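import Groth.Statements.S7527
import Groth.Agent.SpectralTopology.Spectral

set_option autoImplicit false
universe u
open SpecSp

namespace Groth.Agent.S7527
open Groth.SpectralTopology Topology TopologicalSpace

/-- Let X be a spectral space and x, y ∈ X. Then either there is a third point specializing to both x
and y, or there are disjoint open neighbourhoods of x and of y. -/
theorem result {X : Type u} [TopologicalSpace X] [SpectralSpace X] (x y : X) :
    (∃ z : X, z ⤳ x ∧ z ⤳ y) ∨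
    (∃ U V : Set X, IsOpen U ∧ IsOpen V ∧ x ∈ U ∧ y ∈ V ∧ Disjoint U V) := by
  classical
  refine or_iff_not_imp_right.2 fun hno ↦ ?_
  let ι := {U : Set X // IsOpen U ∧ IsCompact U ∧ (x ∈ U ∨ y ∈ U)}
  obtain ⟨z, hz⟩ := nonempty_iInter_ct (fun i : ι ↦ i.1) (fun i ↦ isClosed_ct i.2.1 i.2.2.1)
    (fun (u : Finset ι) ↦ by
      by_contra hne
      let A : Finset ι := u.filter fun i : ι ↦ x ∈ i.1
      let B : Finset ι := u.filter fun i : ι ↦ y ∈ i.1
      have hA : IsOpen (⋂ i ∈ A, (i : ι).1) := isOpen_biInter_finset fun (i : ι) _ ↦ i.2.1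
      have hB : IsOpen (⋂ i ∈ B, (i : ι).1) := isOpen_biInter_finset fun (i : ι) _ ↦ i.2.1
      refine hno ⟨_, _, hA, hB, ?_, ?_, Set.disjoint_left.2 fun w hwx hwy ↦ hne ⟨w, ?_⟩⟩
      · simp only [Set.mem_iInter]
        exact fun i hi ↦ (Finset.mem_filter.1 hi).2
      · simp only [Set.mem_iInter]
        exact fun i hi ↦ (Finset.mem_filter.1 hi).2
      · simp only [Set.mem_iInter] at hwx hwy ⊢
        intro i hi
        rcases i.2.2.2 with h | h
        · exact hwx i (Finset.mem_filter.2 ⟨hi, h⟩)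
        · exact hwy i (Finset.mem_filter.2 ⟨hi, h⟩))
  simp only [Set.mem_iInter] at hz
  have key : ∀ w : X, (w = x ∨ w = y) → z ⤳ w := fun w hw ↦ by
    refine specializes_iff_forall_open.2 fun V hV hmem ↦ ?_
    obtain ⟨U, ⟨hUo, hUc⟩, hxU, hUV⟩ :=
      PrespectralSpace.isTopologicalBasis.exists_subset_of_mem_open hmem hV
    rcases hw with rfl | rfl
    · exact hUV (hz ⟨U, hUo, hUc, Or.inl hxU⟩)
    · exact hUV (hz ⟨U, hUo, hUc, Or.inr hxU⟩)
  exact ⟨z, key x (Or.inl rfl), key y (Or.inr rfl)⟩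

end Groth.Agent.S7527
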