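import Groth.Statements.S7528
import Groth.Agent.SpectralTopology.Spectral

set_option autoImplicit false
universe u
open SpecSp

namespace Groth.Agent.S7528
open Groth.SpectralTopology Topology TopologicalSpace

/-- For a spectral space X the following are equivalent: (1) X is profinite, i.e. quasi-compact,
Hausdorff and totally disconnected (quasi-compactness being automatic); (2) X is Hausdorff; (3) X is
totally disconnected; (4) every quasi-compact open subset is closed; (5) there are no nontrivial
specializations between points; (6) every point is closed; (7) every point is the generic point of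
an irreducible component; (8) the constructible topology coincides with the topology of X. -/
theorem result (X : Type u) [tX : TopologicalSpace X] [SpectralSpace X] :
    List.TFAE [
      T2Space X ∧ TotallyDisconnectedSpace X,
      T2Space X,
      TotallyDisconnectedSpace X,
      ∀ U : Set X, IsOpen U → IsCompact U → IsClosed U,
      ∀ x y : X, x ⤳ y → x = y,
      ∀ x : X, IsClosed ({x} : Set X),
      ∀ x : X, closure ({x} : Set X) ∈ irreducibleComponents X,
      constructibleTopology X = tX] := by
  have h48 : (∀ U : Set X, IsOpen U → IsCompact U → IsClosed U) → constructibleTopology X = tX :=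
    fun h ↦ le_antisymm constructibleTopology_le (le_generateFrom (by
      rintro s (⟨ho, -⟩ | ⟨hc, hcc⟩)
      · exact ho
      · exact isClosed_compl_iff.1 (h _ hc.isOpen_compl hcc)))
  tfae_have 1 → 2 := fun h ↦ h.1
  tfae_have 1 → 3 := fun h ↦ h.2
  tfae_have 2 → 6 := fun h x ↦ isClosed_singleton
  tfae_have 3 → 6 := fun h x ↦ by
    rw [← totallyDisconnectedSpace_iff_connectedComponent_singleton.1 h x]
    exact isClosed_connectedComponent
  tfae_have 6 → 5 := fun h x y hxy ↦ by
    simpa [eq_comm] using (closure_minimal subset_rfl (h x) (specializes_iff_mem_closure.1 hxy))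
  tfae_have 5 → 4 := fun h U hUo hUc ↦ isClosed_of_isClosed_ct (isClosed_ct hUo hUc)
    fun a b hab ha ↦ h a b hab ▸ ha
  tfae_have 4 → 8 := h48
  tfae_have 8 → 1 := fun h ↦ by
    have h1 : @T2Space X (constructibleTopology X) := t2Space_ct
    have h2 := @TotallySeparatedSpace.totallyDisconnectedSpace X (constructibleTopology X)
      totallySeparatedSpace_ct
    rw [h] at h1 h2
    exact ⟨h1, h2⟩
  tfae_have 5 → 7 := fun h x ↦ by
    refine ⟨isIrreducible_singleton.closure, fun Z hZ hxZ ↦ ?_⟩
    have hη := (hZ.closure).isGenericPoint_genericPoint isClosed_closure
    have heq := h _ x (hη.specializes (subset_closure (hxZ (subset_closure rfl))))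
    rw [← heq, hη.def]
    exact subset_closure
  tfae_have 7 → 5 := fun h x y hxy ↦ by
    have hle : closure ({y} : Set X) ⊆ closure {x} :=
      closure_minimal (by simpa using specializes_iff_mem_closure.1 hxy) isClosed_closure
    have hge : closure ({x} : Set X) ⊆ closure {y} := (h y).2 isIrreducible_singleton.closure hle
    exact (hxy.antisymm (specializes_iff_mem_closure.2 (hge (subset_closure rfl)))).eq
  tfae_finish

end Groth.Agent.S7528
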