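import Groth.Statements.S7530
import Groth.Agent.SpectralTopology.Spectral

set_option autoImplicit false
universe u
open SpecSp

namespace Groth.Agent.S7530
open Groth.SpectralTopology Topology TopologicalSpace

/-- Let f : X → Y be a map of spectral spaces which is spectral and bijective, and assume that
generalizations lift along f or that specializations lift along f. Then f is a homeomorphism. -/
theorem result {X Y : Type u} [TopologicalSpace X] [TopologicalSpace Y]
    [SpectralSpace X] [SpectralSpace Y] (f : X → Y) (hf : IsSpectralMap f) (hb : Function.Bijective f)
    (hlift : GeneralizingMap f ∨ SpecializingMap f) :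
    IsHomeomorph f := by
  have himg : ∀ C : Set X, IsClosed C → IsClosed[constructibleTopology Y] (f '' C) := fun C hC ↦
    @IsCompact.isClosed Y (constructibleTopology Y) t2Space_ct _
      (@IsCompact.image X Y (constructibleTopology X) (constructibleTopology Y) _ f
        (isCompact_ct_of_isClosed_ct (isClosed_ct_of_isClosed hC)) (continuous_ct hf))
  refine ⟨hf.continuous, ?_, hb⟩
  rcases hlift with hg | hs
  · intro U hU
    refine isOpen_of_isOpen_ct ?_ (hg.stableUnderGeneralization_image hU.stableUnderGeneralization)
    have := himg Uᶜ hU.isClosed_compl
    rw [Set.image_compl_eq hb] at this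
    exact (@isClosed_compl_iff Y (constructibleTopology Y) _).1 this
  · intro U hU
    rw [← isClosed_compl_iff, ← Set.image_compl_eq hb]
    exact isClosed_of_isClosed_ct (himg _ hU.isClosed_compl)
      (hs.stableUnderSpecialization_image hU.isClosed_compl.stableUnderSpecialization)

end Groth.Agent.S7530
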