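import Groth.Statements.S7531
import Groth.Agent.SpectralTopology.SpectralLimit

set_option autoImplicit false
universe u
open CategoryTheory CategoryTheory.Limits
open SpecSp

namespace Groth.Agent.S7531
open Groth.SpectralTopology Topology

/-- Let J be a nonempty directed preordered set and let (X_j) be an inverse system of finite sober
topological spaces indexed by J (a functor from the opposite of J to topological spaces). Then any
limit of this system in the category of topological spaces is a spectral space. -/
theorem result {J : Type u} [Preorder J] [Nonempty J] [IsDirected J (· ≤ ·)]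
    (F : Jᵒᵖ ⥤ TopCat.{u})
    (hF : ∀ j : Jᵒᵖ, Finite (F.obj j) ∧ T0Space (F.obj j) ∧ QuasiSober (F.obj j))
    (c : Cone F) (hc : IsLimit c) :
    SpectralSpace c.pt := by
  classical
  have hF' : ∀ j : Jᵒᵖ, SpectralSpace (F.obj j) := fun j ↦ by
    have := (hF j).1
    have := (hF j).2.1
    have := (hF j).2.2
    have : TopologicalSpace.NoetherianSpace (F.obj j) :=
      TopologicalSpace.noetherianSpace_iff_isCompact.2 fun s ↦ s.toFinite.isCompact
    have : CompactSpace (F.obj j) := ⟨(Set.toFinite _).isCompact⟩
    have : QuasiSeparatedSpace (F.obj j) := ⟨fun U V _ _ _ _ ↦ (U ∩ V).toFinite.isCompact⟩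
    constructor
  have hFm : ∀ {i j : Jᵒᵖ} (a : i ⟶ j), IsSpectralMap (F.map a : F.obj i → F.obj j) := fun {i j} a ↦
    have := (hF i).1
    ⟨(F.map a).hom.continuous, fun s _ _ ↦ (Set.toFinite _).isCompact⟩
  exact spectralSpace_pt hFm hc

end Groth.Agent.S7531
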