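import Groth.Statements.S7532
import Groth.Agent.SpectralTopology.SpectralProd

set_option autoImplicit false
universe u
open SpecSp

namespace Groth.Agent.S7532
open Groth.SpectralTopology Topology TopologicalSpace

/-- Let W be the two-point space with one closed and one non-closed point (here the Sierpiński topology
on Prop). A topological space X is spectral exactly when, for some index type I, X admits a
topological embedding into the power W^I whose image is a closed set for the constructible topology
on W^I. -/
theorem result (X : Type u) [TopologicalSpace X] :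
    SpectralSpace X ↔ ∃ (I : Type u) (f : X → (I → Prop)),
      Topology.IsEmbedding f ∧ @IsClosed (I → Prop) (constructibleTopology (I → Prop)) (Set.range f) := by
  constructor
  · intro hX
    let I := {U : Set X // IsOpen U ∧ IsCompact U}
    let f : X → (I → Prop) := fun x U ↦ x ∈ U.1
    have hcont : Continuous f := continuous_pi fun U ↦ isOpen_iff_continuous_mem.1 U.2.1
    have hpre : ∀ F : Finset I, f ⁻¹' basicOpen F = ⋂ U ∈ F, (U : I).1 := fun F ↦ by
      ext x; simp [f, basicOpen]
    have hsp : IsSpectralMap f := ⟨hcont, fun W hWo hWc ↦ by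
      obtain ⟨s, hs, rfl⟩ := eq_finite_iUnion_of_isTopologicalBasis_of_isCompact_open _
        isTopologicalBasis_basicOpen W hWc hWo
      simp only [Set.preimage_iUnion]
      refine hs.isCompact_biUnion fun F _ ↦ ?_
      rw [hpre]
      exact isCompact_of_isClosed_ct (@isClosed_biInter X _ (constructibleTopology X) _ _
        fun U _ ↦ isClosed_ct U.2.1 U.2.2)⟩
    refine ⟨I, f, ⟨⟨le_antisymm hcont.le_induced ?_⟩, ?_⟩, ?_⟩
    · intro W hW
      obtain ⟨S, hS, rfl⟩ := PrespectralSpace.isTopologicalBasis.open_eq_sUnion hW
      refine @isOpen_sUnion X (TopologicalSpace.induced f inferInstance) _ fun U hU ↦ ?_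
      refine ⟨basicOpen {(⟨U, hS hU⟩ : I)}, isOpen_basicOpen _, ?_⟩
      rw [hpre]; simp
    · intro x y hxy
      refine (inseparable_iff_forall_isOpen.2 fun W hW ↦ ?_).eq
      constructor <;> intro h <;> obtain ⟨U, hU, hxU, hUW⟩ :=
        PrespectralSpace.isTopologicalBasis.exists_subset_of_mem_open h hW
      · exact hUW ((congrFun hxy ⟨U, hU⟩).mp hxU)
      · exact hUW ((congrFun hxy ⟨U, hU⟩).mpr hxU)
    · exact @IsCompact.isClosed _ (constructibleTopology (I → Prop)) t2Space_ct _
        (@isCompact_range X (I → Prop) (constructibleTopology X)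
          (constructibleTopology (I → Prop)) compactSpace_ct f (continuous_ct hsp))
  · rintro ⟨I, f, hf, hr⟩
    have hR : SpectralSpace (Set.range f) := spectralSpace_of_isClosed_ct hr
    have : CompactSpace X := hf.toHomeomorph.symm.compactSpace
    exact hf.toHomeomorph.isOpenEmbedding.spectralSpace

end Groth.Agent.S7532
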