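import Groth.Statements.S7536
import Groth.Agent.SpectralTopology.SpectralLimit

set_option autoImplicit false
universe u
open CategoryTheory CategoryTheory.Limits
open SpecSp

namespace Groth.Agent.S7536
open Groth.SpectralTopology Topology

/-- Let j ↦ X_j be a cofiltered diagram of spectral spaces with spectral transition maps and X its limit
with projections p_j. For every constructible E ⊆ X there are an object i and a constructible E_i ⊆
X_i with p_i⁻¹(E_i) = E; if E is open, resp. closed, then E_i may be chosen open, resp. closed. -/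
theorem result {J : Type u} [SmallCategory J] [IsCofiltered J] (F : J ⥤ TopCat.{u})
    (hF : ∀ j, SpectralSpace (F.obj j))
    (hFm : ∀ {i j : J} (a : i ⟶ j), IsSpectralMap (F.map a : F.obj i → F.obj j))
    (c : Cone F) (hc : IsLimit c)
    (E : Set c.pt) (hE : Topology.IsConstructible E) :
    (∃ (i : J) (Ei : Set (F.obj i)), Topology.IsConstructible Ei ∧ c.π.app i ⁻¹' Ei = E) ∧
    (IsOpen E → ∃ (i : J) (Ei : Set (F.obj i)), Topology.IsConstructible Ei ∧ IsOpen Ei ∧ c.π.app i ⁻¹' Ei = E) ∧
    (IsClosed E → ∃ (i : J) (Ei : Set (F.obj i)), Topology.IsConstructible Ei ∧ IsClosed Ei ∧ c.π.app i ⁻¹' Ei = E) := by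
  have := spectralSpace_pt hFm hc
  have hpre : ∀ {i j : J} (a : i ⟶ j) (A : Set (F.obj j)), IsConstructible A →
      IsConstructible (F.map a ⁻¹' A) := fun a A hA ↦
    hA.preimage (hFm a).continuous fun s ho hr ↦
      ((hFm a).isCompact_preimage_of_isOpen ho hr.isCompact).isRetrocompact
        (ho.preimage (hFm a).continuous)
  have hopen : ∀ U : Set c.pt, IsConstructible U → IsOpen U →
      ∃ (i : J) (Ui : Set (F.obj i)), IsConstructible Ui ∧ IsOpen Ui ∧ c.π.app i ⁻¹' Ui = U := by
    intro U hU ho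
    obtain ⟨i, Ui, h1, h2, h3⟩ := exists_cylinder_eq hFm hc ho
      (isCompact_of_isClosed_ct (isClopen_ct_of_isConstructible hU).1)
    exact ⟨i, Ui, h2.isConstructible h1, h1, h3⟩
  refine ⟨?_, hopen E hE, fun hcl ↦ ?_⟩
  · induction hE using IsConstructible.empty_union_induction with
    | open_retrocompact U ho hr =>
      obtain ⟨i, Ui, h1, -, h3⟩ := hopen U (hr.isConstructible ho) ho
      exact ⟨i, Ui, h1, h3⟩
    | union s _ t _ hs ht =>
      obtain ⟨i, A, hA, rfl⟩ := hs
      obtain ⟨j, B, hB, rfl⟩ := ht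
      refine ⟨IsCofiltered.min i j, F.map (IsCofiltered.minToLeft i j) ⁻¹' A ∪
        F.map (IsCofiltered.minToRight i j) ⁻¹' B, (hpre _ A hA).union (hpre _ B hB), ?_⟩
      ext p
      simp [map_π_app c]
    | compl s _ hs =>
      obtain ⟨i, A, hA, rfl⟩ := hs
      exact ⟨i, Aᶜ, hA.compl, rfl⟩
  · obtain ⟨i, A, hA, hAo, hAE⟩ := hopen Eᶜ hE.compl hcl.isOpen_compl
    exact ⟨i, Aᶜ, hA.compl, hAo.isClosed_compl, by rw [Set.preimage_compl, hAE, compl_compl]⟩

end Groth.Agent.S7536
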