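import Groth.Statements.S7538
import Groth.Agent.SpectralTopology.SpectralLimit

set_option autoImplicit false
universe u
open CategoryTheory CategoryTheory.Limits
open SpecSp

namespace Groth.Agent.S7538
open Groth.SpectralTopology Topology

/-- Let j ↦ X_j be a cofiltered diagram of spectral spaces with spectral transition maps f_a and X its
limit with projections p_j. (1) Any quasi-compact open U ⊆ X is p_i⁻¹(U_i) for some i and some
quasi-compact open U_i ⊆ X_i. (2) If U_i ⊆ X_i and U_j ⊆ X_j are quasi-compact opens with p_i⁻¹(U_i)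
⊆ p_j⁻¹(U_j), there are k and a : k → i, b : k → j with f_a⁻¹(U_i) ⊆ f_b⁻¹(U_j). (3) If U_i and
finitely many U_{l,i} are quasi-compact opens of X_i with p_i⁻¹(U_i) = ⋃_l p_i⁻¹(U_{l,i}), then
f_a⁻¹(U_i) = ⋃_l f_a⁻¹(U_{l,i}) for some a : j → i. (4) The same with intersections. -/
theorem result {J : Type u} [SmallCategory J] [IsCofiltered J] (F : J ⥤ TopCat.{u})
    (hF : ∀ j, SpectralSpace (F.obj j))
    (hFm : ∀ {i j : J} (a : i ⟶ j), IsSpectralMap (F.map a : F.obj i → F.obj j))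
    (c : Cone F) (hc : IsLimit c) :
    (∀ U : Set c.pt, IsOpen U → IsCompact U →
      ∃ (i : J) (Ui : Set (F.obj i)), IsOpen Ui ∧ IsCompact Ui ∧ c.π.app i ⁻¹' Ui = U) ∧
    (∀ (i j : J) (Ui : Set (F.obj i)) (Uj : Set (F.obj j)),
      IsOpen Ui → IsCompact Ui → IsOpen Uj → IsCompact Uj →
      c.π.app i ⁻¹' Ui ⊆ c.π.app j ⁻¹' Uj →
      ∃ (k : J) (a : k ⟶ i) (b : k ⟶ j), F.map a ⁻¹' Ui ⊆ F.map b ⁻¹' Uj) ∧
    (∀ (i : J) (n : ℕ) (Ui : Set (F.obj i)) (V : Fin n → Set (F.obj i)),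
      IsOpen Ui → IsCompact Ui → (∀ l, IsOpen (V l) ∧ IsCompact (V l)) →
      (c.π.app i ⁻¹' Ui = ⋃ l, c.π.app i ⁻¹' V l →
        ∃ (j : J) (a : j ⟶ i), F.map a ⁻¹' Ui = ⋃ l, F.map a ⁻¹' V l) ∧
      (c.π.app i ⁻¹' Ui = ⋂ l, c.π.app i ⁻¹' V l →
        ∃ (j : J) (a : j ⟶ i), F.map a ⁻¹' Ui = ⋂ l, F.map a ⁻¹' V l)) := by
  refine ⟨fun U ho hk ↦ exists_cylinder_eq hFm hc ho hk, ?_, ?_⟩
  · intro i j Ui Uj hUi hUic hUj hUjc hsub
    obtain ⟨k', a', h⟩ := (preimage_subset_iff hFm hc (i := IsCofiltered.min i j)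
      (E := F.map (IsCofiltered.minToLeft i j) ⁻¹' Ui) (F' := F.map (IsCofiltered.minToRight i j) ⁻¹' Uj)
      (@IsClosed.preimage _ _ (constructibleTopology _) (constructibleTopology _) _
        (continuous_ct (hFm _)) _ (isClosed_ct hUi hUic))
      (@IsOpen.preimage _ _ (constructibleTopology _) (constructibleTopology _) _
        (continuous_ct (hFm _)) _ (isOpen_ct hUj hUjc))).1 (fun p hp ↦ by
          simp only [Set.mem_preimage, map_π_app c] at hp ⊢
          exact hsub hp)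
    exact ⟨k', a' ≫ IsCofiltered.minToLeft i j, a' ≫ IsCofiltered.minToRight i j, fun z hz ↦ by
      simp only [Set.mem_preimage, Functor.map_comp, TopCat.comp_app] at hz ⊢
      exact h hz⟩
  · intro i n Ui V hUi hUic hV
    have hA : @IsClopen _ (constructibleTopology (F.obj i)) Ui :=
      ⟨isClosed_ct hUi hUic, isOpen_ct hUi hUic⟩
    have hB : ∀ l, @IsClopen _ (constructibleTopology (F.obj i)) (V l) := fun l ↦
      ⟨isClosed_ct (hV l).1 (hV l).2, isOpen_ct (hV l).1 (hV l).2⟩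
    constructor
    · intro h
      simpa only [Set.preimage_iUnion] using preimage_eq_of_isClopen hFm hc hA
        (@isClopen_iUnion_of_finite _ (constructibleTopology (F.obj i)) _ _ _ hB)
        (by rw [Set.preimage_iUnion]; exact h)
    · intro h
      simpa only [Set.preimage_iInter] using preimage_eq_of_isClopen hFm hc hA
        (@isClopen_iInter_of_finite _ (constructibleTopology (F.obj i)) _ _ _ hB)
        (by rw [Set.preimage_iInter]; exact h)

end Groth.Agent.S7538
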