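import Groth.Statements.S7539
import Groth.Agent.SpectralTopology.Spectral

set_option autoImplicit false
universe u
open SpecSp

namespace Groth.Agent.S7539
open Groth.SpectralTopology Topology TopologicalSpace

/-- For a subset W of a spectral space X, these five conditions coincide: (1) W can be written as an
intersection of constructible subsets and is stable under generalization; (2) W is quasi-compact and
stable under generalization; (3) for some quasi-compact E ⊆ X, W consists exactly of the points that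
specialize to a point of E; (4) W is the intersection of some family of quasi-compact opens; (5)
there are a nonempty index set I and quasi-compact opens U_i with W = ⋂ U_i such that for all i, j
some U_k is contained in U_i ∩ U_j. -/
theorem result {X : Type u} [TopologicalSpace X] [SpectralSpace X] (W : Set X) :
    List.TFAE [
      (∃ S : Set (Set X), (∀ s ∈ S, Topology.IsConstructible s) ∧ W = ⋂₀ S) ∧ StableUnderGeneralization W,
      IsCompact W ∧ StableUnderGeneralization W,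
      ∃ E : Set X, IsCompact E ∧ W = {x | ∃ e ∈ E, x ⤳ e},
      ∃ S : Set (Set X), (∀ s ∈ S, IsOpen s ∧ IsCompact s) ∧ W = ⋂₀ S,
      ∃ (I : Type u) (_ : Nonempty I) (U : I → Set X), (∀ i, IsOpen (U i) ∧ IsCompact (U i)) ∧
        W = ⋂ i, U i ∧ ∀ i j, ∃ k, U k ⊆ U i ∩ U j] := by
  classical
  tfae_have 1 → 2 := fun ⟨⟨S, hS, hW⟩, hg⟩ ↦ by
    refine ⟨?_, hg⟩
    rw [hW]
    exact isCompact_of_isClosed_ct (@isClosed_sInter X (constructibleTopology X) _
      fun s hs ↦ (isClopen_ct_of_isConstructible (hS s hs)).1)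
  tfae_have 2 → 3 := fun ⟨hc, hg⟩ ↦ ⟨W, hc, Set.ext fun x ↦
    ⟨fun hx ↦ ⟨x, hx, specializes_rfl⟩, fun ⟨e, he, hxe⟩ ↦ hg hxe he⟩⟩
  tfae_have 3 → 4 := fun ⟨E, hEc, hW⟩ ↦ by
    refine ⟨{U | IsOpen U ∧ IsCompact U ∧ E ⊆ U}, fun s hs ↦ ⟨hs.1, hs.2.1⟩, ?_⟩
    rw [hW]
    ext x
    refine ⟨fun ⟨e, he, hxe⟩ U hU ↦ hxe.mem_open hU.1 (hU.2.2 he), fun hx ↦ ?_⟩
    by_contra hne
    have key : ∀ e ∈ E, ∃ U : Set X, (IsOpen U ∧ IsCompact U) ∧ e ∈ U ∧ x ∉ U := fun e he ↦ by
      by_contra h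
      refine hne ⟨e, he, specializes_iff_forall_open.2 fun V hV heV ↦ ?_⟩
      obtain ⟨U, hU, heU, hUV⟩ :=
        PrespectralSpace.isTopologicalBasis.exists_subset_of_mem_open heV hV
      exact hUV (by_contra fun hxU ↦ h ⟨U, hU, heU, hxU⟩)
    choose! U hU heU hxU using key
    obtain ⟨σ, hσE, hσ⟩ := hEc.elim_nhds_subcover U fun e he ↦ (hU e he).1.mem_nhds (heU e he)
    obtain ⟨e, he, hxe⟩ := Set.mem_iUnion₂.1 (hx (⋃ e ∈ σ, U e)
      ⟨isOpen_biUnion fun e he ↦ (hU e (hσE e he)).1,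
        σ.finite_toSet.isCompact_biUnion fun e he ↦ (hU e (hσE e he)).2, hσ⟩)
    exact hxU e (hσE e he) hxe
  tfae_have 4 → 5 := fun ⟨S, hS, hW⟩ ↦ by
    refine ⟨Finset S, inferInstance, fun F ↦ ⋂ s ∈ F, (s : S).1, fun F ↦ ⟨?_, ?_⟩, ?_,
      fun F G ↦ ⟨F ∪ G, ?_⟩⟩
    · exact isOpen_biInter_finset fun s _ ↦ (hS s.1 s.2).1
    · exact isCompact_of_isClosed_ct (@isClosed_biInter X _ (constructibleTopology X) _ _
        fun s _ ↦ isClosed_ct (hS s.1 s.2).1 (hS s.1 s.2).2)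
    · rw [hW]
      ext x
      simp only [Set.mem_sInter, Set.mem_iInter]
      exact ⟨fun h F s _ ↦ h s.1 s.2, fun h s hs ↦ h {⟨s, hs⟩} ⟨s, hs⟩ (Finset.mem_singleton_self _)⟩
    · intro x hx
      simp only [Set.mem_iInter, Set.mem_inter_iff] at hx ⊢
      exact ⟨fun s hs ↦ hx s (Finset.mem_union_left _ hs),
        fun s hs ↦ hx s (Finset.mem_union_right _ hs)⟩
  tfae_have 5 → 1 := fun ⟨I, hI, U, hU, hW, _⟩ ↦ by
    refine ⟨⟨Set.range U, ?_, by rw [hW, Set.sInter_range]⟩, ?_⟩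
    · rintro _ ⟨i, rfl⟩
      exact (hU i).2.isConstructible (hU i).1
    · rw [hW]
      exact fun a b hba ha ↦ Set.mem_iInter.2 fun i ↦ hba.mem_open (hU i).1 (Set.mem_iInter.1 ha i)
  tfae_finish

end Groth.Agent.S7539
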