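import Groth.Statements.S7540
import Groth.Agent.SpectralTopology.Spectral

set_option autoImplicit false
universe u
open SpecSp

namespace Groth.Agent.S7540
open Groth.SpectralTopology Topology TopologicalSpace

/-- Let X be a spectral space, I a nonempty index set and U_i ⊆ X quasi-compact opens such that for all
i, j some U_k lies in U_i ∩ U_j; put W = ⋂ U_i. Then every open subset of X containing W contains
some U_i. The published statement also asserts that W is spectral and is the limit of the U_i; this
row states the neighbourhood property. -/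
theorem result {X : Type u} [TopologicalSpace X] [SpectralSpace X]
    {I : Type u} [Nonempty I] (U : I → Set X) (hU : ∀ i, IsOpen (U i) ∧ IsCompact (U i))
    (hdir : ∀ i j, ∃ k, U k ⊆ U i ∩ U j) :
    ∀ V : Set X, IsOpen V → (⋂ i, U i) ⊆ V → ∃ i, U i ⊆ V := by
  classical
  intro V hV hW
  by_contra hno
  have hne : ∀ i, (U i ∩ Vᶜ).Nonempty := fun i ↦ by
    by_contra h
    exact hno ⟨i, fun x hx ↦ by_contra fun hxV ↦ h ⟨x, hx, hxV⟩⟩
  obtain ⟨x, hx⟩ := nonempty_iInter_ct (fun i ↦ U i ∩ Vᶜ)
    (fun i ↦ @IsClosed.inter X _ _ (constructibleTopology X) (isClosed_ct (hU i).1 (hU i).2)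
      (isClosed_ct_of_isClosed hV.isClosed_compl))
    (fun u ↦ by
      suffices ∃ k, ∀ i ∈ u, U k ⊆ U i by
        obtain ⟨k, hk⟩ := this
        obtain ⟨y, hy, hyV⟩ := hne k
        exact ⟨y, Set.mem_iInter₂.2 fun i hi ↦ ⟨hk i hi hy, hyV⟩⟩
      induction u using Finset.induction_on with
      | empty => exact ⟨Classical.arbitrary I, by simp⟩
      | @insert a u _ ih =>
        obtain ⟨k, hk⟩ := ih
        obtain ⟨l, hl⟩ := hdir a k
        refine ⟨l, fun i hi ↦ ?_⟩
        rcases Finset.mem_insert.1 hi with rfl | hi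
        · exact fun y hy ↦ (hl hy).1
        · exact fun y hy ↦ hk i hi (hl hy).2)
  simp only [Set.mem_iInter] at hx
  exact (hx (Classical.arbitrary I)).2 (hW (Set.mem_iInter.2 fun i ↦ (hx i).1))

end Groth.Agent.S7540
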