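import Groth.Statements.S7541
import Groth.Agent.SpectralTopology.Spectral

set_option autoImplicit false
universe u
open SpecSp

namespace Groth.Agent.S7541
open Groth.SpectralTopology Topology TopologicalSpace

/-- Let X be a spectral space, E ⊆ X a constructible subset and W the set of points of X that specialize
to a point of E. Then the subspace W minus E is a spectral space. (The description of W minus E as a
limit of the U_i minus E is not recorded here.) -/
theorem result {X : Type u} [TopologicalSpace X] [SpectralSpace X]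
    (E : Set X) (hE : Topology.IsConstructible E) :
    SpectralSpace ↥({x : X | ∃ e ∈ E, x ⤳ e} \ E) := by
  have hE' := isClopen_ct_of_isConstructible hE
  refine spectralSpace_of_isClosed_ct ?_
  rw [Set.sdiff_eq]
  refine @IsClosed.inter X _ _ (constructibleTopology X) ?_
    ((@isClosed_compl_iff X (constructibleTopology X) _).2 hE'.2)
  have hEc : IsCompact E := isCompact_of_isClosed_ct hE'.1
  have hW : {x : X | ∃ e ∈ E, x ⤳ e} = ⋂₀ {U | IsOpen U ∧ IsCompact U ∧ E ⊆ U} := by
    ext x
    refine ⟨fun ⟨e, he, hxe⟩ U hU ↦ hxe.mem_open hU.1 (hU.2.2 he), fun hx ↦ ?_⟩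
    by_contra hne
    have key : ∀ e ∈ E, ∃ U : Set X, (IsOpen U ∧ IsCompact U) ∧ e ∈ U ∧ x ∉ U := fun e he ↦ by
      by_contra h
      refine hne ⟨e, he, specializes_iff_forall_open.2 fun V hV heV ↦ ?_⟩
      obtain ⟨U, hU, heU, hUV⟩ :=
        PrespectralSpace.isTopologicalBasis.exists_subset_of_mem_open heV hV
      exact hUV (by_contra fun hxU ↦ h ⟨U, hU, heU, hxU⟩)
    choose! U hU heU hxU using key
    obtain ⟨σ, hσE, hσ⟩ := hEc.elim_nhds_subcover U fun e he ↦ (hU e he).1.mem_nhds (heU e he)
    obtain ⟨e, he, hxe⟩ := Set.mem_iUnion₂.1 (hx (⋃ e ∈ σ, U e)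
      ⟨isOpen_biUnion fun e he ↦ (hU e (hσE e he)).1,
        σ.finite_toSet.isCompact_biUnion fun e he ↦ (hU e (hσE e he)).2, hσ⟩)
    exact hxU e (hσE e he) hxe
  rw [hW]
  exact @isClosed_sInter X (constructibleTopology X) _ fun U hU ↦ isClosed_ct hU.1 hU.2.1

end Groth.Agent.S7541
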