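import Groth.Statements.S7544
import Groth.Agent.SpectralTopology.Constructible

set_option autoImplicit false
universe u
open ConstrTop

namespace Groth.Agent.S7544
open Groth.SpectralTopology Topology

/-- Let X be a quasi-compact topological space whose quasi-compact opens form a basis and are closed
under pairwise intersection. Take T ⊆ X to be locally closed, quasi-compact, and with retrocompact
complement. Then T is constructible in X. -/
theorem result {X : Type u} [TopologicalSpace X]
    [CompactSpace X] [PrespectralSpace X] [QuasiSeparatedSpace X]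
    (T : Set X) (hT : IsLocallyClosed T) (hTc : IsCompact T) (hTr : IsRetrocompact Tᶜ) :
    Topology.IsConstructible T := by
  obtain ⟨W, C, hW, hC, rfl⟩ := hT
  obtain ⟨K, hKc, hKo, h1, h2⟩ :=
    PrespectralSpace.exists_isCompact_and_isOpen_between hTc hW Set.inter_subset_left
  have hKC : K \ (W ∩ C) = K \ C := by
    ext x
    exact ⟨fun h ↦ ⟨h.1, fun hxC ↦ h.2 ⟨h2 h.1, hxC⟩⟩, fun h ↦ ⟨h.1, fun hx ↦ h.2 hx.2⟩⟩
  have hcompl : IsCompact (K \ C) := by
    rw [← hKC, Set.sdiff_eq, Set.inter_comm]
    exact hTr hKc hKo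
  have heq : W ∩ C = K \ (K \ C) := by
    ext x
    refine ⟨fun hx ↦ ⟨h1 hx, fun h ↦ h.2 hx.2⟩, fun hx ↦ ⟨h2 hx.1, ?_⟩⟩
    by_contra hxC
    exact hx.2 ⟨hx.1, hxC⟩
  rw [heq]
  exact (hKc.isConstructible hKo).sdiff (hcompl.isConstructible (hKo.sdiff hC))

end Groth.Agent.S7544
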