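import Groth.Statements.S7548
-- import your own Groth.Agent.* helpers here

set_option autoImplicit false
universe u
open PtTop

namespace Groth.Agent.S7548

/-- Let X be a Jacobson space and let T = ⋃ T_i be a union of subsets T_i ⊆ X each locally closed in X
(open, closed, locally closed and constructible subsets are of this form). Then T is Jacobson and
every point of T closed in T is closed in X. -/
theorem result {X : Type u} [TopologicalSpace X] [JacobsonSpace X]
    {ι : Type u} (T : ι → Set X) (hT : ∀ i, IsLocallyClosed (T i)) :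
    JacobsonSpace ↥(⋃ i, T i) ∧
      closedPoints ↥(⋃ i, T i) ⊆ (Subtype.val : ↥(⋃ i, T i) → X) ⁻¹' closedPoints X := by
  refine ⟨?_, ?_⟩
  · rw [jacobsonSpace_iff_locallyClosed]
    rintro Z ⟨z, hz⟩ hZ
    obtain ⟨i, hi⟩ := Set.mem_iUnion.1 z.2
    obtain ⟨Z', hZ', rfl⟩ := (Topology.IsInducing.subtypeVal.isLocallyClosed_iff).1 hZ
    obtain ⟨x, ⟨hx1, hx2⟩, hx3⟩ :=
      nonempty_inter_closedPoints (Z := Z' ∩ T i) ⟨z.1, hz, hi⟩ (hZ'.inter (hT i))
    refine ⟨⟨x, Set.mem_iUnion.2 ⟨i, hx2⟩⟩, hx1, ?_⟩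
    exact preimage_closedPoints_subset Subtype.val_injective continuous_subtype_val hx3
  · intro x hx
    obtain ⟨i, hi⟩ := Set.mem_iUnion.1 x.2
    apply isClosed_singleton_of_isLocallyClosed_singleton
    obtain ⟨C, hC, hCx⟩ := isClosed_induced_iff.1 hx
    have : ({x.1} : Set X) = C ∩ T i := by
      ext y
      constructor
      · rintro rfl
        exact ⟨(hCx.symm ▸ Set.mem_singleton x : x ∈ Subtype.val ⁻¹' C), hi⟩
      · rintro ⟨h1, h2⟩
        have : (⟨y, Set.mem_iUnion.2 ⟨i, h2⟩⟩ : ↥(⋃ i, T i)) ∈ ({x} : Set ↥(⋃ i, T i)) := hCx ▸ h1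
        exact congrArg Subtype.val this
    rw [this]
    exact hC.isLocallyClosed.inter (hT i)

end Groth.Agent.S7548
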