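import Groth.Statements.S7550
-- import your own Groth.Agent.* helpers here

set_option autoImplicit false
universe u
open PtTop

namespace Groth.Agent.S7550

/-- Let f : X → Y be a continuous and open map of topological spaces, with X Noetherian, every
irreducible closed subset of X having a generic point, and Y Kolmogorov. Then generalizations lift
along f. (Part (1), closed maps are specializing, is a library fact.) -/
theorem result {X Y : Type u} [TopologicalSpace X] [TopologicalSpace Y]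
    [TopologicalSpace.NoetherianSpace X] [QuasiSober X] [T0Space Y]
    (f : X → Y) (hf : Continuous f) (hfo : IsOpenMap f) :
    GeneralizingMap f := by
  intro x y' hy'
  have hcl : IsClosed (closure (f ⁻¹' {y'})) := isClosed_closure
  have hx : x ∈ closure (f ⁻¹' {y'}) := by
    rw [← hfo.preimage_closure_eq_closure_preimage hf, Set.mem_preimage]
    exact hy'.mem_closure
  obtain ⟨S, hSfin, hSc, hSirr, hSeq⟩ :=
    TopologicalSpace.NoetherianSpace.exists_finite_set_isClosed_irreducible hcl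
  -- pass to a minimal subfamily covering the fibre
  obtain ⟨S', hS'⟩ : ∃ S', Minimal (fun S' => S' ⊆ S ∧ f ⁻¹' {y'} ⊆ ⋃₀ S') S' := by
    have hfin' : {S' | S' ⊆ S ∧ f ⁻¹' {y'} ⊆ ⋃₀ S'}.Finite :=
      hSfin.finite_subsets.subset (fun _ h => h.1)
    exact hfin'.exists_minimal ⟨S, le_refl S, hSeq ▸ subset_closure⟩
  have hx' : x ∈ ⋃₀ S' := by
    refine closure_minimal hS'.1.2 ?_ hx
    rw [Set.sUnion_eq_biUnion]
    exact (hSfin.subset hS'.1.1).isClosed_biUnion fun Z hZ => hSc Z (hS'.1.1 hZ)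
  obtain ⟨Z, hZ, hxZ⟩ := hx'
  obtain ⟨ξ, hξ⟩ := QuasiSober.sober (hSirr Z (hS'.1.1 hZ)) (hSc Z (hS'.1.1 hZ))
  have hns : ¬ f ⁻¹' {y'} ⊆ ⋃₀ (S' \ {Z}) := fun h =>
    (hS'.2 ⟨Set.sdiff_subset.trans hS'.1.1, h⟩ Set.sdiff_subset hZ).2 rfl
  obtain ⟨p, hp, hp'⟩ := Set.not_subset.1 hns
  have hpZ : p ∈ Z := by
    obtain ⟨W, hW, hpW⟩ := hS'.1.2 hp
    by_contra hne
    exact hp' ⟨W, ⟨hW, fun h => hne (Set.mem_singleton_iff.1 h ▸ hpW)⟩, hpW⟩
  refine ⟨ξ, hξ.specializes hxZ, ?_⟩
  have h1 : f ξ ⤳ y' := by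
    have := (hξ.specializes hpZ).map hf
    rwa [Set.mem_singleton_iff.1 hp] at this
  have h2 : y' ⤳ f ξ := by
    rw [specializes_iff_mem_closure]
    have hξmem : ξ ∈ closure (f ⁻¹' {y'}) := hSeq ▸ ⟨Z, hS'.1.1 hZ, hξ.mem⟩
    exact closure_mono (Set.image_preimage_subset f {y'}) (image_closure_subset_closure_image hf ⟨ξ, hξmem, rfl⟩)
  exact (h1.antisymm h2).eq

end Groth.Agent.S7550
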