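import Groth.Statements.S7551
-- import your own Groth.Agent.* helpers here

set_option autoImplicit false
universe u
open PtTop

namespace Groth.Agent.S7551

/-- Let s, t : R → U and π : U → X be continuous maps between topological spaces satisfying: (1) π is an
open map, (2) U is a sober space, (3) s and t have finite fibres, (4) generalizations lift along s
and along t, and (5) the image of (t, s) : R → U × U is an equivalence relation on U and π
identifies X, as a set, with the quotient of U by it. Then X is Kolmogorov. -/
theorem result {R U X : Type u}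
    [TopologicalSpace R] [TopologicalSpace U] [TopologicalSpace X] [QuasiSober U] [T0Space U]
    (s t : R → U) (π : U → X) (hs : Continuous s) (ht : Continuous t) (hπ : Continuous π)
    (hπo : IsOpenMap π) (hsf : ∀ u, (s ⁻¹' {u}).Finite) (htf : ∀ u, (t ⁻¹' {u}).Finite)
    (hsg : GeneralizingMap s) (htg : GeneralizingMap t)
    (hE : Equivalence fun u u' : U => ∃ r, t r = u ∧ s r = u')
    (hπs : Function.Surjective π) (hπq : ∀ u u' : U, π u = π u' ↔ ∃ r, t r = u ∧ s r = u') :
    T0Space X := by
  constructor
  intro x x' hxx'
  obtain ⟨u, rfl⟩ := hπs x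
  obtain ⟨u', rfl⟩ := hπs x'
  have horb : ∀ a : U, {b : U | π a = π b}.Finite := fun a =>
    ((htf a).image s).subset fun b hb => by
      obtain ⟨r, h1, h2⟩ := (hπq a b).1 hb
      exact ⟨r, h1, h2⟩
  -- everything inseparable from a point of the quotient lifts to a generalization
  have hgen : ∀ a b : U, π b ⤳ π a → ∃ b', π b' = π b ∧ b' ⤳ a := by
    intro a b h
    have : a ∈ closure (π ⁻¹' {π b}) := by
      rw [← hπo.preimage_closure_eq_closure_preimage hπ]
      exact h.mem_closure
    have hfin : (π ⁻¹' {π b}).Finite := (horb b).subset fun c hc => (Set.mem_singleton_iff.1 hc).symm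
    rw [← Set.biUnion_of_singleton (π ⁻¹' {π b}), hfin.closure_biUnion] at this
    simp only [Set.mem_iUnion] at this
    obtain ⟨b', hb', hab⟩ := this
    exact ⟨b', hb', specializes_iff_mem_closure.2 hab⟩
  -- maximal element of the orbit for generalization
  let : PartialOrder U := specializationOrder U
  obtain ⟨m, hm⟩ := (horb u).exists_maximal ⟨u, rfl⟩
  obtain ⟨v, hv, hvm⟩ := hgen m u' (by rw [← hm.1]; exact hxx'.symm.specializes)
  obtain ⟨w, hw, hwv⟩ := hgen v u (by rw [hv]; exact hxx'.specializes)
  have hwm : w ⤳ m := hwv.trans hvm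
  have : w = m := le_antisymm (hm.2 (show w ∈ {b : U | π u = π b} from hw.symm) hwm) hwm
  subst this
  have : v = w := (hvm.antisymm hwv).eq
  rw [← hv, this, hw]

end Groth.Agent.S7551
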