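import Groth.Statements.S7555
-- import your own Groth.Agent.* helpers here

set_option autoImplicit false
universe u
open PtTop

namespace Groth.Agent.S7555

/-- Let f : X → X be a surjective continuous self-map of a Hausdorff topological space with f ≠ id. Then
there is a closed subset E ⊊ X such that X = E ∪ f(E). -/
theorem result {X : Type u} [TopologicalSpace X] [T2Space X]
    (f : X → X) (hf : Continuous f) (hsurj : Function.Surjective f) (hne : f ≠ id) :
    ∃ E : Set X, IsClosed E ∧ E ≠ Set.univ ∧ E ∪ f '' E = Set.univ := by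
  obtain ⟨x, hx⟩ : ∃ x, f x ≠ x := by
    by_contra h; push Not at h; exact hne (funext h)
  obtain ⟨A, B, hA, hB, hxA, hfB, hAB⟩ := t2_separation hx.symm
  refine ⟨(A ∩ f ⁻¹' B)ᶜ, (hA.inter (hB.preimage hf)).isClosed_compl,
    fun h => Set.compl_univ_iff.mp h |>.le (show x ∈ A ∩ f ⁻¹' B from ⟨hxA, hfB⟩), ?_⟩
  rw [Set.eq_univ_iff_forall]
  intro z
  by_cases hz : z ∈ A ∩ f ⁻¹' B
  · obtain ⟨y, rfl⟩ := hsurj z
    exact Or.inr ⟨y, fun hy => Set.disjoint_left.1 hAB hz.1 hy.2, rfl⟩
  · exact Or.inl hz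

end Groth.Agent.S7555
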