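import Groth.Statements.S7556
-- import your own Groth.Agent.* helpers here

set_option autoImplicit false
universe u
open PtTop

namespace Groth.Agent.S7556

/-- A copy of a type, to be given the discrete topology. -/
def DiscCopy (X : Type u) : Type u := X

instance (X : Type u) : TopologicalSpace (DiscCopy X) := ⊥

instance (X : Type u) : DiscreteTopology (DiscCopy X) := ⟨rfl⟩

theorem id_of_minimal {X D : Type u} [TopologicalSpace X] [TopologicalSpace D] [CompactSpace D] [T2Space D]
    (p : D → X) (hsurj : Function.Surjective p) (hmin : ∀ E : Set D, IsClosed E → E ≠ Set.univ → p '' E ≠ Set.univ)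
    (g : D → D) (hg : Continuous g) (hpg : p ∘ g = p) : g = id := by
  have hgs : Function.Surjective g := by
    rw [← Set.range_eq_univ]
    by_contra h
    refine hmin _ (isCompact_range hg).isClosed h ?_
    rw [← Set.range_comp, hpg, hsurj.range_eq]
  by_contra hne
  obtain ⟨x, hx⟩ : ∃ x, g x ≠ x := by
    by_contra h; push Not at h; exact hne (funext h)
  obtain ⟨A, B, hA, hB, hxA, hgB, hAB⟩ := t2_separation hx.symm
  refine hmin (A ∩ g ⁻¹' B)ᶜ (hA.inter (hB.preimage hg)).isClosed_compl
    (fun h => Set.compl_univ_iff.mp h |>.le (show x ∈ A ∩ g ⁻¹' B from ⟨hxA, hgB⟩)) ?_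
  refine Set.eq_univ_of_forall fun a => ?_
  obtain ⟨z, rfl⟩ := hsurj a
  by_cases hz : z ∈ A ∩ g ⁻¹' B
  · obtain ⟨y, rfl⟩ := hgs z
    exact ⟨y, fun hy => Set.disjoint_left.1 hAB hz.1 hy.2, (congrFun hpg y).symm⟩
  · exact ⟨z, hz, rfl⟩


/-- Let X be a quasi-compact Hausdorff space. There is a continuous surjection p : X' → X with X'
quasi-compact, Hausdorff and extremally disconnected such that no proper closed subset of X' maps
onto X; and if q : X'' → X is a second cover with the same properties, there is a homeomorphism X' ≃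
X'' compatible with p and q. -/
theorem result (X : Type u) [TopologicalSpace X] [CompactSpace X] [T2Space X] :
    (∃ (X' : Type u) (_ : TopologicalSpace X') (_ : CompactSpace X') (_ : T2Space X') (_ : ExtremallyDisconnected X')
        (p : X' → X), Continuous p ∧ Function.Surjective p ∧
        ∀ E : Set X', IsClosed E → E ≠ Set.univ → p '' E ≠ Set.univ) ∧
    (∀ (X' X'' : Type u) [TopologicalSpace X'] [CompactSpace X'] [T2Space X'] [ExtremallyDisconnected X']
        [TopologicalSpace X''] [CompactSpace X''] [T2Space X''] [ExtremallyDisconnected X'']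
        (p : X' → X) (q : X'' → X),
        Continuous p → Function.Surjective p → (∀ E : Set X', IsClosed E → E ≠ Set.univ → p '' E ≠ Set.univ) →
        Continuous q → Function.Surjective q → (∀ E : Set X'', IsClosed E → E ≠ Set.univ → q '' E ≠ Set.univ) →
        ∃ h : X' ≃ₜ X'', q ∘ h = p) := by
  constructor
  · let g₀ : DiscCopy X → X := fun x => x
    have hg₀ : Continuous g₀ := continuous_of_discreteTopology
    let q : StoneCech (DiscCopy X) → X := stoneCechExtend hg₀
    have hq : Continuous q := continuous_stoneCechExtend hg₀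
    have hqs : Function.Surjective q := fun x =>
      ⟨stoneCechUnit (α := DiscCopy X) x, stoneCechExtend_stoneCechUnit hg₀ x⟩
    obtain ⟨E, hEc, hEs, hEm⟩ := exists_compact_surjective_zorn_subset hq hqs
    let p : E → X := E.domRestrict q
    have hp : Continuous p := hq.comp continuous_subtype_val
    have hps : Function.Surjective p := fun x => by
      obtain ⟨e, he, rfl⟩ := (hEs ▸ Set.mem_univ x : x ∈ q '' E)
      exact ⟨⟨e, he⟩, rfl⟩
    have hmin : ∀ A : Set E, IsClosed A → A ≠ Set.univ → p '' A ≠ Set.univ := fun A h1 h2 => hEm A h2 h1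
    obtain ⟨g, hg, hgq⟩ := StoneCech.projective (X := DiscCopy X) hq hp hps
    have hid : g ∘ Subtype.val = id :=
      id_of_minimal p hps hmin _ (hg.comp continuous_subtype_val) (by rw [← Function.comp_assoc, hgq]; rfl)
    have hproj : CompactT2.Projective E := by
      intro Y Z _ _ _ _ _ _ φ f hφ hf hfs
      obtain ⟨h, hh, hfh⟩ := StoneCech.projective (X := DiscCopy X) (hφ.comp hg) hf hfs
      refine ⟨h ∘ Subtype.val, hh.comp continuous_subtype_val, ?_⟩
      rw [← Function.comp_assoc, hfh, Function.comp_assoc, hid, Function.comp_id]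
    exact ⟨E, inferInstance, hEc, inferInstance, hproj.extremallyDisconnected, p, hp, hps, hmin⟩
  · intro X' X'' _ _ _ _ _ _ _ _ p q hp hps hpm hq hqs hqm
    obtain ⟨h, hh, hqh⟩ := CompactT2.ExtremallyDisconnected.projective (A := X') hp hq hqs
    obtain ⟨k, hk, hpk⟩ := CompactT2.ExtremallyDisconnected.projective (A := X'') hq hp hps
    have h1 : k ∘ h = id := id_of_minimal p hps hpm _ (hk.comp hh) (by rw [← Function.comp_assoc, hpk, hqh])
    have h2 : h ∘ k = id := id_of_minimal q hqs hqm _ (hh.comp hk) (by rw [← Function.comp_assoc, hqh, hpk])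
    exact ⟨⟨⟨h, k, congrFun h1, congrFun h2⟩, hh, hk⟩, hqh⟩

end Groth.Agent.S7556
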