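import Groth.Statements.S7558
import Groth.Agent.SitesTopoi.TopCommRingLimits

set_option autoImplicit false
universe u
open CategoryTheory CategoryTheory.Limits
open PtTop

namespace Groth.Agent.S7558

/-- The category of topological rings (commutative, with continuous ring homomorphisms) has colimits,
and colimits commute with the forgetful functor to rings. -/
theorem result :
    HasColimits TopCommRingCat.{u} ∧
    PreservesColimits (forget₂ TopCommRingCat.{u} CommRingCat.{u}) := by
  exact Groth.SitesTopoi.topCommRingCat_colimits

end Groth.Agent.S7558
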