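import Groth.Statements.S7559
-- import your own Groth.Agent.* helpers here

set_option autoImplicit false
universe u
open PtTop

namespace Groth.Agent.S7559

/-- Let X be a topological space and X = ∐ P_k a finite partition into locally closed parts. Then there
is a finite stratification of X refining it: a finite partially ordered index set I and pairwise
disjoint locally closed strata S_i covering X with closure(S_j) ⊆ ⋃_{i ≤ j} S_i, such that every
part P_k is a union of strata. -/
theorem result {X : Type u} [TopologicalSpace X]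
    {n : ℕ} (P : Fin n → Set X) (hP : ∀ k, IsLocallyClosed (P k)) (hcov : ⋃ k, P k = Set.univ)
    (hdisj : ∀ k k', k ≠ k' → Disjoint (P k) (P k')) :
    ∃ (I : Type) (_ : Fintype I) (_ : PartialOrder I) (S : I → Set X),
      (∀ i, IsLocallyClosed (S i)) ∧ (⋃ i, S i = Set.univ) ∧ (∀ i j, i ≠ j → Disjoint (S i) (S j)) ∧
      (∀ j, closure (S j) ⊆ ⋃ i ∈ Set.Iic j, S i) ∧
      (∀ i k, (S i ∩ P k).Nonempty → S i ⊆ P k) := by
  classical
  -- the closed sets whose Boolean atoms are the strata
  let C : Fin n × Bool → Set X := fun p => if p.2 then closure (P p.1) else closure (P p.1) \ P p.1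
  have hC : ∀ p, IsClosed (C p) := by
    rintro ⟨k, b⟩
    cases b
    · have := isLocallyClosed_iff_isOpen_coborder.1 (hP k)
      rw [coborder, isOpen_compl_iff] at this
      simpa [C] using this
    · simp [C]
  let I := OrderDual (Finset (Fin n × Bool))
  let σ : X → Finset (Fin n × Bool) := fun x => Finset.univ.filter fun p => x ∈ C p
  let S : I → Set X := fun i => σ ⁻¹' {OrderDual.ofDual i}
  have hPS : ∀ (x : X) k, x ∈ P k ↔ (k, true) ∈ σ x ∧ (k, false) ∉ σ x := by
    intro x k
    simp only [σ, C, Finset.mem_filter, Finset.mem_univ, true_and, if_true, if_false, Set.mem_sdiff, not_and, not_not,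
      Bool.false_eq_true]
    exact ⟨fun h => ⟨subset_closure h, fun _ => h⟩, fun h => h.2 h.1⟩
  refine ⟨I, inferInstance, inferInstance, S, fun i => ?_, ?_, ?_, ?_, ?_⟩
  · have : S i = (⋂ p ∈ OrderDual.ofDual i, C p) ∩ (⋃ p ∈ (OrderDual.ofDual i)ᶜ, C p)ᶜ := by
      ext x
      simp only [S, σ, Set.mem_preimage, Set.mem_singleton_iff, Set.mem_inter_iff, Set.mem_iInter,
        Set.mem_compl_iff, Set.mem_iUnion, Finset.mem_compl, exists_prop, not_exists, not_and,
        Finset.ext_iff, Finset.mem_filter, Finset.mem_univ, true_and]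
      exact ⟨fun h => ⟨fun p hp => (h p).2 hp, fun p hp hx => hp ((h p).1 hx)⟩,
        fun h p => ⟨fun hx => by_contra fun hp => h.2 p hp hx, h.1 p⟩⟩
    rw [this]
    exact (isClosed_biInter fun p _ => hC p).isLocallyClosed.inter
      (isClosed_biUnion_finset fun p _ => hC p).isOpen_compl.isLocallyClosed
  · exact Set.eq_univ_of_forall fun x => Set.mem_iUnion.2 ⟨OrderDual.toDual (σ x), rfl⟩
  · intro i j hij
    exact (Set.disjoint_singleton.2 fun h => hij (OrderDual.ofDual.injective h)).preimage σ
  · intro j x hx
    refine Set.mem_iUnion₂.2 ⟨OrderDual.toDual (σ x), ?_, rfl⟩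
    intro p hp
    have : closure (S j) ⊆ C p := closure_minimal (fun y hy => by
      have : σ y = OrderDual.ofDual j := hy
      have hp' : p ∈ σ y := this ▸ hp
      simpa [σ] using hp') (hC p)
    change p ∈ σ x
    simpa [σ] using this hx
  · rintro i k ⟨x, hxi, hxk⟩ y hy
    rw [hPS] at hxk ⊢
    have h1 : σ x = σ y := (show σ x = OrderDual.ofDual i from hxi).trans (show σ y = OrderDual.ofDual i from hy).symm
    rwa [← h1]

end Groth.Agent.S7559
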