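import Groth.Statements.S7560
import Groth.Agent.SpectralTopology.Constructible

set_option autoImplicit false
universe u
open ConstrTop

namespace Groth.Agent.S7560
open Groth.SpectralTopology Topology

/-- Let X be a topological space written as a finite union X = T_1 ∪ … ∪ T_n of constructible subsets.
Then there is a finite stratification X = ∐ S_i (pairwise disjoint locally closed strata indexed by
a finite partially ordered set, with closure(S_j) ⊆ ⋃_{i ≤ j} S_i) whose strata are constructible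
and such that every T_k is a union of strata. -/
theorem result {X : Type u} [TopologicalSpace X]
    {n : ℕ} (T : Fin n → Set X) (hT : ∀ k, Topology.IsConstructible (T k)) (hcov : ⋃ k, T k = Set.univ) :
    ∃ (I : Type) (_ : Fintype I) (_ : PartialOrder I) (S : I → Set X),
      (∀ i, IsLocallyClosed (S i) ∧ Topology.IsConstructible (S i)) ∧ (⋃ i, S i = Set.univ) ∧
      (∀ i j, i ≠ j → Disjoint (S i) (S j)) ∧
      (∀ j, closure (S j) ⊆ ⋃ i ∈ Set.Iic j, S i) ∧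
      (∀ i k, (S i ∩ T k).Nonempty → S i ⊆ T k) := by
  classical
  choose m U V hU hV hTeq using fun k ↦ exists_pieces (hT k)
  let ι := Σ k : Fin n, Fin (m k) × Bool
  let W : ι → Set X := fun i ↦ bif i.2.2 then U i.1 i.2.1 else V i.1 i.2.1
  have hW : ∀ i, IsOpen (W i) ∧ IsRetrocompact (W i) := fun i ↦ by
    obtain ⟨k, l, b⟩ := i
    cases b
    · exact hV k l
    · exact hU k l
  let S : Set ι → Set X := fun A ↦ {x | ∀ i, i ∈ A ↔ x ∈ W i}
  have hS : ∀ A, S A = (⋂ i ∈ A, W i) ∩ ⋂ i ∈ Aᶜ, (W i)ᶜ := fun A ↦ by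
    ext x
    simp only [S, Set.mem_ofPred_eq, Set.mem_inter_iff, Set.mem_iInter, Set.mem_compl_iff]
    exact ⟨fun h ↦ ⟨fun i hi ↦ (h i).1 hi, fun i hi hx ↦ hi ((h i).2 hx)⟩,
      fun h i ↦ ⟨h.1 i, fun hx ↦ by_contra fun hi ↦ h.2 i hi hx⟩⟩
  refine ⟨Set ι, inferInstance, inferInstance, S, fun A ↦ ⟨?_, ?_⟩, ?_, ?_, ?_, ?_⟩
  · rw [hS]
    exact ⟨_, _, (Set.toFinite A).isOpen_biInter fun i _ ↦ (hW i).1,
      isClosed_biInter fun i _ ↦ (hW i).1.isClosed_compl, rfl⟩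
  · rw [hS]
    exact (IsConstructible.biInter (Set.toFinite A) fun i _ ↦
      (hW i).2.isConstructible (hW i).1).inter (IsConstructible.biInter (Set.toFinite Aᶜ)
      fun i _ ↦ ((hW i).2.isConstructible (hW i).1).compl)
  · exact Set.eq_univ_of_forall fun x ↦ Set.mem_iUnion.2 ⟨{i | x ∈ W i}, fun i ↦ Iff.rfl⟩
  · exact fun A B hAB ↦ Set.disjoint_left.2 fun x hA hB ↦
      hAB (Set.ext fun i ↦ (hA i).trans (hB i).symm)
  · intro A x hx
    refine Set.mem_iUnion₂.2 ⟨{i | x ∈ W i}, fun i hi ↦ ?_, fun i ↦ Iff.rfl⟩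
    obtain ⟨y, hyW, hyA⟩ := mem_closure_iff.1 hx (W i) (hW i).1 hi
    exact (hyA i).2 hyW
  · rintro A k ⟨x, hxA, hxT⟩ y hyA
    rw [hTeq k, Set.mem_iUnion] at hxT ⊢
    obtain ⟨l, hxU, hxV⟩ := hxT
    exact ⟨l, (hyA ⟨k, l, true⟩).1 ((hxA ⟨k, l, true⟩).2 hxU),
      fun hy ↦ hxV ((hxA ⟨k, l, false⟩).1 ((hyA ⟨k, l, false⟩).2 hy))⟩

end Groth.Agent.S7560
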