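import Groth.Statements.S7561
-- import your own Groth.Agent.* helpers here

set_option autoImplicit false
universe u
open PtTop

namespace Groth.Agent.S7561

theorem good_aux {X : Type u} [TopologicalSpace X] [TopologicalSpace.NoetherianSpace X]
    (Z : TopologicalSpace.Closeds X) :
    ∀ 𝒞 : Finset (Set X), (∀ C ∈ 𝒞, IsLocallyClosed C) →
    ∃ (m : ℕ) (S : Fin m → Set X),
      (∀ i, IsLocallyClosed (S i)) ∧ (⋃ i, S i = Z) ∧ (∀ i j, i ≠ j → Disjoint (S i) (S j)) ∧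
      (∀ i j, (S i ∩ closure (S j)).Nonempty → S i ⊆ closure (S j)) ∧
      (∀ i, ∀ C ∈ 𝒞, (S i ∩ C).Nonempty → S i ⊆ C) := by
  classical
  induction Z using WellFoundedLT.induction with
  | _ Z ih =>
  intro 𝒞 h𝒞
  rcases (Z : Set X).eq_empty_or_nonempty with hZ | ⟨z, hz⟩
  · exact ⟨0, Fin.elim0, fun i => i.elim0, by simp [hZ], fun i => i.elim0, fun i => i.elim0, fun i => i.elim0⟩
  obtain ⟨𝒮, h𝒮f, h𝒮c, h𝒮i, h𝒮Z⟩ :=
    TopologicalSpace.NoetherianSpace.exists_finite_set_isClosed_irreducible Z.isClosed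
  -- minimal covering subfamily
  obtain ⟨𝒮', h𝒮'⟩ : ∃ 𝒮', Minimal (fun 𝒮' => 𝒮' ⊆ 𝒮 ∧ (Z : Set X) ⊆ ⋃₀ 𝒮') 𝒮' :=
    (h𝒮f.finite_subsets.subset (fun _ h => h.1)).exists_minimal ⟨𝒮, le_refl 𝒮, h𝒮Z.le⟩
  obtain ⟨Z₁, hZ₁, -⟩ := h𝒮'.1.2 hz
  set R := ⋃₀ (𝒮' \ {Z₁}) with hR
  have hRc : IsClosed R := by
    rw [hR, Set.sUnion_eq_biUnion]
    exact ((h𝒮f.subset h𝒮'.1.1).subset Set.sdiff_subset).isClosed_biUnion fun A hA => h𝒮c A (h𝒮'.1.1 hA.1)
  have hne : ¬ (Z : Set X) ⊆ R := fun h =>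
    (h𝒮'.2 ⟨Set.sdiff_subset.trans h𝒮'.1.1, h⟩ Set.sdiff_subset hZ₁).2 rfl
  have hsub : (Z : Set X) ∩ Rᶜ ⊆ Z₁ := by
    rintro y ⟨hy, hy'⟩
    obtain ⟨A, hA, hyA⟩ := h𝒮'.1.2 hy
    by_contra hne
    exact hy' ⟨A, ⟨hA, fun e => hne (Set.mem_singleton_iff.1 e ▸ hyA)⟩, hyA⟩
  have hirr := (h𝒮i Z₁ (h𝒮'.1.1 hZ₁)).2
  have hZ₁Z : Z₁ ⊆ Z := h𝒮Z ▸ Set.subset_sUnion_of_mem (h𝒮'.1.1 hZ₁)
  -- shrink to a nonempty open piece adapted to `𝒞`
  obtain ⟨W, hW, hWne, hWC⟩ : ∃ W : Set X, IsOpen W ∧ ((Z : Set X) ∩ Rᶜ ∩ W).Nonempty ∧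
      ∀ C ∈ 𝒞, (((Z : Set X) ∩ Rᶜ ∩ W) ∩ C).Nonempty → (Z : Set X) ∩ Rᶜ ∩ W ⊆ C := by
    induction 𝒞 using Finset.induction_on with
    | empty => exact ⟨Set.univ, isOpen_univ, by simpa [Set.inter_compl_nonempty_iff] using hne, by simp⟩
    | insert C 𝒞 _ ihC =>
      obtain ⟨W, hW, hWne, hWC⟩ := ihC fun A hA => h𝒞 A (Finset.mem_insert_of_mem hA)
      obtain ⟨O, K, hO, hK, hCeq⟩ := h𝒞 C (Finset.mem_insert_self _ _)
      have key : ∃ W', IsOpen W' ∧ W' ⊆ W ∧ ((Z : Set X) ∩ Rᶜ ∩ W').Nonempty ∧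
          (((Z : Set X) ∩ Rᶜ ∩ W' ∩ C).Nonempty → (Z : Set X) ∩ Rᶜ ∩ W' ⊆ C) := by
        by_cases hKsub : (Z : Set X) ∩ Rᶜ ∩ W ⊆ K
        · by_cases hO' : ((Z : Set X) ∩ Rᶜ ∩ W ∩ O).Nonempty
          · refine ⟨W ∩ O, hW.inter hO, Set.inter_subset_left, by rwa [← Set.inter_assoc], fun _ y hy => ?_⟩
            rw [hCeq]; exact ⟨hy.2.2, hKsub ⟨hy.1, hy.2.1⟩⟩
          · refine ⟨W, hW, subset_rfl, hWne, fun ⟨y, hy, hy'⟩ => (hO' ⟨y, hy, (hCeq ▸ hy').1⟩).elim⟩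
        · obtain ⟨y, hy, hyK⟩ := Set.not_subset.1 hKsub
          refine ⟨W ∩ Kᶜ, hW.inter hK.isOpen_compl, Set.inter_subset_left, ⟨y, hy.1, hy.2, hyK⟩,
            fun ⟨w, hw, hw'⟩ => ?_⟩
          exact absurd (hCeq ▸ hw').2 hw.2.2
      obtain ⟨W', hW', hsub', hne', hC'⟩ := key
      refine ⟨W', hW', hne', fun A hA hAne => ?_⟩
      rcases Finset.mem_insert.1 hA with rfl | hA
      · exact hC' hAne
      · exact (Set.inter_subset_inter_right _ hsub').trans (hWC A hA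
          (hAne.mono (Set.inter_subset_inter_left _ (Set.inter_subset_inter_right _ hsub'))))
  set U := (Z : Set X) ∩ Rᶜ ∩ W
  have hUlc : IsLocallyClosed U :=
    (Z.isClosed.isLocallyClosed.inter hRc.isOpen_compl.isLocallyClosed).inter hW.isLocallyClosed
  let Z' : TopologicalSpace.Closeds X := ⟨(Z : Set X) ∩ (Rᶜ ∩ W)ᶜ,
    Z.isClosed.inter (hRc.isOpen_compl.inter hW).isClosed_compl⟩
  have hlt : Z' < Z := by
    refine lt_of_le_of_ne (fun y hy => hy.1) fun h => ?_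
    obtain ⟨y, ⟨hy1, hy2⟩, hy3⟩ := hWne
    have : y ∈ Z' := h ▸ (show y ∈ Z from hy1)
    exact this.2 ⟨hy2, hy3⟩
  obtain ⟨m, S, hS1, hS2, hS3, hS4, hS5⟩ := ih Z' hlt (insert (closure U) 𝒞) (fun C hC => by
    rcases Finset.mem_insert.1 hC with rfl | hC
    exacts [isClosed_closure.isLocallyClosed, h𝒞 C hC])
  have hSZ' : ∀ i, S i ⊆ Z' := fun i => hS2 ▸ Set.subset_iUnion S i
  have hdis : ∀ i, Disjoint U (closure (S i)) := fun i => Set.disjoint_left.2 fun y hy hy' =>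
    (closure_minimal (hSZ' i) Z'.isClosed hy').2 ⟨hy.1.2, hy.2⟩
  refine ⟨m + 1, Fin.cons U S, ?_, ?_, ?_, ?_, ?_⟩
  · exact Fin.cases hUlc hS1
  · ext y
    simp only [Set.mem_iUnion, Fin.exists_fin_succ, Fin.cons_zero, Fin.cons_succ]
    rw [← Set.mem_iUnion, hS2]
    constructor
    · rintro (h | h)
      exacts [h.1.1, h.1]
    · intro h
      by_cases h' : y ∈ Rᶜ ∩ W
      exacts [Or.inl ⟨⟨h, h'.1⟩, h'.2⟩, Or.inr ⟨h, h'⟩]
  · refine Fin.cases (Fin.cases (fun h => absurd rfl h) fun j _ => ?_) (fun i => Fin.cases (fun _ => ?_) fun j h => ?_)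
    · exact (hdis j).mono_right subset_closure
    · exact ((hdis i).mono_right subset_closure).symm
    · exact hS3 i j fun e => h (by rw [e])
  · refine Fin.cases (Fin.cases (fun _ => subset_closure) fun j h => ?_) (fun i => Fin.cases (fun h => ?_) fun j h => ?_)
    · exact (Set.not_disjoint_iff_nonempty_inter.2 h (hdis j)).elim
    · simp only [Fin.cons_succ, Fin.cons_zero] at h ⊢
      exact hS5 i _ (Finset.mem_insert_self _ _) h
    · simp only [Fin.cons_succ] at h ⊢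
      exact hS4 i j h
  · refine Fin.cases hWC fun i C hC => ?_
    simp only [Fin.cons_succ]
    exact hS5 i C (Finset.mem_insert_of_mem hC)


/-- Let X be a Noetherian topological space and X = ∐ P_k a finite partition into locally closed parts.
Then it is refined by a finite good stratification: a finite partition X = ∐ S_i into locally closed
strata such that S_i ∩ closure(S_j) ≠ ∅ implies S_i ⊆ closure(S_j), with every P_k a union of
strata. -/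
theorem result {X : Type u} [TopologicalSpace X]
    [TopologicalSpace.NoetherianSpace X]
    {n : ℕ} (P : Fin n → Set X) (hP : ∀ k, IsLocallyClosed (P k)) (hcov : ⋃ k, P k = Set.univ)
    (hdisj : ∀ k k', k ≠ k' → Disjoint (P k) (P k')) :
    ∃ (m : ℕ) (S : Fin m → Set X),
      (∀ i, IsLocallyClosed (S i)) ∧ (⋃ i, S i = Set.univ) ∧ (∀ i j, i ≠ j → Disjoint (S i) (S j)) ∧
      (∀ i j, (S i ∩ closure (S j)).Nonempty → S i ⊆ closure (S j)) ∧
      (∀ i k, (S i ∩ P k).Nonempty → S i ⊆ P k) := by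
  classical
  obtain ⟨m, S, h1, h2, h3, h4, h5⟩ := good_aux (⊤ : TopologicalSpace.Closeds X) (Finset.univ.image P)
    (by simp; exact hP)
  exact ⟨m, S, h1, by simpa using h2, h3, h4, fun i k h => h5 i (P k) (by simp) h⟩

end Groth.Agent.S7561
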