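import Groth.Statements.S7563
-- import your own Groth.Agent.* helpers here

set_option autoImplicit false
universe u
open PtTop

namespace Groth.Agent.S7563

/-- Let X be a topological space and X = X_1 ∪ … ∪ X_n with each X_i irreducible and closed and no X_i
contained in the union of the others. Then the irreducible components of X are precisely the sets
X_1, …, X_n. -/
theorem result {X : Type u} [TopologicalSpace X]
    {n : ℕ} (Z : Fin n → Set X) (hZ : ∀ i, IsIrreducible (Z i) ∧ IsClosed (Z i))
    (hcov : ⋃ i, Z i = Set.univ) (hirr : ∀ i, ¬ Z i ⊆ ⋃ j ∈ ({i}ᶜ : Set (Fin n)), Z j) :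
    irreducibleComponents X = Set.range Z := by
  have key : ∀ S : Set X, IsIrreducible S → ∃ i, S ⊆ Z i := by
    intro S hS
    obtain ⟨_, h1, h2⟩ := isIrreducible_iff_sUnion_isClosed.1 hS (Set.finite_range Z).toFinset
      (by simp; exact fun i => (hZ i).2) (by simp [hcov])
    obtain ⟨i, rfl⟩ := (Set.finite_range Z).mem_toFinset.1 h1
    exact ⟨i, h2⟩
  have hmax : ∀ i j, Z i ⊆ Z j → i = j := by
    intro i j h
    by_contra hne
    exact hirr i (h.trans (Set.subset_biUnion_of_mem (u := Z) (Ne.symm hne)))
  ext S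
  simp only [irreducibleComponents, Set.mem_setOf_eq, Set.mem_range]
  constructor
  · intro hS
    obtain ⟨i, hi⟩ := key S hS.1
    exact ⟨i, Set.Subset.antisymm (hS.2 (hZ i).1 hi) hi⟩
  · rintro ⟨i, rfl⟩
    refine ⟨(hZ i).1, fun T hT hle => ?_⟩
    obtain ⟨j, hj⟩ := key T hT
    have := hmax i j (hle.trans hj)
    subst this
    exact hj

end Groth.Agent.S7563
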