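import Groth.Statements.S7564
-- import your own Groth.Agent.* helpers here

set_option autoImplicit false
universe u
open PtTop

namespace Groth.Agent.S7564

/-- For a continuous surjection f : X → Y, if X has finitely many irreducible components, say n of them,
then Y has at most n irreducible components. -/
theorem result {X Y : Type u} [TopologicalSpace X] [TopologicalSpace Y]
    (f : X → Y) (hf : Continuous f) (hs : Function.Surjective f) (hfin : (irreducibleComponents X).Finite) :
    (irreducibleComponents Y).Finite ∧ (irreducibleComponents Y).ncard ≤ (irreducibleComponents X).ncard := by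
  have hcov : ∀ S : Set Y, IsIrreducible S → ∃ C ∈ irreducibleComponents X, S ⊆ closure (f '' C) := by
    intro S hS
    classical
    obtain ⟨_, h1, h2⟩ := isIrreducible_iff_sUnion_isClosed.1 hS
      (hfin.toFinset.image (fun C => closure (f '' C)))
      (by simp)
      (by
        intro y _
        obtain ⟨x, rfl⟩ := hs y
        simp only [Set.mem_sUnion, Finset.coe_image, Set.mem_image, SetLike.mem_coe, Set.Finite.mem_toFinset]
        exact ⟨_, ⟨irreducibleComponent x, irreducibleComponent_mem_irreducibleComponents x, rfl⟩,
          subset_closure ⟨x, mem_irreducibleComponent, rfl⟩⟩)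
    simp only [Finset.mem_image, Set.Finite.mem_toFinset] at h1
    obtain ⟨C, hC, rfl⟩ := h1
    exact ⟨C, hC, h2⟩
  have hsub : irreducibleComponents Y ⊆ (fun C => closure (f '' C)) '' irreducibleComponents X := by
    intro S hS
    obtain ⟨C, hC, h⟩ := hcov S hS.1
    have hirr : IsIrreducible (closure (f '' C)) := (hC.1.image f hf.continuousOn).closure
    exact ⟨C, hC, Set.Subset.antisymm (hS.2 hirr h) h⟩
  refine ⟨(hfin.image _).subset hsub, ?_⟩
  exact (Set.ncard_le_ncard hsub (hfin.image _)).trans (Set.ncard_image_le hfin)

end Groth.Agent.S7564
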