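import Groth.Statements.S7565
-- import your own Groth.Agent.* helpers here

set_option autoImplicit false
universe u
open PtTop

namespace Groth.Agent.S7565

/-- Let f : X → Y be a continuous open map of topological spaces and assume every point of X has a
Noetherian neighbourhood. Then every point of f(X) (with the induced topology) has a Noetherian
neighbourhood. The published statement also asserts that a continuous image of a Noetherian space is
Noetherian; this row states the part about open maps and locally Noetherian spaces. -/
theorem result {X Y : Type u} [TopologicalSpace X] [TopologicalSpace Y]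
    (f : X → Y) (hf : Continuous f) (hfo : IsOpenMap f)
    (hX : ∀ x : X, ∃ E ∈ nhds x, TopologicalSpace.NoetherianSpace E) :
    ∀ y : Set.range f, ∃ E : Set (Set.range f), E ∈ nhds y ∧ TopologicalSpace.NoetherianSpace E := by
  intro y
  obtain ⟨x, hx⟩ := y.2
  obtain ⟨E, hE, hN⟩ := hX x
  have hN' : TopologicalSpace.NoetherianSpace (interior E) :=
    TopologicalSpace.noetherianSpace_set_iff _ |>.2 fun t ht =>
      (TopologicalSpace.noetherianSpace_set_iff _).1 hN t (ht.trans interior_subset)
  refine ⟨Subtype.val ⁻¹' (f '' interior E), ?_, ?_⟩
  · have : f '' interior E ∈ nhds (y : Y) := by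
      rw [← hx]
      exact (hfo _ isOpen_interior).mem_nhds ⟨x, mem_interior_iff_mem_nhds.2 hE, rfl⟩
    exact continuous_subtype_val.continuousAt.preimage_mem_nhds this
  · rw [TopologicalSpace.noetherianSpace_set_iff]
    intro t ht
    rw [Topology.IsInducing.subtypeVal.isCompact_iff]
    have hsub : Subtype.val '' t ⊆ f '' interior E := Set.image_subset_iff.2 ht
    have := (TopologicalSpace.noetherianSpace_set_iff _).1 hN' (interior E ∩ f ⁻¹' (Subtype.val '' t))
      Set.inter_subset_left
    have h2 := this.image hf
    rwa [Set.image_inter_preimage, Set.inter_eq_right.2 hsub] at h2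

end Groth.Agent.S7565
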