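import Groth.Statements.S7567
import Groth.Agent.SitesTopoi.Clopen

set_option autoImplicit false
universe u
open PtTop

namespace Groth.Agent.S7567

/-- Let X be a quasi-compact topological space whose quasi-compact opens form a basis, any two of them
meeting in a quasi-compact set. For a subset T ⊆ X these two conditions are equivalent: (a) T can be
written as an intersection of clopen subsets of X; (b) T is closed and is a union of connected
components of X. -/
theorem result {X : Type u} [TopologicalSpace X]
    [CompactSpace X] [PrespectralSpace X] [QuasiSeparatedSpace X] (T : Set X) :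
    (∃ S : Set (Set X), (∀ Z ∈ S, IsClopen Z) ∧ T = ⋂₀ S) ↔
      (IsClosed T ∧ ∀ x ∈ T, connectedComponent x ⊆ T) := by
  constructor
  · rintro ⟨S, hS, rfl⟩
    exact ⟨isClosed_sInter fun Z hZ => (hS Z hZ).1, fun x hx y hy Z hZ =>
      (hS Z hZ).connectedComponent_subset (hx Z hZ) hy⟩
  · rintro ⟨hc, hsat⟩
    refine ⟨{Z | IsClopen Z ∧ T ⊆ Z}, fun Z hZ => hZ.1,
      Set.Subset.antisymm (fun x hx Z hZ => hZ.2 hx) fun x hx => ?_⟩
    by_contra hxT
    obtain ⟨Z, hZ, hxZ, hZT⟩ := Groth.SitesTopoi.exists_isClopen_subset_of_sInter_subset (x := x) T hc.isCompact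
      (O := ∅)
      (by
        rintro y ⟨hyT, hy⟩
        rw [← Groth.SitesTopoi.connectedComponent_eq_sInter x] at hy
        have := connectedComponent_eq hy
        exact hxT (hsat y hyT (this ▸ mem_connectedComponent)))
      isOpen_empty
    exact hx Zᶜ ⟨hZ.compl, fun y hy hyZ => hZT ⟨hy, hyZ⟩⟩ hxZ

end Groth.Agent.S7567
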