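import Groth.Statements.S7568
import Mathlib.Topology.Separation.Regular

set_option autoImplicit false
universe u
open PtTop

namespace Groth.Agent.S7568

/-- Let X be a Hausdorff quasi-compact space, X = ⋃ U_i an open covering, p ≥ 0 an integer, and for
every (p+1)-tuple (i_0, …, i_p) an open covering of U_{i_0} ∩ … ∩ U_{i_p} by opens W_{i_0…i_p,k}.
Then there are an open covering X = ⋃_{j ∈ J} V_j and a map α : J → I with closure(V_j) ⊆ U_{α(j)}
such that each V_{j_0} ∩ … ∩ V_{j_p} is contained in W_{α(j_0)…α(j_p),k} for some k. The published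
statement allows a covering of an empty intersection to have no members; this row requires every
covering W_{i_0…i_p} to have at least one member (possibly empty), without which the conclusion
fails. -/
theorem result {X : Type u} [TopologicalSpace X] [CompactSpace X] [T2Space X]
    {ι : Type u} (U : ι → Set X) (hU : ∀ i, IsOpen (U i)) (hcov : ⋃ i, U i = Set.univ) (p : ℕ)
    (W : (Fin (p + 1) → ι) → Set (Set X)) (hWo : ∀ t, ∀ w ∈ W t, IsOpen w)
    (hWc : ∀ t, ⋃₀ W t = ⋂ l, U (t l)) (hWne : ∀ t, (W t).Nonempty) :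
    ∃ (J : Type u) (V : J → Set X) (α : J → ι), (∀ j, IsOpen (V j)) ∧ (⋃ j, V j = Set.univ) ∧
      (∀ j, closure (V j) ⊆ U (α j)) ∧
      (∀ t : Fin (p + 1) → J, ∃ w ∈ W (α ∘ t), (⋂ l, V (t l)) ⊆ w) := by
  classical
  rcases isEmpty_or_nonempty X with hX | ⟨⟨x₀⟩⟩
  · exact ⟨PEmpty, fun j => j.elim, fun j => j.elim, fun j => j.elim, Set.eq_univ_of_forall fun x => hX.elim x,
      fun j => j.elim, fun t => (t 0).elim⟩
  -- a finite shrinking
  have hpt : ∀ x : X, ∃ i O, IsOpen O ∧ x ∈ O ∧ closure O ⊆ U i := by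
    intro x
    obtain ⟨i, hi⟩ := Set.mem_iUnion.1 (hcov ▸ Set.mem_univ x : x ∈ ⋃ i, U i)
    obtain ⟨N, hN1, hN2, hN3⟩ := exists_mem_nhds_isClosed_subset ((hU i).mem_nhds hi)
    exact ⟨i, interior N, isOpen_interior, mem_interior_iff_mem_nhds.2 hN1,
      (closure_minimal interior_subset hN2).trans hN3⟩
  choose i O hO hxO hOU using hpt
  obtain ⟨F, hF⟩ := isCompact_univ.elim_finite_subcover O hO (fun x _ => Set.mem_iUnion.2 ⟨x, hxO x⟩)
  -- on each tuple: every point has a neighbourhood inside some member, or off the closed intersection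
  have hN : ∀ (x : X) (t : Fin (p + 1) → F), ∃ N, IsOpen N ∧ x ∈ N ∧
      ((∃ w ∈ W (fun l => i (t l)), N ⊆ w) ∨ N ∩ (⋂ l, closure (O (t l))) = ∅) := by
    intro x t
    by_cases hx : x ∈ ⋂ l, closure (O (t l))
    · have : x ∈ ⋃₀ W (fun l => i (t l)) := by
        rw [hWc]; exact Set.iInter_mono (fun l => hOU _) hx
      obtain ⟨w, hw, hxw⟩ := this
      exact ⟨w, hWo _ w hw, hxw, Or.inl ⟨w, hw, subset_rfl⟩⟩
    · exact ⟨_, (isClosed_iInter fun l => isClosed_closure).isOpen_compl, hx, Or.inr (Set.compl_inter_self _)⟩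
  choose N hNo hxN hNs using hN
  have hj : ∀ x : X, ∃ j : F, x ∈ O j := fun x => by
    obtain ⟨j, hj, hx⟩ := Set.mem_iUnion₂.1 (hF (Set.mem_univ x))
    exact ⟨⟨j, hj⟩, hx⟩
  choose j hj using hj
  refine ⟨X, fun x => O (j x) ∩ ⋂ t, N x t, fun x => i (j x), fun x => (hO _).inter (isOpen_iInter_of_finite (hNo x)),
    Set.eq_univ_of_forall fun x => Set.mem_iUnion.2 ⟨x, hj x, Set.mem_iInter.2 (hxN x)⟩,
    fun x => (closure_mono Set.inter_subset_left).trans (hOU _), fun t => ?_⟩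
  rcases hNs (t 0) (j ∘ t) with ⟨w, hw, hsub⟩ | hempty
  · exact ⟨w, hw, fun y hy => hsub (Set.mem_iInter.1 (Set.mem_iInter.1 hy 0).2 _)⟩
  · obtain ⟨w, hw⟩ := hWne ((fun x => i (j x : X)) ∘ t)
    refine ⟨w, hw, fun y hy => (Set.eq_empty_iff_forall_notMem.1 hempty y
      ⟨Set.mem_iInter.1 (Set.mem_iInter.1 hy 0).2 _, Set.mem_iInter.2 fun l => ?_⟩).elim⟩
    exact subset_closure (Set.mem_iInter.1 hy l).1

end Groth.Agent.S7568
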