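import Groth.Statements.S7569
import Groth.Agent.SitesTopoi.Shrink

set_option autoImplicit false
universe u
open PtTop

namespace Groth.Agent.S7569

/-- Let X be a Hausdorff, locally quasi-compact space and Z ⊆ X a quasi-compact subset. Let p ≥ 0, let
U_i ⊆ X be opens with Z ⊆ ⋃ U_i, and for every (p+1)-tuple (i_0, …, i_p) let W_{i_0…i_p} ⊆ U_{i_0} ∩
… ∩ U_{i_p} be an open with W_{i_0…i_p} ∩ Z = U_{i_0} ∩ … ∩ U_{i_p} ∩ Z. Then there are opens V_i ⊆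
X with Z ⊆ ⋃ V_i, closure(V_i) ⊆ U_i for all i, and V_{i_0} ∩ … ∩ V_{i_p} ⊆ W_{i_0…i_p} for all
(p+1)-tuples. -/
theorem result {X : Type u} [TopologicalSpace X]
    [T2Space X] [LocallyCompactSpace X] (Z : Set X) (hZ : IsCompact Z)
    {ι : Type u} (U : ι → Set X) (hU : ∀ i, IsOpen (U i)) (hcov : Z ⊆ ⋃ i, U i) (p : ℕ)
    (W : (Fin (p + 1) → ι) → Set X) (hWo : ∀ t, IsOpen (W t)) (hWU : ∀ t, W t ⊆ ⋂ l, U (t l))
    (hWZ : ∀ t, W t ∩ Z = (⋂ l, U (t l)) ∩ Z) :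
    ∃ V : ι → Set X, (∀ i, IsOpen (V i)) ∧ (Z ⊆ ⋃ i, V i) ∧ (∀ i, closure (V i) ⊆ U i) ∧
      (∀ t : Fin (p + 1) → ι, (⋂ l, V (t l)) ⊆ W t) := by
  obtain ⟨V, h1, h2, -, h4, h5⟩ := Groth.SitesTopoi.exists_shrink_cover (fun z _ z' _ h => t2_separation h) hZ U hU hcov p W hWo hWZ
    (fun i A => closure A ⊆ U i) (fun i A B hAB h => (closure_mono hAB).trans h)
    (fun i => by simp) (fun i K hK _ hKU => by
      obtain ⟨L, hL, hKL, hLU⟩ := exists_compact_between hK (hU i) hKU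
      exact ⟨interior L, isOpen_interior, hKL, (closure_minimal interior_subset hL.isClosed).trans hLU⟩)
  exact ⟨V, h1, h2, h4, h5⟩

end Groth.Agent.S7569
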