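import Groth.Statements.S7571
import Mathlib.Topology.Category.TopCat.Limits.Cofiltered

set_option autoImplicit false
universe u
open CategoryTheory CategoryTheory.Limits
open PtTop

namespace Groth.Agent.S7571

/-- Let j ↦ X_j be a diagram of topological spaces over a cofiltered category with limit X and
projections f_j. (1) Every open of X is a union of subsets of the form f_j⁻¹(U_j) with U_j ⊆ X_j
open. (2) Every quasi-compact open of X equals f_i⁻¹(U_i) for some i and some open U_i ⊆ X_i. -/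
theorem result {J : Type u} [SmallCategory J] [IsCofiltered J]
    (F : J ⥤ TopCat.{u}) (c : Cone F) (hc : IsLimit c) :
    (∀ W : Set c.pt, IsOpen W →
      ∃ S : Set (Σ j, Set (F.obj j)), (∀ s ∈ S, IsOpen s.2) ∧ W = ⋃ s ∈ S, c.π.app s.1 ⁻¹' s.2) ∧
    (∀ W : Set c.pt, IsOpen W → IsCompact W →
      ∃ (i : J) (Ui : Set (F.obj i)), IsOpen Ui ∧ W = c.π.app i ⁻¹' Ui) := by
  have hb := TopCat.isTopologicalBasis_cofiltered_limit F c hc (fun j => {U | IsOpen U})
    (fun j => TopologicalSpace.isTopologicalBasis_opens) (fun i => isOpen_univ)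
    (fun i U V hU hV => IsOpen.inter hU hV) (fun i j f V hV => hV.preimage (F.map f).hom.continuous)
  refine ⟨fun W hW => ⟨{s | IsOpen s.2 ∧ c.π.app s.1 ⁻¹' s.2 ⊆ W}, fun s hs => hs.1,
    Set.Subset.antisymm (fun x hx => ?_) (Set.iUnion₂_subset fun s hs => hs.2)⟩, fun W hW hWc => ?_⟩
  · obtain ⟨_, ⟨j, V, hV, rfl⟩, hxV, hsub⟩ := hb.exists_subset_of_mem_open hx hW
    exact Set.mem_iUnion₂.2 ⟨⟨j, V⟩, ⟨hV, hsub⟩, hxV⟩
  · classical
    have : ∃ (i : J) (Ui : Set (F.obj i)), IsOpen Ui ∧ W ⊆ c.π.app i ⁻¹' Ui ∧ c.π.app i ⁻¹' Ui ⊆ W := by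
      refine hWc.induction_on (p := fun s => ∃ (i : J) (Ui : Set (F.obj i)), IsOpen Ui ∧
        s ⊆ c.π.app i ⁻¹' Ui ∧ c.π.app i ⁻¹' Ui ⊆ W) ?_ ?_ ?_ ?_
      · exact ⟨IsCofiltered.nonempty.some, ∅, isOpen_empty, by simp, by simp⟩
      · rintro s t hst ⟨i, U, h1, h2, h3⟩
        exact ⟨i, U, h1, hst.trans h2, h3⟩
      · rintro s t ⟨i, U, hU, hs, hsW⟩ ⟨j, V, hV, ht, htW⟩
        refine ⟨IsCofiltered.min i j, F.map (IsCofiltered.minToLeft i j) ⁻¹' U ∪
          F.map (IsCofiltered.minToRight i j) ⁻¹' V,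
          (hU.preimage (F.map _).hom.continuous).union (hV.preimage (F.map _).hom.continuous), ?_⟩
        rw [Set.preimage_union, ← Set.preimage_comp, ← Set.preimage_comp, ← TopCat.coe_comp, ← TopCat.coe_comp,
          c.w, c.w]
        exact ⟨Set.union_subset_union hs ht, Set.union_subset hsW htW⟩
      · intro x hx
        obtain ⟨_, ⟨j, V, hV, rfl⟩, hxV, hsub⟩ := hb.exists_subset_of_mem_open hx hW
        exact ⟨_, mem_nhdsWithin_of_mem_nhds ((IsOpen.preimage (c.π.app j).hom.continuous hV).mem_nhds hxV),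
          j, V, hV, subset_rfl, hsub⟩
    obtain ⟨i, Ui, h1, h2, h3⟩ := this
    exact ⟨i, Ui, h1, Set.Subset.antisymm h2 h3⟩

end Groth.Agent.S7571
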