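import Groth.Statements.S7575
import Groth.Agent.SitesTopoi.DirectedColimit

set_option autoImplicit false
universe u
open CategoryTheory CategoryTheory.Limits TopologicalSpace Opposite
open ShSp

namespace Groth.Agent.S7575

/-- Let X be a topological space, I a directed set, (F_i) a system of sheaves of sets on X over I with
colimit F (in sheaves), U ⊆ X open, and Ψ : colim_i F_i(U) → F(U) the canonical map. (1) If all
transition maps F_i → F_{i'} are injective (on all sections) then Ψ is injective. (2)
Quasi-compactness of U alone already makes Ψ injective. (3) When U is quasi-compact and every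
transition map is injective, Ψ is bijective. (4) If every open covering of U can be refined by a
finite open covering U = U_1 ∪ … ∪ U_m with all U_j ∩ U_{j'} quasi-compact, then Ψ is bijective. -/
theorem result {X : TopCat.{u}} {J : Type u} [Preorder J] [Nonempty J] [IsDirected J (· ≤ ·)]
    (F : J ⥤ X.Sheaf (Type u)) (c : Cocone F) (hc : IsColimit c) (U : Opens X) :
    let ev := TopCat.Sheaf.forget (Type u) X ⋙ (evaluation (Opens X)ᵒᵖ (Type u)).obj (op U)
    let Ψ : colimit (F ⋙ ev) → ev.obj c.pt := colimit.desc (F ⋙ ev) (ev.mapCocone c)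
    ((∀ (i j : J) (h : i ⟶ j) (V : Opens X), Function.Injective ((F.map h).1.app (op V))) → Function.Injective Ψ) ∧
    (IsCompact (U : Set X) → Function.Injective Ψ) ∧
    (IsCompact (U : Set X) → (∀ (i j : J) (h : i ⟶ j) (V : Opens X), Function.Injective ((F.map h).1.app (op V))) →
      Function.Bijective Ψ) ∧
    ((∀ 𝒱 : Set (Opens X), (⨆ V ∈ 𝒱, V) = U →
        ∃ (m : ℕ) (W : Fin m → Opens X), (∀ j, ∃ V ∈ 𝒱, W j ≤ V) ∧ (⨆ j, W j) = U ∧
          ∀ j j', IsCompact ((W j ⊓ W j' : Opens X) : Set X)) →
      Function.Bijective Ψ) := by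
  exact Groth.SitesTopoi.directed_colimit_sections c hc U

end Groth.Agent.S7575
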