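import Groth.Statements.S7576
import Mathlib.CategoryTheory.Limits.Types.Pullbacks
import Mathlib.CategoryTheory.Limits.Shapes.Pullback.IsPullback.Basic

set_option autoImplicit false
universe u
open CategoryTheory CategoryTheory.Limits
open ShSp

namespace Groth.Agent.S7576

/-- Let (C, F) be a type of algebraic structure, i.e. C is a category with limits and filtered colimits
and F : C → Sets is a faithful functor commuting with both and reflecting isomorphisms. Let f : A →
B and g : C' → B be morphisms of C such that F(g) is injective and the image of F(f) is contained in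
the image of F(g). Then f = g ∘ t for some morphism t : A → C'. -/
theorem result {C : Type (u + 1)} [LargeCategory C]
    [HasLimits C] [HasFilteredColimitsOfSize.{u, u} C]
    (F : C ⥤ Type u) [F.Faithful] [F.ReflectsIsomorphisms] [PreservesLimits F] [PreservesFilteredColimits F]
    {A B C' : C} (f : A ⟶ B) (g : C' ⟶ B) (hg : Function.Injective (F.map g))
    (hfg : Set.range (F.map f) ⊆ Set.range (F.map g)) :
    ∃ t : A ⟶ C', t ≫ g = f := by
  have hF : ∀ {P Q : C} (φ : P ⟶ Q), Function.Bijective (F.map φ) → IsIso φ := fun φ hφ => by
    have : IsIso (F.map φ) := (isIso_iff_bijective _).2 hφ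
    exact isIso_of_reflects_iso φ F
  have := preservesLimitsOfSize_shrink.{0, u, 0, u} F
  have hpb := (IsPullback.of_hasPullback f g).map F
  have : IsIso (pullback.fst f g) := by
    refine hF _ ⟨fun a b hab => ?_, fun a => ?_⟩
    · refine CategoryTheory.Limits.Types.ext_of_isPullback hpb hab (hg ?_)
      have h1 := congrArg (fun m => F.map m a) (pullback.condition (f := f) (g := g))
      have h2 := congrArg (fun m => F.map m b) (pullback.condition (f := f) (g := g))
      simp only [Functor.map_comp, types_comp_apply] at h1 h2
      rw [← h1, ← h2, hab]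
    · obtain ⟨y, hy⟩ := hfg ⟨a, rfl⟩
      obtain ⟨p, hp, -⟩ := CategoryTheory.Limits.Types.exists_of_isPullback hpb a y hy.symm
      exact ⟨p, hp⟩
  refine ⟨inv (pullback.fst f g) ≫ pullback.snd f g, ?_⟩
  rw [Category.assoc, ← pullback.condition, IsIso.inv_hom_id_assoc]

end Groth.Agent.S7576
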