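import Groth.Statements.S7578
import Groth.Agent.SitesTopoi.Catenary

set_option autoImplicit false
universe u
open PtTop

namespace Groth.Agent.S7578

/-- Let X be a topological space which is locally Noetherian (every point has a Noetherian
neighbourhood) and sober, and let δ, δ' be two dimension functions on X. Then δ − δ' is locally
constant. -/
theorem result {X : Type u} [TopologicalSpace X] [QuasiSober X] [T0Space X]
    (hX : ∀ x : X, ∃ E ∈ nhds x, TopologicalSpace.NoetherianSpace E)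
    (δ δ' : X → ℤ) (hδ : PtTop.IsDimensionFunction δ) (hδ' : PtTop.IsDimensionFunction δ') :
    IsLocallyConstant (fun x => δ x - δ' x) := by
  rw [IsLocallyConstant.iff_exists_open]
  intro x
  obtain ⟨E, hE, hN⟩ := hX x
  obtain ⟨U, hUE, hU, hxU⟩ := mem_nhds_iff.1 hE
  obtain ⟨𝒮, h𝒮f, h𝒮c, h𝒮i, h𝒮U⟩ :=
    TopologicalSpace.NoetherianSpace.exists_finite_set_isClosed_irreducible (α := E) (s := Set.univ) isClosed_univ
  -- remove the pieces that miss `x`
  let R : Set X := ⋃ A ∈ {A ∈ 𝒮 | x ∉ closure (Subtype.val '' A)}, closure (Subtype.val '' A)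
  have hR : IsClosed R := (h𝒮f.subset fun A hA => hA.1).isClosed_biUnion fun A _ => isClosed_closure
  refine ⟨U ∩ Rᶜ, hU.inter hR.isOpen_compl, ⟨hxU, by simp [R]⟩, fun y hy => ?_⟩
  obtain ⟨A, hA, hyA⟩ := (h𝒮U ▸ Set.mem_univ (⟨y, hUE hy.1⟩ : E) : (⟨y, hUE hy.1⟩ : E) ∈ ⋃₀ 𝒮)
  have hxA : x ∈ closure (Subtype.val '' A) := by
    by_contra hne
    exact hy.2 (Set.mem_biUnion (show A ∈ {A ∈ 𝒮 | x ∉ closure (Subtype.val '' A)} from ⟨hA, hne⟩)
      (subset_closure ⟨_, hyA, rfl⟩))
  obtain ⟨η, hη⟩ := QuasiSober.sober ((h𝒮i A hA).image _ continuous_subtype_val.continuousOn).closure isClosed_closure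
  rw [← Groth.SitesTopoi.dimensionFunction_sub_eq hδ hδ' (hη.specializes hxA),
    ← Groth.SitesTopoi.dimensionFunction_sub_eq hδ hδ' (hη.specializes (subset_closure ⟨_, hyA, rfl⟩))]

end Groth.Agent.S7578
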