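import Groth.Statements.S7579
import Groth.Agent.SpectralTopology.Spectral
import Mathlib.Topology.Connected.Separation

set_option autoImplicit false
universe u
open SpecSp

namespace Groth.Agent.S7579
open Groth.SpectralTopology Topology TopologicalSpace

/-- Let X be a spectral space. Then X with its constructible topology is Hausdorff and totally
disconnected. The published statement also asserts that the constructible topology is quasi-compact;
this row states the Hausdorff and totally disconnected parts. -/
theorem result (X : Type u) [TopologicalSpace X] [SpectralSpace X] :
    T2Space (WithConstructibleTopology X) ∧ TotallyDisconnectedSpace (WithConstructibleTopology X) := by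
  have h1 : @T2Space X (constructibleTopology X) := t2Space_ct
  have h2 : @TotallySeparatedSpace X (constructibleTopology X) := totallySeparatedSpace_ct
  have hts : TotallySeparatedSpace (WithConstructibleTopology X) := by
    rw [totallySeparatedSpace_iff_exists_isClopen]
    intro a b hab
    obtain ⟨U, ⟨hUc, hUo⟩, ha, hb⟩ :=
      (@totallySeparatedSpace_iff_exists_isClopen X (constructibleTopology X)).1 h2
        ((WithTopology.ofTopology_injective _).ne hab)
    exact ⟨WithTopology.ofTopology ⁻¹' U,
      ⟨@IsClosed.preimage _ _ _ (constructibleTopology X) _ (WithTopology.continuous_ofTopology _) _ hUc,
        @IsOpen.preimage _ _ _ (constructibleTopology X) _ (WithTopology.continuous_ofTopology _) _ hUo⟩,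
      ha, hb⟩
  exact ⟨inferInstance, inferInstance⟩

end Groth.Agent.S7579
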