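import Groth.Statements.S7580
-- import your own Groth.Agent.* helpers here

set_option autoImplicit false
universe u
open PtTop

namespace Groth.Agent.S7580

/-- Let f : X → Y be a continuous map of topological spaces with f(X) dense in Y and Y Hausdorff. Then
the cardinality of Y is at most that of the double power set of X. -/
theorem result {X Y : Type u} [TopologicalSpace X] [TopologicalSpace Y] [T2Space Y]
    (f : X → Y) (hf : Continuous f) (hd : DenseRange f) :
    Cardinal.mk Y ≤ (2 : Cardinal.{u}) ^ ((2 : Cardinal.{u}) ^ Cardinal.mk X) := by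
  have hd' := hd
  clear hd
  have : Function.Injective (fun y : Y => {A : Set X | ∃ V ∈ nhds y, A = f ⁻¹' V}) := by
    intro y y' h
    by_contra hne
    obtain ⟨U, V, hU, hV, hyU, hyV, hd⟩ := t2_separation hne
    obtain ⟨W, hW, hWeq⟩ : f ⁻¹' U ∈ {A : Set X | ∃ W ∈ nhds y', A = f ⁻¹' W} :=
      by
      have hm : f ⁻¹' U ∈ {A : Set X | ∃ W ∈ nhds y, A = f ⁻¹' W} := ⟨U, hU.mem_nhds hyU, rfl⟩
      exact (Set.ext_iff.1 h _).1 hm
    obtain ⟨O, hOW, hO, hyO⟩ := mem_nhds_iff.1 (Filter.inter_mem hW (hV.mem_nhds hyV))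
    obtain ⟨x, hx⟩ := hd'.exists_mem_open hO ⟨y', hyO⟩
    have hx' : x ∈ f ⁻¹' W := (hOW hx).1
    rw [← hWeq] at hx'
    exact Set.disjoint_left.1 hd hx' (hOW hx).2
  calc Cardinal.mk Y ≤ Cardinal.mk (Set (Set X)) := Cardinal.mk_le_of_injective this
    _ = _ := by rw [Cardinal.mk_set, Cardinal.mk_set]

end Groth.Agent.S7580
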