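import Groth.Statements.S7584
-- import your own Groth.Agent.* helpers here

set_option autoImplicit false
universe u
open PtTop

namespace Groth.Agent.S7584

/-- Let X be a quasi-compact topological space in which each connected component equals the intersection
of all clopen sets that contain it. Then π₀(X), the set of connected components with the quotient
topology, is Hausdorff. The published statement concludes that π₀(X) is profinite; this row records
the Hausdorff property, quasi-compactness and total disconnectedness of the quotient being
automatic. -/
theorem result (X : Type u) [TopologicalSpace X] [CompactSpace X]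
    (h : ∀ x : X, connectedComponent x = ⋂₀ {Z : Set X | IsClopen Z ∧ x ∈ Z}) :
    T2Space (ConnectedComponents X) := by
  refine ⟨fun a b hab => ?_⟩
  obtain ⟨x, rfl⟩ := ConnectedComponents.surjective_coe a
  obtain ⟨y, rfl⟩ := ConnectedComponents.surjective_coe b
  rw [ne_eq, ConnectedComponents.coe_eq_coe] at hab
  have : y ∉ connectedComponent x := fun hy => hab (connectedComponent_eq hy)
  rw [h x] at this
  simp only [Set.mem_sInter, not_forall] at this
  obtain ⟨Z, hZ, hyZ⟩ := this
  have hpre : ConnectedComponents.mk ⁻¹' (ConnectedComponents.mk '' Z) = Z := by
    rw [connectedComponents_preimage_image, hZ.1.biUnion_connectedComponent_eq]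
  have hop : IsOpen (ConnectedComponents.mk '' Z) := by
    rw [← ConnectedComponents.isQuotientMap_coe.isOpen_preimage, hpre]; exact hZ.1.2
  have hcl : IsClosed (ConnectedComponents.mk '' Z) := by
    rw [← ConnectedComponents.isQuotientMap_coe.isClosed_preimage, hpre]; exact hZ.1.1
  refine ⟨_, _, hop, hcl.isOpen_compl, ⟨x, hZ.2, rfl⟩, fun hy => hyZ ?_, disjoint_compl_right⟩
  rw [← hpre]; exact hy

end Groth.Agent.S7584
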