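import Groth.Statements.S7588
import Groth.Agent.SitesTopoi.BasisSheaf

set_option autoImplicit false
universe u
open CategoryTheory
open ShSp

namespace Groth.Agent.S7588

open CategoryTheory in
private theorem ext_hom {X : Type u} [TopologicalSpace X] {B : Set (TopologicalSpace.Opens X)}
    (hB : TopologicalSpace.Opens.IsBasis B) (F : ShB.Pre B)
    (G G' : TopCat.Sheaf (Type u) (TopCat.of X)) (e : ShB.Iso (ShB.restrict B G.presheaf) F)
    (e' : ShB.Iso (ShB.restrict B G'.presheaf) F) :
    ∃! φ : G ⟶ G', ∀ (U : B) (s : G.presheaf.obj (Opposite.op (U : TopologicalSpace.Opens X))),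
        e'.hom.app U (φ.1.app (Opposite.op (U : TopologicalSpace.Opens X)) s) = e.hom.app U s := by
  obtain ⟨ψ, hψ, hu⟩ := Groth.SitesTopoi.existsUnique_hom_of_basis_maps (𝟙 (TopCat.of X)) G' G hB hB
    (fun V U h s => (ShB.restrict B G'.presheaf).res h (e'.inv.app V (e.hom.app V s)))
    (fun V V' U U' hUV hU'V' hV hU s => by
      change (ShB.restrict B G'.presheaf).res hU _ = (ShB.restrict B G'.presheaf).res hU'V' _
      refine ((ShB.restrict B G'.presheaf).res_comp _ _ _).trans ?_
      change _ = (ShB.restrict B G'.presheaf).res hU'V' (e'.inv.app V' (e.hom.app V' ((ShB.restrict B G.presheaf).res hV s)))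
      refine Eq.trans ?_ (congrArg (fun x => (ShB.restrict B G'.presheaf).res hU'V' x)
        ((e'.inv.natural hV (e.hom.app V s)).trans (congrArg (e'.inv.app V') (e.hom.natural hV s))))
      exact ((ShB.restrict B G'.presheaf).res_comp hV hU'V' _).symm)
  refine ⟨⟨ψ⟩, fun U s => ?_, fun χ hχ => CategoryTheory.Sheaf.hom_ext (hu χ.1 fun V U h s => ?_)⟩
  · have := hψ U U le_rfl s
    have h0 : ψ.app (Opposite.op (U : TopologicalSpace.Opens X)) s = _ :=
      (Groth.SitesTopoi.res_self G'.1 le_rfl _).symm.trans this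
    refine (congrArg (e'.hom.app U) h0).trans ?_
    refine (congrArg (e'.hom.app U) ((ShB.restrict B G'.presheaf).res_id U _)).trans ?_
    exact e'.inv_hom U _
  · have h1 := congrArg (e'.inv.app V) (hχ V s)
    exact congrArg (fun x => (ShB.restrict B G'.presheaf).res h x) ((e'.hom_inv V _).symm.trans h1)


/-- Let X be a topological space, ℬ a basis for its topology and F a sheaf of sets on ℬ. There is a
sheaf of sets F^ext on X together with an isomorphism of presheaves on ℬ between the restriction of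
F^ext to ℬ and F; and it is unique: given two sheaves G, G′ on X with such isomorphisms e, e′, there
is a unique isomorphism G ≅ G′ whose restriction to the members of ℬ is compatible with e and e′. -/
theorem result {X : Type u} [TopologicalSpace X] {B : Set (TopologicalSpace.Opens X)}
    (hB : TopologicalSpace.Opens.IsBasis B) (F : ShB.Pre B) (hF : ShB.IsSheaf F) :
    (∃ G : TopCat.Sheaf (Type u) (TopCat.of X), Nonempty (ShB.Iso (ShB.restrict B G.presheaf) F)) ∧
    ∀ (G G' : TopCat.Sheaf (Type u) (TopCat.of X)) (e : ShB.Iso (ShB.restrict B G.presheaf) F)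
      (e' : ShB.Iso (ShB.restrict B G'.presheaf) F),
      ∃! φ : G ⟶ G', IsIso φ ∧ ∀ (U : B) (s : G.presheaf.obj (Opposite.op (U : TopologicalSpace.Opens X))),
        e'.hom.app U (φ.1.app (Opposite.op (U : TopologicalSpace.Opens X)) s) = e.hom.app U s := by
  refine ⟨⟨⟨Groth.SitesTopoi.Bas.extPresheaf F, Groth.SitesTopoi.Bas.extPresheaf_isSheaf hB hF⟩,
    ⟨Groth.SitesTopoi.Bas.extIso F⟩⟩, fun G G' e e' => ?_⟩
  obtain ⟨φ, hφ, hu⟩ := ext_hom hB F G G' e e'
  obtain ⟨χ, hχ, -⟩ := ext_hom hB F G' G e' e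
  have h1 : φ ≫ χ = CategoryTheory.CategoryStruct.id G := (ext_hom hB F G G e e).unique
    (fun U s => (hχ U _).trans (hφ U s)) (fun U s => rfl)
  have h2 : χ ≫ φ = CategoryTheory.CategoryStruct.id G' := (ext_hom hB F G' G' e' e').unique
    (fun U s => (hφ U _).trans (hχ U s)) (fun U s => rfl)
  exact ⟨φ, ⟨⟨⟨χ, h1, h2⟩⟩, hφ⟩, fun ψ hψ => hu ψ hψ.2⟩

end Groth.Agent.S7588
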