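import Groth.Statements.S7589
import Groth.Agent.FibreDim.BaseChange
import Groth.Agent.FibreDim.Composition

set_option autoImplicit false
universe u
open CategoryTheory CategoryTheory.Limits AlgebraicGeometry
attribute [local instance] Curv2.stalkAlgebra Curv2.resAlgebra
open Variety

namespace Groth.Agent.S7589

/-- Let X be locally of finite type over a field k, K an extension field of k, y a point of the base
change X_K and x its image in X; write a = trdeg_k κ(x) and a' = trdeg_K κ(y). Then dim O_{X_K, y} +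
a' = dim O_{X, x} + a, and the fibre ring O_{X_K, y} / m_x O_{X_K, y} has Krull dimension a - a' (in
particular a' ≤ a); dimensions in WithBot ℕ∞. -/
theorem result (k : Type u) [Field k] (X : Scheme.{u}) [X.Over (Spec (CommRingCat.of k))] [LocallyOfFiniteType (X ↘ (Spec (CommRingCat.of k)))]
    (K : Type u) [Field K] [Algebra k K] (y : ↥(Curv2.bc k X K)) (a a' : ℕ)
    (ha : Algebra.trdeg k (X.residueField (Curv2.bcFst k X K y)) = a)
    (ha' : letI : (Curv2.bc k X K).Over (Spec (CommRingCat.of K)) := ⟨Curv2.bcSnd k X K⟩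
      Algebra.trdeg K ((Curv2.bc k X K).residueField y) = a') :
    ringKrullDim ((Curv2.bc k X K).presheaf.stalk y) + (a' : WithBot ℕ∞) =
        ringKrullDim (X.presheaf.stalk (Curv2.bcFst k X K y)) + (a : WithBot ℕ∞) ∧
      ringKrullDim (↥((Curv2.bc k X K).presheaf.stalk y) ⧸ Ideal.map ((Curv2.bcFst k X K).stalkMap y).hom (IsLocalRing.maximalIdeal ↥(X.presheaf.stalk (Curv2.bcFst k X K y)))) + (a' : WithBot ℕ∞) =
        (a : WithBot ℕ∞) := by
  letI : (Curv2.bc k X K).Over (Spec (CommRingCat.of K)) := ⟨Curv2.bcSnd k X K⟩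
  haveI : LocallyOfFiniteType ((Curv2.bc k X K) ↘ (Spec (CommRingCat.of K))) :=
    (inferInstance : LocallyOfFiniteType (pullback.snd (X ↘ (Spec (CommRingCat.of k))) (Spec.map (CommRingCat.ofHom (algebraMap k K)))))
  haveI := LocallyOfFiniteType.isLocallyNoetherian (X ↘ (Spec (CommRingCat.of k)))
  haveI := LocallyOfFiniteType.isLocallyNoetherian ((Curv2.bc k X K) ↘ (Spec (CommRingCat.of K)))
  set x := Curv2.bcFst k X K y with hx
  have h1 := Groth.VarietyBC.height_eq_of_trdeg_eq x a ha
  have h2 := Groth.VarietyBC.height_eq_of_trdeg_eq (k := K) y a' ha'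
  have hl : FlatMor.localDim (Curv2.bc k X K) y = FlatMor.localDim X x :=
    Groth.FibreDim.localDim_eq_of_isPullback (CommRingCat.ofHom (algebraMap k K)) (X ↘ (Spec (CommRingCat.of k)))
      (Curv2.bcSnd k X K) (Curv2.bcFst k X K) (IsPullback.of_hasPullback _ _) y
  rw [Groth.VarietyBC.localDim_eq_height_add K y, Groth.VarietyBC.localDim_eq_height_add k x, h1, h2] at hl
  have hfib := Groth.FibreDim.ringKrullDim_stalk_eq_add_of_generalizing (Curv2.bcFst k X K) y
    fun w _ y' hy' => by
      obtain ⟨w', hw, hwe⟩ := Flat.generalizingMap (Curv2.bcFst k X K) hy'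
      exact ⟨w', hw, hwe⟩
  rw [Groth.FibreDim.ringKrullDim_fiber_stalk (Curv2.bcFst k X K), Scheme.Hom.fiberι_asFiber] at hfib
  have h3 : ringKrullDim ((Curv2.bc k X K).presheaf.stalk y) + (a' : WithBot ℕ∞) =
      ringKrullDim (X.presheaf.stalk x) + (a : WithBot ℕ∞) := by
    rw [add_comm, add_comm (ringKrullDim (X.presheaf.stalk x))]
    simpa using hl
  refine ⟨h3, ?_⟩
  rw [hfib, add_assoc] at h3
  have hfin : FiniteRingKrullDim (X.presheaf.stalk x) := inferInstance
  obtain ⟨n, hn⟩ : ∃ n : ℕ, ringKrullDim (X.presheaf.stalk x) = n := by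
    obtain ⟨m, hm⟩ := WithBot.ne_bot_iff_exists.1 (ringKrullDim_ne_bot (R := X.presheaf.stalk x))
    obtain ⟨n, hn⟩ := ENat.ne_top_iff_exists.1 (fun h : m = ⊤ => ringKrullDim_ne_top (R := X.presheaf.stalk x) (by rw [← hm, h]; rfl))
    exact ⟨n, by rw [← hm, ← hn]; rfl⟩
  rw [hn] at h3
  exact (ENat.WithBot.add_natCast_cancel (c := n)).1 (by rw [add_comm _ (n : WithBot ℕ∞), h3, add_comm])

end Groth.Agent.S7589
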