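import Groth.Statements.S7592
import Groth.Agent.VarietyBC.Galois

set_option autoImplicit false
universe u
open CategoryTheory CategoryTheory.Limits AlgebraicGeometry
open Variety

namespace Groth.Agent.S7592

/-- Let K be a (possibly infinite) Galois extension of a field k and f : T → X a morphism of schemes
over k. If the base change T_K is connected and X_K is not connected, then X is not connected. -/
theorem result (k : Type u) [Field k] (K : Type u) [Field K] [Algebra k K] [IsGalois k K]
    (T X : Scheme.{u}) [T.Over (Spec (CommRingCat.of k))] [X.Over (Spec (CommRingCat.of k))]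
    (f : T ⟶ X) [f.IsOver (Spec (CommRingCat.of k))]
    [ConnectedSpace ↥(Curv2.bc k T K)] (hX : ¬ ConnectedSpace ↥(Curv2.bc k X K)) :
    ¬ ConnectedSpace ↥X := by
  intro hXc
  refine hX ?_
  let fK : Curv2.bc k T K ⟶ Curv2.bc k X K :=
    pullback.map _ _ _ _ f (𝟙 _) (𝟙 _) (by rw [Category.comp_id]; exact (comp_over f _).symm) (by simp)
  obtain ⟨t0⟩ := (inferInstance : Nonempty (Curv2.bc k T K))
  set x := f (Curv2.bcFst k T K t0)
  have hfib : (Curv2.bcFst k X K) ⁻¹' {x} ⊆ Set.range fK := by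
    intro y hy
    rw [Scheme.Pullback.range_map]
    exact ⟨⟨Curv2.bcFst k T K t0, hy.symm⟩, ⟨Curv2.bcSnd k X K y, rfl⟩⟩
  obtain ⟨y0, hy0⟩ := Groth.VarietyBC.surjective_bcFst (k := k) (X := X) K x
  refine connectedSpace_iff_clopen.2 ⟨⟨y0⟩, fun W hW => ?_⟩
  by_contra hn
  obtain ⟨h1, h2⟩ := not_or.1 hn
  have key : ∀ V : Set (Curv2.bc k X K), IsClopen V → V.Nonempty → Set.range fK ⊆ V := fun V hV hne => by
    obtain ⟨v, hv, hvx⟩ := (Groth.VarietyBC.image_eq_univ_of_isClopen (Groth.VarietyBC.isOpenMap_bcFst K)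
      Groth.VarietyBC.isClosedMap_bcFst hV hne).ge (Set.mem_univ x)
    exact (isConnected_range fK.continuous).isPreconnected.subset_isClopen hV ⟨v, hfib hvx, hv⟩
  exact key Wᶜ hW.compl (Set.nonempty_compl.2 h2) (hfib hy0) (key W hW (Set.nonempty_iff_ne_empty.2 h1) (hfib hy0))

end Groth.Agent.S7592
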