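import Groth.Statements.S7593
import Groth.Agent.VarietyBC.Galois

set_option autoImplicit false
universe u
open CategoryTheory CategoryTheory.Limits AlgebraicGeometry
open Variety

namespace Groth.Agent.S7593

/-- Let k̄ be a separable algebraic closure of a field k, X a scheme over k and t a point of X_{k̄} with
image x in X. The connected component of t is mapped onto itself by the action of every
k-automorphism of k̄ if and only if it equals the full inverse image of the connected component T of
x in X and T is geometrically connected over k (the inverse image of T in X_K is connected for every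
extension field K of k). -/
theorem result (k : Type u) [Field k] (X : Scheme.{u}) [X.Over (Spec (CommRingCat.of k))] (t : ↥(Curv2.bc k X (SeparableClosure k))) :
    (∀ σ : SeparableClosure k ≃ₐ[k] SeparableClosure k,
        (Curv2.galAct k X (SeparableClosure k) σ).base '' connectedComponent t = connectedComponent t) ↔
      ((Curv2.bcFst k X (SeparableClosure k)).base ⁻¹' connectedComponent (Curv2.bcFst k X (SeparableClosure k) t) = connectedComponent t ∧
        ∀ (K : Type u) [Field K] [Algebra k K],
          _root_.IsConnected ((Curv2.bcFst k X K).base ⁻¹' connectedComponent (Curv2.bcFst k X (SeparableClosure k) t))) := by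
  set S := SeparableClosure k
  set p := Curv2.bcFst k X S
  have hTcl : IsClosed (connectedComponent (p t)) := isClosed_connectedComponent
  refine ⟨fun hinv => ?_, fun ⟨hpre, _⟩ σ => ?_⟩
  · have hpre : p ⁻¹' connectedComponent (p t) = connectedComponent t := by
      refine Set.Subset.antisymm (fun z hz => ?_) (Set.image_subset_iff.1 (p.continuous.image_connectedComponent_subset t))
      obtain ⟨σ, hσ⟩ := Groth.VarietyBC.exists_galAct_mem_connectedComponent t z hz
      exact (hinv σ).le hσ
    refine ⟨hpre, fun K _ _ => ?_⟩
    let Ω := AlgebraicClosure K
    let j : K →ₐ[k] Ω := IsScalarTower.toAlgHom k K Ω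
    let i : S →ₐ[k] Ω := IsSepClosed.lift
    have hΩ := Groth.VarietyBC.isConnected_preimage_bcMap (X := X) i
      (isConnected_connectedComponent (x := t)) isClosed_connectedComponent
    have := Groth.VarietyBC.surjective_bcMap (X := X) j
    rw [← Set.image_preimage_eq ((Curv2.bcFst k X K) ⁻¹' connectedComponent (p t))
      (Groth.VarietyBC.bcMap (X := X) j).surjective]
    refine _root_.IsConnected.image ?_ _ (Groth.VarietyBC.bcMap j).continuous.continuousOn
    have e : Groth.VarietyBC.bcMap (X := X) i ⁻¹' connectedComponent t =
        Groth.VarietyBC.bcMap (X := X) j ⁻¹' ((Curv2.bcFst k X K) ⁻¹' connectedComponent (p t)) := by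
      rw [← hpre]
      ext w
      simp only [Set.mem_preimage]
      rw [Groth.VarietyBC.bcMap_fst_apply, Groth.VarietyBC.bcMap_fst_apply]
    rw [← e]
    exact hΩ
  · rw [Groth.VarietyBC.galAct_image_connectedComponent]
    refine (connectedComponent_eq ?_).symm
    rw [← hpre, Set.mem_preimage, Groth.VarietyBC.galAct_fst_apply]
    exact mem_connectedComponent

end Groth.Agent.S7593
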