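import Groth.Statements.S7594
import Groth.Agent.VarietyBC.Fibre

set_option autoImplicit false
universe u
open CategoryTheory CategoryTheory.Limits AlgebraicGeometry
open Variety

namespace Groth.Agent.S7594

open Groth.VarietyBC

open TensorProduct
set_option backward.isDefEq.respectTransparency false


/-- A scheme X over a field k is geometrically irreducible over k precisely when the fibre product X ×_k
X of X with itself is an irreducible scheme. -/
theorem result (k : Type u) [Field k] (X : Scheme.{u}) [X.Over (Spec (CommRingCat.of k))] :
    GeometricallyIrreducible (X ↘ (Spec (CommRingCat.of k))) ↔ IrreducibleSpace ↥(pullback (X ↘ (Spec (CommRingCat.of k))) (X ↘ (Spec (CommRingCat.of k)))) := by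
  constructor
  · intro h
    have : IrreducibleSpace X := GeometricallyIrreducible.irreducibleSpace_of_subsingleton
      (X ↘ (Spec (CommRingCat.of k)))
    infer_instance
  · intro h
    let p : pullback (X ↘ (Spec (CommRingCat.of k))) (X ↘ (Spec (CommRingCat.of k))) ⟶ X :=
      pullback.fst _ _
    have hne : Nonempty X := ⟨p (Classical.arbitrary _)⟩
    have hps : Function.Surjective p := p.surjective
    have : IrreducibleSpace X := by
      rw [irreducibleSpace_def, Set.top_eq_univ, ← hps.range_eq, ← Set.image_univ]
      exact ((irreducibleSpace_def _).mp h).image _ p.continuous.continuousOn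
    refine geometricallyIrreducible_of_sepClosedAt ?_
    let ξ := genericPoint X
    letI := Curv2.resAlgebra k X ξ
    let m : Spec (CommRingCat.of (X.residueField ξ ⊗[k] X.residueField ξ)) ⟶
        pullback (X ↘ (Spec (CommRingCat.of k))) (X ↘ (Spec (CommRingCat.of k))) :=
      (pullbackSpecIso k (X.residueField ξ) (X.residueField ξ)).inv ≫
        pullback.map _ _ _ _ (X.fromSpecResidueField ξ) (X.fromSpecResidueField ξ) (𝟙 _)
          (by rw [Category.comp_id, fromSpecResidueField_str]; rfl)
          (by rw [Category.comp_id, fromSpecResidueField_str]; rfl)
    have hrange : Set.range m = p ⁻¹' {ξ} ∩ (pullback.snd (X ↘ (Spec (CommRingCat.of k)))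
        (X ↘ (Spec (CommRingCat.of k)))) ⁻¹' {ξ} := by
      rw [Scheme.Hom.comp_base, TopCat.coe_comp, (Scheme.Hom.surjective _).range_comp,
        Scheme.Pullback.range_map]
      erw [X.range_fromSpecResidueField]
    have hgen : genericPoint ↑(pullback (X ↘ (Spec (CommRingCat.of k))) (X ↘ (Spec (CommRingCat.of k)))) ∈
        Set.range m := by
      rw [hrange]
      constructor
      · have := (genericPoint_spec _).image p.continuous
        rw [Set.image_univ, hps.range_eq, closure_univ] at this
        exact this.eq (genericPoint_spec X)
      · have := (genericPoint_spec _).image (pullback.snd (X ↘ (Spec (CommRingCat.of k)))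
          (X ↘ (Spec (CommRingCat.of k)))).continuous
        rw [Set.image_univ, (Scheme.Hom.surjective _).range_eq, closure_univ] at this
        exact this.eq (genericPoint_spec X)
    have hm : IsPreimmersion m := by
      have : IsPreimmersion (pullback.map (Spec.map (CommRingCat.ofHom (algebraMap k (X.residueField ξ))))
          (Spec.map (CommRingCat.ofHom (algebraMap k (X.residueField ξ))))
          (X ↘ (Spec (CommRingCat.of k))) (X ↘ (Spec (CommRingCat.of k))) (X.fromSpecResidueField ξ)
          (X.fromSpecResidueField ξ) (𝟙 _) (by rw [Category.comp_id, fromSpecResidueField_str]; rfl)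
          (by rw [Category.comp_id, fromSpecResidueField_str]; rfl)) :=
        MorphismProperty.pullbackMap (P := (@IsPreimmersion : MorphismProperty Scheme.{u}))
          inferInstance inferInstance (fromSpecResidueField_str ξ).symm (fromSpecResidueField_str ξ).symm
      infer_instance
    have hirr : IsIrreducible (Set.range m) := by
      refine ⟨Set.range_nonempty _ |>.mono subset_rfl, isPreirreducible_iff_closure.mp ?_⟩
      rw [Set.univ_subset_iff.mp ((genericPoint_closure _).ge.trans
        (closure_mono (Set.singleton_subset_iff.mpr hgen)))]
      exact PreirreducibleSpace.isPreirreducible_univ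
    have hp : (nilradical (X.residueField ξ ⊗[k] X.residueField ξ)).IsPrime := by
      rw [← PrimeSpectrum.irreducibleSpace_iff_isPrime_nilradical]
      exact m.isEmbedding.toHomeomorph.irreducibleSpace_iff.mpr
        (isIrreducible_iff_irreducibleSpace.mp hirr)
    exact sepClosedIn_self_of_nilradical_isPrime hp

end Groth.Agent.S7594
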