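import Groth.Statements.S7596
import Groth.Agent.VarietyBC.Fibre

set_option autoImplicit false
universe u
open CategoryTheory CategoryTheory.Limits AlgebraicGeometry
open Variety

namespace Groth.Agent.S7596

open Groth.VarietyBC


/-- Let X be an irreducible scheme over a field k whose k-rational points (points x at which k → κ(x) is
onto) form a dense subset. Then X is geometrically irreducible over k. -/
theorem result (k : Type u) [Field k] (X : Scheme.{u}) [X.Over (Spec (CommRingCat.of k))] [IrreducibleSpace ↥X]
    (hd : Dense {x : ↥X | Function.Surjective (Curv2.resMap k X x)}) :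
    GeometricallyIrreducible (X ↘ (Spec (CommRingCat.of k))) := by
  refine geometricallyIrreducible_of_sepClosedAt ?_
  letI := Curv2.resAlgebra k X (genericPoint X)
  intro a ha
  obtain ⟨s, hs⟩ := X.residue_surjective (genericPoint X) a
  obtain ⟨U, hξU, t, rfl⟩ := X.presheaf.exists_germ_eq s
  let f := minpoly k a
  -- `f(t)` vanishes at every point of `U`, evaluate at a rational point
  let φ : k →+* Γ(X, U) := ((X.presheaf.map (homOfLE le_top).op).hom.comp
    (Coh.toGlobal (X ↘ Spec (CommRingCat.of k))))
  have hφ : ∀ (y : X) (hy : y ∈ U), ((X.residue y).hom.comp (X.presheaf.germ U y hy).hom).comp φ =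
      Curv2.resMap k X y := fun y hy => by
    ext c
    exact congrArg (X.residue y).hom (X.presheaf.germ_res_apply (homOfLE le_top) y hy _)
  have hev : X.presheaf.germ U (genericPoint X) hξU (f.eval₂ φ t) ∈
      IsLocalRing.maximalIdeal (X.presheaf.stalk (genericPoint X)) := by
    rw [← IsLocalRing.residue_eq_zero_iff]
    change (X.residue (genericPoint X)).hom _ = 0
    have := Polynomial.hom_eval₂ f φ
      ((X.residue (genericPoint X)).hom.comp (X.presheaf.germ U (genericPoint X) hξU).hom) t
    rw [hφ] at this
    simp only [RingHom.comp_apply] at this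
    rw [this, hs]
    exact minpoly.aeval k a
  have hnot : genericPoint X ∉ X.basicOpen (f.eval₂ φ t) := fun h =>
    (IsLocalRing.mem_maximalIdeal _).mp hev ((X.mem_basicOpen _ _ hξU).mp h)
  have hempty : ∀ y, y ∉ X.basicOpen (f.eval₂ φ t) := fun y hy =>
    hnot ((genericPoint_specializes y).mem_open (X.basicOpen _).2 hy)
  obtain ⟨y, hyU, hy⟩ := hd.inter_open_nonempty _ U.2 ⟨_, hξU⟩
  obtain ⟨c, hc⟩ := hy ((X.residue y).hom (X.presheaf.germ U y hyU t))
  have hroot : f.eval₂ (Curv2.resMap k X y) (Curv2.resMap k X y c) = 0 := by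
    have := Polynomial.hom_eval₂ f φ ((X.residue y).hom.comp (X.presheaf.germ U y hyU).hom) t
    rw [hφ] at this
    simp only [RingHom.comp_apply] at this
    rw [hc, ← this]
    refine (IsLocalRing.residue_eq_zero_iff _).mpr ((IsLocalRing.mem_maximalIdeal _).mpr ?_)
    exact fun hu => hempty y ((X.mem_basicOpen _ _ hyU).mpr hu)
  rw [Polynomial.eval₂_at_apply, map_eq_zero] at hroot
  have hdeg := Polynomial.degree_eq_one_of_irreducible_of_root (minpoly.irreducible ha.isIntegral) hroot
  exact minpoly.degree_eq_one_iff.mp hdeg

end Groth.Agent.S7596
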