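import Groth.Statements.S7600
import Groth.Agent.VarietyBC.Reduced
import Groth.Agent.Ega4Algebra1.FlatDescent
-- import your own Groth.Agent.* helpers here

set_option backward.isDefEq.respectTransparency false
set_option autoImplicit false
universe u
open CategoryTheory CategoryTheory.Limits AlgebraicGeometry
open Variety

namespace Groth.Agent.S7600

open Groth.VarietyBC in
theorem normal_stalk_of_flat {Y Z : Scheme.{u}} (g : Y ⟶ Z) [Flat g] (y : Y) {z : Z} (h : g y = z)
    (hn : IsDomain (Y.presheaf.stalk y) ∧ IsIntegrallyClosed (Y.presheaf.stalk y)) :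
    IsDomain (Z.presheaf.stalk z) ∧ IsIntegrallyClosed (Z.presheaf.stalk z) := by
  subst h
  obtain ⟨h1, h2⟩ := hn
  algebraize [(g.stalkMap y).hom]
  haveI : Module.Flat (Z.presheaf.stalk (g y)) (Y.presheaf.stalk y) := AlgebraicGeometry.Flat.stalkMap g y
  haveI : IsLocalHom (algebraMap (Z.presheaf.stalk (g y)) (Y.presheaf.stalk y)) :=
    inferInstanceAs (IsLocalHom (g.stalkMap y).hom)
  haveI : Module.FaithfullyFlat (Z.presheaf.stalk (g y)) (Y.presheaf.stalk y) :=
    Module.FaithfullyFlat.of_flat_of_isLocalHom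
  exact ⟨Groth.Ega4Algebra1.isDomain_of_faithfullyFlat _ (Y.presheaf.stalk y),
    Groth.Ega4Algebra1.isIntegrallyClosed_of_faithfullyFlat _ (Y.presheaf.stalk y)⟩

/-- (2) ⇒ (1): let X be a scheme over a field k, k' an extension field of k and x' a point of X_{k'}
with image x in X. If X_{k'} is geometrically normal at x' over k' (for every extension field k'' of
k' and every point x'' of (X_{k'})_{k''} over x' the local ring at x'' is an integrally closed
domain), then X is geometrically normal at x over k. -/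
theorem result (k : Type u) [Field k] (X : Scheme.{u}) [X.Over (Spec (CommRingCat.of k))] (k' : Type u) [Field k'] [Algebra k k'] (x' : ↥(Curv2.bc k X k'))
    (h : letI : (Curv2.bc k X k').Over (Spec (CommRingCat.of k')) := ⟨Curv2.bcSnd k X k'⟩
      ∀ (k'' : Type u) [Field k''] [Algebra k' k''] (x'' : ↥(Curv2.bc k' (Curv2.bc k X k') k'')), Curv2.bcFst k' (Curv2.bc k X k') k'' x'' = x' →
          IsDomain ↥((Curv2.bc k' (Curv2.bc k X k') k'').presheaf.stalk x'') ∧ IsIntegrallyClosed ↥((Curv2.bc k' (Curv2.bc k X k') k'').presheaf.stalk x'')) :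
    ∀ (K : Type u) [Field K] [Algebra k K] (y : ↥(Curv2.bc k X K)), Curv2.bcFst k X K y = (Curv2.bcFst k X k' x') →
          IsDomain ↥((Curv2.bc k X K).presheaf.stalk y) ∧ IsIntegrallyClosed ↥((Curv2.bc k X K).presheaf.stalk y) := by
  intro K _ _ y hy
  letI : (Curv2.bc k X k').Over (Spec (CommRingCat.of k')) := ⟨Curv2.bcSnd k X k'⟩
  obtain ⟨Ω, _, _, i, j, ω, hy', hx'⟩ := Groth.VarietyBC.exists_common_extension (K := K) (L := k') y x' hy
  let : Algebra k' Ω := j.toRingHom.toAlgebra
  have : IsScalarTower k k' Ω := .of_algebraMap_eq fun c => (j.commutes c).symm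
  let e := Groth.VarietyBC.towerIso (k := k) (X := X) (K := k') (L := Ω)
  have hω : e.hom (e.inv ω) = ω := by rw [← Scheme.Hom.comp_apply, Iso.inv_hom_id]; rfl
  have hz : Curv2.bcFst k' (Curv2.bc k X k') Ω (e.inv ω) = x' := by
    rw [← hx', ← Groth.VarietyBC.towerIso_hom_bcMap (k := k) (X := X) (K := k') (L := Ω),
      Scheme.Hom.comp_apply, hω]
    rfl
  have := h Ω (e.inv ω) hz
  have hΩ := normal_stalk_of_flat e.hom (e.inv ω) hω this
  have := Groth.VarietyBC.flat_bcMap (X := X) i
  exact normal_stalk_of_flat (Groth.VarietyBC.bcMap i) ω hy' hΩ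

end Groth.Agent.S7600
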