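import Groth.Statements.S7601
import Groth.Agent.VarietyBC.NormalBC

set_option autoImplicit false
universe u
open CategoryTheory CategoryTheory.Limits AlgebraicGeometry
open Variety

namespace Groth.Agent.S7601

/-- Let X be a geometrically normal scheme over a field k (X_K is a normal scheme for every extension
field K of k) and Y a normal scheme over k. Then X ×_k Y is a normal scheme. -/
theorem result (k : Type u) [Field k] (X : Scheme.{u}) [X.Over (Spec (CommRingCat.of k))] (Y : Scheme.{u}) [Y.Over (Spec (CommRingCat.of k))]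
    (hX : ∀ (K : Type u) [Field K] [Algebra k K], Pi1.IsNormalScheme (Curv2.bc k X K)) (hY : Pi1.IsNormalScheme Y) :
    Pi1.IsNormalScheme (pullback (X ↘ (Spec (CommRingCat.of k))) (Y ↘ (Spec (CommRingCat.of k)))) := by
  intro z
  obtain ⟨A, _, _, m, hm, hmo, hx⟩ := Groth.VarietyBC.NormalBC.exists_chart (k := k)
    (pullback.fst (X ↘ Spec (CommRingCat.of k)) (Y ↘ Spec (CommRingCat.of k)) z)
  obtain ⟨B, _, _, m', hm', hmo', hy⟩ := Groth.VarietyBC.NormalBC.exists_chart (k := k)
    (pullback.snd (X ↘ Spec (CommRingCat.of k)) (Y ↘ Spec (CommRingCat.of k)) z)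
  haveI := hmo
  haveI := hmo'
  haveI := Groth.VarietyBC.NormalBC.isOpenImmersion_prodChart hm hm'
  obtain ⟨P, rfl⟩ : z ∈ Set.range (Groth.VarietyBC.NormalBC.prodChart hm hm') := by
    rw [Groth.VarietyBC.NormalBC.range_prodChart]; exact ⟨hx, hy⟩
  exact Groth.VarietyBC.NormalBC.isNormal_at_of_chart (Groth.Ega4b.isNormalRing_tensor_of_isGeomNormal k A B
    (Groth.VarietyBC.NormalBC.isGeomNormal_of_chart hX hm) (Groth.VarietyBC.NormalBC.isNormalRing_of_chart hY m'))
    (Groth.VarietyBC.NormalBC.prodChart hm hm') P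

end Groth.Agent.S7601
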