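import Groth.Statements.S7602
import Groth.Agent.VarietyBC.NormalBC

set_option autoImplicit false
universe u
open CategoryTheory CategoryTheory.Limits AlgebraicGeometry
open Variety

namespace Groth.Agent.S7602

/-- Let X be a normal scheme over a field k and K an extension field of k which is separable over k in
the sense that Spec K → Spec k is geometrically reduced (K ⊗_k k' reduced for every field k' over
k). Then X_K is a normal scheme. -/
theorem result (k : Type u) [Field k] (X : Scheme.{u}) [X.Over (Spec (CommRingCat.of k))] (hX : Pi1.IsNormalScheme X)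
    (K : Type u) [Field K] [Algebra k K] [GeometricallyReduced (Spec.map (CommRingCat.ofHom (algebraMap k K)))] :
    Pi1.IsNormalScheme (Curv2.bc k X K) := by
  intro y
  obtain ⟨A, _, _, m, hm, hmo, hy⟩ := Groth.VarietyBC.NormalBC.exists_chart (k := k) (Curv2.bcFst k X K y)
  haveI := hmo
  haveI := Groth.VarietyBC.isOpenImmersion_tensorTo K hm
  haveI := Groth.VarietyBC.NormalBC.isGeometricallyReduced_of_specMap (k := k) K
  obtain ⟨P, rfl⟩ : y ∈ Set.range (Groth.VarietyBC.tensorTo K hm) := by
    rw [Groth.VarietyBC.range_tensorTo]; exact hy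
  exact Groth.VarietyBC.NormalBC.isNormal_at_of_chart (Groth.Ega4b.isNormalRing_tensor_separable k A K
    (Groth.VarietyBC.NormalBC.isNormalRing_of_chart hX m)) (Groth.VarietyBC.tensorTo K hm) P

end Groth.Agent.S7602
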