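import Groth.Statements.S7604
import Groth.Agent.VarietyBC.Reduced

set_option backward.isDefEq.respectTransparency false

set_option autoImplicit false
universe u
open CategoryTheory CategoryTheory.Limits AlgebraicGeometry
open Variety

namespace Groth.Agent.S7604

open Groth.VarietyBC


/-- Let X and Y be schemes over a field k with Y reduced, and let x be a point of X at which X is
geometrically reduced. Then each point of X ×_k Y mapping to x has a reduced local ring. -/
theorem result (k : Type u) [Field k] (X : Scheme.{u}) [X.Over (Spec (CommRingCat.of k))] (Y : Scheme.{u}) [Y.Over (Spec (CommRingCat.of k))] [IsReduced Y]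
    (x : ↥X) (hx : Curv2.IsGeomReducedAt k X x) (z : ↥(pullback (X ↘ (Spec (CommRingCat.of k))) (Y ↘ (Spec (CommRingCat.of k)))))
    (hz : pullback.fst (X ↘ (Spec (CommRingCat.of k))) (Y ↘ (Spec (CommRingCat.of k))) z = x) :
    _root_.IsReduced ↥((pullback (X ↘ (Spec (CommRingCat.of k))) (Y ↘ (Spec (CommRingCat.of k)))).presheaf.stalk z) := by
  exact isReduced_stalk_prod x hx z hz

end Groth.Agent.S7604
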