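import Groth.Statements.S7605
import Groth.Agent.FlatMor2.NoethFibre

set_option autoImplicit false
universe u
open CategoryTheory CategoryTheory.Limits AlgebraicGeometry
open Variety

namespace Groth.Agent.S7605

/-- For a scheme X over a field k and a finitely generated field extension k' of k, local Noetherianity
of X is equivalent to local Noetherianity of its base change X_{k'}. -/
theorem result (k : Type u) [Field k] (X : Scheme.{u}) [X.Over (Spec (CommRingCat.of k))] (k' : Type u) [Field k'] [Algebra k k']
    (hfg : (⊤ : IntermediateField k k').FG) :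
    IsLocallyNoetherian X ↔ IsLocallyNoetherian (Curv2.bc k X k') := by
  haveI : Algebra.EssFiniteType k k' := IntermediateField.fg_top_iff.mp hfg
  constructor
  · intro h
    exact Groth.FlatMor2.isLocallyNoetherian_of_isPullback_essFiniteType
      (φ := CommRingCat.ofHom (algebraMap k k'))
      (RingHom.essFiniteType_algebraMap.mpr inferInstance)
      (IsPullback.of_hasPullback (X ↘ Spec (CommRingCat.of k)) (Spec.map (CommRingCat.ofHom (algebraMap k k'))))
  · intro h
    haveI hfl : Flat (Spec.map (CommRingCat.ofHom (algebraMap k k'))) := by
      rw [HasRingHomProperty.Spec_iff (P := @Flat)]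
      exact RingHom.flat_algebraMap_iff.mpr inferInstance
    haveI hs : Surjective (Spec.map (CommRingCat.ofHom (algebraMap k k'))) :=
      ⟨fun y => ⟨(⟨⊥, Ideal.isPrime_bot⟩ : PrimeSpectrum k'), @Subsingleton.elim (PrimeSpectrum k) _ _ _⟩⟩
    haveI : Flat (Curv2.bcFst k X k') := MorphismProperty.pullback_fst _ _ hfl
    haveI : Surjective (Curv2.bcFst k X k') := MorphismProperty.pullback_fst _ _ hs
    haveI : UniversallyOpen (Curv2.bcFst k X k') := MorphismProperty.pullback_fst _ _ inferInstance
    exact Groth.FlatMor2.isLocallyNoetherian_of_flat_surjective (Curv2.bcFst k X k')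

end Groth.Agent.S7605
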