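import Groth.Statements.S7607
import Groth.Agent.Calg4.RegularStalk
import Groth.Agent.VarietyBC.BCMaps

set_option autoImplicit false
universe u
open CategoryTheory CategoryTheory.Limits AlgebraicGeometry
open Variety

namespace Groth.Agent.S7607

/-- The range of a finitely generated extension is finitely generated. -/
theorem fg_fieldRange {k K Ω : Type u} [Field k] [Field K] [Field Ω] [Algebra k K] [Algebra k Ω]
    (i : K →ₐ[k] Ω) (hK : (⊤ : IntermediateField k K).FG) : i.fieldRange.FG := by
  have : Algebra.EssFiniteType k (⊤ : IntermediateField k K) := IntermediateField.essFiniteType_iff.mpr hK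
  have : Algebra.EssFiniteType k K :=
    Algebra.EssFiniteType.of_surjective (IntermediateField.topEquiv (F := k) (E := K)).toAlgHom
      (IntermediateField.topEquiv (F := k) (E := K)).surjective
  exact IntermediateField.essFiniteType_iff.mp
    (Algebra.EssFiniteType.of_surjective i.equivFieldRange.toAlgHom i.equivFieldRange.surjective)

/-- (2) ⇒ (1): let X be a scheme over a field k, k' a finitely generated field extension of k and x' a
point of X_{k'} with image x in X. If X_{k'} is geometrically regular at x' over k', then X is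
geometrically regular at x over k. (The published setting defines geometric regularity only for
locally Noetherian schemes; this row allows any scheme X over k.) -/
theorem result (k : Type u) [Field k] (X : Scheme.{u}) [X.Over (Spec (CommRingCat.of k))] (k' : Type u) [Field k'] [Algebra k k'] (hfg : (⊤ : IntermediateField k k').FG)
    (x' : ↥(Curv2.bc k X k'))
    (h : @Curv2.IsGeomRegularAt k' _ (Curv2.bc k X k') ⟨Curv2.bcSnd k X k'⟩ x') :
    Curv2.IsGeomRegularAt k X (Curv2.bcFst k X k' x') := by
  intro K _ _ hK z hz
  obtain ⟨Ω, _, _, i, j, ω, hiω, hjω⟩ :=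
    Groth.VarietyBC.exists_common_extension (k := k) (X := X) z x' hz
  let L : IntermediateField k Ω := i.fieldRange ⊔ j.fieldRange
  let i' : K →ₐ[k] L := (IntermediateField.inclusion (le_sup_left : i.fieldRange ≤ L)).comp i.equivFieldRange.toAlgHom
  let j' : k' →ₐ[k] L := (IntermediateField.inclusion (le_sup_right : j.fieldRange ≤ L)).comp j.equivFieldRange.toAlgHom
  have hi' : L.val.comp i' = i := AlgHom.ext fun _ => rfl
  have hj' : L.val.comp j' = j := AlgHom.ext fun _ => rfl
  have hfgi : i.fieldRange.FG := fg_fieldRange i hK
  have hfgj : j.fieldRange.FG := fg_fieldRange j hfg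
  have : Algebra.EssFiniteType k L :=
    IntermediateField.essFiniteType_iff.mpr (IntermediateField.fg_sup hfgi hfgj)
  letI : Algebra k' L := j'.toRingHom.toAlgebra
  have : IsScalarTower k k' L := IsScalarTower.of_algebraMap_eq fun c => (j'.commutes c).symm
  have : Algebra.EssFiniteType k' L := Algebra.EssFiniteType.of_comp k k' L
  have hL : (⊤ : IntermediateField k' L).FG := IntermediateField.essFiniteType_iff.mp
    (Algebra.EssFiniteType.of_surjective (IntermediateField.topEquiv (F := k') (E := L)).symm.toAlgHom
      (IntermediateField.topEquiv (F := k') (E := L)).symm.surjective)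
  let e := Groth.VarietyBC.towerIso (k := k) (X := X) (K := k') (L := L)
  let w := Groth.VarietyBC.bcMap (X := X) L.val ω
  have hw1 : Groth.VarietyBC.bcMap i' w = z := by
    rw [Groth.VarietyBC.bcMap_comp_apply, hi', hiω]
  have hw2 : Groth.VarietyBC.bcMap j' w = x' := by
    rw [Groth.VarietyBC.bcMap_comp_apply, hj', hjω]
  have hhom : e.hom (e.inv w) = w := congr($(e.inv_hom_id) w)
  have hfst : @Curv2.bcFst k' _ (Curv2.bc k X k') ⟨Curv2.bcSnd k X k'⟩ L _ _ (e.inv w) = x' := by
    rw [← Groth.VarietyBC.towerIso_hom_bcMap (k := k) (X := X) (K := k') (L := L)]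
    show Groth.VarietyBC.bcMap j' (e.hom (e.inv w)) = x'
    rw [hhom, hw2]
  have hreg := h L hL (e.inv w) hfst
  have hreg' : IsRegularLocalRing ((Curv2.bc k X L).presheaf.stalk w) := by
    have h1 : IsRegularLocalRing ((Curv2.bc k X L).presheaf.stalk (e.hom (e.inv w))) :=
      have := hreg
      IsRegularLocalRing.of_ringEquiv (asIso (e.hom.stalkMap (e.inv w))).commRingCatIsoToRingEquiv.symm
    exact hhom ▸ h1
  have := Groth.VarietyBC.flat_bcMap (X := X) i'
  exact hw1 ▸ Groth.Calg4.isRegularLocalRing_stalk_of_flatAt (Groth.VarietyBC.bcMap (X := X) i') w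
    (Flat.stalkMap _ w) hreg'

end Groth.Agent.S7607
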