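import Groth.Statements.S7611
import Groth.Agent.VarietyBC.BC
import Groth.Agent.VarietyBC.BigField

set_option autoImplicit false
universe u
open CategoryTheory CategoryTheory.Limits AlgebraicGeometry
attribute [local instance] Curv2.resAlgebra
open Variety

namespace Groth.Agent.S7611

open TensorProduct Groth.VarietyBC

/-- Let X be a scheme over a field k. There is a cardinal κ such that for every extension field K of k
of cardinality at least κ, the base change X_K is a Jacobson scheme and for every closed point x of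
X_K the residue field κ(x) is algebraic over K. -/
theorem result (k : Type u) [Field k] (X : Scheme.{u}) [X.Over (Spec (CommRingCat.of k))] :
    ∃ κ : Cardinal.{u}, ∀ (K : Type u) [Field K] [Algebra k K], κ ≤ Cardinal.mk K →
      JacobsonSpace ↥(Curv2.bc k X K) ∧
        ∀ x : ↥(Curv2.bc k X K), IsClosed ({x} : Set ↥(Curv2.bc k X K)) →
          letI : (Curv2.bc k X K).Over (Spec (CommRingCat.of K)) := ⟨Curv2.bcSnd k X K⟩
          Algebra.IsAlgebraic K ((Curv2.bc k X K).residueField x) := by
  classical
  let T : Type u := Σ U : X.affineOpens, Γ(X, U.1)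
  refine ⟨Order.succ (max Cardinal.aleph0 (Cardinal.mk T)), fun K _ _ hK => ?_⟩
  have h0' : max Cardinal.aleph0 (Cardinal.mk T) < Cardinal.mk K := (Order.lt_succ _).trans_le hK
  have h0 : Cardinal.aleph0 < Cardinal.mk K := (le_max_left _ _).trans_lt h0'
  have key : ∀ y : ↥(Curv2.bc k X K), ∃ (A : Type u) (_ : CommRing A) (_ : Algebra k A)
      (t : Spec (CommRingCat.of (A ⊗[k] K)) ⟶ Curv2.bc k X K), IsOpenImmersion t ∧ y ∈ Set.range t ∧
        t ≫ Curv2.bcSnd k X K = Spec.map (CommRingCat.ofHom
          (Algebra.TensorProduct.includeRight (R := k) (A := A) (B := K)).toRingHom) ∧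
        IsJacobsonRing (A ⊗[k] K) ∧ Module.rank K (K ⊗[k] A) < Cardinal.mk K := by
    intro y
    obtain ⟨U, hU, hyU, -⟩ := exists_isAffineOpen_mem_and_subset (x := Curv2.bcFst k X K y)
      (U := (⊤ : X.Opens)) trivial
    letI : Algebra k Γ(X, U) := (openMap hU).toAlgebra
    have hm : OverSpec (k := k) Γ(X, U) hU.fromSpec := ⟨fromSpec_str hU⟩
    have hinj : Function.Injective (fun a : Γ(X, U) => (⟨⟨U, hU⟩, a⟩ : T)) := fun a b h => eq_of_heq (Sigma.mk.inj_iff.mp h).2
    have hr : Module.rank K (K ⊗[k] Γ(X, U)) < Cardinal.mk K := by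
      rw [Module.rank_baseChange]
      refine lt_of_le_of_lt ?_ h0'
      rw [Cardinal.lift_id]
      exact (rank_le_card k Γ(X, U)).trans ((Cardinal.mk_le_of_injective hinj).trans (le_max_right _ _))
    haveI := hU.isOpenImmersion_fromSpec
    refine ⟨Γ(X, U), inferInstance, inferInstance, tensorTo K hm, isOpenImmersion_tensorTo K hm, ?_,
      tensorTo_snd K hm, ?_, hr⟩
    · rw [range_tensorTo]
      exact hU.range_fromSpec.symm ▸ hyU
    · haveI := BigField.isJacobsonRing (B := K ⊗[k] Γ(X, U)) h0 hr
      exact (isJacobsonRing_iso (Algebra.TensorProduct.comm k K Γ(X, U)).toRingEquiv).mp inferInstance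
  constructor
  · choose A hA hAk t ht hy hsnd hJ hr using key
    let W : ↥(Curv2.bc k X K) → (Curv2.bc k X K).Opens := fun y => haveI := ht y; (t y).opensRange
    have hW : TopologicalSpace.IsOpenCover W := TopologicalSpace.IsOpenCover.mk (by
      rw [eq_top_iff]
      exact fun y _ => TopologicalSpace.Opens.mem_iSup.2 ⟨y, hy y⟩)
    refine hW.jacobsonSpace_iff.2 fun y => ?_
    haveI := ht y
    haveI := hJ y
    haveI : JacobsonSpace ↥(Spec (CommRingCat.of (A y ⊗[k] K))) :=
      inferInstanceAs (JacobsonSpace (PrimeSpectrum (A y ⊗[k] K)))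
    exact .of_isClosedEmbedding (Scheme.Hom.isoOpensRange (t y)).inv.homeomorph.isClosedEmbedding
  · intro x hx
    letI : (Curv2.bc k X K).Over (Spec (CommRingCat.of K)) := ⟨Curv2.bcSnd k X K⟩
    obtain ⟨A, _, _, t, ht, ⟨P, rfl⟩, hsnd, -, hr⟩ := key x
    have hP : IsClosed ({P} : Set ↥(Spec (CommRingCat.of (A ⊗[k] K)))) := by
      have := hx.preimage t.continuous
      rwa [← Set.image_singleton, Set.preimage_image_eq _ t.isOpenEmbedding.injective] at this
    haveI : IsClosedImmersion ((Spec (CommRingCat.of (A ⊗[k] K))).fromSpecResidueField P) :=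
      .of_isPreimmersion _ (by rw [Scheme.range_fromSpecResidueField]; exact hP)
    obtain ⟨ψ, hψ⟩ := Spec.map_surjective ((Spec (CommRingCat.of (A ⊗[k] K))).fromSpecResidueField P)
    haveI : IsClosedImmersion (Spec.map ψ) := by rw [hψ]; infer_instance
    have hsurj : Function.Surjective ψ.hom := by
      have h := ((HasAffineProperty.iff_of_isAffine (P := @IsClosedImmersion) (f := Spec.map ψ)).mp inferInstance).2
      intro z
      obtain ⟨w, hw⟩ := h ((Scheme.ΓSpecIso _).inv z)
      refine ⟨(Scheme.ΓSpecIso _).hom w, ?_⟩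
      have e := congr($(Scheme.ΓSpecIso_naturality ψ) w)
      simp only [CommRingCat.comp_apply] at e
      rw [← e, hw, ← CommRingCat.comp_apply, Iso.inv_hom_id]
      rfl
    haveI := IsPreimmersion.comp ((Spec (CommRingCat.of (A ⊗[k] K))).fromSpecResidueField P) t
    letI : Algebra K ((Spec (CommRingCat.of (A ⊗[k] K))).residueField P) :=
      (ψ.hom.comp (Algebra.TensorProduct.includeRight (R := k) (A := A) (B := K)).toRingHom).toAlgebra
    have hcomp : CommRingCat.ofHom (Curv2.resMap K (Curv2.bc k X K) (t P)) ≫ t.residueFieldMap P =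
        CommRingCat.ofHom (Algebra.TensorProduct.includeRight (R := k) (A := A) (B := K)).toRingHom ≫ ψ := by
      refine Spec.map_injective ?_
      rw [Spec.map_comp, Spec.map_comp, ← fromSpecResidueField_str, hψ, ← hsnd]
      exact (Scheme.Hom.SpecMap_residueFieldMap_fromSpecResidueField_assoc t P _)
    let φ : K ⊗[k] A →ₐ[K] (Spec (CommRingCat.of (A ⊗[k] K))).residueField P :=
      { ψ.hom.comp (Algebra.TensorProduct.comm k K A).toAlgHom.toRingHom with
        commutes' := fun c => by
          change ψ.hom ((Algebra.TensorProduct.comm k K A) (c ⊗ₜ[k] 1)) = ψ.hom _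
          rw [Algebra.TensorProduct.comm_tmul]
          rfl }
    have hφ : Function.Surjective φ := hsurj.comp (Algebra.TensorProduct.comm k K A).surjective
    haveI := BigField.isAlgebraic_of_surjective φ hφ hr
    let g : (Curv2.bc k X K).residueField (t P) →ₐ[K] (Spec (CommRingCat.of (A ⊗[k] K))).residueField P :=
      { (t.residueFieldMap P).hom with commutes' := fun c => congr($hcomp c) }
    exact Algebra.IsAlgebraic.of_injective g g.toRingHom.injective

end Groth.Agent.S7611
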