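import Groth.Statements.S7612
import Mathlib.AlgebraicGeometry.Morphisms.UniversallyOpen
import Mathlib.AlgebraicGeometry.Fiber

set_option autoImplicit false
universe u
open CategoryTheory CategoryTheory.Limits AlgebraicGeometry
open Variety

namespace Groth.Agent.S7612

/-- Let X and Y be schemes over a field k and A ⊆ X, B ⊆ Y subsets. Inside X ×_k Y, the closure of the
set of points projecting into A and into B equals the set of points projecting into the closure of A
and into the closure of B. -/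
theorem result (k : Type u) [Field k] (X : Scheme.{u}) [X.Over (Spec (CommRingCat.of k))] (Y : Scheme.{u}) [Y.Over (Spec (CommRingCat.of k))] (A : Set ↥X) (B : Set ↥Y) :
    closure ((pullback.fst (X ↘ (Spec (CommRingCat.of k))) (Y ↘ (Spec (CommRingCat.of k)))).base ⁻¹' A ∩ (pullback.snd (X ↘ (Spec (CommRingCat.of k))) (Y ↘ (Spec (CommRingCat.of k)))).base ⁻¹' B) =
      (pullback.fst (X ↘ (Spec (CommRingCat.of k))) (Y ↘ (Spec (CommRingCat.of k)))).base ⁻¹' closure A ∩ (pullback.snd (X ↘ (Spec (CommRingCat.of k))) (Y ↘ (Spec (CommRingCat.of k)))).base ⁻¹' closure B := by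
  set f := X ↘ (Spec (CommRingCat.of k))
  set g := Y ↘ (Spec (CommRingCat.of k))
  set p := pullback.fst f g
  set q := pullback.snd f g
  have key₁ : ∀ (a : X) (S : Set Y) (O : Set ↥(pullback f g)), IsOpen O →
      ∀ z ∈ O, p z = a → q z ∈ closure S → ∃ w ∈ O, p w = a ∧ q w ∈ S := by
    intro a S O hO z hzO hz hS
    have hP := (IsPullback.of_hasPullback p (X.fromSpecResidueField a)).paste_horiz
      (IsPullback.of_hasPullback f g).flip
    have : UniversallyOpen (p.fiberι a ≫ q) :=
      MorphismProperty.of_isPullback (P := (@UniversallyOpen : MorphismProperty Scheme.{u})) hP.flip inferInstance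
    obtain ⟨z0, hz0⟩ : z ∈ Set.range (p.fiberι a) := (p.range_fiberι a).ge hz
    obtain ⟨_, ⟨w0, hw0, rfl⟩, hwS⟩ := mem_closure_iff.1 hS _
      ((p.fiberι a ≫ q).isOpenMap _ (hO.preimage (p.fiberι a).continuous))
      ⟨z0, show p.fiberι a z0 ∈ O by rwa [hz0], show (p.fiberι a ≫ q) z0 = q z by rw [Scheme.Hom.comp_apply, hz0]⟩
    exact ⟨p.fiberι a w0, hw0, (p.range_fiberι a).le ⟨w0, rfl⟩, hwS⟩
  have key₂ : ∀ (b : Y) (S : Set X) (O : Set ↥(pullback f g)), IsOpen O →
      ∀ z ∈ O, q z = b → p z ∈ closure S → ∃ w ∈ O, q w = b ∧ p w ∈ S := by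
    intro b S O hO z hzO hz hS
    have hP := (IsPullback.of_hasPullback q (Y.fromSpecResidueField b)).paste_horiz
      (IsPullback.of_hasPullback f g)
    have : UniversallyOpen (q.fiberι b ≫ p) :=
      MorphismProperty.of_isPullback (P := (@UniversallyOpen : MorphismProperty Scheme.{u})) hP.flip inferInstance
    obtain ⟨z0, hz0⟩ : z ∈ Set.range (q.fiberι b) := (q.range_fiberι b).ge hz
    obtain ⟨_, ⟨w0, hw0, rfl⟩, hwS⟩ := mem_closure_iff.1 hS _
      ((q.fiberι b ≫ p).isOpenMap _ (hO.preimage (q.fiberι b).continuous))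
      ⟨z0, show q.fiberι b z0 ∈ O by rwa [hz0], show (q.fiberι b ≫ p) z0 = p z by rw [Scheme.Hom.comp_apply, hz0]⟩
    exact ⟨q.fiberι b w0, hw0, (q.range_fiberι b).le ⟨w0, rfl⟩, hwS⟩
  refine Set.Subset.antisymm (closure_minimal (Set.inter_subset_inter (Set.preimage_mono subset_closure)
    (Set.preimage_mono subset_closure)) ((isClosed_closure.preimage p.continuous).inter
      (isClosed_closure.preimage q.continuous))) fun z ⟨hzA, hzB⟩ => mem_closure_iff.2 fun O hO hzO => ?_
  obtain ⟨w, hw, hwb, hwA⟩ := key₂ (q z) A O hO z hzO rfl hzA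
  obtain ⟨v, hv, hva, hvB⟩ := key₁ (p w) B O hO w hw rfl (by rw [hwb]; exact hzB)
  exact ⟨v, hv, show p v ∈ A by rw [hva]; exact hwA, hvB⟩

end Groth.Agent.S7612
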