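import Groth.Statements.S7614
import Groth.Agent.SpectralTopology.QuasiAffineDescent

set_option autoImplicit false
universe u
open CategoryTheory CategoryTheory.Limits AlgebraicGeometry
open Variety

namespace Groth.Agent.S7614

/-- Let X be a scheme over a field k and K an extension field of k. If X_K is quasi-affine, then X is
quasi-affine. -/
theorem result (k : Type u) [Field k] (X : Scheme.{u}) [X.Over (Spec (CommRingCat.of k))] (K : Type u) [Field K] [Algebra k K]
    [(Curv2.bc k X K).IsQuasiAffine] : X.IsQuasiAffine := by
  haveI : (Limits.pullback (Spec.map (CommRingCat.ofHom (algebraMap k K))) (X ↘ Spec (CommRingCat.of k))).IsQuasiAffine :=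
    .of_isAffineHom (Limits.pullbackSymmetry _ _).hom
  have hw : Flat (Spec.map (CommRingCat.ofHom (algebraMap k K))) :=
    (HasRingHomProperty.Spec_iff (P := @Flat)).mpr (RingHom.flat_algebraMap_iff.mpr inferInstance)
  haveI : Surjective (Spec.map (CommRingCat.ofHom (algebraMap k K))) :=
    ⟨fun x => ⟨(inferInstance : Nonempty (PrimeSpectrum K)).some,
      @Subsingleton.elim (PrimeSpectrum k) inferInstance _ x⟩⟩
  exact Groth.SpectralTopology.isQuasiAffine_of_baseChange (Spec.map (CommRingCat.ofHom (algebraMap k K)))
    (X ↘ Spec (CommRingCat.of k)) ⟨⟨inferInstance, hw⟩, inferInstance⟩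

end Groth.Agent.S7614
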