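import Groth.Statements.S7615
import Groth.Agent.VarietyBC.GlobalField

set_option autoImplicit false
universe u
open CategoryTheory CategoryTheory.Limits AlgebraicGeometry
open scoped TensorProduct
open Variety

namespace Groth.Agent.S7615

/-- Let X be a proper variety over a field k (integral, separated, of finite type and proper over k) and
K = H^0(X, O_X), a k-algebra via the structure morphism. Then K is a field, finite over k; K/k is
separable when X is geometrically reduced over k, and purely inseparable when X is geometrically
irreducible over k. -/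
theorem result (k : Type u) [Field k] (X : Scheme.{u}) [X.Over (Spec (CommRingCat.of k))] [IsIntegral X] [IsProper (X ↘ (Spec (CommRingCat.of k)))] :
    letI := ((X ↘ (Spec (CommRingCat.of k))).appTop.hom.comp (Scheme.ΓSpecIso (CommRingCat.of k)).inv.hom : k →+* Γ(X, ⊤)).toAlgebra
    IsField ↑Γ(X, ⊤) ∧ Module.Finite k ↑Γ(X, ⊤) ∧
      (GeometricallyReduced (X ↘ (Spec (CommRingCat.of k))) → Algebra.IsSeparable k ↑Γ(X, ⊤)) ∧
      (GeometricallyIrreducible (X ↘ (Spec (CommRingCat.of k))) → IsPurelyInseparable k ↑Γ(X, ⊤)) := by
  let f := X ↘ (Spec (CommRingCat.of k))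
  letI := (f.appTop.hom.comp (Scheme.ΓSpecIso (CommRingCat.of k)).inv.hom : k →+* Γ(X, ⊤)).toAlgebra
  haveI : CompactSpace X := QuasiCompact.compactSpace_of_compactSpace f
  haveI : QuasiSeparatedSpace X := quasiSeparatedSpace_of_quasiSeparated f
  have hF : IsField ↑Γ(X, ⊤) := isField_of_universallyClosed k f
  have hfin : Module.Finite k ↑Γ(X, ⊤) := by
    rw [← RingHom.finite_algebraMap, RingHom.algebraMap_toAlgebra]
    exact (finite_appTop_of_universallyClosed k f).comp
      (RingHom.Finite.of_surjective _
        (Scheme.ΓSpecIso (CommRingCat.of k)).symm.commRingCatIsoToRingEquiv.surjective)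
  refine ⟨hF, hfin, fun hR => ?_, fun hI => ?_⟩
  all_goals
    letI := hF.toField
    haveI := hfin
    let E := AlgebraicClosure k
    let s : Spec (CommRingCat.of E) ⟶ Spec (CommRingCat.of k) :=
      Spec.map (CommRingCat.ofHom (algebraMap k E))
    obtain ⟨φ⟩ := Groth.VarietyBC.GlobalField.exists_ringEquiv (E := E) f
      (RingHom.algebraMap_toAlgebra _) (IsPullback.of_hasPullback f s)
  · haveI : IsReduced (pullback f s) :=
      hR.geometrically_isReduced s (pullback.fst f s) (pullback.snd f s) (IsPullback.of_hasPullback f s)
    haveI : _root_.IsReduced (E ⊗[k] ↑Γ(X, ⊤)) := isReduced_of_injective φ φ.injective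
    exact Groth.VarietyBC.GlobalField.isSeparable_of_isReduced (E := E)
  · haveI : IrreducibleSpace (pullback f s : Scheme.{u}) :=
      hI.geometrically_irreducibleSpace s (pullback.fst f s) (pullback.snd f s) (IsPullback.of_hasPullback f s)
    refine Groth.VarietyBC.GlobalField.isPurelyInseparable_of_idem (E := E) fun e he => ?_
    exact (Groth.VarietyBC.GlobalField.eq_zero_or_one_of_idem (φ e)
      (by rw [← map_mul, he])).imp (fun h => φ.injective (h.trans (map_zero φ).symm))
      (fun h => φ.injective (h.trans (map_one φ).symm))

end Groth.Agent.S7615
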