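import Groth.Statements.S7617
import Groth.Agent.VarietyBC.GeomReducedGeneric
import Groth.Agent.CurveNorm.Main
import Groth.Agent.PropsBasic.LociBaseChange.Scheme
import Groth.Agent.Calg4.NormalizationChar
import Groth.Agent.CIntNormal.ConeNormal
import Groth.Agent.GrpschAbsch.IntegralDim
-- import your own Groth.Agent.* helpers here

set_option autoImplicit false
universe u
open CategoryTheory CategoryTheory.Limits AlgebraicGeometry
open Variety

namespace Groth.Agent.S7617

open scoped TensorProduct

theorem injective_stalkSpecializes {X : Scheme.{u}} [IsIntegral X] {a x : X} (h : a ⤳ x)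
    (ha : a = genericPoint X) : Function.Injective (X.presheaf.stalkSpecializes h).hom := by
  subst ha
  exact IsFractionRing.injective (X.presheaf.stalk x) X.functionField

/-- The smooth points over `k` stay regular and hence reduced after any base change. -/
theorem isRegular_bc {k : Type u} [Field k] {N : Scheme.{u}} [N.Over (Spec (CommRingCat.of k))]
    [LocallyOfFinitePresentation (N ↘ Spec (CommRingCat.of k))] {z : N}
    (hz : z ∈ (N ↘ Spec (CommRingCat.of k)).smoothLocus) (K : Type u) [Field K] [Algebra k K]
    (y : ↥(Curv2.bc k N K)) (hy : Curv2.bcFst k N K y = z) :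
    IsRegularLocalRing ((Curv2.bc k N K).presheaf.stalk y) := by
  letI : (Curv2.bc k N K).Over (Spec (CommRingCat.of K)) := ⟨Curv2.bcSnd k N K⟩
  haveI : LocallyOfFinitePresentation (Curv2.bcSnd k N K) :=
    MorphismProperty.pullback_snd _ _ inferInstance
  haveI : LocallyOfFinitePresentation (Curv2.bc k N K ↘ Spec (CommRingCat.of K)) :=
    inferInstanceAs (LocallyOfFinitePresentation (Curv2.bcSnd k N K))
  haveI : LocallyOfFiniteType (Curv2.bc k N K ↘ Spec (CommRingCat.of K)) := inferInstance
  refine Groth.VarietyBC.isRegularLocalRing_of_mem_smoothLocus (k := K) ?_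
  exact Groth.PropsBasic.Loci.preimage_smoothLocus_le
    (IsPullback.of_hasPullback (N ↘ Spec (CommRingCat.of k))
      (Spec.map (CommRingCat.ofHom (algebraMap k K))))
    (show Curv2.bcFst k N K y ∈ _ from hy ▸ hz)

/-- Let X be an integral scheme locally of finite type over a field k, ν : X^ν → X its normalization,
and x a point of X with dim O_{X, x} = 1 such that for every point x' of X^ν over x the residue
field κ(x') is separable over k (Spec κ(x') → Spec k geometrically reduced). Then X is geometrically
reduced at x, and at every point of X^ν over x the normalization is geometrically regular. (The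
published statement covers every scheme locally of finite type over k with reduced local ring at x,
using the normalization of a possibly non-integral scheme; this row takes X integral.) -/
theorem result (k : Type u) [Field k] (X : Scheme.{u}) [X.Over (Spec (CommRingCat.of k))] [IsIntegral X] [LocallyOfFiniteType (X ↘ (Spec (CommRingCat.of k)))]
    [QuasiCompact (X.fromSpecStalk (genericPoint X))] [QuasiSeparated (X.fromSpecStalk (genericPoint X))]
    (x : ↥X) (hdim : ringKrullDim ↥(X.presheaf.stalk x) = 1)
    (hsep : letI : (Curv2.normalization X).Over (Spec (CommRingCat.of k)) := ⟨Curv2.normalizationι X ≫ (X ↘ (Spec (CommRingCat.of k)))⟩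
      ∀ x' : ↥(Curv2.normalization X), Curv2.normalizationι X x' = x →
        GeometricallyReduced (Spec.map (CommRingCat.ofHom (Curv2.resMap k (Curv2.normalization X) x')))) :
    Curv2.IsGeomReducedAt k X x ∧
      letI : (Curv2.normalization X).Over (Spec (CommRingCat.of k)) := ⟨Curv2.normalizationι X ≫ (X ↘ (Spec (CommRingCat.of k)))⟩
      ∀ x' : ↥(Curv2.normalization X), Curv2.normalizationι X x' = x → Curv2.IsGeomRegularAt k (Curv2.normalization X) x' := by
  letI : (Curv2.normalization X).Over (Spec (CommRingCat.of k)) :=
    ⟨Curv2.normalizationι X ≫ (X ↘ (Spec (CommRingCat.of k)))⟩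
  let N := Curv2.normalization X
  let ν := Curv2.normalizationι X
  obtain ⟨hNi, hNn, hNs, hgen, -⟩ := Groth.Agent.S2351.result X
  haveI := hNi
  haveI : IsIntegralHom ν := inferInstanceAs (IsIntegralHom (X.fromSpecStalk (genericPoint X)).fromNormalization)
  let φ := RingHom.id X.functionField
  have hg : X.fromSpecStalk (genericPoint X) =
      Spec.map (CommRingCat.ofHom φ) ≫ X.fromSpecStalk (genericPoint X) := by
    change X.fromSpecStalk (genericPoint X) = Spec.map (𝟙 _) ≫ _
    rw [Spec.map_id, Category.id_comp]
  haveI : IsFinite ν := Groth.CurveNorm.isFinite_fromNormalization X X.functionField φ _ hg k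
    (X ↘ Spec (CommRingCat.of k)) inferInstance (RingHom.Finite.id _)
  haveI : LocallyOfFiniteType (N ↘ Spec (CommRingCat.of k)) :=
    inferInstanceAs (LocallyOfFiniteType (ν ≫ (X ↘ Spec (CommRingCat.of k))))
  haveI : IsLocallyNoetherian N := LocallyOfFiniteType.isLocallyNoetherian (N ↘ Spec (CommRingCat.of k))
  haveI : LocallyOfFinitePresentation (N ↘ Spec (CommRingCat.of k)) := inferInstance
  have hsm : ∀ x' : N, ν x' = x → x' ∈ (N ↘ Spec (CommRingCat.of k)).smoothLocus := by
    intro x' hx'
    letI := Curv2.resAlgebra k N x'
    haveI := (hNn x').1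
    haveI := (hNn x').2
    have hd : ringKrullDim (N.presheaf.stalk x') ≤ 1 := by
      rw [ringKrullDim_stalk_eq_coheight, ← hdim, ringKrullDim_stalk_eq_coheight]
      exact WithBot.coe_le_coe.2 (hx' ▸
        Order.coheight_le_coheight_apply_of_strictMono _ (Groth.GrpschAbsch.strictMono_of_isIntegralHom ν) x')
    haveI := Groth.CIntNormal.isRegularLocalRing_of_normal_dim_le_one hd
    refine (Groth.VarietyBC.mem_smoothLocus_iff_isRegularLocalRing x' ?_).2 inferInstance
    haveI := hsep x' hx'
    haveI : Algebra.IsGeometricallyReduced k (N.residueField x') := by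
      rw [Algebra.isGeometricallyReduced_field_iff]
      have := (hsep x' hx').geometrically_isReduced
        (Spec.map (CommRingCat.ofHom (algebraMap k (AlgebraicClosure k)))) _ _ (IsPullback.of_hasPullback _ _)
      haveI : IsReduced (Spec (CommRingCat.of (N.residueField x' ⊗[k] AlgebraicClosure k))) :=
        isReduced_of_isOpenImmersion (pullbackSpecIso k (N.residueField x') (AlgebraicClosure k)).inv
      haveI : _root_.IsReduced (N.residueField x' ⊗[k] AlgebraicClosure k) :=
        (affine_isReduced_iff (CommRingCat.of (N.residueField x' ⊗[k] AlgebraicClosure k))).1 inferInstance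
      exact isReduced_of_injective (Algebra.TensorProduct.comm k (AlgebraicClosure k) (N.residueField x'))
        (AlgEquiv.injective _)
    exact (Groth.Ega41Sep.formallySmooth_iff_isGeometricallyReduced k _).2 inferInstance
  refine ⟨?_, fun x' hx' K _ _ _ y hy => isRegular_bc (hsm x' hx') K y hy⟩
  obtain ⟨x', hx'⟩ := hNs.surj x
  let η := genericPoint N
  have hη : η ∈ (N ↘ Spec (CommRingCat.of k)).smoothLocus :=
    ((genericPoint_spec N).specializes trivial).mem_open (Scheme.Hom.smoothLocus _).isOpen (hsm x' hx')
  letI := Curv2.stalkAlgebra k N η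
  haveI : Algebra.IsGeometricallyReduced k (N.presheaf.stalk η) :=
    (Groth.VarietyBC.isGeomReducedAt_iff η).1 fun K _ _ y hy => by
      haveI := isRegular_bc hη K y hy
      haveI := Groth.Ega4Algebra1.isDomain_of_isRegularLocalRing ((Curv2.bc k N K).presheaf.stalk y)
      infer_instance
  letI := Curv2.stalkAlgebra k X x
  have hspec : ν η ⤳ x := by rw [hgen]; exact (genericPoint_spec X).specializes trivial
  let f : X.presheaf.stalk x →+* N.presheaf.stalk η :=
    (ν.stalkMap η).hom.comp (X.presheaf.stalkSpecializes hspec).hom
  haveI := (Groth.Calg4.NormChar.birational X).2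
  have hf : Function.Injective f :=
    (ConcreteCategory.bijective_of_isIso (ν.stalkMap η)).1.comp (injective_stalkSpecializes hspec hgen)
  have hfk : ∀ c : k, f (algebraMap k _ c) = algebraMap k (N.presheaf.stalk η) c := by
    have h : CommRingCat.ofHom (Curv2.stalkMap k X x) ≫ CommRingCat.ofHom f =
        CommRingCat.ofHom (Curv2.stalkMap k N η) := by
      apply Spec.map_injective
      rw [Spec.map_comp, ← Groth.VarietyBC.fromSpecStalk_str (k := k) (X := X) x,
        ← Groth.VarietyBC.fromSpecStalk_str (k := k) (X := N) η]
      rw [show CommRingCat.ofHom f = X.presheaf.stalkSpecializes hspec ≫ ν.stalkMap η from rfl,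
        Spec.map_comp, Category.assoc, Scheme.SpecMap_stalkSpecializes_fromSpecStalk_assoc,
        Scheme.SpecMap_stalkMap_fromSpecStalk_assoc]
      rfl
    exact fun c => congr($(h) c)
  let fa : X.presheaf.stalk x →ₐ[k] N.presheaf.stalk η := { f with commutes' := hfk }
  exact (Groth.VarietyBC.isGeomReducedAt_iff x).2 (Algebra.IsGeometricallyReduced.of_injective fa hf)

end Groth.Agent.S7617
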