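import Groth.Statements.S7618
import Groth.Agent.VarietyBC.Galois
import Groth.Agent.VarietyBC.IntegralIdem

set_option autoImplicit false
universe u
open CategoryTheory CategoryTheory.Limits AlgebraicGeometry
open Variety

namespace Groth.Agent.S7618

/-- Let X be a connected reduced scheme over a field k. Then the global functions on X that are integral
over k form a field. -/
theorem result (k : Type u) [Field k] (X : Scheme.{u}) [X.Over (Spec (CommRingCat.of k))] [ConnectedSpace ↥X] [IsReduced X] :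
    letI := ((X ↘ (Spec (CommRingCat.of k))).appTop.hom.comp (Scheme.ΓSpecIso (CommRingCat.of k)).inv.hom : k →+* Γ(X, ⊤)).toAlgebra
    IsField ↥(integralClosure k ↑Γ(X, ⊤)) := by
  let := ((X ↘ (Spec (CommRingCat.of k))).appTop.hom.comp (Scheme.ΓSpecIso (CommRingCat.of k)).inv.hom : k →+* Γ(X, ⊤)).toAlgebra
  have : Nonempty (⊤ : X.Opens).toScheme := ⟨⟨Classical.arbitrary X, trivial⟩⟩
  have : Nontrivial Γ(X, ⊤) := Scheme.component_nontrivial X ⊤
  have : Nontrivial (integralClosure k Γ(X, ⊤)) :=
    ⟨⟨0, 1, fun h => zero_ne_one (α := Γ(X, ⊤)) (congrArg Subtype.val h)⟩⟩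
  have : _root_.IsReduced Γ(X, ⊤) := inferInstance
  have : _root_.IsReduced (integralClosure k Γ(X, ⊤)) :=
    isReduced_of_injective (integralClosure k Γ(X, ⊤)).val Subtype.val_injective
  refine Groth.VarietyBC.isField_of_isIntegral (k := k) (Groth.VarietyBC.IdemTrivial.integralClosure fun e he => ?_)
  have hmul : X.basicOpen e ⊓ X.basicOpen (1 - e) = ⊥ := by
    rw [← Scheme.basicOpen_mul, mul_sub, mul_one, he.eq, sub_self, Scheme.basicOpen_zero]
  have hsup : ∀ x : X, x ∈ X.basicOpen e ∨ x ∈ X.basicOpen (1 - e) := fun x => by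
    rw [Scheme.mem_basicOpen_top, Scheme.mem_basicOpen_top]
    refine IsLocalRing.isUnit_or_isUnit_of_add_one ?_
    rw [← map_add, add_sub_cancel, map_one]
  have hcl : IsClopen (X.basicOpen e : Set X) := by
    refine ⟨?_, (X.basicOpen e).2⟩
    have : (X.basicOpen e : Set X) = (X.basicOpen (1 - e) : Set X)ᶜ := Set.ext fun x =>
      ⟨fun h1 h2 => Set.notMem_empty x (by
        have : x ∈ X.basicOpen e ⊓ X.basicOpen (1 - e) := ⟨h1, h2⟩
        rwa [hmul] at this), fun h => (hsup x).resolve_right h⟩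
    rw [this]
    exact (X.basicOpen (1 - e)).2.isClosed_compl
  rcases isClopen_iff.1 hcl with h | h
  · left
    exact (basicOpen_eq_bot_iff e).1 (SetLike.coe_injective h)
  · right
    have h0 : X.basicOpen (1 - e) = ⊥ := by
      rw [eq_bot_iff, ← hmul]
      exact fun x hx => ⟨show x ∈ (X.basicOpen e : Set X) from h ▸ Set.mem_univ x, hx⟩
    exact (sub_eq_zero.1 ((basicOpen_eq_bot_iff (1 - e)).1 h0)).symm

end Groth.Agent.S7618
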