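import Groth.Statements.S7619
import Mathlib.RingTheory.Unramified.Locus
import Mathlib.RingTheory.LocalRing.Module
import Mathlib.RingTheory.FiniteType
import Mathlib.RingTheory.Kaehler.Basic

set_option autoImplicit false
universe u
open CategoryTheory CategoryTheory.Limits AlgebraicGeometry
open scoped TensorProduct
open Variety

namespace Groth.Agent.S7619

/-- Let A → B be a finite type ring map (a finite type morphism of affine schemes), q a prime of B and r
= dim_{κ(q)} Ω_{B/A} ⊗_B κ(q). Then there is an A-algebra homomorphism A[x_1, …, x_r] → B for which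
B is unramified over A[x_1, …, x_r] at q. -/
theorem result (A B : Type u) [CommRing A] [CommRing B] [Algebra A B] [Algebra.FiniteType A B]
    (q : Ideal B) [q.IsPrime] (r : ℕ) (hr : Module.finrank q.ResidueField (q.ResidueField ⊗[B] Ω[B⁄A]) = r) :
    ∃ φ : MvPolynomial (Fin r) A →ₐ[A] B,
      letI := φ.toRingHom.toAlgebra
      Algebra.IsUnramifiedAt (MvPolynomial (Fin r) A) q := by
  classical
  let K := q.ResidueField
  let d : B → K ⊗[B] Ω[B⁄A] := fun b => (1 : K) ⊗ₜ KaehlerDifferential.D A B b
  have hspan : Submodule.span K (Set.range d) = ⊤ := by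
    have h := Submodule.baseChange_span (A := K) (R := B) (Set.range (KaehlerDifferential.D A B))
    rw [KaehlerDifferential.span_range_derivation, Submodule.baseChange_top, ← Set.range_comp] at h
    exact h.symm
  obtain ⟨s, hs, hsspan, hli⟩ := exists_linearIndependent K (Set.range d)
  have := hli.setFinite.fintype
  have hcard : Fintype.card s = r := by
    rw [← finrank_span_eq_card hli, Subtype.range_coe_subtype]
    change Module.finrank K (Submodule.span K s) = r
    rw [hsspan, hspan, finrank_top]
    exact hr
  let e : Fin r ≃ s := (finCongr hcard.symm).trans (Fintype.equivFin s).symm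
  choose b hb using fun i : Fin r => hs (e i).2
  refine ⟨MvPolynomial.aeval b, ?_⟩
  let : Algebra (MvPolynomial (Fin r) A) B := (MvPolynomial.aeval (R := A) b).toRingHom.toAlgebra
  have : IsScalarTower A (MvPolynomial (Fin r) A) B :=
    IsScalarTower.of_algebraMap_eq fun a => ((MvPolynomial.aeval (R := A) b).commutes a).symm
  have : Algebra.FiniteType (MvPolynomial (Fin r) A) B :=
    Algebra.FiniteType.of_restrictScalars_finiteType A _ B
  change Algebra.IsUnramifiedAt (MvPolynomial (Fin r) A) q
  have key : (⟨q, ‹_›⟩ : PrimeSpectrum B) ∈ Algebra.unramifiedLocus (MvPolynomial (Fin r) A) B := by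
    rw [Algebra.unramifiedLocus_eq_compl_support, Set.mem_compl_iff,
      Module.mem_support_iff_nontrivial_residueField_tensorProduct, not_nontrivial_iff_subsingleton]
    let Ψ : K ⊗[B] Ω[B⁄A] →ₗ[K] K ⊗[B] Ω[B⁄MvPolynomial (Fin r) A] :=
      (KaehlerDifferential.map A (MvPolynomial (Fin r) A) B B).baseChange K
    have hΨ : Function.Surjective Ψ :=
      LinearMap.lTensor_surjective _ (KaehlerDifferential.map_surjective_of_surjective _ _ _ _ Function.surjective_id)
    have hzero : Ψ = 0 := by
      refine LinearMap.ext_on (hsspan.trans hspan) fun z hz => ?_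
      obtain ⟨i, hi⟩ : ∃ i, (e i : K ⊗[B] Ω[B⁄A]) = z := ⟨e.symm ⟨z, hz⟩, by simp⟩
      rw [← hi, ← hb i]
      change (1 : K) ⊗ₜ[B] KaehlerDifferential.map A (MvPolynomial (Fin r) A) B B (KaehlerDifferential.D A B (b i)) = 0
      rw [KaehlerDifferential.map_D, show algebraMap B B (b i) = algebraMap (MvPolynomial (Fin r) A) B (MvPolynomial.X i) from
        (MvPolynomial.aeval_X b i).symm, Derivation.map_algebraMap, TensorProduct.tmul_zero]
    exact ⟨fun x y => by
      obtain ⟨x, rfl⟩ := hΨ x; obtain ⟨y, rfl⟩ := hΨ y
      rw [hzero]; rfl⟩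
  exact key

end Groth.Agent.S7619
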