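import Groth.Statements.S7620
import Mathlib.RingTheory.NoetherNormalization
import Mathlib.RingTheory.LocalRing.ResidueField.Ideal
import Groth.Agent.Variety2.DimAffine

set_option autoImplicit false
universe u
open CategoryTheory CategoryTheory.Limits AlgebraicGeometry
open scoped TensorProduct
open Variety

namespace Groth.Agent.S7620

/-- Let A → B be a finite type ring map (a finite type morphism of affine schemes X → S), p a prime of A
and suppose the fibre ring κ(p) ⊗_A B has Krull dimension d. Then there is an A-algebra homomorphism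
π : A[t_1, …, t_d] → B such that the induced map of fibres κ(p) ⊗_A A[t_1, …, t_d] → κ(p) ⊗_A B is
finite. -/
theorem result (A B : Type u) [CommRing A] [CommRing B] [Algebra A B] [Algebra.FiniteType A B]
    (p : Ideal A) [p.IsPrime] (d : ℕ) (hd : ringKrullDim (p.ResidueField ⊗[A] B) = d) :
    ∃ π : MvPolynomial (Fin d) A →ₐ[A] B,
      (Algebra.TensorProduct.map (AlgHom.id p.ResidueField p.ResidueField) π).toRingHom.Finite := by
  classical
  let F := p.ResidueField ⊗[A] B
  have key : ∀ z : F, ∃ (c : p.ResidueField) (b : B), c ≠ 0 ∧ z = c ⊗ₜ b := by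
    intro z
    induction z using TensorProduct.induction_on with
    | zero => exact ⟨1, 0, one_ne_zero, by simp⟩
    | tmul c b =>
      obtain ⟨a, s, hs, rfl⟩ := IsFractionRing.div_surjective (A := A ⧸ p) c
      obtain ⟨a, rfl⟩ := Ideal.Quotient.mk_surjective a
      obtain ⟨s, rfl⟩ := Ideal.Quotient.mk_surjective s
      have hs0 : algebraMap A p.ResidueField s ≠ 0 := fun h => by
        rw [Ideal.algebraMap_residueField_eq_zero] at h
        exact nonZeroDivisors.ne_zero hs (Ideal.Quotient.eq_zero_iff_mem.2 h)
      refine ⟨(algebraMap A p.ResidueField s)⁻¹, a • b, inv_ne_zero hs0, ?_⟩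
      rw [TensorProduct.tmul_smul, TensorProduct.smul_tmul']
      congr 1
      rw [Algebra.smul_def, ← div_eq_mul_inv]
      rfl
    | add x y hx hy =>
      obtain ⟨c, b, hc, rfl⟩ := hx
      obtain ⟨c', b', hc', rfl⟩ := hy
      obtain ⟨a, s, hs, hq⟩ := IsFractionRing.div_surjective (A := A ⧸ p) (c' / c)
      obtain ⟨a, rfl⟩ := Ideal.Quotient.mk_surjective a
      obtain ⟨s, rfl⟩ := Ideal.Quotient.mk_surjective s
      have hs0 : algebraMap A p.ResidueField s ≠ 0 := fun h => by
        rw [Ideal.algebraMap_residueField_eq_zero] at h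
        exact nonZeroDivisors.ne_zero hs (Ideal.Quotient.eq_zero_iff_mem.2 h)
      refine ⟨c / algebraMap A p.ResidueField s, s • b + a • b', div_ne_zero hc hs0, ?_⟩
      rw [TensorProduct.tmul_add, TensorProduct.tmul_smul, TensorProduct.tmul_smul,
        TensorProduct.smul_tmul', TensorProduct.smul_tmul', Algebra.smul_def, Algebra.smul_def]
      have hq' : algebraMap A p.ResidueField a / algebraMap A p.ResidueField s = c' / c := hq
      congr 2
      · rw [mul_div_cancel₀ _ hs0]
      · rw [mul_div_left_comm, hq', mul_div_cancel₀ _ hc]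
  have : Nontrivial F := by
    by_contra hn
    rw [not_nontrivial_iff_subsingleton] at hn
    rw [ringKrullDim_eq_bot_of_subsingleton] at hd
    exact WithBot.bot_ne_coe hd
  have : Algebra.FiniteType p.ResidueField F := inferInstance
  obtain ⟨s, g, hg, hgf⟩ := exists_finite_inj_algHom_of_fg p.ResidueField F
  have hsd : s = d := by
    algebraize [g.toRingHom]
    have : Module.Finite (MvPolynomial (Fin s) p.ResidueField) F := hgf
    have : Algebra.IsIntegral (MvPolynomial (Fin s) p.ResidueField) F := Algebra.IsIntegral.of_finite _ _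
    have h1 := Groth.Variety2.Dim.ringKrullDim_eq_of_isIntegral (MvPolynomial (Fin s) p.ResidueField) F hg
    rw [hd, MvPolynomial.ringKrullDim_of_isNoetherianRing, ringKrullDim_eq_zero_of_field, zero_add] at h1
    rw [Nat.card_eq_fintype_card, Fintype.card_fin] at h1
    exact_mod_cast h1.symm
  subst hsd
  choose c b hc hcb using fun i => key (g (MvPolynomial.X i))
  refine ⟨MvPolynomial.aeval b, ?_⟩
  let h : MvPolynomial (Fin s) p.ResidueField →ₐ[p.ResidueField] p.ResidueField ⊗[A] MvPolynomial (Fin s) A :=
    MvPolynomial.aeval fun i => c i ⊗ₜ MvPolynomial.X i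
  have hcomp : (Algebra.TensorProduct.map (AlgHom.id p.ResidueField p.ResidueField) (MvPolynomial.aeval (R := A) b)).comp h = g := by
    ext i
    simp [h, hcb]
  refine RingHom.Finite.of_comp_finite (f := h.toRingHom) ?_
  rw [← hcomp] at hgf
  exact hgf

end Groth.Agent.S7620
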