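import Groth.Statements.S7622
import Groth.Agent.S2452
import Groth.Agent.Calg6.PowerSeries
import Mathlib.RingTheory.AdicCompletion.LocalRing

set_option autoImplicit false
universe u
open CategoryTheory CategoryTheory.Limits AlgebraicGeometry
open Variety

namespace Groth.Agent.S7622

/-- Let A be a Noetherian local algebra over a field k (such as the local ring of a locally Noetherian
k-scheme at a point) whose residue field κ is a separable extension of k, meaning geometrically
reduced over k; κ need not be algebraic over k. Then there are n ≥ 0, an ideal I of κ[[x_1, …, x_n]]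
and a k-algebra isomorphism e from κ[[x_1, …, x_n]]/I onto the completion A^∧ of A at its maximal
ideal which induces the identity on residue fields: for every a in A, the value of e on the constant
power series whose value is the residue class of a is congruent to the image of a modulo the
extended maximal ideal of A^∧. -/
theorem result (k A : Type u) [Field k] [CommRing A] [Algebra k A]
    [IsNoetherianRing A] [IsLocalRing A] [Algebra.IsGeometricallyReduced k (IsLocalRing.ResidueField A)] :
    ∃ (n : ℕ) (I : Ideal (MvPowerSeries (Fin n) (IsLocalRing.ResidueField A)))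
      (e : (MvPowerSeries (Fin n) (IsLocalRing.ResidueField A) ⧸ I) ≃ₐ[k]
        AdicCompletion (IsLocalRing.maximalIdeal A) A),
      ∀ a : A, e (Ideal.Quotient.mk I (MvPowerSeries.C (IsLocalRing.residue A a))) -
          algebraMap A (AdicCompletion (IsLocalRing.maximalIdeal A) A) a ∈
        (IsLocalRing.maximalIdeal A).map (algebraMap A (AdicCompletion (IsLocalRing.maximalIdeal A) A)) := by
  classical
  set Ah := AdicCompletion (IsLocalRing.maximalIdeal A) A with hAh
  let ι : A →ₐ[k] Ah := IsScalarTower.toAlgHom k A Ah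
  have hfg : (IsLocalRing.maximalIdeal A).FG := IsNoetherian.noetherian _
  have hbij := AdicCompletion.residueField_map_bijective_of_fg hfg
  let ρ : IsLocalRing.ResidueField A →ₐ[k] IsLocalRing.ResidueField Ah :=
    { IsLocalRing.ResidueField.map (algebraMap A Ah) with
      commutes' := fun c => by
        show IsLocalRing.ResidueField.map (algebraMap A Ah)
          (IsLocalRing.residue A (algebraMap k A c)) = IsLocalRing.residue Ah (algebraMap k Ah c)
        rw [IsLocalRing.ResidueField.map_residue, ← IsScalarTower.algebraMap_apply] }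
  let ρe : IsLocalRing.ResidueField A ≃ₐ[k] IsLocalRing.ResidueField Ah :=
    AlgEquiv.ofBijective ρ hbij
  haveI : Algebra.IsGeometricallyReduced k (IsLocalRing.ResidueField Ah) :=
    Algebra.IsGeometricallyReduced.of_injective ρe.symm.toAlgHom ρe.symm.injective
  obtain ⟨σ, hσ⟩ := Groth.Agent.S2452.result (k := k) (A := Ah)
  let s : IsLocalRing.ResidueField A →ₐ[k] Ah := σ.comp ρ
  letI : Algebra (IsLocalRing.ResidueField A) Ah := s.toRingHom.toAlgebra
  haveI : IsScalarTower k (IsLocalRing.ResidueField A) Ah :=
    IsScalarTower.of_algebraMap_eq fun c => (s.commutes c).symm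
  obtain ⟨S, hS⟩ := hfg
  let a : Fin S.card → Ah := fun i => algebraMap A Ah (S.equivFin.symm i).1
  have hspan : Ideal.span (Set.range a) = IsLocalRing.maximalIdeal Ah := by
    have h2 : (Ideal.span (S : Set A)).map (algebraMap A Ah) =
        (IsLocalRing.maximalIdeal A).map (algebraMap A Ah) := congrArg (Ideal.map (algebraMap A Ah)) hS
    rw [AdicCompletion.maximalIdeal_eq_map]
    refine Eq.trans ?_ h2
    rw [Ideal.map_span]
    congr 1
    ext x
    constructor
    · rintro ⟨i, rfl⟩
      exact ⟨_, (S.equivFin.symm i).2, rfl⟩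
    · rintro ⟨y, hy, rfl⟩
      exact ⟨S.equivFin ⟨y, hy⟩, by simp [a]⟩
  have hmem : ∀ i, a i ∈ IsLocalRing.maximalIdeal Ah := fun i => hspan ▸ Ideal.subset_span ⟨i, rfl⟩
  let ψ : MvPowerSeries (Fin S.card) (IsLocalRing.ResidueField A) →ₐ[IsLocalRing.ResidueField A] Ah :=
    Groth.Calg6.evalAdic (IsLocalRing.maximalIdeal Ah) a hmem
  have hmap : (SGA7.PS.varIdeal (Fin S.card) (IsLocalRing.ResidueField A)).map ψ.toRingHom =
      IsLocalRing.maximalIdeal Ah := by
    rw [SGA7.PS.varIdeal, Ideal.map_span, ← hspan, ← Set.range_comp]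
    congr 1
    ext i
    simp only [Set.mem_range, Function.comp_apply]
    constructor
    · rintro ⟨j, rfl⟩; exact ⟨j, (Groth.Calg6.evalAdic_X _ a hmem j).symm⟩
    · rintro ⟨j, rfl⟩; exact ⟨j, Groth.Calg6.evalAdic_X _ a hmem j⟩
  have hres : ∀ x : IsLocalRing.ResidueField A,
      IsLocalRing.residue Ah (ψ (MvPowerSeries.C x)) = ρ x := fun x => by
    rw [show (MvPowerSeries.C x : MvPowerSeries (Fin S.card) (IsLocalRing.ResidueField A)) =
      algebraMap _ _ x from rfl, AlgHom.commutes]
    exact hσ (ρ x)
  have hsurj : Function.Surjective ψ := by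
    haveI : IsHausdorff ((SGA7.PS.varIdeal (Fin S.card) (IsLocalRing.ResidueField A)).map ψ.toRingHom) Ah := by
      rw [hmap]; infer_instance
    refine Groth.Calg6.surjective_of_map_varIdeal ψ.toRingHom fun x => ?_
    obtain ⟨c, hc⟩ := hbij.2 (IsLocalRing.residue Ah x)
    refine ⟨c, ?_⟩
    rw [hmap, ← IsLocalRing.residue_eq_zero_iff, map_sub, sub_eq_zero]
    exact hc.symm.trans (hres c).symm
  let ψk := ψ.restrictScalars k
  refine ⟨S.card, RingHom.ker ψk, Ideal.quotientKerAlgEquivOfSurjective (f := ψk) hsurj, fun x => ?_⟩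
  rw [← AdicCompletion.maximalIdeal_eq_map, ← IsLocalRing.residue_eq_zero_iff, map_sub, sub_eq_zero]
  show IsLocalRing.residue Ah (ψ (MvPowerSeries.C (IsLocalRing.residue A x))) = _
  rw [hres]
  exact IsLocalRing.ResidueField.map_residue _ x

end Groth.Agent.S7622
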