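import Groth.Statements.S7623
import Groth.Agent.Calg4.SmoothFreeKaehler

set_option autoImplicit false
universe u
open CategoryTheory CategoryTheory.Limits AlgebraicGeometry
open Variety

namespace Groth.Agent.S7623

open TensorProduct

/-- Let k be a perfect field and A a reduced finite type k-algebra such that Ω_{A/k} is a projective
A-module (locally free, as it is finitely presented). Then A is smooth over k. The scheme statement,
X reduced and locally of finite type over k with Ω_{X/k} locally free is smooth over k, is this
assertion on affine opens. -/
theorem result (k A : Type u) [Field k] [PerfectField k] [CommRing A] [Algebra k A]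
    [Algebra.FiniteType k A] [_root_.IsReduced A] [Module.Projective A Ω[A⁄k]] : Algebra.Smooth k A := by
  have : IsNoetherianRing A := Algebra.FiniteType.isNoetherianRing k A
  have : Algebra.FinitePresentation k A := Algebra.FinitePresentation.of_finiteType.mp inferInstance
  refine ⟨Algebra.smoothLocus_eq_univ_iff.mp (Set.eq_univ_of_forall fun q => ?_), inferInstance⟩
  obtain ⟨p, hp, hpq⟩ := Ideal.exists_minimalPrimes_le (J := q.asIdeal) (I := (⊥ : Ideal A)) bot_le
  have : p.IsPrime := hp.1.1
  let B := Localization.AtPrime q.asIdeal
  have : Algebra.FormallyEtale A B := Algebra.FormallyEtale.of_isLocalization q.asIdeal.primeCompl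
  let e := KaehlerDifferential.tensorKaehlerEquivOfFormallyEtale k A B
  have : Module.Free B (B ⊗[A] Ω[A⁄k]) := Module.free_of_flat_of_isLocalRing
  have : Module.Free B Ω[B⁄k] := Module.Free.of_equiv e
  have : IsReduced (Localization.AtPrime p) := inferInstance
  let eF := Groth.Calg4.residueEquivOfReduced (k := k) p hp
  have : Algebra.EssFiniteType k p.ResidueField := Algebra.EssFiniteType.comp k A _
  have : Algebra.FormallySmooth k p.ResidueField := Algebra.FormallySmooth.of_perfectField
  have : Algebra.FormallySmooth k (Localization.AtPrime p) := Algebra.FormallySmooth.of_equiv eF.symm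
  exact Groth.Calg4.isSmoothAt_of_free_of_minimal q.asIdeal p hpq hp

end Groth.Agent.S7623
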