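import Groth.Statements.S7625
import Groth.Agent.CMMor.QFChart

set_option autoImplicit false
universe u
open CategoryTheory CategoryTheory.Limits AlgebraicGeometry
open Variety

namespace Groth.Agent.S7625

/-- Let f : X → S be locally of finite type, x a point of X with image s, V an affine open neighbourhood
of s in S, and suppose dim_x(X_s) = d. Then there is an affine open neighbourhood U of x with f(U) ⊆
V and a factorisation of f|_U as U → 𝔸^d_V → V with U → 𝔸^d_V locally quasi-finite and locally of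
finite type (hence quasi-finite, U being affine). -/
theorem result {X S : Scheme.{u}} (f : X ⟶ S) [LocallyOfFiniteType f] (x : ↥X)
    (V : S.Opens) (hV : IsAffineOpen V) (hxV : f x ∈ V) (d : ℕ) (hd : FlatMor.fibreDimAt f x = d) :
    ∃ (U : X.Opens), IsAffineOpen U ∧ x ∈ U ∧
      ∃ (g : (U : Scheme.{u}) ⟶ (V : Scheme.{u})) (π : (U : Scheme.{u}) ⟶ 𝔸(ULift.{u} (Fin d); (V : Scheme.{u}))),
        g ≫ V.ι = U.ι ≫ f ∧ π ≫ (𝔸(ULift.{u} (Fin d); (V : Scheme.{u})) ↘ (V : Scheme.{u})) = g ∧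
          LocallyQuasiFinite π ∧ LocallyOfFiniteType π := by
  let σ := ULift.{u} (Fin d)
  obtain ⟨U₀, g₀, hxU₀, hg₀, hqf⟩ := Groth.CMMor.exists_lqf_toAffineSpace f x d hd.le
  obtain ⟨U, hU, hxU, hle⟩ := exists_isAffineOpen_mem_and_subset (U := U₀ ⊓ f ⁻¹ᵁ V) (x := x) ⟨hxU₀, hxV⟩
  have hleV : U ≤ f ⁻¹ᵁ V := fun y hy => (hle hy).2
  have hleU : U ≤ U₀ := fun y hy => (hle hy).1
  have hr : Set.range (U.ι ≫ f) ⊆ Set.range V.ι := by
    rw [Scheme.Opens.range_ι]
    rintro _ ⟨y, rfl⟩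
    exact hleV y.2
  let g := IsOpenImmersion.lift V.ι (U.ι ≫ f) hr
  have hg : g ≫ V.ι = U.ι ≫ f := IsOpenImmersion.lift_fac _ _ _
  let a := X.homOfLE hleU ≫ g₀
  have hP := AffineSpace.isPullback_map (n := σ) V.ι
  have hw : a ≫ (𝔸(σ; S) ↘ S) = g ≫ V.ι := by
    rw [hg, Category.assoc, hg₀, Scheme.homOfLE_ι_assoc]
  let π := hP.lift a g hw
  have h1 : π ≫ AffineSpace.map σ V.ι = a := hP.lift_fst _ _ _
  have h2 : π ≫ (𝔸(σ; (V : Scheme.{u})) ↘ (V : Scheme.{u})) = g := hP.lift_snd _ _ _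
  have : LocallyQuasiFinite g₀ := hqf
  have : LocallyQuasiFinite (π ≫ AffineSpace.map σ V.ι) := by rw [h1]; infer_instance
  have hgft : LocallyOfFiniteType (g ≫ V.ι) := by rw [hg]; infer_instance
  have : LocallyOfFiniteType g := locallyOfFiniteType_of_comp g V.ι
  have : LocallyOfFiniteType (π ≫ (𝔸(σ; (V : Scheme.{u})) ↘ (V : Scheme.{u}))) := by rw [h2]; infer_instance
  exact ⟨U, hU, hxU, g, π, hg, h2, LocallyQuasiFinite.of_comp π (AffineSpace.map σ V.ι),
    locallyOfFiniteType_of_comp π (𝔸(σ; (V : Scheme.{u})) ↘ (V : Scheme.{u}))⟩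

end Groth.Agent.S7625
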