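import Groth.Statements.S7626
import Groth.Agent.RelVA.PnData
import Groth.Agent.Ega2Proj.AmpleBasic
import Groth.Agent.KTheory.RegSheaf
-- import your own Groth.Agent.* helpers here

set_option autoImplicit false
universe u
open CategoryTheory CategoryTheory.Limits AlgebraicGeometry
open Variety

namespace Groth.Agent.S7626

open Groth.PicAux Groth.PropsBasic.Ample

/-- The functions of an immersion into an affine scheme separate points. -/
theorem eq_of_imm {X : Scheme.{u}} {G : X.Opens} {T : Subring Γ(X, G)} (h : Groth.RelVA.Imm G T)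
    {x p : X} (hx : x ∈ G) (hp : p ∈ G) (hT : ∀ r ∈ T, x ∈ X.basicOpen r ↔ p ∈ X.basicOpen r) : x = p := by
  obtain ⟨D, hD, j, hj, hjT⟩ := h
  have key : ∀ (a : Γ(D, ⊤)) (z : G.toScheme), j z ∈ D.basicOpen a ↔ (G.ι z) ∈ X.basicOpen (Groth.RelVA.kf j a) := by
    intro a z
    have h1 : G.ι ''ᵁ (j ⁻¹ᵁ D.basicOpen a) = X.basicOpen (Groth.RelVA.kf j a) := by
      rw [Scheme.preimage_basicOpen, Scheme.image_basicOpen]
      simp only [Groth.RelVA.kf, Scheme.Opens.topIso_hom, CommRingCat.hom_comp, RingHom.comp_apply]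
      erw [Scheme.basicOpen_res_eq, Scheme.Opens.ι_appIso]
      rfl
    rw [← h1]
    exact ⟨fun hz => ⟨z, hz, rfl⟩, fun ⟨z', hz', e⟩ => G.ι.isOpenEmbedding.injective e ▸ hz'⟩
  have hins : Inseparable (j ⟨x, hx⟩) (j ⟨p, hp⟩) := by
    refine inseparable_iff_forall_isOpen.2 fun O hO => ?_
    have aux : ∀ a b : G.toScheme, (∀ r ∈ T, G.ι a ∈ X.basicOpen r → G.ι b ∈ X.basicOpen r) →
        j a ∈ O → j b ∈ O := fun a b hab ha => by
      obtain ⟨f, hle, hf⟩ := (isAffineOpen_top D).exists_basicOpen_le (V := ⟨O, hO⟩) ⟨j a, ha⟩ trivial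
      exact hle ((key f b).2 (hab _ (hjT f) ((key f a).1 hf)))
    exact ⟨aux _ _ fun r hr => (hT r hr).1, aux _ _ fun r hr => (hT r hr).2⟩
  exact congrArg Subtype.val (j.isEmbedding.injective hins.eq)

/-- Let k be an infinite field, X a scheme of finite type over k, L a very ample invertible O_X-module
on X over k, n ≥ 0, x a k-rational point of X and x_1, …, x_n points of X with x_i ≠ x. Then there
is a global section s of L which vanishes at x (x is not in the open where s generates L) but does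
not vanish at any x_i. -/
theorem result (k : Type u) [Field k] (X : Scheme.{u}) [X.Over (Spec (CommRingCat.of k))] [Infinite k]
    [LocallyOfFiniteType (X ↘ (Spec (CommRingCat.of k)))] [QuasiCompact (X ↘ (Spec (CommRingCat.of k)))]
    (L : X.Modules) (hL : RelAmple.IsRelVeryAmplePn (X ↘ (Spec (CommRingCat.of k))) L)
    (x : ↥X) (hx : Function.Surjective (Curv2.resMap k X x)) (n : ℕ) (pts : Fin n → ↥X) (hne : ∀ i, pts i ≠ x) :
    ∃ s : Coh.structureModule X ⟶ L, x ∉ CohB1.genLocus L s ∧ ∀ i, pts i ∈ CohB1.genLocus L s := by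
  classical
  let q := X ↘ Spec (CommRingCat.of k)
  obtain ⟨m, s, hs⟩ := Groth.RelVA.hasPnData_of_pn hL
  have hLi : PicF.IsInvertible L := by
    obtain ⟨N, i, -, -, ⟨e⟩⟩ := hL
    exact Groth.PicAux.isInvertible_of_iso
      (Groth.PicAux.isInvertible_pullback i (Groth.KTheory.RegSheaf.isInvertible_twistOver N _ 1)) e.symm
  let K0 : k →+* Γ(X, ⊤) := Coh.toGlobal q
  let ev : ∀ (y : X) (U : X.Opens), y ∈ U → Γ(X, U) →+* X.residueField y := fun y U hy =>
    (X.residue y).hom.comp (X.presheaf.germ U y hy).hom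
  have hevu : ∀ (y : X) (U : X.Opens) (hy : y ∈ U) (c : Γ(X, U)), y ∈ X.basicOpen c ↔ ev y U hy c ≠ 0 := by
    intro y U hy c
    rw [X.mem_basicOpen c y hy]
    exact IsLocalRing.notMem_maximalIdeal.symm.trans (IsLocalRing.residue_eq_zero_iff _).not.symm
  have hevK : ∀ (y : X) (U : X.Opens) (hy : y ∈ U) (c : k),
      ev y U hy (resX X le_top (K0 c)) = Curv2.resMap k X y c := fun y U hy c =>
    congrArg (X.residue y).hom (TopCat.Presheaf.germ_res_apply X.presheaf (homOfLE le_top) y hy (K0 c))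
  let t : (Fin (m + 1) → k) → Γ(L, ⊤) := fun v => ∑ j, K0 (v j) • s j
  -- membership through a local generator
  have hmem : ∀ {U : X.Opens} {e : Γ(L, U)} (he : Gen L U e) (c : Fin (m + 1) → Γ(X, U))
      (_ : ∀ j, res L le_top (s j) = c j • e) (y : X) (hy : y ∈ U) (v : Fin (m + 1) → k),
      y ∈ gloc (t v) ↔ ∑ j, Curv2.resMap k X y (v j) * ev y U hy (c j) ≠ 0 := by
    intro U e he c hc y hy v
    have hsum : res L (le_top : U ≤ ⊤) (t v) = (∑ j, resX X le_top (K0 (v j)) * c j) • e := by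
      rw [Groth.Ega2Proj.res_sum, Finset.sum_smul]
      exact Finset.sum_congr rfl fun j _ => by rw [res_smul, hc, smul_smul]
    rw [Groth.Ega2Proj.mem_gloc_iff he hsum hy, ← X.mem_basicOpen _ y hy, hevu y U hy, map_sum]
    simp only [map_mul, hevK]
  have hV : ∀ y : X, ∃ V : Submodule k (Fin (m + 1) → k), ∀ v, v ∈ V ↔ y ∉ gloc (t v) := by
    intro y
    obtain ⟨U, hy, e, c, he, hc⟩ := Groth.Ega2Proj.exists_coeffs hLi s y
    letI := Curv2.resAlgebra k X y
    refine ⟨LinearMap.ker (Fintype.linearCombination k (fun j => ev y U hy (c j))), fun v => ?_⟩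
    rw [LinearMap.mem_ker, Fintype.linearCombination_apply, hmem he c hc y hy v, not_not]
    simp only [Algebra.smul_def]
    rfl
  choose V hVmem using hV
  have hsingle : ∀ j, t (Pi.single j 1) = s j := fun j => by
    simp [t, Pi.single_apply, apply_ite K0, ite_smul]
  have hproper : ∀ i, ¬ V x ≤ V (pts i) := by
    intro i hle
    obtain ⟨j₀, hxG, himm⟩ := hs x
    obtain ⟨j₁, hp₁, -⟩ := hs (pts i)
    set G := gloc (s j₀)
    have he : Gen L G (res L le_top (s j₀)) := gen_gloc (s j₀) le_rfl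
    choose c hc using fun j => he.exists_coeff le_rfl (res L (le_top : G ≤ ⊤) (s j))
    have hc' : ∀ j, res L (le_top : G ≤ ⊤) (s j) = c j • res L le_top (s j₀) := fun j => by
      rw [hc j, res_self]
    have hc0 : c j₀ = 1 := (he G le_rfl).1 (by
      show c j₀ • res L le_rfl _ = (1 : Γ(X, G)) • res L le_rfl _
      rw [res_self, ← hc', one_smul])
    choose lam hlam using fun j => hx (ev x G hxG (c j))
    let w : Fin (m + 1) → Fin (m + 1) → k := fun j => Pi.single j 1 - lam j • Pi.single j₀ 1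
    have hev : ∀ (y : X) (hy : y ∈ G) (j), ∑ l, Curv2.resMap k X y (w j l) * ev y G hy (c l) =
        ev y G hy (c j) - Curv2.resMap k X y (lam j) := fun y hy j => by
      simp [w, sub_mul, Finset.sum_sub_distrib, Pi.single_apply, hc0, apply_ite (Curv2.resMap k X y)]
    have hwx : ∀ j, w j ∈ V x := fun j => by
      rw [hVmem, hmem he c hc' x hxG, not_not, hev, hlam, sub_self]
    have hpG : pts i ∈ G := by
      by_contra hp
      have h0 : (Pi.single j₀ 1 : Fin (m + 1) → k) ∈ V (pts i) := by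
        rw [hVmem, hsingle]; exact hp
      have h1 : (Pi.single j₁ 1 : Fin (m + 1) → k) ∈ V (pts i) := by
        have := add_mem (hle (hwx j₁)) (Submodule.smul_mem _ (lam j₁) h0)
        rwa [show w j₁ + lam j₁ • Pi.single j₀ 1 = (Pi.single j₁ 1 : Fin (m + 1) → k) from sub_add_cancel _ _] at this
      rw [hVmem, hsingle] at h1
      exact h1 hp₁
    have hlamp : ∀ j, ev (pts i) G hpG (c j) = Curv2.resMap k X (pts i) (lam j) := fun j => by
      have h := hle (hwx j)
      rw [hVmem, hmem he c hc' (pts i) hpG, not_not, hev, sub_eq_zero] at h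
      exact h
    refine hne i (eq_of_imm himm hpG hxG fun r hr => ?_)
    suffices h : ∃ l : k, ev x G hxG r = Curv2.resMap k X x l ∧
        ev (pts i) G hpG r = Curv2.resMap k X (pts i) l by
      obtain ⟨l, h1, h2⟩ := h
      rw [hevu _ G hxG, hevu _ G hpG, h1, h2, map_ne_zero, map_ne_zero]
    induction hr using Subring.closure_induction with
    | mem a ha =>
      rcases ha with ⟨z, rfl⟩ | ⟨l, hl⟩
      · obtain ⟨a, rfl⟩ := (ConcreteCategory.bijective_of_isIso (Scheme.ΓSpecIso (CommRingCat.of k)).inv).2 z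
        exact ⟨a, hevK x G hxG a, hevK (pts i) G hpG a⟩
      · have : a = c l := (he G le_rfl).1 (by
          show a • res L le_rfl _ = c l • res L le_rfl _
          rw [res_self, ← hl, hc'])
        subst this
        exact ⟨lam l, (hlam l).symm, hlamp l⟩
    | zero => exact ⟨0, by simp, by simp⟩
    | one => exact ⟨1, by simp, by simp⟩
    | add a b _ _ ha hb =>
      obtain ⟨l, h1, h2⟩ := ha; obtain ⟨l', h1', h2'⟩ := hb
      exact ⟨l + l', by simp [h1, h1'], by simp [h2, h2']⟩
    | neg a _ ha =>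
      obtain ⟨l, h1, h2⟩ := ha
      exact ⟨-l, by simp [h1], by simp [h2]⟩
    | mul a b _ _ ha hb =>
      obtain ⟨l, h1, h2⟩ := ha; obtain ⟨l', h1', h2'⟩ := hb
      exact ⟨l * l', by simp [h1, h1'], by simp [h2, h2']⟩
  let S : Finset (Subspace k (V x)) := Finset.univ.image fun i => (V (pts i)).comap (V x).subtype
  have hS : ⊤ ∉ S := fun h => by
    obtain ⟨i, -, hi⟩ := Finset.mem_image.1 h
    exact hproper i fun v hv => (hi.ge (Submodule.mem_top (x := ⟨v, hv⟩)) :)
  obtain ⟨v, hv⟩ := (Set.ne_univ_iff_exists_notMem _).1 (Subspace.biUnion_ne_univ_of_top_notMem hS)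
  refine ⟨homOfSection (t v.1), (hVmem x v.1).1 v.2, fun i => ?_⟩
  by_contra hi
  exact hv (Set.mem_iUnion₂.2 ⟨_, Finset.mem_image_of_mem _ (Finset.mem_univ i), (hVmem _ v.1).2 hi⟩)

end Groth.Agent.S7626
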