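import Groth.Statements.S7627
import Groth.Agent.Ega4Algebra2.SchemeFibre
import Groth.Agent.Calg4.RegularFlat
import Groth.Agent.VarietyBC.Fibre
import Groth.Agent.CMMor.BaseChange

set_option autoImplicit false
universe u
open CategoryTheory CategoryTheory.Limits AlgebraicGeometry
attribute [local instance] Curv2.resAlgebra
open scoped TensorProduct
open Variety

namespace Groth.Agent.S7627

open TensorProduct IsLocalRing
attribute [local instance] Curv2.resAlgebra

/-- Let X be locally of finite type over a field k, K an extension field of k, y a point of X_K with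
image x in X. Assume dim O_{X, x} = dim O_{X_K, y} and that κ(x) ⊗_k K is reduced (for instance
κ(x)/k separable or K/k separable). Then m_x O_{X_K, y} = m_y. -/
theorem result (k : Type u) [Field k] (X : Scheme.{u}) [X.Over (Spec (CommRingCat.of k))] [LocallyOfFiniteType (X ↘ (Spec (CommRingCat.of k)))]
    (K : Type u) [Field K] [Algebra k K] (y : ↥(Curv2.bc k X K))
    (hdim : ringKrullDim ↥(X.presheaf.stalk (Curv2.bcFst k X K y)) = ringKrullDim ↥((Curv2.bc k X K).presheaf.stalk y))
    (hred : _root_.IsReduced (X.residueField (Curv2.bcFst k X K y) ⊗[k] K)) :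
    Ideal.map ((Curv2.bcFst k X K).stalkMap y).hom (IsLocalRing.maximalIdeal ↥(X.presheaf.stalk (Curv2.bcFst k X K y))) =
      IsLocalRing.maximalIdeal ↥((Curv2.bc k X K).presheaf.stalk y) := by
  let q := Curv2.bcFst k X K
  let w := q y
  haveI : IsLocallyNoetherian X := LocallyOfFiniteType.isLocallyNoetherian (X ↘ Spec (CommRingCat.of k))
  haveI : LocallyOfFiniteType (Curv2.bcSnd k X K) := MorphismProperty.pullback_snd _ _ inferInstance
  haveI : IsLocallyNoetherian (Curv2.bc k X K) := LocallyOfFiniteType.isLocallyNoetherian (Curv2.bcSnd k X K)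
  have hfk : Flat (Spec.map (CommRingCat.ofHom (algebraMap k K))) := Groth.CMMor.flat_SpecMap_field _
  haveI : Flat q := MorphismProperty.pullback_fst _ _ hfk
  letI := (q.stalkMap y).hom.toAlgebra
  haveI : IsLocalHom (algebraMap (X.presheaf.stalk w) ((Curv2.bc k X K).presheaf.stalk y)) :=
    inferInstanceAs (IsLocalHom (q.stalkMap y).hom)
  haveI : Module.Flat (X.presheaf.stalk w) ((Curv2.bc k X K).presheaf.stalk y) := Flat.stalkMap q y
  let B := (Curv2.bc k X K).presheaf.stalk y
  let I : Ideal B := (maximalIdeal (X.presheaf.stalk w)).map (algebraMap (X.presheaf.stalk w) B)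
  obtain ⟨e⟩ := Groth.Ega4b.nonempty_fiberStalk_equiv q y
  -- the fibre is the spectrum of `κ ⊗ K`
  have hP : IsPullback (q.fiberι w ≫ Curv2.bcSnd k X K) (q.fiberToSpecResidueField w)
      (Spec.map (CommRingCat.ofHom (algebraMap k K))) (Spec.map (CommRingCat.ofHom (Curv2.resMap k X w))) := by
    refine (Groth.VarietyBC.fromSpecResidueField_str (k := k) (X := X) w) ▸ ?_
    exact (IsPullback.of_hasPullback q (X.fromSpecResidueField w)).paste_horiz
      (IsPullback.of_hasPullback (X ↘ Spec (CommRingCat.of k)) (Spec.map (CommRingCat.ofHom (algebraMap k K)))).flip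
  have hS := isPullback_SpecMap_of_isPushout _ _ _ _
    (CommRingCat.isPushout_tensorProduct k K (X.residueField w))
  let i := hP.isoIsPullback _ _ hS
  haveI : _root_.IsReduced (K ⊗[k] X.residueField w) :=
    isReduced_of_injective (Algebra.TensorProduct.comm k K (X.residueField w)) (AlgEquiv.injective _)
  haveI : AlgebraicGeometry.IsReduced (Spec (CommRingCat.of (K ⊗[k] X.residueField w))) :=
    (affine_isReduced_iff (CommRingCat.of (K ⊗[k] X.residueField w))).2 inferInstance
  haveI : AlgebraicGeometry.IsReduced (q.fiber w) := isReduced_of_isOpenImmersion i.hom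
  haveI : _root_.IsReduced ((q.fiber w).presheaf.stalk (q.asFiber y)) := inferInstance
  haveI : _root_.IsReduced (B ⧸ I) := isReduced_of_injective e e.injective
  haveI : IsLocalRing (B ⧸ I) :=
    .of_surjective' (Ideal.Quotient.mk I) Ideal.Quotient.mk_surjective
  have h := Groth.Calg4.ringKrullDim_eq_add_of_flat (X.presheaf.stalk w) B
  rw [show ringKrullDim B = ringKrullDim (X.presheaf.stalk w) from hdim.symm] at h
  haveI : Ring.KrullDimLE 0 (B ⧸ I) := by
    rw [Ring.krullDimLE_iff]
    have hfin : ∀ (R : Type u) [CommRing R] [IsLocalRing R] [IsNoetherianRing R],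
        ∃ n : ℕ, ringKrullDim R = n := fun R _ _ _ => by
      have h1 : ringKrullDim R ≠ ⊤ := ringKrullDim_ne_top
      have h2 : ringKrullDim R ≠ ⊥ := ringKrullDim_ne_bot
      generalize ringKrullDim R = D at h1 h2 ⊢
      cases D with
      | bot => exact absurd rfl h2
      | coe D => cases D with
        | top => exact absurd rfl h1
        | coe m => exact ⟨m, rfl⟩
    obtain ⟨n, hn⟩ := hfin (X.presheaf.stalk w)
    obtain ⟨m, hm⟩ := hfin (B ⧸ I)
    rw [hn, hm] at h
    rw [hm]
    have : n = n + m := by exact_mod_cast h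
    exact_mod_cast (show m ≤ 0 by omega)
  have hF : IsField (B ⧸ I) := Ring.KrullDimLE.isField_of_isReduced
  show I = maximalIdeal B
  exact IsLocalRing.eq_maximalIdeal (Ideal.Quotient.maximal_of_isField I hF)

end Groth.Agent.S7627
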