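import Groth.Statements.S7628
import Groth.Agent.VarietyBC.QcOpen

set_option autoImplicit false
universe u
open CategoryTheory CategoryTheory.Limits AlgebraicGeometry
open Variety

namespace Groth.Agent.S7628

/-- Let X be a scheme over a field k, A a k-algebra and V ⊆ X_A = X ×_k Spec A a quasi-compact open
subset. Then there are a finitely generated k-subalgebra A' ⊆ A and a quasi-compact open subset V' ⊆
X_{A'} such that V is the inverse image of V' under the transition morphism X_A → X_{A'} (any
morphism compatible with the projections to X and with Spec A → Spec A'; it is unique). -/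
theorem result (k : Type u) [Field k] (X : Scheme.{u}) [X.Over (Spec (CommRingCat.of k))] (A : Type u) [CommRing A] [Algebra k A]
    (V : Set ↥(pullback (X ↘ (Spec (CommRingCat.of k))) (Spec.map (CommRingCat.ofHom (algebraMap k A))))) (hV : IsOpen V) (hVc : IsCompact V) :
    ∃ (A' : Subalgebra k A), A'.FG ∧
      ∃ (V' : Set ↥(pullback (X ↘ (Spec (CommRingCat.of k))) (Spec.map (CommRingCat.ofHom (algebraMap k ↥A'))))), IsOpen V' ∧ IsCompact V' ∧
        ∀ π : pullback (X ↘ (Spec (CommRingCat.of k))) (Spec.map (CommRingCat.ofHom (algebraMap k A))) ⟶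
            pullback (X ↘ (Spec (CommRingCat.of k))) (Spec.map (CommRingCat.ofHom (algebraMap k ↥A'))),
          π ≫ pullback.fst _ _ = pullback.fst _ _ →
          π ≫ pullback.snd _ _ = pullback.snd _ _ ≫ Spec.map (CommRingCat.ofHom A'.val.toRingHom) →
            π.base ⁻¹' V' = V := by
  exact Groth.VarietyBC.exists_fg_descend_open A V hV hVc

end Groth.Agent.S7628
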