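import Groth.Statements.S7629
import Groth.Agent.VarietyBC.Birational

set_option autoImplicit false
universe u
open CategoryTheory CategoryTheory.Limits AlgebraicGeometry
open Variety

namespace Groth.Agent.S7629

/-- (2) ⇒ (3): let X and Y be varieties over a field k (integral, separated, of finite type) and suppose
the function fields k(X) and k(Y) are isomorphic as k-algebras. Then there are nonempty open
subschemes U ⊆ X and V ⊆ Y which are isomorphic as schemes over k. -/
theorem result (k : Type u) [Field k] (X : Scheme.{u}) [X.Over (Spec (CommRingCat.of k))] [IsIntegral X] [IsSeparated (X ↘ (Spec (CommRingCat.of k)))] [LocallyOfFiniteType (X ↘ (Spec (CommRingCat.of k)))] [QuasiCompact (X ↘ (Spec (CommRingCat.of k)))]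
    (Y : Scheme.{u}) [Y.Over (Spec (CommRingCat.of k))] [IsIntegral Y] [IsSeparated (Y ↘ (Spec (CommRingCat.of k)))] [LocallyOfFiniteType (Y ↘ (Spec (CommRingCat.of k)))] [QuasiCompact (Y ↘ (Spec (CommRingCat.of k)))]
    (e : X.functionField ≅ Y.functionField)
    (he : e.hom.hom.comp (Curv2.stalkMap k X (genericPoint X)) = Curv2.stalkMap k Y (genericPoint Y)) :
    ∃ (U : X.Opens) (V : Y.Opens), (U : Set ↥X).Nonempty ∧
      ∃ φ : (U : Scheme.{u}) ≅ (V : Scheme.{u}), φ.hom ≫ V.ι ≫ (Y ↘ (Spec (CommRingCat.of k))) = U.ι ≫ (X ↘ (Spec (CommRingCat.of k))) := by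
  refine Groth.VarietyBC.exists_iso_opens _ _ e ?_
  rw [Groth.VarietyBC.fromSpecStalk_str, Groth.VarietyBC.fromSpecStalk_str, ← Spec.map_comp]
  congr 1
  apply CommRingCat.hom_ext
  exact he

end Groth.Agent.S7629
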