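import Groth.Statements.S7631
import Groth.Agent.GitQuot.GrpdImage

set_option autoImplicit false
universe u
open CategoryTheory CategoryTheory.Limits AlgebraicGeometry
open Variety

namespace Groth.Agent.S7631

theorem ker_map_closedImmersions {X Y B Z Z' : Scheme.{u}} (p : X ⟶ B) (q : Y ⟶ B) (a : Z ⟶ X) (b : Z' ⟶ Y)
    [IsClosedImmersion a] [IsClosedImmersion b] :
    (pullback.map (a ≫ p) (b ≫ q) p q a b (𝟙 B) (by simp) (by simp)).ker ≤
      a.ker.comap (pullback.fst p q) ⊔ b.ker.comap (pullback.snd p q) := by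
  let K := a.ker.comap (pullback.fst p q) ⊔ b.ker.comap (pullback.snd p q)
  have h1 : a.ker ≤ (K.subschemeι ≫ pullback.fst p q).ker :=
    Scheme.IdealSheafData.le_map_iff_comap_le.2 le_sup_left
  have h2 : b.ker ≤ (K.subschemeι ≫ pullback.snd p q).ker :=
    Scheme.IdealSheafData.le_map_iff_comap_le.2 le_sup_right
  let u := IsClosedImmersion.lift a _ h1
  let v := IsClosedImmersion.lift b _ h2
  have hu : u ≫ a = K.subschemeι ≫ pullback.fst p q := IsClosedImmersion.lift_fac _ _ _
  have hv : v ≫ b = K.subschemeι ≫ pullback.snd p q := IsClosedImmersion.lift_fac _ _ _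
  let w : K.subscheme ⟶ pullback (a ≫ p) (b ≫ q) :=
    pullback.lift u v (by rw [reassoc_of% hu, reassoc_of% hv, pullback.condition])
  have hw : w ≫ pullback.map (a ≫ p) (b ≫ q) p q a b (𝟙 B) (by simp) (by simp) = K.subschemeι := by
    apply pullback.hom_ext
    · rw [Category.assoc]
      simp only [pullback.map, w, pullback.lift_fst, pullback.lift_fst_assoc]
      exact hu
    · rw [Category.assoc]
      simp only [pullback.map, w, pullback.lift_snd, pullback.lift_snd_assoc]
      exact hv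
  have := Scheme.Hom.le_ker_comp w (pullback.map (a ≫ p) (b ≫ q) p q a b (𝟙 B) (by simp) (by simp))
  rwa [hw, Scheme.IdealSheafData.ker_subschemeι] at this

theorem ker_le_of_factor (k : Type u) [Field k] {X Y A A' Z Z' : Scheme.{u}}
    (p : X ⟶ Spec (CommRingCat.of k)) (q : Y ⟶ Spec (CommRingCat.of k))
    (sA : A ⟶ Spec (CommRingCat.of k)) (sA' : A' ⟶ Spec (CommRingCat.of k))
    (ta : A ⟶ Z) (a : Z ⟶ X) (tb : A' ⟶ Z') (b : Z' ⟶ Y)
    [IsSchemeTheoreticallyDominant ta] [QuasiCompact ta] [IsSchemeTheoreticallyDominant tb] [QuasiCompact tb]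
    [IsClosedImmersion a] [IsClosedImmersion b]
    (ha : ta ≫ a ≫ p = sA) (hb : tb ≫ b ≫ q = sA')
    (F : pullback sA sA' ⟶ pullback p q)
    (h1 : F ≫ pullback.fst p q = pullback.fst sA sA' ≫ ta ≫ a)
    (h2 : F ≫ pullback.snd p q = pullback.snd sA sA' ≫ tb ≫ b) :
    F.ker ≤ a.ker.comap (pullback.fst p q) ⊔ b.ker.comap (pullback.snd p q) := by
  subst ha hb
  have hd := Groth.GrpdImage.isSchemeTheoreticallyDominant_map k (Iso.refl _) (a ≫ p) (b ≫ q) ta tb
  have hF : F = pullback.map (ta ≫ a ≫ p) (tb ≫ b ≫ q) (a ≫ p) (b ≫ q) ta tb (𝟙 _) (by simp) (by simp) ≫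
      pullback.map (a ≫ p) (b ≫ q) p q a b (𝟙 _) (by simp) (by simp) := by
    apply pullback.hom_ext
    · rw [h1, Category.assoc]
      simp only [pullback.map, pullback.lift_fst, pullback.lift_fst_assoc, Category.assoc]
    · rw [h2, Category.assoc]
      simp only [pullback.map, pullback.lift_snd, pullback.lift_snd_assoc, Category.assoc]
  rw [hF, Scheme.Hom.ker_comp, hd.ker_eq_bot, Scheme.IdealSheafData.map_bot]
  exact ker_map_closedImmersions p q a b

/-- Let f : A → X and g : B → Y be quasi-compact morphisms of schemes over a field k and F = f × g : A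
×_k B → X ×_k Y. Then the scheme-theoretic image of F is Z ×_k Z', where Z ⊆ X and Z' ⊆ Y are the
scheme-theoretic images of f and g: in terms of kernel ideal sheaves, ker F is the sum of the
pullback of ker f along the first projection and of ker g along the second. -/
theorem result (k : Type u) [Field k] (X : Scheme.{u}) [X.Over (Spec (CommRingCat.of k))] (Y : Scheme.{u}) [Y.Over (Spec (CommRingCat.of k))]
    (A B : Scheme.{u}) [A.Over (Spec (CommRingCat.of k))] [B.Over (Spec (CommRingCat.of k))]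
    (f : A ⟶ X) [f.IsOver (Spec (CommRingCat.of k))] [QuasiCompact f] (g : B ⟶ Y) [g.IsOver (Spec (CommRingCat.of k))] [QuasiCompact g]
    (F : pullback (A ↘ (Spec (CommRingCat.of k))) (B ↘ (Spec (CommRingCat.of k))) ⟶ pullback (X ↘ (Spec (CommRingCat.of k))) (Y ↘ (Spec (CommRingCat.of k))))
    (hF₁ : F ≫ pullback.fst (X ↘ (Spec (CommRingCat.of k))) (Y ↘ (Spec (CommRingCat.of k))) = pullback.fst (A ↘ (Spec (CommRingCat.of k))) (B ↘ (Spec (CommRingCat.of k))) ≫ f)
    (hF₂ : F ≫ pullback.snd (X ↘ (Spec (CommRingCat.of k))) (Y ↘ (Spec (CommRingCat.of k))) = pullback.snd (A ↘ (Spec (CommRingCat.of k))) (B ↘ (Spec (CommRingCat.of k))) ≫ g) :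
    F.ker = f.ker.comap (pullback.fst (X ↘ (Spec (CommRingCat.of k))) (Y ↘ (Spec (CommRingCat.of k)))) ⊔ g.ker.comap (pullback.snd (X ↘ (Spec (CommRingCat.of k))) (Y ↘ (Spec (CommRingCat.of k)))) := by
  apply le_antisymm
  · let sX := X ↘ Spec (CommRingCat.of k)
    let sY := Y ↘ Spec (CommRingCat.of k)
    have hfo : f.toImage ≫ f.imageι ≫ sX = A ↘ Spec (CommRingCat.of k) := by
      rw [Scheme.Hom.toImage_imageι_assoc]; exact comp_over f (Spec (CommRingCat.of k))
    have hgo : g.toImage ≫ g.imageι ≫ sY = B ↘ Spec (CommRingCat.of k) := by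
      rw [Scheme.Hom.toImage_imageι_assoc]; exact comp_over g (Spec (CommRingCat.of k))
    haveI := Groth.GrpdImage.isSchemeTheoreticallyDominant_toImage f
    haveI := Groth.GrpdImage.isSchemeTheoreticallyDominant_toImage g
    refine (ker_le_of_factor k sX sY _ _ f.toImage f.imageι g.toImage g.imageι hfo hgo F
      (by rw [hF₁, Scheme.Hom.toImage_imageι]) (by rw [hF₂, Scheme.Hom.toImage_imageι])).trans (le_of_eq ?_)
    rw [Scheme.Hom.imageι, Scheme.Hom.imageι, Scheme.IdealSheafData.ker_subschemeι, Scheme.IdealSheafData.ker_subschemeι]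
  · refine sup_le ?_ ?_ <;> rw [← Scheme.IdealSheafData.le_map_iff_comap_le, ← Scheme.Hom.ker_comp]
    · rw [hF₁]; exact Scheme.Hom.le_ker_comp _ _
    · rw [hF₂]; exact Scheme.Hom.le_ker_comp _ _

end Groth.Agent.S7631
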