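import Groth.Statements.S7632
import Groth.Agent.VarietyBC.Stratify

set_option autoImplicit false
universe u
open CategoryTheory CategoryTheory.Limits AlgebraicGeometry
open Variety

namespace Groth.Agent.S7632

/-- Let X be a scheme of finite type over a field k. Then one can find a finite purely inseparable field
extension k'/k, some t ≥ 0, and a descending chain Z_0 ⊇ … ⊇ Z_t = ∅ of closed subschemes of X_{k'},
given by an increasing chain of quasi-coherent ideal sheaves I_0 ≤ … ≤ I_t = O on X_{k'}, such that
Z_0 = (X_{k'})_red (I_0 is the ideal of nilpotents) and the open subscheme Z_i ∖ Z_{i+1} of Z_i is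
smooth over k' for every i < t. -/
theorem result (k : Type u) [Field k] (X : Scheme.{u}) [X.Over (Spec (CommRingCat.of k))] [LocallyOfFiniteType (X ↘ (Spec (CommRingCat.of k)))] [QuasiCompact (X ↘ (Spec (CommRingCat.of k)))] :
    ∃ (k' : Type u) (_ : Field k') (_ : Algebra k k') (_ : FiniteDimensional k k') (_ : IsPurelyInseparable k k')
      (t : ℕ) (I : Fin (t + 1) → (Curv2.bc k X k').IdealSheafData),
      Monotone I ∧ I 0 = Scheme.IdealSheafData.vanishingIdeal ⊤ ∧ I (Fin.last t) = ⊤ ∧
        ∀ i : Fin t,
          Smooth (((I i.castSucc).subschemeι ⁻¹ᵁ (I i.succ).support.compl).ι ≫ (I i.castSucc).subschemeι ≫ Curv2.bcSnd k X k') := by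
  obtain ⟨K, hfin, hpi, t, c, hc, hc0, hct, hgood⟩ :=
    Groth.VarietyBC.Stratify.exists_good_chain (k := k) (X := X) ⊤
  refine ⟨K, inferInstance, inferInstance, hfin, hpi, t, fun i =>
    Scheme.IdealSheafData.vanishingIdeal ((c i).preimage (Curv2.bcFst k X K).continuous), ?_, ?_, ?_, fun i => ?_⟩
  · intro i j hij
    exact Scheme.IdealSheafData.vanishingIdeal_antimono fun y hy => hc (show (i : ℕ) ≤ j from hij) hy
  · exact congrArg Scheme.IdealSheafData.vanishingIdeal
      (TopologicalSpace.Closeds.ext (by simp [hc0]))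
  · show Scheme.IdealSheafData.vanishingIdeal _ = ⊤
    rw [show (c (Fin.last t : Fin (t + 1))).preimage (Curv2.bcFst k X K).continuous = ⊥ from
      TopologicalSpace.Closeds.ext (by simp [hct]), Scheme.IdealSheafData.vanishingIdeal_bot]
  · exact Groth.VarietyBC.Stratify.smooth_piece (hgood i i.2)

end Groth.Agent.S7632
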