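import Groth.Statements.S7633
import Groth.Agent.VarietyBC.CompletionBC
import Groth.Agent.VarietyBC.Reduced
import Groth.Agent.S7627
-- import your own Groth.Agent.* helpers here

set_option autoImplicit false
universe u
open CategoryTheory CategoryTheory.Limits AlgebraicGeometry
attribute [local instance] Curv2.stalkAlgebra Curv2.resAlgebra
open Variety

namespace Groth.Agent.S7633

set_option backward.isDefEq.respectTransparency false

open scoped TensorProduct

/-- Let X be locally of finite type over a field k, K an extension field of k, y a point of X_K with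
image x in X; assume dim O_{X, x} = dim O_{X_K, y} and that κ(x) is separable over k (Spec κ(x) →
Spec k geometrically reduced). Let e : κ(x)[[x_1, …, x_n]]/(g_1, …, g_m) ≅ O_{X, x}^∧ be a k-algebra
isomorphism onto the completion inducing the identity on residue fields (for every a in O_{X, x}, e
applied to the constant with value the residue class of a is congruent to a modulo the extended
maximal ideal). Then, viewing the g_j over κ(y) through κ(x) → κ(y), there is a K-algebra
isomorphism κ(y)[[x_1, …, x_n]]/(g_1, …, g_m) ≅ O_{X_K, y}^∧ with the same residue property. -/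
theorem result (k : Type u) [Field k] (X : Scheme.{u}) [X.Over (Spec (CommRingCat.of k))] [LocallyOfFiniteType (X ↘ (Spec (CommRingCat.of k)))]
    (K : Type u) [Field K] [Algebra k K] (y : ↥(Curv2.bc k X K))
    (hdim : ringKrullDim ↥(X.presheaf.stalk (Curv2.bcFst k X K y)) = ringKrullDim ↥((Curv2.bc k X K).presheaf.stalk y))
    (hsep : GeometricallyReduced (Spec.map (CommRingCat.ofHom (Curv2.resMap k X (Curv2.bcFst k X K y)))))
    (n m : ℕ) (g : Fin m → MvPowerSeries (Fin n) ↥(X.residueField (Curv2.bcFst k X K y)))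
    (e : (MvPowerSeries (Fin n) ↥(X.residueField (Curv2.bcFst k X K y)) ⧸ Ideal.span (Set.range g)) ≃ₐ[k]
      AdicCompletion (IsLocalRing.maximalIdeal ↥(X.presheaf.stalk (Curv2.bcFst k X K y))) ↥(X.presheaf.stalk (Curv2.bcFst k X K y)))
    (he : ∀ a : ↥(X.presheaf.stalk (Curv2.bcFst k X K y)),
      e (Ideal.Quotient.mk _ (MvPowerSeries.C ((X.residue (Curv2.bcFst k X K y)).hom a))) -
          algebraMap ↥(X.presheaf.stalk (Curv2.bcFst k X K y)) (AdicCompletion (IsLocalRing.maximalIdeal ↥(X.presheaf.stalk (Curv2.bcFst k X K y))) ↥(X.presheaf.stalk (Curv2.bcFst k X K y))) a ∈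
        (IsLocalRing.maximalIdeal ↥(X.presheaf.stalk (Curv2.bcFst k X K y))).map (algebraMap ↥(X.presheaf.stalk (Curv2.bcFst k X K y)) (AdicCompletion (IsLocalRing.maximalIdeal ↥(X.presheaf.stalk (Curv2.bcFst k X K y))) ↥(X.presheaf.stalk (Curv2.bcFst k X K y))))) :
    letI : (Curv2.bc k X K).Over (Spec (CommRingCat.of K)) := ⟨Curv2.bcSnd k X K⟩
    ∃ e' : (MvPowerSeries (Fin n) ↥((Curv2.bc k X K).residueField y) ⧸ Ideal.span (Set.range (fun j =>
        MvPowerSeries.map (σ := Fin n) ((Curv2.bcFst k X K).residueFieldMap y).hom (g j)))) ≃ₐ[K]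
          AdicCompletion (IsLocalRing.maximalIdeal ↥((Curv2.bc k X K).presheaf.stalk y)) ↥((Curv2.bc k X K).presheaf.stalk y),
      ∀ b : ↥((Curv2.bc k X K).presheaf.stalk y),
        e' (Ideal.Quotient.mk _ (MvPowerSeries.C (((Curv2.bc k X K).residue y).hom b))) -
            algebraMap ↥((Curv2.bc k X K).presheaf.stalk y) (AdicCompletion (IsLocalRing.maximalIdeal ↥((Curv2.bc k X K).presheaf.stalk y)) ↥((Curv2.bc k X K).presheaf.stalk y)) b ∈
          (IsLocalRing.maximalIdeal ↥((Curv2.bc k X K).presheaf.stalk y)).map (algebraMap ↥((Curv2.bc k X K).presheaf.stalk y) (AdicCompletion (IsLocalRing.maximalIdeal ↥((Curv2.bc k X K).presheaf.stalk y)) ↥((Curv2.bc k X K).presheaf.stalk y))) := by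
  letI : (Curv2.bc k X K).Over (Spec (CommRingCat.of K)) := ⟨Curv2.bcSnd k X K⟩
  let w := Curv2.bcFst k X K y
  let R := X.presheaf.stalk w
  let B := (Curv2.bc k X K).presheaf.stalk y
  letI : Algebra k R := Curv2.stalkAlgebra k X w
  letI : Algebra k (X.presheaf.stalk w) := Curv2.stalkAlgebra k X w
  haveI : IsLocallyNoetherian X := LocallyOfFiniteType.isLocallyNoetherian (X ↘ Spec (CommRingCat.of k))
  haveI : LocallyOfFiniteType (Curv2.bcSnd k X K) := MorphismProperty.pullback_snd _ _ inferInstance
  haveI : IsLocallyNoetherian (Curv2.bc k X K) := LocallyOfFiniteType.isLocallyNoetherian (Curv2.bcSnd k X K)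
  have hred : _root_.IsReduced (X.residueField w ⊗[k] K) := by
    have := hsep.geometrically_isReduced
      (Spec.map (CommRingCat.ofHom (algebraMap k K))) _ _ (IsPullback.of_hasPullback _ _)
    haveI : IsReduced (Spec (CommRingCat.of (X.residueField w ⊗[k] K))) :=
      isReduced_of_isOpenImmersion (pullbackSpecIso k (X.residueField w) K).inv
    exact (affine_isReduced_iff (CommRingCat.of (X.residueField w ⊗[k] K))).1 inferInstance
  have hm := Groth.Agent.S7627.result k X K y hdim hred
  let φ : R →+* B := ((Curv2.bcFst k X K).stalkMap y).hom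
  haveI : IsLocalHom φ := inferInstanceAs (IsLocalHom ((Curv2.bcFst k X K).stalkMap y).hom)
  let sK : K →+* B := Curv2.stalkMap K (Curv2.bc k X K) y
  have hsy : (Curv2.bc k X K).fromSpecStalk y ≫ Curv2.bcSnd k X K = Spec.map (CommRingCat.ofHom sK) :=
    Groth.VarietyBC.fromSpecStalk_str (k := K) (X := Curv2.bc k X K) y
  have hsw : Spec.map (CommRingCat.ofHom φ) ≫ X.fromSpecStalk w =
      (Curv2.bc k X K).fromSpecStalk y ≫ Curv2.bcFst k X K := Scheme.SpecMap_stalkMap_fromSpecStalk _
  have hcomp : ∀ c : k, φ (algebraMap k R c) = sK (algebraMap k K c) := by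
    have h : CommRingCat.ofHom (Curv2.stalkMap k X w) ≫ CommRingCat.ofHom φ =
        CommRingCat.ofHom (algebraMap k K) ≫ CommRingCat.ofHom sK := by
      apply Spec.map_injective
      rw [Spec.map_comp, Spec.map_comp, ← hsy, ← Groth.VarietyBC.fromSpecStalk_str (k := k) (X := X) w,
        ← Category.assoc, hsw, Category.assoc, Category.assoc]
      congr 1
      exact pullback.condition
    exact fun c => congr($(h) c)
  letI : Algebra k B := (sK.comp (algebraMap k K)).toAlgebra
  letI : Algebra K B := sK.toAlgebra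
  haveI : IsScalarTower k K B := IsScalarTower.of_algebraMap_eq fun _ => rfl
  let φa : R →ₐ[k] B := { φ with commutes' := hcomp }
  let ι : R ⊗[k] K →ₐ[k] B :=
    Algebra.TensorProduct.lift φa (IsScalarTower.toAlgHom k K B) (fun _ _ => Commute.all _ _)
  have hι₁ : ∀ r, ι (r ⊗ₜ 1) = φ r := fun r => by
    show φ r * algebraMap K B 1 = φ r
    rw [map_one, mul_one]
  have hι₂ : ∀ c, ι (1 ⊗ₜ c) = algebraMap K B c := fun c => by
    show φ 1 * algebraMap K B c = _
    rw [map_one, one_mul]
  let hov := Groth.VarietyBC.overSpec_stalk (k := k) (X := X) w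
  let gg := Groth.VarietyBC.tensorTo K hov
  haveI : Flat (X.fromSpecStalk w) := Groth.VarietyBC.flat_fromSpecStalk X w
  haveI : IsPreimmersion gg := Groth.VarietyBC.isPreimmersion_tensorTo K hov
  let j : Spec (CommRingCat.of B) ⟶ Spec (CommRingCat.of (R ⊗[k] K)) :=
    Spec.map (CommRingCat.ofHom ι.toRingHom)
  have hj : j ≫ gg = (Curv2.bc k X K).fromSpecStalk y := by
    refine pullback.hom_ext ?_ ?_
    · refine (Category.assoc _ _ _).trans ?_
      rw [show gg ≫ pullback.fst _ _ = _ from Groth.VarietyBC.tensorTo_fst K hov, ← Category.assoc,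
        ← Spec.map_comp, ← CommRingCat.ofHom_comp]
      rw [show ι.toRingHom.comp Algebra.TensorProduct.includeLeftRingHom = φ from RingHom.ext hι₁]
      exact hsw
    · refine (Category.assoc _ _ _).trans ?_
      rw [show gg ≫ pullback.snd _ _ = _ from Groth.VarietyBC.tensorTo_snd K hov,
        ← Spec.map_comp, ← CommRingCat.ofHom_comp]
      rw [show ι.toRingHom.comp (Algebra.TensorProduct.includeRight (R := k) (A := R) (B := K)).toRingHom = sK from
        RingHom.ext hι₂]
      exact hsy.symm
  haveI hjf : Flat j := by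
    haveI : Flat ((Curv2.bc k X K).fromSpecStalk y) := Groth.VarietyBC.flat_fromSpecStalk _ y
    have hpb : IsPullback j (𝟙 _) gg ((Curv2.bc k X K).fromSpecStalk y) := by
      refine ⟨⟨by rw [Category.id_comp]; exact hj⟩, ⟨PullbackCone.IsLimit.mk _ (fun s => s.snd) (fun s => ?_)
        (fun s => Category.comp_id _) (fun s m _ hm => by rwa [Category.comp_id] at hm)⟩⟩
      rw [← cancel_mono gg, Category.assoc, hj]
      exact s.condition.symm
    exact MorphismProperty.of_isPullback (P := @Flat) hpb.flip inferInstance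
  haveI hjp : IsPreimmersion j := by
    haveI : IsPreimmersion (j ≫ gg) := by rw [hj]; infer_instance
    exact IsPreimmersion.of_comp j gg
  have hflat : ι.toRingHom.Flat := Flat.SpecMap_iff.1 hjf
  have hsos : ι.toRingHom.SurjectiveOnStalks := ((IsPreimmersion.SpecMap_iff _).1 hjp).2
  let P : Ideal (R ⊗[k] K) := (IsLocalRing.maximalIdeal B).comap ι.toRingHom
  have hloc : letI := ι.toRingHom.toAlgebra; IsLocalization.AtPrime B P := by
    letI := ι.toRingHom.toAlgebra
    haveI : Module.Flat (R ⊗[k] K) B := hflat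
    have hu : ∀ s : P.primeCompl, IsUnit (ι s) := fun s => IsLocalRing.notMem_maximalIdeal.1 s.2
    let L : Localization.AtPrime P →+* B := IsLocalization.lift (g := ι.toRingHom) hu
    have hL : ∀ t, L (algebraMap _ _ t) = ι t := fun t => IsLocalization.lift_eq hu t
    letI : Algebra (Localization.AtPrime P) B := L.toAlgebra
    haveI : IsScalarTower (R ⊗[k] K) (Localization.AtPrime P) B :=
      IsScalarTower.of_algebraMap_eq fun t => (hL t).symm
    haveI : Module.Flat (Localization.AtPrime P) B :=
      (Module.flat_iff_of_isLocalization (S := Localization.AtPrime P) (p := P.primeCompl) B).2 inferInstance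
    haveI : IsLocalHom (algebraMap (Localization.AtPrime P) B) := ⟨fun a ha => by
      obtain ⟨⟨t, s⟩, rfl⟩ := IsLocalization.mk'_surjective P.primeCompl a
      rw [IsLocalization.AtPrime.isUnit_mk'_iff (Localization.AtPrime P) P]
      intro ht
      have h : algebraMap (Localization.AtPrime P) B (IsLocalization.mk' _ t s) * ι s = ι t := by
        rw [← hL, ← hL]
        exact (map_mul L _ _).symm.trans (congrArg L (IsLocalization.mk'_spec _ t s))
      exact (IsLocalRing.mem_maximalIdeal _).1 ht (h ▸ ha.mul (hu s))⟩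
    have hinj : Function.Injective L := by
      haveI := Module.FaithfullyFlat.of_flat_of_isLocalHom (A := Localization.AtPrime P) (B := B)
      exact FaithfulSMul.algebraMap_injective (Localization.AtPrime P) B
    have hsurj : Function.Surjective L := fun b => by
      have hb := hsos (IsLocalRing.maximalIdeal B) inferInstance
      obtain ⟨z, hz⟩ := hb (algebraMap B _ b)
      obtain ⟨⟨t, s⟩, rfl⟩ := IsLocalization.mk'_surjective (M := P.primeCompl) z
      refine ⟨IsLocalization.mk' _ t s, ?_⟩
      rw [IsLocalization.lift_mk'_spec]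
      rw [Localization.localRingHom_mk', IsLocalization.mk'_eq_iff_eq_mul, ← map_mul] at hz
      refine (IsLocalization.injective (Localization.AtPrime (IsLocalRing.maximalIdeal B))
        (M := (IsLocalRing.maximalIdeal B).primeCompl) ?_ hz).trans (mul_comm _ _)
      exact fun u hu' => (IsLocalRing.notMem_maximalIdeal.1 hu').mem_nonZeroDivisors
    exact IsLocalization.isLocalization_of_algEquiv P.primeCompl
      (AlgEquiv.ofBijective (IsScalarTower.toAlgHom (R ⊗[k] K) (Localization.AtPrime P) B) ⟨hinj, hsurj⟩)
  exact Groth.VarietyBC.CompletionBC.exists_algEquiv ι.toRingHom φ hι₁ hι₂ P hloc hm g e he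

end Groth.Agent.S7633
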