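import Groth.Statements.S7634
import Groth.Agent.VarietyBC.KaehlerChart

set_option autoImplicit false
universe u
open CategoryTheory CategoryTheory.Limits AlgebraicGeometry
open scoped TensorProduct
open Variety

namespace Groth.Agent.S7634

/-- Let A → B be a finite type ring map, q a prime of B and r = dim_{κ(q)} Ω_{B/A} ⊗_B κ(q). Then there
are g in B with g not in q, an A-algebra D which is standard smooth of relative dimension r over A,
and a surjective A-algebra homomorphism D → B[1/g]; that is, the principal open D(g) containing q is
a closed subscheme of Spec D with D smooth of relative dimension r over A. (The published statement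
is for a morphism X → S locally of finite type, a point x and an affine open V ⊆ S under it, and
gives an affine open neighbourhood of x with a closed immersion over V into a scheme smooth of
relative dimension r over V; this row states the case X = Spec B, S = Spec A, with the neighbourhood
a principal open D(g) and the smooth scheme standard smooth.) -/
theorem result (A B : Type u) [CommRing A] [CommRing B] [Algebra A B] [Algebra.FiniteType A B]
    (q : Ideal B) [q.IsPrime] (r : ℕ) (hr : Module.finrank q.ResidueField (q.ResidueField ⊗[B] Ω[B⁄A]) = r) :
    ∃ g : B, g ∉ q ∧ ∃ (D : Type u) (_ : CommRing D) (_ : Algebra A D),
      Algebra.IsStandardSmoothOfRelativeDimension r A D ∧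
        ∃ φ : D →ₐ[A] Localization.Away g, Function.Surjective φ := by
  exact Groth.VarietyBC.KChart.exists_standardSmooth_surjection q r hr

end Groth.Agent.S7634
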