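import Groth.Statements.S7637
import Groth.Agent.EulerDeg.Tensor
-- import your own Groth.Agent.* helpers here

set_option autoImplicit false
universe u
open CategoryTheory CategoryTheory.Limits AlgebraicGeometry
open Variety

namespace Groth.Agent.S7637

/-- Let X be proper of dimension at most one over a field k and let E, V be finite locally free modules
of ranks n and m. Then the degree of E ⊗ V (a module of rank n·m) is n·deg(V) + m·deg(E). -/
theorem result (k : Type u) [Field k] (X : Scheme.{u}) [X.Over (Spec (CommRingCat.of k))] [IsProper (X ↘ (Spec (CommRingCat.of k)))]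
    (hdim : topologicalKrullDim X ≤ 1) (n m : ℕ) (E V : X.Modules)
    (hE : FlatMod.IsFinLocFreeOfRank n E) (hV : FlatMod.IsFinLocFreeOfRank m V) :
    Curv2.deg k X (CohB1.tensorMod E V) (n * m) = n * Curv2.deg k X V m + m * Curv2.deg k X E n := by
  exact Groth.EulerDeg.deg_tensor k hdim hE hV

end Groth.Agent.S7637
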