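import Groth.Statements.S7638
import Groth.Agent.VarietyBC.DetDegreeGlobal
-- import your own Groth.Agent.* helpers here

set_option autoImplicit false
universe u
open CategoryTheory CategoryTheory.Limits AlgebraicGeometry
open Variety

namespace Groth.Agent.S7638

/-- Let X be proper of dimension at most one over a field k, let E be finite locally free of rank n and
let L be an n-th exterior power of E (its determinant). Then deg(E) = deg(L), the latter computed as
a module of rank one. -/
theorem result (k : Type u) [Field k] (X : Scheme.{u}) [X.Over (Spec (CommRingCat.of k))] [IsProper (X ↘ (Spec (CommRingCat.of k)))]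
    (hdim : topologicalKrullDim X ≤ 1) (n : ℕ) (E : X.Modules) (hE : FlatMod.IsFinLocFreeOfRank n E)
    (L : X.Modules) (hL : ExtPow.IsExtPow n E L) :
    Curv2.deg k X E n = Curv2.deg k X L 1 := by
  exact Groth.VarietyBC.DetDeg.deg_eq_deg_of_isExtPow k hdim hE hL

end Groth.Agent.S7638
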