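import Groth.Statements.S7639
import Groth.Agent.Curves1.RR.Constants
import Groth.Agent.Curves1.RR.ReducedH1

set_option autoImplicit false
universe u
open CategoryTheory CategoryTheory.Limits AlgebraicGeometry
attribute [local instance] Curv2.resAlgebra
open Variety

attribute [local instance] Groth.EulerDeg.secModule

namespace Groth.Agent.S7639

/-- Let X be a proper scheme over a field k which is reduced and connected, and let κ = Γ(X, O_X). Then
κ is a field, finite over k, and w = [κ : k] divides (1) the degree of every finite locally free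
module of constant rank, (2) the degree [κ(x) : k] of every closed point x, and (3) the degree dim_k
H^0(X, O_D) of every closed subscheme D of dimension zero (or empty). (The published statement uses
the degree of E, which it defines only for X of dimension at most one; this row states (1) for the
integer χ(E) − n·χ(O_X) with no bound on the dimension of X.) -/
theorem result (k : Type u) [Field k] (X : Scheme.{u}) [X.Over (Spec (CommRingCat.of k))] [IsProper (X ↘ (Spec (CommRingCat.of k)))] [IsReduced X] [ConnectedSpace X] :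
    letI : Algebra k Γ(X, ⊤) := ((X ↘ (Spec (CommRingCat.of k))).appTop.hom.comp
      (Scheme.ΓSpecIso (CommRingCat.of k)).inv.hom).toAlgebra
    IsField Γ(X, ⊤) ∧ Module.Finite k Γ(X, ⊤) ∧
      (∀ (n : ℕ) (E : X.Modules), FlatMod.IsFinLocFreeOfRank n E →
        (Module.finrank k Γ(X, ⊤) : ℤ) ∣ Curv2.deg k X E n) ∧
      (∀ x : X, IsClosed ({x} : Set X) →
        Module.finrank k Γ(X, ⊤) ∣ Module.finrank k (X.residueField x)) ∧
      (∀ D : X.IdealSheafData, topologicalKrullDim D.subscheme ≤ 0 →
        Module.finrank k Γ(X, ⊤) ∣ Module.finrank k (Coh.HH X (ClSub.quotMod D) 0)) := by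
  letI : Algebra k Γ(X, ⊤) := ((X ↘ (Spec (CommRingCat.of k))).appTop.hom.comp
      (Scheme.ΓSpecIso (CommRingCat.of k)).inv.hom).toAlgebra
  have hF : IsField Γ(X, ⊤) := Groth.Curves1.RR.Red.isField_sections k
  have hHH : ∀ (M : X.Modules) (i : ℕ),
      Module.finrank k Γ(X, ⊤) ∣ Module.finrank k (Coh.HH X M i) := by
    intro M i
    letI : Module Γ(X, ⊤) (Coh.HH X M i) := Coh.moduleΓtop M i
    haveI : IsScalarTower k Γ(X, ⊤) (Coh.HH X M i) := IsScalarTower.of_algebraMap_smul fun _ _ => rfl
    exact Groth.Curves1.RR.finrank_dvd_of_isField k Γ(X, ⊤) (Coh.HH X M i) hF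
  have hχ : ∀ M : X.Modules, (Module.finrank k Γ(X, ⊤) : ℤ) ∣ Curv2.euler k X M := fun M =>
    finsum_induction (fun z : ℤ => (Module.finrank k Γ(X, ⊤) : ℤ) ∣ z) (dvd_zero _)
      (fun _ _ => dvd_add) fun i => Dvd.dvd.mul_left (Int.natCast_dvd_natCast.2 (hHH M i)) _
  refine ⟨hF, ?_, fun n E _ => dvd_sub (hχ E) ((hχ _).mul_left _), fun x hx => ?_, fun D _ => hHH _ 0⟩
  · have := Groth.EulerDeg.finite_HH k X (Groth.EulerDeg.isCoh_of_isInvertible
      (Groth.EulerDeg.isInvertible_structureModule X)) 0
    have := Module.Finite.equiv (Groth.EulerDeg.h0Equiv k (Coh.structureModule X))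
    exact Module.Finite.equiv
      ({ (Equiv.refl _ : Γ(X, ⊤) ≃ Γ(X, ⊤)) with
        toFun := fun x => Groth.PicAux.toFun x
        invFun := fun x => x
        map_add' := fun _ _ => rfl
        map_smul' := fun a x => by
          show Groth.PicAux.toFun (a • x) = _
          rw [Groth.EulerDeg.smul_sec, Groth.PicAux.toFun_smul]
          exact congrArg (· * Groth.PicAux.toFun x) (Groth.PicAux.resX_self _ _) } :
        Γ(Coh.structureModule X, (⊤ : X.Opens)) ≃ₗ[k] Γ(X, ⊤))
  · letI : Algebra Γ(X, ⊤) (X.residueField x) :=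
      ((X.residue x).hom.comp (X.presheaf.germ ⊤ x trivial).hom).toAlgebra
    haveI : IsScalarTower k Γ(X, ⊤) (X.residueField x) := IsScalarTower.of_algebraMap_eq fun _ => rfl
    exact Groth.Curves1.RR.finrank_dvd_of_isField k Γ(X, ⊤) (X.residueField x) hF

end Groth.Agent.S7639
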