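import Groth.Statements.S7640
import Groth.Agent.Curves1.RR.PullDeg

set_option autoImplicit false
universe u
open CategoryTheory CategoryTheory.Limits AlgebraicGeometry
open Variety

namespace Groth.Agent.S7640

/-- Let k be a field, let X and Y be proper curves over k (integral, proper over k, of dimension one)
and let f : X → Y be a morphism over k that is not constant, i.e. sends the generic point of X to
that of Y. For a finite locally free module E of rank n on Y, the degree of f^*E is deg(X/Y) ·
deg(E), where deg(X/Y) is the degree of the function field of X over that of Y. -/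
theorem result (k : Type u) [Field k] (X Y : Scheme.{u})
    [X.Over (Spec (CommRingCat.of k))] [Y.Over (Spec (CommRingCat.of k))] [IsIntegral X] [IsIntegral Y]
    [IsProper (X ↘ (Spec (CommRingCat.of k)))] [IsProper (Y ↘ (Spec (CommRingCat.of k)))]
    (hX : topologicalKrullDim X = 1) (hY : topologicalKrullDim Y = 1)
    (f : X ⟶ Y) (hf : f ≫ (Y ↘ (Spec (CommRingCat.of k))) = X ↘ (Spec (CommRingCat.of k)))
    (hξ : f.base (genericPoint X) = genericPoint Y)
    (n : ℕ) (E : Y.Modules) (hE : FlatMod.IsFinLocFreeOfRank n E) :
    Curv2.deg k X ((Scheme.Modules.pullback f).obj E) n =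
      (f.residueDegree (genericPoint X) : ℤ) * Curv2.deg k Y E n := by
  exact (Groth.Curves1.RR.deg_pullback_of_dominant k hX.le hY f hf hξ n E hE).2

end Groth.Agent.S7640
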