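import Groth.Statements.S7641
import Groth.Agent.VarietyBC.DetDegreeGlobal
import Groth.Agent.EulerDeg.LineBundle
import Groth.Agent.PicAux.GenLocusOps

set_option autoImplicit false
universe u
open CategoryTheory CategoryTheory.Limits AlgebraicGeometry
open Variety

open TopologicalSpace Groth.PicAux Groth.EulerDeg Groth.VarietyBC

attribute [local instance] Groth.EulerDeg.secModule

namespace Groth.Agent.S7641

/-- Let X be proper over a field k, reduced and connected, with every irreducible component of dimension
one, and let L be an invertible module whose restriction to each irreducible component C, with its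
reduced induced structure, has degree at most zero. Then H^0(X, L) = 0 or L is isomorphic to O_X. -/
theorem result (k : Type u) [Field k] (X : Scheme.{u}) [X.Over (Spec (CommRingCat.of k))] [IsProper (X ↘ (Spec (CommRingCat.of k)))]
    [IsReduced X] [ConnectedSpace X] [IsNoetherian X]
    (hdim : ∀ (C : Set X), C ∈ irreducibleComponents (X : Type u) → topologicalKrullDim C = 1)
    (L : X.Modules) (hL : PicF.IsInvertible L)
    (hdeg : ∀ (C : Set X) (hC : C ∈ irreducibleComponents (X : Type u)), @Curv2.deg k _ (X.irreducibleComponentIdeal C hC).radical.subscheme ⟨(X.irreducibleComponentIdeal C hC).radical.subschemeι ≫ (X ↘ (Spec (CommRingCat.of k)))⟩ ((Scheme.Modules.pullback (X.irreducibleComponentIdeal C hC).radical.subschemeι).obj L) 1 ≤ 0) :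
    Subsingleton (Coh.HH X L 0) ∨ Nonempty (L ≅ Coh.structureModule X) := by
  classical
  rcases subsingleton_or_nontrivial (Coh.HH X L 0) with h | hN
  · exact Or.inl h
  right
  obtain ⟨a, ha⟩ := exists_ne (0 : Coh.HH X L 0)
  let t : Γ(L, (⊤ : X.Opens)) := h0Equiv k L a
  have ht : t ≠ 0 := fun e => ha ((h0Equiv k L).injective (e.trans (map_zero _).symm))
  let G := CohB1.genLocus L (homOfSection t)
  have hgsec : gsec (homOfSection t) = t := homOfSection_one t
  have key : ∀ (C : Set X) (hC : C ∈ irreducibleComponents (X : Type u)),
      C ⊆ (G : Set X) ∨ Disjoint C (G : Set X) := by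
    intro C hC
    have hdC := hdeg C hC
    let I := (X.irreducibleComponentIdeal C hC).radical
    letI : I.subscheme.Over (Spec (CommRingCat.of k)) :=
      ⟨I.subschemeι ≫ (X ↘ Spec (CommRingCat.of k))⟩
    haveI : IsProper (I.subscheme ↘ Spec (CommRingCat.of k)) :=
      inferInstanceAs (IsProper (I.subschemeι ≫ (X ↘ Spec (CommRingCat.of k))))
    have hI : I = IntMult.ptIdeal hC.1.genericPoint := CurveComp.radical_irreducibleComponentIdeal C hC
    haveI : IsIntegral I.subscheme := by
      show IsIntegral (X.irreducibleComponentIdeal C hC).radical.subscheme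
      rw [CurveComp.radical_irreducibleComponentIdeal C hC]
      exact CohTwo.isIntegral_closure_subscheme rfl
    have hr : Set.range I.subschemeι = C := by
      rw [I.range_subschemeι, Scheme.IdealSheafData.support_radical]
      rfl
    have hd1 : topologicalKrullDim I.subscheme ≤ 1 := by
      refine le_of_eq ?_
      rw [IsHomeomorph.topologicalKrullDim_eq _
        (I.subschemeι.isEmbedding.toHomeomorph.trans (Homeomorph.setCongr hr)).isHomeomorph]
      exact hdim C hC
    let P := (Scheme.Modules.pullback I.subschemeι).obj L
    have hP : PicF.IsInvertible P := isInvertible_pullback I.subschemeι hL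
    let t' : Γ(P, (⊤ : I.subscheme.Opens)) := pullSec I.subschemeι L (U := ⊤) t
    have hG : CohB1.genLocus P (homOfSection t') = I.subschemeι ⁻¹ᵁ G :=
      genLocus_pullback I.subschemeι hL _ (by rw [gsec, homOfSection_one, hgsec])
    by_cases h0 : homOfSection t' = 0
    · refine Or.inr (Set.disjoint_left.2 fun y hyC hyG => ?_)
      rw [← hr] at hyC
      obtain ⟨z, rfl⟩ := hyC
      have hz : z ∈ CohB1.genLocus P (homOfSection t') := hG.ge hyG
      have hg := (le_genLocus_iff (homOfSection t') _).1 le_rfl
      have hzero : res P le_top (gsec (homOfSection t')) =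
          (0 : Γ(P, CohB1.genLocus P (homOfSection t'))) := by
        rw [h0]; simp [gsec]
      rw [hzero] at hg
      have : Nontrivial Γ(I.subscheme, CohB1.genLocus P (homOfSection t')) :=
        (I.subscheme.presheaf.germ _ z hz).hom.domain_nontrivial
      exact one_ne_zero ((hg _ le_rfl).1 (by simp) : (1 : Γ(I.subscheme, _)) = 0)
    · left
      haveI : IsIso (homOfSection t') :=
        (deg_le_and_isIso (isInvertible_structureModule _) hP h0 k hd1).2 (by
          have h1 : Curv2.deg k I.subscheme (Coh.structureModule I.subscheme) 1 = 0 := by simp [Curv2.deg]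
          rw [h1]
          exact hdC)
      have htop : (⊤ : I.subscheme.Opens) ≤ CohB1.genLocus P (homOfSection t') := by
        rw [le_genLocus_iff, res_self]
        exact (isIso_hom_structure_iff _).1 inferInstance
      intro y hy
      rw [← hr] at hy
      obtain ⟨z, rfl⟩ := hy
      exact hG.le (htop (x := z) trivial)
  have hclosed : IsClosed (G : Set X) := by
    have hG' : (G : Set X) = ⋃ C ∈ {C ∈ irreducibleComponents (X : Type u) | C ⊆ (G : Set X)}, C := by
      refine subset_antisymm (fun y hy => ?_) (Set.iUnion₂_subset fun C hC => hC.2)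
      have hmem := irreducibleComponent_mem_irreducibleComponents y
      rcases key _ hmem with h | h
      · exact Set.mem_iUnion₂.2 ⟨_, ⟨hmem, h⟩, mem_irreducibleComponent⟩
      · exact absurd hy (Set.disjoint_left.1 h mem_irreducibleComponent)
    rw [hG']
    exact (NoetherianSpace.finite_irreducibleComponents.subset fun _ h => h.1).isClosed_biUnion
      fun C hC => isClosed_of_mem_irreducibleComponents C hC.1
  rcases isClopen_iff.1 (⟨hclosed, G.isOpen⟩ : IsClopen (G : Set X)) with hG | hG
  · exfalso
    apply ht
    obtain ⟨U, e, hU, -, he⟩ := exists_gen_cover hL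
    refine res_ext U (fun _ => le_top) (by rw [hU]) fun i => ?_
    obtain ⟨c, hc⟩ := (he i).exists_coeff le_rfl (res L (le_top : U i ≤ ⊤) t)
    rw [res_self] at hc
    have hb : X.basicOpen c = ⊥ := by
      rw [← genLocus_inf_eq_basicOpen (s := homOfSection t) (he i) (by rw [hgsec]; exact hc)]
      have : G = ⊥ := Opens.ext hG
      exact le_bot_iff.1 (inf_le_left.trans this.le)
    rw [hc, (basicOpen_eq_bot_iff c).1 hb, zero_smul, res_zero]
  · refine nonempty_iso_structure_iff.2 ⟨t, ?_⟩
    have := (le_genLocus_iff (homOfSection t) ⊤).1 (fun y _ => hG.ge (Set.mem_univ y))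
    rwa [res_self, hgsec] at this

end Groth.Agent.S7641
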