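import Groth.Statements.S7643
import Groth.Agent.EulerDeg.Coherent
import Groth.Agent.LocFree.Rank
-- import your own Groth.Agent.* helpers here

set_option autoImplicit false
universe u
open CategoryTheory CategoryTheory.Limits AlgebraicGeometry
open Variety

namespace Groth.Agent.S7643

/-- Let X be proper of dimension at most one over a field k and let 0 → E₁ → E₂ → E₃ → 0 be a short
exact sequence of finite locally free modules of constant ranks n₁, n₂, n₃. Then deg(E₂) = deg(E₁) +
deg(E₃). -/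
theorem result (k : Type u) [Field k] (X : Scheme.{u}) [X.Over (Spec (CommRingCat.of k))] [IsProper (X ↘ (Spec (CommRingCat.of k)))]
    (hdim : topologicalKrullDim X ≤ 1) (S : ShortComplex X.Modules) (hS : S.ShortExact)
    (n₁ n₂ n₃ : ℕ) (h₁ : FlatMod.IsFinLocFreeOfRank n₁ S.X₁) (h₂ : FlatMod.IsFinLocFreeOfRank n₂ S.X₂)
    (h₃ : FlatMod.IsFinLocFreeOfRank n₃ S.X₃) :
    Curv2.deg k X S.X₂ n₂ = Curv2.deg k X S.X₁ n₁ + Curv2.deg k X S.X₃ n₃ := by
  have hc : ∀ {n : ℕ} {M : X.Modules}, FlatMod.IsFinLocFreeOfRank n M →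
      Groth.EulerDeg.FinCoh k M := fun h =>
    Groth.EulerDeg.finCoh k X (Groth.KTheory.LocFree.isCoh (Groth.LocFree.isFinLocFree_of_rank h))
  rcases isEmpty_or_nonempty X with hX | ⟨⟨x⟩⟩
  · have hz : ∀ (M : X.Modules) (n : ℕ), Curv2.euler k X M = 0 := fun M _ => by
      refine Groth.EulerDeg.euler_of_isZero fun i => ?_
      have hM : IsZero M := by
        rw [Groth.QCohMod.isZero_iff_support_eq_empty]
        exact Set.eq_empty_of_isEmpty _
      exact Sheaf.subsingleton_H_of_isZero ((Groth.CohBase.toAbF X).map_isZero hM) i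
    simp only [Curv2.deg, hz _ 0, mul_zero, sub_zero, add_zero]
  · have hn : n₂ = n₁ + n₃ := by
      obtain ⟨hinj, hex, hsurj⟩ := Groth.KTheory.LocFree.stalk_exact hS x
      have := Groth.KTheory.LocFree.free_stalk (Groth.LocFree.isFinLocFree_of_rank h₁) x
      have := Groth.KTheory.LocFree.free_stalk (Groth.LocFree.isFinLocFree_of_rank h₃) x
      have hq₁ := Groth.KTheory.LocFree.isCoh (Groth.LocFree.isFinLocFree_of_rank h₁)
      have hq₃ := Groth.KTheory.LocFree.isCoh (Groth.LocFree.isFinLocFree_of_rank h₃)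
      have := hq₁.1
      have := hq₃.1
      have := Groth.QCohMod.finite_stalk S.X₁ hq₁.2 x
      have := Groth.QCohMod.finite_stalk S.X₃ hq₃.2 x
      obtain ⟨l, hl⟩ := Module.projective_lifting_property
        (Groth.KTheory.LocFree.stalkₗ S.g x) LinearMap.id hsurj
      obtain ⟨e, -, -⟩ := hex.splitSurjectiveEquiv hinj ⟨l, hl⟩
      rw [← Groth.LocFree.finrank_stalk h₂ x, e.finrank_eq, Module.finrank_prod,
        Groth.LocFree.finrank_stalk h₁ x, Groth.LocFree.finrank_stalk h₃ x]
    subst hn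
    exact Groth.EulerDeg.deg_add hS (hc h₁) (hc h₃) n₁ n₃

end Groth.Agent.S7643
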