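import Groth.Statements.S7646
import Groth.Agent.S1627
import Groth.Agent.FlatMor2.Chevalley.Noetherian
import Groth.Agent.Pi1Quot.SigmaFinite
import Groth.Agent.VarietyBC.CurveComponents

set_option autoImplicit false
universe u
open CategoryTheory CategoryTheory.Limits AlgebraicGeometry
open Variety

open TopologicalSpace Groth.VarietyBC

namespace Groth.Agent.S7646

/-- Let X be separated and of finite type over a field k with dim X ≤ 1, and assume that no irreducible
component of X of dimension one, given its reduced induced structure, is proper over k. Then X is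
affine. -/
theorem result (k : Type u) [Field k] (X : Scheme.{u}) [X.Over (Spec (CommRingCat.of k))]
    [IsSeparated (X ↘ (Spec (CommRingCat.of k)))] [LocallyOfFiniteType (X ↘ (Spec (CommRingCat.of k)))]
    [IsNoetherian X] (hdim : topologicalKrullDim X ≤ 1)
    (h : ∀ (C : Set X) (hC : C ∈ irreducibleComponents (X : Type u)), topologicalKrullDim C = 1 →
      ¬ IsProper ((X.irreducibleComponentIdeal C hC).radical.subschemeι ≫ (X ↘ (Spec (CommRingCat.of k))))) :
    IsAffine X := by
  classical
  let S := {C : Set X // C ∈ irreducibleComponents (X : Type u)}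
  have : Finite S := NoetherianSpace.finite_irreducibleComponents.to_subtype
  let I : S → X.IdealSheafData := fun C => (X.irreducibleComponentIdeal C.1 C.2).radical
  have hr : ∀ C : S, Set.range (I C).subschemeι = C.1 := fun C => by
    rw [(I C).range_subschemeι, Scheme.IdealSheafData.support_radical]
    rfl
  have haff : ∀ C : S, IsAffine (I C).subscheme := by
    intro C
    haveI hint : IsIntegral (I C).subscheme := by
      show IsIntegral (X.irreducibleComponentIdeal C.1 C.2).radical.subscheme
      rw [CurveComp.radical_irreducibleComponentIdeal C.1 C.2]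
      exact CohTwo.isIntegral_closure_subscheme rfl
    have hd : topologicalKrullDim (I C).subscheme = topologicalKrullDim C.1 :=
      IsHomeomorph.topologicalKrullDim_eq _
        ((I C).subschemeι.isEmbedding.toHomeomorph.trans (Homeomorph.setCongr (hr C))).isHomeomorph
    have hle : topologicalKrullDim (I C).subscheme ≤ 1 :=
      ((I C).subschemeι.isEmbedding.isInducing.topologicalKrullDim_le).trans hdim
    rcases eq_or_lt_of_le hle with h1 | h0
    · letI : (I C).subscheme.Over (Spec (CommRingCat.of k)) :=
        ⟨(I C).subschemeι ≫ (X ↘ Spec (CommRingCat.of k))⟩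
      haveI : IsSeparated ((I C).subscheme ↘ Spec (CommRingCat.of k)) :=
        inferInstanceAs (IsSeparated ((I C).subschemeι ≫ (X ↘ Spec (CommRingCat.of k))))
      haveI : LocallyOfFiniteType ((I C).subscheme ↘ Spec (CommRingCat.of k)) :=
        inferInstanceAs (LocallyOfFiniteType ((I C).subschemeι ≫ (X ↘ Spec (CommRingCat.of k))))
      haveI : CompactSpace (I C).subscheme := QuasiCompact.compactSpace_of_compactSpace (I C).subschemeι
      haveI : QuasiCompact ((I C).subscheme ↘ Spec (CommRingCat.of k)) := inferInstance
      rcases Groth.Agent.S1627.result k (I C).subscheme h1 with h' | ⟨d, c, hc, hcc⟩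
      · exact h'
      · refine absurd ?_ (h C.1 C.2 (hd.symm.trans h1))
        haveI := Groth.Variety2.isProper_projSpace_toSpec d k
        change IsProper ((I C).subscheme ↘ Spec (CommRingCat.of k))
        rw [← hcc]
        infer_instance
    · have hmin : ∀ y : (I C).subscheme, y = genericPoint (I C).subscheme := by
        intro y
        have h00 : Order.krullDim (TopologicalSpace.IrreducibleCloseds (I C).subscheme) ≤ 0 :=
          by
            have h0' : topologicalKrullDim (I C).subscheme < 1 := h0
            unfold topologicalKrullDim at h0'
            revert h0'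
            generalize Order.krullDim (IrreducibleCloseds (I C).subscheme) = d
            induction d with
            | bot => simp
            | coe d => exact fun hlt => WithBot.coe_le_coe.2 (ENat.lt_one_iff_eq_zero.1 (WithBot.coe_lt_coe.1 hlt)).le
        let a : IrreducibleCloseds (I C).subscheme :=
          ⟨closure {y}, isIrreducible_singleton.closure, isClosed_closure⟩
        let b : IrreducibleCloseds (I C).subscheme :=
          ⟨Set.univ, IrreducibleSpace.isIrreducible_univ _, isClosed_univ⟩
        have hab : a ≤ b := fun _ _ => trivial
        have := (Order.krullDim_nonpos_iff_forall_isMin.1 h00 b) hab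
        exact ((isGenericPoint_def.2 (Set.eq_univ_of_univ_subset this) :
          IsGenericPoint y Set.univ)).eq (genericPoint_spec _)
      obtain ⟨_, ⟨V, hV, rfl⟩, hηV, -⟩ := (I C).subscheme.isBasis_affineOpens.exists_subset_of_mem_open
        (Set.mem_univ (genericPoint (I C).subscheme)) isOpen_univ
      have htop : V = ⊤ := top_le_iff.1 fun y _ => (hmin y).symm ▸ hηV
      have hV' : IsAffineOpen (⊤ : (I C).subscheme.Opens) := htop ▸ hV
      haveI : IsAffine ((⊤ : (I C).subscheme.Opens) : Scheme.{u}) := hV'
      exact IsAffine.of_isIso (Scheme.topIso (I C).subscheme).inv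
  let g : (∐ fun C : S => (I C).subscheme) ⟶ X := Sigma.desc fun C => (I C).subschemeι
  haveI : IsFinite g := Groth.Pi1Quot.isFinite_sigmaDesc _
  haveI : Surjective g := by
    refine ⟨fun x => ?_⟩
    obtain ⟨z, hz⟩ : x ∈ Set.range (I ⟨_, irreducibleComponent_mem_irreducibleComponents x⟩).subschemeι := by
      rw [hr]; exact mem_irreducibleComponent
    refine ⟨Sigma.ι (fun C : S => (I C).subscheme) _ z, ?_⟩
    rw [← Scheme.Hom.comp_apply, Sigma.ι_desc]
    exact hz
  haveI := haff
  exact Groth.FlatMor2.Chevalley.isAffine_of_finite_surjective g

end Groth.Agent.S7646
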