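import Groth.Statements.S7647
import Groth.Agent.VarietyBC.InterComp
-- import your own Groth.Agent.* helpers here

set_option autoImplicit false
universe u
open CategoryTheory CategoryTheory.Limits AlgebraicGeometry
open Variety

namespace Groth.Agent.S7647

/-- Let X be proper over a field k, Z ⊆ X a closed subscheme of dimension ≤ 1 and L an invertible
module. Then the intersection number (L · Z), i.e. the coefficient of n in the polynomial computing
χ(X, O_Z ⊗ L^{⊗n}), equals the degree of L|_Z on Z. -/
theorem result (k : Type u) [Field k] (X : Scheme.{u}) [X.Over (Spec (CommRingCat.of k))] [IsProper (X ↘ (Spec (CommRingCat.of k)))]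
    (D : X.IdealSheafData) (hD : topologicalKrullDim (D.support : Set X) ≤ 1)
    (L : X.Modules) (hL : PicF.IsInvertible L) (P : MvPolynomial (Fin 1) ℚ)
    (hP : ∀ n : Fin 1 → ℕ, (Curv2.euler k X (Curv2.tensorPows (ClSub.quotMod D) 1 (fun _ => L) n) : ℚ) = MvPolynomial.eval (fun i => (n i : ℚ)) P) :
    MvPolynomial.coeff (Finsupp.equivFunOnFinite.symm fun _ : Fin 1 => 1) P =
      (@Curv2.deg k _ D.subscheme ⟨D.subschemeι ≫ (X ↘ (Spec (CommRingCat.of k)))⟩
        ((Scheme.Modules.pullback D.subschemeι).obj L) 1 : ℚ) := by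
  have hN : IsNoetherian X := Groth.Inter.isNoetherian k
  letI : D.subscheme.Over (Spec (CommRingCat.of k)) :=
    ⟨D.subschemeι ≫ (X ↘ (Spec (CommRingCat.of k)))⟩
  rw [Groth.VarietyBC.InterPoly.coeff_eq_delta k (fun _ : Fin 1 => L) (fun _ => hL)
    (Groth.EulerDeg.isCoh_quotMod D) ((Groth.LocCohTransform.topologicalKrullDim_mono
      (Groth.EulerDeg.support_quotMod_subset D)).trans (by simpa using hD)) P hP]
  have h1 : Curv2.euler k X (CohB1.tensorMod L (ClSub.quotMod D)) =
      Curv2.euler k D.subscheme ((Scheme.Modules.pullback D.subschemeι).obj L) :=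
    (Groth.EulerDeg.euler_congr k (Groth.Inter.tensor_push D.subschemeι hL _).some).trans
      ((Groth.Inter.euler_push k _ rfl _).trans
        (Groth.EulerDeg.euler_congr k (SecTwist.unitorR _)))
  have h2 : Curv2.euler k X (ClSub.quotMod D) =
      Curv2.euler k D.subscheme (Coh.structureModule D.subscheme) :=
    Groth.Inter.euler_push k D.subschemeι rfl _
  simp only [List.ofFn_succ, List.ofFn_zero, Groth.Inter.delta_cons, Groth.Inter.delta_nil, h1, h2,
    Curv2.deg]
  push_cast
  ring

end Groth.Agent.S7647
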