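import Groth.Statements.S7648
import Groth.Agent.VarietyBC.InterComp
import Groth.Agent.Inter.Positive
import Groth.Agent.Divisors.AssocMore
import Groth.Agent.EulerDeg.LineBundle
-- import your own Groth.Agent.* helpers here

set_option autoImplicit false
universe u
open CategoryTheory CategoryTheory.Limits AlgebraicGeometry
open Variety

namespace Groth.Agent.S7648

/-- Let X be proper over a field k of dimension e + 1, let D ⊆ X be an effective Cartier divisor and let
L_0, L_1, …, L_e be invertible modules with L_0 ≅ O_X(D), i.e. L_0 ⊗ I_D ≅ O_X. Then (L_0 ⋯ L_e · X)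
= (L_1 ⋯ L_e · D): the coefficient of n_0⋯n_e in the polynomial computing χ(X, ⊗_j L_j^{⊗n_j})
equals the coefficient of n_1⋯n_e in the polynomial computing χ(X, O_D ⊗ L_1^{⊗n_1} ⊗ ⋯ ⊗
L_e^{⊗n_e}). (The published statement has a closed subscheme Z ⊆ X of dimension d with D ⊆ Z and
L_1|_Z ≅ O_Z(D); this row is its case Z = X.) -/
theorem result (k : Type u) [Field k] (X : Scheme.{u}) [X.Over (Spec (CommRingCat.of k))] [IsProper (X ↘ (Spec (CommRingCat.of k)))]
    (e : ℕ) (hX : topologicalKrullDim X = e + 1) (D : X.IdealSheafData) (hD : FGA.IsEffCartier D)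
    (L : Fin (e + 1) → X.Modules) (hL : ∀ j, PicF.IsInvertible (L j))
    (hLD : ClSub.IsInverseOf (L 0) (ClSub.idealMod D))
    (P : MvPolynomial (Fin (e + 1)) ℚ) (Q : MvPolynomial (Fin e) ℚ)
    (hP : ∀ n : Fin (e + 1) → ℕ, (Curv2.euler k X (Curv2.tensorPows (Coh.structureModule X) (e + 1) L n) : ℚ) = MvPolynomial.eval (fun i => (n i : ℚ)) P)
    (hQ : ∀ n : Fin e → ℕ, (Curv2.euler k X (Curv2.tensorPows (ClSub.quotMod D) e (fun j => L j.succ) n) : ℚ) = MvPolynomial.eval (fun i => (n i : ℚ)) Q) :
    MvPolynomial.coeff (Finsupp.equivFunOnFinite.symm fun _ : Fin (e + 1) => 1) P = MvPolynomial.coeff (Finsupp.equivFunOnFinite.symm fun _ : Fin e => 1) Q := by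
  have hN : IsNoetherian X := Groth.Inter.isNoetherian k
  have hD' : BlowUp.IsEffCartierIdeal D := fun x => hD x
  have hass : ∀ x ∈ D.support, ¬ Curv2.IsWeakAssPoint (Coh.structureModule X) x := fun x hx =>
    Groth.VarietyBC.InterComp.notMem_support_of_weakAss hD' hx
  have hO : Coh.IsCoh (Coh.structureModule X) :=
    Groth.Inter.isCoh_of_isInvertible (Groth.EulerDeg.isInvertible_structureModule X)
  have hle : ∀ y : X, topologicalKrullDim (closure ({y} : Set X)) ≤ ((e + 1 : ℕ) : WithBot ℕ∞) :=
    fun y => (topologicalKrullDim_subspace_le X _).trans (by rw [hX]; simp)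
  -- the divisor has dimension at most `e`
  have hdimD : topologicalKrullDim (D.support : Set X) ≤ (e : ℕ) := by
    refine Groth.Inter.lt_natCast_succ_iff.1 (lt_of_le_of_ne
      ((topologicalKrullDim_subspace_le X _).trans (by rw [hX]; simp)) fun h => ?_)
    obtain ⟨ξ, hξ, hξd⟩ := Groth.Inter.exists_dim_closure_eq D.support.isClosed h
    exact hass ξ hξ (Groth.Divisors.weakAss_structure_of_maximal fun y hy =>
      (Groth.Inter.eq_of_dim_closure hy.mem_closure (hle y) hξd.ge).symm)
  have hsupp : topologicalKrullDim (CohB1.support (Coh.structureModule X)) ≤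
      ((e + 1 : ℕ) : WithBot ℕ∞) :=
    (topologicalKrullDim_subspace_le X _).trans (by rw [hX]; simp)
  let l := List.ofFn (fun j : Fin e => L j.succ)
  have hl : ∀ N ∈ l, PicF.IsInvertible N := fun N hN => by
    obtain ⟨j, rfl⟩ := List.mem_ofFn.1 hN
    exact hL _
  have hI : PicF.IsInvertible (ClSub.idealMod D) :=
    Groth.PicAux.isInvertible_of_isInverseOf (hL 0) hLD
  rw [Groth.VarietyBC.InterPoly.coeff_eq_delta k L hL hO hsupp P hP,
    Groth.VarietyBC.InterPoly.coeff_eq_delta k (fun j : Fin e => L j.succ) (fun j => hL _)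
      (Groth.EulerDeg.isCoh_quotMod D)
      ((Groth.LocCohTransform.topologicalKrullDim_mono
        (Groth.EulerDeg.support_quotMod_subset D)).trans hdimD) Q hQ, List.ofFn_succ]
  have ht := Groth.Inter.delta_tensor k (hL 0) hI hl hO
    (by simpa [l, List.length_ofFn] using hsupp)
  rw [Groth.Inter.delta_congr_list k (List.Forall₂.cons hLD
      (List.forall₂_same.2 fun M _ => ⟨Iso.refl M⟩)),
    Groth.Inter.delta_cons, Groth.Inter.delta_congr k _ (Groth.Inter.tensor_one _), sub_self,
    Groth.Inter.delta_idealMod_cons k hO hD' hass hl,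
    Groth.Inter.delta_congr k _ (Groth.Inter.tensor_one (ClSub.quotMod D))] at ht
  have h2 : Groth.Inter.delta k (L 0 :: l) (Coh.structureModule X) =
      -Groth.Inter.delta k l (ClSub.quotMod D) := by linarith
  rw [h2]
  push_cast
  ring

end Groth.Agent.S7648
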