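import Groth.Statements.S7650
import Groth.Agent.VarietyBC.InterComp
-- import your own Groth.Agent.* helpers here

set_option autoImplicit false
universe u
open CategoryTheory CategoryTheory.Limits AlgebraicGeometry
open Variety

namespace Groth.Agent.S7650

/-- Let X be proper over a field k, F a coherent module with dim Supp(F) = d and L_1, …, L_r invertible
modules. The Euler characteristic of F twisted by L_1^{⊗n_1} ⊗ ⋯ ⊗ L_r^{⊗n_r}, minus the sum over
the d-dimensional irreducible components Z of Supp(F) of the length of F at the generic point of Z
times the Euler characteristic on Z of the restricted twist, agrees with a rational polynomial in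
the exponents each of whose monomials has total degree less than d. Here the sum is written over all
points ξ of X whose closure has dimension d (the term vanishes unless ξ is the generic point of a
d-dimensional component of Supp(F)), and Z_ξ carries its reduced induced structure. (The published
statement lets the exponents range over all integers; this row takes them in ℕ.) -/
theorem result (k : Type u) [Field k] (X : Scheme.{u}) [X.Over (Spec (CommRingCat.of k))] [IsProper (X ↘ (Spec (CommRingCat.of k)))]
    (F : X.Modules) (hF : Coh.IsCoh F) (d : ℕ) (hd : topologicalKrullDim (CohB1.support F) = d)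
    (r : ℕ) (L : Fin r → X.Modules) (hL : ∀ i, PicF.IsInvertible (L i)) :
    ∃ P : MvPolynomial (Fin r) ℚ, (∀ m ∈ P.support, (m.sum fun _ e => e) < d) ∧
      ∀ n : Fin r → ℕ,
        (Curv2.euler k X (Curv2.tensorPows F r L n) : ℚ) -
          ∑ᶠ ξ : X, (if topologicalKrullDim (closure ({ξ} : Set X)) = (d : WithBot ℕ∞) then
            ((Module.length (X.presheaf.stalk ξ) (F.presheaf.stalk ξ)).toNat : ℚ) *
              (@Curv2.euler k _
                (Scheme.IdealSheafData.vanishingIdeal (⟨closure ({ξ} : Set X), isClosed_closure⟩ : TopologicalSpace.Closeds X)).subscheme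
                ⟨(Scheme.IdealSheafData.vanishingIdeal (⟨closure ({ξ} : Set X), isClosed_closure⟩ : TopologicalSpace.Closeds X)).subschemeι ≫ (X ↘ (Spec (CommRingCat.of k)))⟩
                (Curv2.tensorPows
                  (Coh.structureModule (Scheme.IdealSheafData.vanishingIdeal (⟨closure ({ξ} : Set X), isClosed_closure⟩ : TopologicalSpace.Closeds X)).subscheme)
                  r (fun i => (Scheme.Modules.pullback
                    (Scheme.IdealSheafData.vanishingIdeal (⟨closure ({ξ} : Set X), isClosed_closure⟩ : TopologicalSpace.Closeds X)).subschemeι).obj (L i)) n) : ℚ)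
            else 0)
          = MvPolynomial.eval (fun i => (n i : ℚ)) P := by
  have hN : IsNoetherian X := Groth.Inter.isNoetherian k
  obtain ⟨s, hs⟩ := Groth.VarietyBC.InterComp.exists_topPoints hF d hd.le
  obtain ⟨P, hP, hPe⟩ :=
    Groth.VarietyBC.InterComp.euler_sub_components_mem k d L hL hF hd.le s hs
  refine ⟨P, hP, fun n => ?_⟩
  rw [← hPe n, Groth.VarietyBC.InterComp.finsum_eq_sum s hs]
  refine congrArg _ (Finset.sum_congr rfl fun ξ _ => ?_)
  congr 1
  exact congrArg _ (Groth.VarietyBC.InterComp.euler_tensorPows_quotMod k (IntMult.ptIdeal ξ) L hL n).symm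

end Groth.Agent.S7650
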