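import Groth.Statements.S7651
import Groth.Agent.VarietyBC.DimOneLocal

set_option autoImplicit false
universe u
open CategoryTheory CategoryTheory.Limits AlgebraicGeometry
open Variety

namespace Groth.Agent.S7651

/-- Let (A, m) be a Noetherian local ring of dimension one and f ∈ m. Then (1) m = √(f), (2) f lies in
no minimal prime of A, and (3) A_f ≅ ∏_{p minimal} A_p as A-algebras, are equivalent; such an f
exists; if A has depth one, for instance if A is reduced, they are also equivalent to (4) f is a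
nonzerodivisor and to (5) A → A_f is the localization of A at all its nonzerodivisors; and if A is
reduced they are also equivalent to (6) A_f ≅ ∏_{p minimal} κ(p) as A-algebras. -/
theorem result (A : Type u) [CommRing A] [IsLocalRing A]
    [IsNoetherianRing A] (hdim : ringKrullDim A = 1) :
    (∃ f ∈ IsLocalRing.maximalIdeal A, ∀ p ∈ minimalPrimes A, f ∉ p) ∧
    ∀ f ∈ IsLocalRing.maximalIdeal A,
      ((IsLocalRing.maximalIdeal A = (Ideal.span {f}).radical) ↔ (∀ p ∈ minimalPrimes A, f ∉ p)) ∧
      ((∀ p ∈ minimalPrimes A, f ∉ p) ↔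
        Nonempty (Localization.Away f ≃ₐ[A] (∀ p : {p : PrimeSpectrum A // p.asIdeal ∈ minimalPrimes A}, Localization.AtPrime p.1.asIdeal))) ∧
      ((LocCoh.depth A A = 1 ∨ IsReduced A) →
        ((∀ p ∈ minimalPrimes A, f ∉ p) ↔ f ∈ nonZeroDivisors A) ∧
        ((∀ p ∈ minimalPrimes A, f ∉ p) ↔ IsLocalization (nonZeroDivisors A) (Localization.Away f))) ∧
      (IsReduced A →
        ((∀ p ∈ minimalPrimes A, f ∉ p) ↔
          Nonempty (Localization.Away f ≃ₐ[A] (∀ p : {p : PrimeSpectrum A // p.asIdeal ∈ minimalPrimes A}, p.1.asIdeal.ResidueField)))) := by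
  classical
  refine ⟨Groth.VarietyBC.DimOne.exists_mem_notMem_minimalPrimes hdim, fun f hf => ?_⟩
  have hequiv : (∀ p ∈ minimalPrimes A, f ∉ p) ↔
      Nonempty (Localization.Away f ≃ₐ[A] (∀ p : {p : PrimeSpectrum A // p.asIdeal ∈ minimalPrimes A}, Localization.AtPrime p.1.asIdeal)) := by
    refine ⟨Groth.VarietyBC.DimOne.nonempty_algEquiv_pi hdim hf, fun ⟨e⟩ p hp hfp => ?_⟩
    have := Ideal.IsMinimalPrime.isPrime hp
    have hu : IsUnit (algebraMap A (Localization.Away f) f) :=
      IsLocalization.map_units (Localization.Away f) (⟨f, Submonoid.mem_powers f⟩ : Submonoid.powers f)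
    have h1 := IsUnit.apply (hu.map e) ⟨⟨p, this⟩, hp⟩
    rw [AlgEquiv.commutes] at h1
    exact ((IsLocalization.AtPrime.isUnit_to_map_iff (Localization.AtPrime p) p f).1 h1) hfp
  refine ⟨Groth.VarietyBC.DimOne.radical_eq_iff hdim hf, hequiv, fun hA => ⟨?_, ?_⟩, fun hred => ?_⟩
  · exact Groth.VarietyBC.DimOne.mem_nonZeroDivisors_iff_notMem hdim hA
  · refine ⟨fun h => ?_, fun h => ?_⟩
    · refine IsLocalization.of_le (Submonoid.powers f) (nonZeroDivisors A) ?_ fun s hs => ?_
      · rintro _ ⟨n, rfl⟩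
        exact pow_mem ((Groth.VarietyBC.DimOne.mem_nonZeroDivisors_iff_notMem hdim hA).1 h) n
      · exact Groth.VarietyBC.DimOne.isUnit_away hdim hf
          ((Groth.VarietyBC.DimOne.mem_nonZeroDivisors_iff_notMem hdim hA).2 hs)
    · rw [Groth.VarietyBC.DimOne.mem_nonZeroDivisors_iff_notMem hdim hA]
      refine mem_nonZeroDivisors_iff_right.2 fun w hw => ?_
      have hinj : Function.Injective (algebraMap A (Localization.Away f)) :=
        IsLocalization.injective (Localization.Away f) (le_refl (nonZeroDivisors A))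
      refine hinj ?_
      have hu : IsUnit (algebraMap A (Localization.Away f) f) :=
        IsLocalization.map_units (Localization.Away f) (⟨f, Submonoid.mem_powers f⟩ : Submonoid.powers f)
      rw [map_zero]
      exact hu.mul_left_eq_zero.1 (by rw [← map_mul, hw, map_zero])
  · let e : (∀ p : {p : PrimeSpectrum A // p.asIdeal ∈ minimalPrimes A}, Localization.AtPrime p.1.asIdeal) ≃ₐ[A]
        (∀ p : {p : PrimeSpectrum A // p.asIdeal ∈ minimalPrimes A}, p.1.asIdeal.ResidueField) :=
      AlgEquiv.piCongrRight fun p => AlgEquiv.ofBijective _ (Groth.VarietyBC.DimOne.bijective_residueField p.2)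
    rw [hequiv]
    exact ⟨fun ⟨g⟩ => ⟨g.trans e⟩, fun ⟨g⟩ => ⟨g.trans e.symm⟩⟩

end Groth.Agent.S7651
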