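import Groth.Statements.S7653
import Mathlib

set_option autoImplicit false
universe u
open CategoryTheory CategoryTheory.Limits AlgebraicGeometry
open Variety

namespace Groth.Agent.S7653

/-- For a reduced local Nagata ring A of Krull dimension one, the δ-invariant of A is zero exactly when
A is a DVR (in particular a domain). -/
theorem result (A : Type u) [CommRing A] [IsLocalRing A]
    [IsReduced A] (hN : CAlg.IsNagata A) (hdim : ringKrullDim A = 1) :
    Curv2.deltaInv A = 0 ↔ ∃ _ : IsDomain A, IsDiscreteValuationRing A := by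
  classical
  have : IsNoetherianRing A := hN.1
  have hclosed : Curv2.deltaInv A = 0 ↔
      ∀ z : FractionRing A, IsIntegral A z → z ∈ (algebraMap A (FractionRing A)).range := by
    rw [Curv2.deltaInv, Module.length_eq_zero_iff, Submodule.Quotient.subsingleton_iff,
      LinearMap.range_eq_top]
    exact ⟨fun h z hz => let ⟨a, ha⟩ := h ⟨z, hz⟩; ⟨a, congrArg Subtype.val ha⟩,
      fun h z => let ⟨a, ha⟩ := h z.1 z.2; ⟨a, Subtype.ext ha⟩⟩
  rw [hclosed]
  constructor
  · intro h
    have hdom : IsDomain A := by
      refine @NoZeroDivisors.to_isDomain A _ inferInstance ⟨fun {a b} hab => ?_⟩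
      rw [or_iff_not_imp_left]
      intro ha
      have hfin := minimalPrimes.finite_of_isNoetherianRing A
      let T : Finset (Ideal A) := hfin.toFinset.filter fun p => a ∉ p
      let J : Ideal A := T.inf id
      have hJ : ¬ ((J : Set A) ⊆ ⋃ p ∈ (↑(hfin.toFinset.filter fun p => a ∈ p) : Set (Ideal A)), (p : Set A)) := by
        intro hsub
        obtain ⟨p, hp, hle⟩ := (Ideal.subset_union_prime ⊥ ⊥ fun i hi _ _ =>
          Ideal.minimalPrimes_isPrime (hfin.mem_toFinset.1 (Finset.mem_filter.1 hi).1)).1 hsub
        obtain ⟨hp1, hp2⟩ := Finset.mem_filter.1 hp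
        have hpp := Ideal.minimalPrimes_isPrime (hfin.mem_toFinset.1 hp1)
        obtain ⟨q, hq, hqp⟩ := (Ideal.IsPrime.inf_le' hpp).1 hle
        obtain ⟨hq1, hq2⟩ := Finset.mem_filter.1 hq
        have : p ≤ q := (hfin.mem_toFinset.1 hp1).2
          ⟨Ideal.minimalPrimes_isPrime (hfin.mem_toFinset.1 hq1), bot_le⟩ hqp
        exact hq2 (this hp2)
      obtain ⟨c, hc, hc'⟩ := Set.not_subset.1 hJ
      have hcp : ∀ p ∈ minimalPrimes A, a ∈ p → c ∉ p := fun p hp hap hcp => hc'
        (Set.mem_biUnion (Finset.mem_coe.2 (Finset.mem_filter.2 ⟨hfin.mem_toFinset.2 hp, hap⟩)) hcp)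
      have hcq : ∀ p ∈ minimalPrimes A, a ∉ p → c ∈ p := fun p hp hap =>
        (Finset.inf_le (f := id) (Finset.mem_filter.2 ⟨hfin.mem_toFinset.2 hp, hap⟩) : J ≤ p) hc
      have hzero : ∀ w : A, (∀ p ∈ minimalPrimes A, w ∈ p) → w = 0 := fun w hw => by
        refine IsReduced.eq_zero _ (mem_nilradical.1 ?_)
        rw [nilradical, Submodule.zero_eq_bot, ← Ideal.sInf_minimalPrimes]
        exact Submodule.mem_sInf.2 hw
      have hac : a * c = 0 := hzero _ fun p hp => by
        by_cases hap : a ∈ p
        · exact p.mul_mem_right _ hap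
        · exact p.mul_mem_left _ (hcq p hp hap)
      have hnzd : a + c ∈ nonZeroDivisors A := by
        refine mem_nonZeroDivisors_iff_right.2 fun w hw => hzero w fun p hp => ?_
        have hpp := Ideal.minimalPrimes_isPrime hp
        refine (hpp.mem_or_mem (hw ▸ p.zero_mem : w * (a + c) ∈ p)).resolve_right fun hac' => ?_
        by_cases hap : a ∈ p
        · exact hcp p hp hap ((p.add_mem_iff_right hap).1 hac')
        · exact hap ((p.add_mem_iff_left (hcq p hp hap)).1 hac')
      let e : FractionRing A := IsLocalization.mk' (FractionRing A) a (⟨a + c, hnzd⟩ : nonZeroDivisors A)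
      have he : e * e = e := by
        rw [← IsLocalization.mk'_mul]
        refine IsLocalization.mk'_eq_of_eq ?_
        change (a + c) * (a + c) * a = (a + c) * (a * a)
        linear_combination (a + c) * hac
      obtain ⟨f, hf⟩ := h e ⟨Polynomial.X ^ 2 - Polynomial.X, Polynomial.monic_X_pow_sub (by simp), by
        simp [pow_two, he]⟩
      have hff : f * f = f := IsFractionRing.injective A (FractionRing A) (by rw [map_mul, hf, he])
      have hmul : a = f * (a + c) := IsFractionRing.injective A (FractionRing A) (by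
        rw [map_mul, hf]; exact (IsLocalization.mk'_spec _ _ _).symm)
      rcases IsLocalRing.isUnit_or_isUnit_one_sub_self f with hu | hu
      · have hf1 : f = 1 := by
          obtain ⟨u, rfl⟩ := hu
          exact (Units.mul_right_inj u).1 (hff.trans (mul_one _).symm)
        rw [hf1, one_mul, left_eq_add] at hmul
        rw [hmul, add_zero] at hnzd
        exact mem_nonZeroDivisors_iff_left.1 hnzd b hab
      · have hf0 : f = 0 := by
          obtain ⟨u, hu⟩ := hu
          exact (Units.mul_right_eq_zero u).1 (by rw [hu, sub_mul, one_mul, hff, sub_self])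
        exact absurd (by rw [hmul, hf0, zero_mul]) ha
    refine ⟨hdom, ?_⟩
    have : IsIntegrallyClosed A := (isIntegrallyClosed_iff (FractionRing A)).2 fun {z} hz => h z hz
    have hnf : ¬ IsField A := fun hf => by
      rw [ringKrullDim_eq_zero_of_isField hf] at hdim; exact zero_ne_one hdim
    have : Ring.KrullDimLE 1 A := Ring.krullDimLE_iff.2 (by simp [hdim])
    have hiff : IsDiscreteValuationRing A ↔ IsIntegrallyClosed A ∧ ∃! P : Ideal A, P ≠ ⊥ ∧ P.IsPrime :=
      (IsDiscreteValuationRing.TFAE A hnf).out 0 3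
    exact hiff.2
      ⟨inferInstance, (IsLocalRing.maximalIdeal A), ⟨(IsLocalRing.isField_iff_maximalIdeal_eq.not.1 hnf), inferInstance⟩,
        fun P ⟨hP0, hP⟩ => (Ideal.IsPrime.isMaximal_of_ne_bot hP hP0).eq_of_le (IsLocalRing.maximalIdeal.isMaximal A).ne_top
          (IsLocalRing.le_maximalIdeal hP.ne_top)⟩
  · rintro ⟨_, hdvr⟩ z hz
    exact IsIntegrallyClosed.isIntegral_iff.1 hz

end Groth.Agent.S7653
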