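import Groth.Statements.S7656
import Groth.Agent.Hensel1.FieldExtBranches
import Groth.Agent.VarietyBC.Reduced
import Groth.Agent.PropsBasic.UnibranchPunctured

set_option autoImplicit false
universe u
open CategoryTheory CategoryTheory.Limits AlgebraicGeometry
open Variety

namespace Groth.Agent.S7656

attribute [local instance] Curv2.stalkAlgebra

open TensorProduct

set_option backward.isDefEq.respectTransparency false

theorem aux {k : Type u} [Field k] {X : Scheme.{u}} [X.Over (Spec (CommRingCat.of k))] (K : Type u)
    [Field K] [Algebra k K] (x : X) (y : Curv2.bc k X K) (hy : Curv2.bcFst k X K y = x) :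
    Brnch.numGeomBranches (X.presheaf.stalk x) = Brnch.numGeomBranches ((Curv2.bc k X K).presheaf.stalk y) := by
  obtain ⟨P, hP, ⟨e⟩⟩ := Groth.VarietyBC.exists_stalkEquiv K x y (specializes_of_eq hy)
  let O := X.presheaf.stalk x
  have hcomap : P.asIdeal.comap (algebraMap O (O ⊗[k] K)) = IsLocalRing.maximalIdeal O := by
    have h1 := Groth.VarietyBC.tensorTo_fst_apply K (Groth.VarietyBC.overSpec_stalk (k := k) x) P
    rw [hP] at h1
    have h2 : X.fromSpecStalk x (IsLocalRing.closedPoint O) = x := Scheme.fromSpecStalk_closedPoint
    have h3 := (X.fromSpecStalk x).isEmbedding.injective (h1.symm.trans (hy.trans h2.symm))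
    exact congrArg PrimeSpectrum.asIdeal h3
  have : IsLocalization.AtPrime O (P.asIdeal.comap (algebraMap O (O ⊗[k] K))) := by
    have h0 : IsLocalization.AtPrime O (IsLocalRing.maximalIdeal O) :=
      IsLocalization.self fun r hr => IsLocalRing.notMem_maximalIdeal.mp hr
    have he : (P.asIdeal.comap (algebraMap O (O ⊗[k] K))).primeCompl =
        (IsLocalRing.maximalIdeal O).primeCompl :=
      Submonoid.ext fun a => not_congr (SetLike.ext_iff.mp hcomap a)
    exact (congrArg (fun N : Submonoid O => IsLocalization N O) he).mpr h0
  obtain ⟨q, hq⟩ := ExpChar.exists k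
  let L := Localization.AtPrime (P.asIdeal.comap (algebraMap O (O ⊗[k] K)))
  have hOL : Brnch.numGeomBranches L = Brnch.numGeomBranches O := by
    have := expChar_of_injective_ringHom (algebraMap k O).injective q
    have := expChar_of_injective_ringHom ((IsLocalRing.residue O).comp (algebraMap k O)).injective q
    let ε : O ≃ₐ[O] L := IsLocalization.algEquiv (P.asIdeal.comap (algebraMap O (O ⊗[k] K))).primeCompl O L
    have : IsLocalHom (algebraMap O L) := ⟨fun a ha => by
      have h4 := ha.map ε.symm
      rwa [AlgEquiv.commutes] at h4⟩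
    have : Module.Flat O L := Module.Flat.of_linearEquiv ε.symm.toLinearEquiv
    exact Groth.Hensel1.numGeomBranches_eq_of_pow_mem q fun b =>
      ⟨0, ε.symm b, by rw [pow_zero, pow_one]; exact (ε.commutes (ε.symm b)).symm.trans (ε.apply_symm_apply b)⟩
  have hPy : Brnch.numGeomBranches ((Curv2.bc k X K).presheaf.stalk y) =
      Brnch.numGeomBranches (Localization.AtPrime P.asIdeal) := by
    let M := Localization.AtPrime P.asIdeal
    let _ : Algebra M ((Curv2.bc k X K).presheaf.stalk y) := e.symm.toRingHom.toAlgebra
    have h0 : Function.Injective ((algebraMap (O ⊗[k] K) M).comp (algebraMap k (O ⊗[k] K))) := RingHom.injective _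
    have := expChar_of_injective_ringHom h0 q
    have := expChar_of_injective_ringHom
      ((IsLocalRing.residue M).comp ((algebraMap (O ⊗[k] K) M).comp (algebraMap k (O ⊗[k] K)))).injective q
    have : IsLocalHom (algebraMap M ((Curv2.bc k X K).presheaf.stalk y)) := ⟨fun a ha => by
      have h4 := ha.map e
      rwa [show e (algebraMap M ((Curv2.bc k X K).presheaf.stalk y) a) = a from e.apply_symm_apply a] at h4⟩
    let ε : M ≃ₐ[M] (Curv2.bc k X K).presheaf.stalk y := { e.symm with commutes' := fun _ => rfl }
    have : Module.Flat M ((Curv2.bc k X K).presheaf.stalk y) := Module.Flat.of_linearEquiv ε.symm.toLinearEquiv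
    exact Groth.Hensel1.numGeomBranches_eq_of_pow_mem q fun b =>
      ⟨0, e b, by rw [pow_zero, pow_one]; exact e.symm_apply_apply b⟩
  show Brnch.numGeomBranches O = Brnch.numGeomBranches ((Curv2.bc k X K).presheaf.stalk y)
  rw [hPy, Groth.Hensel1.numGeomBranches_atPrime_baseChange_field K P.asIdeal, hOL]


/-- For X locally of finite type over a field k, a field extension K/k and a point y of X_K over x ∈ X,
the local rings of X at x and of X_K at y have the same number of geometric branches. -/
theorem result (k : Type u) [Field k] (X : Scheme.{u}) [X.Over (Spec (CommRingCat.of k))]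
    [LocallyOfFiniteType (X ↘ (Spec (CommRingCat.of k)))] (K : Type u) [Field K] [Algebra k K]
    (y : ↥(Curv2.bc k X K)) :
    Brnch.numGeomBranchesAt X ((Curv2.bcFst k X K).base y) =
      Brnch.numGeomBranchesAt (Curv2.bc k X K) y :=
  aux K _ y rfl

end Groth.Agent.S7656
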