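import Groth.Statements.S7658
import Mathlib.AlgebraicGeometry.Morphisms.Separated
import Mathlib.AlgebraicGeometry.Morphisms.OpenImmersion

set_option autoImplicit false
universe u
open CategoryTheory CategoryTheory.Limits AlgebraicGeometry
open Variety

namespace Groth.Agent.S7658

/-- A separated morphism of schemes f : X → Y such that X has an open covering on whose members f
restricts to open immersions, and such that no two distinct generic points of irreducible components
of X have the same image under f, is an open immersion. -/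
theorem result {X Y : Scheme.{u}}
    (f : X ⟶ Y) [IsSeparated f]
    (hloc : ∀ x : X, ∃ U : X.Opens, x ∈ U ∧ IsOpenImmersion (U.ι ≫ f))
    (hinj : ∀ ξ ξ' : X, closure ({ξ} : Set X) ∈ irreducibleComponents (X : Type u) → closure ({ξ'} : Set X) ∈ irreducibleComponents (X : Type u) →
      f.base ξ = f.base ξ' → ξ = ξ') :
    IsOpenImmersion f := by
  choose U hxU hU using hloc
  have hopen : IsOpenMap f := isOpenMap_iff_nhds_le.2 fun x => by
    have := hU x
    have h := ((U x).ι ≫ f).isOpenEmbedding.isOpenMap.nhds_le ⟨x, hxU x⟩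
    change nhds (((U x).ι ≫ f) ⟨x, hxU x⟩) ≤ Filter.map f (nhds ((U x).ι ⟨x, hxU x⟩))
    rw [← (U x).ι.isOpenEmbedding.map_nhds_eq ⟨x, hxU x⟩]
    rw [Filter.map_map]
    exact h
  have hinjU : ∀ x : X, Set.InjOn f (U x) := fun x a ha b hb h => by
    have := hU x
    exact congrArg Subtype.val (((U x).ι ≫ f).injective (a₁ := ⟨a, ha⟩) (a₂ := ⟨b, hb⟩) h)
  have hinjf : Function.Injective f := by
    intro x x' h
    have := hU x
    let g := (U x).ι ≫ f
    let V : Y.Opens := g.opensRange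
    -- a generic point above x
    obtain ⟨ξ, hξ⟩ := QuasiSober.sober (isIrreducible_irreducibleComponent (x := x)) isClosed_irreducibleComponent
    have hξx : ξ ⤳ x := hξ.specializes mem_irreducibleComponent
    have hξU : ξ ∈ U x := hξx.mem_open (U x).2 (hxU x)
    have hfξ : f ξ ⤳ f x' := h ▸ hξx.map f.continuous
    have hξmax : closure ({ξ} : Set X) ∈ irreducibleComponents (X : Type u) :=
      hξ.def ▸ irreducibleComponent_mem_irreducibleComponents x
    have := hU x'
    obtain ⟨⟨ξ', hξ'U⟩, hξ'⟩ : f ξ ∈ Set.range ((U x').ι ≫ f) :=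
      hfξ.mem_open ((U x').ι ≫ f).isOpenEmbedding.isOpen_range ⟨⟨x', hxU x'⟩, rfl⟩
    have hξ'x : ξ' ⤳ x' := by
      have h1 : ((U x').ι ≫ f) ⟨ξ', hξ'U⟩ ⤳ ((U x').ι ≫ f) ⟨x', hxU x'⟩ := by
        rw [hξ']; exact hfξ
      exact (((U x').ι ≫ f).isOpenEmbedding.isInducing.specializes_iff.1 h1).map (U x').ι.continuous
    have hξ'max : closure ({ξ'} : Set X) ∈ irreducibleComponents (X : Type u) := by
      obtain ⟨η, hη⟩ := QuasiSober.sober (isIrreducible_irreducibleComponent (x := ξ')) isClosed_irreducibleComponent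
      have hηU : η ∈ U x' := (hη.specializes mem_irreducibleComponent).mem_open (U x').2 hξ'U
      have hfη : f η ⤳ f ξ := by
        have := (hη.specializes mem_irreducibleComponent).map f.continuous
        rwa [show f ξ' = f ξ from hξ'] at this
      obtain ⟨⟨η₀, hη₀U⟩, hη₀⟩ : f η ∈ Set.range g :=
        hfη.mem_open g.isOpenEmbedding.isOpen_range ⟨⟨ξ, hξU⟩, rfl⟩
      have hη₀ξ : η₀ ⤳ ξ := by
        have h1 : g ⟨η₀, hη₀U⟩ ⤳ g ⟨ξ, hξU⟩ := by rw [hη₀]; exact hfη
        exact (g.isOpenEmbedding.isInducing.specializes_iff.1 h1).map (U x).ι.continuous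
      have : η₀ = ξ := (hη₀ξ.antisymm (IsGenericPoint.specializes (x := ξ) isGenericPoint_closure
        (hξmax.2 isIrreducible_singleton.closure hη₀ξ.closure_subset (subset_closure rfl)))).eq
      subst this
      have : η = ξ' := hinjU x' hηU hξ'U ((hη₀.symm.trans rfl).trans hξ'.symm)
      subst this
      exact hη.def ▸ irreducibleComponent_mem_irreducibleComponents η
    obtain rfl := hinj ξ ξ' hξmax hξ'max hξ'.symm
    have hle : U x ≤ f ⁻¹ᵁ V := fun a ha => ⟨⟨a, ha⟩, rfl⟩
    let s := X.homOfLE hle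
    have hcomp : s ≫ (f ∣_ V) ≫ V.ι = g := by
      rw [morphismRestrict_ι, Scheme.homOfLE_ι_assoc]
    have : IsIso (s ≫ (f ∣_ V)) := by
      have : s ≫ (f ∣_ V) = g.isoOpensRange.hom := by
        rw [← cancel_mono V.ι, Category.assoc, hcomp, Scheme.Hom.isoOpensRange_hom_ι]
      rw [this]; infer_instance
    have : IsSeparated (f ∣_ V) := IsZariskiLocalAtTarget.restrict ‹_› V
    have hcl : IsClosedImmersion s := IsClosedImmersion.of_comp s (f ∣_ V)
    have hx'V : x' ∈ f ⁻¹ᵁ V := ⟨⟨x, hxU x⟩, h⟩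
    have hsp : (⟨ξ, hle hξU⟩ : ↥(f ⁻¹ᵁ V)) ⤳ ⟨x', hx'V⟩ := subtype_specializes_iff _ _ |>.2 hξ'x
    obtain ⟨a, ha⟩ := hsp.mem_closed s.isClosedEmbedding.isClosed_range ⟨⟨ξ, hξU⟩, by
      exact Subtype.ext (congr($(X.homOfLE_ι hle) ⟨ξ, hξU⟩))⟩
    have hax : (U x).ι a = x' :=
      (congr($(X.homOfLE_ι hle) a)).symm.trans (congrArg Subtype.val ha)
    have hx'U : x' ∈ U x := hax ▸ a.2
    exact hinjU x (hxU x) hx'U h
  refine IsOpenImmersion.iff_isIso_stalkMap.2 ⟨.of_continuous_injective_isOpenMap f.continuous hinjf hopen, fun x => ?_⟩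
  have := hU x
  have h := Scheme.Hom.stalkMap_comp (U x).ι f ⟨x, hxU x⟩
  have : IsIso (f.stalkMap x ≫ (U x).ι.stalkMap ⟨x, hxU x⟩) := by
    have : IsIso (((U x).ι ≫ f).stalkMap ⟨x, hxU x⟩) := (IsOpenImmersion.iff_isIso_stalkMap.1 (hU x)).2 _
    rw [h] at this; exact this
  have hb : Function.Bijective ((U x).ι.stalkMap ⟨x, hxU x⟩) := by
    rw [← ConcreteCategory.isIso_iff_bijective]
    exact (IsOpenImmersion.iff_isIso_stalkMap.1 (inferInstance : IsOpenImmersion (U x).ι)).2 _
  rw [ConcreteCategory.isIso_iff_bijective] at this ⊢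
  exact (Function.Bijective.of_comp_iff' hb _).1 this

end Groth.Agent.S7658
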