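import Groth.Statements.S7661
-- import your own Groth.Agent.* helpers here

set_option autoImplicit false
universe u
open CategoryTheory CategoryTheory.Limits AlgebraicGeometry
open Variety

namespace Groth.Agent.S7661

/-- Let A be a ring, I an ideal, p_1, …, p_r prime ideals with I ⊄ p_i for all i, and let f̄ ∈ A/I. Then
f̄ lifts to an element f ∈ A with f ∉ p_i for all i. -/
theorem result (A : Type u) [CommRing A] (I : Ideal A)
    (s : Finset (Ideal A)) (hs : ∀ p ∈ s, p.IsPrime) (hI : ∀ p ∈ s, ¬ I ≤ p) (fbar : A ⧸ I) :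
    ∃ f : A, Ideal.Quotient.mk I f = fbar ∧ ∀ p ∈ s, f ∉ p := by
  classical
  obtain ⟨a, rfl⟩ := Ideal.Quotient.mk_surjective fbar
  -- work with the maximal elements of `s`
  let t : Finset (Ideal A) := s.filter fun p => ∀ q ∈ s, p ≤ q → q ≤ p
  have hcov : ∀ p ∈ s, ∃ q ∈ t, p ≤ q := by
    intro p hp
    obtain ⟨q, hpq, hq⟩ := s.exists_le_maximal hp
    exact ⟨q, Finset.mem_filter.mpr ⟨hq.1, fun r hr h => hq.2 hr h⟩, hpq⟩
  let J : Ideal A := I ⊓ (t.filter fun p => a ∉ p).inf id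
  let u := t.filter fun p => a ∈ p
  have hJ : ¬ ((J : Set A) ⊆ ⋃ p ∈ (u : Set (Ideal A)), (p : Set A)) := by
    intro h
    obtain ⟨q, hq, hJq⟩ := (Ideal.subset_union_prime ⊥ ⊥ (fun p hp _ _ =>
      hs p (Finset.mem_of_mem_filter p (Finset.mem_of_mem_filter p hp)))).mp h
    obtain ⟨hqt, haq⟩ := Finset.mem_filter.mp hq
    obtain ⟨hqs, hqmax⟩ := Finset.mem_filter.mp hqt
    rcases (Ideal.IsPrime.inf_le (hs q hqs)).mp hJq with h1 | h1
    · exact hI q hqs h1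
    · obtain ⟨p, hp, hpq⟩ := (Ideal.IsPrime.inf_le' (hs q hqs)).mp h1
      obtain ⟨hpt, hap⟩ := Finset.mem_filter.mp hp
      obtain ⟨hps, hpmax⟩ := Finset.mem_filter.mp hpt
      exact hap (hpmax q hqs hpq haq)
  obtain ⟨i, hi, hiu⟩ := Set.not_subset.mp hJ
  obtain ⟨hiI, hi'⟩ := hi
  refine ⟨a + i, ?_, fun p hp hf => ?_⟩
  · rw [Ideal.Quotient.eq]; simpa using hiI
  · obtain ⟨q, hqt, hpq⟩ := hcov p hp
    have hfq := hpq hf
    by_cases ha : a ∈ q
    · refine hiu (Set.mem_biUnion (Finset.mem_coe.mpr (Finset.mem_filter.mpr ⟨hqt, ha⟩)) ?_)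
      exact (Ideal.add_mem_iff_right _ ha).mp hfq
    · exact ha ((Ideal.add_mem_iff_left _ (Finset.inf_le (f := id)
        (Finset.mem_filter.mpr ⟨hqt, ha⟩) hi')).mp hfq)

end Groth.Agent.S7661
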