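import Groth.Statements.S7663
import Groth.Agent.EGA43Valuative.DominatingDVR

set_option autoImplicit false
universe u
open CategoryTheory CategoryTheory.Limits AlgebraicGeometry
open Variety

namespace Groth.Agent.S7663

/-- Let K be a field and A, B ⊆ K subrings with fraction field K, with A Noetherian of dimension one.
Then A ⊗ B → K is not surjective (equivalently, the subring generated by A and B is not K) if and
only if some discrete valuation ring O ⊆ K with fraction field K contains both A and B. -/
theorem result (K : Type u) [Field K]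
    (A : Subring K) [IsFractionRing A K] (B : Subring K) [IsFractionRing B K] [IsNoetherianRing A] (hdim : ringKrullDim A = 1) :
    A ⊔ B ≠ ⊤ ↔ ∃ O : ValuationSubring K, IsDiscreteValuationRing O ∧ A ≤ O.toSubring ∧ B ≤ O.toSubring := by
  constructor
  · intro hne
    let S : Subring K := A ⊔ B
    have hnf : ¬ IsField S := by
      intro hf
      refine hne (eq_top_iff.2 fun x _ => ?_)
      obtain ⟨a, b, hb, rfl⟩ := IsFractionRing.div_surjective A x
      obtain ⟨c, hc⟩ := hf.mul_inv_cancel (a := ⟨(b : K), le_sup_left (a := A) b.2⟩)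
        (fun h => nonZeroDivisors.ne_zero hb (Subtype.ext (congrArg Subtype.val h : (b : K) = 0)))
      rw [show algebraMap A K b = (b : K) from rfl, show algebraMap A K a = (a : K) from rfl,
        div_eq_mul_inv, inv_eq_of_mul_eq_one_right (congrArg Subtype.val hc : (b : K) * (c : K) = 1)]
      exact S.mul_mem (le_sup_left (a := A) a.2) c.2
    obtain ⟨q, hq0, hq⟩ := Ring.not_isField_iff_exists_prime.1 hnf
    obtain ⟨V, hV, hnon⟩ := Ideal.image_subset_nonunits_valuationSubring q hq.ne_top
    have hAV : ∀ a : A, (a : K) ∈ V := fun a => hV (le_sup_left (a := A) a.2)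
    refine ⟨V, ?_, le_sup_left.trans hV, le_sup_right.trans hV⟩
    have hV0 : V ≠ ⊤ := by
      obtain ⟨z, hz, hz0⟩ := Submodule.exists_mem_ne_zero_of_ne_bot hq0
      intro htop
      have hzn : (z : K) ∈ V.nonunits := hnon ⟨z, hz, rfl⟩
      rw [ValuationSubring.mem_nonunits_iff_exists_mem_maximalIdeal] at hzn
      obtain ⟨hm, hmz⟩ := hzn
      refine hmz (IsUnit.of_mul_eq_one ⟨(z : K)⁻¹, htop ▸ trivial⟩ (Subtype.ext ?_))
      exact mul_inv_cancel₀ fun h => hz0 (Subtype.ext h)
    haveI : Ring.KrullDimLE 1 A := Ring.krullDimLE_iff.2 (by simp [hdim])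
    haveI := Groth.EGA43Val.isDedekindDomain_integralClosure A K K
    haveI : IsFractionRing (integralClosure A K) K :=
      integralClosure.isFractionRing_of_finite_extension K K
    refine Groth.EGA43Val.isDiscreteValuationRing_of_le (C := integralClosure A K) V hV0 fun c => ?_
    rw [← V.valuation_le_one_iff]
    letI : Algebra A V := (A.subtype.codRestrict V.toSubring hAV).toAlgebra
    haveI : IsScalarTower A V K := IsScalarTower.of_algebraMap_eq fun _ => rfl
    obtain ⟨w, hw⟩ := IsIntegrallyClosed.algebraMap_eq_of_integral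
      (K := K) (c.2.tower_top (A := V) : IsIntegral V (c : K))
    rw [show algebraMap (integralClosure A K) K c = (w : K) from hw.symm]
    exact V.valuation_le_one w
  · rintro ⟨O, hO, hA, hB⟩ htop
    refine hO.not_a_field' ((IsLocalRing.isField_iff_maximalIdeal_eq).1 ?_)
    have hOtop : ∀ x : K, x ∈ O := fun x => sup_le hA hB (htop.symm ▸ Subring.mem_top x)
    exact
      { exists_pair_ne := ⟨0, 1, zero_ne_one⟩
        mul_comm := mul_comm
        mul_inv_cancel := fun {a} ha => ⟨⟨(a : K)⁻¹, hOtop _⟩, Subtype.ext
          (mul_inv_cancel₀ fun h => ha (Subtype.ext h))⟩ }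

end Groth.Agent.S7663
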