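import Groth.Statements.S7665
import Groth.Agent.GlueRings.Basic
import Groth.Agent.GlueRings.TwoSemilocal

set_option autoImplicit false
universe u
open CategoryTheory CategoryTheory.Limits AlgebraicGeometry
open Variety

namespace Groth.Agent.S7665

/-- Let K be a field and A_1, …, A_r ⊆ K (r ≥ 1) Noetherian semi-local rings of dimension one with
fraction field K, and assume A_i and A_j generate K as a ring whenever i ≠ j. Then A = A_1 ∩ … ∩ A_r
is a Noetherian semi-local domain of dimension one with fraction field K contained in every A_i,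
each Spec A_i → Spec A is an open immersion, Spec A is the union of their images, and every closed
point of Spec A belongs to the image of exactly one Spec A_i. (The published statement asserts only
that some such subring A exists; this row takes A to be the intersection A_1 ∩ … ∩ A_r.) -/
theorem result (K : Type u) [Field K] (r : ℕ) (hr : 1 ≤ r)
    (A : Fin r → Subring K) [∀ i, IsNoetherianRing (A i)] [∀ i, IsFractionRing (A i) K]
    (hdim : ∀ i, ringKrullDim (A i) = 1) (hsl : ∀ i, Finite (MaximalSpectrum (A i)))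
    (hgen : ∀ i j, i ≠ j → A i ⊔ A j = ⊤) :
    IsNoetherianRing ↥(⨅ i, A i) ∧ ringKrullDim ↥(⨅ i, A i) = 1 ∧ Finite (MaximalSpectrum ↥(⨅ i, A i)) ∧
      IsFractionRing ↥(⨅ i, A i) K ∧
      (∀ i, IsOpenImmersion (Spec.map (CommRingCat.ofHom (Subring.inclusion (iInf_le A i))))) ∧
      (⋃ i, Set.range (Spec.map (CommRingCat.ofHom (Subring.inclusion (iInf_le A i)))).base) = Set.univ ∧
      (∀ m : PrimeSpectrum ↥(⨅ i, A i), m.asIdeal.IsMaximal →
        ∃! i, m ∈ Set.range (Spec.map (CommRingCat.ofHom (Subring.inclusion (iInf_le A i)))).base) := by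
  classical
  have hKD : ∀ i, Ring.KrullDimLE 1 (A i) := fun i => Ring.krullDimLE_iff.mpr (hdim i).le
  have hnfA : ∀ i, ¬ IsField (A i) := fun i h => by
    have := hdim i
    rw [ringKrullDim_eq_zero_of_isField h] at this; exact zero_ne_one this
  have hval := fun j => haveI := hsl j; Groth.GlueRings.exists_valuations (A j) (hdim j)
  choose ι hι V hdvr hBV hdesc using hval
  -- a unit of `A i` lying in the Jacobson radical of all the other `A j`
  have hex : ∀ i, ∃ w : K, ∃ hA : w ∈ A i, w ≠ 0 ∧ IsUnit (⟨w, hA⟩ : A i) ∧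
      ∀ j, ∃ h : w ∈ A j, j ≠ i → ∀ M : Ideal (A j), M.IsMaximal → (⟨w, h⟩ : A j) ∈ M := by
    intro i
    have := hsl i
    have : ∀ j, Fintype (ι j) := hι
    obtain ⟨w, hwu, hw0, hwV⟩ := Groth.GlueRings.exists_unit_nonunits (A i) (hdim i)
      (fun p : Σ j : {j : Fin r // j ≠ i}, ι j.1 => V p.1.1 p.2) (fun p => hdvr p.1.1 p.2)
      (fun p => top_le_iff.mp (hgen i p.1.1 (Ne.symm p.1.2) ▸ sup_le_sup_left (hBV p.1.1 p.2) (A i)))
    choose N hN using fun j : {j : Fin r // j ≠ i} => hdesc j.1 w fun k => hwV ⟨j, k⟩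
    set n := Finset.univ.sup N + 1
    refine ⟨(w : K) ^ n, pow_mem w.2 n, pow_ne_zero _ hw0, hwu.pow n, fun j => ?_⟩
    by_cases hj : j = i
    · exact ⟨hj ▸ pow_mem w.2 n, fun h => absurd hj h⟩
    · obtain ⟨h, hM⟩ := hN ⟨j, hj⟩ n ((Finset.le_sup (Finset.mem_univ _)).trans (Nat.le_succ _))
      exact ⟨h, fun _ => hM⟩
  choose W hWA hW0 hWu hWmem hWJ using hex
  set R : Subring K := ⨅ i, A i with hR
  let e : Fin r → R := fun i => ⟨W i, Subring.mem_iInf.mpr (hWmem i)⟩
  have hloc : ∀ i, letI := (Subring.inclusion (iInf_le A i : R ≤ A i)).toAlgebra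
      IsLocalization.Away (e i) (A i) := fun i => by
    refine Groth.GlueRings.isLocalizationAway (iInf_le A i : R ≤ A i) (e i) (hWu i) fun x hx => ?_
    choose N hN using fun j : {j : Fin r // j ≠ i} =>
      Groth.GlueRings.exists_pow_mul_mem_of_jacobson (A j) ⟨W i, hWmem i j⟩ (hWJ i j j.2) x
    refine ⟨Finset.univ.sup N, Subring.mem_iInf.mpr fun j => ?_⟩
    by_cases hj : j = i
    · subst hj; exact mul_mem hx (pow_mem (hWA j) _)
    · obtain ⟨d, hd⟩ := Nat.exists_eq_add_of_le
        (Finset.le_sup (f := N) (Finset.mem_univ (⟨j, hj⟩ : {j : Fin r // j ≠ i})))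
      show x * W i ^ _ ∈ A j
      rw [hd, pow_add, ← mul_assoc]
      exact mul_mem (hN ⟨j, hj⟩) (pow_mem (hWmem i j) d)
  have hsum : IsUnit (∑ i, e i) := by
    have h1 : ∀ j, IsUnit (Subring.inclusion (iInf_le A j) (∑ i, e i)) := fun j => by
      by_contra h
      obtain ⟨M, hM, hmem⟩ := exists_max_ideal_of_mem_nonunits h
      rw [map_sum, ← Finset.add_sum_erase _ _ (Finset.mem_univ j)] at hmem
      exact hM.ne_top (Ideal.eq_top_of_isUnit_mem _ ((Ideal.add_mem_iff_left M
        (Ideal.sum_mem M fun k hk => hWJ k j (Ne.symm (Finset.mem_erase.mp hk).1) M hM)).mp hmem)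
        (hWu j))
    choose b hb using fun j => isUnit_iff_exists_inv.mp (h1 j)
    have hb' : ∀ j, ((∑ i, e i : R) : K) * (b j : K) = 1 := fun j => congrArg Subtype.val (hb j)
    have hj0 : Fin r := ⟨0, hr⟩
    refine isUnit_iff_exists_inv.mpr ⟨⟨b hj0, Subring.mem_iInf.mpr fun j => ?_⟩, Subtype.ext (hb' hj0)⟩
    rw [mul_left_cancel₀ (left_ne_zero_of_mul_eq_one (hb' hj0)) ((hb' hj0).trans (hb' j).symm)]
    exact (b j).2
  have hspan : Ideal.span (Set.range e) = ⊤ := Ideal.eq_top_of_isUnit_mem _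
    (Ideal.sum_mem _ fun i _ => Ideal.subset_span ⟨i, rfl⟩) hsum
  have hcov : ∀ p : Ideal R, p.IsPrime → ∃ i, e i ∉ p := fun p hp => by
    by_contra! h
    exact hp.ne_top (top_le_iff.mp (hspan ▸ Ideal.span_le.mpr (Set.range_subset_iff.mpr h)))
  -- primes missing `e i` come from `A i`
  have hlift : ∀ (i) (p : Ideal R), p.IsPrime → e i ∉ p → ∃ q : Ideal (A i), q.IsPrime ∧
      q.comap (Subring.inclusion (iInf_le A i)) = p ∧
      (p ≠ ⊥ → q.IsMaximal ∧ ∀ p' : Ideal R, p'.IsPrime → e i ∉ p' → p ≤ p' → p = p') := by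
    intro i p hp hei
    let := (Subring.inclusion (iInf_le A i : R ≤ A i)).toAlgebra
    have := hloc i
    have hdisj : ∀ p' : Ideal R, p'.IsPrime → e i ∉ p' →
        Disjoint (Submonoid.powers (e i) : Set R) p' := fun p' hp' hei' =>
      Set.disjoint_left.mpr fun z hz hzp => by
        obtain ⟨m, rfl⟩ := hz
        exact hei' (hp'.mem_of_pow_mem m hzp)
    have hprime := fun p' hp' hei' => IsLocalization.isPrime_of_isPrime_disjoint
      (Submonoid.powers (e i)) (A i) p' hp' (hdisj p' hp' hei')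
    have hcm := fun p' (hp' : p'.IsPrime) hei' => IsLocalization.comap_map_of_isPrime_disjoint
      (Submonoid.powers (e i)) (A i) hp' (hdisj p' hp' hei')
    refine ⟨_, hprime p hp hei, hcm p hp hei, fun hne => ?_⟩
    have hmax : (p.map (algebraMap R (A i))).IsMaximal := by
      refine (hprime p hp hei).isMaximal_of_ne_bot fun h => hne ?_
      rw [← hcm p hp hei, h]
      exact Ideal.comap_bot_of_injective _ (Subring.inclusion_injective _)
    refine ⟨hmax, fun p' hp' hei' hle => ?_⟩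
    rw [← hcm p hp hei, hmax.eq_of_le (hprime p' hp' hei').ne_top (Ideal.map_mono hle), hcm p' hp' hei']
  have hnoeth : IsNoetherianRing R := by
    refine (isNoetherianRing_iff_ideal_fg _).mpr fun I =>
      Ideal.fg_of_localizationSpan (Set.range e) hspan ?_
    rintro ⟨_, i, rfl⟩
    let := (Subring.inclusion (iInf_le A i : R ≤ A i)).toAlgebra
    have := hloc i
    have : IsNoetherianRing (Localization.Away (e i)) :=
      isNoetherianRing_of_ringEquiv (A i)
        (IsLocalization.algEquiv (Submonoid.powers (e i)) (A i) (Localization.Away (e i))).toRingEquiv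
    exact IsNoetherian.noetherian _
  have hfrac : IsFractionRing R K := by
    refine IsFractionRing.of_field R K fun x => ?_
    have hi : Fin r := ⟨0, hr⟩
    obtain ⟨a, b, hb, hab⟩ := IsFractionRing.div_surjective (A := A hi) x
    change (a : K) / b = x at hab
    let := (Subring.inclusion (iInf_le A hi : R ≤ A hi)).toAlgebra
    have := hloc hi
    obtain ⟨n, a', ha⟩ := IsLocalization.Away.surj (e hi) a
    obtain ⟨m, b', hb'⟩ := IsLocalization.Away.surj (e hi) b
    have haK : (a : K) * W hi ^ n = a' := congrArg Subtype.val ha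
    have hbK : (b : K) * W hi ^ m = b' := congrArg Subtype.val hb'
    have hb0 : (b : K) ≠ 0 := fun h => nonZeroDivisors.ne_zero hb (Subtype.ext h)
    refine ⟨a' * e hi ^ m, b' * e hi ^ n, ?_⟩
    show x = ((a' : K) * W hi ^ m) / ((b' : K) * W hi ^ n)
    rw [← haK, ← hbK, ← hab]
    have := hW0 hi
    field_simp
  have hnfR : ¬ IsField R := fun h => by
    refine hnfA ⟨0, hr⟩ ?_
    let i : Fin r := ⟨0, hr⟩
    refine ⟨exists_pair_ne _, mul_comm, fun {a} ha => ?_⟩
    obtain ⟨p, q, hq, hpq⟩ := IsFractionRing.div_surjective (A := R) (a : K)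
    change (p : K) / q = a at hpq
    have hp0 : p ≠ 0 := fun h0 => ha (Subtype.ext (by rw [← hpq, h0]; simp))
    obtain ⟨p', hp'⟩ := h.mul_inv_cancel hp0
    refine ⟨⟨(q : K) * p', mul_mem (iInf_le A i q.2) (iInf_le A i p'.2)⟩, Subtype.ext ?_⟩
    show (a : K) * ((q : K) * p') = 1
    have hq0 : (q : K) ≠ 0 := fun h0 => nonZeroDivisors.ne_zero hq (Subtype.ext h0)
    rw [← hpq, ← mul_assoc, div_mul_cancel₀ _ hq0]
    exact congrArg Subtype.val hp'
  have hmaxR : ∀ p : Ideal R, p.IsPrime → p ≠ ⊥ → p.IsMaximal := fun p hp hne => by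
    obtain ⟨M, hM, hle⟩ := p.exists_le_maximal hp.ne_top
    obtain ⟨i, hi⟩ := hcov M hM.isPrime
    obtain ⟨q, -, -, hq⟩ := hlift i p hp fun h => hi (hle h)
    rwa [(hq hne).2 M hM.isPrime hi hle]
  have hbotmax : ∀ M : Ideal R, M.IsMaximal → M ≠ ⊥ := fun M hM =>
    Ring.ne_bot_of_isMaximal_of_not_isField hM hnfR
  have hdimR : ringKrullDim R = 1 := by
    have : Ring.DimensionLEOne R := ⟨fun {p} hne hp => hmaxR p hp hne⟩
    refine le_antisymm (Ring.krullDimLE_iff.mp inferInstance) ?_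
    obtain ⟨M, hM⟩ := Ideal.exists_maximal R
    have hlt : (⟨⊥, Ideal.isPrime_bot⟩ : PrimeSpectrum R) < ⟨M, hM.isPrime⟩ :=
      lt_of_le_of_ne (fun z hz => by
        rw [(Submodule.mem_bot R).mp hz]; exact M.zero_mem)
        fun h => hbotmax M hM (congrArg PrimeSpectrum.asIdeal h).symm
    exact Order.le_krullDim_iff.mpr ⟨LTSeries.mk 1
      ![(⟨⊥, Ideal.isPrime_bot⟩ : PrimeSpectrum R), ⟨M, hM.isPrime⟩]
      (by simpa [Fin.strictMono_iff_lt_succ] using hlt), rfl⟩
  have hfinR : Finite (MaximalSpectrum R) := by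
    have : ∀ i, Finite (MaximalSpectrum (A i)) := hsl
    have hc : ∀ m : MaximalSpectrum R, ∃ p : Σ i, MaximalSpectrum (A i),
        p.2.asIdeal.comap (Subring.inclusion (iInf_le A p.1)) = m.asIdeal := fun m => by
      obtain ⟨i, hi⟩ := hcov m.asIdeal m.isMaximal.isPrime
      obtain ⟨q, -, hq, hmax⟩ := hlift i m.asIdeal m.isMaximal.isPrime hi
      exact ⟨⟨i, ⟨q, (hmax (hbotmax _ m.isMaximal)).1⟩⟩, hq⟩
    choose f hf using hc
    exact Finite.of_injective f fun m m' h => MaximalSpectrum.ext (by rw [← hf m, ← hf m', h])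
  have hrange : ∀ i, Set.range
      (Spec.map (CommRingCat.ofHom (Subring.inclusion (iInf_le A i : R ≤ A i)))).base =
      (PrimeSpectrum.basicOpen (e i) : Set (PrimeSpectrum R)) := fun i => by
    let := (Subring.inclusion (iInf_le A i : R ≤ A i)).toAlgebra
    have := hloc i
    exact PrimeSpectrum.localization_away_comap_range (A i) (e i)
  refine ⟨hnoeth, hdimR, hfinR, hfrac, fun i => ?_, ?_, fun m hm => ?_⟩
  · let := (Subring.inclusion (iInf_le A i : R ≤ A i)).toAlgebra
    have := hloc i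
    exact IsOpenImmersion.of_isLocalization (R := R) (S := A i) (e i)
  · refine Set.eq_univ_iff_forall.mpr fun p => ?_
    obtain ⟨i, hi⟩ := hcov _ p.isPrime
    exact Set.mem_iUnion.mpr ⟨i, (hrange i).symm ▸ hi⟩
  · obtain ⟨i, hi⟩ := hcov _ m.isPrime
    refine ⟨i, (Set.ext_iff.mp (hrange i) m).mpr hi, fun j hj => ?_⟩
    by_contra hne
    replace hj : m ∈ (PrimeSpectrum.basicOpen (e j) : Set (PrimeSpectrum R)) :=
      (Set.ext_iff.mp (hrange j) m).mp hj
    obtain ⟨q, -, hq, hmax⟩ := hlift i m.asIdeal m.isPrime hi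
    have h1 : e j ∈ q.comap (Subring.inclusion (iInf_le A i)) :=
      hWJ j i (Ne.symm hne) q (hmax (hbotmax _ hm)).1
    rw [hq] at h1
    exact hj h1


end Groth.Agent.S7665
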