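import Groth.Statements.S7666
-- import your own Groth.Agent.* helpers here

set_option autoImplicit false
universe u
open CategoryTheory CategoryTheory.Limits AlgebraicGeometry
open Variety

namespace Groth.Agent.S7666

/-- An ideal avoiding all minimal primes of a one-dimensional Noetherian local ring contains a power
of the maximal ideal. -/
theorem exists_pow_le (A : Type u) [CommRing A] [IsLocalRing A] [IsNoetherianRing A]
    (hdim : ringKrullDim A = 1) (J : Ideal A) (hJ : ∀ p ∈ minimalPrimes A, ¬ J ≤ p) :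
    ∃ N : ℕ, IsLocalRing.maximalIdeal A ^ N ≤ J := by
  have : Ring.KrullDimLE 1 A := Ring.krullDimLE_iff.mpr hdim.le
  refine Ideal.exists_pow_le_of_le_radical_of_fg ?_ (IsNoetherian.noetherian _)
  rw [Ideal.radical_eq_sInf]
  refine le_sInf fun q ⟨hJq, hq⟩ => ?_
  rcases (Ring.krullDimLE_one_iff.mp ‹_›) q hq with h | h
  · exact absurd hJq (hJ q h)
  · exact (IsLocalRing.eq_maximalIdeal h).ge


/-- Let A be a one-dimensional Noetherian local ring and L = ∏ A_p, the product over the minimal primes
of A. If a_1, a_2 ∈ m_A have the same image in L, then a_1 and a_2 have equal n-th powers for some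
positive integer n. -/
theorem result (A : Type u) [CommRing A]
    [IsLocalRing A] [IsNoetherianRing A] (hdim : ringKrullDim A = 1)
    (a₁ a₂ : A) (h₁ : a₁ ∈ IsLocalRing.maximalIdeal A) (h₂ : a₂ ∈ IsLocalRing.maximalIdeal A)
    (heq : ∀ p : {p : PrimeSpectrum A // p.asIdeal ∈ minimalPrimes A},
      algebraMap A (Localization.AtPrime p.1.asIdeal) a₁ = algebraMap A (Localization.AtPrime p.1.asIdeal) a₂) :
    ∃ n : ℕ, 0 < n ∧ a₁ ^ n = a₂ ^ n := by
  obtain ⟨N, hN⟩ := exists_pow_le A hdim (Ideal.span {a₁ - a₂}).annihilator (fun p hp hle => by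
    have hprime : p.IsPrime := hp.1.1
    obtain ⟨s, hs⟩ := (IsLocalization.eq_iff_exists p.primeCompl _).mp (heq ⟨⟨p, hprime⟩, hp⟩)
    refine s.2 (hle ?_)
    rw [Submodule.mem_annihilator_span_singleton, smul_eq_mul, mul_sub, hs, sub_self])
  refine ⟨N + 1, Nat.succ_pos N, ?_⟩
  rw [← sub_eq_zero, ← geom_sum₂_mul, ← Ideal.mem_bot]
  have hmem : (∑ i ∈ Finset.range (N + 1), a₁ ^ i * a₂ ^ (N + 1 - 1 - i)) ∈
      IsLocalRing.maximalIdeal A ^ N := by
    refine Submodule.sum_mem _ fun i hi => ?_
    have : i + (N + 1 - 1 - i) = N := by have := Finset.mem_range.mp hi; omega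
    conv => congr; · rw [← this, pow_add]
    exact Ideal.mul_mem_mul (Ideal.pow_mem_pow h₁ i) (Ideal.pow_mem_pow h₂ _)
  have := hN hmem
  rw [Submodule.mem_annihilator_span_singleton, smul_eq_mul] at this
  simpa using this

end Groth.Agent.S7666
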