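import Groth.Statements.S7667
-- import your own Groth.Agent.* helpers here

set_option autoImplicit false
universe u
open CategoryTheory CategoryTheory.Limits AlgebraicGeometry
open Variety

namespace Groth.Agent.S7667

/-- An ideal avoiding all minimal primes of a one-dimensional Noetherian local ring contains a power
of the maximal ideal. -/
theorem exists_pow_le (A : Type u) [CommRing A] [IsLocalRing A] [IsNoetherianRing A]
    (hdim : ringKrullDim A = 1) (J : Ideal A) (hJ : ∀ p ∈ minimalPrimes A, ¬ J ≤ p) :
    ∃ N : ℕ, IsLocalRing.maximalIdeal A ^ N ≤ J := by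
  have : Ring.KrullDimLE 1 A := Ring.krullDimLE_iff.mpr hdim.le
  refine Ideal.exists_pow_le_of_le_radical_of_fg ?_ (IsNoetherian.noetherian _)
  rw [Ideal.radical_eq_sInf]
  refine le_sInf fun q ⟨hJq, hq⟩ => ?_
  rcases (Ring.krullDimLE_one_iff.mp ‹_›) q hq with h | h
  · exact absurd hJq (hJ q h)
  · exact (IsLocalRing.eq_maximalIdeal h).ge


/-- Let A be a one-dimensional Noetherian local ring, L the product of the localizations A_p over its
minimal primes p, and I the intersection of those primes (the nilradical of A). If f ∈ L equals i +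
a with a in the maximal ideal of A and i ∈ I·L, then for some positive integer n, f^n belongs to the
subring of L obtained as the image of the structure map from A. -/
theorem result (A : Type u) [CommRing A]
    [IsLocalRing A] [IsNoetherianRing A] (hdim : ringKrullDim A = 1)
    (a : A) (ha : a ∈ IsLocalRing.maximalIdeal A)
    (i : ∀ p : {p : PrimeSpectrum A // p.asIdeal ∈ minimalPrimes A}, Localization.AtPrime p.1.asIdeal)
    (hi : i ∈ (nilradical A).map (algebraMap A (∀ p : {p : PrimeSpectrum A // p.asIdeal ∈ minimalPrimes A}, Localization.AtPrime p.1.asIdeal))) :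
    ∃ n : ℕ, 0 < n ∧ (i + algebraMap A (∀ p : {p : PrimeSpectrum A // p.asIdeal ∈ minimalPrimes A}, Localization.AtPrime p.1.asIdeal) a) ^ n ∈
      (algebraMap A (∀ p : {p : PrimeSpectrum A // p.asIdeal ∈ minimalPrimes A}, Localization.AtPrime p.1.asIdeal)).range := by
  classical
  have : Finite {p : PrimeSpectrum A // p.asIdeal ∈ minimalPrimes A} := by
    have := (Ideal.finite_minimalPrimes_of_isNoetherianRing A ⊥).to_subtype
    exact Finite.of_injective (β := (⊥ : Ideal A).minimalPrimes) (fun p => ⟨p.1.asIdeal, p.2⟩)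
      (fun p q h => Subtype.ext (PrimeSpectrum.ext (congrArg Subtype.val h)))
  have := Fintype.ofFinite {p : PrimeSpectrum A // p.asIdeal ∈ minimalPrimes A}
  let L := ∀ p : {p : PrimeSpectrum A // p.asIdeal ∈ minimalPrimes A}, Localization.AtPrime p.1.asIdeal
  -- every element of `L` is carried into the image of `A` by a power of the maximal ideal
  have key : ∀ x : L, ∃ N : ℕ, ∀ c ∈ IsLocalRing.maximalIdeal A ^ N,
      algebraMap A L c * x ∈ (algebraMap A L).range := by
    intro x
    let J : Ideal A := Submodule.comap ((LinearMap.mulRight A x).comp (Algebra.linearMap A L))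
      (LinearMap.range (Algebra.linearMap A L))
    have hJmem : ∀ c, c ∈ J ↔ algebraMap A L c * x ∈ (algebraMap A L).range := fun c => by
      simp [J]
    obtain ⟨N, hN⟩ := exists_pow_le A hdim J (fun p hp hle => by
      have hprime : p.IsPrime := hp.1.1
      let P : {p : PrimeSpectrum A // p.asIdeal ∈ minimalPrimes A} := ⟨⟨p, hprime⟩, hp⟩
      have : ∀ q : {p : PrimeSpectrum A // p.asIdeal ∈ minimalPrimes A}, q ≠ P →
          ∃ e, e ∉ p ∧ algebraMap A (Localization.AtPrime q.1.asIdeal) e = 0 := by
        intro q hq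
        have hnle : ¬ q.1.asIdeal ≤ p := fun h => hq (Subtype.ext (PrimeSpectrum.ext
          (le_antisymm h (hp.2 ⟨q.1.isPrime, bot_le⟩ h))))
        obtain ⟨e, heq, hep⟩ := SetLike.not_le_iff_exists.mp hnle
        obtain ⟨n, hn⟩ : IsNilpotent (algebraMap A (Localization.AtPrime q.1.asIdeal) e) := by
          rw [← mem_nilradical, nilradical_eq_sInf]
          refine Submodule.mem_sInf.mpr fun Q hQ => ?_
          replace hQ : Ideal.IsPrime Q := hQ
          have hle : Ideal.comap (algebraMap A _) Q ≤ q.1.asIdeal := fun z hz => by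
            by_contra hzq
            exact hQ.ne_top (Ideal.eq_top_of_isUnit_mem Q hz (IsLocalization.map_units _ (⟨z, hzq⟩ : q.1.asIdeal.primeCompl)))
          exact q.2.2 ⟨Ideal.comap_isPrime _ Q, bot_le⟩ hle heq
        exact ⟨e ^ n, fun h => hep (hprime.mem_of_pow_mem n h), by rw [map_pow]; exact hn⟩
      choose! e he₁ he₂ using this
      obtain ⟨⟨b, t⟩, hbt⟩ := IsLocalization.surj p.primeCompl (x P)
      let E := ∏ q ∈ Finset.univ.erase P, e q
      have hE : E ∉ p := fun h => by
        obtain ⟨q, hq, hq'⟩ := hprime.prod_mem_iff.mp h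
        exact he₁ q (Finset.ne_of_mem_erase hq) hq'
      have hmem : E * t ∈ J := by
        rw [hJmem]
        refine ⟨E * b, funext fun q => ?_⟩
        change algebraMap A _ (E * b) = algebraMap A _ (E * t) * x q
        by_cases hq : q = P
        · subst hq
          rw [map_mul, map_mul, mul_assoc, ← hbt, mul_comm (x P)]
        · have h0 : algebraMap A (Localization.AtPrime q.1.asIdeal) E = 0 := by
            rw [map_prod]
            exact Finset.prod_eq_zero (Finset.mem_erase.mpr ⟨hq, Finset.mem_univ _⟩) (he₂ q hq)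
          rw [map_mul, map_mul, h0]; simp
      exact hprime.mul_notMem hE t.2 (hle hmem))
    exact ⟨N, fun c hc => (hJmem c).mp (hN hc)⟩
  obtain ⟨e, he⟩ : IsNilpotent i := by
    refine mem_nilradical.mp (Ideal.map_le_iff_le_comap.mpr (fun y hy => ?_) hi)
    exact Ideal.mem_comap.mpr (mem_nilradical.mpr ((mem_nilradical.mp hy).map _))
  choose N hN using fun j => key (i ^ j)
  refine ⟨(Finset.range e).sup N + e + 1, Nat.succ_pos _, ?_⟩
  rw [add_pow]
  refine Subring.sum_mem _ fun j _ => ?_
  by_cases hj : e ≤ j
  · rw [pow_eq_zero_of_le hj he, zero_mul, zero_mul]; exact zero_mem _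
  · refine mul_mem ?_ (natCast_mem _ _)
    rw [← map_pow, mul_comm (i ^ _)]
    refine hN j _ (Ideal.pow_le_pow_right ?_ (Ideal.pow_mem_pow ha _))
    have := Finset.le_sup (f := N) (Finset.mem_range.mpr (not_le.mp hj))
    omega

end Groth.Agent.S7667
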