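import Groth.Statements.S7668
-- import your own Groth.Agent.* helpers here

set_option autoImplicit false
universe u
open CategoryTheory CategoryTheory.Limits AlgebraicGeometry
open Variety

namespace Groth.Agent.S7668

/-- Let A be a ring, p_1, …, p_r primes of A and S = A ∖ ⋃ p_i. Then S is a multiplicative subset, S⁻¹A
is semi-local, and contraction to A is a bijection from the maximal ideals of S⁻¹A onto the maximal
elements of {p_1, …, p_r}. -/
theorem result (A : Type u) [CommRing A]
    (r : ℕ) (p : Fin r → PrimeSpectrum A) :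
    Finite (MaximalSpectrum (Localization (⨅ i, (p i).asIdeal.primeCompl))) ∧
      Set.BijOn (fun m : Ideal (Localization (⨅ i, (p i).asIdeal.primeCompl)) =>
          m.comap (algebraMap A (Localization (⨅ i, (p i).asIdeal.primeCompl))))
        {m | m.IsMaximal}
        {q | q ∈ Set.range (fun i => (p i).asIdeal) ∧
          ∀ j, q ≤ (p j).asIdeal → q = (p j).asIdeal} := by
  classical
  set S := ⨅ i, (p i).asIdeal.primeCompl
  have hmem : ∀ a, a ∈ S ↔ ∀ i, a ∉ (p i).asIdeal := fun a => by simp [S, Submonoid.mem_iInf]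
  have hdisj : ∀ q : Ideal A, Disjoint (S : Set A) (q : Set A) ↔ ∃ i, q ≤ (p i).asIdeal := by
    intro q
    constructor
    · intro h
      have : (q : Set A) ⊆ ⋃ i ∈ ((Finset.univ : Finset (Fin r)) : Set (Fin r)), ((p i).asIdeal : Set A) := by
        intro a ha
        by_contra hc
        simp only [Finset.coe_univ, Set.mem_univ, Set.iUnion_true, Set.mem_iUnion, not_exists] at hc
        exact Set.disjoint_left.mp h ((hmem a).mpr hc) ha
      rcases Nat.eq_zero_or_pos r with rfl | hr
      · simpa using this q.zero_mem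
      obtain ⟨i, -, hi⟩ := (Ideal.subset_union_prime (f := fun i => (p i).asIdeal) ⟨0, hr⟩ ⟨0, hr⟩
        (fun i _ _ _ => (p i).isPrime)).mp this
      exact ⟨i, hi⟩
    · rintro ⟨i, hi⟩
      exact Set.disjoint_left.mpr fun a ha hq => (hmem a).mp ha i (hi hq)
  set B := Localization S
  let φ := algebraMap A B
  have hmap : ∀ q : Ideal A, q.IsPrime → Disjoint (S : Set A) (q : Set A) →
      (q.map φ).IsPrime ∧ (q.map φ).comap φ = q := fun q hq h =>
    ⟨IsLocalization.isPrime_of_isPrime_disjoint S B q hq h,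
      IsLocalization.under_map_of_isPrime_disjoint S B hq h⟩
  have hmapsTo : ∀ m : Ideal B, m.IsMaximal → m.comap φ ∈ {q | q ∈ Set.range (fun i => (p i).asIdeal) ∧
      ∀ j, q ≤ (p j).asIdeal → q = (p j).asIdeal} := by
    intro m hm
    have hd := (IsLocalization.isPrime_iff_isPrime_disjoint S B m).mp hm.isPrime
    have hle : ∀ j, m.comap φ ≤ (p j).asIdeal → m.comap φ = (p j).asIdeal := by
      intro j hj
      obtain ⟨hpr, hcm⟩ := hmap _ (p j).isPrime ((hdisj _).mpr ⟨j, le_rfl⟩)
      have : m ≤ (p j).asIdeal.map φ := by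
        rw [← IsLocalization.map_under S B m]; exact Ideal.map_mono hj
      rw [hm.eq_of_le hpr.ne_top this, hcm]
    obtain ⟨i, hi⟩ := (hdisj _).mp hd.2
    exact ⟨⟨i, (hle i hi).symm⟩, hle⟩
  have hinj : Set.InjOn (fun m : Ideal B => m.comap φ) {m | m.IsMaximal} := fun m _ m' _ h => by
    rw [← IsLocalization.map_under S B m, ← IsLocalization.map_under S B m']
    exact congrArg (Ideal.map φ) h
  refine ⟨?_, hmapsTo, hinj, ?_⟩
  · have : ∀ m : MaximalSpectrum B, ∃ i, (p i).asIdeal = m.asIdeal.comap φ :=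
      fun m => (hmapsTo _ m.isMaximal).1
    choose f hf using this
    exact Finite.of_injective f fun m m' h =>
      MaximalSpectrum.ext (hinj m.isMaximal m'.isMaximal ((hf m).symm.trans ((congrArg (fun i => (p i).asIdeal) h).trans (hf m'))))
  · rintro q ⟨⟨i, rfl⟩, hmax⟩
    obtain ⟨hpr, hcm⟩ := hmap _ (p i).isPrime ((hdisj _).mpr ⟨i, le_rfl⟩)
    refine ⟨_, ?_, hcm⟩
    obtain ⟨M, hM, hle⟩ := Ideal.exists_le_maximal _ hpr.ne_top
    obtain ⟨⟨j, hj⟩, -⟩ := hmapsTo M hM
    have h1 : (p i).asIdeal ≤ (p j).asIdeal := by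
      simp only at hj; rw [hj, ← hcm]; exact Ideal.comap_mono hle
    have : (p i).asIdeal.map φ = M := by
      have h2 : (p i).asIdeal = M.comap φ := (hmax j h1).trans hj
      rw [h2]; exact IsLocalization.map_under S B M
    exact this ▸ hM

end Groth.Agent.S7668
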