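import Groth.Statements.S7670
import Groth.Agent.VarietyBC.PicGlue
-- import your own Groth.Agent.* helpers here

set_option autoImplicit false
universe u
open CategoryTheory CategoryTheory.Limits AlgebraicGeometry
open Variety


namespace Groth.Agent.S7670
open CategoryTheory AlgebraicGeometry TopologicalSpace Groth.PicAux Groth.VarietyBC

/-- A point of a closed discrete set is isolated in it. -/
theorem exists_isolating {X : Type*} [TopologicalSpace X] {D : Set X} (hD : DiscreteTopology D) {x : X}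
    (hx : x ∈ D) : ∃ U : Set X, IsOpen U ∧ x ∈ U ∧ ∀ z ∈ U, z ∈ D → z = x := by
  have h : IsOpen ({⟨x, hx⟩} : Set D) := isOpen_discrete _
  obtain ⟨U, hU, hUeq⟩ := isOpen_induced_iff.1 h
  refine ⟨U, hU, ?_, fun z hzU hzD => ?_⟩
  · exact (Set.ext_iff.1 hUeq ⟨x, hx⟩).2 rfl
  · exact congrArg Subtype.val ((Set.ext_iff.1 hUeq ⟨z, hzD⟩).1 hzU)

/-- Near any point, an invertible module on a closed subscheme has a basis. -/
theorem exists_gen_near {X : Scheme.{u}} (I : X.IdealSheafData) {L : I.subscheme.Modules}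
    (hL : PicF.IsInvertible L) (x : X) :
    ∃ (A : X.Opens) (e : Γ(L, I.subschemeι ⁻¹ᵁ A)), x ∈ A ∧ Gen L (I.subschemeι ⁻¹ᵁ A) e := by
  by_cases hx : x ∈ Set.range I.subschemeι
  · obtain ⟨z, rfl⟩ := hx
    obtain ⟨W, e, hzW, he⟩ := (isInvertible_iff_exists_gen L).1 hL z
    obtain ⟨A, hA, hAW⟩ := I.subschemeι.isClosedEmbedding.isInducing.isOpen_iff.1 W.isOpen
    have hle : I.subschemeι ⁻¹ᵁ ⟨A, hA⟩ ≤ W := fun w hw => (Set.ext_iff.1 hAW w).1 hw
    exact ⟨⟨A, hA⟩, res L hle e, (Set.ext_iff.1 hAW z).2 hzW, he.res hle⟩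
  · refine ⟨⟨_, I.subschemeι.isClosedEmbedding.isClosed_range.isOpen_compl⟩, 0, hx,
      PicGlue.gen_of_le_bot L (fun w hw => (hw ⟨w, rfl⟩).elim) 0⟩

end Groth.Agent.S7670

namespace Groth.Agent.S7670

open TopologicalSpace Groth.PicAux Groth.VarietyBC

/-- Let X be a reduced scheme and Z_1, …, Z_n ⊆ X closed subschemes with X = ⋃ Z_i set-theoretically and
Z_i ∩ Z_j discrete for i ≠ j, and let L_i be an invertible module on Z_i. Then there is an
invertible module L on X whose restriction to each Z_i is isomorphic to L_i. (The published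
statement also gives, for sections s_i of L_i that do not vanish at the points of Z_i ∩ Z_j, a
choice of L with a global section restricting to each s_i; this row states only the existence of L.) -/
theorem result (X : Scheme.{u}) [IsReduced X]
    (n : ℕ) (Z : Fin n → X.IdealSheafData)
    (hcov : ⋃ i, ((Z i).support : Set X) = Set.univ)
    (hdisc : ∀ i j, i ≠ j → DiscreteTopology ↥(((Z i).support : Set X) ∩ ((Z j).support : Set X)))
    (L : ∀ i, (Z i).subscheme.Modules) (hL : ∀ i, PicF.IsInvertible (L i)) :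
    ∃ M : X.Modules, PicF.IsInvertible M ∧
      ∀ i, Nonempty ((Scheme.Modules.pullback (Z i).subschemeι).obj M ≅ L i) := by
  classical
  let D : Set X := ⋃ p : {p : Fin n × Fin n // p.1 ≠ p.2},
    ((Z p.1.1).support : Set X) ∩ ((Z p.1.2).support : Set X)
  have hDcl : IsClosed D := isClosed_iUnion_of_finite fun p =>
    (Z p.1.1).support.isClosed.inter (Z p.1.2).support.isClosed
  have hDx : ∀ x : X, ∃ U : X.Opens, x ∈ U ∧ ∀ z ∈ U, z ∈ D → z = x := by
    intro x
    have hp : ∀ p : {p : Fin n × Fin n // p.1 ≠ p.2}, ∃ U : X.Opens, x ∈ U ∧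
        ∀ z ∈ U, z ∈ ((Z p.1.1).support : Set X) ∩ ((Z p.1.2).support : Set X) → z = x := by
      intro p
      by_cases hx : x ∈ ((Z p.1.1).support : Set X) ∩ ((Z p.1.2).support : Set X)
      · obtain ⟨U, hU, hxU, h⟩ := exists_isolating (hdisc _ _ p.2) hx
        exact ⟨⟨U, hU⟩, hxU, h⟩
      · exact ⟨⟨_, ((Z p.1.1).support.isClosed.inter (Z p.1.2).support.isClosed).isOpen_compl⟩, hx,
          fun z hz hzD => absurd hzD hz⟩
    choose U hxU hU using hp
    refine ⟨⟨⋂ p, (U p : Set X), isOpen_iInter_of_finite fun p => (U p).isOpen⟩,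
      Set.mem_iInter.2 hxU, fun z hz hzD => ?_⟩
    obtain ⟨p, hzp⟩ := Set.mem_iUnion.1 hzD
    exact hU p z (Set.mem_iInter.1 hz p) hzp
  have hA : ∀ (x : X) (i : Fin n), ∃ (A : X.Opens) (e : Γ(L i, (Z i).subschemeι ⁻¹ᵁ A)),
      x ∈ A ∧ Gen (L i) ((Z i).subschemeι ⁻¹ᵁ A) e := fun x i => exists_gen_near (Z i) (hL i) x
  choose A e hxA he using hA
  have hB : ∀ x : X, ∃ B : X.Opens, x ∈ B ∧ (∀ z ∈ B, z ∈ D → z = x) := hDx
  choose B hxB hB using hB
  let O : X → X.Opens := fun x =>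
    B x ⊓ ⟨⋂ i, (A x i : Set X), isOpen_iInter_of_finite fun i => (A x i).isOpen⟩
  have hOA : ∀ x i, O x ≤ A x i := fun x i z hz => Set.mem_iInter.1 hz.2 i
  -- the parts where only one piece passes
  let U : Fin n → X.Opens := fun i =>
    ⟨(⋃ j : {j : Fin n // j ≠ i}, ((Z j.1).support : Set X))ᶜ,
      (isClosed_iUnion_of_finite fun j : {j : Fin n // j ≠ i} => (Z j.1).support.isClosed).isOpen_compl⟩
  have hUsupp : ∀ i, ∀ z ∈ U i, z ∈ ((Z i).support : Set X) := by
    intro i z hz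
    obtain ⟨j, hj⟩ := Set.mem_iUnion.1 (hcov ▸ Set.mem_univ z : z ∈ ⋃ i, ((Z i).support : Set X))
    by_cases h : j = i
    · exact h ▸ hj
    · exact (hz (Set.mem_iUnion.2 ⟨⟨j, h⟩, hj⟩)).elim
  have hUiso : ∀ i, IsIso ((Z i).subschemeι ∣_ U i) := by
    intro i
    haveI : Surjective ((Z i).subschemeι ∣_ U i) := ⟨fun z => by
      have hz := hUsupp i z.1 z.2
      rw [← Scheme.IdealSheafData.range_subschemeι] at hz
      obtain ⟨w, hw⟩ := hz
      exact ⟨⟨w, show (Z i).subschemeι w ∈ U i from hw ▸ z.2⟩,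
        Subtype.ext ((morphismRestrict_base_coe _ _ _).trans hw)⟩⟩
    exact isIso_of_isClosedImmersion_of_surjective _
  refine PicGlue.exists_glue_bijective O (fun i => (Z i).subschemeι) L
    (fun x i => res (L i) (Scheme.Hom.preimage_mono _ (hOA x i)) (e x i))
    (fun x i => (he x i).res _) ?_ ?_
  · exact top_le_iff.1 fun x _ => Opens.mem_iSup.2 ⟨x, hxB x, Set.mem_iInter.2 fun i => hxA x i⟩
  intro a b hab V hV
  have hVD : ∀ z ∈ V, z ∉ D := fun z hz hzD =>
    hab ((hB a z (hV hz).1.1 hzD).symm.trans (hB b z (hV hz).2.1 hzD))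
  have hVU : V ≤ ⨆ i, V ⊓ U i := by
    intro z hz
    obtain ⟨i, hi⟩ := Set.mem_iUnion.1 (hcov ▸ Set.mem_univ z : z ∈ ⋃ i, ((Z i).support : Set X))
    refine Opens.mem_iSup.2 ⟨i, hz, fun h => ?_⟩
    obtain ⟨j, hj⟩ := Set.mem_iUnion.1 h
    exact hVD z hz (Set.mem_iUnion.2 ⟨⟨(j.1, i), j.2⟩, hj, hi⟩)
  have hempty : ∀ i j, i ≠ j → (Z j).subschemeι ⁻¹ᵁ (V ⊓ U i) ≤ ⊥ := by
    intro i j hij w hw
    exact (hw.2 (Set.mem_iUnion.2 ⟨⟨j, hij.symm⟩,
      (Z j).range_subschemeι ▸ Set.mem_range_self w⟩)).elim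
  have hbij : ∀ i, Function.Bijective ((Z i).subschemeι.app (V ⊓ U i)) := fun i => by
    haveI := hUiso i
    exact PicGlue.bijective_app_of_isIso_restrict _ (U i) _ inf_le_right
  refine ⟨fun r r' h => ?_, fun c => ?_⟩
  · refine resX_ext (fun i => V ⊓ U i) (fun i => inf_le_left) hVU fun i => (hbij i).1 ?_
    rw [PicGlue.resX_app (fun i => (Z i).subschemeι), PicGlue.resX_app (fun i => (Z i).subschemeι)]
    exact congrArg _ (congrFun h i)
  · choose r hr using fun i => (hbij i).2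
      (resX _ (Scheme.Hom.preimage_mono _ (inf_le_left : V ⊓ U i ≤ V)) (c i))
    obtain ⟨R, hR, -⟩ := resX_glue (fun i => V ⊓ U i) (fun i => inf_le_left) hVU r fun i j => by
      by_cases hij : i = j
      · subst hij; rfl
      refine PicGlue.subsingleton_functions (fun z hz => ?_) _ _
      exact (hz.2.2 (Set.mem_iUnion.2 ⟨⟨i, hij⟩, hUsupp i z hz.1.2⟩)).elim
    refine ⟨R, funext fun j => ?_⟩
    refine resX_ext (fun i => (Z j).subschemeι ⁻¹ᵁ (V ⊓ U i))
      (fun i => Scheme.Hom.preimage_mono _ inf_le_left) ?_ fun i => ?_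
    · rw [← Scheme.Hom.preimage_iSup]
      exact Scheme.Hom.preimage_mono _ hVU
    · by_cases hij : i = j
      · subst hij
        have h1 := congrArg ((Z i).subschemeι.app (V ⊓ U i)) (hR i)
        rw [PicGlue.resX_app (fun i => (Z i).subschemeι), hr] at h1
        exact h1
      · exact PicGlue.subsingleton_functions (hempty i j hij) _ _

end Groth.Agent.S7670
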