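import Groth.Statements.S7671
import Groth.Agent.CurveDiv.DescGen
import Groth.Agent.VarietyBC.FFSections

set_option autoImplicit false
universe u
open CategoryTheory CategoryTheory.Limits AlgebraicGeometry
open Variety

namespace Groth.Agent.S7671

section

open Opposite TopologicalSpace
open scoped TensorProduct
open Groth.PicAux (Gen oneSec pullSec pullUnit toFun res resX)
open Groth.QCohMod (sectionsAlg)
open Groth.CohBase.FlatBC (secMod psec)
open Groth.VarietyBC.FFSections (pullTop)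
open Groth.CurveDiv

theorem gen_oneSec (X : Scheme.{u}) : Gen (Coh.structureModule X) ⊤ (oneSec X ⊤) := by
  intro V h
  have e : (fun r : Γ(X, V) => r • res (Coh.structureModule X) h (oneSec X ⊤)) =
      fun r => (r : Γ(Coh.structureModule X, V)) := by
    funext r
    rw [Groth.PicAux.res_oneSec]
    exact (mul_one r : r * 1 = r)
  rw [e]
  exact ⟨fun a b hab => hab, fun b => ⟨b, rfl⟩⟩

theorem nonempty_iso_of_gen {X : Scheme.{u}} {L : X.Modules} {m : Γ(L, ⊤)} (h : Gen L ⊤ m) :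
    Nonempty (L ≅ Coh.structureModule X) := by
  have : IsIso (Groth.PicAux.homOfSection m) :=
    Groth.PicAux.isIso_of_cover (U := fun _ : Unit => (⊤ : X.Opens)) (top_le_iff.1 (le_iSup_iff.2 fun _ hb => hb ())) _
      fun _ V hV => Groth.PicAux.bijective_of_gen_map _ (gen_oneSec X)
        (by rw [Groth.PicAux.homOfSection_one]; exact h) hV
  exact ⟨(asIso (Groth.PicAux.homOfSection m)).symm⟩

theorem exists_gen (X S X' S' : Scheme.{u}) {f : X ⟶ S} {g : S' ⟶ S} {g' : X' ⟶ X} {f' : X' ⟶ S'}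
    (sq : IsPullback g' f' f g) [IsAffine S] [IsAffine S'] [QuasiCompact f] [QuasiSeparated f]
    [Flat g] [Surjective g] (hfin : Finite (MaximalSpectrum Γ(S, ⊤))) (hf : Function.Bijective f.appTop)
    (L : X.Modules) (hL : PicF.IsInvertible L)
    (a : (Scheme.Modules.pullback g').obj L ≅ Coh.structureModule X') :
    ∃ m : Γ(L, ⊤), Gen L ⊤ m := by
  classical
  have := Groth.PicAux.isQCoh_of_isInvertible hL
  have := Groth.PicAux.isQCoh_structureModule X
  have : Surjective g' := MorphismProperty.of_isPullback (P := @Surjective) sq.flip ‹_›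
  have hV : IsAffineOpen (⊤ : S.Opens) := isAffineOpen_top S
  have hV' : IsAffineOpen (⊤ : S'.Opens) := isAffineOpen_top S'
  have e : (⊤ : S'.Opens) ≤ g ⁻¹ᵁ ⊤ := le_rfl
  have e₁ : f' ⁻¹ᵁ ⊤ ≤ g' ⁻¹ᵁ (f ⁻¹ᵁ ⊤) := le_rfl
  let := sectionsAlg g e
  have : Module.Flat Γ(S, ⊤) Γ(S', ⊤) := Flat.flat_appLE g hV hV' e
  obtain ⟨Φ, hΦ⟩ := FlatH0.exists_baseChange_equiv sq L hV hV' e e₁
  have happ : Function.Bijective (f'.app ⊤) := by
    obtain ⟨Ψ, hΨ⟩ := FlatH0.exists_baseChange_equiv sq (Coh.structureModule X) hV hV' e e₁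
    let j : Γ(S, ⊤) →ₗ[Γ(S, ⊤)] secMod f (Coh.structureModule X) (le_refl (f ⁻¹ᵁ ⊤)) :=
      LinearMap.toSpanSingleton _ _ (oneSec X (f ⁻¹ᵁ ⊤))
    have hj : Function.Bijective j := by
      have : (j : Γ(S, ⊤) → _) = fun r => (f.app ⊤ r : Γ(X, f ⁻¹ᵁ ⊤)) := by
        funext r
        refine (congrArg toFun (rfl : j r = _)).trans ?_
        change f.appLE ⊤ (f ⁻¹ᵁ ⊤) le_rfl r * 1 = _
        rw [mul_one, Scheme.Hom.appLE_eq_app]
      rw [this]
      exact hf
    let j' := (TensorProduct.rid Γ(S, ⊤) Γ(S', ⊤)).symm.toAddEquiv.trans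
      ((TensorProduct.congr (LinearEquiv.refl Γ(S, ⊤) Γ(S', ⊤))
        (LinearEquiv.ofBijective j hj)).toAddEquiv.trans Ψ)
    have := Groth.PicAux.isIso_pullUnit g'
    have hu : Function.Bijective ((pullUnit g').app (f' ⁻¹ᵁ ⊤)) :=
      ⟨Function.LeftInverse.injective (g := (inv (pullUnit g')).app _) fun z =>
          congr(($(IsIso.hom_inv_id (pullUnit g'))).app (f' ⁻¹ᵁ ⊤) z),
        Function.RightInverse.surjective (g := (inv (pullUnit g')).app _) fun z =>
          congr(($(IsIso.inv_hom_id (pullUnit g'))).app (f' ⁻¹ᵁ ⊤) z)⟩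
    have hb : Function.Bijective (fun b => toFun ((pullUnit g').app (f' ⁻¹ᵁ ⊤) (j' b))) :=
      hu.comp j'.bijective
    convert hb using 1
    funext b
    change f'.app ⊤ b = toFun ((pullUnit g').app (f' ⁻¹ᵁ ⊤) (Ψ (b ⊗ₜ j 1)))
    rw [hΨ, Scheme.Modules.Hom.app_smul, LinearMap.toSpanSingleton_apply_one,
      FlatH0.oneSec_pullUnit, Groth.PicAux.toFun_smul, Groth.PicAux.toFun_oneSec, mul_one]
  let ε : Γ((Scheme.Modules.pullback g').obj L, f' ⁻¹ᵁ ⊤) := a.inv.app ⊤ (oneSec X' ⊤)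
  have hε : Gen ((Scheme.Modules.pullback g').obj L) (f' ⁻¹ᵁ ⊤) ε := (gen_oneSec X').map a.inv
  have hψ : Function.Bijective fun b : Γ(S', ⊤) => f'.app ⊤ b • ε := by
    have h1 := hε _ le_rfl
    simp only [Groth.PicAux.res_self] at h1
    exact h1.comp happ
  let ψ : Γ(S', ⊤) ≃+ Γ((Scheme.Modules.pullback g').obj L, f' ⁻¹ᵁ ⊤) :=
    AddEquiv.ofBijective (AddMonoidHom.mk' (fun b => f'.app ⊤ b • ε) fun p q => by
      rw [map_add, add_smul]) hψ
  let κ := Φ.trans ψ.symm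
  let c : secMod f L (le_refl (f ⁻¹ᵁ ⊤)) → Γ(S', ⊤) := fun m => κ (1 ⊗ₜ m)
  have hκ : ∀ b m, κ (b ⊗ₜ m) = b * c m := by
    intro b m
    refine ψ.injective ?_
    change ψ (ψ.symm (Φ _)) = f'.app ⊤ (b * _) • ε
    rw [AddEquiv.apply_symm_apply, map_mul, mul_smul, hΦ]
    congr 1
    change _ = ψ (ψ.symm (Φ _))
    rw [AddEquiv.apply_symm_apply, hΦ, map_one, one_smul]
  have hsmul : ∀ (r : Γ(S, ⊤)) m, c (r • m) = algebraMap _ Γ(S', ⊤) r * c m := fun r m => by
    change κ _ = _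
    rw [TensorProduct.tmul_smul, TensorProduct.smul_tmul', hκ, Algebra.smul_def, mul_one]
  have hadd : ∀ m m', c (m + m') = c m + c m' := fun m m' => by
    change κ _ = _
    rw [TensorProduct.tmul_add, map_add]
  -- a point over each maximal ideal
  have hpt : ∀ 𝔪 : MaximalSpectrum Γ(S, ⊤), ∃ s' : S', ∀ r : Γ(S, ⊤),
      s' ∈ S'.basicOpen (algebraMap _ Γ(S', ⊤) r) ↔ r ∉ 𝔪.asIdeal := by
    intro 𝔪
    let q : PrimeSpectrum Γ(S, ⊤) := ⟨𝔪.asIdeal, 𝔪.isMaximal.isPrime⟩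
    obtain ⟨s', hs'⟩ := g.surjective (S.isoSpec.inv q)
    refine ⟨s', fun r => ?_⟩
    have h1 : algebraMap _ Γ(S', ⊤) r = g.appTop r := by
      change g.appLE ⊤ ⊤ _ r = _
      rw [Scheme.Hom.appLE]
      exact congrArg (fun φ => φ (g.appTop r)) (congrArg CommRingCat.Hom.hom (S'.presheaf.map_id (op ⊤)))
    rw [h1, show S'.basicOpen (g.appTop r) = g ⁻¹ᵁ S.basicOpen r from (g.preimage_basicOpen r).symm]
    change g s' ∈ S.basicOpen r ↔ _
    rw [hs', ← Scheme.toSpecΓ_preimage_basicOpen]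
    change S.isoSpec.hom (S.isoSpec.inv q) ∈ PrimeSpectrum.basicOpen r ↔ _
    rw [← Scheme.Hom.comp_apply, Iso.inv_hom_id]
    exact Iff.rfl
  choose s hs using hpt
  have hone : κ (κ.symm 1) = 1 := κ.apply_symm_apply 1
  have hm₀ : ∀ 𝔪, ∃ m, s 𝔪 ∈ S'.basicOpen (c m) := fun 𝔪 =>
    DescGen.exists_mem_basicOpen (show s 𝔪 ∈ (⊤ : S'.Opens) from trivial) c κ.toAddMonoidHom hκ (κ.symm 1) (by
      rw [AddEquiv.coe_toAddMonoidHom, hone, Scheme.basicOpen_of_isUnit _ isUnit_one]; trivial)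
  choose m₀ hm₀ using hm₀
  have := Fintype.ofFinite (MaximalSpectrum Γ(S, ⊤))
  have hidem : ∀ i : MaximalSpectrum Γ(S, ⊤), ∃ r : Γ(S, ⊤), r ∉ i.asIdeal ∧
      ∀ j, j ≠ i → r ∈ j.asIdeal := by
    intro i
    by_contra hcon
    push Not at hcon
    have hle : (∏ j ∈ Finset.univ.erase i, j.asIdeal) ≤ i.asIdeal := fun r hr => by
      by_contra hri
      obtain ⟨j, hj, hrj⟩ := hcon r hri
      exact hrj (Ideal.prod_le_inf.trans (Finset.inf_le (Finset.mem_erase.2 ⟨hj, Finset.mem_univ _⟩)) hr)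
    obtain ⟨j, hj, hji⟩ := i.isMaximal.isPrime.prod_le.1 hle
    exact (Finset.mem_erase.1 hj).1 (MaximalSpectrum.ext (j.isMaximal.eq_of_le i.isMaximal.ne_top hji))
  choose r hr hr' using hidem
  let m := ∑ i, r i • m₀ i
  have hcm : ∀ 𝔪, s 𝔪 ∈ S'.basicOpen (c m) := by
    intro 𝔪
    let χ := (S'.presheaf.germ ⊤ (s 𝔪) trivial).hom
    have hc0 : ∀ b : Γ(S', ⊤), s 𝔪 ∈ S'.basicOpen b ↔ IsUnit (χ b) := fun b =>
      S'.mem_basicOpen b (s 𝔪) trivial
    rw [hc0]
    let cc : secMod f L (le_refl (f ⁻¹ᵁ ⊤)) →+ Γ(S', ⊤) := AddMonoidHom.mk' c hadd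
    rw [show c m = ∑ i, c (r i • m₀ i) from map_sum cc _ _, map_sum,
      ← Finset.add_sum_erase _ _ (Finset.mem_univ 𝔪)]
    have h1 : IsUnit (χ (c (r 𝔪 • m₀ 𝔪))) := by
      rw [hsmul, map_mul]
      exact ((hc0 _).1 ((hs 𝔪 _).2 (hr 𝔪))).mul ((hc0 _).1 (hm₀ 𝔪))
    have h2 : (∑ i ∈ Finset.univ.erase 𝔪, χ (c (r i • m₀ i))) ∈
        IsLocalRing.maximalIdeal (S'.presheaf.stalk (s 𝔪)) := Ideal.sum_mem _ fun i hi => by
      rw [hsmul, map_mul]
      exact Ideal.mul_mem_right _ _ ((IsLocalRing.mem_maximalIdeal _).2 fun hu =>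
        (hs 𝔪 _).1 ((hc0 _).2 hu) (hr' i 𝔪 (Finset.mem_erase.1 hi).1.symm))
    by_contra hn
    exact (IsLocalRing.mem_maximalIdeal _).1
      (by simpa using Ideal.sub_mem _ ((IsLocalRing.mem_maximalIdeal _).2 hn) h2) h1
  have hspan : ∀ x, x ∈ Submodule.span Γ(S, ⊤) {m} := by
    intro x
    by_contra hx
    let I := (Submodule.span Γ(S, ⊤) {m}).comap (LinearMap.toSpanSingleton _ _ x)
    have hI : I ≠ ⊤ := fun h => hx (by
      have h1 : (1 : Γ(S, ⊤)) • x ∈ Submodule.span Γ(S, ⊤) {m} :=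
        (show (1 : Γ(S, ⊤)) ∈ I from h ▸ Submodule.mem_top)
      rwa [one_smul] at h1)
    obtain ⟨M, hM, hIM⟩ := Ideal.exists_le_maximal I hI
    obtain ⟨p, p', hp, hpp⟩ := DescGen.exists_relation (show s ⟨M, hM⟩ ∈ (⊤ : S'.Opens) from trivial) c κ hκ m x (hcm ⟨M, hM⟩)
    exact (hs ⟨M, hM⟩ p).1 hp (hIM (show p • x ∈ Submodule.span Γ(S, ⊤) {m} from
      hpp ▸ Submodule.smul_mem _ _ (Submodule.mem_span_singleton_self m)))
  have hu : IsUnit (c m) := by
    have : ∀ z, ∃ b, κ z = b * c m := by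
      intro z
      induction z using TensorProduct.induction_on with
      | zero => exact ⟨0, by rw [map_zero, zero_mul]⟩
      | add p q hp hq =>
        obtain ⟨b, hb⟩ := hp
        obtain ⟨b', hb'⟩ := hq
        exact ⟨b + b', by rw [map_add, hb, hb', add_mul]⟩
      | tmul b x =>
        obtain ⟨t, ht⟩ := Submodule.mem_span_singleton.1 (hspan x)
        exact ⟨b * algebraMap _ _ t, by rw [hκ, ← ht, hsmul, mul_assoc]⟩
    obtain ⟨b, hb⟩ := this (κ.symm 1)
    exact isUnit_of_mul_isUnit_right (x := b) (by rw [← hb, hone]; exact isUnit_one)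
  have hgen : Gen ((Scheme.Modules.pullback g').obj L) ⊤ (pullTop g' L (show Γ(L, ⊤) from m)) := by
    have hm : f'.app ⊤ (c m) • ε = psec g' L e₁ (show Γ(L, f ⁻¹ᵁ ⊤) from m) := by
      change ψ (ψ.symm (Φ _)) = _
      rw [AddEquiv.apply_symm_apply, hΦ, map_one, one_smul]
    rw [Groth.CohBase.FlatBC.psec_apply] at hm
    have h4 := hε.smul_unit (hu.map (f'.app ⊤).hom)
    rw [hm] at h4
    have h5 : res ((Scheme.Modules.pullback g').obj L) (le_rfl : (⊤ : X'.Opens) ≤ ⊤)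
        (pullTop g' L (show Γ(L, ⊤) from m)) =
      Groth.QCohMod.res ((Scheme.Modules.pullback g').obj L) e₁ (pullSec g' L (show Γ(L, ⊤) from m)) := rfl
    rw [Groth.PicAux.res_self] at h5
    rw [h5]
    exact h4
  refine ⟨(show Γ(L, ⊤) from m), ?_⟩
  have hpt' : ∀ x : X, DescGen.GenAt L (show Γ(L, ⊤) from m) x := fun x => by
    obtain ⟨x', rfl⟩ := g'.surjective x
    refine DescGen.genAt_of_pullSec g' hL ⟨⊤, trivial, le_rfl, ?_⟩
    have := hgen
    convert this using 1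
    exact Groth.PicAux.res_self _ _
  choose W hxW hW hWg using hpt'
  exact Gen.of_cover W hW (fun x _ => Opens.mem_iSup.2 ⟨x, hxW x⟩) hWg

end

/-- Let A → B be faithfully flat and X a quasi-compact and quasi-separated scheme over A such that
H^0(X, O_X) is a semi-local ring. Then Pic(X) → Pic(X_B) is injective: an invertible module on X
which becomes trivial on X_B is trivial. -/
theorem result (A B : Type u) [CommRing A]
    [CommRing B] [Algebra A B] [Module.FaithfullyFlat A B]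
    (X : Scheme.{u}) (f : X ⟶ Spec (CommRingCat.of A)) [CompactSpace X] [QuasiSeparatedSpace X]
    (hsl : Finite (MaximalSpectrum Γ(X, ⊤))) (L : X.Modules) (hL : PicF.IsInvertible L)
    (htriv : Nonempty ((Scheme.Modules.pullback
        (pullback.fst f (Spec.map (CommRingCat.ofHom (algebraMap A B))))).obj L ≅
      Coh.structureModule (pullback f (Spec.map (CommRingCat.ofHom (algebraMap A B)))))) :
    Nonempty (L ≅ Coh.structureModule X) := by
  obtain ⟨a⟩ := htriv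
  let R := Γ(X, ⊤)
  let φ : CommRingCat.of A ⟶ R := (Scheme.ΓSpecIso (CommRingCat.of A)).inv ≫ f.appTop
  let g : Spec (CommRingCat.of B) ⟶ Spec (CommRingCat.of A) :=
    Spec.map (CommRingCat.ofHom (algebraMap A B))
  have : Flat g := HasRingHomProperty.Spec_iff.2 (RingHom.flat_algebraMap_iff.2 inferInstance)
  have : Surjective g := ⟨PrimeSpectrum.comap_surjective_of_faithfullyFlat⟩
  have hf : X.toSpecΓ ≫ Spec.map φ = f := by
    rw [Spec.map_comp, ← Category.assoc, ← Scheme.toSpecΓ_naturality, Category.assoc,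
      toSpecΓ_SpecMap_ΓSpecIso_inv, Category.comp_id]
  let f' : pullback f g ⟶ pullback (Spec.map φ) g :=
    pullback.lift (pullback.fst f g ≫ X.toSpecΓ) (pullback.snd f g)
      (by rw [Category.assoc, hf, pullback.condition])
  have h1 : IsPullback (pullback.fst f g) (f' ≫ pullback.snd (Spec.map φ) g)
      (X.toSpecΓ ≫ Spec.map φ) g := by
    rw [hf, pullback.lift_snd]
    exact IsPullback.of_hasPullback f g
  have sq : IsPullback (pullback.fst f g) f' X.toSpecΓ (pullback.fst (Spec.map φ) g) :=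
    IsPullback.of_bot h1 (pullback.lift_fst _ _ _).symm (IsPullback.of_hasPullback (Spec.map φ) g)
  have hbij : Function.Bijective X.toSpecΓ.appTop := by
    rw [Scheme.toSpecΓ_appTop]
    exact (ConcreteCategory.bijective_of_isIso (Scheme.ΓSpecIso R).hom)
  have hfin : Finite (MaximalSpectrum Γ(Spec R, ⊤)) :=
    Finite.of_injective (β := MaximalSpectrum R)
      (fun M => ⟨M.asIdeal.comap ((Scheme.ΓSpecIso R).inv.hom : (R : Type u) →+* Γ(Spec R, ⊤)),
        haveI := M.isMaximal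
        Ideal.comap_isMaximal_of_surjective _
          (ConcreteCategory.bijective_of_isIso (Scheme.ΓSpecIso R).inv).2⟩)
      fun M N h => MaximalSpectrum.ext (Ideal.comap_injective_of_surjective _
        (ConcreteCategory.bijective_of_isIso (Scheme.ΓSpecIso R).inv).2 (congrArg MaximalSpectrum.asIdeal h))
  obtain ⟨m, hm⟩ := exists_gen X (Spec R) _ _ sq hfin hbij L hL a
  exact nonempty_iso_of_gen hm

end Groth.Agent.S7671
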