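import Groth.Statements.S7672
import Groth.Agent.VarietyBC.HomotopyPicChart
import Mathlib.RingTheory.DedekindDomain.Dvr

set_option autoImplicit false
universe u
open CategoryTheory CategoryTheory.Limits AlgebraicGeometry
open Variety

open TopologicalSpace Groth.PicAux Groth.VarietyBC.HomotopyPic

namespace Groth.Agent.S7672

/-- Let X be a normal variety over a field k, U an open of affine n-space over k containing two k-points
p and q, and L an invertible module on X ×_k U. Then L|_{X × p} ≅ L|_{X × q}; here the two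
restrictions are compared on X through the sections σ_p, σ_q : X → X ×_k U determined by p and q. -/
theorem result (k : Type u) [Field k] (X : Scheme.{u}) [X.Over (Spec (CommRingCat.of k))]
    [IsIntegral X] (hN : Pi1.IsNormalScheme X) [IsSeparated (X ↘ (Spec (CommRingCat.of k)))]
    [LocallyOfFiniteType (X ↘ (Spec (CommRingCat.of k)))] [QuasiCompact (X ↘ (Spec (CommRingCat.of k)))]
    (n : ℕ) (U : (𝔸(ULift.{u} (Fin n); Spec (CommRingCat.of k))).Opens)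
    (p q : Spec (CommRingCat.of k) ⟶ (↑U : Scheme.{u}))
    (hp : p ≫ U.ι ≫ (𝔸(ULift.{u} (Fin n); Spec (CommRingCat.of k)) ↘ Spec (CommRingCat.of k)) = 𝟙 _)
    (hq : q ≫ U.ι ≫ (𝔸(ULift.{u} (Fin n); Spec (CommRingCat.of k)) ↘ Spec (CommRingCat.of k)) = 𝟙 _)
    (σp σq : X ⟶ pullback (X ↘ (Spec (CommRingCat.of k)))
      (U.ι ≫ (𝔸(ULift.{u} (Fin n); Spec (CommRingCat.of k)) ↘ Spec (CommRingCat.of k))))
    (hσp₁ : σp ≫ pullback.fst _ _ = 𝟙 X) (hσp₂ : σp ≫ pullback.snd _ _ = (X ↘ (Spec (CommRingCat.of k))) ≫ p)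
    (hσq₁ : σq ≫ pullback.fst _ _ = 𝟙 X) (hσq₂ : σq ≫ pullback.snd _ _ = (X ↘ (Spec (CommRingCat.of k))) ≫ q)
    (L : (pullback (X ↘ (Spec (CommRingCat.of k)))
      (U.ι ≫ (𝔸(ULift.{u} (Fin n); Spec (CommRingCat.of k)) ↘ Spec (CommRingCat.of k)))).Modules)
    (hL : PicF.IsInvertible L) :
    Nonempty ((Scheme.Modules.pullback σp).obj L ≅ (Scheme.Modules.pullback σq).obj L) := by
  classical
  have : IsLocallyNoetherian X := LocallyOfFiniteType.isLocallyNoetherian (X ↘ Spec (CommRingCat.of k))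
  have hN' : ∀ x : X, IsDomain (X.presheaf.stalk x) ∧ IsIntegrallyClosed (X.presheaf.stalk x) :=
    fun x => hN x
  obtain ⟨vp, hvp⟩ := exists_pt (p ≫ U.ι) ((Category.assoc _ _ _).trans hp)
  obtain ⟨vq, hvq⟩ := exists_pt (q ≫ U.ι) ((Category.assoc _ _ _).trans hq)
  obtain ⟨W, e, hW, -, he⟩ := exists_gen_cover hL
  obtain ⟨φK, hφK⟩ := Spec.map_surjective
    (X.fromSpecStalk (genericPoint X) ≫ (X ↘ Spec (CommRingCat.of k)))
  have hufd : ∀ (A : CommRingCat.{u}) [IsDomain A] [UniqueFactorizationMonoid A],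
      UniqueFactorizationMonoid (MvPolynomial (ULift.{u} (Fin n)) A) := fun A => inferInstance
  have hgK : X.fromSpecStalk (genericPoint X) ≫ (X ↘ Spec (CommRingCat.of k)) = Spec.map φK := hφK.symm
  let jK := jMap U (X ↘ Spec (CommRingCat.of k)) φK (X.fromSpecStalk (genericPoint X)) hgK
  have hFld : IsField (X.presheaf.stalk (genericPoint X)) := Field.toIsField X.functionField
  let _ := hFld.toField
  obtain ⟨ρK⟩ := exists_rho he jK
    (trivial_of_open_spec (polyRing _ _) (oR U φK) _ (isInvertible_pullback jK hL))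
  let sK : ∀ (r : Spec (CommRingCat.of k) ⟶ (U : Scheme.{u})) (v : ULift.{u} (Fin n) → k),
      r ≫ U.ι = pt (k := CommRingCat.of k) v → (Spec X.functionField ⟶ (oR U φK : Scheme.{u})) :=
    fun r v h => sec φK r v h
  have hsp : sK p vp hvp ≫ jK = X.fromSpecStalk (genericPoint X) ≫ σp :=
    sec_jMap _ _ _ _ p vp hvp σp hσp₁ hσp₂
  have hsq : sK q vq hvq ≫ jK = X.fromSpecStalk (genericPoint X) ≫ σq :=
    sec_jMap _ _ _ _ q vq hvq σq hσq₁ hσq₂
  have hle : ∀ {s : Spec X.functionField ⟶ (oR U φK : Scheme.{u})} {τ : X ⟶ _}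
      (_ : s ≫ jK = X.fromSpecStalk (genericPoint X) ≫ τ) {A : (pullback _ _ : Scheme.{u}).Opens}
      (_ : τ (genericPoint X) ∈ A), ⊤ ≤ (s ≫ jK) ⁻¹ᵁ A := fun e A h => by
    rw [e]
    exact eq_top_of_mem (W := _ ⁻¹ᵁ A) h
  let αp : _ → X.functionField := fun i => if h : σp (genericPoint X) ∈ W i then
    evR (sK p vp hvp) (W := jK ⁻¹ᵁ W i) (hle hsp h) (ρK.val i) else 0
  let αq : _ → X.functionField := fun i => if h : σq (genericPoint X) ∈ W i then
    evR (sK q vq hvq) (W := jK ⁻¹ᵁ W i) (hle hsq h) (ρK.val i) else 0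
  have hgerm : ∀ {s : Spec X.functionField ⟶ (oR U φK : Scheme.{u})} {τ : X ⟶ _}
      (es : s ≫ jK = X.fromSpecStalk (genericPoint X) ≫ τ) {i j} (c : Γ((pullback (X ↘ Spec (CommRingCat.of k))
        (U.ι ≫ (𝔸(ULift.{u} (Fin n); Spec (CommRingCat.of k)) ↘ Spec (CommRingCat.of k))) : Scheme.{u}), W i ⊓ W j)),
      res L inf_le_left (e i) = c • res L inf_le_right (e j) →
      ∀ h : τ (genericPoint X) ∈ W i ⊓ W j,
        evR s (W := jK ⁻¹ᵁ W i) (hle es h.1) (ρK.val i) =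
          X.presheaf.germ (τ ⁻¹ᵁ (W i ⊓ W j)) _ h (τ.app _ c) *
            evR s (W := jK ⁻¹ᵁ W j) (hle es h.2) (ρK.val j) := by
    intro s τ es i j c hc h
    rw [ρK.ev_rel s (hle es h.1) (hle es h.2) c hc, evR_congr es, evR_comp, evR_fromSpecStalk]
  have hαpe : ∀ i (h : σp (genericPoint X) ∈ W i),
      αp i = evR (sK p vp hvp) (W := jK ⁻¹ᵁ W i) (hle hsp h) (ρK.val i) := fun i h => dif_pos h
  have hαqe : ∀ i (h : σq (genericPoint X) ∈ W i),
      αq i = evR (sK q vq hvq) (W := jK ⁻¹ᵁ W i) (hle hsq h) (ρK.val i) := fun i h => dif_pos h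
  refine nonempty_iso_of_rel hN'  σp σq hL he αp αq (fun i h => ?_) (fun i j c hc h => ?_)
    (fun i j c hc h => ?_) fun x hx => ?_
  · simp only [αp, dif_pos h]
    exact ((ρK.isUnit i).map _).ne_zero
  · exact (hαpe i h.1).trans ((hgerm hsp c hc h).trans (congrArg (_ * ·) (hαpe j h.2).symm))
  · exact (hαqe i h.1).trans ((hgerm hsq c hc h).trans (congrArg (_ * ·) (hαqe j h.2).symm))
  obtain ⟨i, hi⟩ := Opens.mem_iSup.1 (hW.symm ▸ trivial : σp x ∈ iSup W)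
  obtain ⟨j, hj⟩ := Opens.mem_iSup.1 (hW.symm ▸ trivial : σq x ∈ iSup W)
  refine ⟨i, j, hi, hj, ?_⟩
  have := (hN' x).1
  have := (hN' x).2
  have : IsPrincipalIdealRing (X.presheaf.stalk x) := by
    have hdim : Ring.KrullDimLE 1 (X.presheaf.stalk x) := Ring.krullDimLE_iff.2 hx
    have : Ring.DimensionLEOne (X.presheaf.stalk x) :=
      ⟨fun {P} hP hP' => Ring.krullDimLE_one_iff_of_noZeroDivisors.1 hdim P hP hP'⟩
    have : IsDedekindDomain (X.presheaf.stalk x) := { }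
    exact IsPrincipalIdealRing.of_finite_maximals (Set.Finite.subset (Set.finite_singleton
      (IsLocalRing.maximalIdeal (X.presheaf.stalk x))) fun m hm => IsLocalRing.eq_maximalIdeal hm)
  have hx' : genericPoint X ⤳ x := (genericPoint_spec X).specializes trivial
  let ψ : X.presheaf.stalk x ⟶ X.presheaf.stalk (genericPoint X) := X.presheaf.stalkSpecializes hx'
  obtain ⟨φR, hφR⟩ := Spec.map_surjective (X.fromSpecStalk x ≫ (X ↘ Spec (CommRingCat.of k)))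
  have hgR : X.fromSpecStalk x ≫ (X ↘ Spec (CommRingCat.of k)) = Spec.map φR := hφR.symm
  have hfs : X.fromSpecStalk (genericPoint X) = Spec.map ψ ≫ X.fromSpecStalk x :=
    (Scheme.SpecMap_stalkSpecializes_fromSpecStalk hx').symm
  have hφ : φK = φR ≫ ψ := Spec.map_injective (by
    rw [hφK, Spec.map_comp, hφR, hfs, Category.assoc])
  subst hφ
  have hg' : (Spec.map ψ ≫ X.fromSpecStalk x) ≫ (X ↘ Spec (CommRingCat.of k)) =
      Spec.map (φR ≫ ψ) := by rw [← hfs]; exact hgK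
  let jR := jMap U (X ↘ Spec (CommRingCat.of k)) φR (X.fromSpecStalk x) hgR
  have htr : tr φR ψ ≫ jR = jK := by
    refine (tr_jMap _ φR ψ _ hgR hg').trans ?_
    simp only [jK, hfs]
  obtain ⟨ρR⟩ := exists_rho he jR
    (trivial_of_open_spec (polyRing _ _) (oR U φR) _ (isInvertible_pullback jR hL))
  obtain ⟨w, hw, hwv⟩ := Rho.exists_ratio (K := X.presheaf.stalk (genericPoint X)) he hW
    (tr φR ψ) htr ρR ρK
  obtain ⟨u, hu, huw⟩ := exists_unit_rel φR ψ (inferInstance :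
    IsFractionRing (X.presheaf.stalk x) X.functionField) p q vp vq hvp hvq w hw
  have hval : ∀ (r : Spec (CommRingCat.of k) ⟶ (U : Scheme.{u})) (v : ULift.{u} (Fin n) → k)
      (hv : r ≫ U.ι = pt (k := CommRingCat.of k) v) (τ : X ⟶ _)
      (eR : sec φR r v hv ≫ jR = X.fromSpecStalk x ≫ τ) (l) (hl : τ x ∈ W l)
      (hs : ⊤ ≤ (sec (φR ≫ ψ) r v hv ≫ jK) ⁻¹ᵁ W l),
      ∃ a : X.presheaf.stalk x, IsUnit a ∧ ψ a = evR (sec (φR ≫ ψ) r v hv) (W := ⊤) le_top w *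
        evR (sec (φR ≫ ψ) r v hv) (W := jK ⁻¹ᵁ W l) hs (ρK.val l) := by
    intro r v hv τ eR l hl hs
    have hR : ⊤ ≤ (sec φR r v hv ≫ jR) ⁻¹ᵁ W l := by
      rw [eR]
      exact eq_top_of_mem (W := τ ⁻¹ᵁ W l) hl
    refine ⟨evR (sec φR r v hv) (W := jR ⁻¹ᵁ W l) hR (ρR.val l), (ρR.isUnit l).map _, ?_⟩
    have hs' : ⊤ ≤ (sec (φR ≫ ψ) r v hv ≫ tr φR ψ) ⁻¹ᵁ (jR ⁻¹ᵁ W l) := by
      rw [sec_tr]
      exact (Scheme.Hom.preimage_top (f := Spec.map ψ)).ge.trans ((Spec.map ψ).preimage_mono hR)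
    rw [← hwv l _ hs hs', evR_congr (sec_tr φR ψ r v hv)]
    exact (evR_specMap ψ _ (W := jR ⁻¹ᵁ W l) _ hR _).symm
  have hpη : σp (genericPoint X) ∈ W i := (σp ⁻¹ᵁ W i).isOpen.stableUnderGeneralization hx' hi
  have hqη : σq (genericPoint X) ∈ W j := (σq ⁻¹ᵁ W j).isOpen.stableUnderGeneralization hx' hj
  obtain ⟨a, ha, hap⟩ := hval p vp hvp σp (sec_jMap _ _ _ _ p vp hvp σp hσp₁ hσp₂) i hi (hle hsp hpη)
  obtain ⟨b, hb, hbq⟩ := hval q vq hvq σq (sec_jMap _ _ _ _ q vq hvq σq hσq₁ hσq₂) j hj (hle hsq hqη)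
  refine ⟨b * (↑ha.unit⁻¹ * ↑hu.unit⁻¹), hb.mul ((Units.isUnit _).mul (Units.isUnit _)), ?_⟩
  simp only [αp, αq, dif_pos hpη, dif_pos hqη]
  rw [huw] at hbq
  change _ = ψ (b * (↑ha.unit⁻¹ * ↑hu.unit⁻¹)) * _
  have h1 := congrArg ψ ha.val_inv_mul
  have h2 := congrArg ψ hu.val_inv_mul
  rw [map_mul, map_one, hap] at h1
  rw [map_mul, map_one] at h2
  rw [map_mul, map_mul, hbq]
  linear_combination (-(ψ (↑hu.unit⁻¹) * ψ u * evR (sK q vq hvq) (W := jK ⁻¹ᵁ W j) (hle hsq hqη) (ρK.val j))) * h1 -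
    (evR (sK q vq hvq) (W := jK ⁻¹ᵁ W j) (hle hsq hqη) (ρK.val j)) * h2

end Groth.Agent.S7672
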