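import Groth.Statements.S7674
import Groth.Agent.VarietyBC.ProjInter

set_option autoImplicit false
universe u
open CategoryTheory CategoryTheory.Limits AlgebraicGeometry
open Variety

namespace Groth.Agent.S7674

open PrimeSpectrum in
theorem dim_closedIrred {R : Type u} [CommRing R] {X : Type u} [TopologicalSpace X]
    (φ : X ≃ₜ PrimeSpectrum R) (p : PrimeSpectrum R) :
    topologicalKrullDim ↥(closure ({φ.symm p} : Set X)) = ringKrullDim (R ⧸ p.asIdeal) := by
  have hsurj : Function.Surjective (Ideal.Quotient.mk p.asIdeal) := Ideal.Quotient.mk_surjective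
  have hemb : Topology.IsEmbedding
      (φ.symm ∘ PrimeSpectrum.comap (Ideal.Quotient.mk p.asIdeal)) :=
    φ.symm.isEmbedding.comp
      (PrimeSpectrum.isClosedEmbedding_comap_of_surjective _ _ hsurj).isEmbedding
  have hrange : Set.range (φ.symm ∘ PrimeSpectrum.comap (Ideal.Quotient.mk p.asIdeal)) =
      closure ({φ.symm p} : Set X) := by
    rw [Set.range_comp, range_comap_of_surjective _ _ hsurj, Ideal.mk_ker,
      ← PrimeSpectrum.closure_singleton, φ.symm.image_closure, Set.image_singleton]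
  rw [← hrange, ← PrimeSpectrum.topologicalKrullDim_eq_ringKrullDim]
  exact (IsHomeomorph.topologicalKrullDim_eq _ hemb.toHomeomorph.isHomeomorph).symm

/-- A closed irreducible subset containing a point, as the closure of a prime. -/
theorem exists_prime {R : Type u} [CommRing R] {X : Type u} [TopologicalSpace X]
    (φ : X ≃ₜ PrimeSpectrum R) (S : Set X) (hS : IsClosed S) (hirr : IsIrreducible S) :
    ∃ p : PrimeSpectrum R, S = closure {φ.symm p} ∧ φ.symm p ∈ S := by
  have hi : IsIrreducible (φ '' S) := hirr.image _ φ.continuous.continuousOn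
  have hc : IsClosed (φ '' S) := φ.isClosedMap _ hS
  have hg : IsGenericPoint hi.genericPoint (φ '' S) := by
    have := hi.isGenericPoint_genericPoint_closure
    rwa [hc.closure_eq] at this
  have hS' : S = closure {φ.symm hi.genericPoint} := by
    rw [← Set.image_singleton, ← φ.symm.image_closure, hg.def, Set.image_image]
    simp
  refine ⟨hi.genericPoint, hS', ?_⟩
  rw [Set.ext_iff] at hS'
  exact (hS' _).2 (subset_closure rfl)

/-- A component of a closed subspace, pushed forward. -/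
theorem image_component {X : Type u} [TopologicalSpace X] (S : Set X) (hS : IsClosed S)
    (Z : Set ↥S) (hZ : Z ∈ irreducibleComponents ↥S) :
    IsClosed (Subtype.val '' Z) ∧ IsIrreducible (Subtype.val '' Z) ∧ Subtype.val '' Z ⊆ S ∧
      topologicalKrullDim ↥Z = topologicalKrullDim ↥(Subtype.val '' Z : Set X) ∧
      ∀ T : Set X, IsIrreducible T → T ⊆ S → Subtype.val '' Z ⊆ T → T = Subtype.val '' Z := by
  refine ⟨hS.isClosedMap_subtype_val _ (isClosed_of_mem_irreducibleComponents Z hZ),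
    hZ.1.image _ continuous_subtype_val.continuousOn, Subtype.coe_image_subset S Z, ?_, ?_⟩
  · have hemb : Topology.IsEmbedding ((Subtype.val : ↥S → X) ∘ (Subtype.val : ↥Z → ↥S)) :=
      Topology.IsEmbedding.subtypeVal.comp Topology.IsEmbedding.subtypeVal
    have hr : Set.range ((Subtype.val : ↥S → X) ∘ (Subtype.val : ↥Z → ↥S)) = Subtype.val '' Z := by
      rw [Set.range_comp, Subtype.range_coe]
    rw [← hr]
    exact IsHomeomorph.topologicalKrullDim_eq _ hemb.toHomeomorph.isHomeomorph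
  · intro T hT hTS hZT
    have hpre : Z ⊆ (Subtype.val : ↥S → X) ⁻¹' T := Set.image_subset_iff.1 hZT
    have hirr : IsIrreducible ((Subtype.val : ↥S → X) ⁻¹' T) := by
      obtain ⟨⟨t, ht⟩, hpre'⟩ := hT
      refine ⟨⟨⟨t, hTS ht⟩, ht⟩, ?_⟩
      intro u v hu hv hun hvn
      obtain ⟨U, hU, rfl⟩ := isOpen_induced_iff.1 hu
      obtain ⟨V, hV, rfl⟩ := isOpen_induced_iff.1 hv
      obtain ⟨⟨a, _⟩, haT, haU⟩ := hun
      obtain ⟨⟨b, _⟩, hbT, hbV⟩ := hvn
      obtain ⟨c, hcT, hcU, hcV⟩ := hpre' U V hU hV ⟨a, haT, haU⟩ ⟨b, hbT, hbV⟩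
      exact ⟨⟨c, hTS hcT⟩, hcT, hcU, hcV⟩
    exact Set.Subset.antisymm
      (fun t ht => ⟨⟨t, hTS ht⟩, hZ.2 hirr hpre ht, rfl⟩) hZT

theorem main {R : Type u} [CommRing R] {X₀ : Type u} [TopologicalSpace X₀]
    (φ : X₀ ≃ₜ PrimeSpectrum R) (n r s : ℕ)
    (hinter : ∀ P Q m : Ideal R, P.IsPrime → Q.IsPrime → m.IsPrime → P ≤ m → Q ≤ m →
      ∃ M ∈ (P ⊔ Q).minimalPrimes, M ≤ m ∧
        ringKrullDim (R ⧸ P) + ringKrullDim (R ⧸ Q) ≤ ringKrullDim (R ⧸ M) + (n : WithBot ℕ∞))
    (X Y : Set X₀) (hX : IsClosed X) (hY : IsClosed Y)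
    (hXr : ∀ Z ∈ irreducibleComponents X, topologicalKrullDim Z = r)
    (hYs : ∀ Z ∈ irreducibleComponents Y, topologicalKrullDim Z = s)
    (Z : Set ↥(X ∩ Y)) (hZ : Z ∈ irreducibleComponents ↥(X ∩ Y)) :
    ((r + s : ℕ) : WithBot ℕ∞) ≤ topologicalKrullDim Z + (n : WithBot ℕ∞) := by
  obtain ⟨hZc, hZi, hZs, hZd, hZmax⟩ := image_component (X ∩ Y) (hX.inter hY) Z hZ
  obtain ⟨m, hm, hmmem⟩ := exists_prime φ _ hZc hZi
  -- components of `X` and `Y` through the generic point
  have comp : ∀ (S : Set X₀), IsClosed S → φ.symm m ∈ S →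
      ∀ d : ℕ, (∀ W ∈ irreducibleComponents S, topologicalKrullDim W = d) →
      ∃ P : PrimeSpectrum R, P.asIdeal ≤ m.asIdeal ∧ closure {φ.symm P} ⊆ S ∧
        ringKrullDim (R ⧸ P.asIdeal) = d := by
    intro S hS hmS d hd
    let W := irreducibleComponent (⟨φ.symm m, hmS⟩ : ↥S)
    have hW : W ∈ irreducibleComponents ↥S := irreducibleComponent_mem_irreducibleComponents _
    obtain ⟨hWc, hWi, hWs, hWd, -⟩ := image_component S hS W hW
    obtain ⟨P, hP, -⟩ := exists_prime φ _ hWc hWi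
    refine ⟨P, ?_, hP ▸ hWs, ?_⟩
    · have hmW : φ.symm m ∈ closure {φ.symm P} := hP ▸ ⟨_, mem_irreducibleComponent, rfl⟩
      rw [← Set.image_singleton, ← φ.symm.image_closure] at hmW
      obtain ⟨q, hq, hqe⟩ := hmW
      rw [φ.symm.injective hqe, PrimeSpectrum.closure_singleton] at hq
      exact hq
    · rw [← dim_closedIrred φ P, ← hP, ← hWd]
      exact hd W hW
  obtain ⟨P, hPm, hPX, hPd⟩ := comp X hX (hZs hmmem).1 r hXr
  obtain ⟨Q, hQm, hQY, hQd⟩ := comp Y hY (hZs hmmem).2 s hYs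
  obtain ⟨M, hM, hMm, hle⟩ := hinter _ _ _ P.2 Q.2 m.2 hPm hQm
  let M' : PrimeSpectrum R := ⟨M, hM.1.1⟩
  have hcl : ∀ p q : PrimeSpectrum R, p.asIdeal ≤ q.asIdeal →
      closure {φ.symm q} ⊆ closure {φ.symm p} := by
    intro p q h
    refine closure_minimal (Set.singleton_subset_iff.2 ?_) isClosed_closure
    rw [← Set.image_singleton, ← φ.symm.image_closure]
    exact ⟨q, by rw [PrimeSpectrum.closure_singleton]; exact h, rfl⟩
  have hEq : closure {φ.symm M'} = Subtype.val '' Z := by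
    refine hZmax _ isIrreducible_singleton.closure ?_ ?_
    · exact Set.subset_inter ((hcl P M' (le_sup_left.trans hM.1.2)).trans hPX)
        ((hcl Q M' (le_sup_right.trans hM.1.2)).trans hQY)
    · rw [hm]; exact hcl M' m hMm
  rw [hZd, ← hEq, dim_closedIrred φ M', Nat.cast_add, ← hPd, ← hQd]
  exact hle

end Groth.Agent.S7674

namespace Groth.Agent.S7674

/-- Let k be a field, n ≥ 0, and X, Y ⊆ A^n_k closed subsets which are equidimensional of dimensions r
and s. Then each irreducible component Z of the intersection X ∩ Y satisfies dim Z ≥ r + s − n. -/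
theorem result (k : Type u) [Field k] (n r s : ℕ)
    (X Y : Set ↥(𝔸(ULift.{u} (Fin n); Spec (CommRingCat.of k)))) (hX : IsClosed X) (hY : IsClosed Y)
    (hXr : ∀ Z ∈ irreducibleComponents X, topologicalKrullDim Z = r)
    (hYs : ∀ Z ∈ irreducibleComponents Y, topologicalKrullDim Z = s)
    (Z : Set ↥(X ∩ Y)) (hZ : Z ∈ irreducibleComponents ↥(X ∩ Y)) :
    ((r + s : ℕ) : WithBot ℕ∞) ≤ topologicalKrullDim Z + (n : WithBot ℕ∞) := by
  refine main (R := MvPolynomial (Fin n) k) ((AffineSpace.SpecIso (ULift.{u} (Fin n)) (CommRingCat.of k)).hom.homeomorph.trans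
    (PrimeSpectrum.homeomorphOfRingEquiv (MvPolynomial.renameEquiv k Equiv.ulift).toRingEquiv))
    n r s ?_ X Y hX hY hXr hYs Z hZ
  intro P Q m hP hQ hm hPm hQm
  have := Groth.VarietyBC.ProjInter.exists_minimalPrimes_inter (k := k) (σ := Fin n) P Q m hPm hQm
  rwa [Fintype.card_fin] at this

end Groth.Agent.S7674
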