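import Groth.Statements.S7675
import Groth.Agent.VarietyBC.ProjInter

set_option autoImplicit false
universe u
open CategoryTheory CategoryTheory.Limits AlgebraicGeometry
open Variety

namespace Groth.Agent.S7675

/-- Let k be a field, n ≥ 0 and X, Y ⊆ P^n_k nonempty closed subsets of dimensions r and s with r + s ≥
n. Then X ∩ Y is nonempty and dim(X ∩ Y) ≥ r + s − n. -/
theorem result (k : Type u) [Field k] (n r s : ℕ)
    (X Y : Set ↥(CohB1.ProjSpace n k)) (hX : IsClosed X) (hY : IsClosed Y)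
    (hXne : X.Nonempty) (hYne : Y.Nonempty)
    (hXr : topologicalKrullDim X = r) (hYs : topologicalKrullDim Y = s) (hrs : n ≤ r + s) :
    (X ∩ Y).Nonempty ∧ ((r + s : ℕ) : WithBot ℕ∞) ≤ topologicalKrullDim ↥(X ∩ Y) + (n : WithBot ℕ∞) := by
  have key : ∀ (Z : Set ↥(CohB1.ProjSpace n k)), IsClosed Z → Z.Nonempty → ∀ d : ℕ,
      topologicalKrullDim Z = d →
      ∃ x ∈ Z, Groth.Variety2.PSpace.ht (k := k) (n := n) x = (d : ℕ∞) := by
    intro Z hZ hne d hd
    rw [Groth.Variety2.Dim.dim_closed hZ] at hd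
    have hle : ∀ x ∈ Z, Groth.Variety2.PSpace.ht (k := k) (n := n) x ≤ (d : ℕ∞) := fun x hx => by
      have h := le_iSup₂ (f := fun x (_ : x ∈ Z) => ((Order.height x : ℕ∞) : WithBot ℕ∞)) x hx
      rw [hd] at h
      exact WithBot.coe_le_coe.1 h
    by_contra hno
    push Not at hno
    rcases Nat.eq_zero_or_pos d with rfl | hpos
    · obtain ⟨x, hx⟩ := hne
      exact hno x hx (le_antisymm (hle x hx) (by simp))
    · have : ((d : ℕ∞) : WithBot ℕ∞) ≤ (((d - 1 : ℕ) : ℕ∞) : WithBot ℕ∞) := by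
        refine le_of_eq_of_le hd.symm (iSup₂_le fun x hx => WithBot.coe_le_coe.2 ?_)
        obtain ⟨m, hm⟩ := Groth.Variety2.PSpace.exists_ht_eq (k := k) (n := n) x
        have h1 := lt_of_le_of_ne (hle x hx) (hno x hx)
        rw [hm, Nat.cast_lt] at h1
        show Groth.Variety2.PSpace.ht (k := k) (n := n) x ≤ _
        rw [hm, Nat.cast_le]
        omega
      rw [WithBot.coe_le_coe, Nat.cast_le] at this
      omega
  obtain ⟨x, hx, hxr⟩ := key X hX hXne r hXr
  obtain ⟨y, hy, hys⟩ := key Y hY hYne s hYs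
  obtain ⟨z, hxz, hyz, hz⟩ := Groth.VarietyBC.ProjInter.exists_inter_point x y r s hxr hys hrs
  have hzI : (z : ↥(CohB1.ProjSpace n k)) ∈ X ∩ Y := ⟨hxz.mem_closed hX hx, hyz.mem_closed hY hy⟩
  refine ⟨⟨z, hzI⟩, ?_⟩
  rw [Groth.Variety2.Dim.dim_closed (hX.inter hY)]
  refine le_trans ?_ (add_le_add (le_iSup₂ (f := fun (w : ↥(CohB1.ProjSpace n k)) (_ : w ∈ X ∩ Y) =>
    ((Order.height w : ℕ∞) : WithBot ℕ∞)) z hzI) le_rfl)
  exact_mod_cast hz

end Groth.Agent.S7675
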