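import Groth.Statements.S7676
import Groth.Agent.VarietyBC.Hyperplane

set_option autoImplicit false
universe u
open CategoryTheory CategoryTheory.Limits AlgebraicGeometry
open Variety

namespace Groth.Agent.S7676

open Groth.PicAux Groth.Ega2Proj Groth.VarietyBC.Hyperplane MvPolynomial

theorem main (k : Type u) [Field k] (n : ℕ)
    (s : Coh.structureModule (Proj (CohB1.polyGrading (n + 1) k)) ⟶
      Twist.twist (CohB1.polyGrading (n + 1) k) 1) (hs : s ≠ 0) :
    ∃ φ : Proj (CohB1.polyGrading n k) ≅ (PicF2.zeroScheme _ s).subscheme,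
      Nonempty ((Scheme.Modules.pullback (φ.hom ≫ (PicF2.zeroScheme _ s).subschemeι)).obj
          (Twist.twist (CohB1.polyGrading (n + 1) k) 1) ≅ Twist.twist (CohB1.polyGrading n k) 1) := by
  obtain ⟨l, hl, hval⟩ := exists_linearForm (Nat.succ_le_succ (Nat.zero_le n))
    (Groth.Variety2.Zero.val _ s ⊤)
  obtain ⟨c, rfl⟩ := exists_coeff n hl
  obtain ⟨p, hp⟩ : ∃ p, c p ≠ 0 := by
    by_contra h
    push Not at h
    have h0 : form n c = 0 := by simp [form, h]
    refine hs (hom_structure_ext ?_)
    refine wval_ext fun x hx => ?_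
    show wval (Groth.Variety2.Zero.val _ s ⊤) x hx = _
    rw [hval x hx]
    refine ((lfrac_eq_lfrac x _ _).2 (by rw [h0])).trans (lfrac_zero x (h := 1)
      (fun h => x.isPrime.ne_top ((Ideal.eq_top_iff_one _).2 h)))
  rw [← ker_emb n c p hp s fun x => hval x trivial]
  refine ⟨asIso (emb n c p).toImage, ?_⟩
  haveI := isIso_mu n c p
  have he : (asIso (emb n c p).toImage).hom ≫ (emb n c p).ker.subschemeι = emb n c p :=
    Scheme.Hom.toImage_imageι _
  rw [he]
  exact ⟨@asIso _ _ _ _ (mu (elimHom n c p) (irrelevant_le n c p) 1) (isIso_mu n c p)⟩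

end Groth.Agent.S7676

namespace Groth.Agent.S7676

/-- Let k be a field, n ≥ 1 and i : H → P^n_k a hyperplane, the zero scheme of a nonzero section of
O(1). Then there is an isomorphism φ : P^{n-1}_k → H under which i^*O(1) pulls back to O(1).
(Indexed here with P^{n+1} and P^n.) -/
theorem result (k : Type u) [Field k] (n : ℕ)
    (s : Coh.structureModule (CohB1.ProjSpace (n + 1) k) ⟶ Twist.twistProjSpace (n + 1) k 1) (hs : s ≠ 0) :
    ∃ φ : CohB1.ProjSpace n k ≅ (PicF2.zeroScheme _ s).subscheme,
      Nonempty ((Scheme.Modules.pullback (φ.hom ≫ (PicF2.zeroScheme _ s).subschemeι)).obj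
          (Twist.twistProjSpace (n + 1) k 1) ≅ Twist.twistProjSpace n k 1) := by
  exact main k n s hs

end Groth.Agent.S7676
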