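import Groth.Statements.S7678
import Groth.Agent.VarietyBC.Reduced
import Groth.Agent.VarietyBC.ReducedCharP

set_option backward.isDefEq.respectTransparency false

set_option autoImplicit false
universe u
open CategoryTheory CategoryTheory.Limits AlgebraicGeometry
open Variety

namespace Groth.Agent.S7678

open Groth.VarietyBC
open TensorProduct

/-- `k` seen as a `k`-algebra through Frobenius. -/
def FrobK (k : Type u) [Field k] (p : ℕ) [Fact p.Prime] [CharP k p] : Type u := k

noncomputable instance (k : Type u) [Field k] (p : ℕ) [Fact p.Prime] [CharP k p] : Field (FrobK k p) :=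
  inferInstanceAs (Field k)

noncomputable instance (k : Type u) [Field k] (p : ℕ) [Fact p.Prime] [CharP k p] :
    Algebra k (FrobK k p) := RingHom.toAlgebra (S := FrobK k p) (frobenius k p)

instance (k : Type u) [Field k] (p : ℕ) [Fact p.Prime] [CharP k p] :
    Algebra.IsAlgebraic k (FrobK k p) := by
  refine ⟨fun c => IsIntegral.isAlgebraic ?_⟩
  refine IsIntegral.of_pow (Fact.out : p.Prime).pos ?_
  exact (isIntegral_algebraMap (R := k) (A := FrobK k p) (x := (c : k)))

attribute [local instance] Curv2.stalkAlgebra

theorem geometricallyReduced_stalk_of_frobenius (k : Type u) [Field k] (X : Scheme.{u})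
    [X.Over (Spec (CommRingCat.of k))] (p : ℕ) [Fact p.Prime] [CharP k p]
    (h : IsReduced ↑(pullback (X ↘ (Spec (CommRingCat.of k))) (Spec.map (CommRingCat.ofHom (frobenius k p)))))
    (x : X) : Algebra.IsGeometricallyReduced k (X.presheaf.stalk x) := by
  have hb : IsReduced (Curv2.bc k X (FrobK k p)) := h
  have := isReduced_tensor_of_stalks (k := k) (X := X) (FrobK k p) x fun z _ => inferInstance
  rw [Algebra.isGeometricallyReduced_field_iff]
  refine isReduced_tensor_comm (isReduced_tensor_of_linearIndependent_pow p (fun a ha =>
    linearIndependent_pow_of_isReduced p (FrobK k p) (RingEquiv.refl k) (fun c => rfl) a ha) _)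


/-- For a field k of positive characteristic p and a k-scheme X, the base change of X along the p-th
power map of k is a reduced scheme exactly when X is geometrically reduced over k. -/
theorem result (k : Type u) [Field k] (X : Scheme.{u}) [X.Over (Spec (CommRingCat.of k))]
    (p : ℕ) [Fact p.Prime] [CharP k p] :
    GeometricallyReduced (X ↘ (Spec (CommRingCat.of k))) ↔
      IsReduced ↑(pullback (X ↘ (Spec (CommRingCat.of k))) (Spec.map (CommRingCat.ofHom (frobenius k p)))) := by
  refine ⟨fun h => h.geometrically_isReduced (K := k) _ _ _ (.of_hasPullback _ _), fun h => ?_⟩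
  rw [geometricallyReduced_iff_forall]
  intro x
  rw [isGeomReducedAt_iff]
  exact geometricallyReduced_stalk_of_frobenius k X p h x

end Groth.Agent.S7678
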