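import Groth.Statements.S7681
import Groth.Agent.VarietyBC.ZeroConnected
-- import your own Groth.Agent.* helpers here

set_option autoImplicit false
universe u
open CategoryTheory CategoryTheory.Limits AlgebraicGeometry
open Variety

namespace Groth.Agent.S7681

/-- Let X be proper over a field k, L ample invertible and s ∈ Γ(X, L) a regular section; assume
depth(O_{X,x}) ≥ 2 for every closed point x and X connected. Then the zero scheme Z(s) is connected. -/
theorem result (k : Type u) [Field k] (X : Scheme.{u}) [X.Over (Spec (CommRingCat.of k))] [IsProper (X ↘ (Spec (CommRingCat.of k)))]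
    [ConnectedSpace X] (L : X.Modules) (hL : CohB1.IsAmple L)
    (s : Coh.structureModule X ⟶ L) (hs : Mono s)
    (hdepth : ∀ x : X, IsClosed ({x} : Set X) → 2 ≤ LocCoh.depth (X.presheaf.stalk x) (X.presheaf.stalk x)) :
    ConnectedSpace ↥(PicF2.zeroScheme L s).subscheme := by
  haveI := hs
  have h := Groth.VarietyBC.ZeroConnected.isConnected_compl_gloc k hL s hdepth
  have hr : Set.range (PicF2.zeroScheme L s).subschemeι.base =
      ((Groth.PropsBasic.Ample.gloc (Groth.PicAux.gsec s) : Set X))ᶜ := by
    rw [Scheme.IdealSheafData.range_subschemeι, ← Groth.PropsBasic.Ample.genLocus_eq_gloc]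
    ext x
    rw [Set.mem_compl_iff, SetLike.mem_coe, SetLike.mem_coe,
      Groth.PicAux.mem_genLocus_iff_not_mem_support hL.1 s, not_not]
  rw [← hr] at h
  have hind := (PicF2.zeroScheme L s).subschemeι.isClosedEmbedding.toIsEmbedding.toIsInducing
  rw [connectedSpace_iff_univ]
  refine ⟨?_, hind.isPreconnected_image.1 (by rw [Set.image_univ]; exact h.2)⟩
  obtain ⟨_, z, -⟩ := h.1
  exact ⟨z, trivial⟩

end Groth.Agent.S7681
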