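import Groth.Statements.S7682
import Groth.Agent.VarietyBC.InterPushDeg
import Groth.Agent.VarietyBC.InterPoly
import Groth.Agent.Inter.NakaiCor
import Groth.Agent.AlgSp3.RedInduced
-- import your own Groth.Agent.* helpers here

set_option autoImplicit false
universe u
open CategoryTheory CategoryTheory.Limits AlgebraicGeometry
open Variety

namespace Groth.Agent.S7682

/-- Let f : Y → X be a morphism of proper schemes over a field k, Z ⊆ Y an integral closed subscheme of
dimension d and L_1, …, L_d invertible modules on X. Then (f^*L_1 ⋯ f^*L_d · Z) = deg(Z → f(Z)) ·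
(L_1 ⋯ L_d · f(Z)), f(Z) being the scheme-theoretic image and deg the degree of the function field
extension, read as 0 when dim f(Z) < d (equivalently when that extension is infinite). Both
intersection numbers are the n_1⋯n_d-coefficients of the polynomials computing the corresponding
Euler characteristics. -/
theorem result (k : Type u) [Field k] (X Y : Scheme.{u})
    [X.Over (Spec (CommRingCat.of k))] [Y.Over (Spec (CommRingCat.of k))]
    [IsProper (X ↘ (Spec (CommRingCat.of k)))] [IsProper (Y ↘ (Spec (CommRingCat.of k)))]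
    (f : Y ⟶ X) (hf : f ≫ (X ↘ (Spec (CommRingCat.of k))) = Y ↘ (Spec (CommRingCat.of k)))
    (Z : Y.IdealSheafData) [IsIntegral Z.subscheme] (d : ℕ)
    (hZ : topologicalKrullDim (Z.support : Set Y) = d)
    (L : Fin d → X.Modules) (hL : ∀ i, PicF.IsInvertible (L i))
    (PY PX : MvPolynomial (Fin d) ℚ)
    (hPY : ∀ n : Fin d → ℕ, (Curv2.euler k Y (Curv2.tensorPows (ClSub.quotMod Z) d (fun i => (Scheme.Modules.pullback f).obj (L i)) n) : ℚ) = MvPolynomial.eval (fun i => (n i : ℚ)) PY)
    (hPX : ∀ n : Fin d → ℕ, (Curv2.euler k X (Curv2.tensorPows (ClSub.quotMod (Z.subschemeι ≫ f).ker) d L n) : ℚ) = MvPolynomial.eval (fun i => (n i : ℚ)) PX) :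
    MvPolynomial.coeff (Finsupp.equivFunOnFinite.symm fun _ : Fin d => 1) PY =
      ((Z.subschemeι ≫ f).residueDegree (genericPoint Z.subscheme) : ℚ) *
        MvPolynomial.coeff (Finsupp.equivFunOnFinite.symm fun _ : Fin d => 1) PX := by
  classical
  have hN : IsNoetherian X := Groth.Inter.isNoetherian k
  have hNY : IsNoetherian Y := Groth.Inter.isNoetherian k
  let i := Z.subschemeι
  letI : Z.subscheme.Over (Spec (CommRingCat.of k)) := ⟨i ≫ (Y ↘ Spec (CommRingCat.of k))⟩
  have : IsProper (Z.subscheme ↘ Spec (CommRingCat.of k)) :=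
    inferInstanceAs (IsProper (i ≫ (Y ↘ Spec (CommRingCat.of k))))
  let g := i ≫ f
  have hg : g ≫ (X ↘ Spec (CommRingCat.of k)) = Z.subscheme ↘ Spec (CommRingCat.of k) := by
    rw [Category.assoc, hf]; rfl
  have hdimZ : topologicalKrullDim Z.subscheme = (d : WithBot ℕ∞) := by
    rw [i.isClosedEmbedding.toIsEmbedding.toHomeomorph.isHomeomorph.topologicalKrullDim_eq,
      Z.range_subschemeι]
    exact hZ
  set ξ := g (genericPoint Z.subscheme) with hξ
  have hker : g.ker = IntMult.ptIdeal ξ := by
    rw [Groth.AlgSp3.ker_eq_vanishingIdeal_of_isReduced g]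
    refine congrArg _ (TopologicalSpace.Closeds.ext ?_)
    show closure (Set.range g) = closure {ξ}
    rw [← Set.image_univ, ← genericPoint_closure (α := Z.subscheme), closure_image_closure g.continuous,
      Set.image_singleton]
  have hξd : topologicalKrullDim (closure ({ξ} : Set X)) ≤ (d : ℕ) := by
    rw [Groth.Variety2.Dim.dim_closure_singleton]
    have : IsProper g := by
      have : IsProper (g ≫ (X ↘ Spec (CommRingCat.of k))) := hg ▸ inferInstance
      exact IsProper.of_comp g (X ↘ Spec (CommRingCat.of k))
    refine (WithBot.coe_le_coe.2 (Groth.Inter.height_apply_le g (genericPoint Z.subscheme))).trans ?_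
    rw [← Groth.Variety2.Dim.dim_closure_singleton, genericPoint_closure]
    exact (topologicalKrullDim_subspace_le _ _).trans hdimZ.le
  let L' := fun i => (Scheme.Modules.pullback f).obj (L i)
  have hL' : ∀ i, PicF.IsInvertible (L' i) := fun i => Groth.PicAux.isInvertible_pullback f (hL i)
  have hl' : ∀ M ∈ List.ofFn L', PicF.IsInvertible M := List.forall_mem_ofFn_iff.2 hL'
  have hl : ∀ M ∈ List.ofFn L, PicF.IsInvertible M := List.forall_mem_ofFn_iff.2 hL
  have eY := Groth.VarietyBC.InterPoly.coeff_eq_delta k L' hL' (Groth.EulerDeg.isCoh_quotMod Z)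
    ((Groth.LocCohTransform.topologicalKrullDim_mono (Groth.EulerDeg.support_quotMod_subset Z)).trans
      hZ.le) PY hPY
  have eX := Groth.VarietyBC.InterPoly.coeff_eq_delta k L hL (Groth.EulerDeg.isCoh_quotMod g.ker)
    ((Groth.LocCohTransform.topologicalKrullDim_mono (Groth.EulerDeg.support_quotMod_subset g.ker)).trans
      (by
        rw [hker, IntMult.ptIdeal, Scheme.IdealSheafData.coe_support_vanishingIdeal]
        exact hξd)) PX hPX
  have key : Groth.Inter.delta k (List.ofFn L') (ClSub.quotMod Z) =
      (g.residueDegree (genericPoint Z.subscheme) : ℤ) *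
        Groth.Inter.delta k (List.ofFn L) (ClSub.quotMod g.ker) := by
    have hO : Coh.IsCoh (Coh.structureModule Z.subscheme) :=
      Groth.Inter.isCoh_of_isInvertible (Groth.EulerDeg.isInvertible_structureModule Z.subscheme)
    have h1 : Groth.Inter.delta k (List.ofFn L') (ClSub.quotMod Z) =
        Groth.Inter.delta k ((List.ofFn L').map (Scheme.Modules.pullback i).obj)
          (Coh.structureModule Z.subscheme) :=
      (Groth.Inter.delta_pullback_eq k i rfl hl' hO (by
        rw [List.length_ofFn]
        exact (topologicalKrullDim_subspace_le _ _).trans hdimZ.le)).symm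
    have h2 := Groth.VarietyBC.InterPushDeg.delta_pullback_structure k g hg hl
      (by rw [List.length_ofFn]; exact hdimZ)
    rw [h1, hker]
    refine Eq.trans ?_ h2
    refine Groth.Inter.delta_congr_list k ?_ _
    simp only [List.map_ofFn]
    rw [List.forall₂_iff_get]
    refine ⟨by simp, fun n h₁ h₂ => ?_⟩
    simp only [List.get_eq_getElem, List.getElem_ofFn, Function.comp]
    exact ⟨(Scheme.Modules.pullbackComp i f).app _⟩
  rw [eY, eX, key]
  push_cast
  ring

end Groth.Agent.S7682
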