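import Groth.Statements.S7683
import Groth.Agent.VarietyBC.DeltaFieldExt
import Groth.Agent.VarietyBC.NormDimOne
import Groth.Agent.VarietyBC.Reduced
import Groth.Agent.CurveNorm.Main
import Groth.Agent.PropsBasic.JapaneseLocal
-- import your own Groth.Agent.* helpers here

set_option autoImplicit false
universe u
open CategoryTheory CategoryTheory.Limits AlgebraicGeometry
open Variety

namespace Groth.Agent.S7683

attribute [local instance] Curv2.stalkAlgebra

set_option linter.style.haveILetI false

open TensorProduct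

theorem finite_integralClosure_stalk {k : Type u} [Field k] (X : Scheme.{u})
    [X.Over (Spec (CommRingCat.of k))] [IsIntegral X]
    [LocallyOfFiniteType (X ↘ (Spec (CommRingCat.of k)))] (x : X) :
    Module.Finite (X.presheaf.stalk x)
      (integralClosure (X.presheaf.stalk x) (FractionRing (X.presheaf.stalk x))) := by
  obtain ⟨_, ⟨U, hU, rfl⟩, hxU, -⟩ := X.isBasis_affineOpens.exists_subset_of_mem_open
    (Set.mem_univ x) isOpen_univ
  haveI : Nonempty (Scheme.Opens.toScheme (X := X) U) := ⟨⟨x, hxU⟩⟩
  haveI : Nonempty U := ⟨⟨x, hxU⟩⟩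
  letI : Algebra k Γ(X, U) :=
    ((X ↘ Spec (CommRingCat.of k)).appLE ⊤ U le_top).hom.comp
      (Scheme.ΓSpecIso (CommRingCat.of k)).inv.hom |>.toAlgebra
  haveI : Algebra.FiniteType k Γ(X, U) := by
    refine RingHom.finiteType_algebraMap.1 ?_
    exact (LocallyOfFiniteType.finiteType_appLE (f := X ↘ Spec (CommRingCat.of k))
      (isAffineOpen_top _) hU le_top).comp (RingHom.FiniteType.of_surjective _
        (ConcreteCategory.bijective_of_isIso (Scheme.ΓSpecIso (CommRingCat.of k)).inv).2)
  have hNag : CAlg.IsNagata Γ(X, U) :=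
    Groth.Calg1.isNagata_of_finiteType (R := k) (Groth.CurveNorm.isNagata_field k)
  have hN2 : CAlg.IsN2 Γ(X, U) := by
    haveI : (⊥ : Ideal Γ(X, U)).IsPrime := Ideal.isPrime_bot
    exact Groth.PropsBasic.JapaneseLocal.isN2_of_equiv (RingEquiv.quotientBot Γ(X, U)) (hNag.2 ⊥)
  letI := TopCat.Presheaf.algebra_section_stalk X.presheaf (⟨x, hxU⟩ : U)
  haveI := hU.isLocalization_stalk ⟨x, hxU⟩
  have hA := Groth.PropsBasic.JapaneseLocal.isN2_of_isLocalization
    (hU.primeIdealOf ⟨x, hxU⟩).asIdeal.primeCompl (X.presheaf.stalk x) hN2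
  exact Groth.Calg4.finite_ic_of_isN2 hA (FractionRing (X.presheaf.stalk x)) (FractionRing (X.presheaf.stalk x))

theorem isReduced_residue_tensor {k : Type u} [Field k] (X : Scheme.{u})
    [X.Over (Spec (CommRingCat.of k))] [IsIntegral X]
    [QuasiCompact (X.fromSpecStalk (genericPoint X))] [QuasiSeparated (X.fromSpecStalk (genericPoint X))]
    (K : Type u) [Field K] [Algebra k K] (x : X)
    (hsep : letI : (Curv2.normalization X).Over (Spec (CommRingCat.of k)) :=
        ⟨Curv2.normalizationι X ≫ (X ↘ (Spec (CommRingCat.of k)))⟩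
      ∀ x' : ↥(Curv2.normalization X), (Curv2.normalizationι X).base x' = x →
        GeometricallyReduced (Spec.map (CommRingCat.ofHom (Curv2.resMap k (Curv2.normalization X) x'))))
    (M : Ideal (integralClosure (X.presheaf.stalk x) (FractionRing (X.presheaf.stalk x)))) [M.IsMaximal] :
    _root_.IsReduced (((integralClosure (X.presheaf.stalk x) (FractionRing (X.presheaf.stalk x))) ⧸ M)
      ⊗[k] K) := by
  letI : (Curv2.normalization X).Over (Spec (CommRingCat.of k)) :=
    ⟨Curv2.normalizationι X ≫ (X ↘ (Spec (CommRingCat.of k)))⟩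
  let A := X.presheaf.stalk x
  let A' := integralClosure A (FractionRing A)
  let L := A' ⧸ M
  letI : Field L := Ideal.Quotient.field M
  let ν := Curv2.normalizationι X
  haveI : IsIntegralHom ν :=
    inferInstanceAs (IsIntegralHom (X.fromSpecStalk (genericPoint X)).fromNormalization)
  obtain ⟨_, ⟨U, hU, rfl⟩, hxU, -⟩ := X.isBasis_affineOpens.exists_subset_of_mem_open
    (Set.mem_univ x) isOpen_univ
  haveI : Nonempty (Scheme.Opens.toScheme (X := X) U) := ⟨⟨x, hxU⟩⟩
  haveI : Nonempty U := ⟨⟨x, hxU⟩⟩
  obtain ⟨e, he⟩ := Groth.VarietyBC.exists_algEquiv_normalization X U hU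
  let D := Γ(Curv2.normalization X, ν ⁻¹ᵁ U)
  letI : Algebra Γ(X, U) A := TopCat.Presheaf.algebra_section_stalk X.presheaf (⟨x, hxU⟩ : U)
  haveI : IsLocalization.AtPrime A (hU.primeIdealOf ⟨x, hxU⟩).asIdeal := hU.isLocalization_stalk ⟨x, hxU⟩
  haveI : IsScalarTower Γ(X, U) A X.functionField := functionField_isScalarTower X U ⟨x, hxU⟩
  let η : FractionRing A ≃ₐ[A] X.functionField := IsLocalization.algEquiv (nonZeroDivisors A) _ _
  let ζ : A' ≃ₐ[A] integralClosure A X.functionField := η.mapIntegralClosure
  let incl : integralClosure Γ(X, U) X.functionField →+* integralClosure A X.functionField :=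
    { toFun := fun c => ⟨c.1, c.2.tower_top⟩
      map_one' := rfl
      map_mul' := fun _ _ => rfl
      map_zero' := rfl
      map_add' := fun _ _ => rfl }
  let φ : D →+* L :=
    (Ideal.Quotient.mk M).comp (ζ.symm.toAlgHom.toRingHom.comp (incl.comp e.toRingHom))
  have hφ : ∀ a : Γ(X, U), φ (ν.app U a) = algebraMap A L (algebraMap Γ(X, U) A a) := fun a => by
    show Ideal.Quotient.mk M (ζ.symm (incl (e (ν.app U a)))) = _
    rw [he, show incl (algebraMap Γ(X, U) (integralClosure Γ(X, U) X.functionField) a) =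
      algebraMap A (integralClosure A X.functionField) (algebraMap Γ(X, U) A a) from
      Subtype.ext (IsScalarTower.algebraMap_apply Γ(X, U) A X.functionField a), ζ.symm.commutes]
    rfl
  haveI : Algebra.IsIntegral A A' := ⟨fun a => (isIntegral_algHom_iff A'.val Subtype.val_injective).1 a.2⟩
  have hMA : M.comap (algebraMap A A') = IsLocalRing.maximalIdeal A :=
    IsLocalRing.eq_maximalIdeal (Ideal.isMaximal_comap_of_isIntegral_of_isMaximal M)
  have hAL : ∀ a : A, IsUnit a → algebraMap A L a ≠ 0 := fun a ha => (ha.map (algebraMap A L)).ne_zero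
  have hV : IsAffineOpen (ν ⁻¹ᵁ U) := hU.preimage ν
  haveI : (RingHom.ker φ).IsPrime := RingHom.ker_isPrime φ
  let q : PrimeSpectrum D := ⟨RingHom.ker φ, inferInstance⟩
  let x' : ↥(Curv2.normalization X) := hV.fromSpec q
  have hx'V : x' ∈ ν ⁻¹ᵁ U := hV.range_fromSpec.subset ⟨q, rfl⟩
  haveI := hV.isOpenImmersion_fromSpec
  have hprime : hV.primeIdealOf ⟨x', hx'V⟩ = q :=
    hV.fromSpec.isOpenEmbedding.injective (hV.fromSpec_primeIdealOf ⟨x', hx'V⟩)
  have hνx : ν.base x' = x := by
    have h1 := IsAffineOpen.comap_primeIdealOf_appLE U hU (ν ⁻¹ᵁ U) hV le_rfl hx'V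
    rw [← Scheme.Hom.app_eq_appLE, hprime] at h1
    have h2 : PrimeSpectrum.comap (ν.app U).hom q = hU.primeIdealOf ⟨x, hxU⟩ := by
      refine PrimeSpectrum.ext ?_
      rw [PrimeSpectrum.comap_asIdeal, RingHom.comap_ker, show φ.comp (ν.app U).hom =
        (algebraMap A L).comp (algebraMap Γ(X, U) A) from RingHom.ext hφ, ← RingHom.comap_ker]
      rw [show RingHom.ker (algebraMap A L) = M.comap (algebraMap A A') from
        Ideal.ext fun a => Ideal.Quotient.eq_zero_iff_mem, hMA]
      exact IsLocalization.AtPrime.comap_maximalIdeal A (hU.primeIdealOf ⟨x, hxU⟩).asIdeal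
    have h3 : hU.primeIdealOf ⟨ν.base x', hx'V⟩ = hU.primeIdealOf ⟨x, hxU⟩ := h1.symm.trans h2
    have h4 := congrArg hU.fromSpec h3
    rwa [hU.fromSpec_primeIdealOf, hU.fromSpec_primeIdealOf] at h4
  let St := (Curv2.normalization X).presheaf.stalk x'
  letI : Algebra D St :=
    TopCat.Presheaf.algebra_section_stalk (Curv2.normalization X).presheaf (⟨x', hx'V⟩ : (ν ⁻¹ᵁ U : (Curv2.normalization X).Opens))
  haveI : IsLocalization.AtPrime St q.asIdeal := hV.isLocalization_stalk' q hx'V
  have hunit : ∀ d : q.asIdeal.primeCompl, IsUnit (φ d) := fun d => isUnit_iff_ne_zero.2 d.2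
  let ρ : St →+* L := IsLocalization.lift hunit
  have hρ : ∀ d : D, ρ (algebraMap D St d) = φ d := fun d => IsLocalization.lift_eq hunit d
  have hsurj : Function.Surjective ρ := by
    intro z
    obtain ⟨c, rfl⟩ := Ideal.Quotient.mk_surjective z
    obtain ⟨t, ht⟩ := IsIntegral.exists_multiple_integral_of_isLocalization
      (hU.primeIdealOf ⟨x, hxU⟩).asIdeal.primeCompl ((ζ c : integralClosure A X.functionField) : X.functionField)
      (ζ c).2
    let d : D := e.symm ⟨_, ht⟩
    have hd : φ d = φ (ν.app U (t : Γ(X, U))) * Ideal.Quotient.mk M c := by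
      rw [hφ]
      show Ideal.Quotient.mk M (ζ.symm (incl (e d))) = _
      rw [show e d = _ from e.apply_symm_apply _]
      have h5 : incl ⟨_, ht⟩ =
          algebraMap A (integralClosure A X.functionField) (algebraMap Γ(X, U) A (t : Γ(X, U))) * ζ c := by
        refine Subtype.ext ?_
        show (t : Γ(X, U)) • ((ζ c : integralClosure A X.functionField) : X.functionField) = _
        rw [Algebra.smul_def, IsScalarTower.algebraMap_apply Γ(X, U) A X.functionField]
        rfl
      rw [h5, map_mul, ζ.symm.commutes, ζ.symm_apply_apply, map_mul]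
      rfl
    have hs : φ (ν.app U (t : Γ(X, U))) ≠ 0 := by
      rw [hφ]
      exact hAL _ (IsLocalization.map_units A t)
    refine ⟨IsLocalization.mk' St d (⟨ν.app U (t : Γ(X, U)), hs⟩ : q.asIdeal.primeCompl), ?_⟩
    show IsLocalization.lift hunit _ = _
    rw [IsLocalization.lift_mk'_spec]
    exact hd
  have hker : RingHom.ker ρ = IsLocalRing.maximalIdeal St :=
    IsLocalRing.eq_maximalIdeal (RingHom.ker_isMaximal_of_surjective ρ hsurj)
  let ψ : (Curv2.normalization X).residueField x' ≃+* L :=
    (Ideal.quotEquivOfEq hker.symm).trans (RingHom.quotientKerEquivOfSurjective hsurj)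
  have hψ : ∀ c : k, ψ (Curv2.resMap k (Curv2.normalization X) x' c) = algebraMap k L c := by
    intro c
    show ρ (Curv2.stalkMap k (Curv2.normalization X) x' c) = algebraMap k L c
    let a : Γ(X, U) := X.presheaf.map (homOfLE le_top).op (Coh.toGlobal (X ↘ Spec (CommRingCat.of k)) c)
    have h6 : Curv2.stalkMap k (Curv2.normalization X) x' c = algebraMap D St (ν.app U a) := by
      have h7 : ν.app U a = (Curv2.normalization X).presheaf.map (homOfLE le_top).op
          (ν.appTop (Coh.toGlobal (X ↘ Spec (CommRingCat.of k)) c)) := by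
        exact congr($(ν.naturality (homOfLE (le_top : U ≤ ⊤)).op) (Coh.toGlobal (X ↘ Spec (CommRingCat.of k)) c))
      rw [h7]
      exact (TopCat.Presheaf.germ_res_apply (Curv2.normalization X).presheaf _ x' hx'V _).symm
    rw [h6, hρ, hφ, IsScalarTower.algebraMap_apply k A L]
    congr 1
    exact TopCat.Presheaf.germ_res_apply X.presheaf _ x hxU _
  letI : Algebra k ((Curv2.normalization X).residueField x') :=
    (Curv2.resMap k (Curv2.normalization X) x').toAlgebra
  let ψa : (Curv2.normalization X).residueField x' ≃ₐ[k] L := AlgEquiv.ofRingEquiv (f := ψ) hψ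
  haveI : _root_.IsReduced ((Curv2.normalization X).residueField x' ⊗[k] K) := by
    have := (hsep x' hνx).geometrically_isReduced
      (Spec.map (CommRingCat.ofHom (algebraMap k K))) _ _
      (IsPullback.of_hasPullback _ _)
    haveI : IsReduced (Spec (CommRingCat.of ((Curv2.normalization X).residueField x' ⊗[k] K))) :=
      isReduced_of_isOpenImmersion (pullbackSpecIso k ((Curv2.normalization X).residueField x') K).inv
    exact (affine_isReduced_iff (CommRingCat.of ((Curv2.normalization X).residueField x' ⊗[k] K))).1 inferInstance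
  let E := (Algebra.TensorProduct.congr ψa.symm (AlgEquiv.refl (R := k) (A₁ := K)))
  exact isReduced_of_injective E.toRingEquiv.toRingHom E.injective

set_option backward.isDefEq.respectTransparency false in
set_option synthInstance.maxHeartbeats 400000 in
theorem aux {k : Type u} [Field k] {X : Scheme.{u}} [X.Over (Spec (CommRingCat.of k))]
    [IsIntegral X] [LocallyOfFiniteType (X ↘ (Spec (CommRingCat.of k)))]
    [QuasiCompact (X.fromSpecStalk (genericPoint X))] [QuasiSeparated (X.fromSpecStalk (genericPoint X))]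
    (K : Type u) [Field K] [Algebra k K] (x : X) (y : ↥(Curv2.bc k X K))
    (hxy : Curv2.bcFst k X K y = x)
    (hdx : ringKrullDim (X.presheaf.stalk x) = 1)
    (hsep : letI : (Curv2.normalization X).Over (Spec (CommRingCat.of k)) :=
        ⟨Curv2.normalizationι X ≫ (X ↘ (Spec (CommRingCat.of k)))⟩
      ∀ x' : ↥(Curv2.normalization X), (Curv2.normalizationι X).base x' = x →
        GeometricallyReduced (Spec.map (CommRingCat.ofHom (Curv2.resMap k (Curv2.normalization X) x'))))
    (hdy : ringKrullDim ((Curv2.bc k X K).presheaf.stalk y) = 1) :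
    Curv2.deltaInv (X.presheaf.stalk x) = Curv2.deltaInv ((Curv2.bc k X K).presheaf.stalk y) := by
  let A := X.presheaf.stalk x
  haveI : IsLocallyNoetherian X := LocallyOfFiniteType.isLocallyNoetherian (X ↘ Spec (CommRingCat.of k))
  haveI : IsLocallyNoetherian (Curv2.bc k X K) :=
    LocallyOfFiniteType.isLocallyNoetherian
      (pullback.snd (X ↘ Spec (CommRingCat.of k)) (Spec.map (CommRingCat.ofHom (algebraMap k K))))
  haveI := finite_integralClosure_stalk (k := k) X x
  obtain ⟨P, hP, ⟨e⟩⟩ := Groth.VarietyBC.exists_stalkEquiv K x y (specializes_of_eq hxy)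
  have hcomap : P.asIdeal.comap (algebraMap A (A ⊗[k] K)) = IsLocalRing.maximalIdeal A := by
    have h1 := Groth.VarietyBC.tensorTo_fst_apply K (Groth.VarietyBC.overSpec_stalk (k := k) x) P
    rw [hP] at h1
    have h2 : X.fromSpecStalk x (IsLocalRing.closedPoint A) = x := Scheme.fromSpecStalk_closedPoint
    have h3 := (X.fromSpecStalk x).isEmbedding.injective (h1.symm.trans (hxy.trans h2.symm))
    exact congrArg PrimeSpectrum.asIdeal h3
  let B := (Curv2.bc k X K).presheaf.stalk y
  letI : Algebra (A ⊗[k] K) B :=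
    (e.symm.toRingHom.comp (algebraMap (A ⊗[k] K) (Localization.AtPrime P.asIdeal))).toAlgebra
  letI : Algebra A B := ((algebraMap (A ⊗[k] K) B).comp (algebraMap A (A ⊗[k] K))).toAlgebra
  haveI : IsScalarTower A (A ⊗[k] K) B := IsScalarTower.of_algebraMap_eq fun _ => rfl
  haveI : IsLocalization.AtPrime B P.asIdeal :=
    IsLocalization.isLocalization_of_algEquiv P.asIdeal.primeCompl
      (AlgEquiv.ofRingEquiv (f := e.symm) fun _ => rfl : Localization.AtPrime P.asIdeal ≃ₐ[A ⊗[k] K] B)
  haveI : IsLocalHom (algebraMap A B) := ⟨fun a ha => by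
    by_contra hna
    have h4 : algebraMap A (A ⊗[k] K) a ∈ P.asIdeal :=
      hcomap.ge ((IsLocalRing.mem_maximalIdeal _).2 hna)
    rw [← IsLocalization.AtPrime.to_map_mem_maximal_iff B P.asIdeal] at h4
    exact (IsLocalRing.mem_maximalIdeal _).1 h4 ha⟩
  exact (Groth.VarietyBC.DeltaFieldExt.deltaInv_eq P.asIdeal B hdx hdy fun M hM =>
    haveI := hM
    isReduced_residue_tensor X K x hsep M).symm

/-- Let X be locally of finite type over a field k with normalization ν : X^ν → X, K/k a field
extension, y ∈ X_K a point with image x ∈ X. Assume O_{X,x} is reduced of dimension one, κ(x')/k is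
separable for every x' ∈ X^ν over x, and dim O_{X_K,y} = 1. Then the δ-invariant of X at x equals
the δ-invariant of X_K at y. (The published statement needs only O_{X,x} reduced; this row takes X
integral so that X^ν is the normalization of an integral scheme.) -/
theorem result (k : Type u) [Field k] (X : Scheme.{u}) [X.Over (Spec (CommRingCat.of k))]
    [IsIntegral X] [LocallyOfFiniteType (X ↘ (Spec (CommRingCat.of k)))]
    [QuasiCompact (X.fromSpecStalk (genericPoint X))] [QuasiSeparated (X.fromSpecStalk (genericPoint X))]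
    (K : Type u) [Field K] [Algebra k K] (y : ↥(Curv2.bc k X K))
    (hdx : ringKrullDim (X.presheaf.stalk ((Curv2.bcFst k X K).base y)) = 1)
    (hsep : letI : (Curv2.normalization X).Over (Spec (CommRingCat.of k)) :=
        ⟨Curv2.normalizationι X ≫ (X ↘ (Spec (CommRingCat.of k)))⟩
      ∀ x' : ↥(Curv2.normalization X), (Curv2.normalizationι X).base x' = (Curv2.bcFst k X K).base y →
        GeometricallyReduced (Spec.map (CommRingCat.ofHom (Curv2.resMap k (Curv2.normalization X) x'))))
    (hdy : ringKrullDim ((Curv2.bc k X K).presheaf.stalk y) = 1) :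
    Curv2.deltaInv (X.presheaf.stalk ((Curv2.bcFst k X K).base y)) =
      Curv2.deltaInv ((Curv2.bc k X K).presheaf.stalk y) :=
  aux K _ y rfl hdx hsep hdy

end Groth.Agent.S7683
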