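import Groth.Statements.S7684
import Groth.Agent.VarietyBC.NormDimOne

set_option autoImplicit false
universe u
open CategoryTheory CategoryTheory.Limits AlgebraicGeometry
open Variety

namespace Groth.Agent.S7684

/-- For an integral scheme: let X be an integral locally Noetherian scheme of dimension one and ν : X^ν
→ X its normalization. Then ν has finite fibres and finite residue field extensions, and X^ν is a
locally Noetherian scheme whose nonempty affine opens are spectra of Dedekind domains. (The
published statement is for any locally Noetherian X of dimension one, with X^ν → X_red, and also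
says that ν is integral, surjective and birational, that X^ν is normal and that its stalks are the
integral closures of those of X; here X is integral, and those clauses, which hold for the
normalization of every integral scheme, are not restated.) -/
theorem result (X : Scheme.{u}) [IsIntegral X] [IsLocallyNoetherian X]
    [QuasiCompact (X.fromSpecStalk (genericPoint X))] [QuasiSeparated (X.fromSpecStalk (genericPoint X))]
    (hdim : topologicalKrullDim X = 1) :
    (∀ x : X, Finite {x' : ↥(Curv2.normalization X) // (Curv2.normalizationι X).base x' = x}) ∧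
      (∀ x' : ↥(Curv2.normalization X),
        letI := ((Curv2.normalizationι X).residueFieldMap x').hom.toAlgebra
        Module.Finite (X.residueField ((Curv2.normalizationι X).base x')) ((Curv2.normalization X).residueField x')) ∧
      IsLocallyNoetherian (Curv2.normalization X) ∧
      (∀ U : (Curv2.normalization X).affineOpens, ((U : (Curv2.normalization X).Opens) : Set ↥(Curv2.normalization X)).Nonempty →
        IsDedekindDomain Γ(Curv2.normalization X, (U : (Curv2.normalization X).Opens))) := by
  haveI hInt : IsIntegralHom (Curv2.normalizationι X) :=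
    inferInstanceAs (IsIntegralHom (X.fromSpecStalk (genericPoint X)).fromNormalization)
  haveI hq := Groth.VarietyBC.locallyQuasiFinite_normalizationι X hdim.le
  haveI : IsIntegral (Curv2.normalization X) :=
    inferInstanceAs (IsIntegral (X.fromSpecStalk (genericPoint X)).normalization)
  -- charts
  have chart : ∀ x : ↥(Curv2.normalization X), ∃ U : X.Opens, IsAffineOpen U ∧
      x ∈ Curv2.normalizationι X ⁻¹ᵁ U ∧
      IsDedekindDomain Γ(Curv2.normalization X, Curv2.normalizationι X ⁻¹ᵁ U) := by
    intro x
    obtain ⟨_, ⟨U, hU, rfl⟩, hxU, -⟩ := X.isBasis_affineOpens.exists_subset_of_mem_open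
      (Set.mem_univ ((Curv2.normalizationι X).base x)) isOpen_univ
    haveI : Nonempty (Scheme.Opens.toScheme (X := X) U) := ⟨⟨_, hxU⟩⟩
    exact ⟨U, hU, hxU, (Groth.VarietyBC.normalization_dimOne_affine X hdim.le U hU).1⟩
  choose U hU hxU hDed using chart
  have hN : IsLocallyNoetherian (Curv2.normalization X) := by
    refine isLocallyNoetherian_of_affine_cover
      (S := fun x => ⟨Curv2.normalizationι X ⁻¹ᵁ U x, (hU x).preimage _⟩) ?_ fun x => ?_
    · exact top_le_iff.1 fun x _ => TopologicalSpace.Opens.mem_iSup.2 ⟨x, hxU x⟩
    · exact (hDed x).toIsNoetherian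
  refine ⟨fun x => ?_, fun x' => ?_, hN, fun W hW => ?_⟩
  · exact ((Curv2.normalizationι X).finite_preimage_singleton x).to_subtype
  · show ((Curv2.normalizationι X).residueFieldMap x').hom.Finite
    set ν := Curv2.normalizationι X with hν
    have hx' : ν.base x' ∈ U x' := hxU x'
    have hV : IsAffineOpen (ν ⁻¹ᵁ U x') := (hU x').preimage ν
    have h1 : (ν.app (U x')).hom.QuasiFinite := by
      rw [Scheme.Hom.app_eq_appLE]
      exact LocallyQuasiFinite.quasiFinite_appLE (f := ν) (hU x') hV le_rfl
    have h2 : ((Curv2.normalization X).evaluation (ν ⁻¹ᵁ U x') x' (hxU x')).hom.QuasiFinite := by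
      refine RingHom.QuasiFinite.comp
        (RingHom.QuasiFinite.of_finite (RingHom.Finite.of_surjective _ IsLocalRing.residue_surjective)) ?_
      letI := TopCat.Presheaf.algebra_section_stalk (Curv2.normalization X).presheaf
        (⟨x', hxU x'⟩ : (ν ⁻¹ᵁ U x' : (Curv2.normalization X).Opens))
      haveI := hV.isLocalization_stalk ⟨x', hxU x'⟩
      exact RingHom.quasiFinite_algebraMap.2
        (Algebra.QuasiFinite.of_isLocalization (hV.primeIdealOf ⟨x', hxU x'⟩).asIdeal.primeCompl)
    have h3 : (ν.residueFieldMap x').hom.QuasiFinite := by
      refine RingHom.QuasiFinite.of_comp (g := (X.evaluation (U x') (ν.base x') hx').hom) ?_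
      have h := congrArg CommRingCat.Hom.hom (Scheme.evaluation_naturality ν (V := U x') x' hx')
      rw [CommRingCat.hom_comp, CommRingCat.hom_comp] at h
      rw [h]
      exact h2.comp h1
    letI := (ν.residueFieldMap x').hom.toAlgebra
    haveI : Algebra.QuasiFinite (X.residueField (ν.base x'))
      ((Curv2.normalization X).residueField x') := h3
    exact Module.Finite.of_quasiFinite
  · obtain ⟨w, hw⟩ := hW
    haveI : Nonempty ((W : (Curv2.normalization X).Opens).toScheme) := ⟨⟨w, hw⟩⟩
    haveI : IsNoetherianRing Γ(Curv2.normalization X, W.1) :=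
      IsLocallyNoetherian.component_noetherian W
    haveI : IsDedekindDomainDvr Γ(Curv2.normalization X, W.1) := by
      refine ⟨fun P hP hPp => ?_⟩
      have hWa : IsAffineOpen W.1 := W.2
      let p : PrimeSpectrum Γ(Curv2.normalization X, W.1) := ⟨P, hPp⟩
      let y := hWa.fromSpec.base p
      have hyW : y ∈ W.1 := hWa.range_fromSpec.subset ⟨p, rfl⟩
      have hprime : hWa.primeIdealOf ⟨y, hyW⟩ = p :=
        hWa.fromSpec.isOpenEmbedding.injective (hWa.fromSpec_primeIdealOf ⟨y, hyW⟩)
      letI := TopCat.Presheaf.algebra_section_stalk (Curv2.normalization X).presheaf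
        (⟨y, hyW⟩ : (W.1 : (Curv2.normalization X).Opens))
      haveI : IsLocalization.AtPrime ((Curv2.normalization X).presheaf.stalk y) P :=
        hWa.isLocalization_stalk' p hyW
      let eW : Localization.AtPrime P ≃ₐ[Γ(Curv2.normalization X, W.1)]
          (Curv2.normalization X).presheaf.stalk y :=
        IsLocalization.algEquiv P.primeCompl _ _
      have hnf : ¬ IsField ((Curv2.normalization X).presheaf.stalk y) := fun h =>
        IsLocalization.AtPrime.not_isField _ hP ((Curv2.normalization X).presheaf.stalk y) h
      haveI : IsDiscreteValuationRing ((Curv2.normalization X).presheaf.stalk y) := by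
        letI := TopCat.Presheaf.algebra_section_stalk (Curv2.normalization X).presheaf
          (⟨y, hxU y⟩ : (Curv2.normalizationι X ⁻¹ᵁ U y : (Curv2.normalization X).Opens))
        have hV := (hU y).preimage (Curv2.normalizationι X)
        haveI := hV.isLocalization_stalk ⟨y, hxU y⟩
        haveI := hDed y
        refine IsLocalization.AtPrime.isDiscreteValuationRing_of_dedekind_domain _
          (P := (hV.primeIdealOf ⟨y, hxU y⟩).asIdeal) (fun h => hnf ?_) _
        haveI := hV.isLocalization_stalk ⟨y, hxU y⟩
        have hle : (hV.primeIdealOf ⟨y, hxU y⟩).asIdeal.primeCompl =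
            nonZeroDivisors Γ(Curv2.normalization X, Curv2.normalizationι X ⁻¹ᵁ U y) := by
          ext a
          simp [h]
        haveI : IsFractionRing Γ(Curv2.normalization X, Curv2.normalizationι X ⁻¹ᵁ U y)
            ((Curv2.normalization X).presheaf.stalk y) := by
          unfold IsFractionRing
          rw [← hle]
          infer_instance
        exact (IsFractionRing.toField Γ(Curv2.normalization X, Curv2.normalizationι X ⁻¹ᵁ U y)
          (K := (Curv2.normalization X).presheaf.stalk y)).toIsField
      exact IsDiscreteValuationRing.RingEquivClass.isDiscreteValuationRing eW.symm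
    infer_instance

end Groth.Agent.S7684
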