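import Groth.Statements.S7686
import Groth.Agent.VarietyBC.InterComp
-- import your own Groth.Agent.* helpers here

set_option autoImplicit false
universe u
open CategoryTheory CategoryTheory.Limits AlgebraicGeometry
open Variety

namespace Groth.Agent.S7686

/-- Let X be proper over a field k, Z ⊆ X a closed subscheme of dimension d with irreducible components
Z_i of dimension d (reduced induced structure, generic points ξ_i, multiplicities m_i = length of
O_{Z,ξ_i} over O_{X,ξ_i}) and L_1, …, L_d invertible modules. Then (L_1 ⋯ L_d · Z) = Σ m_i (L_1 ⋯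
L_d · Z_i). Intersection numbers are the n_1⋯n_d-coefficients of the polynomials computing the Euler
characteristics; the sum is written over all points ξ whose closure has dimension d (other terms
vanish). -/
theorem result (k : Type u) [Field k] (X : Scheme.{u}) [X.Over (Spec (CommRingCat.of k))] [IsProper (X ↘ (Spec (CommRingCat.of k)))]
    (D : X.IdealSheafData) (d : ℕ) (hD : topologicalKrullDim (D.support : Set X) = d)
    (L : Fin d → X.Modules) (hL : ∀ i, PicF.IsInvertible (L i)) (P : MvPolynomial (Fin d) ℚ)
    (hP : ∀ n : Fin d → ℕ, (Curv2.euler k X (Curv2.tensorPows (ClSub.quotMod D) d L n) : ℚ) = MvPolynomial.eval (fun i => (n i : ℚ)) P)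
    (Q : X → MvPolynomial (Fin d) ℚ)
    (hQ : ∀ ξ : X, topologicalKrullDim (closure ({ξ} : Set X)) = (d : WithBot ℕ∞) →
      ∀ n : Fin d → ℕ, (Curv2.euler k X (Curv2.tensorPows (ClSub.quotMod (Scheme.IdealSheafData.vanishingIdeal (⟨closure ({ξ} : Set X), isClosed_closure⟩ : TopologicalSpace.Closeds X))) d L n) : ℚ) = MvPolynomial.eval (fun i => (n i : ℚ)) (Q ξ)) :
    MvPolynomial.coeff (Finsupp.equivFunOnFinite.symm fun _ : Fin d => 1) P =
      ∑ᶠ ξ : X, (if topologicalKrullDim (closure ({ξ} : Set X)) = (d : WithBot ℕ∞) then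
        ((Module.length (X.presheaf.stalk ξ) ((ClSub.quotMod D).presheaf.stalk ξ)).toNat : ℚ) *
          MvPolynomial.coeff (Finsupp.equivFunOnFinite.symm fun _ : Fin d => 1) (Q ξ) else 0) := by
  have hN : IsNoetherian X := Groth.Inter.isNoetherian k
  exact Groth.VarietyBC.InterComp.coeff_eq_sum_length k L hL (Groth.EulerDeg.isCoh_quotMod D)
    ((Groth.LocCohTransform.topologicalKrullDim_mono
      (Groth.EulerDeg.support_quotMod_subset D)).trans hD.le) P hP Q hQ

end Groth.Agent.S7686
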