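import Groth.Statements.S7687
import Groth.Agent.GlueRings.Basic
import Groth.Agent.GlueRings.TwoSemilocal

set_option autoImplicit false
universe u
open CategoryTheory CategoryTheory.Limits AlgebraicGeometry
open Variety

namespace Groth.Agent.S7687

/-- Let K be a field and A, B ⊆ K Noetherian semi-local domains of dimension one with fraction field K
such that A ⊗ B → K is surjective, and R = A ∩ B. Then Spec A and Spec B each map to Spec R by an
open immersion, Spec R is the union of the two images, and the natural map A ⊗_R B → K is an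
isomorphism. -/
theorem result (K : Type u) [Field K]
    (A : Subring K) [IsFractionRing A K] (B : Subring K) [IsFractionRing B K] [IsNoetherianRing A] [IsNoetherianRing B]
    (hdimA : ringKrullDim A = 1) (hdimB : ringKrullDim B = 1)
    (hslA : Finite (MaximalSpectrum A)) (hslB : Finite (MaximalSpectrum B)) (hgen : A ⊔ B = ⊤) :
    IsOpenImmersion (Spec.map (CommRingCat.ofHom (Subring.inclusion (inf_le_left : A ⊓ B ≤ A)))) ∧
      IsOpenImmersion (Spec.map (CommRingCat.ofHom (Subring.inclusion (inf_le_right : A ⊓ B ≤ B)))) ∧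
      Set.range (Spec.map (CommRingCat.ofHom (Subring.inclusion (inf_le_left : A ⊓ B ≤ A)))).base ∪
        Set.range (Spec.map (CommRingCat.ofHom (Subring.inclusion (inf_le_right : A ⊓ B ≤ B)))).base = Set.univ ∧
      IsPushout (CommRingCat.ofHom (Subring.inclusion (inf_le_left : A ⊓ B ≤ A)))
        (CommRingCat.ofHom (Subring.inclusion (inf_le_right : A ⊓ B ≤ B)))
        (CommRingCat.ofHom A.subtype) (CommRingCat.ofHom B.subtype) := by
  have : Ring.KrullDimLE 1 A := Ring.krullDimLE_iff.mpr hdimA.le
  have : Ring.KrullDimLE 1 B := Ring.krullDimLE_iff.mpr hdimB.le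
  obtain ⟨w, hwA, hwB, hw0, hwu, hwJ⟩ :=
    Groth.GlueRings.exists_unit_jacobson A B hdimA hdimB hgen
  obtain ⟨t, htB, htA, -, htu, htJ⟩ :=
    Groth.GlueRings.exists_unit_jacobson B A hdimB hdimA (sup_comm A B ▸ hgen)
  refine Groth.GlueRings.glue A B w t hw0 hwA hwB htA htB hwu htu ?_ ?_
    (fun x => Groth.GlueRings.exists_pow_mul_mem_of_jacobson B ⟨w, hwB⟩ hwJ x)
    (fun x => Groth.GlueRings.exists_pow_mul_mem_of_jacobson A ⟨t, htA⟩ htJ x)
  · by_contra h
    obtain ⟨M, hM, hmem⟩ := exists_max_ideal_of_mem_nonunits h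
    exact hM.ne_top (Ideal.eq_top_of_isUnit_mem _
      ((Ideal.add_mem_iff_left M (htJ M hM)).mp hmem) hwu)
  · by_contra h
    obtain ⟨M, hM, hmem⟩ := exists_max_ideal_of_mem_nonunits h
    exact hM.ne_top (Ideal.eq_top_of_isUnit_mem _
      ((Ideal.add_mem_iff_right M (hwJ M hM)).mp hmem) htu)


end Groth.Agent.S7687
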