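import Groth.Statements.S7688
import Groth.Agent.VarietyBC.PicGlue
import Groth.Agent.S7669
import Groth.Agent.FibreDim.DimStalk
-- import your own Groth.Agent.* helpers here

set_option autoImplicit false
universe u
open CategoryTheory CategoryTheory.Limits AlgebraicGeometry
open Variety


namespace Groth.Agent.S7688
open CategoryTheory AlgebraicGeometry TopologicalSpace Groth.PicAux Groth.VarietyBC

theorem app_surjective_of_restrict {X Y : Scheme.{u}} (f : X ⟶ Y) (V W : Y.Opens)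
    [IsClosedImmersion (f ∣_ V)] (hW : IsAffineOpen W) (hWV : W ≤ V) :
    Function.Surjective (f.app W) := by
  obtain ⟨W', rfl⟩ : ∃ W', V.ι ''ᵁ W' = W :=
    ⟨V.ι ⁻¹ᵁ W, by simp [Scheme.Hom.image_preimage_eq_opensRange_inf, hWV]⟩
  have h := (f ∣_ V).app_surjective W' ((V.ι.isAffineOpen_iff_of_isOpenImmersion).1 hW)
  rw [morphismRestrict_app] at h
  have h2 : Function.Surjective
      (⇑(X.presheaf.map (eqToHom (image_morphismRestrict_preimage f V W')).op) ∘
        ⇑(f.app (V.ι ''ᵁ W'))) := h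
  exact Function.Surjective.of_comp_left h2 (ConcreteCategory.bijective_of_isIso _).1

end Groth.Agent.S7688

namespace Groth.Agent.S7688

open TopologicalSpace Groth.PicAux Groth.VarietyBC

/-- Let f : X → Y be finite with Y Noetherian of dimension at most one, and suppose that over some dense
open V ⊆ Y the restriction f⁻¹(V) → V is a closed immersion. Then each invertible O_X-module arises,
up to isomorphism, by pulling back an invertible O_Y-module along f. -/
theorem result {X Y : Scheme.{u}} (f : X ⟶ Y)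
    [IsFinite f] [IsNoetherian Y] (hdim : topologicalKrullDim Y ≤ 1)
    (V : Y.Opens) (hV : Dense (V : Set Y)) (hfV : IsClosedImmersion (f ∣_ V))
    (L : X.Modules) (hL : PicF.IsInvertible L) :
    ∃ N : Y.Modules, PicF.IsInvertible N ∧ Nonempty ((Scheme.Modules.pullback f).obj N ≅ L) := by
  classical
  have hdim' : ∀ y : Y, ringKrullDim (Y.presheaf.stalk y) ≤ 1 := fun y =>
    ((le_iSup (fun y : Y => ringKrullDim (Y.presheaf.stalk y)) y).trans
      (Groth.FibreDim.dim_eq_iSup_stalk Y).ge).trans hdim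
  -- generic points
  let G := genericPoints Y
  haveI hGfin : Finite G := (genericPoints.finite (NoetherianSpace.finite_irreducibleComponents)).to_subtype
  have hGcov : ∀ z : Y, ∃ η : G, η.1 ⤳ z := fun z => by
    let c : irreducibleComponents Y := ⟨_, irreducibleComponent_mem_irreducibleComponents z⟩
    refine ⟨genericPoints.ofComponent c, specializes_iff_mem_closure.2 ?_⟩
    rw [(genericPoints.isGenericPoint_ofComponent c)]
    exact mem_irreducibleComponent
  have hGmax : ∀ η η' : G, η.1 ⤳ η'.1 → η = η' := fun η η' h => by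
    refine Subtype.ext (IsGenericPoint.eq (rfl : IsGenericPoint η.1 _) ?_)
    exact (η'.2.eq_of_le isIrreducible_singleton.closure (specializes_iff_closure_subset.1 h))
  let Uη : G → Y.Opens := fun η => ⟨(⋃ η' : {η' : G // η' ≠ η}, closure {η'.1.1})ᶜ,
    (isClosed_iUnion_of_finite fun _ => isClosed_closure).isOpen_compl⟩
  have hUmem : ∀ η, η.1 ∈ Uη η := fun η h => by
    obtain ⟨η', hη'⟩ := Set.mem_iUnion.1 h
    exact η'.2 (hGmax _ _ (specializes_iff_mem_closure.2 hη'))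
  have hUsp : ∀ η, ∀ z ∈ Uη η, η.1 ⤳ z := fun η z hz => by
    obtain ⟨η', hη'⟩ := hGcov z
    by_cases h : η' = η
    · exact h ▸ hη'
    · exact (hz (Set.mem_iUnion.2 ⟨⟨η', h⟩, hη'.mem_closure⟩)).elim
  have hGV : ∀ η : G, η.1 ∈ V := fun η => by
    obtain ⟨z, hzU, hzV⟩ := hV.inter_open_nonempty _ (Uη η).isOpen ⟨_, hUmem η⟩
    exact (hUsp η z hzU).mem_open V.isOpen hzV
  have hinj : ∀ a b : X, f a = f b → f a ∈ V → a = b := fun a b hab ha => by
    have h := (f ∣_ V).isClosedEmbedding.injective (a₁ := ⟨a, ha⟩) (a₂ := ⟨b, show f b ∈ V from hab ▸ ha⟩)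
      (Subtype.ext (((morphismRestrict_base_coe f V _).trans hab).trans
        (morphismRestrict_base_coe f V _).symm))
    exact congrArg Subtype.val h
  have hW : ∀ η : G, ∃ (A : X.Opens) (e : Γ(L, A)), f ⁻¹' {η.1} ⊆ A ∧ Gen L A e := fun η => by
    by_cases hne : (f ⁻¹' {η.1}).Nonempty
    · obtain ⟨ξ, hξ⟩ := hne
      obtain ⟨A, e, hA, he⟩ := (isInvertible_iff_exists_gen L).1 hL ξ
      refine ⟨A, e, fun a ha => ?_, he⟩
      rw [hinj a ξ ((Set.mem_singleton_iff.1 ha).trans (Set.mem_singleton_iff.1 hξ).symm)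
        ((Set.mem_singleton_iff.1 ha).symm ▸ hGV η)]
      exact hA
    · exact ⟨⊥, 0, fun a ha => (hne ⟨a, ha⟩).elim, PicGlue.gen_of_le_bot L le_rfl 0⟩
  choose A eA hA heA using hW
  have hcl : ∀ A : X.Opens, IsClosed (f '' ((A : Set X)ᶜ)) := fun A =>
    f.isClosedMap _ A.isOpen.isClosed_compl
  let Oη : G → Y.Opens := fun η => Uη η ⊓ V ⊓ ⟨(f '' ((A η : Set X)ᶜ))ᶜ, (hcl _).isOpen_compl⟩
  have hOmem : ∀ η, η.1 ∈ Oη η := fun η => ⟨⟨hUmem η, hGV η⟩, fun ⟨a, ha, h⟩ => ha (hA η h)⟩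
  have hOpre : ∀ η, f ⁻¹ᵁ Oη η ≤ A η := fun η a ha => not_not.1 fun h => ha.2 ⟨a, h, rfl⟩
  obtain ⟨e₁, he₁⟩ := PicGlue.exists_gen_iSup (fun η => f ⁻¹ᵁ Oη η) (fun η η' h a ha =>
    (h (hGmax η η' (by
      obtain ⟨η'', h''⟩ := hGcov (f a)
      have e1 : η'' = η := not_not.1 fun hne =>
        ha.1.1.1 (Set.mem_iUnion.2 ⟨⟨η'', hne⟩, h''.mem_closure⟩)
      have e2 : η'' = η' := not_not.1 fun hne =>
        ha.2.1.1 (Set.mem_iUnion.2 ⟨⟨η'', hne⟩, h''.mem_closure⟩)
      rw [← e1, ← e2]))).elim)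
    (fun η => res L (hOpre η) (eA η)) (fun η => (heA η).res _)
  let V0 : Y.Opens := ⨆ η, Oη η
  have hV0V : V0 ≤ V := iSup_le fun η => inf_le_left.trans inf_le_right
  have hpre : f ⁻¹ᵁ V0 ≤ ⨆ η, f ⁻¹ᵁ Oη η := by rw [← Scheme.Hom.preimage_iSup]
  let e₀ : Γ(L, f ⁻¹ᵁ V0) := res L hpre e₁
  have he₀ : Gen L (f ⁻¹ᵁ V0) e₀ := he₁.res hpre
  -- points outside the centre
  have hclosed : ∀ z w : Y, z ∉ V0 → z ⤳ w → z = w := fun z w hz hzw => by
    by_contra hne
    obtain ⟨η, hη⟩ := hGcov z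
    have hη0 : η.1 ∈ V0 := Opens.mem_iSup.2 ⟨η, hOmem η⟩
    have hw : w ∉ V0 := fun h => hz (hzw.mem_open V0.isOpen h)
    haveI : IsNoetherianRing (Y.presheaf.stalk w) := inferInstance
    exact hz ((Groth.Agent.S7669.generalisations w (hdim' w)).2 η.1 z (hη.trans hzw)
      (fun h => hw (h ▸ hη0)) hzw hne hη ▸ hη0)
  have hBfin : ((V0 : Set Y)ᶜ).Finite := by
    obtain ⟨S, hSf, hSc, hSi, hS⟩ := NoetherianSpace.exists_finite_set_isClosed_irreducible
      (V0.isOpen.isClosed_compl)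
    rw [hS]
    refine hSf.sUnion fun s hs => ?_
    refine (Set.finite_singleton (hSi s hs).genericPoint).subset fun w hw => ?_
    have hgen := (hSi s hs).isGenericPoint_genericPoint (hSc s hs)
    refine (hclosed _ w ?_ (hgen.specializes hw)).symm
    exact hS.ge ⟨s, hs, hgen.mem⟩
  have hW0 : ∀ y : {y : Y // y ∉ V0}, ∃ W : Y.Opens, y.1 ∈ W ∧ ∀ z ∈ W, z ∉ V0 → z = y.1 := fun y => by
    refine ⟨⟨(((V0 : Set Y)ᶜ) \ {y.1})ᶜ, IsClosed.isOpen_compl (self := ?_)⟩, fun h => h.2 rfl,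
      fun z hz hz0 => not_not.1 fun hne => hz ⟨hz0, hne⟩⟩
    rw [← Set.biUnion_of_singleton (((V0 : Set Y)ᶜ) \ {y.1})]
    refine (hBfin.subset Set.diff_subset).isClosed_biUnion fun z hz => ?_
    refine closure_eq_iff_isClosed.1 (Set.Subset.antisymm (fun w hw => ?_) subset_closure)
    exact Set.mem_singleton_iff.2 (hclosed z w hz.1 (specializes_iff_mem_closure.2 hw)).symm
  choose W₀ hxW₀ hW₀ using hW0
  have hch : ∀ y : {y : Y // y ∉ V0}, ∃ (O : Y.Opens) (e : Γ(L, f ⁻¹ᵁ O)) (v : Γ(Y, O ⊓ V0)),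
      y.1 ∈ O ∧ O ≤ W₀ y ∧ Gen L (f ⁻¹ᵁ O) e ∧ IsUnit v ∧
      res L (f.preimage_mono inf_le_left) e =
        f.app (O ⊓ V0) v • res L (f.preimage_mono inf_le_right) e₀ := by
    intro y
    obtain ⟨W, h, hWaff, hyW, hWle, hh⟩ := PicGlue.exists_chart V0 y.1 y.2 (hdim' y) (W₀ y)
      (hxW₀ y) (hW₀ y) (fun W _ => NoetherianSpace.isCompact _)
    haveI : DiscreteTopology (f ⁻¹' {y.1}) := (f.isDiscrete_preimage_singleton y.1).to_subtype
    obtain ⟨O', e, hTO, hOA, he⟩ := PicGlue.exists_gen_finite hL (hWaff.preimage f) (f ⁻¹' {y.1})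
      (f.finite_preimage_singleton y.1) (fun a ha => show f a ∈ W from Set.mem_singleton_iff.1 ha ▸ hyW)
      fun s hs t ht hst => congrArg Subtype.val
        (Specializes.eq ((subtype_specializes_iff _ _).2 hst : (⟨s, hs⟩ : f ⁻¹' {y.1}) ⤳ ⟨t, ht⟩))
    obtain ⟨g, hg, hyg⟩ := hWaff.exists_basicOpen_le
      (V := W ⊓ ⟨(f '' ((O' : Set X)ᶜ))ᶜ, (hcl _).isOpen_compl⟩)
      ⟨y.1, hyW, fun ⟨a, ha, h⟩ => ha (hTO h)⟩ hyW
    have hgO : f ⁻¹ᵁ Y.basicOpen g ≤ O' := fun a ha => not_not.1 fun h => (hg ha).2 ⟨a, h, rfl⟩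
    let V1 : Y.Opens := Y.basicOpen g ⊓ V0
    have hV1 : IsAffineOpen V1 := by
      have : V1 = Y.basicOpen (resX Y (Y.basicOpen_le g) h) := by
        rw [resX, Scheme.basicOpen_res, hh, ← inf_assoc, inf_eq_left.2 (Y.basicOpen_le g)]
      rw [this]
      exact (hWaff.basicOpen g).basicOpen _
    obtain ⟨c, hc⟩ := Gen.exists_unit (he₀.res (f.preimage_mono (inf_le_right : V1 ≤ V0)))
      ((he.res hgO).res (f.preimage_mono (inf_le_left : V1 ≤ Y.basicOpen g)))
    have hsurj := app_surjective_of_restrict f V V1 hV1 (inf_le_right.trans hV0V)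
    obtain ⟨a, ha⟩ := hsurj c
    obtain ⟨a', ha'⟩ := hsurj (c⁻¹ : Γ(X, f ⁻¹ᵁ V1)ˣ).1
    let J : Ideal Γ(Y, V1) := RingHom.ker (f.app V1).hom
    haveI : IsNoetherianRing (Y.presheaf.stalk y.1) := inferInstance
    let S : Set (Ideal Γ(Y, V1)) :=
      {P | ∃ (z : Y) (hz : z ∈ V1), z ⤳ y.1 ∧ P = (hV1.primeIdealOf ⟨z, hz⟩).asIdeal ∧ ¬ J ≤ P}
    have hS : S.Finite := by
      have hfin := ((Groth.Agent.S7669.generalisations y.1 (hdim' y)).1.preimage
        (Subtype.val_injective.injOn : Set.InjOn (Subtype.val : V1 → Y) _)).image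
        fun z : V1 => (hV1.primeIdealOf z).asIdeal
      refine hfin.subset ?_
      rintro P ⟨z, hz, hzy, rfl, -⟩
      exact ⟨⟨z, hz⟩, ⟨hzy, fun (h : z = y.1) => y.2 (h ▸ hz.2)⟩, rfl⟩
    obtain ⟨z₀, hz₀, hz₀S⟩ := AffineUnion.exists_add_notMem hS
      (by rintro P ⟨z, hz, -, rfl, -⟩; exact (hV1.primeIdealOf ⟨z, hz⟩).2) a J
      (by rintro P ⟨z, hz, -, rfl, h⟩; exact h)
    have hgen : ∀ z : Y, z ⤳ y.1 → z ∈ V1 → z ∉ ((Y.basicOpen (a + z₀) : Set Y))ᶜ := by
      intro z hzy hz hzC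
      have hmem : a + z₀ ∈ (hV1.primeIdealOf ⟨z, hz⟩).asIdeal :=
        not_not.1 fun h => hzC ((AffineUnion.mem_basicOpen_iff hV1 z hz _).2 h)
      by_cases hJ : J ≤ (hV1.primeIdealOf ⟨z, hz⟩).asIdeal
      · have h1 : a ∈ (hV1.primeIdealOf ⟨z, hz⟩).asIdeal :=
          (Ideal.add_mem_iff_left _ (hJ hz₀)).1 hmem
        have h2 : a' * a - 1 ∈ J := by
          change f.app V1 (a' * a - 1) = 0
          rw [map_sub, map_mul, map_one, ha, ha', Units.inv_mul, sub_self]
        refine (hV1.primeIdealOf ⟨z, hz⟩).2.ne_top ((Ideal.eq_top_iff_one _).2 ?_)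
        simpa using sub_mem (Ideal.mul_mem_left _ a' h1) (hJ h2)
      · exact hz₀S _ ⟨z, hz, hzy, rfl, hJ⟩ hmem
    obtain ⟨g', hyg', hg'⟩ := PicGlue.exists_basicOpen_avoid (hWaff.basicOpen g) hyg V1 inf_le_left
      (NoetherianSpace.isCompact _) _ (Y.basicOpen (a + z₀)).isOpen.isClosed_compl hgen
    have hle : Y.basicOpen g' ⊓ V0 ≤ V1 := inf_le_inf_right _ (Y.basicOpen_le g')
    refine ⟨Y.basicOpen g', res L ((f.preimage_mono (Y.basicOpen_le g')).trans hgO) e,
      resX Y hle (a + z₀), hyg', (Y.basicOpen_le g').trans ((Y.basicOpen_le g).trans hWle),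
      he.res _, Groth.Agent.S7669.isUnit_resX_basicOpen _ _
        (fun z hz => not_not.1 (hg' z hz.1 (hle hz))), ?_⟩
    have h3 := congrArg (res L (f.preimage_mono hle)) hc
    have hfa : f.app V1 (a + z₀) = c := by
      rw [map_add, ha, show f.app V1 z₀ = 0 from hz₀, add_zero]
    simp only [res_res, res_smul] at h3
    rw [PicGlue.resX_app (fun _ : PUnit.{1} => f) (k := PUnit.unit) hle, hfa, res_res]
    exact h3
  choose O e v hyO hOW he hvu hv using hch
  -- the charts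
  let O' : Option {y : Y // y ∉ V0} → Y.Opens := fun a => a.elim V0 O
  let e' : ∀ a, Γ(L, f ⁻¹ᵁ O' a) := fun a => match a with
    | none => e₀
    | some y => e y
  have he' : ∀ a, Gen L (f ⁻¹ᵁ O' a) (e' a) := fun a => match a with
    | none => he₀
    | some y => he y
  let v' : ∀ a, Γ(Y, O' a ⊓ V0) := fun a => match a with
    | none => 1
    | some y => v y
  have hv'u : ∀ a, IsUnit (v' a) := fun a => match a with
    | none => isUnit_one
    | some y => hvu y
  have hv' : ∀ a, res L (f.preimage_mono inf_le_left) (e' a) =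
      f.app (O' a ⊓ V0) (v' a) • res L (f.preimage_mono inf_le_right) e₀ := fun a => match a with
    | none => by
      change res L _ e₀ = f.app _ 1 • res L _ e₀
      rw [map_one, one_smul]
    | some y => hv y
  have hover : ∀ a b, a ≠ b → O' a ⊓ O' b ≤ V0 := by
    intro a b hab
    cases a with
    | none => exact inf_le_left
    | some y =>
      cases b with
      | none => exact inf_le_right
      | some z =>
        intro w hw
        by_contra h
        exact hab (congrArg some (Subtype.ext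
          ((hW₀ y w (hOW y hw.1) h).symm.trans (hW₀ z w (hOW z hw.2) h))))
  have hex : ∀ a b, ∃ η : Γ(Y, O' a ⊓ O' b), IsUnit η ∧ (a = b → η = 1) ∧
      ∀ (U : Y.Opens) (h : U ≤ O' a ⊓ O' b) (h0 : U ≤ V0),
        resX Y h η * resX Y (le_inf (h.trans inf_le_right) h0) (v' b) =
          resX Y (le_inf (h.trans inf_le_left) h0) (v' a) := by
    intro a b
    by_cases hab : a = b
    · subst hab
      exact ⟨1, isUnit_one, fun _ => rfl, fun U h h0 => by rw [map_one, one_mul]⟩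
    · obtain ⟨u₁, hu₁⟩ := (hv'u a).map (resX Y (le_inf inf_le_left (hover a b hab)))
      obtain ⟨u₂, hu₂⟩ := (hv'u b).map (resX Y (le_inf inf_le_right (hover a b hab)))
      refine ⟨↑(u₁ * u₂⁻¹), Units.isUnit _, fun h => absurd h hab, fun U h h0 => ?_⟩
      rw [← resX_resX (le_inf inf_le_right (hover a b hab)) h (v' b),
        ← resX_resX (le_inf inf_le_left (hover a b hab)) h (v' a), ← map_mul, ← hu₁, ← hu₂,
        ← Units.val_mul, inv_mul_cancel_right]
  choose η hηu hη1 hηv using hex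
  have hcoc : ∀ a b d, resX Y (inf_le_inf_right (O' d) inf_le_left : O' a ⊓ O' b ⊓ O' d ≤ O' a ⊓ O' d) (η a d) =
      resX Y (inf_le_left : O' a ⊓ O' b ⊓ O' d ≤ O' a ⊓ O' b) (η a b) *
        resX Y (inf_le_inf_right (O' d) inf_le_right : O' a ⊓ O' b ⊓ O' d ≤ O' b ⊓ O' d) (η b d) := by
    intro a b d
    by_cases hab : a = b
    · subst hab
      rw [hη1 a a rfl, map_one, one_mul]
    have h0 : O' a ⊓ O' b ⊓ O' d ≤ V0 := inf_le_left.trans (hover a b hab)
    refine ((hv'u d).map (resX Y (le_inf inf_le_right h0))).mul_right_cancel ?_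
    rw [mul_assoc, hηv b d _ _ h0, hηv a b _ _ h0, hηv a d _ _ h0]
  have hcomp : ∀ a b, res L (f.preimage_mono inf_le_left) (e' a) =
      f.app (O' a ⊓ O' b) (η a b) • res L (f.preimage_mono inf_le_right) (e' b) := by
    intro a b
    by_cases hab : a = b
    · subst hab
      rw [hη1 a a rfl, map_one, one_smul]
    have h0 := hover a b hab
    have h1 := congrArg (res L (f.preimage_mono (le_inf inf_le_left h0))) (hv' a)
    have h2 := congrArg (res L (f.preimage_mono (le_inf inf_le_right h0))) (hv' b)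
    simp only [res_res, res_smul] at h1 h2
    rw [h1, h2, smul_smul,
      ← PicGlue.resX_app (fun _ : PUnit.{1} => f) (k := PUnit.unit) (le_inf inf_le_left h0),
      ← PicGlue.resX_app (fun _ : PUnit.{1} => f) (k := PUnit.unit) (le_inf inf_le_right h0), ← map_mul]
    have h3 := hηv a b _ le_rfl h0
    rw [← h3]
    congr 2
    exact congrArg (· * _) (by simp [resX])
  have hO : iSup O' = ⊤ := top_le_iff.1 fun z _ => by
    by_cases hz : z ∈ V0
    · exact Opens.mem_iSup.2 ⟨none, hz⟩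
    · exact Opens.mem_iSup.2 ⟨some ⟨z, hz⟩, hyO _⟩
  obtain ⟨N, hN, hiso⟩ := PicGlue.exists_glue_cocycle O' (κ := PUnit.{1}) (fun _ => f) (fun _ => L)
    (fun a _ => e' a) (fun a _ => he' a) hO η hηu hcoc fun a b _ => hcomp a b
  exact ⟨N, hN, hiso PUnit.unit⟩

end Groth.Agent.S7688
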