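import Groth.Statements.S7689
import Groth.Agent.VarietyBC.NormCokernel
import Groth.Agent.PropsBasic.JapaneseLocal
import Groth.Agent.S9688
import Groth.Agent.EulerDeg.Birational
-- import your own Groth.Agent.* helpers here

set_option autoImplicit false
universe u
open CategoryTheory CategoryTheory.Limits AlgebraicGeometry
open Variety

namespace Groth.Agent.S7689

/-- For an integral X: let X be an integral Nagata scheme of dimension one (every affine open has a
Nagata coordinate ring) with normalization ν : X^ν → X. Then ν is finite and birational (an
isomorphism over a dense open), O_X ⊆ ν_*O_{X^ν}, and the quotient ν_*O_{X^ν}/O_X is supported at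
closed points, its stalk at a closed point x having length equal to the δ-invariant of O_{X,x}. (The
published statement is for reduced Nagata schemes of dimension one; it also says that ν is
surjective and that the quotient is nonzero exactly at the singular points, and it describes the
stalk A' of ν_*O_{X^ν} at x, namely the integral closure of O_{X,x} in its total fraction ring, a
semi-local ring that is a finite product of Dedekind domains, together with the completions of
O_{X,x} and A'. This row takes X integral, does not restate surjectivity, which holds for the
normalization of every integral scheme, and keeps the finiteness, birationality, injectivity and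
length clauses.) -/
theorem result (X : Scheme.{u}) [IsIntegral X]
    [QuasiCompact (X.fromSpecStalk (genericPoint X))] [QuasiSeparated (X.fromSpecStalk (genericPoint X))]
    (hN : ∀ U : X.affineOpens, CAlg.IsNagata Γ(X, (U : X.Opens))) (hdim : topologicalKrullDim X = 1) :
    IsFinite (Curv2.normalizationι X) ∧
      (∃ U : X.Opens, Dense ((U : Set X)) ∧ IsIso (Curv2.normalizationι X ∣_ U)) ∧
      Mono (ClSub.unitToPush (Curv2.normalizationι X)) ∧
      (∀ x : X, IsClosed ({x} : Set X) →
        Module.length (X.presheaf.stalk x) ((cokernel (ClSub.unitToPush (Curv2.normalizationι X))).presheaf.stalk x) =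
          Curv2.deltaInv (X.presheaf.stalk x)) ∧
      (∀ x : X, ¬ IsClosed ({x} : Set X) →
        Subsingleton ((cokernel (ClSub.unitToPush (Curv2.normalizationι X))).presheaf.stalk x)) := by
  classical
  have hJ : ∀ (U : X.Opens), IsAffineOpen U → ∀ (hne : Nonempty ↥U),
      @CAlg.IsN2 ↑Γ(X, U) _ (@IsIntegral.component_integral X _ U hne) := by
    intro U hU hne
    have : Nonempty U.toScheme := hne
    have : (⊥ : Ideal Γ(X, U)).IsPrime := Ideal.isPrime_bot
    exact Groth.PropsBasic.JapaneseLocal.isN2_of_equiv (RingEquiv.quotientBot Γ(X, U)) ((hN ⟨U, hU⟩).2 ⊥)
  have hLN : IsLocallyNoetherian X := by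
    refine isLocallyNoetherian_of_affine_cover (S := fun U : X.affineOpens => U)
      (iSup_affineOpens_eq_top X) fun U => (hN U).1
  have hfin : IsFinite (Curv2.normalizationι X) := Groth.Agent.S9688.result X hJ
  refine ⟨hfin, ?_, Groth.VarietyBC.NormCokernel.mono_unitToPush X,
    fun x _ => Groth.VarietyBC.NormCokernel.length_stalk_cokernel X x, fun x hx => ?_⟩
  · refine Groth.VarietyBC.NormCokernel.exists_isIso_restrict X fun U hU hne => ?_
    have := functionField_isFractionRing_of_isAffineOpen X U hU
    exact Groth.Calg4.finite_ic_of_isN2 (hJ U hU hne) X.functionField X.functionField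
  · have hgen : x = genericPoint X :=
      (@Groth.EulerDeg.eq_of_specializes_of_not_isClosed X.toTopCat (inferInstanceAs (T0Space X))
        (inferInstanceAs (QuasiSober X)) hdim.le x (genericPoint X) hx
        ((genericPoint_spec X).specializes trivial)).symm
    have hf : IsField (X.presheaf.stalk x) := hgen ▸ Field.toIsField X.functionField
    have h := Groth.VarietyBC.NormCokernel.length_stalk_cokernel X x
    rw [Groth.VarietyBC.NormCokernel.deltaInv_eq_zero_of_isField hf] at h
    exact Module.length_eq_zero_iff.1 h

end Groth.Agent.S7689
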