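import Groth.Statements.S8255
import Groth.Agent.Ega2Proj2.RelSpecGamma

set_option autoImplicit false
universe u
open CategoryTheory CategoryTheory.Limits AlgebraicGeometry Opposite TopologicalSpace
open EGA2

namespace Groth.Agent.S8255

/-- Let S be a scheme and A a quasi-coherent O_S-algebra, and let π : Spec(A) → S be its relative
spectrum (glued from the affine schemes Spec A(U), U an affine open of S). Then the canonical
comparison map π_* O_{Spec(A)} → A (which over an affine open U is restriction to the chart Spec
A(U) followed by Γ(Spec R) = R) is an isomorphism; in other words the direct-image algebra of
Spec(A) is A. -/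
theorem result {S : Scheme.{u}} (A : RelSpec.QCAlg S) : IsIso A.gammaMap := by
  exact Groth.Ega2P2.isIso_gammaMap A

end Groth.Agent.S8255
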