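import Groth.Statements.S8256
import Groth.Agent.Ega2Proj.AlgOf
import Groth.Agent.SymAlg.Univ
import Mathlib.AlgebraicGeometry.Morphisms.Flat

set_option autoImplicit false
universe u
open CategoryTheory CategoryTheory.Limits AlgebraicGeometry Opposite TopologicalSpace
open EGA2

namespace Groth.Agent.S8256

/-- Let Y be affine over S (g : Y → S affine) and X, X' affine over Y (f, f' affine), and let Z = X ×_Y
X' with projections p : Z → X, p' : Z → X'. Then Z is affine over Y and over S, and its direct-image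
algebra on S is the tensor product: the square of quasi-coherent O_S-algebras A(Y) → A(X), A(Y) →
A(X'), A(X) → A(Z), A(X') → A(Z), whose maps are induced by f, f', p, p', is a pushout square in the
category of quasi-coherent O_S-algebras. -/
theorem result {X X' Y Z S : Scheme.{u}} (g : Y ⟶ S) [IsAffineHom g]
    (f : X ⟶ Y) [IsAffineHom f] (f' : X' ⟶ Y) [IsAffineHom f'] (p : Z ⟶ X) (p' : Z ⟶ X') [IsAffineHom p]
    (hZ : IsPullback p p' f f') :
    IsPushout
      (C := RelSpec.QCAlg S)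
      (⟨AffAlg.algHom g (f ≫ g) f rfl, AffAlg.algHom_comm g (f ≫ g) f rfl⟩ :
        RelSpec.QCAlg.directImage g ⟶ RelSpec.QCAlg.directImage (f ≫ g))
      (⟨AffAlg.algHom g (f' ≫ g) f' rfl, AffAlg.algHom_comm g (f' ≫ g) f' rfl⟩ :
        RelSpec.QCAlg.directImage g ⟶ RelSpec.QCAlg.directImage (f' ≫ g))
      (⟨AffAlg.algHom (f ≫ g) (p ≫ f ≫ g) p rfl, AffAlg.algHom_comm (f ≫ g) (p ≫ f ≫ g) p rfl⟩ :
        RelSpec.QCAlg.directImage (f ≫ g) ⟶ RelSpec.QCAlg.directImage (p ≫ f ≫ g))
      (⟨AffAlg.algHom (f' ≫ g) (p ≫ f ≫ g) p'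
          ((Category.assoc p' f' g).symm.trans ((congrArg (· ≫ g) hZ.w.symm).trans (Category.assoc p f g))),
        AffAlg.algHom_comm (f' ≫ g) (p ≫ f ≫ g) p'
          ((Category.assoc p' f' g).symm.trans ((congrArg (· ≫ g) hZ.w.symm).trans (Category.assoc p f g)))⟩ :
        RelSpec.QCAlg.directImage (f' ≫ g) ⟶ RelSpec.QCAlg.directImage (p ≫ f ≫ g)) := by
  have e' : (f' ≫ g : X' ⟶ S) = f' ≫ g := rfl
  have hp' : p' ≫ f' ≫ g = p ≫ f ≫ g :=
    (Category.assoc p' f' g).symm.trans ((congrArg (· ≫ g) hZ.w.symm).trans (Category.assoc p f g))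
  have key : ∀ (U : S.Opens), IsAffineOpen U →
      IsPushout ((AffAlg.algHom g (f ≫ g) f rfl).app (op U)) ((AffAlg.algHom g (f' ≫ g) f' rfl).app (op U))
        ((AffAlg.algHom (f ≫ g) (p ≫ f ≫ g) p rfl).app (op U))
        ((AffAlg.algHom (f' ≫ g) (p ≫ f ≫ g) p' hp').app (op U)) := by
    intro U hU
    rw [Groth.Ega2Proj.algHom_app _ _ _ _ U (Groth.Ega2Proj.preimage_le_of_over _ _ f rfl U),
      Groth.Ega2Proj.algHom_app _ _ _ _ U (Groth.Ega2Proj.preimage_le_of_over _ _ f' rfl U),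
      Groth.Ega2Proj.algHom_app _ _ _ _ U (Groth.Ega2Proj.preimage_le_of_over _ _ p rfl U),
      Groth.Ega2Proj.algHom_app _ _ _ _ U (Groth.Ega2Proj.preimage_le_of_over _ _ p' hp' U)]
    have hUY : (p ≫ f ≫ g) ⁻¹ᵁ U = p ⁻¹ᵁ ((f ≫ g) ⁻¹ᵁ U) ⊓ p' ⁻¹ᵁ ((f' ≫ g) ⁻¹ᵁ U) :=
      (inf_eq_left.2 (Groth.Ega2Proj.preimage_le_of_over _ _ p' hp' U)).symm
    exact (isIso_pushoutSection_iff hZ (US := g ⁻¹ᵁ U) (UX := (f ≫ g) ⁻¹ᵁ U) (UT := (f' ≫ g) ⁻¹ᵁ U)
      le_rfl le_rfl hUY).1 (isIso_pushoutSection_of_isAffineOpen hZ le_rfl le_rfl hUY (hU.preimage g)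
      ((hU.preimage g).preimage f') ((hU.preimage g).preimage f))
  refine ⟨⟨RelSpec.QCAlg.hom_ext ?_⟩, ⟨PushoutCocone.isColimitAux' _ fun c => Classical.indefiniteDescription _ ?_⟩⟩
  · refine (Functor.IsCoverDense.restrictHomEquivHom (G := Scheme.AffineZariskiSite.toOpensFunctor S)
      (K := Opens.grothendieckTopology S) (ℱ := g.base _* Y.presheaf)
      (ℱ' := (⟨(RelSpec.QCAlg.directImage (p ≫ f ≫ g)).presheaf,
        (RelSpec.QCAlg.directImage (p ≫ f ≫ g)).isSheaf⟩ : TopCat.Sheaf CommRingCat.{u} S.carrier))).symm.injective ?_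
    ext U : 2
    exact (key U.unop.1 U.unop.2).w
  · let a := c.inl
    let b := c.inr
    have hw : ∀ (U : S.Opens), (AffAlg.algHom g (f ≫ g) f rfl).app (op U) ≫ a.hom.app (op U) =
        (AffAlg.algHom g (f' ≫ g) f' rfl).app (op U) ≫ b.hom.app (op U) := fun U =>
      NatTrans.congr_app (congrArg RelSpec.QCAlg.Hom.hom c.condition) (op U)
    let toO := Scheme.AffineZariskiSite.toOpensFunctor S
    let R := RelSpec.QCAlg.directImage (p ≫ f ≫ g)
    let η : toO.op ⋙ R.presheaf ⟶ toO.op ⋙ c.pt.presheaf :=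
      { app := fun U => (key U.unop.1 U.unop.2).desc (a.hom.app _) (b.hom.app _) (hw _)
        naturality := fun U V i => by
          apply (key U.unop.1 U.unop.2).hom_ext
          · change _ ≫ R.presheaf.map (toO.map i.unop).op ≫ _ = _ ≫ _ ≫ c.pt.presheaf.map (toO.map i.unop).op
            rw [IsPushout.inl_desc_assoc, ← Category.assoc]
            refine (congrArg (· ≫ _) ((AffAlg.algHom (f ≫ g) (p ≫ f ≫ g) p rfl).naturality (toO.map i.unop).op).symm).trans ?_
            rw [Category.assoc]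
            exact (congrArg (_ ≫ ·) ((key V.unop.1 V.unop.2).inl_desc _ _ (hw _))).trans (a.hom.naturality _)
          · change _ ≫ R.presheaf.map (toO.map i.unop).op ≫ _ = _ ≫ _ ≫ c.pt.presheaf.map (toO.map i.unop).op
            rw [IsPushout.inr_desc_assoc, ← Category.assoc]
            refine (congrArg (· ≫ _) ((AffAlg.algHom (f' ≫ g) (p ≫ f ≫ g) p' hp').naturality (toO.map i.unop).op).symm).trans ?_
            rw [Category.assoc]
            exact (congrArg (_ ≫ ·) ((key V.unop.1 V.unop.2).inr_desc _ _ (hw _))).trans (b.hom.naturality _) }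
    let E := Functor.IsCoverDense.restrictHomEquivHom (G := toO) (K := Opens.grothendieckTopology S)
      (ℱ := R.presheaf) (ℱ' := (⟨c.pt.presheaf, c.pt.isSheaf⟩ : TopCat.Sheaf CommRingCat.{u} S.carrier))
    have hE : ∀ (U : S.Opens) (hU : IsAffineOpen U),
        (E η).app (op U) = (key U hU).desc (a.hom.app _) (b.hom.app _) (hw _) := fun U hU =>
      NatTrans.congr_app (E.symm_apply_apply η) (op ⟨U, hU⟩)
    let χ : R ⟶ c.pt :=
      { hom := E η
        comm := by
          refine (Functor.IsCoverDense.restrictHomEquivHom (G := toO) (K := Opens.grothendieckTopology S)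
            (ℱ := S.presheaf) (ℱ' := (⟨c.pt.presheaf, c.pt.isSheaf⟩ : TopCat.Sheaf CommRingCat.{u} S.carrier))).symm.injective ?_
          ext U : 2
          change R.str.app (op U.unop.1) ≫ (E η).app (op U.unop.1) = c.pt.str.app (op U.unop.1)
          rw [hE _ U.unop.2]
          have e1 : (RelSpec.QCAlg.directImage (f ≫ g)).str.app (op U.unop.1) ≫
              (AffAlg.algHom (f ≫ g) (p ≫ f ≫ g) p rfl).app (op U.unop.1) = R.str.app (op U.unop.1) :=
            NatTrans.congr_app (AffAlg.algHom_comm (f ≫ g) (p ≫ f ≫ g) p rfl) _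
          rw [← e1]
          exact (Category.assoc _ _ _).trans ((congrArg (_ ≫ ·) ((key U.unop.1 U.unop.2).inl_desc _ _ (hw _))).trans (NatTrans.congr_app a.comm _)) }
    refine ⟨χ, ?_, ?_, fun {m} h1 h2 => ?_⟩
    · refine Groth.SymAlg.qcHom_ext fun U hU x => ?_
      change ((E η).app (op U)).hom (((AffAlg.algHom (f ≫ g) (p ≫ f ≫ g) p rfl).app (op U)).hom x) = _
      rw [hE U hU]
      exact congr(($((key U hU).inl_desc _ _ (hw _))).hom x)
    · refine Groth.SymAlg.qcHom_ext fun U hU x => ?_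
      change ((E η).app (op U)).hom (((AffAlg.algHom (f' ≫ g) (p ≫ f ≫ g) p' hp').app (op U)).hom x) = _
      rw [hE U hU]
      exact congr(($((key U hU).inr_desc _ _ (hw _))).hom x)
    · refine Groth.SymAlg.qcHom_ext fun U hU x => ?_
      suffices h3 : m.hom.app (op U) = (E η).app (op U) from congr(($h3).hom x)
      rw [hE U hU]
      refine (key U hU).hom_ext ?_ ?_
      · refine Eq.trans ?_ ((key U hU).inl_desc _ _ (hw _)).symm
        exact NatTrans.congr_app (congrArg RelSpec.QCAlg.Hom.hom h1) (op U)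
      · refine Eq.trans ?_ ((key U hU).inr_desc _ _ (hw _)).symm
        exact NatTrans.congr_app (congrArg RelSpec.QCAlg.Hom.hom h2) (op U)

end Groth.Agent.S8256
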