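import Groth.Statements.S8260
import Groth.Agent.Ega2Proj2.RelProjProps
import Groth.Agent.Ega2Proj2.ProjFinite

set_option autoImplicit false
universe u
open CategoryTheory CategoryTheory.Limits AlgebraicGeometry Opposite TopologicalSpace
open scoped HomogeneousIdeal
open EGA2

namespace Groth.Agent.S8260

set_option backward.isDefEq.respectTransparency.types false in
/-- If the quasi-coherent positively graded O_Y-algebra 𝒮 is of finite type (over every affine open U of
Y the ring 𝒮(U) is a finitely generated O_Y(U)-algebra), then its relative homogeneous spectrum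
Proj(𝒮) is of finite type over Y. -/
theorem result {Y P : Scheme.{u}} (𝒮 : RelProj.QCGrAlg Y)
    (hft : ∀ (U : Y.Opens) (hU : IsAffineOpen U), (𝒮.str.app (op U)).hom.FiniteType)
    (p : P ⟶ Y)
    (chart : ∀ (U : Y.Opens) (hU : IsAffineOpen U), (((p ⁻¹ᵁ U : P.Opens) : Scheme.{u}) ≅ Proj (𝒮.deg U hU)))
    (hP : RelProj.IsRelProj 𝒮 p chart) : LocallyOfFiniteType p ∧ QuasiCompact p := by
  have key : ∀ (U : Y.Opens) (hU : IsAffineOpen U),
      LocallyOfFiniteType (Proj.toSpecZero (𝒮.deg U hU) ≫ Spec.map (𝒮.strZero U hU)) ∧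
        QuasiCompact (Proj.toSpecZero (𝒮.deg U hU) ≫ Spec.map (𝒮.strZero U hU)) := fun U hU => by
    obtain ⟨h0, hA⟩ : (𝒮.strZero U hU).hom.FiniteType ∧
        Algebra.FiniteType (𝒮.deg U hU 0) (𝒮.presheaf.obj (op U)) := by
      have hcomp : ((algebraMap (𝒮.deg U hU 0) (𝒮.presheaf.obj (op U))).comp
          (𝒮.strZero U hU).hom).FiniteType := hft U hU
      refine ⟨?_, RingHom.finiteType_algebraMap.mp (RingHom.FiniteType.of_comp_finiteType hcomp)⟩
      have hs : Function.Surjective (GradedRing.projZeroRingHom' (𝒮.deg U hU)) :=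
        GradedRing.projZeroRingHom'_surjective _
      have := (RingHom.FiniteType.of_surjective _ hs).comp hcomp
      convert this using 1
      ext r
      exact (DirectSum.decompose_of_mem_same _ (𝒮.str_mem U hU r)).symm
    haveI : LocallyOfFiniteType (Spec.map (𝒮.strZero U hU)) :=
      HasRingHomProperty.Spec_iff.mpr h0
    exact ⟨inferInstance, inferInstance⟩
  exact ⟨Groth.Ega2P2.of_affine hP @LocallyOfFiniteType.{u} fun U hU => (key U hU).1,
    Groth.Ega2P2.of_affine hP @QuasiCompact.{u} fun U hU => (key U hU).2⟩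

end Groth.Agent.S8260
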