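import Groth.Statements.S8264
import Groth.Agent.Ega2Proj.ProjIntegral

set_option autoImplicit false
universe u
open CategoryTheory CategoryTheory.Limits AlgebraicGeometry Opposite TopologicalSpace
open scoped HomogeneousIdeal
open EGA2

namespace Groth.Agent.S8264

/-- Let Y be an integral scheme and 𝒮 a quasi-coherent positively graded O_Y-algebra with 𝒮_0 = O_Y
which is integral, stated here affine-locally: over every nonempty affine open U the ring 𝒮(U) is an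
integral domain whose irrelevant ideal is nonzero (for Y integral this is equivalent to the
stalkwise condition of the published text: every stalk 𝒮_y an integral domain with (𝒮_y)_+ ≠ 0).
Then Proj(𝒮) is integral and its structure morphism to Y is dominant. -/
theorem result {Y P : Scheme.{u}} [IsIntegral Y] (𝒮 : RelProj.QCGrAlg Y)
    (h0 : ∀ (U : Y.Opens) (hU : IsAffineOpen U), Function.Bijective (𝒮.strZero U hU).hom)
    (hint : ∀ (U : Y.Opens) (hU : IsAffineOpen U), (U : Set Y).Nonempty →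
      IsDomain (𝒮.presheaf.obj (op U)) ∧ ((𝒮.deg U hU)₊).toIdeal ≠ ⊥)
    (p : P ⟶ Y)
    (chart : ∀ (U : Y.Opens) (hU : IsAffineOpen U), (((p ⁻¹ᵁ U : P.Opens) : Scheme.{u}) ≅ Proj (𝒮.deg U hU)))
    (hP : RelProj.IsRelProj 𝒮 p chart) : IsIntegral P ∧ DenseRange p.base := by
  have hint' : ∀ (U : Y.Opens) (hU : IsAffineOpen U), (U : Set Y).Nonempty →
      IsIntegral ((p ⁻¹ᵁ U : P.Opens) : Scheme.{u}) := fun U hU hne => by
    haveI := (hint U hU hne).1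
    haveI := Groth.Ega2Proj.isIntegral_proj (𝒮.deg U hU) (hint U hU hne).2
    haveI : IsReduced ((p ⁻¹ᵁ U : P.Opens) : Scheme.{u}) := isReduced_of_isOpenImmersion (chart U hU).hom
    haveI : Nonempty ((p ⁻¹ᵁ U : P.Opens) : Scheme.{u}) :=
      (inferInstance : Nonempty (Proj (𝒮.deg U hU))).map (chart U hU).inv.base
    exact isIntegral_of_isOpenImmersion (chart U hU).hom
  have hne' : ∀ (U : Y.Opens) (hU : IsAffineOpen U), (U : Set Y).Nonempty →
      ∃ x : P, p.base x ∈ U := fun U hU hne => by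
    haveI := hint' U hU hne
    obtain ⟨x⟩ := (inferInstance : Nonempty ((p ⁻¹ᵁ U : P.Opens) : Scheme.{u}))
    exact ⟨x.1, x.2⟩
  have hcov : ∀ x : P, ∃ U : Y.Opens, IsAffineOpen U ∧ p.base x ∈ U := fun x => by
    obtain ⟨U, hU, hx, -⟩ := exists_isAffineOpen_mem_and_subset (U := (⊤ : Y.Opens)) (x := p.base x) trivial
    exact ⟨U, hU, hx⟩
  have hdense : DenseRange p.base := by
    rw [DenseRange, dense_iff_inter_open]
    rintro O hO ⟨y, hy⟩
    obtain ⟨U, hU, hyU, hUO⟩ := exists_isAffineOpen_mem_and_subset (U := (⟨O, hO⟩ : Y.Opens)) (x := y) hy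
    obtain ⟨x, hx⟩ := hne' U hU ⟨y, hyU⟩
    exact ⟨p.base x, hUO hx, x, rfl⟩
  refine ⟨?_, hdense⟩
  haveI : IsReduced P := by
    haveI : ∀ x : P, _root_.IsReduced (P.presheaf.stalk x) := fun x => by
      obtain ⟨U, hU, hx⟩ := hcov x
      haveI := hint' U hU ⟨_, hx⟩
      exact isReduced_of_injective _ (((p ⁻¹ᵁ U).stalkIso ⟨x, hx⟩).commRingCatIsoToRingEquiv.symm.injective)
    exact isReduced_of_isReduced_stalk P
  -- two nonempty opens meet
  have key : ∀ (U : Y.Opens) (hU : IsAffineOpen U) (W : Y.Opens) (O : P.Opens),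
      W ≤ U → (W : Set Y).Nonempty → (∃ x ∈ O, p.base x ∈ U) → ∃ x ∈ O, p.base x ∈ W := by
    intro U hU W O hWU hWne ⟨x, hxO, hxU⟩
    haveI := hint' U hU ⟨_, hxU⟩
    obtain ⟨W', hW', hy', hW'W⟩ := exists_isAffineOpen_mem_and_subset (U := W) hWne.some_mem
    obtain ⟨z, hz⟩ := hne' W' hW' ⟨_, hy'⟩
    obtain ⟨w, h1, h2⟩ := nonempty_preirreducible_inter
      (s := ((p ⁻¹ᵁ U).ι ⁻¹ᵁ O : Set ((p ⁻¹ᵁ U : P.Opens) : Scheme.{u})))
      (t := ((p ⁻¹ᵁ U).ι ⁻¹ᵁ (p ⁻¹ᵁ W) : Set ((p ⁻¹ᵁ U : P.Opens) : Scheme.{u})))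
      (TopologicalSpace.Opens.isOpen _) (TopologicalSpace.Opens.isOpen _)
      ⟨⟨x, hxU⟩, hxO⟩ ⟨⟨z, hWU (hW'W hz)⟩, hW'W hz⟩
    exact ⟨w.1, h1, h2⟩
  haveI : IrreducibleSpace P :=
    { isPreirreducible_univ := by
        rintro O1 O2 h1o h2o ⟨x1, -, hx1⟩ ⟨x2, -, hx2⟩
        obtain ⟨U, hU, hxU⟩ := hcov x1
        obtain ⟨V, hV, hxV⟩ := hcov x2
        obtain ⟨y, hy⟩ : (((U ⊓ V : Y.Opens)) : Set Y).Nonempty :=
          nonempty_preirreducible_inter U.2 V.2 ⟨_, hxU⟩ ⟨_, hxV⟩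
        obtain ⟨W, hW, hyW, hWUV⟩ := exists_isAffineOpen_mem_and_subset (U := U ⊓ V) hy
        obtain ⟨a, ha, haW⟩ := key U hU W ⟨O1, h1o⟩ (fun _ h => (hWUV h).1) ⟨y, hyW⟩ ⟨x1, hx1, hxU⟩
        obtain ⟨b, hb, hbW⟩ := key V hV W ⟨O2, h2o⟩ (fun _ h => (hWUV h).2) ⟨y, hyW⟩ ⟨x2, hx2, hxV⟩
        haveI := hint' W hW ⟨y, hyW⟩
        obtain ⟨w, hw1, hw2⟩ := nonempty_preirreducible_inter
          (s := (p ⁻¹ᵁ W).ι.base ⁻¹' O1) (t := (p ⁻¹ᵁ W).ι.base ⁻¹' O2)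
          (h1o.preimage (p ⁻¹ᵁ W).ι.continuous) (h2o.preimage (p ⁻¹ᵁ W).ι.continuous)
          ⟨⟨a, haW⟩, ha⟩ ⟨⟨b, hbW⟩, hb⟩
        exact ⟨w.1, trivial, hw1, hw2⟩
      toNonempty := by
        obtain ⟨y⟩ := (inferInstance : Nonempty Y)
        obtain ⟨U, hU, hy, -⟩ := exists_isAffineOpen_mem_and_subset (U := (⊤ : Y.Opens)) (x := y) trivial
        exact ⟨(hne' U hU ⟨y, hy⟩).choose⟩ }
  exact isIntegral_of_irreducibleSpace_of_isReduced P

end Groth.Agent.S8264
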