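import Groth.Statements.S8265
import Groth.Agent.Ega2Proj.ProjIntegral

set_option autoImplicit false
universe u
open CategoryTheory CategoryTheory.Limits AlgebraicGeometry Opposite TopologicalSpace
open scoped HomogeneousIdeal
open EGA2

namespace Groth.Agent.S8265

open CategoryTheory AlgebraicGeometry in
theorem mem_aux {A A' B C D E : Scheme.{u}} {a : A ⟶ B} {b : B ⟶ C} {c : C ⟶ D} {d : D ⟶ E}
    {i : A ⟶ A'} {q : A' ⟶ E} (h : a ≫ b ≫ c ≫ d = i ≫ q) (x : A) (O : E.Opens) (hx : q.base (i.base x) ∈ O) :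
    c.base (b.base (a.base x)) ∈ d ⁻¹ᵁ O := by
  have := congr(($h).base x)
  simp only [Scheme.Hom.comp_base, TopCat.hom_comp, ContinuousMap.comp_apply] at this
  show d.base (c.base (b.base (a.base x))) ∈ O
  exact this.symm ▸ hx

open CategoryTheory AlgebraicGeometry in
theorem not_mem_aux {R S : CommRingCat.{u}} (f : R ⟶ S) (x : Spec S) (r : R)
    (h : (Spec.map f).base x ∈ PrimeSpectrum.basicOpen r) : f.hom r ∉ x.asIdeal := h

/-- Let Y be an integral scheme and 𝒮 a quasi-coherent positively graded O_Y-algebra with 𝒮_0 = O_Y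
which is essentially reduced (affine-locally, every nilpotent element of the irrelevant ideal of
𝒮(U) vanishes). If Proj(𝒮) is integral and dominant over Y, then 𝒮 is integral: over every nonempty
affine open U, 𝒮(U) is an integral domain with nonzero irrelevant ideal (for Y integral, the
affine-local form of the stalkwise condition of the text). -/
theorem result {Y P : Scheme.{u}} [IsIntegral Y] (𝒮 : RelProj.QCGrAlg Y)
    (h0 : ∀ (U : Y.Opens) (hU : IsAffineOpen U), Function.Bijective (𝒮.strZero U hU).hom)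
    (hred : ∀ (U : Y.Opens) (hU : IsAffineOpen U) (x : 𝒮.presheaf.obj (op U)),
      x ∈ (𝒮.deg U hU)₊ → IsNilpotent x → x = 0)
    (p : P ⟶ Y)
    (chart : ∀ (U : Y.Opens) (hU : IsAffineOpen U), (((p ⁻¹ᵁ U : P.Opens) : Scheme.{u}) ≅ Proj (𝒮.deg U hU)))
    (hP : RelProj.IsRelProj 𝒮 p chart) [IsIntegral P] (hdom : DenseRange p.base)
    (U : Y.Opens) (hU : IsAffineOpen U) (hne : (U : Set Y).Nonempty) :
    IsDomain (𝒮.presheaf.obj (op U)) ∧ ((𝒮.deg U hU)₊).toIdeal ≠ ⊥ := by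
  classical
  obtain ⟨_, ⟨x0, rfl⟩, hx0⟩ : ∃ y ∈ Set.range p.base, y ∈ U := by
    obtain ⟨y, h1, h2⟩ := (dense_iff_inter_open.1 hdom) _ U.2 hne
    exact ⟨y, h2, h1⟩
  haveI : Nonempty U := ⟨⟨_, hx0⟩⟩
  set g := genericPoint P with hg
  have hgen : ∀ (O : P.Opens), (∃ x, x ∈ O) → g ∈ O := fun O ⟨x, hx⟩ =>
    (genericPoint_specializes x).mem_open O.2 hx
  have hgU : p.base g ∈ U := hgen (p ⁻¹ᵁ U) ⟨x0, hx0⟩
  let η : ProjectiveSpectrum (𝒮.deg U hU) := (chart U hU).hom.base ⟨g, hgU⟩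
  have hη : ∀ x : ProjectiveSpectrum (𝒮.deg U hU), η ≤ x := fun x => by
    rw [ProjectiveSpectrum.le_iff_mem_closure, ← specializes_iff_mem_closure]
    obtain ⟨y, rfl⟩ := (chart U hU).hom.surjective (show Proj (𝒮.deg U hU) from x)
    exact ((Topology.IsInducing.subtypeVal.specializes_iff).1
      (genericPoint_specializes y.1 : g ⤳ _)).map (chart U hU).hom.continuous
  have hne0 : ((𝒮.deg U hU)₊).toIdeal ≠ ⊥ := fun h => by
    refine η.not_irrelevant_le ?_
    intro z hz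
    change z ∈ ((𝒮.deg U hU)₊).toIdeal at hz
    rw [h, Ideal.mem_bot] at hz
    rw [hz]; exact zero_mem _
  have hpos : ∀ f ∈ ((𝒮.deg U hU)₊).toIdeal, f ∈ η.asHomogeneousIdeal → f = 0 := fun f hf hfη =>
    hred U hU f hf ((Groth.Ega2Proj.isNilpotent_iff_forall_point _ hf).2 fun x => hη x hfη)
  have hzero : ∀ c : 𝒮.deg U hU 0, (c : 𝒮.presheaf.obj (op U)) ∈ η.asHomogeneousIdeal → c = 0 := by
    intro c hc
    obtain ⟨r, rfl⟩ := (h0 U hU).2 c
    by_contra hr
    have hr0 : r ≠ 0 := fun h => hr (by rw [h, map_zero])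
    have hD : p.base g ∈ Y.basicOpen r := by
      have hne' : (Y.basicOpen r : Set Y).Nonempty := by
        rw [Set.nonempty_iff_ne_empty]
        intro h
        exact hr0 ((basicOpen_eq_bot_iff r).1 (TopologicalSpace.Opens.ext h))
      obtain ⟨y, h1, ⟨x, rfl⟩⟩ := (dense_iff_inter_open.1 hdom) _ (Y.basicOpen r).2 hne'
      exact hgen (p ⁻¹ᵁ Y.basicOpen r) ⟨x, h1⟩
    have hD' : (Spec.map (𝒮.strZero U hU)).base ((Proj.toSpecZero (𝒮.deg U hU)).base
        ((chart U hU).hom.base ⟨g, hgU⟩)) ∈ hU.fromSpec ⁻¹ᵁ Y.basicOpen r :=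
      Groth.Agent.S8265.mem_aux (hP.chart_over U hU) ⟨g, hgU⟩ (Y.basicOpen r) hD
    rw [hU.fromSpec_preimage_basicOpen] at hD'
    exact Groth.Agent.S8265.not_mem_aux (𝒮.strZero U hU) _ r hD'
      ((Groth.Ega2Proj.mem_toSpecZero_iff (𝒮.deg U hU) _ ((𝒮.strZero U hU).hom r)).2 hc)
  have hbot : η.asHomogeneousIdeal.toIdeal = ⊥ := by
    refine (Submodule.eq_bot_iff _).2 fun a ha => ?_
    rw [← DirectSum.sum_support_decompose (𝒮.deg U hU) a]
    refine Finset.sum_eq_zero fun i _ => ?_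
    have hi := η.asHomogeneousIdeal.isHomogeneous i ha
    rcases Nat.eq_zero_or_pos i with rfl | hi'
    · rw [hzero _ hi]; rfl
    · exact hpos _ (HomogeneousIdeal.mem_irrelevant_of_mem _ hi' (SetLike.coe_mem _)) hi
  haveI : (⊥ : Ideal (𝒮.presheaf.obj (op U))).IsPrime := hbot ▸ η.isPrime
  exact ⟨IsDomain.of_bot_isPrime _, hne0⟩

end Groth.Agent.S8265
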