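import Groth.Statements.S8266
import Groth.Agent.Ega2Proj2.RelProjProps
import Groth.Agent.Ega2Proj2.ProjFinite

set_option autoImplicit false
universe u
open CategoryTheory CategoryTheory.Limits AlgebraicGeometry Opposite TopologicalSpace
open scoped HomogeneousIdeal
open EGA2

namespace Groth.Agent.S8266

/-- If the quasi-coherent positively graded O_Y-algebra 𝒮 is essentially reduced (affine-locally, no
nonzero nilpotent element in the irrelevant ideal), then Proj(𝒮) is reduced. -/
theorem result {Y P : Scheme.{u}} (𝒮 : RelProj.QCGrAlg Y)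
    (hred : ∀ (U : Y.Opens) (hU : IsAffineOpen U) (x : 𝒮.presheaf.obj (op U)),
      x ∈ (𝒮.deg U hU)₊ → IsNilpotent x → x = 0)
    (p : P ⟶ Y)
    (chart : ∀ (U : Y.Opens) (hU : IsAffineOpen U), (((p ⁻¹ᵁ U : P.Opens) : Scheme.{u}) ≅ Proj (𝒮.deg U hU)))
    (hP : RelProj.IsRelProj 𝒮 p chart) : IsReduced P := by
  haveI : ∀ U : (Groth.Ega2P2.projCharts hP).cover.I₀,
      IsReduced ((Groth.Ega2P2.projCharts hP).cover.X U) := fun U =>
    Groth.Ega2P2.isReduced_proj (hred U.1 U.2)
  exact IsReduced.of_openCover (𝒰 := (Groth.Ega2P2.projCharts hP).cover)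

end Groth.Agent.S8266
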