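import Groth.Statements.S8267
import Groth.Agent.SymAlg.Univ
import Groth.Agent.Ega2Proj.QAffFactor
import Groth.Agent.QCohMod.FiniteType
import Mathlib

set_option autoImplicit false
universe u
open CategoryTheory CategoryTheory.Limits AlgebraicGeometry Opposite TopologicalSpace
open EGA2

namespace Groth.Agent.S8267

/-- Let E be a quasi-coherent O_S-module of finite type and A (through j : E → A) its symmetric algebra.
Then the vector bundle V(E) = Spec(A) is of finite type over S, i.e. its (affine) structure morphism
is locally of finite type. -/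
theorem result {S : Scheme.{u}} (E : S.Modules) (hE : Coh.IsCoh E)
    (A : RelSpec.QCAlg S) (j : E ⟶ A.toModule) (hA : RelSpec.IsSymAlg E A j) :
    LocallyOfFiniteType A.π := by
  refine Groth.Ega2Proj.QAff.locallyOfFiniteType_π A fun W hW => ?_
  have := hE.1
  have hfin : Module.Finite Γ(S, W) Γ(E, W) := Groth.QCohMod.finite_sections E hE.2 hW
  have h1 : (algebraMap Γ(S, W) (SymmetricAlgebra Γ(S, W) Γ(E, W))).FiniteType := by
    rw [RingHom.finiteType_algebraMap]
    classical
    obtain ⟨t, ht⟩ := hfin.fg_top
    refine ⟨⟨t.image (SymmetricAlgebra.ι Γ(S, W) Γ(E, W)), eq_top_iff.2 fun x _ => ?_⟩⟩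
    induction x using SymmetricAlgebra.induction with
    | algebraMap r => exact Subalgebra.algebraMap_mem _ r
    | ι m =>
      rw [Finset.coe_image]
      refine Algebra.span_le_adjoin Γ(S, W) _ ?_
      rw [← Submodule.map_span, ht]
      exact ⟨m, Submodule.mem_top, rfl⟩
    | mul a b ha hb => exact mul_mem (ha trivial) (hb trivial)
    | add a b ha hb => exact add_mem (ha trivial) (hb trivial)
  have hbij := Groth.SymAlg.bijective_liftSec hA hW
  have : (A.str.app (op W)).hom = (Groth.SymAlg.liftSec A j W).comp (algebraMap Γ(S, W) _) :=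
    RingHom.ext fun r => (Groth.SymAlg.liftSec_algebraMap A j W r).symm
  rw [this]
  exact (RingHom.FiniteType.of_surjective _ hbij.2).comp h1

end Groth.Agent.S8267
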