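import Groth.Statements.S8268
import Groth.Agent.SymAlg.Univ
import Groth.Agent.QCohMod.Category
import Mathlib

set_option autoImplicit false
universe u
open CategoryTheory CategoryTheory.Limits AlgebraicGeometry Opposite TopologicalSpace
open EGA2

namespace Groth.Agent.S8268

/-- A surjective homomorphism E → F of quasi-coherent O_S-modules induces a closed immersion V(F) → V(E)
of the associated vector bundles (relative spectra of the symmetric algebras; the algebra map A → B
is the one extending E → F). -/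
theorem result {S : Scheme.{u}} (E F : S.Modules) (hE : Coh.IsQCoh E)
    (hF : Coh.IsQCoh F) (u : E ⟶ F) [Epi u]
    (A B : RelSpec.QCAlg S) (j : E ⟶ A.toModule) (k : F ⟶ B.toModule)
    (hA : RelSpec.IsSymAlg E A j) (hB : RelSpec.IsSymAlg F B k)
    (ψ : A ⟶ B) (hψ : j ≫ RelSpec.QCAlg.Hom.toModuleMap ψ = u ≫ k) :
    IsClosedImmersion (RelSpec.QCAlg.specMap ψ) := by
  have := hE
  have := hF
  have hsurj : ∀ (W : S.Opens) (hW : IsAffineOpen W), Function.Surjective (ψ.hom.app (op W)).hom := by
    intro W hW b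
    obtain ⟨x, rfl⟩ := (Groth.SymAlg.bijective_liftSec hB hW).2 b
    induction x using SymmetricAlgebra.induction with
    | algebraMap r =>
      exact ⟨_, (Groth.SymAlg.hom_app_str ψ W r).trans (Groth.SymAlg.liftSec_algebraMap B k W r).symm⟩
    | ι m =>
      obtain ⟨e, rfl⟩ := Groth.QCohMod.app_surjective_of_epi u hW m
      refine ⟨Groth.QCohMod.toB A (j.app W e), ?_⟩
      rw [Groth.SymAlg.liftSec_ι]
      exact congr(($hψ).app W e)
    | mul a b ha hb =>
      obtain ⟨x, hx⟩ := ha
      obtain ⟨y, hy⟩ := hb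
      exact ⟨x * y, by rw [map_mul, map_mul, hx, hy]⟩
    | add a b ha hb =>
      obtain ⟨x, hx⟩ := ha
      obtain ⟨y, hy⟩ := hb
      exact ⟨x + y, by rw [map_add, map_add, hx, hy]⟩
  refine IsZariskiLocalAtTarget.of_openCover (P := @IsClosedImmersion) A.glueData.cover fun U => ?_
  have hpb : IsPullback (Spec.map (ψ.hom.app (op U.1))) (B.ι U.1 U.2) (A.ι U.1 U.2) (RelSpec.QCAlg.specMap ψ) := by
    refine IsOpenImmersion.isPullback _ _ _ _ (RelSpec.QCAlg.ι_specMap U.1 U.2 ψ) ?_
    rw [← A.π_preimage U.1 U.2, ← B.π_preimage U.1 U.2, ← Scheme.Hom.comp_preimage, RelSpec.QCAlg.specMap_π]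
  have hc : IsClosedImmersion (Spec.map (ψ.hom.app (op U.1))) :=
    IsClosedImmersion.spec_of_surjective _ (hsurj U.1 U.2)
  exact ((MorphismProperty.arrow_mk_iso_iff @IsClosedImmersion
    (Arrow.isoMk hpb.flip.isoPullback (Iso.refl _)
      ((IsPullback.isoPullback_hom_snd _).trans (Category.comp_id _).symm))).1 hc)

end Groth.Agent.S8268
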