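import Groth.Statements.S8271
import Groth.Agent.SymAlg.Univ
import Groth.Agent.QCohMod.Category
import Mathlib

set_option autoImplicit false
universe u
open CategoryTheory CategoryTheory.Limits AlgebraicGeometry Opposite TopologicalSpace
open EGA2

namespace Groth.Agent.S8271

/-- For quasi-coherent O_S-modules E and F, the vector bundle V(E ⊕ F) is identified with V(E) ×_S V(F):
with A_E, A_F, A the symmetric algebras of E, F, E ⊕ F and ψ_E : A_E → A, ψ_F : A_F → A the algebra
maps extending the inclusions of the two summands, the square formed by Spec(A) → Spec(A_E), Spec(A)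
→ Spec(A_F) and the two structure morphisms to S is a pullback square. -/
theorem result {S : Scheme.{u}} (E F : S.Modules) (hE : Coh.IsQCoh E) (hF : Coh.IsQCoh F)
    (AE AF A : RelSpec.QCAlg S) (jE : E ⟶ AE.toModule) (jF : F ⟶ AF.toModule) (j : E ⊞ F ⟶ A.toModule)
    (hAE : RelSpec.IsSymAlg E AE jE) (hAF : RelSpec.IsSymAlg F AF jF) (hA : RelSpec.IsSymAlg (E ⊞ F) A j)
    (ψE : AE ⟶ A) (ψF : AF ⟶ A)
    (hψE : jE ≫ RelSpec.QCAlg.Hom.toModuleMap ψE = biprod.inl ≫ j)
    (hψF : jF ≫ RelSpec.QCAlg.Hom.toModuleMap ψF = biprod.inr ≫ j) :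
    IsPullback (RelSpec.QCAlg.specMap ψE) (RelSpec.QCAlg.specMap ψF) AE.π AF.π := by
  open Groth.SymAlg Groth.QCohMod in
  have := hE
  have := hF
  -- biproduct sections
  have happ : ∀ (W : S.Opens) (x : Γ(E ⊞ F, W)),
      (biprod.inl : E ⟶ E ⊞ F).app W ((biprod.fst : E ⊞ F ⟶ E).app W x) +
        (biprod.inr : F ⟶ E ⊞ F).app W ((biprod.snd : E ⊞ F ⟶ F).app W x) = x := fun W x =>
    congr(($(biprod.total (X := E) (Y := F))).app W x)
  have : Coh.IsQCoh (E ⊞ F) := isQCoh_biprod E F
  -- the square of rings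
  have hpo : ∀ (W : S.Opens) (_ : IsAffineOpen W),
      IsPushout (AE.str.app (op W)) (AF.str.app (op W)) (ψE.hom.app (op W)) (ψF.hom.app (op W)) := by
    intro W hW
    have hcomm : AE.str.app (op W) ≫ ψE.hom.app (op W) = AF.str.app (op W) ≫ ψF.hom.app (op W) :=
      CommRingCat.hom_ext (RingHom.ext fun r => (hom_app_str ψE W r).trans (hom_app_str ψF W r).symm)
    have eE : ∀ e : Γ(E, W), (ψE.hom.app (op W)).hom (toB AE (jE.app W e)) =
        toB A (j.app W ((biprod.inl : E ⟶ E ⊞ F).app W e)) := fun e => congr(($hψE).app W e)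
    have eF : ∀ e : Γ(F, W), (ψF.hom.app (op W)).hom (toB AF (jF.app W e)) =
        toB A (j.app W ((biprod.inr : F ⟶ E ⊞ F).app W e)) := fun e => congr(($hψF).app W e)
    -- extensionality out of A(W)
    have hext : ∀ {T : CommRingCat.{u}} (f g : A.presheaf.obj (op W) ⟶ T),
        ψE.hom.app (op W) ≫ f = ψE.hom.app (op W) ≫ g → ψF.hom.app (op W) ≫ f = ψF.hom.app (op W) ≫ g → f = g := by
      intro T f g h1 h2
      refine CommRingCat.hom_ext ?_
      have key : f.hom.comp (liftSec A j W) = g.hom.comp (liftSec A j W) := Groth.SymAlg.ringHom_ext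
        (fun r => by
          have := congr(($h1).hom (bstr AE W r))
          simp only [CommRingCat.hom_comp, RingHom.comp_apply] at this ⊢
          erw [hom_app_str ψE W r] at this
          rwa [liftSec_algebraMap])
        (fun x => by
          have t1 := congr(($h1).hom (toB AE (jE.app W ((biprod.fst : E ⊞ F ⟶ E).app W x))))
          have t2 := congr(($h2).hom (toB AF (jF.app W ((biprod.snd : E ⊞ F ⟶ F).app W x))))
          simp only [CommRingCat.hom_comp, RingHom.comp_apply] at t1 t2 ⊢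
          erw [eE] at t1
          erw [eF] at t2
          rw [liftSec_ι, ← happ W x]
          change f.hom (toB A (j.app W (_ + _))) = g.hom (toB A (j.app W (_ + _)))
          erw [map_add (j.app W).hom, map_add f.hom, map_add g.hom]
          exact congrArg₂ (· + ·) t1 t2)
      exact RingHom.ext fun a => by
        obtain ⟨b, rfl⟩ := (bijective_liftSec hA hW).2 a
        exact congr($key b)
    have hdesc : ∀ s : Limits.PushoutCocone (AE.str.app (op W)) (AF.str.app (op W)),
        ∃ d : A.presheaf.obj (op W) ⟶ s.pt, ψE.hom.app (op W) ≫ d = s.inl ∧ ψF.hom.app (op W) ≫ d = s.inr := by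
      intro s
      let φ : Γ(S, W) →+* s.pt := (AE.str.app (op W) ≫ s.inl).hom
      have hφ : φ = (AF.str.app (op W) ≫ s.inr).hom := congrArg CommRingCat.Hom.hom s.condition
      let L : SymmetricAlgebra Γ(S, W) Γ(E ⊞ F, W) →+* s.pt := liftHom φ
        (AddMonoidHom.mk' (fun x => s.inl.hom (toB AE (jE.app W ((biprod.fst : E ⊞ F ⟶ E).app W x))) +
            s.inr.hom (toB AF (jF.app W ((biprod.snd : E ⊞ F ⟶ F).app W x)))) fun a b => by
          simp only [map_add]
          erw [map_add s.inl.hom, map_add s.inr.hom]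
          abel)
        fun r x => by
          simp only [AddMonoidHom.mk'_apply, Scheme.Modules.Hom.app_smul]
          erw [toB_smul, toB_smul, map_mul, map_mul, mul_add]
          refine congrArg₂ (· + ·) rfl ?_
          rw [hφ]
          rfl
      let d : A.presheaf.obj (op W) ⟶ s.pt := CommRingCat.ofHom (L.comp (RingEquiv.ofBijective (liftSec A j W) (bijective_liftSec hA hW)).symm.toRingHom)
      have hsym : ∀ x, (RingEquiv.ofBijective (liftSec A j W) (bijective_liftSec hA hW)).symm (liftSec A j W x) = x :=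
        fun x => RingEquiv.symm_apply_apply _ x
      refine ⟨d, ?_, ?_⟩
      · refine CommRingCat.hom_ext (RingHom.ext fun a => ?_)
        obtain ⟨b, rfl⟩ := (bijective_liftSec hAE hW).2 a
        refine RingHom.congr_fun (f := (ψE.hom.app (op W) ≫ d).hom.comp (liftSec AE jE W)) (g := s.inl.hom.comp (liftSec AE jE W)) (Groth.SymAlg.ringHom_ext (fun r => ?_) (fun e => ?_)) b
        · simp only [d, RingHom.comp_apply, CommRingCat.hom_comp, CommRingCat.hom_ofHom, liftSec_algebraMap]
          erw [hom_app_str ψE W r, ← liftSec_algebraMap A j W r]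
          simp only [RingEquiv.toRingHom_eq_coe, RingHom.coe_coe, hsym, L, liftHom_algebraMap]
          rfl
        · simp only [d, RingHom.comp_apply, CommRingCat.hom_comp, CommRingCat.hom_ofHom, liftSec_ι]
          erw [eE e, ← liftSec_ι A j W]
          simp only [RingEquiv.toRingHom_eq_coe, RingHom.coe_coe, hsym, L, liftHom_ι, AddMonoidHom.mk'_apply]
          have e1 : (biprod.fst : E ⊞ F ⟶ E).app W ((biprod.inl : E ⟶ E ⊞ F).app W e) = e :=
            congr(($(biprod.inl_fst (X := E) (Y := F))).app W e)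
          have e2 : (biprod.snd : E ⊞ F ⟶ F).app W ((biprod.inl : E ⟶ E ⊞ F).app W e) = 0 :=
            congr(($(biprod.inl_snd (X := E) (Y := F))).app W e)
          rw [e1, e2]
          erw [map_zero, map_zero, add_zero]
      · refine CommRingCat.hom_ext (RingHom.ext fun a => ?_)
        obtain ⟨b, rfl⟩ := (bijective_liftSec hAF hW).2 a
        refine RingHom.congr_fun (f := (ψF.hom.app (op W) ≫ d).hom.comp (liftSec AF jF W)) (g := s.inr.hom.comp (liftSec AF jF W)) (Groth.SymAlg.ringHom_ext (fun r => ?_) (fun e => ?_)) b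
        · simp only [d, RingHom.comp_apply, CommRingCat.hom_comp, CommRingCat.hom_ofHom, liftSec_algebraMap]
          erw [hom_app_str ψF W r, ← liftSec_algebraMap A j W r]
          simp only [RingEquiv.toRingHom_eq_coe, RingHom.coe_coe, hsym, L, liftHom_algebraMap]
          exact congr(($(s.condition)).hom r)
        · simp only [d, RingHom.comp_apply, CommRingCat.hom_comp, CommRingCat.hom_ofHom, liftSec_ι]
          erw [eF e, ← liftSec_ι A j W]
          simp only [RingEquiv.toRingHom_eq_coe, RingHom.coe_coe, hsym, L, liftHom_ι, AddMonoidHom.mk'_apply]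
          have e1 : (biprod.fst : E ⊞ F ⟶ E).app W ((biprod.inr : F ⟶ E ⊞ F).app W e) = 0 :=
            congr(($(biprod.inr_fst (X := E) (Y := F))).app W e)
          have e2 : (biprod.snd : E ⊞ F ⟶ F).app W ((biprod.inr : F ⟶ E ⊞ F).app W e) = e :=
            congr(($(biprod.inr_snd (X := E) (Y := F))).app W e)
          rw [e1, e2]
          erw [map_zero, map_zero, zero_add]
    choose d hd1 hd2 using hdesc
    exact ⟨⟨hcomm⟩, ⟨Limits.PushoutCocone.IsColimit.mk _ d hd1 hd2
      (fun s m hm1 hm2 => hext _ _ (hm1.trans (hd1 s).symm) (hm2.trans (hd2 s).symm))⟩⟩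
  -- glue
  have hc : RelSpec.QCAlg.specMap ψE ≫ AE.π = RelSpec.QCAlg.specMap ψF ≫ AF.π := by
    rw [RelSpec.QCAlg.specMap_π, RelSpec.QCAlg.specMap_π]
  let P := pullback AE.π AF.π
  let q : P ⟶ S := pullback.fst AE.π AF.π ≫ AE.π
  let l : A.spec ⟶ P := pullback.lift _ _ hc
  have hlq : l ≫ q = A.π := by
    simp only [l, q]
    rw [pullback.lift_fst_assoc, RelSpec.QCAlg.specMap_π]
  suffices IsIso l from IsPullback.of_iso_pullback ⟨hc⟩ (asIso l) (pullback.lift_fst _ _ _) (pullback.lift_snd _ _ _)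
  refine (IsZariskiLocalAtTarget.iff_of_iSup_eq_top (P := MorphismProperty.isomorphisms Scheme.{u})
    (fun U : S.affineOpens => q ⁻¹ᵁ U.1) ?_).2 fun U => ?_
  · rw [← Scheme.Hom.preimage_iSup, iSup_affineOpens_eq_top S, Scheme.Hom.preimage_top]
  · have hp := isPullback_SpecMap_of_isPushout _ _ _ _ (hpo U.1 U.2)
    let m := pullback.map (Spec.map (AE.str.app (op U.1))) (Spec.map (AF.str.app (op U.1))) AE.π AF.π
      (AE.ι U.1 U.2) (AF.ι U.1 U.2) U.2.fromSpec (AE.ι_π U.1 U.2).symm (AF.ι_π U.1 U.2).symm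
    let J := hp.isoPullback.hom ≫ m
    have hJ : A.ι U.1 U.2 ≫ l = J := by
      refine pullback.hom_ext ?_ ?_
      · simp only [l, J, m, Category.assoc, pullback.lift_fst, pullback.map, RelSpec.QCAlg.ι_specMap]
        rw [← Category.assoc, IsPullback.isoPullback_hom_fst]
      · simp only [l, J, m, Category.assoc, pullback.lift_snd, pullback.map, RelSpec.QCAlg.ι_specMap]
        rw [← Category.assoc, IsPullback.isoPullback_hom_snd]
    have hrange : J.opensRange = q ⁻¹ᵁ U.1 := by
      apply TopologicalSpace.Opens.ext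
      change Set.range ⇑(hp.isoPullback.hom ≫ m) = _
      rw [Scheme.Hom.comp_base, TopCat.coe_comp, Set.range_comp, (show Function.Surjective ⇑hp.isoPullback.hom from (Scheme.homeoOfIso hp.isoPullback).surjective).range_eq, Set.image_univ]
      rw [Scheme.Pullback.range_map, ← Scheme.Hom.coe_opensRange, ← Scheme.Hom.coe_opensRange,
        ← AE.π_preimage U.1 U.2, ← AF.π_preimage U.1 U.2, ← Scheme.Hom.coe_preimage, ← Scheme.Hom.coe_preimage,
        ← Scheme.Hom.comp_preimage, ← Scheme.Hom.comp_preimage, ← pullback.condition]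
      exact Set.inter_self _
    have hpb : IsPullback (𝟙 _) (A.ι U.1 U.2) J l := IsOpenImmersion.isPullback _ _ _ _ (by simpa using hJ) (by
      rw [hrange, ← Scheme.Hom.comp_preimage, hlq, A.π_preimage U.1 U.2])
    have hr : IsPullback (l ⁻¹ᵁ (q ⁻¹ᵁ U.1)).ι (l ∣_ (q ⁻¹ᵁ U.1)) l (q ⁻¹ᵁ U.1).ι :=
      (isPullback_morphismRestrict l _).flip
    let eJ : Spec (A.presheaf.obj (op U.1)) ≅ ((q ⁻¹ᵁ U.1 : P.Opens) : Scheme.{u}) :=
      IsOpenImmersion.isoOfRangeEq J (q ⁻¹ᵁ U.1).ι (by
        rw [← Scheme.Hom.coe_opensRange, hrange, Scheme.Opens.range_ι])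
    let eA : Spec (A.presheaf.obj (op U.1)) ≅ ((l ⁻¹ᵁ (q ⁻¹ᵁ U.1) : A.spec.Opens) : Scheme.{u}) :=
      IsOpenImmersion.isoOfRangeEq (A.ι U.1 U.2) (l ⁻¹ᵁ (q ⁻¹ᵁ U.1)).ι (by
        rw [Scheme.Opens.range_ι, ← Scheme.Hom.comp_preimage, hlq, A.π_preimage U.1 U.2]
        rfl)
    refine ((MorphismProperty.isomorphisms Scheme.{u}).arrow_mk_iso_iff
      (Arrow.isoMk eA eJ ?_)).1 (show IsIso (𝟙 (Spec (A.presheaf.obj (op U.1)))) from inferInstance)
    change eA.hom ≫ (l ∣_ (q ⁻¹ᵁ U.1)) = 𝟙 _ ≫ eJ.hom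
    rw [← cancel_mono (q ⁻¹ᵁ U.1).ι]
    simp [eA, eJ, morphismRestrict_ι, hJ]

end Groth.Agent.S8271
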