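import Groth.Statements.S8272
import Mathlib.AlgebraicGeometry.ProjectiveSpectrum.Proper
import Mathlib.AlgebraicGeometry.IdealSheaf.Basic

set_option autoImplicit false
universe u
open CategoryTheory CategoryTheory.Limits AlgebraicGeometry Opposite TopologicalSpace
open EGA2

namespace Groth.Agent.S8272

/-- Let T be a positively graded ring, Z = Proj T and g ∈ T_d (d > 0) a homogeneous element that is not
a zero divisor in T. Then Z is the smallest closed subscheme of Z containing the open D_+(g);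
equivalently the kernel (ideal sheaf) of the open immersion D_+(g) → Z vanishes. -/
theorem result {R A : Type u} [CommRing R] [CommRing A] [Algebra R A]
    (𝒜 : ℕ → Submodule R A) [GradedAlgebra 𝒜] {d : ℕ} (hd : 0 < d) (g : A) (hg : g ∈ 𝒜 d)
    (hnz : g ∈ nonZeroDivisors A) :
    (Proj.basicOpen 𝒜 g).ι.ker = ⊥ := by
  classical
  haveI : IsAffine ((Proj.basicOpen 𝒜 g : (Proj 𝒜).Opens) : Scheme.{u}) :=
    Proj.isAffineOpen_basicOpen 𝒜 g hg hd
  haveI : IsAffineHom (Proj.basicOpen 𝒜 g).ι := MorphismProperty.of_postcomp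
    (W := @IsAffineHom) (W' := @IsSeparated) _ (Limits.terminal.from _) inferInstance inferInstance
  refine Scheme.IdealSheafData.ext_of_iSup_eq_top
    (fun s : Σ i : PNat, 𝒜 i ↦ ⟨Proj.basicOpen 𝒜 (s.2 : A),
      Proj.isAffineOpen_basicOpen 𝒜 _ s.2.2 s.1.pos⟩) ?_ fun s ↦ ?_
  · refine top_le_iff.mp fun y _ ↦ ?_
    obtain ⟨s, x, rfl⟩ : ∃ (s : Σ i : PNat, 𝒜 i) (x : _),
        (Proj.awayι 𝒜 (s.2 : A) s.2.2 s.1.pos).base x = y :=
      (Proj.affineOpenCover 𝒜).openCover.exists_eq y
    exact TopologicalSpace.Opens.mem_iSup.mpr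
      ⟨s, (Proj.opensRange_awayι 𝒜 (s.2 : A) s.2.2 s.1.pos).le ⟨x, rfl⟩⟩
  · obtain ⟨i, f, hf⟩ := s
    rw [Scheme.Hom.ker_apply, Scheme.IdealSheafData.ideal_bot, Pi.bot_apply,
      ← RingHom.injective_iff_ker_eq_bot]
    have key : Function.Injective ((Proj 𝒜).presheaf.map
        (homOfLE (Proj.basicOpen_mono 𝒜 f (f * g) ⟨g, rfl⟩)).op).hom := by
      have hinj : Function.Injective (HomogeneousLocalization.awayMap 𝒜 hg (rfl : f * g = f * g)) := by
        intro a b hab
        obtain ⟨m, x, hx, rfl⟩ := HomogeneousLocalization.Away.mk_surjective 𝒜 hf a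
        obtain ⟨n, y, hy, rfl⟩ := HomogeneousLocalization.Away.mk_surjective 𝒜 hf b
        have hval := congrArg HomogeneousLocalization.val hab
        rw [HomogeneousLocalization.awayMap_mk, HomogeneousLocalization.awayMap_mk] at hval
        simp only [HomogeneousLocalization.Away.val_mk] at hval
        rw [Localization.mk_eq_mk_iff, Localization.r_iff_exists] at hval
        obtain ⟨⟨_, k, rfl⟩, hk⟩ := hval
        apply HomogeneousLocalization.val_injective
        simp only [HomogeneousLocalization.Away.val_mk]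
        rw [Localization.mk_eq_mk_iff, Localization.r_iff_exists]
        refine ⟨⟨f ^ k, k, rfl⟩, ?_⟩
        have hgp : g ^ (k + n + m) ∈ nonZeroDivisors A := pow_mem hnz _
        have h0 : f ^ k * (f ^ n * x) * g ^ (k + n + m) = f ^ k * (f ^ m * y) * g ^ (k + n + m) := by
          simp only at hk
          linear_combination hk
        exact mul_cancel_right_mem_nonZeroDivisors hgp |>.mp h0
      intro a b hab
      obtain ⟨a, rfl⟩ := (Proj.basicOpenIsoAway 𝒜 f hf i.pos).commRingCatIsoToRingEquiv.surjective a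
      obtain ⟨b, rfl⟩ := (Proj.basicOpenIsoAway 𝒜 f hf i.pos).commRingCatIsoToRingEquiv.surjective b
      have he := Proj.awayMap_awayToSection 𝒜 hg (rfl : f * g = f * g) (f := f)
      have h1 : (Proj.awayToSection 𝒜 (f * g)).hom (HomogeneousLocalization.awayMap 𝒜 hg rfl a) =
          (Proj.awayToSection 𝒜 (f * g)).hom (HomogeneousLocalization.awayMap 𝒜 hg rfl b) :=
        (congr($(he).hom a)).trans (hab.trans (congr($(he).hom b)).symm)
      have h2 := (Proj.basicOpenIsoAway 𝒜 (f * g) (SetLike.mul_mem_graded hf hg)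
        (i.pos.trans_le (Nat.le_add_right _ _))).commRingCatIsoToRingEquiv.injective h1
      rw [hinj h2]
    intro a b hab
    rw [Scheme.Opens.ι_app] at hab
    refine key ?_
    have e : Proj.basicOpen 𝒜 (f * g) ≤
        (Proj.basicOpen 𝒜 g).ι ''ᵁ (Proj.basicOpen 𝒜 g).ι ⁻¹ᵁ Proj.basicOpen 𝒜 f := by
      rw [Scheme.Hom.image_preimage_eq_opensRange_inf, Scheme.Opens.opensRange_ι, Proj.basicOpen_mul,
        inf_comm]
    have h3 := congrArg ((Proj 𝒜).presheaf.map (homOfLE e).op).hom hab
    exact (congr($((Proj 𝒜).presheaf.map_comp _ (homOfLE e).op).hom a)).trans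
      (h3.trans (congr($((Proj 𝒜).presheaf.map_comp _ (homOfLE e).op).hom b)).symm)

end Groth.Agent.S8272
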