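import Groth.Statements.S8273
import Groth.Agent.Ega2Proj2.RelProjBasic

set_option autoImplicit false
universe u
open CategoryTheory CategoryTheory.Limits AlgebraicGeometry Opposite TopologicalSpace
open scoped HomogeneousIdeal
open EGA2

namespace Groth.Agent.S8273

/-- Uniqueness of the relative homogeneous spectrum: two schemes over Y equipped with the chart data of
Proj(𝒮) are related by a unique morphism compatible with the charts (chartwise the identity of Proj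
𝒮(U)), and that morphism is a Y-isomorphism. -/
theorem result {Y P P' : Scheme.{u}} (𝒮 : RelProj.QCGrAlg Y) (p : P ⟶ Y)
    (chart : ∀ (U : Y.Opens) (hU : IsAffineOpen U), (((p ⁻¹ᵁ U : P.Opens) : Scheme.{u}) ≅ Proj (𝒮.deg U hU)))
    (hP : RelProj.IsRelProj 𝒮 p chart) (p' : P' ⟶ Y)
    (chart' : ∀ (U : Y.Opens) (hU : IsAffineOpen U), (((p' ⁻¹ᵁ U : P'.Opens) : Scheme.{u}) ≅ Proj (𝒮.deg U hU)))
    (hP' : RelProj.IsRelProj 𝒮 p' chart') :
    (∃! e : P ⟶ P', ∀ (U : Y.Opens) (hU : IsAffineOpen U),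
        (p ⁻¹ᵁ U).ι ≫ e = (chart U hU).hom ≫ (chart' U hU).inv ≫ (p' ⁻¹ᵁ U).ι) ∧
      ∀ e : P ⟶ P', (∀ (U : Y.Opens) (hU : IsAffineOpen U),
        (p ⁻¹ᵁ U).ι ≫ e = (chart U hU).hom ≫ (chart' U hU).inv ≫ (p' ⁻¹ᵁ U).ι) → IsIso e ∧ e ≫ p' = p := by
  have key : ∀ e : P ⟶ P', (∀ (U : Y.Opens) (hU : IsAffineOpen U),
      (p ⁻¹ᵁ U).ι ≫ e = (chart U hU).hom ≫ (chart' U hU).inv ≫ (p' ⁻¹ᵁ U).ι) ↔
      ∀ (U : Y.Opens) (hU : IsAffineOpen U),
        RelProj.emb p chart U hU ≫ e = RelProj.emb p' chart' U hU :=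
    fun e => forall₂_congr fun U hU => Groth.Ega2P2.ι_comp_eq_iff e U hU _
  simp only [key]
  refine ⟨Groth.Ega2P2.emb_existsUnique hP _ (RelProj.map_res_emb hP'), fun e he => ?_⟩
  obtain ⟨e', he', -⟩ := Groth.Ega2P2.emb_existsUnique hP' _ (RelProj.map_res_emb hP)
  refine ⟨⟨e', Groth.Ega2P2.emb_hom_ext hP fun U hU => ?_,
    Groth.Ega2P2.emb_hom_ext hP' fun U hU => ?_⟩, Groth.Ega2P2.emb_hom_ext hP fun U hU => ?_⟩
  · rw [reassoc_of% (he U hU), he' U hU, Category.comp_id]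
  · rw [reassoc_of% (he' U hU), he U hU, Category.comp_id]
  · rw [reassoc_of% (he U hU), Groth.Ega2P2.emb_p hP', Groth.Ega2P2.emb_p hP]

end Groth.Agent.S8273
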