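import Groth.Statements.S8283
import Groth.Agent.FlatMor2.FibCrit.Fibre
import Groth.Agent.Ega4Algebra2.RegularImmersion
import Groth.Agent.Divisors.EffCartier
import Groth.Agent.SchemeMorphisms.Points
import Mathlib.RingTheory.DiscreteValuationRing.TFAE
import Mathlib.RingTheory.Filtration

set_option autoImplicit false
universe u
open CategoryTheory CategoryTheory.Limits AlgebraicGeometry Opposite TopologicalSpace
open EGA2

namespace Groth.Agent.S8283


/-- A Noetherian local ring whose maximal ideal is generated by a nonzerodivisor is a discrete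
valuation ring. -/
theorem exists_isDVR_of_maximalIdeal_span {F : Type u} [CommRing F] [IsLocalRing F]
    [IsNoetherianRing F] (t : F) (ht : ∀ y, t * y = 0 → y = 0)
    (hm : IsLocalRing.maximalIdeal F = Ideal.span {t}) :
    ∃ _ : IsDomain F, IsDiscreteValuationRing F := by
  have key : ∀ x : F, x ≠ 0 → ∃ (n : ℕ) (w : F), IsUnit w ∧ x = t ^ n * w := by
    intro x hx
    by_contra hc
    have hall : ∀ n : ℕ, x ∈ Ideal.span {t} ^ n := by
      intro n
      rw [Ideal.span_singleton_pow, Ideal.mem_span_singleton]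
      induction n with
      | zero => exact ⟨x, by rw [pow_zero, one_mul]⟩
      | succ n ih =>
        obtain ⟨w, hw⟩ := ih
        have hwm : w ∈ IsLocalRing.maximalIdeal F := fun hu => hc ⟨n, w, hu, hw⟩
        rw [hm, Ideal.mem_span_singleton] at hwm
        obtain ⟨w', rfl⟩ := hwm
        exact ⟨w', by rw [hw, pow_succ, mul_assoc]⟩
    have h0 : (⨅ n : ℕ, Ideal.span {t} ^ n) = ⊥ :=
      Ideal.iInf_pow_eq_bot_of_isLocalRing _ (hm ▸ (IsLocalRing.maximalIdeal.isMaximal F).ne_top)
    exact hx (by rw [← Ideal.mem_bot, ← h0]; exact Submodule.mem_iInf _ |>.2 hall)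
  have hpow : ∀ (n : ℕ) (y : F), t ^ n * y = 0 → y = 0 := by
    intro n
    induction n with
    | zero => intro y h; rwa [pow_zero, one_mul] at h
    | succ n ih => intro y h; rw [pow_succ, mul_assoc] at h; exact ht y (ih _ h)
  have : NoZeroDivisors F := ⟨fun {a b} hab => by
    by_contra h
    rw [not_or] at h
    obtain ⟨n, w, hw, rfl⟩ := key a h.1
    obtain ⟨m, w', hw', rfl⟩ := key b h.2
    have h1 : t ^ (n + m) * (w * w') = 0 := by rw [← hab]; ring
    exact (hw.mul hw').ne_zero (hpow _ _ h1)⟩
  have : IsDomain F := NoZeroDivisors.to_isDomain F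
  refine ⟨inferInstance, ?_⟩
  have ht0 : t ≠ 0 := fun h => one_ne_zero (ht 1 (by rw [h, zero_mul]))
  have hnf : ¬ IsField F := fun h => ht0 (by
    rw [← Ideal.mem_bot, ← (IsLocalRing.isField_iff_maximalIdeal_eq.1 h), hm]
    exact Ideal.mem_span_singleton_self t)
  exact ((IsDiscreteValuationRing.TFAE F hnf).out 0 4).2
    (show (IsLocalRing.maximalIdeal F).IsPrincipal from ⟨⟨t, by rw [hm, Ideal.submodule_span_eq]⟩⟩)

/-- The section splits off the ideal generated by the maximal ideal of the base. -/
theorem sub_mem_span_mul {A R B : Type u} [CommRing A] [CommRing R] [CommRing B]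
    (φ : A →+* R) (ε : R →+* B) (hb : Function.Bijective (ε.comp φ)) (t : R)
    (hker : RingHom.ker ε = Ideal.span {t}) (I : Ideal A) (ht : t ∈ nonZeroDivisors R) (r : R)
    (hr : t * r ∈ I.map φ) : r ∈ I.map φ := by
  let e := RingEquiv.ofBijective (ε.comp φ) hb
  let ρ : R →+* A := e.symm.toRingHom.comp ε
  have hρ : ∀ a, ρ (φ a) = a := fun a => e.symm_apply_apply a
  have hker' : ∀ s, ρ s = 0 → s ∈ Ideal.span {t} := fun s hs => by
    rw [← hker, RingHom.mem_ker]
    exact (map_eq_zero_iff e.symm e.symm.injective).1 hs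
  have hmain : ∀ y ∈ I.map φ, ∃ r' ∈ I.map φ, y - φ (ρ y) = t * r' := by
    intro y hy
    refine Submodule.span_induction ?_ ⟨0, zero_mem _, by simp⟩ ?_ ?_ hy
    · rintro _ ⟨m, -, rfl⟩
      exact ⟨0, zero_mem _, by rw [hρ, sub_self, mul_zero]⟩
    · rintro x y - - ⟨a, ha, hxa⟩ ⟨b, hb', hyb⟩
      exact ⟨a + b, add_mem ha hb', by rw [map_add, map_add, mul_add, ← hxa, ← hyb]; ring⟩
    · rintro s x hxI ⟨a, ha, hxa⟩
      obtain ⟨c, hc⟩ := Ideal.mem_span_singleton.1 (hker' (s - φ (ρ s)) (by rw [map_sub, hρ, sub_self]))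
      refine ⟨φ (ρ s) * a + c * x, add_mem (Ideal.mul_mem_left _ _ ha) (Ideal.mul_mem_left _ _ hxI), ?_⟩
      rw [smul_eq_mul, map_mul, map_mul, mul_add, ← mul_assoc t c x, ← hc,
        show t * (φ (ρ s) * a) = φ (ρ s) * (t * a) by ring, ← hxa]
      ring
  obtain ⟨r', hr', he⟩ := hmain _ hr
  have h0 : ρ (t * r) = 0 := by
    show e.symm (ε (t * r)) = 0
    rw [show ε (t * r) = 0 from RingHom.mem_ker.1 (hker ▸ Ideal.mul_mem_right r _ (Ideal.mem_span_singleton_self t)), map_zero]
  rw [h0, map_zero, sub_zero] at he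
  have h1 : (r - r') * t = 0 := by rw [sub_mul, mul_comm r, mul_comm r', he, sub_self]
  exact (sub_eq_zero.1 ((mem_nonZeroDivisors_iff_right.1 ht) _ h1)).symm ▸ hr'

/-- Let π : V → X be locally of finite type and j : X → V a section of π that is a closed immersion with
invertible ideal sheaf. Then for every x ∈ X the local ring at j(x) of the fibre π⁻¹(π(j(x))) =
π⁻¹(x) is a regular local ring of dimension one, i.e. a discrete valuation ring (so j(x) lies on a
single irreducible component of the fibre; the completion of that local ring is then a power-series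
ring in one variable over the residue field of x). (The published statement assumes π of finite
type; this row assumes only that π is locally of finite type, which is all the proof uses: it needs
no more than the Noetherian property of the local rings of the fibre.) -/
theorem result {X V : Scheme.{u}} (π : V ⟶ X) [LocallyOfFiniteType π]
    (j : X ⟶ V) [IsClosedImmersion j] (hj : j ≫ π = 𝟙 X) (hJ : BlowUp.IsEffCartierIdeal j.ker) (x : X) :
    ∃ _ : IsDomain ((π.fiber (π.base (j.base x))).presheaf.stalk (π.asFiber (j.base x))),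
      IsDiscreteValuationRing ((π.fiber (π.base (j.base x))).presheaf.stalk (π.asFiber (j.base x))) := by
  set v := j.base x
  obtain ⟨hsurj, hker⟩ := Groth.FlatMor2.FibCrit.fiber_stalk_of_eq π (π.base v) (π.asFiber v) v
    (π.fiberι_asFiber v)
  set ψ := ((V.presheaf.stalkCongr (.of_eq (π.fiberι_asFiber v))).inv ≫
    (π.fiberι (π.base v)).stalkMap (π.asFiber v)).hom
  obtain ⟨W, hvW, -, g, hg, hI⟩ := Groth.Divisors.exists_generator hJ v ⊤ trivial
  set t := V.presheaf.germ W.1 v hvW g
  have hkt : RingHom.ker (j.stalkMap x).hom = Ideal.span {t} := by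
    rw [Groth.Ega4b.ker_stalkMap_eq_map j W.2 x hvW, hI, Ideal.map_span, Set.image_singleton]
  have hiso : IsOpenImmersion (j ≫ π) := by rw [hj]; infer_instance
  have hb : Function.Bijective ((j.stalkMap x).hom.comp (π.stalkMap v).hom) := by
    rw [← CommRingCat.hom_comp, ← Scheme.Hom.stalkMap_comp]
    have : IsIso ((j ≫ π).stalkMap x) := (IsOpenImmersion.iff_isIso_stalkMap.1 hiso).2 x
    exact (asIso ((j ≫ π).stalkMap x)).commRingCatIsoToRingEquiv.bijective
  have htm : t ∈ IsLocalRing.maximalIdeal (V.presheaf.stalk v) := fun hu => by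
    have h0 : (j.stalkMap x).hom t = 0 :=
      RingHom.mem_ker.1 (hkt ▸ Ideal.mem_span_singleton_self t)
    exact not_isUnit_zero (h0 ▸ hu.map (j.stalkMap x).hom)
  have := Groth.SchemeMorphisms.isLocallyNoetherian_fiber π (π.base v)
  refine exists_isDVR_of_maximalIdeal_span (ψ t) (fun y hy => ?_) ?_
  · obtain ⟨r, rfl⟩ := hsurj y
    rw [← map_mul, ← RingHom.mem_ker, hker] at hy
    rw [← RingHom.mem_ker, hker]
    exact sub_mem_span_mul _ _ hb t hkt _ (hg v hvW) r hy
  · refine le_antisymm (fun y hy => ?_) (Ideal.span_le.2 (Set.singleton_subset_iff.2 fun hu => ?_))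
    · obtain ⟨r, rfl⟩ := hsurj y
      have hr : ¬ IsUnit r := fun h => hy (h.map ψ)
      let e := RingEquiv.ofBijective _ hb
      set a := e.symm ((j.stalkMap x).hom r)
      have h1 : r - (π.stalkMap v).hom a ∈ Ideal.span {t} := by
        rw [← hkt, RingHom.mem_ker, map_sub, sub_eq_zero]
        exact (e.apply_symm_apply _).symm
      have h2 : (π.stalkMap v).hom a ∈ RingHom.ker ψ := by
        rw [hker]
        refine Ideal.mem_map_of_mem _ fun hu => hr ?_
        have h3 : IsUnit ((π.stalkMap v).hom a) := hu.map _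
        by_contra hn
        have h4 : (π.stalkMap v).hom a ∈ IsLocalRing.maximalIdeal (V.presheaf.stalk v) := by
          have h5 := (Ideal.span_le.2 (Set.singleton_subset_iff.2 htm)) h1
          have h6 := sub_mem (show r ∈ IsLocalRing.maximalIdeal (V.presheaf.stalk v) from hn) h5
          rwa [sub_sub_cancel] at h6
        exact h4 h3
      obtain ⟨c, hc⟩ := Ideal.mem_span_singleton.1 h1
      rw [show r = t * c + (π.stalkMap v).hom a by rw [← hc]; ring, map_add, RingHom.mem_ker.1 h2,
        add_zero, map_mul]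
      exact Ideal.mem_span_singleton.2 ⟨ψ c, rfl⟩
    · obtain ⟨w, hw⟩ := hu.exists_right_inv
      obtain ⟨w, rfl⟩ := hsurj w
      have h1 : t * w - 1 ∈ RingHom.ker ψ := by
        rw [RingHom.mem_ker, map_sub, map_mul, hw, map_one, sub_self]
      rw [hker] at h1
      have hle : (IsLocalRing.maximalIdeal (X.presheaf.stalk (π.base v))).map (π.stalkMap v).hom ≤
          IsLocalRing.maximalIdeal (V.presheaf.stalk v) :=
        Ideal.map_le_iff_le_comap.2 fun m hm hu => hm (isUnit_of_map_unit _ _ hu)
      have h2 := sub_mem (Ideal.mul_mem_right w _ htm) (hle h1)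
      rw [sub_sub_cancel] at h2
      exact h2 isUnit_one

end Groth.Agent.S8283
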