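import Groth.Statements.S8288
import Groth.Agent.RelTwist.Twist

set_option autoImplicit false
universe u
open CategoryTheory CategoryTheory.Limits AlgebraicGeometry Opposite TopologicalSpace
open scoped HomogeneousIdeal
noncomputable section
open EGA2

namespace Groth.Agent.S8288

/-- For a global section f of 𝒮 of degree d > 0 and the open X_f of P = Proj(𝒮) it defines, the twisting
sheaf O_P(nd) restricted to X_f is isomorphic to the structure sheaf of X_f, for every integer n
(existence of an isomorphism; the published identification is canonical). -/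
theorem result {Y P : Scheme.{u}} (𝒮 : RelProj.QCGrAlg Y) (p : P ⟶ Y)
    (chart : ∀ (U : Y.Opens) (hU : IsAffineOpen U), (((p ⁻¹ᵁ U : P.Opens) : Scheme.{u}) ≅ Proj (𝒮.deg U hU)))
    (hP : RelProj.IsRelProj 𝒮 p chart) {d : ℕ} (hd : 0 < d) (f : 𝒮.presheaf.obj (op ⊤))
    (hf : ∀ (U : Y.Opens) (hU : IsAffineOpen U), (𝒮.presheaf.map (homOfLE le_top).op).hom f ∈ 𝒮.deg U hU d)
    (Xf : P.Opens)
    (hXf : ∀ (U : Y.Opens) (hU : IsAffineOpen U),
      Xf ⊓ p ⁻¹ᵁ U =
        (p ⁻¹ᵁ U).ι ''ᵁ ((chart U hU).hom ⁻¹ᵁ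
          Proj.basicOpen (𝒮.deg U hU) ((𝒮.presheaf.map (homOfLE le_top).op).hom f)))
    (n : ℤ) (L : P.Modules)
    (lam : ∀ (U : Y.Opens) (hU : IsAffineOpen U),
      L ⟶ (Scheme.Modules.pushforward (RelProj.emb p chart U hU)).obj (GrTwist.twist (𝒮.deg U hU) (n * (d : ℤ))))
    (hL : RelProj.IsRelTwist 𝒮 p chart (n * (d : ℤ)) L lam) :
    Nonempty (L.restrict Xf.ι ≅ Coh.structureModule (Xf : Scheme.{u})) := by
  exact Groth.RelTw.nonempty_restrict_iso_structure hP hL f hf hXf (k := n) rfl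

end Groth.Agent.S8288
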