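import Groth.Statements.S8289
import Groth.Agent.Ega2Proj2.ConeImm

set_option autoImplicit false
universe u
open CategoryTheory CategoryTheory.Limits AlgebraicGeometry Opposite TopologicalSpace
open scoped HomogeneousIdeal
noncomputable section
open EGA2

namespace Groth.Agent.S8289

/-- The canonical morphism i from the affine cone to the projective cone: let 𝒮 be a quasi-coherent
positively graded O_Y-algebra with 𝒮_0 = O_Y, Ŝ = 𝒮[z] (z of degree one; presented through a graded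
homomorphism ι : 𝒮 → Ŝ and a degree-one global section z with 𝒮(U)[X] → Ŝ(U), X ↦ z, bijective on
affine opens), C = Spec(𝒮) and Ĉ = Proj(Ŝ). There is a unique morphism i : C → Ĉ which, on the chart
Spec 𝒮(U) of C over an affine open U, is Spec of the ring isomorphism Ŝ(U)_(z) ≅ 𝒮(U) (sending x/z^k
to x for x homogeneous of degree k) followed by the inclusion of D_+(z|U) into Proj Ŝ(U) and the
chart of Ĉ; this i is an open immersion, affine, lies over Y, Ĉ is the smallest closed subscheme of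
Ĉ containing its image (its kernel ideal sheaf is zero), and its image is the open Ĉ_z where the
section z does not vanish (characterised chartwise by D_+(z|U)). -/
theorem result {Y PC : Scheme.{u}} (𝒮 Sh : RelProj.QCGrAlg Y)
    (h0 : ∀ (U : Y.Opens) (hU : IsAffineOpen U), Function.Bijective (𝒮.strZero U hU).hom)
    (ι : 𝒮.toQCAlg ⟶ Sh.toQCAlg) (hι : RelProj.IsGradedHom ι) (z : Sh.presheaf.obj (op ⊤))
    (hz : ∀ (U : Y.Opens) (hU : IsAffineOpen U), (Sh.presheaf.map (homOfLE le_top).op).hom z ∈ Sh.deg U hU 1)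
    (hpoly : ∀ (U : Y.Opens) (hU : IsAffineOpen U),
      Function.Bijective (Polynomial.eval₂RingHom (ι.hom.app (op U)).hom ((Sh.presheaf.map (homOfLE le_top).op).hom z)))
    (pC : PC ⟶ Y)
    (chartC : ∀ (U : Y.Opens) (hU : IsAffineOpen U), (((pC ⁻¹ᵁ U : PC.Opens) : Scheme.{u}) ≅ Proj (Sh.deg U hU)))
    (hPC : RelProj.IsRelProj Sh pC chartC)
    (θ : ∀ (U : Y.Opens) (hU : IsAffineOpen U),
      CommRingCat.of (HomogeneousLocalization.Away (Sh.deg U hU) ((Sh.presheaf.map (homOfLE le_top).op).hom z)) ⟶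
        𝒮.presheaf.obj (op U))
    (hθ : ∀ (U : Y.Opens) (hU : IsAffineOpen U)
      (q : HomogeneousLocalization.Away (Sh.deg U hU) ((Sh.presheaf.map (homOfLE le_top).op).hom z))
      (k : ℕ) (x : 𝒮.presheaf.obj (op U)), x ∈ 𝒮.deg U hU k →
        q.val = Localization.mk ((ι.hom.app (op U)).hom x)
          ⟨(Sh.presheaf.map (homOfLE le_top).op).hom z ^ k,
            pow_mem (Submonoid.mem_powers ((Sh.presheaf.map (homOfLE le_top).op).hom z)) k⟩ →
        (θ U hU).hom q = x) :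
    (∃! i : 𝒮.toQCAlg.spec ⟶ PC, ∀ (U : Y.Opens) (hU : IsAffineOpen U),
        𝒮.toQCAlg.ι U hU ≫ i =
          Spec.map (θ U hU) ≫
            Proj.awayι (Sh.deg U hU) ((Sh.presheaf.map (homOfLE le_top).op).hom z) (hz U hU) one_pos ≫
              RelProj.emb pC chartC U hU) ∧
      ∀ i : 𝒮.toQCAlg.spec ⟶ PC, (∀ (U : Y.Opens) (hU : IsAffineOpen U),
        𝒮.toQCAlg.ι U hU ≫ i =
          Spec.map (θ U hU) ≫
            Proj.awayι (Sh.deg U hU) ((Sh.presheaf.map (homOfLE le_top).op).hom z) (hz U hU) one_pos ≫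
              RelProj.emb pC chartC U hU) →
        IsOpenImmersion i ∧ IsAffineHom i ∧ i ≫ pC = 𝒮.toQCAlg.π ∧ i.ker = ⊥ ∧
          ∀ Xz : PC.Opens, (∀ (U : Y.Opens) (hU : IsAffineOpen U),
            Xz ⊓ pC ⁻¹ᵁ U =
              (pC ⁻¹ᵁ U).ι ''ᵁ ((chartC U hU).hom ⁻¹ᵁ
                Proj.basicOpen (Sh.deg U hU) ((Sh.presheaf.map (homOfLE le_top).op).hom z))) →
            Set.range i.base = (Xz : Set PC) := by
  let h : RelCone.IsPolyOver 𝒮 Sh ι z := ⟨hι, hz, hpoly⟩
  have hθ' : ∀ (U : Y.Opens) (hU : IsAffineOpen U),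
      θ U hU = CommRingCat.ofHom (h.awayZToBase U hU) := fun U hU ↦
    CommRingCat.hom_ext (Groth.Ega2P2.away_hom_ext h hU fun i a ha ↦
      (hθ U hU _ i a ha (Groth.Ega2P2.iotaDiv_val h hU a ha)).trans
        (Groth.Ega2P2.awayZToBase_iotaDiv h hU a ha).symm)
  simp only [hθ']
  refine ⟨Groth.Ega2P2.existsUnique_coneImm h hPC, fun i hi ↦
    ⟨Groth.Ega2P2.isOpenImmersion_coneImm h hPC hi, Groth.Ega2P2.isAffineHom_coneImm h hPC hi,
      Groth.Ega2P2.coneImm_comp_p h hPC hi, Groth.Ega2P2.ker_coneImm h hPC hi, fun Xz hXz ↦ ?_⟩⟩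
  rw [Groth.Ega2P2.range_coneImm h hPC hi]
  refine congrArg SetLike.coe (TopologicalSpace.Opens.ext (Set.ext fun x ↦ ?_))
  obtain ⟨U, hU, y, rfl⟩ : ∃ (U : Y.Opens) (hU : IsAffineOpen U) (y : Proj (Sh.deg U hU)),
      (RelProj.emb pC chartC U hU).base y = x := (Groth.Ega2P2.projCharts hPC).exists_eq x
  have hmem : (RelProj.emb pC chartC U hU).base y ∈ pC ⁻¹ᵁ U :=
    (Groth.Ega2P2.projCharts hPC).map_mem hU y
  have e := (Groth.Ega2P2.globalOpen_inf hPC z U hU).trans
    ((Groth.Ega2P2.ι_image_chart_eq U hU _).symm.trans (hXz U hU).symm)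
  exact ⟨fun hx ↦ ((SetLike.ext_iff.mp e ((RelProj.emb pC chartC U hU).base y)).mp ⟨hx, hmem⟩).1,
    fun hx ↦ ((SetLike.ext_iff.mp e ((RelProj.emb pC chartC U hU).base y)).mpr ⟨hx, hmem⟩).1⟩

end Groth.Agent.S8289
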