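import Groth.Statements.S8303
import Groth.Agent.AdicLinTop.SpacePres
import Groth.Agent.QCohMod.FTCriterion

set_option autoImplicit false
universe u
open CategoryTheory CategoryTheory.Limits AlgebraicGeometry Opposite TopologicalSpace
noncomputable section
open EGA2

namespace Groth.Agent.S8303

open Groth.QCohMod (res resFun res_res res_smul exists_pow_smul_eq_res exists_pow_smul_eq_zero)

theorem sections_away {X : Scheme.{u}} (F : X.Modules) [F.IsQuasicoherent] {A : X.Opens}
    (hA : IsAffineOpen A) {n : ℕ} (s : Fin n → Γ(F, A)) (hs : Submodule.span Γ(X, A) (Set.range s) = ⊤)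
    (g : Γ(X, A)) {D : X.Opens} (hD : D = X.basicOpen g) (hDA hDA' : D ≤ A) (t : Γ(F, D)) :
    ∃ a : Fin n → Γ(X, D), t = ∑ i, a i • res F hDA' (s i) := by
  subst hD
  obtain ⟨k, m, hm⟩ := exists_pow_smul_eq_res F hA g t
  obtain ⟨c, hc⟩ := (Submodule.mem_span_range_iff_exists_fun _).mp (hs.ge (Submodule.mem_top (x := m)))
  have hu0 : IsUnit (resFun X hDA' g) := RingedSpace.isUnit_res_basicOpen X.toRingedSpace g
  obtain ⟨u, hu⟩ := hu0.pow k
  refine ⟨fun i => (↑u⁻¹ : Γ(X, X.basicOpen g)) * resFun X hDA' (c i), ?_⟩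
  have e : res F hDA' m = ∑ i, resFun X hDA' (c i) • res F hDA' (s i) := by
    rw [← hc, map_sum]
    exact Finset.sum_congr rfl fun i _ => res_smul F _ _ _
  calc t = (↑u⁻¹ : Γ(X, X.basicOpen g)) • ((↑u : Γ(X, X.basicOpen g)) • t) := by
        rw [smul_smul, Units.inv_mul, one_smul]
    _ = _ := by
        rw [hu]
        refine (congrArg _ (hm.symm.trans e)).trans ?_
        simp only [Finset.smul_sum, smul_smul]

theorem span_eq_top_of_local {X S : Scheme.{u}} (f : X ⟶ S) [IsAffineHom f] (F : X.Modules)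
    [F.IsQuasicoherent] {U : S.Opens} (hU : IsAffineOpen U) {n : ℕ} (s : Fin n → Γ(F, f ⁻¹ᵁ U))
    (h : ∀ (m : Γ(F, f ⁻¹ᵁ U)), ∀ y ∈ U, ∃ (V : S.Opens) (hV : V ≤ U), y ∈ V ∧
      ∃ a : Fin n → Γ(X, f ⁻¹ᵁ V),
        res F (f.preimage_mono hV) m = ∑ i, a i • res F (f.preimage_mono hV) (s i)) :
    Submodule.span Γ(X, f ⁻¹ᵁ U) (Set.range s) = ⊤ := by
  set N := Submodule.span Γ(X, f ⁻¹ᵁ U) (Set.range s)
  refine eq_top_iff.mpr fun m _ => ?_
  let J : Ideal Γ(X, f ⁻¹ᵁ U) := Submodule.comap (LinearMap.toSpanSingleton _ _ m) N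
  suffices hJ : J = ⊤ by
    simpa [J] using (show (1 : Γ(X, f ⁻¹ᵁ U)) ∈ J from hJ ▸ Submodule.mem_top)
  let T : Set Γ(S, U) := {r | f.app U r ∈ J.radical}
  have hT : Ideal.span T = ⊤ := by
    refine hU.self_le_iSup_basicOpen_iff.mp fun y hy => ?_
    obtain ⟨V, hV, hyV, a, ha⟩ := h m y hy
    obtain ⟨r, hyr, hrV⟩ := Groth.QCohMod.exists_basicOpen_mem hU hy hyV
    refine Opens.mem_iSup.mpr ⟨⟨r, ?_⟩, hyr⟩
    let g : Γ(X, f ⁻¹ᵁ U) := f.app U r
    have hgV : X.basicOpen g ≤ f ⁻¹ᵁ V := (f.preimage_basicOpen r).symm.le.trans (f.preimage_mono hrV)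
    have hm : res F (X.basicOpen_le g) m =
        ∑ i, resFun X hgV (a i) • res F (X.basicOpen_le g) (s i) := by
      have := congrArg (res F hgV) ha
      rw [map_sum] at this
      simpa only [res_res, res_smul] using this
    have key : ∀ x ∈ Submodule.span Γ(X, X.basicOpen g) (Set.range fun i => res F (X.basicOpen_le g) (s i)),
        ∃ (k : ℕ) (y : Γ(F, f ⁻¹ᵁ U)), y ∈ N ∧ res F (X.basicOpen_le g) y = resFun X (X.basicOpen_le g) g ^ k • x := by
      intro x hx
      induction hx using Submodule.span_induction with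
      | mem x hx =>
        obtain ⟨i, rfl⟩ := hx
        exact ⟨0, s i, Submodule.subset_span ⟨i, rfl⟩, by rw [pow_zero, one_smul]⟩
      | zero => exact ⟨0, 0, zero_mem _, by rw [map_zero, smul_zero]⟩
      | add x₁ x₂ _ _ h₁ h₂ =>
        obtain ⟨k, y₁, hy₁, e₁⟩ := h₁
        obtain ⟨l, y₂, hy₂, e₂⟩ := h₂
        refine ⟨k + l, g ^ l • y₁ + g ^ k • y₂, add_mem (N.smul_mem _ hy₁) (N.smul_mem _ hy₂), ?_⟩
        rw [map_add, res_smul, res_smul, e₁, e₂, smul_smul, smul_smul, map_pow, map_pow, smul_add,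
          pow_add]
        congr 1
        rw [mul_comm]
      | smul b x _ hx =>
        obtain ⟨k, y, hy, e⟩ := hx
        haveI := (hU.preimage f).isLocalization_basicOpen g
        obtain ⟨⟨c, _, l, rfl⟩, hc⟩ := IsLocalization.surj (Submonoid.powers g) b
        refine ⟨k + l, c • y, N.smul_mem _ hy, ?_⟩
        rw [res_smul, e, smul_smul, smul_smul, pow_add]
        have hc' : b * resFun X (X.basicOpen_le g) (g ^ l) = resFun X (X.basicOpen_le g) c := hc
        rw [← hc', map_pow]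
        congr 1
        ring
    obtain ⟨k, y', hy', e⟩ := key _ (hm ▸ Submodule.sum_mem _ fun i _ =>
      Submodule.smul_mem _ _ (Submodule.subset_span (Set.mem_range_self i)))
    obtain ⟨l, hl⟩ := exists_pow_smul_eq_zero F (hU.preimage f) g (t := y' - g ^ k • m)
      (by rw [map_sub, res_smul, e, map_pow, sub_self])
    refine ⟨l + k, ?_⟩
    show g ^ (l + k) • m ∈ N
    rw [smul_sub, sub_eq_zero, smul_smul, ← pow_add] at hl
    exact hl ▸ N.smul_mem _ hy'
  have hle : (Ideal.span T).map (f.app U).hom ≤ J.radical := by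
    rw [Ideal.map_span, Ideal.span_le]
    rintro _ ⟨r, hr, rfl⟩
    exact hr
  rw [hT, Ideal.map_top, top_le_iff, Ideal.radical_eq_top] at hle
  exact hle

/-- For the algebra f_*O_X of a scheme X affine over S: let f : X → S be an affine morphism and F a
quasi-coherent O_X-module. Then F is of finite type (locally on X generated by finitely many
sections) if and only if the direct image f_*F is of finite type as a module over the sheaf of rings
f_*O_X (locally on S generated by finitely many sections over f_*O_X). -/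
theorem result {X S : Scheme.{u}} (f : X ⟶ S) [IsAffineHom f]
    (F : X.Modules) (hF : Coh.IsQCoh F) :
    SheafOfModules.IsFiniteType.{u} (R := X.ringCatSheaf) F ↔
      SheafOfModules.IsFiniteType.{u} (R := AMod.ringSheaf (RelSpec.QCAlg.directImage f)) ((AMod.dirImg f).obj F) := by
  haveI : F.IsQuasicoherent := hF
  classical
  constructor
  · intro h
    refine Groth.AdicLinTop.SpacePres.isFiniteType_of_genData
      (O := ⟨(RelSpec.QCAlg.directImage f).presheaf, (RelSpec.QCAlg.directImage f).isSheaf⟩)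
      (M := (AMod.dirImg f).obj F) fun x => ?_
    obtain ⟨U, hU, hxU, -⟩ := exists_isAffineOpen_mem_and_subset (x := x) (U := (⊤ : S.Opens)) trivial
    haveI := Groth.QCohMod.finite_sections F (show CohB1.IsFT F from h) (hU.preimage f)
    obtain ⟨n, s, hs⟩ := Module.Finite.exists_fin (R := Γ(X, f ⁻¹ᵁ U)) (M := Γ(F, f ⁻¹ᵁ U))
    refine ⟨U, n, hxU, ⟨{ s := s, gen := fun W hW t y hy => ?_ }⟩⟩
    obtain ⟨r, hyr, hrW⟩ := Groth.QCohMod.exists_basicOpen_mem hU (hW hy) hy
    refine ⟨S.basicOpen r, hrW, hyr, ?_⟩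
    exact sections_away F (hU.preimage f) s hs (f.app U r) (f.preimage_basicOpen r) (f.preimage_mono (S.basicOpen_le r)) _
      (Groth.QCohMod.res F (f.preimage_mono hrW) t)
  · intro h
    refine Groth.QCohMod.isFT_of_affine_cover F fun x => ?_
    obtain ⟨σ, hσ⟩ := h.exists_localGeneratorsData
    obtain ⟨i, hi⟩ := Opens.mem_iSup.mp
      (((Opens.coversTop_iff (U := σ.X)).mp σ.coversTop).ge (Set.mem_univ (f.base x)))
    obtain ⟨n, P, -⟩ := @Groth.AdicLinTop.SpacePres.nonempty_genData _ _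
      (⟨(RelSpec.QCAlg.directImage f).presheaf, (RelSpec.QCAlg.directImage f).isSheaf⟩)
      ((AMod.dirImg f).obj F) _ (σ.generators i) (hσ.isFiniteType i)
    obtain ⟨U, hU, hxU, hUi⟩ := exists_isAffineOpen_mem_and_subset (x := f.base x) (U := σ.X i) hi
    let Q := P.restrict (U' := U) hUi
    refine ⟨f ⁻¹ᵁ U, hU.preimage f, hxU, Module.Finite.of_fg_top ?_⟩
    have hspan : Submodule.span Γ(X, f ⁻¹ᵁ U) (Set.range (show Fin n → Γ(F, f ⁻¹ᵁ U) from Q.s)) = ⊤ := by
      refine span_eq_top_of_local f F hU _ fun m y hy => ?_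
      obtain ⟨V, hV, hyV, a, ha⟩ := Q.gen U le_rfl m y hy
      exact ⟨V, hV, hyV, a, ha⟩
    rw [← hspan]
    exact Submodule.fg_span (Set.finite_range _)

end Groth.Agent.S8303
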