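import Groth.Statements.S8304
import Groth.Agent.SymAlg.HomAff

set_option autoImplicit false
universe u
open CategoryTheory CategoryTheory.Limits AlgebraicGeometry Opposite TopologicalSpace
open scoped HomogeneousIdeal
noncomputable section
open EGA2

namespace Groth.Agent.S8304

/-- At the level of graded algebras: let E be a quasi-coherent O_Y-module and 𝒮 = Sym(E) its graded
symmetric algebra (j : E → 𝒮 landing in degree one), and let Ŝ = 𝒮[z] be given through a graded
homomorphism ι : 𝒮 → Ŝ and a global section z of degree one with 𝒮(U)[X] → Ŝ(U), X ↦ z, bijective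
over every affine open U. If k : O_Y → Ŝ is a module homomorphism sending the unit section to z over
every open, then Ŝ together with the map E ⊕ O_Y → Ŝ whose components are j followed by ι, and k, is
the graded symmetric algebra of E ⊕ O_Y. Consequently the projective cone of V(E) = Spec(Sym E),
which is Proj(Ŝ), is the projective bundle P(E ⊕ O_Y), and its locus at infinity Proj(𝒮) is P(E). -/
theorem result {Y : Scheme.{u}} (E : Y.Modules) (hE : Coh.IsQCoh E)
    (𝒮 𝒮h : RelProj.QCGrAlg Y) (j : E ⟶ 𝒮.toModule) (hS : RelProj.IsGrSymAlg E 𝒮 j)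
    (ι : 𝒮.toQCAlg ⟶ 𝒮h.toQCAlg) (z : 𝒮h.presheaf.obj (op ⊤)) (hz : RelCone.IsPolyOver 𝒮 𝒮h ι z)
    (k : Coh.structureModule Y ⟶ 𝒮h.toModule)
    (hk : ∀ U : Y.Opens, (k.app U) (1 : Γ(Y, U)) = RelCone.restrictTop 𝒮h z U) :
    RelProj.IsGrSymAlg (E ⊞ Coh.structureModule Y) 𝒮h
      (biprod.desc (j ≫ RelSpec.QCAlg.Hom.toModuleMap ι) k) := by
  constructor
  · intro B φ
    obtain ⟨ψ₁, hψ₁, huniq⟩ := hS.1 B (biprod.inl ≫ φ)
    let b : ∀ U : Y.Opens, B.presheaf.obj (op U) := fun U => (biprod.inr ≫ φ).app U (1 : Γ(Y, U))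
    have hb : ∀ {U D : Y.Opens} (h : D ≤ U), Groth.QCohMod.bres B h (b U) = b D := fun {U D} h =>
      (Groth.QCohMod.res_app (biprod.inr ≫ φ) h (1 : Γ(Y, U))).trans
        (congrArg _ (map_one (Y.presheaf.map (homOfLE h).op).hom))
    let f : ∀ U : Y.Opens, IsAffineOpen U → (𝒮h.presheaf.obj (op U) →+* B.presheaf.obj (op U)) := fun U hU =>
      (Polynomial.eval₂RingHom (ψ₁.hom.app (op U)).hom (b U)).comp (hz.polyEquiv U hU).symm.toRingHom
    have hfι : ∀ U hU x, f U hU ((ι.hom.app (op U)).hom x) = (ψ₁.hom.app (op U)).hom x := by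
      intro U hU x
      have e : hz.polyEquiv U hU (Polynomial.C x) = (ι.hom.app (op U)).hom x := by
        rw [hz.polyEquiv_apply, Polynomial.eval₂_C]
      simp [f, ← e]
    have hfz : ∀ U hU, f U hU (RelCone.restrictTop 𝒮h z U) = b U := by
      intro U hU
      have e : hz.polyEquiv U hU Polynomial.X = RelCone.restrictTop 𝒮h z U := by
        rw [hz.polyEquiv_apply, Polynomial.eval₂_X]
      simp [f, ← e]
    have hext : ∀ (U : Y.Opens), IsAffineOpen U → ∀ {C : CommRingCat.{u}} (g g' : 𝒮h.presheaf.obj (op U) →+* C),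
        (∀ x, g ((ι.hom.app (op U)).hom x) = g' ((ι.hom.app (op U)).hom x)) →
        g (RelCone.restrictTop 𝒮h z U) = g' (RelCone.restrictTop 𝒮h z U) → g = g' := by
      intro U hU C g g' h₁ h₂
      refine RingHom.ext fun x => ?_
      obtain ⟨q, rfl⟩ := (hz.bij U hU).2 x
      exact congr($(Polynomial.ringHom_ext (f := g.comp _) (g := g'.comp _)
        (fun a => by simpa using h₁ a) (by simpa using h₂)) q)
    obtain ⟨ψ, hψ⟩ := Groth.SymAlg.exists_qcHom (A := 𝒮h.toQCAlg) (B := B) f
      (fun U D hU hD h _ x => by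
        refine congr($(hext U hU ((f D hD).comp (Groth.QCohMod.bres 𝒮h.toQCAlg h))
          ((Groth.QCohMod.bres B h).comp (f U hU)) (fun a => ?_) ?_) x)
        · have e : Groth.QCohMod.bres 𝒮h.toQCAlg h ((ι.hom.app (op U)).hom a) =
              (ι.hom.app (op D)).hom (Groth.QCohMod.bres 𝒮.toQCAlg h a) :=
            congr(($(ι.hom.naturality (homOfLE h).op)).hom a).symm
          rw [RingHom.comp_apply, RingHom.comp_apply, e]
          exact (hfι D hD _).trans ((congr(($(ψ₁.hom.naturality (homOfLE h).op)).hom a)).trans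
            (congrArg (Groth.QCohMod.bres B h) (hfι U hU a)).symm)
        · have e : Groth.QCohMod.bres 𝒮h.toQCAlg h (RelCone.restrictTop 𝒮h z U) =
              RelCone.restrictTop 𝒮h z D :=
            Groth.QCohMod.bres_bres 𝒮h.toQCAlg le_top h z
          rw [RingHom.comp_apply, RingHom.comp_apply, e]
          exact (hfz D hD).trans ((hb h).symm.trans (congrArg (Groth.QCohMod.bres B h) (hfz U hU)).symm))
      (fun U hU r => by
        rw [← Groth.SymAlg.hom_app_str ι U r, hfι]
        exact Groth.SymAlg.hom_app_str ψ₁ U r)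
    refine ⟨ψ, biprod.hom_ext' _ _ ?_ ?_, fun ψ' hψ' => ?_⟩
    · rw [biprod.inl_desc_assoc, Category.assoc]
      refine Groth.SymAlg.modHom_ext fun U hU e => ?_
      refine ((hψ U hU _).trans (hfι U hU _)).trans ?_
      exact congr(($hψ₁).app U e)
    · rw [biprod.inr_desc_assoc]
      refine Groth.SymAlg.modHom_ext fun U hU (r : Γ(Y, U)) => ?_
      have e : r = r • (1 : Γ(Y, U)) := (mul_one r).symm
      rw [e]
      refine ((k ≫ RelSpec.QCAlg.Hom.toModuleMap ψ).app_smul r _).trans ?_
      refine (congrArg (r • ·) ?_).trans ((biprod.inr ≫ φ).app_smul r _).symm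
      change (ψ.hom.app (op U)).hom ((k.app U) (1 : Γ(Y, U))) = _
      rw [hk, hψ U hU, hfz]
    · refine Groth.SymAlg.qcHom_ext fun U hU x => ?_
      rw [hψ U hU x]
      refine congr($(hext U hU (ψ'.hom.app (op U)).hom (f U hU) (fun a => ?_) ?_) x)
      · rw [hfι]
        have e : ι ≫ ψ' = ψ₁ := huniq _ (by
          have := congr(biprod.inl ≫ $hψ')
          rwa [biprod.inl_desc_assoc, Category.assoc] at this)
        exact congr((($e).hom.app (op U)).hom a)
      · rw [hfz]
        have e : k ≫ RelSpec.QCAlg.Hom.toModuleMap ψ' = biprod.inr ≫ φ := by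
          rw [← hψ', biprod.inr_desc_assoc]
        exact (congrArg (ψ'.hom.app (op U)).hom (hk U).symm).trans congr(($e).app U (1 : Γ(Y, U)))
  · intro U hU x
    have e : x = (biprod.fst ≫ biprod.inl (X := E) (Y := Coh.structureModule Y) +
        biprod.snd ≫ biprod.inr).app U x := by
      rw [biprod.total]; rfl
    rw [e, Scheme.Modules.Hom.add_app]
    erw [map_add]
    refine add_mem ?_ ?_
    · change (biprod.inl ≫ biprod.desc (j ≫ RelSpec.QCAlg.Hom.toModuleMap ι) k).app U _ ∈ _
      rw [biprod.inl_desc]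
      exact hz.graded U hU 1 _ (hS.2 U hU _)
    · change (biprod.inr ≫ biprod.desc (j ≫ RelSpec.QCAlg.Hom.toModuleMap ι) k).app U _ ∈ _
      rw [biprod.inr_desc]
      have key : ∀ c : Γ(Y, U), (k.app U) (c : Γ(Coh.structureModule Y, U)) =
          (𝒮h.str.app (op U)).hom c * RelCone.restrictTop 𝒮h z U := fun c => by
        rw [← hk U]
        exact (congrArg (k.app U) (mul_one c).symm).trans (k.app_smul c (1 : Γ(Y, U)))
      have h0 := SetLike.mul_mem_graded (A := 𝒮h.deg U hU)
        (𝒮h.str_mem U hU ((biprod.snd : E ⊞ Coh.structureModule Y ⟶ _).app U x : Γ(Y, U))) (hz.deg_z U hU)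
      rw [zero_add, ← key] at h0
      exact h0

end Groth.Agent.S8304
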