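import Groth.Statements.S8305
import Groth.Agent.OmegaSheaf.IsoLocal
import Groth.Agent.QCohMod.QCQS
import Groth.Agent.AlgSpBasic.EqualizerOpen

set_option autoImplicit false
universe u
open CategoryTheory CategoryTheory.Limits AlgebraicGeometry Opposite TopologicalSpace
noncomputable section
open EGA2

namespace Groth.Agent.S8305

/-- Let X and Y be schemes affine over S with structure morphisms gX and gY, h : Y → X a morphism over
S, F a quasi-coherent O_X-module, G a quasi-coherent O_Y-module and v : F → h_*G a homomorphism of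
O_X-modules, so that (h, v) is a morphism of pairs (Y, G) → (X, F). Then h and v are isomorphisms if
and only if the direct-image algebra homomorphism A(h) : gX_*O_X → gY_*O_Y and the direct image A(v)
= gX_*(v) : gX_*F → gX_*h_*G are isomorphisms (the pair (A(h), A(v)) is a di-isomorphism). -/
theorem result {X Y S : Scheme.{u}} (gX : X ⟶ S) [IsAffineHom gX]
    (gY : Y ⟶ S) [IsAffineHom gY] (h : Y ⟶ X) (hh : h ≫ gX = gY)
    (F : X.Modules) (G : Y.Modules) (hF : Coh.IsQCoh F) (hG : Coh.IsQCoh G)
    (v : F ⟶ (Scheme.Modules.pushforward h).obj G) :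
    (IsIso h ∧ IsIso v) ↔
      (IsIso (AffAlg.algHom gX gY h hh) ∧ IsIso ((Scheme.Modules.pushforward gX).map v)) := by
  subst hh
  haveI : IsAffineHom h := IsAffineHom.of_comp h gX
  haveI : F.IsQuasicoherent := hF
  haveI : G.IsQuasicoherent := hG
  haveI := Groth.QCohMod.isQCoh_pushforward G h
  have happ : ∀ U : S.Opens, (AffAlg.algHom gX (h ≫ gX) h rfl).app (Opposite.op U) = h.app (gX ⁻¹ᵁ U) := by
    intro U
    simp [AffAlg.algHom]
    rfl
  constructor
  · rintro ⟨_, _⟩
    refine ⟨?_, inferInstance⟩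
    haveI : ∀ U, IsIso ((AffAlg.algHom gX (h ≫ gX) h rfl).app U) := fun U => by
      rw [← Opposite.op_unop U, happ]
      exact (inferInstance : IsIso (h.app (gX ⁻¹ᵁ U.unop)))
    exact NatIso.isIso_of_isIso_app _
  · rintro ⟨_, _⟩
    have hb : ∀ U : S.Opens, IsIso (h.app (gX ⁻¹ᵁ U)) := fun U => by
      have h1 : IsIso ((AffAlg.algHom gX (h ≫ gX) h rfl).app (Opposite.op U)) := NatIso.isIso_app_of_isIso _ _
      rw [happ] at h1
      exact h1
    constructor
    · refine (IsZariskiLocalAtTarget.iff_of_iSup_eq_top (P := MorphismProperty.isomorphisms Scheme)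
        (fun U : S.affineOpens => gX ⁻¹ᵁ U.1) ?_).2 fun U => ?_
      · exact TopologicalSpace.IsOpenCover.comap (iSup_affineOpens_eq_top S) gX.base.hom
      · haveI : IsAffine (gX ⁻¹ᵁ U.1 : X.Opens).toScheme := U.2.preimage gX
        haveI : IsAffine (h ⁻¹ᵁ (gX ⁻¹ᵁ U.1) : Y.Opens).toScheme := (U.2.preimage gX).preimage h
        refine Groth.AlgSpBasic.isIso_of_bijective_appTop _ ?_
        haveI := hb U.1
        haveI h9 : IsIso (h.app ((gX ⁻¹ᵁ U.1 : X.Opens).ι ''ᵁ ⊤)) := by
          rw [Scheme.Opens.ι_image_top]; infer_instance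
        haveI : IsIso (h ∣_ (gX ⁻¹ᵁ U.1)).appTop := by
          rw [Scheme.Hom.appTop, morphismRestrict_app]
          exact IsIso.comp_isIso' h9 (Functor.map_isIso _ _)
        exact ConcreteCategory.bijective_of_isIso _
    · refine Groth.OmegaSheaf.isIso_of_affine_cover v fun x => ?_
      obtain ⟨U, hU, hx, -⟩ := exists_isAffineOpen_mem_and_subset (U := (⊤ : S.Opens)) (x := gX.base x) trivial
      exact ⟨gX ⁻¹ᵁ U, hU.preimage gX, hx,
        ConcreteCategory.bijective_of_isIso (((Scheme.Modules.pushforward gX).map v).app U)⟩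

end Groth.Agent.S8305
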