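import Groth.Statements.S8310
import Mathlib
-- import your own Groth.Agent.* helpers here

set_option autoImplicit false
universe u
open CategoryTheory AlgebraicGeometry
open scoped HomogeneousIdeal
open EGA2

namespace Groth.Agent.S8310

/-- Let S be a positively graded ring (an ℕ-graded R-algebra), S♮ the graded ring with S♮_n = S_[n] =
⊕_{m ≥ n} S_m (presented as a graded ring S' with an injective algebra homomorphism φ : S' → S[X]
carrying S'_n onto S_[n]·X^n), and T = S♮ ⊗_S S_0 = ⊕_n S_[n]/S_+S_[n] (presented as a graded ring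
with a surjective graded homomorphism π : S' → T whose kernel is the ideal generated by the elements
of S' corresponding to the constants in S_+); let ρ : T → S be the surjective graded homomorphism
sending the class of a ∈ S_[n] (in degree n) to the degree-n component of a, and Proj S → Proj T the
morphism it induces (a closed immersion, ρ being surjective). Then this morphism Proj S → Proj T is
bijective. -/
theorem result {R A B C : Type u} [CommRing R] [CommRing A] [Algebra R A]
    (𝒜 : ℕ → Submodule R A) [GradedAlgebra 𝒜] [CommRing B] [Algebra R B] (ℬ : ℕ → Submodule R B) [GradedAlgebra ℬ]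
    (φ : B →ₐ[R] Polynomial A) (hφ : Function.Injective φ)
    (hdeg : ∀ n : ℕ, Submodule.map φ.toLinearMap (ℬ n) =
      Submodule.map ((Polynomial.monomial n : A →ₗ[A] Polynomial A).restrictScalars R) (⨆ (m : ℕ) (_ : n ≤ m), 𝒜 m))
    [CommRing C] [Algebra R C] (𝒞 : ℕ → Submodule R C) [GradedAlgebra 𝒞]
    (π : ℬ →+*ᵍ 𝒞) (hπ : Function.Surjective π)
    (hker : RingHom.ker π.toRingHom =
      Ideal.span (⇑φ ⁻¹' (⇑(Polynomial.C : A →+* Polynomial A) '' ((HomogeneousIdeal.irrelevant 𝒜).toIdeal : Set A))))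
    (ρ : 𝒞 →+*ᵍ 𝒜) (hρ : ∀ (n : ℕ) (b : B), b ∈ ℬ n → ρ (π b) = GradedRing.proj 𝒜 n ((φ b).coeff n))
    (hirr : HomogeneousIdeal.irrelevant 𝒜 ≤ (HomogeneousIdeal.irrelevant 𝒞).map ρ) :
    Function.Bijective (Proj.map ρ hirr).base := by
  classical
  have hmemφ : ∀ (n : ℕ) (a : A), a ∈ (⨆ (m : ℕ) (_ : n ≤ m), 𝒜 m) →
      ∃ b ∈ ℬ n, φ b = Polynomial.monomial n a := fun n a ha => by
    have : Polynomial.monomial n a ∈ Submodule.map φ.toLinearMap (ℬ n) := by
      rw [hdeg]; exact ⟨a, ha, rfl⟩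
    obtain ⟨b, hb, hb'⟩ := this
    exact ⟨b, hb, hb'⟩
  have hφmem : ∀ (n : ℕ) (b : B), b ∈ ℬ n →
      ∃ a ∈ (⨆ (m : ℕ) (_ : n ≤ m), 𝒜 m), φ b = Polynomial.monomial n a := fun n b hb => by
    have : φ b ∈ Submodule.map ((Polynomial.monomial n : A →ₗ[A] Polynomial A).restrictScalars R)
        (⨆ (m : ℕ) (_ : n ≤ m), 𝒜 m) := by
      rw [← hdeg]; exact ⟨b, hb, rfl⟩
    obtain ⟨a, ha, ha'⟩ := this
    exact ⟨a, ha, ha'.symm⟩
  have hρn : ∀ n, ∀ a ∈ 𝒜 n, ∃ c, ρ c = a := fun n a ha => by
    obtain ⟨b, hb, hb'⟩ := hmemφ n a (Submodule.mem_iSup_of_mem n (Submodule.mem_iSup_of_mem le_rfl ha))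
    refine ⟨π b, ?_⟩
    rw [hρ n b hb, hb', Polynomial.coeff_monomial, if_pos rfl, GradedRing.proj_apply, DirectSum.decompose_of_mem_same _ ha]
  have hsurj : Function.Surjective ρ := fun a => by
    induction a using DirectSum.Decomposition.inductionOn 𝒜 with
    | zero => exact ⟨0, map_zero _⟩
    | homogeneous m => exact hρn _ _ m.2
    | add x y hx hy =>
      obtain ⟨u, hu⟩ := hx
      obtain ⟨v, hv⟩ := hy
      exact ⟨u + v, by rw [map_add, hu, hv]⟩
  have hsup_add : ∀ (n : ℕ) (a : A), a ∈ (⨆ (m : ℕ) (_ : n ≤ m), 𝒜 m) → GradedRing.proj 𝒜 n a = 0 →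
      a ∈ (⨆ (m : ℕ) (_ : n + 1 ≤ m), 𝒜 m) := by
    intro n a ha h0
    have key : ∀ x ∈ (⨆ (m : ℕ) (_ : n ≤ m), 𝒜 m),
        x - GradedRing.proj 𝒜 n x ∈ (⨆ (m : ℕ) (_ : n + 1 ≤ m), 𝒜 m) := by
      intro x hx
      refine Submodule.iSup_induction _ (motive := fun x => x - GradedRing.proj 𝒜 n x ∈ (⨆ (m : ℕ) (_ : n + 1 ≤ m), 𝒜 m)) hx ?_ (by simp) ?_
      · intro m y hy
        by_cases hm : n ≤ m
        · rw [iSup_pos hm] at hy
          rcases eq_or_lt_of_le hm with rfl | hlt
          · simp [GradedRing.proj_apply, DirectSum.decompose_of_mem_same _ hy]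
          · rw [GradedRing.proj_apply, DirectSum.decompose_of_mem_ne _ hy hlt.ne', sub_zero]
            exact Submodule.mem_iSup_of_mem m (Submodule.mem_iSup_of_mem hlt hy)
        · rw [iSup_neg hm, Submodule.mem_bot] at hy
          simp [hy]
      · intro u v hu hv
        rw [map_add, add_sub_add_comm]
        exact Submodule.add_mem _ hu hv
    have := key a ha
    rwa [h0, sub_zero] at this
  -- powers
  have hmul : ∀ (i j : ℕ) (x y : A), x ∈ (⨆ (m : ℕ) (_ : i ≤ m), 𝒜 m) → y ∈ (⨆ (m : ℕ) (_ : j ≤ m), 𝒜 m) →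
      x * y ∈ (⨆ (m : ℕ) (_ : i + j ≤ m), 𝒜 m) := by
    intro i j x y hx hy
    refine Submodule.iSup_induction _ (motive := fun x => x * y ∈ (⨆ (m : ℕ) (_ : i + j ≤ m), 𝒜 m)) hx ?_ (by simp)
      (fun u v hu hv => by rw [add_mul]; exact Submodule.add_mem _ hu hv)
    intro m z hz
    by_cases hm : i ≤ m
    swap
    · rw [iSup_neg hm, Submodule.mem_bot] at hz; simp [hz]
    rw [iSup_pos hm] at hz
    refine Submodule.iSup_induction _ (motive := fun y => z * y ∈ (⨆ (m : ℕ) (_ : i + j ≤ m), 𝒜 m)) hy ?_ (by simp)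
      (fun u v hu hv => by rw [mul_add]; exact Submodule.add_mem _ hu hv)
    intro l w hw
    by_cases hl : j ≤ l
    swap
    · rw [iSup_neg hl, Submodule.mem_bot] at hw; simp [hw]
    rw [iSup_pos hl] at hw
    exact Submodule.mem_iSup_of_mem (m + l) (Submodule.mem_iSup_of_mem (by omega) (SetLike.mul_mem_graded hz hw))
  have hpow : ∀ (i : ℕ) (x : A) (k : ℕ), x ∈ (⨆ (m : ℕ) (_ : i ≤ m), 𝒜 m) → x ^ (k + 1) ∈ (⨆ (m : ℕ) (_ : i * (k + 1) ≤ m), 𝒜 m) := by
    intro i x k hx
    induction k with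
    | zero => simpa using hx
    | succ k ih =>
      rw [pow_succ, show i * (k + 1 + 1) = i * (k + 1) + i by ring]
      exact hmul _ _ _ _ ih hx
  have hmono : ∀ {i j : ℕ}, i ≤ j → (⨆ (m : ℕ) (_ : j ≤ m), 𝒜 m) ≤ (⨆ (m : ℕ) (_ : i ≤ m), 𝒜 m) :=
    fun h => iSup₂_le fun m hm => le_iSup₂_of_le m (h.trans hm) le_rfl
  have hnil : ∀ (n : ℕ) (c : C), c ∈ 𝒞 n → ρ c = 0 → IsNilpotent c := by
    intro n c hc h0
    obtain ⟨b₁, hb₁⟩ := hπ c
    -- take the degree `n` component
    let b : B := GradedRing.proj ℬ n b₁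
    have hb : b ∈ ℬ n := by simp only [b, GradedRing.proj_apply]; exact Subtype.prop _
    have hπb : π b = c := by
      have key : ∀ x : B, GradedRing.proj 𝒞 n (π x) = π (GradedRing.proj ℬ n x) := by
        intro x
        induction x using DirectSum.Decomposition.inductionOn ℬ with
        | zero => simp
        | @homogeneous i m =>
          have hm : π (m : B) ∈ 𝒞 i := π.map_mem m.2
          by_cases hi : i = n
          · subst hi
            rw [GradedRing.proj_apply, GradedRing.proj_apply, DirectSum.decompose_of_mem_same _ hm,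
              DirectSum.decompose_of_mem_same _ m.2]
          · rw [GradedRing.proj_apply, GradedRing.proj_apply, DirectSum.decompose_of_mem_ne _ hm hi,
              DirectSum.decompose_of_mem_ne _ m.2 hi, map_zero]
        | add x y hx hy => simp only [map_add, hx, hy]
      rw [show π b = GradedRing.proj 𝒞 n (π b₁) from (key b₁).symm, hb₁, GradedRing.proj_apply,
        DirectSum.decompose_of_mem_same _ hc]
    obtain ⟨a, ha, hab⟩ := hφmem n b hb
    have h1 : GradedRing.proj 𝒜 n a = 0 := by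
      have := hρ n b hb
      rw [hπb, h0, hab, Polynomial.coeff_monomial, if_pos rfl] at this
      exact this.symm
    have ha' := hsup_add n a ha h1
    refine ⟨n + 1, ?_⟩
    rw [← hπb, ← map_pow]
    show b ^ (n + 1) ∈ RingHom.ker π.toRingHom
    have hirr' : a ∈ (HomogeneousIdeal.irrelevant 𝒜).toIdeal := by
      show GradedRing.proj 𝒜 0 a = 0
      refine Submodule.iSup_induction _ (motive := fun x => GradedRing.proj 𝒜 0 x = 0) ha' ?_ (by simp) (fun u v hu hv => by rw [map_add, hu, hv, add_zero])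
      intro m y hy
      by_cases hm : n + 1 ≤ m
      · rw [iSup_pos hm] at hy
        exact DirectSum.decompose_of_mem_ne _ hy (by omega)
      · rw [iSup_neg hm, Submodule.mem_bot] at hy
        simp [hy]
    obtain ⟨b₀, -, hb₀'⟩ := hmemφ 0 a (hmono (Nat.zero_le _) ha)
    have hm' : a ^ n ∈ (⨆ (m : ℕ) (_ : n * (n + 1) ≤ m), 𝒜 m) := by
      rcases n with _ | k
      · rw [pow_zero]
        exact Submodule.mem_iSup_of_mem 0 (Submodule.mem_iSup_of_mem (by simp) SetLike.GradedOne.one_mem)
      · rw [mul_comm]; exact hpow _ _ k ha'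
    obtain ⟨b', -, hb''⟩ := hmemφ _ _ hm'
    rw [show b ^ (n + 1) = b₀ * b' from hφ (by
      rw [map_pow, map_mul, hab, hb₀', hb'', Polynomial.monomial_pow, Polynomial.monomial_mul_monomial, zero_add,
        pow_succ']), hker]
    exact Ideal.mul_mem_right _ _ (Ideal.subset_span ⟨a, hirr', by rw [hb₀', Polynomial.monomial_zero_left]⟩)
  have hkerle : ∀ P : ProjectiveSpectrum 𝒞, RingHom.ker ρ.toRingHom ≤ P.asHomogeneousIdeal.toIdeal := by
    intro P z hz
    have key : ∀ (i : ℕ) (x : C), GradedRing.proj 𝒜 i (ρ x) = ρ (GradedRing.proj 𝒞 i x) := by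
      intro i x
      induction x using DirectSum.Decomposition.inductionOn 𝒞 with
      | zero => simp
      | @homogeneous j m =>
        have hm : ρ (m : C) ∈ 𝒜 j := ρ.map_mem m.2
        by_cases hi : j = i
        · subst hi
          rw [GradedRing.proj_apply, GradedRing.proj_apply, DirectSum.decompose_of_mem_same _ hm,
            DirectSum.decompose_of_mem_same _ m.2]
        · rw [GradedRing.proj_apply, GradedRing.proj_apply, DirectSum.decompose_of_mem_ne _ hm hi,
            DirectSum.decompose_of_mem_ne _ m.2 hi, map_zero]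
      | add x y hx hy => simp only [map_add, hx, hy]
    rw [← DirectSum.sum_support_decompose 𝒞 z]
    refine Ideal.sum_mem _ fun i _ => ?_
    obtain ⟨k, hk⟩ := hnil i _ (Subtype.prop (DirectSum.decompose 𝒞 z i)) (by
      have := key i z
      rw [show ρ z = 0 from hz, map_zero, GradedRing.proj_apply] at this
      exact this.symm)
    exact P.isPrime.mem_of_pow_mem k (hk ▸ Ideal.zero_mem _)
  refine ⟨fun (P Q : ProjectiveSpectrum 𝒜) h => ?_, fun (P : ProjectiveSpectrum 𝒞) => ?_⟩
  · have h' : P.asHomogeneousIdeal.toIdeal.comap ρ.toRingHom = Q.asHomogeneousIdeal.toIdeal.comap ρ.toRingHom :=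
      congrArg (fun x : ProjectiveSpectrum 𝒞 => x.asHomogeneousIdeal.toIdeal) h
    exact ProjectiveSpectrum.ext (HomogeneousIdeal.toIdeal_injective
      (Ideal.comap_injective_of_surjective ρ.toRingHom hsurj h'))
  · have hcm : (P.asHomogeneousIdeal.toIdeal.map ρ.toRingHom).comap ρ.toRingHom = P.asHomogeneousIdeal.toIdeal := by
      exact (Ideal.comap_map_of_surjective' ρ.toRingHom hsurj _).trans (sup_eq_left.2 (hkerle P))
    haveI := P.isPrime
    refine ⟨⟨P.asHomogeneousIdeal.map ρ, Ideal.map_isPrime_of_surjective (f := ρ.toRingHom) hsurj (hkerle P), fun hle => P.not_irrelevant_le fun x hx => ?_⟩,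
      ProjectiveSpectrum.ext (HomogeneousIdeal.toIdeal_injective hcm)⟩
    show x ∈ P.asHomogeneousIdeal.toIdeal
    rw [← hcm, Ideal.mem_comap]
    refine hle ?_
    show GradedRing.proj 𝒜 0 (ρ x) = 0
    have hx' : GradedRing.proj 𝒞 0 x = 0 := hx
    have key : ∀ y : C, GradedRing.proj 𝒜 0 (ρ y) = ρ (GradedRing.proj 𝒞 0 y) := by
      intro y
      induction y using DirectSum.Decomposition.inductionOn 𝒞 with
      | zero => simp
      | @homogeneous j m =>
        have hm : ρ (m : C) ∈ 𝒜 j := ρ.map_mem m.2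
        by_cases hi : j = 0
        · subst hi
          rw [GradedRing.proj_apply, GradedRing.proj_apply, DirectSum.decompose_of_mem_same _ hm,
            DirectSum.decompose_of_mem_same _ m.2]
        · rw [GradedRing.proj_apply, GradedRing.proj_apply, DirectSum.decompose_of_mem_ne _ hm hi,
            DirectSum.decompose_of_mem_ne _ m.2 hi, map_zero]
      | add x y hx hy => simp only [map_add, hx, hy]
    rw [key, hx', map_zero]

end Groth.Agent.S8310
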