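import Groth.Statements.S8311
import Mathlib
import Groth.Agent.Ega2Proj2.ProjMaps
-- import your own Groth.Agent.* helpers here

set_option autoImplicit false
universe u
open CategoryTheory AlgebraicGeometry
open scoped HomogeneousIdeal
open EGA2

namespace Groth.Agent.S8311

/-- Let S be a positively graded ring (an ℕ-graded R-algebra), S♮ the graded ring with S♮_n = S_[n] =
⊕_{m ≥ n} S_m (presented as a graded ring S' with an injective algebra homomorphism φ : S' → S[X]
carrying S'_n onto S_[n]·X^n), and T = S♮ ⊗_S S_0 = ⊕_n S_[n]/S_+S_[n] (presented as a graded ring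
with a surjective graded homomorphism π : S' → T whose kernel is the ideal generated by the elements
of S' corresponding to the constants in S_+); let ρ : T → S be the surjective graded homomorphism
sending the class of a ∈ S_[n] (in degree n) to the degree-n component of a, and Proj S → Proj T the
morphism it induces (a closed immersion, ρ being surjective). If there is n₀ such that S_{n+1} = S_1
S_n for every n ≥ n₀ (products of graded pieces as submodules), then the morphism Proj S → Proj T is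
an isomorphism. (The published statement also asserts the converse when S is Noetherian; that
converse is not correct as published: for S = k[y] with y of degree 2 the morphism is an isomorphism
of one-point schemes Spec k while S_{2m} ≠ S_1 S_{2m−1} = 0 for all m, so only the direct
implication is stated here.) -/
theorem result {R A B C : Type u} [CommRing R] [CommRing A] [Algebra R A]
    (𝒜 : ℕ → Submodule R A) [GradedAlgebra 𝒜] [CommRing B] [Algebra R B] (ℬ : ℕ → Submodule R B) [GradedAlgebra ℬ]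
    (φ : B →ₐ[R] Polynomial A) (hφ : Function.Injective φ)
    (hdeg : ∀ n : ℕ, Submodule.map φ.toLinearMap (ℬ n) =
      Submodule.map ((Polynomial.monomial n : A →ₗ[A] Polynomial A).restrictScalars R) (⨆ (m : ℕ) (_ : n ≤ m), 𝒜 m))
    [CommRing C] [Algebra R C] (𝒞 : ℕ → Submodule R C) [GradedAlgebra 𝒞]
    (π : ℬ →+*ᵍ 𝒞) (hπ : Function.Surjective π)
    (hker : RingHom.ker π.toRingHom =
      Ideal.span (⇑φ ⁻¹' (⇑(Polynomial.C : A →+* Polynomial A) '' ((HomogeneousIdeal.irrelevant 𝒜).toIdeal : Set A))))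
    (ρ : 𝒞 →+*ᵍ 𝒜) (hρ : ∀ (n : ℕ) (b : B), b ∈ ℬ n → ρ (π b) = GradedRing.proj 𝒜 n ((φ b).coeff n))
    (hirr : HomogeneousIdeal.irrelevant 𝒜 ≤ (HomogeneousIdeal.irrelevant 𝒞).map ρ)
    (hgen : ∃ n₀ : ℕ, ∀ n : ℕ, n₀ ≤ n → 𝒜 (n + 1) = 𝒜 1 * 𝒜 n) :
    IsIso (Proj.map ρ hirr) := by
  classical
  have hmemφ : ∀ (n : ℕ) (a : A), a ∈ (⨆ (m : ℕ) (_ : n ≤ m), 𝒜 m) →
      ∃ b ∈ ℬ n, φ b = Polynomial.monomial n a := fun n a ha => by
    have : Polynomial.monomial n a ∈ Submodule.map φ.toLinearMap (ℬ n) := by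
      rw [hdeg]; exact ⟨a, ha, rfl⟩
    obtain ⟨b, hb, hb'⟩ := this
    exact ⟨b, hb, hb'⟩
  have hφmem : ∀ (n : ℕ) (b : B), b ∈ ℬ n →
      ∃ a ∈ (⨆ (m : ℕ) (_ : n ≤ m), 𝒜 m), φ b = Polynomial.monomial n a := fun n b hb => by
    have : φ b ∈ Submodule.map ((Polynomial.monomial n : A →ₗ[A] Polynomial A).restrictScalars R)
        (⨆ (m : ℕ) (_ : n ≤ m), 𝒜 m) := by
      rw [← hdeg]; exact ⟨b, hb, rfl⟩
    obtain ⟨a, ha, ha'⟩ := this
    exact ⟨a, ha, ha'.symm⟩
  have hρn : ∀ n, ∀ a ∈ 𝒜 n, ∃ c ∈ 𝒞 n, ρ c = a := fun n a ha => by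
    obtain ⟨b, hb, hb'⟩ := hmemφ n a (Submodule.mem_iSup_of_mem n (Submodule.mem_iSup_of_mem le_rfl ha))
    refine ⟨π b, π.map_mem hb, ?_⟩
    rw [hρ n b hb, hb', Polynomial.coeff_monomial, if_pos rfl, GradedRing.proj_apply, DirectSum.decompose_of_mem_same _ ha]
  have hsup_add : ∀ (n : ℕ) (a : A), a ∈ (⨆ (m : ℕ) (_ : n ≤ m), 𝒜 m) → GradedRing.proj 𝒜 n a = 0 →
      a ∈ (⨆ (m : ℕ) (_ : n + 1 ≤ m), 𝒜 m) := by
    intro n a ha h0
    have key : ∀ x ∈ (⨆ (m : ℕ) (_ : n ≤ m), 𝒜 m),
        x - GradedRing.proj 𝒜 n x ∈ (⨆ (m : ℕ) (_ : n + 1 ≤ m), 𝒜 m) := by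
      intro x hx
      refine Submodule.iSup_induction _ (motive := fun x => x - GradedRing.proj 𝒜 n x ∈ (⨆ (m : ℕ) (_ : n + 1 ≤ m), 𝒜 m)) hx ?_ (by simp) ?_
      · intro m y hy
        by_cases hm : n ≤ m
        · rw [iSup_pos hm] at hy
          rcases eq_or_lt_of_le hm with rfl | hlt
          · simp [GradedRing.proj_apply, DirectSum.decompose_of_mem_same _ hy]
          · rw [GradedRing.proj_apply, DirectSum.decompose_of_mem_ne _ hy hlt.ne', sub_zero]
            exact Submodule.mem_iSup_of_mem m (Submodule.mem_iSup_of_mem hlt hy)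
        · rw [iSup_neg hm, Submodule.mem_bot] at hy
          simp [hy]
      · intro u v hu hv
        rw [map_add, add_sub_add_comm]
        exact Submodule.add_mem _ hu hv
    have := key a ha
    rwa [h0, sub_zero] at this
  obtain ⟨n₀, hn₀⟩ := hgen
  refine Groth.Ega2P2.isIso_projMap (N := n₀) ρ hirr (fun k _ y hy => hρn k y hy) fun n hn c hc h0 => ?_
  obtain ⟨b₁, hb₁⟩ := hπ c
  -- take the degree `n` component
  let b : B := GradedRing.proj ℬ n b₁
  have hb : b ∈ ℬ n := by simp only [b, GradedRing.proj_apply]; exact Subtype.prop _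
  have hπb : π b = c := by
    have key : ∀ x : B, GradedRing.proj 𝒞 n (π x) = π (GradedRing.proj ℬ n x) := by
      intro x
      induction x using DirectSum.Decomposition.inductionOn ℬ with
      | zero => simp
      | @homogeneous i m =>
        have hm : π (m : B) ∈ 𝒞 i := π.map_mem m.2
        by_cases hi : i = n
        · subst hi
          rw [GradedRing.proj_apply, GradedRing.proj_apply, DirectSum.decompose_of_mem_same _ hm,
            DirectSum.decompose_of_mem_same _ m.2]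
        · rw [GradedRing.proj_apply, GradedRing.proj_apply, DirectSum.decompose_of_mem_ne _ hm hi,
            DirectSum.decompose_of_mem_ne _ m.2 hi, map_zero]
      | add x y hx hy => simp only [map_add, hx, hy]
    rw [show π b = GradedRing.proj 𝒞 n (π b₁) from (key b₁).symm, hb₁, GradedRing.proj_apply,
      DirectSum.decompose_of_mem_same _ hc]
  obtain ⟨a, ha, hab⟩ := hφmem n b hb
  have h1 : GradedRing.proj 𝒜 n a = 0 := by
    have := hρ n b hb
    rw [hπb, h0, hab, Polynomial.coeff_monomial, if_pos rfl] at this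
    exact this.symm
  have ha' := hsup_add n a ha h1
  rw [← hπb]
  show b ∈ RingHom.ker π.toRingHom
  rw [hker]
  -- decompose `a`
  suffices key : ∀ x ∈ (⨆ (m : ℕ) (_ : n + 1 ≤ m), 𝒜 m), ∃ bx, φ bx = Polynomial.monomial n x ∧ bx ∈ Ideal.span
      (⇑φ ⁻¹' (⇑(Polynomial.C : A →+* Polynomial A) '' ((HomogeneousIdeal.irrelevant 𝒜).toIdeal : Set A))) by
    obtain ⟨bx, hbx, hbx'⟩ := key a ha'
    rwa [show b = bx from hφ (hab.trans hbx.symm)]
  intro x hx
  refine Submodule.iSup_induction _ (motive := fun x => ∃ bx, φ bx = Polynomial.monomial n x ∧ bx ∈ Ideal.span _) hx ?_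
    ⟨0, by simp, Ideal.zero_mem _⟩ (fun u v ⟨bu, hu, hu'⟩ ⟨bv, hv, hv'⟩ => ⟨bu + bv, by simp [hu, hv], Ideal.add_mem _ hu' hv'⟩)
  intro m y hy
  by_cases hm : n + 1 ≤ m
  swap
  · rw [iSup_neg hm, Submodule.mem_bot] at hy
    exact ⟨0, by simp [hy], Ideal.zero_mem _⟩
  rw [iSup_pos hm] at hy
  obtain ⟨m', rfl⟩ : ∃ m', m = m' + 1 := ⟨m - 1, by omega⟩
  rw [hn₀ m' (by omega)] at hy
  refine Submodule.mul_induction_on hy (fun s hs t ht => ?_)
    (fun u v ⟨bu, hu, hu'⟩ ⟨bv, hv, hv'⟩ => ⟨bu + bv, by simp [hu, hv], Ideal.add_mem _ hu' hv'⟩)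
  obtain ⟨b₀, -, hb₀⟩ := hmemφ 0 s (Submodule.mem_iSup_of_mem 1 (Submodule.mem_iSup_of_mem (Nat.zero_le _) hs))
  obtain ⟨b', -, hb'⟩ := hmemφ n t (Submodule.mem_iSup_of_mem m' (Submodule.mem_iSup_of_mem (by omega) ht))
  refine ⟨b₀ * b', by rw [map_mul, hb₀, hb', Polynomial.monomial_mul_monomial, zero_add],
    Ideal.mul_mem_right _ _ (Ideal.subset_span ⟨s, ?_, by rw [hb₀, Polynomial.monomial_zero_left]⟩)⟩
  show GradedRing.proj 𝒜 0 s = 0
  exact DirectSum.decompose_of_mem_ne _ hs one_ne_zero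

end Groth.Agent.S8311
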