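import Groth.Statements.S8313
import Groth.Agent.Ega2Proj.LineExchange

set_option autoImplicit false
universe u
open CategoryTheory CategoryTheory.Limits AlgebraicGeometry Opposite TopologicalSpace
open scoped HomogeneousIdeal
noncomputable section
open EGA2

namespace Groth.Agent.S8313

/-- Let L be an invertible O_Y-module and L' an inverse of L (invertible, with L ⊗ L' isomorphic to
O_Y). For L form 𝒮 = Sym(L) (graded symmetric algebra, degree-zero part O_Y), the line bundle C =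
V(L) = Spec(𝒮) with its vertex (zero) section ε attached to the augmentation, 𝒮[z] (graded
homomorphism ι and degree-one global section z, polynomial over affine opens), the projective
closure Ĉ = Proj(𝒮[z]) with its charts and the canonical open immersion i : C → Ĉ; and likewise 𝒮',
C' = V(L'), ε', 𝒮'[z'], Ĉ', i' for L'. Then there is an isomorphism Φ : Ĉ ≅ Ĉ' of schemes over Y
which maps the zero section i(ε(Y)) of Ĉ onto the locus at infinity Ĉ' − i'(C') of Ĉ', and the locus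
at infinity Ĉ − i(C) of Ĉ onto the zero section i'(ε'(Y)) of Ĉ' (both as subsets; existence of an
isomorphism — the published isomorphism is canonical and identifies the corresponding closed
subschemes). -/
theorem result {Y PC PC' : Scheme.{u}} (L L' : Y.Modules)
    (hL : PicF.IsInvertible L) (hL' : PicF.IsInvertible L') (hLq : Coh.IsQCoh L) (hL'q : Coh.IsQCoh L')
    (hLL' : Nonempty (CohB1.tensorMod L L' ≅ Coh.structureModule Y))
    (𝒮 𝒮h : RelProj.QCGrAlg Y) (j : L ⟶ 𝒮.toModule) (hS : RelProj.IsGrSymAlg L 𝒮 j)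
    (h0 : RelCone.StrZeroBij 𝒮)
    (ι : 𝒮.toQCAlg ⟶ 𝒮h.toQCAlg) (z : 𝒮h.presheaf.obj (op ⊤)) (hz : RelCone.IsPolyOver 𝒮 𝒮h ι z)
    (pC : PC ⟶ Y)
    (chartC : ∀ (U : Y.Opens) (hU : IsAffineOpen U), (((pC ⁻¹ᵁ U : PC.Opens) : Scheme.{u}) ≅ Proj (𝒮h.deg U hU)))
    (hPC : RelProj.IsRelProj 𝒮h pC chartC)
    (aug : 𝒮.toQCAlg ⟶ RelSpec.QCAlg.unit Y) (haug : RelCone.IsAugmentation 𝒮 aug)
    (ε : Y ⟶ 𝒮.toQCAlg.spec) (hε : RelCone.IsVertex 𝒮 aug ε)
    (i : 𝒮.toQCAlg.spec ⟶ PC) (hi : RelCone.IsConeImm 𝒮 hz pC chartC i)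
    (𝒮' 𝒮h' : RelProj.QCGrAlg Y) (j' : L' ⟶ 𝒮'.toModule) (hS' : RelProj.IsGrSymAlg L' 𝒮' j')
    (h0' : RelCone.StrZeroBij 𝒮')
    (ι' : 𝒮'.toQCAlg ⟶ 𝒮h'.toQCAlg) (z' : 𝒮h'.presheaf.obj (op ⊤)) (hz' : RelCone.IsPolyOver 𝒮' 𝒮h' ι' z')
    (pC' : PC' ⟶ Y)
    (chartC' : ∀ (U : Y.Opens) (hU : IsAffineOpen U), (((pC' ⁻¹ᵁ U : PC'.Opens) : Scheme.{u}) ≅ Proj (𝒮h'.deg U hU)))
    (hPC' : RelProj.IsRelProj 𝒮h' pC' chartC')
    (aug' : 𝒮'.toQCAlg ⟶ RelSpec.QCAlg.unit Y) (haug' : RelCone.IsAugmentation 𝒮' aug')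
    (ε' : Y ⟶ 𝒮'.toQCAlg.spec) (hε' : RelCone.IsVertex 𝒮' aug' ε')
    (i' : 𝒮'.toQCAlg.spec ⟶ PC') (hi' : RelCone.IsConeImm 𝒮' hz' pC' chartC' i') :
    ∃ Φ : PC ≅ PC', Φ.hom ≫ pC' = pC ∧
      Φ.hom.base '' Set.range (ε ≫ i).base = (Set.range i'.base)ᶜ ∧
        Φ.hom.base '' (Set.range i.base)ᶜ = Set.range (ε' ≫ i').base := by
  obtain ⟨φ⟩ := hLL'
  haveI : L.IsQuasicoherent := hLq
  haveI : L'.IsQuasicoherent := hL'q
  have hcov := Groth.Ega2Proj.LineEx.exists_dual φ hL'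
  obtain ⟨Φ, hΦp, hΦ⟩ := Groth.Ega2Proj.LineEx.exists_exchange (hz := hz) (hz' := hz') hS hS' hPC hPC' hcov
  refine ⟨Φ, hΦp, ?_⟩
  have hsurj : Function.Surjective Φ.hom.base := fun y => ⟨Φ.inv.base y, congr($(Φ.inv_hom_id).base y)⟩
  have key : ∀ {s : Set PC} {t : Set PC'}, (∀ x, Φ.hom.base x ∈ t ↔ x ∈ s) → Φ.hom.base '' s = t := by
    intro s t h
    rw [show s = Φ.hom.base ⁻¹' t from Set.ext fun x => (h x).symm, Set.image_preimage_eq t hsurj]
  have hE := Groth.Ega2Proj.PolyCone.pointedProjCone_eq_compl hz hPC h0 aug haug ε hε hi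
  have hE' := Groth.Ega2Proj.PolyCone.pointedProjCone_eq_compl hz' hPC' h0' aug' haug' ε' hε' hi'
  have hm := fun x => Groth.Ega2Proj.LineEx.exchange_mem hS hS' hPC hPC' hcov hΦ hi hi' x
  refine ⟨key fun x => ?_, key fun x => ?_⟩
  · rw [Set.mem_compl_iff, (hm x).1, ← SetLike.mem_coe, hE, Set.mem_compl_iff, not_not]
  · have h := (hm x).2
    rw [← SetLike.mem_coe, hE', Set.mem_compl_iff] at h
    rw [Set.mem_compl_iff, ← h, not_not]

end Groth.Agent.S8313
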