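import Groth.Statements.S8315
import Groth.Agent.Ega2Proj.PushColim
import Groth.Agent.S6160

set_option autoImplicit false
universe u
open CategoryTheory CategoryTheory.Limits AlgebraicGeometry Opposite TopologicalSpace
noncomputable section
open EGA2

namespace Groth.Agent.S8315

/-- Commutation with direct sums: in the form it takes for the direct image: let f : X → S be an affine
morphism and (F_i) a family of quasi-coherent O_X-modules. Then the canonical comparison morphism
from the direct sum of the f_*F_i to f_*(⊕ F_i), in the category of modules over the direct-image
algebra f_*O_X, is an isomorphism. (The published statement says that the module on X attached to a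
quasi-coherent f_*O_X-module commutes with direct sums; through the equivalence on quasi-coherent
modules this is the same as the direct image commuting with direct sums of quasi-coherent modules.) -/
theorem result {X S : Scheme.{u}} (f : X ⟶ S) [IsAffineHom f]
    {ι : Type u} (F : ι → X.Modules) (hF : ∀ i, Coh.IsQCoh (F i)) :
    IsIso (sigmaComparison (AMod.dirImg f) F) := by
  haveI : ∀ i, (F i).IsQuasicoherent := hF
  obtain ⟨-, hc, hr⟩ := Groth.Agent.S6160.result.{u} (AMod.strHom (RelSpec.QCAlg.directImage f))
  haveI : PreservesColimitsOfSize.{u, u} (AMod.toOS (RelSpec.QCAlg.directImage f)) := hc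
  haveI : (AMod.toOS (RelSpec.QCAlg.directImage f)).ReflectsIsomorphisms := hr
  haveI : ReflectsColimitsOfSize.{u, u} (AMod.toOS (RelSpec.QCAlg.directImage f)) :=
    reflectsColimits_of_reflectsIsomorphisms
  haveI : IsIso (sigmaComparison (Scheme.Modules.pushforward f) F) :=
    Groth.Ega2Proj.PushColim.isIso_sigmaComparison f F
  haveI : PreservesColimit (Discrete.functor F) (Scheme.Modules.pushforward f) :=
    PreservesCoproduct.of_iso_comparison _ _
  haveI : PreservesColimit (Discrete.functor F) (AMod.dirImg f ⋙ AMod.toOS (RelSpec.QCAlg.directImage f)) :=
    inferInstanceAs (PreservesColimit (Discrete.functor F) (Scheme.Modules.pushforward f))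
  haveI : PreservesColimit (Discrete.functor F) (AMod.dirImg f) :=
    preservesColimit_of_reflects_of_preserves _ (AMod.toOS (RelSpec.QCAlg.directImage f))
  infer_instance

end Groth.Agent.S8315
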