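import Groth.Statements.S8319
import Groth.Agent.Grauert.Radicial

set_option autoImplicit false
universe u
open CategoryTheory CategoryTheory.Limits AlgebraicGeometry Opposite TopologicalSpace
open scoped HomogeneousIdeal
noncomputable section
open EGA2

namespace Groth.Agent.S8319

/-- Let p : X → Y be a proper morphism with p^♯ : O_Y → p_*O_X an isomorphism, L an invertible
O_X-module ample relative to p, V = V(L) = Spec(Sym L) with projection π and zero section j0 (the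
vertex section), C a scheme over Y (structure morphism g) with a section ε and a Y-morphism q : V →
C with j0 ≫ q = p ≫ ε; let C' = Spec(𝒮') with 𝒮' = ⊕_{n≥0} p_*(L^{⊗n}) = (p∘π)_*O_V (the relative
spectrum over Y of the direct-image algebra of p∘π) and q' : V → C' the canonical Y-morphism (the
one corresponding to the identity of (p∘π)_*O_V under the universal property of the relative
spectrum); suppose moreover that q is proper and that the restriction of q to V0 = V − j0(X) is an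
open immersion whose image is exactly C − ε(Y). Then every morphism u : C' → C over Y with q = q' ≫
u is universally closed, surjective and radicial (universally injective), and its restriction to the
open complement of q'(j0(X)) — the vertex section of C' — is an open immersion whose image is
exactly C − ε(Y). -/
theorem result {X Y C : Scheme.{u}} (p : X ⟶ Y) [IsProper p] (hθ : IsIso p.c)
    (L : X.Modules) (hL : PicF.IsInvertible L) (hLq : Coh.IsQCoh L) (hamp : RelAmple.IsRelAmple p L)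
    (𝒜 : RelProj.QCGrAlg X) (jL : L ⟶ 𝒜.toModule) (hA : RelProj.IsGrSymAlg L 𝒜 jL) (h0 : RelCone.StrZeroBij 𝒜)
    (aug : 𝒜.toQCAlg ⟶ RelSpec.QCAlg.unit X) (haug : RelCone.IsAugmentation 𝒜 aug)
    (j0 : X ⟶ 𝒜.toQCAlg.spec) (hj0 : RelCone.IsVertex 𝒜 aug j0)
    (g : C ⟶ Y) (ε : Y ⟶ C) (hε : ε ≫ g = 𝟙 Y) (q : 𝒜.toQCAlg.spec ⟶ C)
    (hqg : q ≫ g = 𝒜.toQCAlg.π ≫ p) (hjq : j0 ≫ q = p ≫ ε)
    (q' : 𝒜.toQCAlg.spec ⟶ (RelSpec.QCAlg.directImage (𝒜.toQCAlg.π ≫ p)).spec)
    (hq'π : q' ≫ (RelSpec.QCAlg.directImage (𝒜.toQCAlg.π ≫ p)).π = 𝒜.toQCAlg.π ≫ p)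
    (hq' : AffAlg.algHom (RelSpec.QCAlg.directImage (𝒜.toQCAlg.π ≫ p)).π (𝒜.toQCAlg.π ≫ p) q' hq'π = (RelSpec.QCAlg.directImage (𝒜.toQCAlg.π ≫ p)).gammaMap)
    [IsProper q] (V0 : 𝒜.toQCAlg.spec.Opens) (hV0 : (V0 : Set 𝒜.toQCAlg.spec) = (Set.range j0.base)ᶜ)
    (hqo : IsOpenImmersion (V0.ι ≫ q)) (hqr : Set.range (V0.ι ≫ q).base = (Set.range ε.base)ᶜ)
    (u : (RelSpec.QCAlg.directImage (𝒜.toQCAlg.π ≫ p)).spec ⟶ C) (hug : u ≫ g = (RelSpec.QCAlg.directImage (𝒜.toQCAlg.π ≫ p)).π) (hu : q' ≫ u = q) :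
    UniversallyClosed u ∧ Function.Surjective u.base ∧ UniversallyInjective u ∧
      ∀ W : (RelSpec.QCAlg.directImage (𝒜.toQCAlg.π ≫ p)).spec.Opens, (W : Set (RelSpec.QCAlg.directImage (𝒜.toQCAlg.π ≫ p)).spec) = (q'.base '' Set.range j0.base)ᶜ →
        IsOpenImmersion (W.ι ≫ u) ∧ Set.range (W.ι ≫ u).base = (Set.range ε.base)ᶜ := by
  haveI : L.IsQuasicoherent := hLq
  obtain ⟨v, hvπ, hjv, hprop, ho, hr⟩ :=
    Groth.Grauert.DirIm.exists_structure p hθ hL hamp hA h0 haug hj0 hq'π hq' V0 hV0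
  have hP := Groth.Grauert.DirIm.pushIso_base p hθ
  haveI := hP.surjective
  haveI := Groth.Grauert.DirIm.surjective_q' p hθ hL hamp hA h0 haug hj0 hq'π hq'
  have hvu : v ≫ u = ε := hP.cancel _ _ (by rw [← Category.assoc, ← hjv, Category.assoc, hu, hjq])
  have hW : ∀ W : (RelSpec.QCAlg.directImage (𝒜.toQCAlg.π ≫ p)).spec.Opens,
      (W : Set (RelSpec.QCAlg.directImage (𝒜.toQCAlg.π ≫ p)).spec) = (Set.range v.base)ᶜ →
        IsOpenImmersion (W.ι ≫ u) ∧ Set.range (W.ι ≫ u).base = (Set.range ε.base)ᶜ := by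
    intro W hW
    let e := IsOpenImmersion.isoOfRangeEq W.ι (V0.ι ≫ q') (by rw [hr, ← hW, Scheme.Opens.range_ι])
    have he : W.ι ≫ u = e.hom ≫ (V0.ι ≫ q) := by
      rw [← hu, ← Category.assoc V0.ι, ← Category.assoc e.hom, IsOpenImmersion.isoOfRangeEq_hom_fac]
    rw [he]
    refine ⟨inferInstance, ?_⟩
    rw [← hqr, Scheme.Hom.comp_base, TopCat.coe_comp, Set.range_comp,
      show Set.range e.hom.base = Set.univ from (Scheme.homeoOfIso e).surjective.range_eq, Set.image_univ]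
  haveI : UniversallyClosed (q' ≫ u) := hu ▸ inferInstance
  have hsu : Function.Surjective u.base := fun c => by
    by_cases hc : c ∈ Set.range ε.base
    · obtain ⟨y, rfl⟩ := hc
      exact ⟨v y, congr($(hvu).base y)⟩
    · obtain ⟨z, rfl⟩ := hqr.ge hc
      exact ⟨(V0.ι ≫ q') z, congr($(show (V0.ι ≫ q') ≫ u = V0.ι ≫ q by rw [Category.assoc, hu]).base z)⟩
  have hq'j : q'.base '' Set.range j0.base = Set.range v.base := by
    rw [← Set.range_comp]
    refine Set.Subset.antisymm ?_ ?_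
    · rintro _ ⟨x, rfl⟩
      exact ⟨p x, (congr($(hjv).base x)).symm⟩
    · rintro _ ⟨y, rfl⟩
      obtain ⟨x, rfl⟩ := p.surjective y
      exact ⟨x, congr($(hjv).base x)⟩
  let W₀ : (RelSpec.QCAlg.directImage (𝒜.toQCAlg.π ≫ p)).spec.Opens :=
    ⟨(Set.range v.base)ᶜ, hr ▸ (V0.ι ≫ q').isOpenEmbedding.isOpen_range⟩
  haveI := (hW W₀ rfl).1
  exact ⟨UniversallyClosed.of_comp_surjective q' u, hsu,
    Groth.Grauert.Radicial.universallyInjective_of_section u v ε g _ hvπ hε hvu W₀ rfl (hW W₀ rfl).2.le,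
    fun W hW' => hW W (by rw [hW', hq'j])⟩

end Groth.Agent.S8319
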