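import Groth.Statements.S8320
import Groth.Agent.S8319
import Groth.Agent.Grauert.Integral
import Groth.Agent.AlgSpBasic.BirationalNormal

set_option autoImplicit false
universe u
open CategoryTheory CategoryTheory.Limits AlgebraicGeometry Opposite TopologicalSpace
open scoped HomogeneousIdeal
noncomputable section
open EGA2
set_option backward.isDefEq.respectTransparency.types false

namespace Groth.Agent.S8320

/-- Let p : X → Y be a proper morphism with p^♯ : O_Y → p_*O_X an isomorphism, L an invertible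
O_X-module ample relative to p, V = V(L) = Spec(Sym L) with projection π and zero section j0 (the
vertex section), C a scheme over Y (structure morphism g) with a section ε and a Y-morphism q : V →
C with j0 ≫ q = p ≫ ε; let C' = Spec(𝒮') with 𝒮' = ⊕_{n≥0} p_*(L^{⊗n}) = (p∘π)_*O_V (the relative
spectrum over Y of the direct-image algebra of p∘π) and q' : V → C' the canonical Y-morphism (the
one corresponding to the identity of (p∘π)_*O_V under the universal property of the relative
spectrum); suppose moreover that X is integral, that C is normal (all its local rings are integrally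
closed domains), that q is proper and that the restriction of q to V0 = V − j0(X) is an open
immersion with image exactly C − ε(Y). Then every morphism u : C' → C over Y with q = q' ≫ u is an
isomorphism. (The published statement assumes only the commutativity j0 ≫ q = p ≫ ε; this row also
assumes q proper and q restricted to V − j0(X) an open immersion onto C − ε(Y), without which the
conclusion fails: for C = Y, ε the identity and q the structure morphism of V, the morphism u is the
structure morphism C' → Y, which is not an isomorphism in general (X the projective line over a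
field k, Y = C = Spec k, L of degree one: C' is the affine plane).) -/
theorem result {X Y C : Scheme.{u}} (p : X ⟶ Y) [IsProper p] (hθ : IsIso p.c)
    (L : X.Modules) (hL : PicF.IsInvertible L) (hLq : Coh.IsQCoh L) (hamp : RelAmple.IsRelAmple p L)
    (𝒜 : RelProj.QCGrAlg X) (jL : L ⟶ 𝒜.toModule) (hA : RelProj.IsGrSymAlg L 𝒜 jL) (h0 : RelCone.StrZeroBij 𝒜)
    (aug : 𝒜.toQCAlg ⟶ RelSpec.QCAlg.unit X) (haug : RelCone.IsAugmentation 𝒜 aug)
    (j0 : X ⟶ 𝒜.toQCAlg.spec) (hj0 : RelCone.IsVertex 𝒜 aug j0)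
    (g : C ⟶ Y) (ε : Y ⟶ C) (hε : ε ≫ g = 𝟙 Y) (q : 𝒜.toQCAlg.spec ⟶ C)
    (hqg : q ≫ g = 𝒜.toQCAlg.π ≫ p) (hjq : j0 ≫ q = p ≫ ε)
    (q' : 𝒜.toQCAlg.spec ⟶ (RelSpec.QCAlg.directImage (𝒜.toQCAlg.π ≫ p)).spec)
    (hq'π : q' ≫ (RelSpec.QCAlg.directImage (𝒜.toQCAlg.π ≫ p)).π = 𝒜.toQCAlg.π ≫ p)
    (hq' : AffAlg.algHom (RelSpec.QCAlg.directImage (𝒜.toQCAlg.π ≫ p)).π (𝒜.toQCAlg.π ≫ p) q' hq'π = (RelSpec.QCAlg.directImage (𝒜.toQCAlg.π ≫ p)).gammaMap)
    [IsIntegral X] (hC : Pi1.IsNormalScheme C)
    [IsProper q] (V0 : 𝒜.toQCAlg.spec.Opens) (hV0 : (V0 : Set 𝒜.toQCAlg.spec) = (Set.range j0.base)ᶜ)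
    (hqo : IsOpenImmersion (V0.ι ≫ q)) (hqr : Set.range (V0.ι ≫ q).base = (Set.range ε.base)ᶜ)
    (u : (RelSpec.QCAlg.directImage (𝒜.toQCAlg.π ≫ p)).spec ⟶ C) (hug : u ≫ g = (RelSpec.QCAlg.directImage (𝒜.toQCAlg.π ≫ p)).π) (hu : q' ≫ u = q) :
    IsIso u := by
  haveI : L.IsQuasicoherent := hLq
  obtain ⟨huc, hsu, hinj, hW⟩ := Groth.Agent.S8319.result p hθ L hL hLq hamp 𝒜 jL hA h0 aug haug j0 hj0 g ε hε q hqg hjq
    q' hq'π hq' V0 hV0 hqo hqr u hug hu
  haveI := huc
  haveI := hinj
  haveI := Groth.Grauert.DirIm.surjective_q' p hθ hL hamp hA h0 haug hj0 hq'π hq'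
  haveI hVi := Groth.Grauert.Integ.isIntegral_bundle hL hA hj0.comp_π
  haveI := Groth.Grauert.Integ.isIntegral_of_pushIso q' (Groth.Grauert.DirIm.pushIso _ q' hq'π hq')
  haveI : Surjective u := ⟨hsu⟩
  haveI : IsAffineHom u := isAffineHom_of_isInducing u
    ((Topology.IsClosedEmbedding.of_continuous_injective_isClosedMap u.continuous u.injective u.isClosedMap).isInducing)
    u.isClosedMap.isClosed_range
  haveI : IsIntegralHom u := IsIntegralHom.iff_universallyClosed_and_isAffineHom.mpr ⟨inferInstance, inferInstance⟩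
  haveI : IrreducibleSpace C := (irreducibleSpace_def _).mpr (by
    have h := (IrreducibleSpace.isIrreducible_univ
      (RelSpec.QCAlg.directImage (𝒜.toQCAlg.π ≫ p)).spec).image u.base u.continuous.continuousOn
    rw [Set.image_univ, hsu.range_eq] at h
    exact h)
  let C' := (RelSpec.QCAlg.directImage (𝒜.toQCAlg.π ≫ p)).spec
  have hη : u (genericPoint C') = genericPoint C := ((genericPoint_spec C').image u.continuous).eq (by
    rw [Set.image_univ, hsu.range_eq, closure_univ]
    exact genericPoint_spec C)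
  have hgen : ∀ (Z : Scheme.{u}) [IrreducibleSpace Z], Groth.PropsBasic.BirationalGeneric.gen Z = {genericPoint Z} := by
    intro Z _
    ext z
    simp only [Groth.PropsBasic.BirationalGeneric.gen, irreducibleComponents_eq_singleton, Set.mem_setOf_eq, Set.mem_singleton_iff]
    exact ⟨fun h => (show IsGenericPoint z Set.univ from h).eq (genericPoint_spec Z), fun h => h ▸ genericPoint_spec Z⟩
  refine Groth.AlgSpBasic.isIso_of_integral_birational_normal u hC
    (by rw [irreducibleComponents_eq_singleton]; exact Set.finite_singleton _) ?_ ?_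
  · rw [hgen, hgen, Set.bijOn_singleton]
    exact hη
  · intro x hx
    rw [hgen] at hx
    obtain ⟨v, hvπ, hjv, hprop, ho, hr⟩ :=
      Groth.Grauert.DirIm.exists_structure p hθ hL hamp hA h0 haug hj0 hq'π hq' V0 hV0
    haveI := hprop
    haveI := Groth.Ega2P2.isClosedImmersion_vertex 𝒜 aug hj0
    let W₀ : (RelSpec.QCAlg.directImage (𝒜.toQCAlg.π ≫ p)).spec.Opens := ⟨(q'.base '' Set.range j0.base)ᶜ, by
      rw [← Set.range_comp]
      exact (show IsClosed (Set.range (q'.base ∘ j0.base)) from
        (j0 ≫ q').isClosedMap.isClosed_range).isOpen_compl⟩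
    obtain ⟨hWo, hWr⟩ := hW W₀ rfl
    haveI := hWo
    obtain ⟨M, hM, g', hxM, -, hg'⟩ := Groth.RLpsi.exists_triv (L := L) hL (x := genericPoint X) (W := ⊤) trivial
    have hne : (W₀ : Set C').Nonempty := by
      obtain ⟨w, -⟩ : ∃ w, (W₀.ι ≫ u) w = u (q' ((𝒜.toQCAlg.ι M hM) (Groth.Grauert.gpt hA hM hg' hxM))) := by
        refine hWr.ge fun hc => ?_
        have h1 : (𝒜.toQCAlg.ι M hM) (Groth.Grauert.gpt hA hM hg' hxM) ∈ V0 :=
          hV0.ge (Groth.Grauert.ι_gpt_notMem_range hA h0 haug hj0 hM hg' hxM)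
        refine hqr.le ⟨⟨_, h1⟩, ?_⟩ hc
        rw [← Scheme.Hom.comp_apply q' u, hu]
        rfl
      exact ⟨w.1, w.2⟩
    have hxW : x ∈ W₀ := by
      rw [Set.mem_singleton_iff.1 hx]
      exact ((genericPoint_spec C').mem_open_set_iff W₀.2).2 (by simpa using hne)
    have h2 : IsIso ((W₀.ι ≫ u).stalkMap ⟨x, hxW⟩) := inferInstance
    rw [Scheme.Hom.stalkMap_comp] at h2
    have h3 : IsIso (W₀.ι.stalkMap (⟨x, hxW⟩ : (W₀ : Scheme.{u}))) := inferInstance
    exact @IsIso.of_isIso_comp_right _ _ _ _ _ _ _ h3 h2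

end Groth.Agent.S8320
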