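import Groth.Statements.S8326
import Groth.Agent.RelTilde.Finite
open Groth.RelTilde

set_option autoImplicit false
universe u
open CategoryTheory CategoryTheory.Limits AlgebraicGeometry Opposite TopologicalSpace
open scoped HomogeneousIdeal
noncomputable section
open EGA2

namespace Groth.Agent.S8326

/-- Let Y be a scheme with quasi-compact underlying space, 𝒮 a quasi-coherent positively graded
O_Y-algebra generated by 𝒮_1 with 𝒮_1 of finite type, and ℳ a quasi-coherent graded 𝒮-module
satisfying (TF). If ℳ~ = 0 on P = Proj(𝒮), then ℳ satisfies (TN). (With (TN) asking for one degree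
bound over the whole base, the implication needs the base quasi-compact: over an infinite disjoint
union of points carrying the polynomial algebra in one variable, the module equal on the i-th point
to the residue field placed in degree i and killed by the variable satisfies (TF), has zero attached
module, and fails (TN). The published statement has no quasi-compactness hypothesis; its proof gives
a bound on each affine open. The converse direction holds for any base and any graded module.) -/
theorem result {Y P : Scheme.{u}} (𝒮 : RelProj.QCGrAlg Y) (p : P ⟶ Y)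
    (chart : ∀ (U : Y.Opens) (hU : IsAffineOpen U), (((p ⁻¹ᵁ U : P.Opens) : Scheme.{u}) ≅ Proj (𝒮.deg U hU)))
    (hP : RelProj.IsRelProj 𝒮 p chart) [CompactSpace Y] (hgen : 𝒮.IsGenDegOne)
    (hft : 𝒮.IsFTDeg 1) (ℳ : RelProj.GrModule 𝒮) (hℳ : Coh.IsQCoh ((AMod.toOS 𝒮.toQCAlg).obj ℳ.mod)) (hTF : ℳ.IsTF)
    (F : P.Modules)
    (lam : ∀ (U : Y.Opens) (hU : IsAffineOpen U),
      F ⟶ (Scheme.Modules.pushforward (RelProj.emb p chart U hU)).obj (GrMod.tilde (𝒮.deg U hU) (ℳ.deg U hU) 0))
    (hF : RelProj.IsRelTilde 𝒮 p chart ℳ 0 F lam) (h0 : IsZero F) : ℳ.IsTN := by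
  exact isTN_of_isZero hF hℳ hgen hft hTF h0

end Groth.Agent.S8326
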