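import Groth.Statements.S8330
import Groth.Agent.RelTilde.Finite
open Groth.RelTilde

set_option autoImplicit false
universe u
open CategoryTheory CategoryTheory.Limits AlgebraicGeometry Opposite TopologicalSpace
open scoped HomogeneousIdeal
noncomputable section
open EGA2

namespace Groth.Agent.S8330

/-- Let u : ℳ₁ → ℳ₂ and v : ℳ₂ → ℳ₃ be degree-preserving homomorphisms of quasi-coherent graded
𝒮-modules with ℳ₁ → ℳ₂ → ℳ₃ exact (exactness of the sections over every affine open of Y), and let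
ũ, ṽ be the induced maps between the modules (ℳᵢ(n))~ on P = Proj(𝒮) (pinned through the chartwise
identifications). Then (ℳ₁(n))~ → (ℳ₂(n))~ → (ℳ₃(n))~ is exact. -/
theorem result {Y P : Scheme.{u}} (𝒮 : RelProj.QCGrAlg Y) (p : P ⟶ Y)
    (chart : ∀ (U : Y.Opens) (hU : IsAffineOpen U), (((p ⁻¹ᵁ U : P.Opens) : Scheme.{u}) ≅ Proj (𝒮.deg U hU)))
    (hP : RelProj.IsRelProj 𝒮 p chart) (ℳ₁ ℳ₂ ℳ₃ : RelProj.GrModule 𝒮)
    (h₁ : Coh.IsQCoh ((AMod.toOS 𝒮.toQCAlg).obj ℳ₁.mod)) (h₂ : Coh.IsQCoh ((AMod.toOS 𝒮.toQCAlg).obj ℳ₂.mod))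
    (h₃ : Coh.IsQCoh ((AMod.toOS 𝒮.toQCAlg).obj ℳ₃.mod))
    (u : ℳ₁.mod ⟶ ℳ₂.mod) (hu : RelProj.IsGrModHom u) (v : ℳ₂.mod ⟶ ℳ₃.mod) (hv : RelProj.IsGrModHom v)
    (hex : ∀ (U : Y.Opens) (hU : IsAffineOpen U), Function.Exact (u.val.app (op U)).hom (v.val.app (op U)).hom)
    (n : ℤ) (F₁ F₂ F₃ : P.Modules)
    (lam₁ : ∀ (U : Y.Opens) (hU : IsAffineOpen U),
      F₁ ⟶ (Scheme.Modules.pushforward (RelProj.emb p chart U hU)).obj (GrMod.tilde (𝒮.deg U hU) (ℳ₁.deg U hU) n))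
    (hF₁ : RelProj.IsRelTilde 𝒮 p chart ℳ₁ n F₁ lam₁)
    (lam₂ : ∀ (U : Y.Opens) (hU : IsAffineOpen U),
      F₂ ⟶ (Scheme.Modules.pushforward (RelProj.emb p chart U hU)).obj (GrMod.tilde (𝒮.deg U hU) (ℳ₂.deg U hU) n))
    (hF₂ : RelProj.IsRelTilde 𝒮 p chart ℳ₂ n F₂ lam₂)
    (lam₃ : ∀ (U : Y.Opens) (hU : IsAffineOpen U),
      F₃ ⟶ (Scheme.Modules.pushforward (RelProj.emb p chart U hU)).obj (GrMod.tilde (𝒮.deg U hU) (ℳ₃.deg U hU) n))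
    (hF₃ : RelProj.IsRelTilde 𝒮 p chart ℳ₃ n F₃ lam₃)
    (ut : F₁ ⟶ F₂)
    (hut : ∀ (U : Y.Opens) (hU : IsAffineOpen U),
      ut ≫ lam₂ U hU =
        lam₁ U hU ≫ (Scheme.Modules.pushforward (RelProj.emb p chart U hU)).map
          (GrMod.map (𝒮.deg U hU)
            (show ℳ₁.mod.val.obj (op U) →ₗ[𝒮.presheaf.obj (op U)] ℳ₂.mod.val.obj (op U) from (u.val.app (op U)).hom)
            (hu U hU) n))
    (vt : F₂ ⟶ F₃)
    (hvt : ∀ (U : Y.Opens) (hU : IsAffineOpen U),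
      vt ≫ lam₃ U hU =
        lam₂ U hU ≫ (Scheme.Modules.pushforward (RelProj.emb p chart U hU)).map
          (GrMod.map (𝒮.deg U hU)
            (show ℳ₂.mod.val.obj (op U) →ₗ[𝒮.presheaf.obj (op U)] ℳ₃.mod.val.obj (op U) from (v.val.app (op U)).hom)
            (hv U hU) n))
    (w : ut ≫ vt = 0) : (ShortComplex.mk ut vt w).Exact := by
  exact exact_map (lam'' := lam₃) hu hut hF₁ hF₂ hv hvt hex w

end Groth.Agent.S8330
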