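import Groth.Statements.S8335
import Groth.Agent.RelTwist.BaseChangeIso
-- import your own Groth.Agent.* helpers here

set_option autoImplicit false
universe u
open CategoryTheory CategoryTheory.Limits AlgebraicGeometry Opposite TopologicalSpace
open scoped HomogeneousIdeal
noncomputable section
open EGA2

namespace Groth.Agent.S8335

/-- Let ψ : Y' → Y be a morphism, 𝒮 a quasi-coherent positively graded O_Y-algebra and 𝒮' = ψ^*𝒮
(presented through a graded ψ-morphism 𝒮 → ψ_*𝒮' with pushout squares over affine opens), X =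
Proj(𝒮), X' = Proj(𝒮') = X ×_Y Y' with projection g : X' → X (chartwise induced by 𝒮(U) → 𝒮'(U')).
Then for every integer n the inverse image g^*(O_X(n)) is isomorphic to O_{X'}(n), both twisting
sheaves being given through their chartwise identifications (existence of an isomorphism only; the
published identification O_{X'}(n) = O_X(n) ⊗_Y O_{Y'} is canonical). -/
theorem result {Y Y' P P' : Scheme.{u}} (ψ : Y' ⟶ Y) (𝒮 : RelProj.QCGrAlg Y)
    (𝒮' : RelProj.QCGrAlg Y') (u : 𝒮.presheaf ⟶ ψ.base _* 𝒮'.presheaf)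
    (hu : 𝒮.str ≫ u = ψ.c ≫ (TopCat.Presheaf.pushforward CommRingCat.{u} ψ.base).map 𝒮'.str)
    (φ : ∀ (U : Y.Opens) (hU : IsAffineOpen U) (U' : Y'.Opens) (hU' : IsAffineOpen U') (_ : U' ≤ ψ ⁻¹ᵁ U),
      𝒮.deg U hU →+*ᵍ 𝒮'.deg U' hU')
    (hφ : ∀ (U : Y.Opens) (hU : IsAffineOpen U) (U' : Y'.Opens) (hU' : IsAffineOpen U') (hle : U' ≤ ψ ⁻¹ᵁ U),
      (φ U hU U' hU' hle).toRingHom =
        ((u.app (op U) : 𝒮.presheaf.obj (op U) ⟶ 𝒮'.presheaf.obj (op (ψ ⁻¹ᵁ U))) ≫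
          𝒮'.presheaf.map (homOfLE hle).op).hom)
    (hpo : ∀ (U : Y.Opens) (hU : IsAffineOpen U) (U' : Y'.Opens) (hU' : IsAffineOpen U') (hle : U' ≤ ψ ⁻¹ᵁ U),
      IsPushout (ψ.appLE U U' hle) (𝒮.str.app (op U)) (𝒮'.str.app (op U'))
        ((u.app (op U) : 𝒮.presheaf.obj (op U) ⟶ 𝒮'.presheaf.obj (op (ψ ⁻¹ᵁ U))) ≫
          𝒮'.presheaf.map (homOfLE hle).op))
    (hirr : ∀ (U : Y.Opens) (hU : IsAffineOpen U) (U' : Y'.Opens) (hU' : IsAffineOpen U') (hle : U' ≤ ψ ⁻¹ᵁ U),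
      (𝒮'.deg U' hU')₊ ≤ ((𝒮.deg U hU)₊).map (φ U hU U' hU' hle))
    (p : P ⟶ Y)
    (chart : ∀ (U : Y.Opens) (hU : IsAffineOpen U), (((p ⁻¹ᵁ U : P.Opens) : Scheme.{u}) ≅ Proj (𝒮.deg U hU)))
    (hP : RelProj.IsRelProj 𝒮 p chart) (p' : P' ⟶ Y')
    (chart' : ∀ (U' : Y'.Opens) (hU' : IsAffineOpen U'), (((p' ⁻¹ᵁ U' : P'.Opens) : Scheme.{u}) ≅ Proj (𝒮'.deg U' hU')))
    (hP' : RelProj.IsRelProj 𝒮' p' chart') (g : P' ⟶ P)
    (hg : ∀ (U : Y.Opens) (hU : IsAffineOpen U) (U' : Y'.Opens) (hU' : IsAffineOpen U') (hle : U' ≤ ψ ⁻¹ᵁ U),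
      (p' ⁻¹ᵁ U').ι ≫ g =
        (chart' U' hU').hom ≫ Proj.map (φ U hU U' hU' hle) (hirr U hU U' hU' hle) ≫ RelProj.emb p chart U hU)
    (n : ℤ) (L : P.Modules)
    (lam : ∀ (U : Y.Opens) (hU : IsAffineOpen U),
      L ⟶ (Scheme.Modules.pushforward (RelProj.emb p chart U hU)).obj (GrTwist.twist (𝒮.deg U hU) n))
    (hL : RelProj.IsRelTwist 𝒮 p chart n L lam) (L' : P'.Modules)
    (lam' : ∀ (U' : Y'.Opens) (hU' : IsAffineOpen U'),
      L' ⟶ (Scheme.Modules.pushforward (RelProj.emb p' chart' U' hU')).obj (GrTwist.twist (𝒮'.deg U' hU') n))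
    (hL' : RelProj.IsRelTwist 𝒮' p' chart' n L' lam') :
    Nonempty ((Scheme.Modules.pullback g).obj L ≅ L') := by
  refine Groth.RelTw.nonempty_pullback_baseChange_iso (φ := φ) (hirr := hirr) ?_ hP hP' (fun U hU U' hU' hle => ?_)
    hL hL' fun U hU U' hU' hle => ?_
  · intro U hU V hV hVU U' hU' hle V' hV' hle' hVU'
    rw [hφ U hU U' hU' hle, hφ V hV V' hV' hle']
    ext x
    have hm : ∀ {A B C : (TopologicalSpace.Opens Y')ᵒᵖ} (i : A ⟶ B) (j : B ⟶ C) (k : A ⟶ C)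
        (z : 𝒮'.presheaf.obj A), 𝒮'.presheaf.map j (𝒮'.presheaf.map i z) = 𝒮'.presheaf.map k z := by
      intro A B C i j k z
      rw [← CommRingCat.comp_apply, ← Functor.map_comp, Subsingleton.elim (i ≫ j) k]
    change 𝒮'.presheaf.map (homOfLE hVU').op (𝒮'.presheaf.map (homOfLE hle).op (u.app (op U) x)) =
      𝒮'.presheaf.map (homOfLE hle').op (u.app (op V) (𝒮.presheaf.map (homOfLE hVU).op x))
    have h : u.app (op V) (𝒮.presheaf.map (homOfLE hVU).op x) =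
        𝒮'.presheaf.map ((Opens.map ψ.base).op.map (homOfLE hVU).op) (u.app (op U) x) :=
      congr($(u.naturality (homOfLE hVU).op) x)
    exact ((hm _ _ (homOfLE (hVU'.trans hle)).op _).trans
      (hm ((Opens.map ψ.base).op.map (homOfLE hVU).op) (homOfLE hle').op _ _).symm).trans (congrArg _ h.symm)
  · rw [RelProj.emb, Category.assoc, hg U hU U' hU' hle, Iso.inv_hom_id_assoc]
  · rw [hφ U hU U' hU' hle]
    exact hpo U hU U' hU' hle


end Groth.Agent.S8335
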