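import Groth.Statements.S8340
import Groth.Agent.RelTilde.Period

set_option autoImplicit false
universe u
open CategoryTheory CategoryTheory.Limits AlgebraicGeometry Opposite TopologicalSpace
open scoped HomogeneousIdeal
noncomputable section
open EGA2

namespace Groth.Agent.S8340

/-- For a quasi-compact open U of X = Proj(𝒮), 𝒮 any quasi-coherent positively graded O_Y-algebra, there
is d > 0 such that for every n divisible by d the module O_X(−n)|U is an inverse of O_X(n)|U: the
tensor product O_X(n)|U ⊗ O_X(−n)|U is isomorphic to O_U (existence of an isomorphism; the twisting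
sheaves are given through their chartwise identifications). -/
theorem result {Y X : Scheme.{u}} (𝒮 : RelProj.QCGrAlg Y) (q : X ⟶ Y)
    (chart : ∀ (U : Y.Opens) (hU : IsAffineOpen U), (((q ⁻¹ᵁ U : X.Opens) : Scheme.{u}) ≅ Proj (𝒮.deg U hU)))
    (hX : RelProj.IsRelProj 𝒮 q chart) (U : X.Opens) (hU : IsCompact (U : Set X)) :
    ∃ d : ℕ, 0 < d ∧ ∀ (n : ℤ), (d : ℤ) ∣ n →
      ∀ (L : X.Modules)
        (lam : ∀ (V : Y.Opens) (hV : IsAffineOpen V),
          L ⟶ (Scheme.Modules.pushforward (RelProj.emb q chart V hV)).obj (GrTwist.twist (𝒮.deg V hV) n)),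
        RelProj.IsRelTwist 𝒮 q chart n L lam →
      ∀ (L' : X.Modules)
        (lam' : ∀ (V : Y.Opens) (hV : IsAffineOpen V),
          L' ⟶ (Scheme.Modules.pushforward (RelProj.emb q chart V hV)).obj (GrTwist.twist (𝒮.deg V hV) (-n))),
        RelProj.IsRelTwist 𝒮 q chart (-n) L' lam' →
          Nonempty (CohB1.tensorMod (L.restrict U.ι) (L'.restrict U.ι) ≅ Coh.structureModule (U : Scheme.{u})) := by
  exact Groth.RelTw.exists_period_inverse hX U hU

end Groth.Agent.S8340
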