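import Groth.Statements.S8343
import Groth.Agent.RelTwist.Comap

set_option autoImplicit false
universe u
open CategoryTheory CategoryTheory.Limits AlgebraicGeometry Opposite TopologicalSpace
open scoped HomogeneousIdeal
noncomputable section
open EGA2

namespace Groth.Agent.S8343

/-- For a graded homomorphism φ : 𝒜 → ℬ of quasi-coherent positively graded O_Y-algebras whose induced
morphism h : Proj(ℬ) → Proj(𝒜) is everywhere defined (irrelevant ideals generated by the image,
affine-locally), and every integer n, there is exactly one module map O_{Proj(𝒜)}(n) →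
h_*(O_{Proj(ℬ)}(n)) which over every affine open U of Y is, valuewise under the chartwise
identifications of both twisting sheaves, the comparison a/f ↦ φ(a)/φ(f) of the twisting sheaves of
𝒜(U) and ℬ(U). (The published statement works over the open where the induced morphism is defined
and phrases the map as h^*(O(n)) → O(n); the hypothesis on irrelevant ideals used here makes that
open everything.) -/
theorem result {Y PA PB : Scheme.{u}} {𝒜 ℬ : RelProj.QCGrAlg Y}
    (φ : 𝒜.toQCAlg ⟶ ℬ.toQCAlg) (hφ : RelProj.IsGradedHom φ)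
    (hirr : ∀ (U : Y.Opens) (hU : IsAffineOpen U),
      (ℬ.deg U hU)₊ ≤ ((𝒜.deg U hU)₊).map (RelProj.gradedHomAt φ hφ U hU))
    (pA : PA ⟶ Y) (pB : PB ⟶ Y)
    (chartA : ∀ (U : Y.Opens) (hU : IsAffineOpen U), (((pA ⁻¹ᵁ U : PA.Opens) : Scheme.{u}) ≅ Proj (𝒜.deg U hU)))
    (chartB : ∀ (U : Y.Opens) (hU : IsAffineOpen U), (((pB ⁻¹ᵁ U : PB.Opens) : Scheme.{u}) ≅ Proj (ℬ.deg U hU)))
    (hA : RelProj.IsRelProj 𝒜 pA chartA) (hB : RelProj.IsRelProj ℬ pB chartB)
    (h : PB ⟶ PA) (hh : RelProj.IsRelProjMap φ hφ hirr chartA chartB h) (n : ℤ)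
    (LA : PA.Modules)
    (lamA : ∀ (U : Y.Opens) (hU : IsAffineOpen U),
      LA ⟶ (Scheme.Modules.pushforward (RelProj.emb pA chartA U hU)).obj (GrTwist.twist (𝒜.deg U hU) n))
    (hLA : RelProj.IsRelTwist 𝒜 pA chartA n LA lamA)
    (LB : PB.Modules)
    (lamB : ∀ (U : Y.Opens) (hU : IsAffineOpen U),
      LB ⟶ (Scheme.Modules.pushforward (RelProj.emb pB chartB U hU)).obj (GrTwist.twist (ℬ.deg U hU) n))
    (hLB : RelProj.IsRelTwist ℬ pB chartB n LB lamB) :
    ∃! θ : LA ⟶ (Scheme.Modules.pushforward h).obj LB,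
      ∀ (U : Y.Opens) (hU : IsAffineOpen U) (W : PA.Opens) (s : Γ(LA, W))
        (y : ProjectiveSpectrum (ℬ.deg U hU))
        (hy : (RelProj.emb pB chartB U hU).base y ∈ h ⁻¹ᵁ W)
        (hy' : (RelProj.emb pA chartA U hU).base
          (ProjectiveSpectrum.comap (RelProj.gradedHomAt φ hφ U hU) (hirr U hU) y) ∈ W),
        GrTwist.val (V := RelProj.emb pB chartB U hU ⁻¹ᵁ (h ⁻¹ᵁ W)) ((lamB U hU).app (h ⁻¹ᵁ W) (θ.app W s)) ⟨y, hy⟩ =
          GrTwist.locMap (RelProj.gradedHomAt φ hφ U hU) (hirr U hU) y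
            (GrTwist.val (V := RelProj.emb pA chartA U hU ⁻¹ᵁ W) ((lamA U hU).app W s) ⟨_, hy'⟩) := by
  exact Groth.RelTw.existsUnique_comap φ hφ hirr hA hB hh hLA hLB

end Groth.Agent.S8343
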