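import Groth.Statements.S8346
import Groth.Agent.SpectralTopology.Constructible

set_option autoImplicit false
universe u
open ConstrTop

namespace Groth.Agent.S8346
open Groth.SpectralTopology Topology

open TopologicalSpace in
/-- Let X be a topological space admitting a basis of open subsets which are retrocompact in X. Then
every locally constructible subset T of X is retrocompact in X. -/
theorem result {X : Type u} [TopologicalSpace X]
    {B : Set (Set X)} (hB : IsTopologicalBasis B) (hBr : ∀ U ∈ B, IsRetrocompact U) {T : Set X}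
    (hT : Topology.IsLocallyConstructible T) : IsRetrocompact T := by
  intro K hKc hKo
  choose U hxU hUo hUc using hT
  choose b hb hxb hbU using fun x ↦ hB.mem_nhds_iff.1 (hxU x)
  obtain ⟨σ, -, hσ⟩ := hKc.elim_nhds_subcover b (fun x _ ↦ (hB.isOpen (hb x)).mem_nhds (hxb x))
  have heq : T ∩ K = ⋃ x ∈ σ, T ∩ (b x ∩ K) := by
    ext y
    simp only [Set.mem_inter_iff, Set.mem_iUnion, exists_and_left, exists_prop]
    constructor
    · intro hy
      obtain ⟨x, hx, hyx⟩ := Set.mem_iUnion₂.1 (hσ hy.2)
      exact ⟨hy.1, x, hyx, hx, hy.2⟩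
    · rintro ⟨hyT, x, -, -, hyK⟩
      exact ⟨hyT, hyK⟩
  rw [heq]
  refine σ.finite_toSet.isCompact_biUnion fun x _ ↦ ?_
  have hbK : IsCompact (b x ∩ K) := hBr _ (hb x) hKc hKo
  have h1 : IsCompact ((Subtype.val : U x → X) ⁻¹' (b x ∩ K)) := by
    rw [Subtype.isCompact_iff, Subtype.image_preimage_coe,
      Set.inter_eq_right.2 (Set.inter_subset_left.trans (hbU x))]
    exact hbK
  have h2 := isRetrocompact_of_isConstructible (hUc x) h1
    (((hB.isOpen (hb x)).inter hKo).preimage continuous_subtype_val)
  rw [Subtype.isCompact_iff, ← Set.preimage_inter, Subtype.image_preimage_coe,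
    Set.inter_eq_right.2 ((Set.inter_subset_right.trans Set.inter_subset_left).trans (hbU x))] at h2
  exact h2

end Groth.Agent.S8346
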