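import Groth.Statements.S8348


set_option autoImplicit false
universe v u
open CategoryTheory CategoryTheory.Limits
open HomAlg3

namespace Groth.Agent.S8348

/-- Let C be an abelian category and Q a cochain complex of objects of C in degrees 0, 1, 2, ... such
that every Q^i is injective, every homology object H^i(Q) with i ≥ 1 is zero, and every inclusion of
the cycles Z^i(Q) into Q^i (i ≥ 0) is a split monomorphism. Then Q is an injective object of the
category of cochain complexes of C indexed by the natural numbers. (The published statement is for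
the narrower class of complexes with Z^i(Q) = B^i(Q) for every i ≥ 0, which in degree 0, where there
is no incoming differential, forces Z^0(Q) = 0; this row allows a nonzero Z^0(Q), so that it pairs
with the embedding of an arbitrary complex into such a Q. Such a Q is the direct sum of Z^0(Q)
placed in degree 0 and of the two-term complexes with Z^{i+1}(Q) in degrees i and i+1 and the
identity as differential, and the published argument carries over with Z^i(Q) in place of B^i(Q) as
the first summand of Q^i.) -/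
theorem result {C : Type u} [Category.{v} C] [Abelian C]
    (Q : CochainComplex C ℕ) (hinj : ∀ i : ℕ, Injective (Q.X i)) (hac : ∀ i : ℕ, IsZero (Q.homology (i + 1)))
    (hsplit : ∀ i : ℕ, IsSplitMono (Q.iCycles i)) : Injective Q := by
  let r : ∀ i, Q.X i ⟶ Q.cycles i := fun i => retraction (Q.iCycles i) (hf := hsplit i)
  have hr : ∀ i, Q.iCycles i ≫ r i = 𝟙 _ := fun i => IsSplitMono.id (Q.iCycles i) (hf := hsplit i)
  have hZ : ∀ i, Injective (Q.cycles i) := fun i => ⟨fun g m _ => ⟨(Injective.factorThru (g ≫ Q.iCycles i) m) ≫ r i,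
    by rw [Injective.comp_factorThru_assoc, Category.assoc, hr, Category.comp_id]⟩⟩
  have w : ∀ i, Q.iCycles i ≫ Q.toCycles i (i + 1) = 0 := fun i => by
    rw [← cancel_mono (Q.iCycles (i + 1))]; simp
  have hep : ∀ i, Epi (Q.toCycles i (i + 1)) := fun i =>
    (ShortComplex.exact_of_g_is_cokernel (ShortComplex.mk _ _ (Q.toCycles_comp_homologyπ i (i + 1)))
      (Q.homologyIsCokernel i (i + 1) (by simp))).epi_f ((hac i).eq_of_tgt _ _)
  have hex : ∀ i, (ShortComplex.mk _ _ (w i)).Exact := fun i => by
    refine ShortComplex.exact_of_f_is_kernel _ (KernelFork.IsLimit.ofι' (Q.iCycles i) (w i) fun {T} x hx => ?_)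
    exact ⟨Q.liftCycles x (i + 1) (by simp) (by
      rw [← Q.toCycles_i i (i + 1), reassoc_of% hx, zero_comp]), Q.liftCycles_i _ _ _ _⟩
  let sp : ∀ i, (ShortComplex.mk _ _ (w i)).Splitting := fun i =>
    ShortComplex.Splitting.ofExactOfRetraction _ (hex i) (r i) (hr i) (hep i)
  have hext : ∀ (i : ℕ) (T : C) (x y : T ⟶ Q.X i), x ≫ r i = y ≫ r i →
      x ≫ Q.toCycles i (i + 1) = y ≫ Q.toCycles i (i + 1) → x = y := fun i T x y h1 h2 => by
    have h := (sp i).id
    dsimp [sp] at h
    rw [← Category.comp_id x, ← Category.comp_id y, ← h, Preadditive.comp_add, Preadditive.comp_add]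
    exact congrArg₂ (· + ·) (by rw [← Category.assoc, ← Category.assoc]; exact congrArg (· ≫ _) h1)
      (by rw [← Category.assoc, ← Category.assoc]; exact congrArg (· ≫ _) h2)
  refine ⟨fun {A B} f m _ => ?_⟩
  let e : ∀ i, B.X i ⟶ Q.cycles i := fun i => Injective.factorThru (f.f i ≫ r i) (m.f i)
  have he : ∀ i, m.f i ≫ e i = f.f i ≫ r i := fun i => Injective.comp_factorThru _ _
  let g : ∀ i, B.X i ⟶ Q.X i := fun i => e i ≫ Q.iCycles i + (B.d i (i + 1) ≫ e (i + 1)) ≫ (sp i).s
  have hs1 : ∀ i, (sp i).s ≫ r i = 0 := fun i => (sp i).s_r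
  have hs2 : ∀ i, (sp i).s ≫ Q.toCycles i (i + 1) = 𝟙 _ := fun i => (sp i).s_g
  have hg1 : ∀ i, g i ≫ r i = e i := fun i => by simp [g, hr, hs1]
  have hg2 : ∀ i, g i ≫ Q.toCycles i (i + 1) = B.d i (i + 1) ≫ e (i + 1) := fun i => by simp [g, w, hs2]
  have hd : ∀ i, Q.d i (i + 1) = Q.toCycles i (i + 1) ≫ Q.iCycles (i + 1) := fun i => (Q.toCycles_i _ _).symm
  refine ⟨{ f := g, comm' := ?_ }, ?_⟩
  · intro i j hij
    obtain rfl : i + 1 = j := hij
    refine hext (i + 1) _ _ _ ?_ ?_
    · rw [hd, reassoc_of% hg2, Category.assoc, Category.assoc, hr, Category.comp_id, Category.assoc, hg1]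
    · rw [hd, Category.assoc, Category.assoc, w, comp_zero, comp_zero, Category.assoc, hg2, B.d_comp_d_assoc, zero_comp]
  · ext i
    refine hext i _ _ _ ?_ ?_
    · simp [hg1, he]
    · simp only [HomologicalComplex.comp_f, Category.assoc, hg2]
      rw [m.comm_assoc, he, ← f.comm_assoc, hd, Category.assoc, hr, Category.comp_id]

end Groth.Agent.S8348
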