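import Groth.Statements.S8350
import Groth.Agent.RDerLib.Horseshoe

set_option autoImplicit false
universe v u
open CategoryTheory CategoryTheory.Limits
open HomAlg3

namespace Groth.Agent.S8350

open CategoryTheory CategoryTheory.Limits in
/-- Extending an injective resolution along a monomorphism. -/
private theorem exists_extend {C : Type u} [Category.{v} C] [Abelian C] [EnoughInjectives C]
    {B' B : C} (f : B' ⟶ B) [Mono f] (R' : InjectiveResolution B') :
    ∃ (R : InjectiveResolution B) (φ : R'.cocomplex ⟶ R.cocomplex), Mono φ ∧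
      R'.ι ≫ φ = (CochainComplex.single₀ C).map f ≫ R.ι ∧ (IsIso f → IsIso φ) := by
  by_cases hf : IsIso f
  · exact ⟨{ cocomplex := R'.cocomplex, injective := R'.injective,
             ι := (CochainComplex.single₀ C).map (inv f) ≫ R'.ι, quasiIso := inferInstance },
      𝟙 _, inferInstance, by simp [← Functor.map_comp_assoc], fun _ => inferInstance⟩
  · have hS : (ShortComplex.mk f (cokernel.π f) (cokernel.condition f)).ShortExact :=
      { exact := ShortComplex.exact_of_g_is_cokernel _ (cokernelIsCokernel f)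
        mono_f := inferInstanceAs (Mono f)
        epi_g := inferInstanceAs (Epi (cokernel.π f)) }
    let T := Groth.RDerLib.horseshoe _ hS R' (injectiveResolution (cokernel f))
    exact ⟨T.I₂, T.f, T.shortExact.mono_f, T.ι_f, fun h => absurd h hf⟩

open CategoryTheory CategoryTheory.Limits in
/-- The invariant of the downward induction. -/
private theorem exists_step {C : Type u} [Category.{v} C] [Abelian C] [EnoughInjectives C]
    (K : SpSeq.FilObj C) {b : ℤ} (hb : K.fil b = ⊥) (k : ℕ) :
    ∃ (R : InjectiveResolution (K.step (b - k))) (G : ℤ → Subobject R.cocomplex), Antitone G ∧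
      (∀ i, i ≤ b - k → G i = ⊤) ∧ ∀ i (h : b - k ≤ i),
        (K.fil i = K.fil (b - k) → G i = ⊤) ∧ (K.fil i = ⊥ → G i = ⊥) ∧
        (∀ j : ℕ, Injective ((G i : CochainComplex C ℕ).X j)) ∧
        ∃ ι : (CochainComplex.single₀ C).obj (K.step i) ⟶ (G i : CochainComplex C ℕ),
          ι ≫ (G i).arrow = (CochainComplex.single₀ C).map (K.stepLE h) ≫ R.ι ∧ QuasiIso ι := by
  open ZeroObject in
  induction k with
  | zero =>
    have hb0 : b - ((0 : ℕ) : ℤ) = b := by simp
    have hz : IsZero (K.step (b - ((0 : ℕ) : ℤ))) := by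
      rw [hb0]
      exact (isZero_zero C).of_iso (eqToIso (congrArg (Subobject.underlying.obj ·) hb) ≪≫ Subobject.botCoeIsoZero)
    have hzc : IsZero (0 : CochainComplex C ℕ) := isZero_zero _
    have hsingle : ∀ {Z : C}, IsZero Z → ∀ {A : CochainComplex C ℕ}, IsZero A →
        ∀ φ : (CochainComplex.single₀ C).obj Z ⟶ A, QuasiIso φ := fun hZ A hA φ => by
      have : IsIso φ := ⟨0, (Functor.map_isZero _ hZ).eq_of_src _ _, hA.eq_of_src _ _⟩
      infer_instance
    have hinj : ∀ {A : CochainComplex C ℕ}, IsZero A → ∀ j, Injective (A.X j) := fun hA j =>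
      (Functor.map_isZero (HomologicalComplex.eval C _ j) hA).injective
    let R : InjectiveResolution (K.step (b - ((0 : ℕ) : ℤ))) :=
      { cocomplex := 0, injective := hinj hzc, ι := 0, quasiIso := hsingle hz hzc _ }
    have hzR : IsZero R.cocomplex := hzc
    refine ⟨R, fun _ => ⊤, fun _ _ _ => le_rfl, fun _ _ => rfl, fun i h => ⟨fun _ => rfl, fun _ => ?_, ?_, 0, ?_, ?_⟩⟩
    · exact le_bot_iff.1 (Subobject.le_of_comm 0 (hzR.eq_of_tgt _ _))
    · exact hinj (hzR.of_iso (asIso (⊤ : Subobject R.cocomplex).arrow))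
    · exact hzR.eq_of_tgt _ _
    · refine hsingle ?_ (hzR.of_iso (asIso (⊤ : Subobject R.cocomplex).arrow)) _
      exact IsZero.of_mono (K.stepLE h) hz
  | succ k ih =>
    obtain ⟨R', G, hG, -, hi⟩ := ih
    have hq : b - ((k + 1 : ℕ) : ℤ) ≤ b - (k : ℤ) := by push_cast; omega
    let f := K.stepLE hq
    obtain ⟨R, φ, _, hφ, hiso⟩ := exists_extend f R'
    let G' : ℤ → Subobject R.cocomplex := fun i =>
      if i ≤ b - ((k + 1 : ℕ) : ℤ) then ⊤ else Subobject.mk ((G i).arrow ≫ φ)
    have hlow : ∀ i, i ≤ b - ((k + 1 : ℕ) : ℤ) → G' i = ⊤ := fun i h => if_pos h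
    have hhigh : ∀ i, b - (k : ℤ) ≤ i → G' i = Subobject.mk ((G i).arrow ≫ φ) := fun i h =>
      if_neg (by push_cast; omega)
    refine ⟨R, G', fun i j hij => ?_, hlow, fun i h => ?_⟩
    · by_cases h1 : i ≤ b - ((k + 1 : ℕ) : ℤ)
      · rw [hlow i h1]; exact le_top
      · have hi' : b - (k : ℤ) ≤ i := by push_cast at h1; omega
        rw [hhigh i hi', hhigh j (hi'.trans hij)]
        exact Subobject.mk_le_mk_of_comm ((G j).ofLE (G i) (hG hij)) (by simp)
    rcases eq_or_lt_of_le h with rfl | h'
    · refine ⟨fun _ => hlow _ le_rfl, fun hbot => ?_, ?_⟩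
      · have hbot' : K.fil (b - (k : ℤ)) = ⊥ := le_bot_iff.1 (hbot ▸ K.anti hq)
        obtain ⟨h1, h2, -⟩ := hi _ le_rfl
        have := hiso (by
          have e : K.fil (b - ((k + 1 : ℕ) : ℤ)) ≤ K.fil (b - (k : ℤ)) := by rw [hbot]; exact bot_le
          exact ⟨(K.fil _).ofLE _ e, Subobject.ofLE_comp_ofLE _ _ _ _ _ |>.trans (Subobject.ofLE_refl _),
            Subobject.ofLE_comp_ofLE _ _ _ _ _ |>.trans (Subobject.ofLE_refl _)⟩)
        have ht : (⊤ : Subobject R'.cocomplex) = ⊥ := (h1 rfl).symm.trans (h2 hbot')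
        have h0 : (⊤ : Subobject R'.cocomplex).arrow = 0 := by rw [ht]; exact Subobject.bot_arrow
        have hz : IsZero R'.cocomplex := by
          rw [IsZero.iff_id_eq_zero, ← cancel_epi (⊤ : Subobject R'.cocomplex).arrow, comp_zero, Category.comp_id, h0]
        rw [hlow _ le_rfl]
        exact le_bot_iff.1 (Subobject.le_of_comm 0 ((hz.of_iso (asIso φ).symm).eq_of_tgt _ _))
      · rw [hlow _ le_rfl]
        refine ⟨fun j => Injective.of_iso ((HomologicalComplex.eval C _ j).mapIso
          (asIso (⊤ : Subobject R.cocomplex).arrow)).symm (R.injective j), R.ι ≫ inv (⊤ : Subobject R.cocomplex).arrow,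
          ?_, inferInstance⟩
        simp [SpSeq.FilObj.stepLE]
    · have hi' : b - (k : ℤ) ≤ i := by push_cast at h'; omega
      obtain ⟨h1, h2, h3, ι, hι, _⟩ := hi i hi'
      rw [hhigh i hi']
      refine ⟨fun he => ?_, fun hbot => ?_, fun j => ?_, ι ≫ (Subobject.underlyingIso _).inv, ?_, inferInstance⟩
      · have e1 : K.fil (b - (k : ℤ)) = K.fil (b - ((k + 1 : ℕ) : ℤ)) :=
          le_antisymm (K.anti hq) (he ▸ K.anti hi')
        have := hiso ⟨(K.fil _).ofLE _ e1.ge, Subobject.ofLE_comp_ofLE _ _ _ _ _ |>.trans (Subobject.ofLE_refl _),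
          Subobject.ofLE_comp_ofLE _ _ _ _ _ |>.trans (Subobject.ofLE_refl _)⟩
        have : IsIso (G i).arrow := by rw [h1 (he.trans e1.symm)]; infer_instance
        exact (Subobject.isIso_iff_mk_eq_top _).1 inferInstance
      · have h0 : (G i).arrow = 0 := by rw [h2 hbot]; exact Subobject.bot_arrow
        exact Subobject.mk_eq_bot_iff_zero.2 (by rw [h0, zero_comp])
      · exact Injective.of_iso ((HomologicalComplex.eval C _ j).mapIso (Subobject.underlyingIso _)).symm (h3 j)
      · rw [Category.assoc, Subobject.underlyingIso_arrow, ← Category.assoc, hι, Category.assoc, hφ,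
          ← Functor.map_comp_assoc]
        simp only [f, SpSeq.FilObj.stepLE, Subobject.ofLE_comp_ofLE]

/-- Let C be an abelian category in which every object embeds in an injective object, and let A be an
object of C with a finite decreasing filtration (F^i A). Then there are an injective resolution X of
A and a decreasing filtration of X by subcomplexes F^i X such that F^i X = X when F^i A = A, F^i X =
0 when F^i A = 0, and, for every i, F^i X is a complex of injective objects into which F^i A (placed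
in degree 0) maps, compatibly with the augmentation A ⟶ X, by a quasi-isomorphism; thus F^i X is an
injective resolution of F^i A. -/
theorem result {C : Type u} [Category.{v} C] [Abelian C] [EnoughInjectives C]
    (K : SpSeq.FilObj C) (hK : K.IsFinite) :
    ∃ (X : InjectiveResolution K.obj) (G : ℤ → Subobject X.cocomplex), Antitone G ∧
      (∀ i : ℤ, K.fil i = ⊤ → G i = ⊤) ∧ (∀ i : ℤ, K.fil i = ⊥ → G i = ⊥) ∧
      ∀ i : ℤ, (∀ j : ℕ, Injective ((G i : CochainComplex C ℕ).X j)) ∧
        ∃ ι : (CochainComplex.single₀ C).obj (K.step i) ⟶ (G i : CochainComplex C ℕ),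
          ι ≫ (G i).arrow = (CochainComplex.single₀ C).map (K.fil i).arrow ≫ X.ι ∧ QuasiIso ι := by
  obtain ⟨⟨a, ha⟩, b, hb⟩ := hK
  have hb' : K.fil (max a b) = ⊥ := le_bot_iff.1 (hb ▸ K.anti (le_max_right a b))
  obtain ⟨k, hk⟩ : ∃ k : ℕ, max a b - (k : ℤ) = a :=
    ⟨(max a b - a).toNat, by rw [Int.toNat_of_nonneg (by omega)]; ring⟩
  obtain ⟨R, G, hG, hlow, hi⟩ := exists_step K hb' k
  have htop : K.fil (max a b - (k : ℤ)) = ⊤ := by rw [hk, ha]
  have : IsIso (K.fil (max a b - (k : ℤ))).arrow := by rw [htop]; infer_instance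
  let X : InjectiveResolution K.obj :=
    { cocomplex := R.cocomplex, injective := R.injective,
      ι := (CochainComplex.single₀ C).map (inv (K.fil (max a b - (k : ℤ))).arrow) ≫ R.ι,
      quasiIso := inferInstance }
  refine ⟨X, G, hG, fun i h => ?_, fun i h => ?_, fun i => ?_⟩
  · rcases le_or_gt i (max a b - (k : ℤ)) with h' | h'
    · exact hlow i h'
    · exact (hi i h'.le).1 (h.trans htop.symm)
  · rcases le_or_gt (max a b - (k : ℤ)) i with h' | h'
    · exact (hi i h').2.1 h
    · rw [hlow i h'.le, ← hlow _ le_rfl]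
      exact (hi _ le_rfl).2.1 (le_bot_iff.1 (h ▸ K.anti h'.le))
  · rcases le_or_gt (max a b - (k : ℤ)) i with h' | h'
    · obtain ⟨-, -, h3, ι, hι, hq⟩ := hi i h'
      refine ⟨h3, ι, ?_, hq⟩
      rw [hι]
      show _ = _ ≫ (CochainComplex.single₀ C).map (inv (K.fil (max a b - (k : ℤ))).arrow) ≫ R.ι
      rw [← Functor.map_comp_assoc]
      congr 2
      rw [IsIso.eq_comp_inv]
      exact Subobject.ofLE_arrow _
    · rw [hlow i h'.le]
      have : IsIso (K.fil i).arrow := by
        rw [top_le_iff.1 (htop ▸ K.anti h'.le : ⊤ ≤ K.fil i)]; infer_instance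
      exact ⟨fun j => Injective.of_iso ((HomologicalComplex.eval C _ j).mapIso
          (asIso (⊤ : Subobject X.cocomplex).arrow)).symm (X.injective j),
        (CochainComplex.single₀ C).map (K.fil i).arrow ≫ X.ι ≫ inv (⊤ : Subobject X.cocomplex).arrow, by simp,
        inferInstance⟩

end Groth.Agent.S8350
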