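import Groth.Statements.S8351
import Groth.Agent.Misc7.HDU.Basic
import Mathlib.Algebra.Homology.DerivedCategory.RightDerivedFunctorPlus

set_option autoImplicit false
universe u
open CategoryTheory CategoryTheory.Limits TopologicalSpace
open CohCx

namespace Groth.Agent.S8351

/-- For abelian sheaves on topological spaces and a complex bounded below. Let f : X ⟶ Y be a continuous
map and K a bounded below complex of abelian sheaves on X. For every p, the p-th cohomology sheaf of
the derived direct image R f_*(K) (bounded below right derived functor of f_*, computed with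
injective resolutions) is isomorphic to the sheaf associated with the presheaf U ↦ H^p(f⁻¹(U), K) on
Y, where H^p(V, K) denotes hypercohomology (morphisms from the free abelian sheaf on V to K[p] in
the derived category). (The published statement is for modules over arbitrary ringed spaces,
complexes unbounded via Cartan-Eilenberg resolutions, and a canonical isomorphism; here only the
existence of an isomorphism is asserted, and the derived categories are assumed to exist with
morphism types in the universe of X and Y.) -/
theorem result {X Y : TopCat.{u}} (f : X ⟶ Y)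
    [HasDerivedCategory.{u} (CohTop.Ab X)] [HasDerivedCategory.{u} (CohTop.Ab Y)]
    (K : CochainComplex.Plus (CohTop.Ab X)) (p : ℤ) :
    Nonempty ((DerivedCategory.Plus.homologyFunctor (CohTop.Ab Y) p).obj
        ((CohTop.push f).rightDerivedFunctorPlus.obj
          (DerivedCategory.Plus.Qh.obj ((HomotopyCategory.Plus.quotient (CohTop.Ab X)).obj K))) ≅
      (presheafToSheaf (Opens.grothendieckTopology Y) AddCommGrpCat.{u}).obj
        ((Opens.map f).op ⋙ CohCx.HDUPresheaf (DerivedCategory.Q.obj K.obj) p)) := by
  obtain ⟨n, hn⟩ := K.property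
  obtain ⟨M, hM, i, hi⟩ := CochainComplex.Plus.exists_quasiIso_injective K n
  let I : CochainComplex (CohTop.Ab X) ℤ := ((InjectiveObject.ι (CohTop.Ab X)).mapHomologicalComplex (ComplexShape.up ℤ)).obj M.obj
  haveI : I.IsKInjective :=
    inferInstanceAs (CochainComplex.IsKInjective
      (((InjectiveObject.ι (CohTop.Ab X)).mapHomologicalComplex (ComplexShape.up ℤ)).obj M.obj))
  haveI : QuasiIso i.hom := hi
  haveI hiso : IsIso (DerivedCategory.Plus.Qh.map ((HomotopyCategory.Plus.quotient (CohTop.Ab X)).map i)) := by
    haveI : IsIso (DerivedCategory.Plus.ι.map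
        (DerivedCategory.Plus.Qh.map ((HomotopyCategory.Plus.quotient (CohTop.Ab X)).map i))) := by
      refine ((NatIso.isIso_map_iff (DerivedCategory.quotientCompQhIso (CohTop.Ab X)) i.hom).2 ?_)
      infer_instance
    exact isIso_of_fully_faithful DerivedCategory.Plus.ι _
  let L : CochainComplex (CohTop.Ab Y) ℤ := ((CohTop.push f).mapHomologicalComplex (ComplexShape.up ℤ)).obj I
  obtain ⟨a⟩ := Groth.Misc7.HDU.nonempty_homology_iso_HDUPresheaf I p
  obtain ⟨b⟩ := Groth.Misc7.HDU.nonempty_presheafToSheaf_homology_iso L p
  let W : ((TopologicalSpace.Opens X)ᵒᵖ ⥤ AddCommGrpCat.{u}) ⥤ ((TopologicalSpace.Opens Y)ᵒᵖ ⥤ AddCommGrpCat.{u}) :=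
    (Functor.whiskeringLeft _ _ _).obj (TopologicalSpace.Opens.map f).op
  let e1 := (DerivedCategory.Plus.homologyFunctor (CohTop.Ab Y) p).mapIso
    (((CohTop.push f).rightDerivedFunctorPlus.mapIso
      (asIso (DerivedCategory.Plus.Qh.map ((HomotopyCategory.Plus.quotient (CohTop.Ab X)).map i)))) ≪≫
      (asIso ((CohTop.push f).rightDerivedFunctorPlusUnit.app
        ((HomotopyCategory.Plus.quotient (CohTop.Ab X)).obj
          ((InjectiveObject.ι (CohTop.Ab X)).mapCochainComplexPlus.obj M)))).symm)
  let e2 : (DerivedCategory.Plus.homologyFunctor (CohTop.Ab Y) p).obj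
      (DerivedCategory.Plus.Qh.obj ((CohTop.push f).mapHomotopyCategoryPlus.obj
        ((HomotopyCategory.Plus.quotient (CohTop.Ab X)).obj
          ((InjectiveObject.ι (CohTop.Ab X)).mapCochainComplexPlus.obj M)))) ≅ L.homology p :=
    (DerivedCategory.homologyFunctor (CohTop.Ab Y) p).mapIso
      ((DerivedCategory.quotientCompQhIso (CohTop.Ab Y)).app L) ≪≫
      (DerivedCategory.homologyFunctorFactors (CohTop.Ab Y) p).app L
  exact ⟨e1 ≪≫ e2 ≪≫ b.symm ≪≫ Functor.mapIso _
    (((Groth.Misc7.HDU.preZ I).sc p).mapHomologyIso W ≪≫ W.mapIso (a ≪≫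
      Groth.Misc7.HDU.hduPresheafMapIso (asIso (DerivedCategory.Q.map i.hom)).symm p))⟩

end Groth.Agent.S8351
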