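import Groth.Statements.S8353
import Mathlib

set_option autoImplicit false
universe u
open HomAlg3

namespace Groth.Agent.S8353

open Submodule

universe v

theorem pow_smul_le {S : Type u} [CommRing S] {J : Ideal S} {M : Type v} [AddCommGroup M] [Module S M]
    {F : ℤ → Submodule S M} (hJ : ∀ p : ℤ, J • F p ≤ F (p + 1)) (q : ℤ) (n : ℕ) :
    J ^ n • F q ≤ F (q + n) := by
  induction n with
  | zero => simp
  | succ n ih =>
    rw [pow_succ', Submodule.mul_smul]
    refine (Submodule.smul_mono le_rfl ih).trans ((hJ _).trans (le_of_eq (congrArg F ?_)))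
    push_cast; ring

/-- successive approximation -/
theorem le_of_approx {S : Type u} [CommRing S] (J : Ideal S) [IsAdicComplete J S] {M : Type v}
    [AddCommGroup M] [Module S M] (F : ℤ → Submodule S M) (hF : Antitone F)
    (hJ : ∀ p : ℤ, J • F p ≤ F (p + 1)) (hsep : ⨅ p : ℤ, F p = ⊥)
    (q : ℤ) (W : Submodule S M) (hW : W ≤ F q) (hfg : W.FG)
    (happ : ∀ n : ℕ, F (q + n) ≤ J ^ n • W ⊔ F (q + n + 1)) : F q ≤ W := by
  obtain ⟨k, g, hg⟩ := Submodule.fg_iff_exists_fin_generating_family.mp hfg
  have step : ∀ (n : ℕ) (y : M), y ∈ F (q + n) →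
      ∃ c : Fin k → S, (∀ i, c i ∈ J ^ n) ∧ y - ∑ i, c i • g i ∈ F (q + n + 1) := by
    intro n y hy
    obtain ⟨w, hw, z, hz, rfl⟩ := Submodule.mem_sup.mp (happ n hy)
    rw [← hg, Submodule.mem_ideal_smul_span_iff_exists_sum] at hw
    obtain ⟨a, ha, rfl⟩ := hw
    refine ⟨a, ha, ?_⟩
    rw [Finsupp.sum_fintype _ _ (by simp), add_sub_cancel_left]
    exact hz
  choose c hcJ hc using step
  intro x hx
  let seq : ∀ n : ℕ, {y : M // y ∈ F (q + n)} := fun n =>
    Nat.rec ⟨x, by simpa using hx⟩
      (fun m y => ⟨y.1 - ∑ i, c m y.1 y.2 i • g i, by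
        have : q + ((m + 1 : ℕ) : ℤ) = q + m + 1 := by push_cast; ring
        rw [this]; exact hc m y.1 y.2⟩) n
  let d : ℕ → Fin k → S := fun n => c n (seq n).1 (seq n).2
  have hd : ∀ n i, d n i ∈ J ^ n := fun n i => hcJ n _ _ i
  let s : Fin k → ℕ → S := fun i N => ∑ n ∈ Finset.range N, d n i
  have hsN : ∀ N, x = (∑ i, s i N • g i) + (seq N).1 := by
    intro N
    induction N with
    | zero => simp [s, seq]
    | succ N ih =>
      have : (seq (N + 1)).1 = (seq N).1 - ∑ i, d N i • g i := rfl
      rw [this]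
      conv_lhs => rw [ih]
      simp only [s, Finset.sum_range_succ, add_smul, Finset.sum_add_distrib]
      abel
  have hcauchy : ∀ i, ∀ {m n : ℕ}, m ≤ n → s i m ≡ s i n [SMOD (J ^ m • ⊤ : Submodule S S)] := by
    intro i m n hmn
    rw [SModEq.sub_mem, smul_eq_mul, Ideal.mul_top, ← neg_mem_iff, neg_sub]
    simp only [s]
    rw [← Finset.sum_Ico_eq_sub _ hmn]
    refine Ideal.sum_mem _ fun l hl => Ideal.pow_le_pow_right (Finset.mem_Ico.mp hl).1 (hd l i)
  choose L hL using fun i => IsPrecomplete.prec (I := J) (M := S) inferInstance (f := s i) (hcauchy i)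
  have hLW : ∑ i, L i • g i ∈ W := by
    rw [← hg]; exact Submodule.sum_mem _ fun i _ => smul_mem _ _ (subset_span ⟨i, rfl⟩)
  have hx' : x = ∑ i, L i • g i := by
    rw [← sub_eq_zero]
    have : x - ∑ i, L i • g i ∈ ⨅ p : ℤ, F p := by
      refine (Submodule.mem_iInf _).mpr fun p => ?_
      let N := (p - q).toNat
      refine hF (show p ≤ q + N by omega) ?_
      have e : x - ∑ i, L i • g i = (seq N).1 + ∑ i, (s i N - L i) • g i := by
        conv_lhs => rw [hsN N]
        simp only [sub_smul, Finset.sum_sub_distrib]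
        abel
      rw [e]
      refine add_mem (seq N).2 (Submodule.sum_mem _ fun i _ => pow_smul_le hJ q N ?_)
      refine Submodule.smul_mem_smul ?_ (hW (hg ▸ subset_span ⟨i, rfl⟩))
      have := hL i N
      rwa [SModEq.sub_mem, smul_eq_mul, Ideal.mul_top] at this
    rwa [hsep, Submodule.mem_bot] at this
  exact hx' ▸ hLW


/-- Let S be a Noetherian ring which is separated and complete for the adic topology of an ideal J, and
let M be an S-module with a decreasing filtration (F^p M)_{p ∈ ℤ} by submodules such that F^p M = M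
for some p, J·F^p M ⊆ F^{p+1} M for all p, and ⋂_p F^p M = 0. Then the following are equivalent: (a)
M is a finitely generated S-module and J·F^p M = F^{p+1} M for all large p; (c) every F^p M /
F^{p+1} M is a finitely generated S-module and, for all large p, the map J ⊗ (F^p M/F^{p+1} M) ⟶
F^{p+1} M/F^{p+2} M is surjective, that is F^{p+1} M = J·F^p M + F^{p+2} M. (The published statement
also lists a third equivalent condition, finite generation of the associated graded module over the
associated graded ring; this row states the equivalence of the other two.) -/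
theorem result {S : Type u} [CommRing S] [IsNoetherianRing S]
    (J : Ideal S) [IsAdicComplete J S] {M : Type u} [AddCommGroup M] [Module S M]
    (F : ℤ → Submodule S M) (hF : Antitone F) (hcod : ∃ p₀ : ℤ, F p₀ = ⊤)
    (hJ : ∀ p : ℤ, J • F p ≤ F (p + 1)) (hsep : ⨅ p : ℤ, F p = ⊥) :
    (Module.Finite S M ∧ ∃ p₁ : ℤ, ∀ p : ℤ, p₁ ≤ p → J • F p = F (p + 1)) ↔
      ((∀ p : ℤ, (Submodule.map (F (p + 1)).mkQ (F p)).FG) ∧
        ∃ p₁ : ℤ, ∀ p : ℤ, p₁ ≤ p → F (p + 1) = J • F p ⊔ F (p + 2)) := by
  constructor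
  · rintro ⟨hfin, p₁, hp₁⟩
    have : IsNoetherian S M := isNoetherian_of_isNoetherianRing_of_finite S M
    refine ⟨fun p => (IsNoetherian.noetherian _).map _, p₁, fun p hp => ?_⟩
    refine le_antisymm ((hp₁ p hp).ge.trans le_sup_left) (sup_le (hJ p) (hF (by omega)))
  · rintro ⟨hgr, p₁, hp₁⟩
    obtain ⟨p₀, hp₀⟩ := hcod
    -- a finitely generated lift of a graded piece
    have hlift : ∀ p, ∃ W : Submodule S M, W.FG ∧ W ≤ F p ∧ F p ≤ W ⊔ F (p + 1) := by
      intro p
      obtain ⟨k, v, hv⟩ := Submodule.fg_iff_exists_fin_generating_family.mp (hgr p)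
      have hmem : ∀ i, v i ∈ Submodule.map (F (p + 1)).mkQ (F p) := fun i => hv ▸ subset_span ⟨i, rfl⟩
      choose g hg hgv using fun i => Submodule.mem_map.mp (hmem i)
      refine ⟨span S (Set.range g), Submodule.fg_span (Set.finite_range g),
        span_le.mpr (by rintro _ ⟨i, rfl⟩; exact hg i), fun x hx => ?_⟩
      have : (F (p + 1)).mkQ x ∈ (span S (Set.range g)).map (F (p + 1)).mkQ := by
        rw [Submodule.map_span, ← Set.range_comp,
          show ((F (p + 1)).mkQ ∘ g : Fin k → _) = v from funext hgv, hv]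
        exact Submodule.mem_map_of_mem hx
      rw [← Submodule.mem_comap, Submodule.comap_map_mkQ, sup_comm] at this
      exact this
    obtain ⟨W, hWfg, hWle, hW⟩ := hlift p₁
    have happ : ∀ n : ℕ, F (p₁ + n) ≤ J ^ n • W ⊔ F (p₁ + n + 1) := by
      intro n
      induction n with
      | zero => simpa using hW
      | succ n ih =>
        rw [show p₁ + ((n + 1 : ℕ) : ℤ) = p₁ + n + 1 by push_cast; ring]
        conv_lhs => rw [hp₁ (p₁ + n) (by omega)]
        refine sup_le ((Submodule.smul_mono le_rfl ih).trans ?_) ?_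
        · rw [Submodule.smul_sup, ← Submodule.mul_smul, ← pow_succ']
          exact sup_le le_sup_left ((hJ _).trans le_sup_right)
        · exact le_of_eq_of_le (congrArg F (by ring)) le_sup_right
    have hexact : ∀ m : ℕ, F (p₁ + m) = J ^ m • W := by
      intro m
      have hle : J ^ m • W ≤ F (p₁ + m) :=
        (Submodule.smul_mono le_rfl hWle).trans (pow_smul_le hJ p₁ m)
      refine le_antisymm (le_of_approx J F hF hJ hsep _ _ hle
        (Submodule.FG.smul (IsNoetherian.noetherian (J ^ m)) hWfg) fun n => ?_) hle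
      rw [← Submodule.mul_smul, ← pow_add]
      have := happ (n + m)
      rw [show p₁ + ((n + m : ℕ) : ℤ) = p₁ + m + n by push_cast; ring] at this
      exact this
    have hfg : ∀ j : ℕ, (F (p₁ - j)).FG := by
      intro j
      induction j with
      | zero =>
        have := hexact 0
        simp only [CharP.cast_eq_zero, add_zero, pow_zero, one_smul] at this
        rw [show p₁ - ((0 : ℕ) : ℤ) = p₁ by simp, this]
        simpa using hWfg
      | succ j ih =>
        have e : p₁ - j = p₁ - ((j + 1 : ℕ) : ℤ) + 1 := by push_cast; ring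
        refine Submodule.fg_of_fg_map_of_fg_inf_ker (F (p₁ - j)).mkQ ?_ ?_
        · rw [e]; exact hgr _
        · rw [Submodule.ker_mkQ, inf_eq_right.mpr (hF (by omega))]; exact ih
    refine ⟨⟨?_⟩, p₁, fun p hp => ?_⟩
    · let j := (p₁ - p₀).toNat
      have : F (p₁ - j) = ⊤ := top_le_iff.mp (hp₀ ▸ hF (show p₁ - (j : ℤ) ≤ p₀ by omega))
      exact this ▸ hfg j
    · obtain ⟨m, rfl⟩ : ∃ m : ℕ, p = p₁ + m := ⟨(p - p₁).toNat, by omega⟩
      rw [hexact m, ← Submodule.mul_smul, ← pow_succ', ← hexact (m + 1)]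
      exact congrArg F (by push_cast; ring)
end Groth.Agent.S8353
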