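import Groth.Statements.S8354
import Groth.Agent.S12229

set_option autoImplicit false
universe w w' v v' u u'
open CategoryTheory CategoryTheory.Limits
open HomAlg3

namespace Groth.Agent.S8354

/-- Bounded-below case, exactness at the middle term. Let T : C ⥤ D be an additive functor of abelian
categories, C having enough injectives, and 0 ⟶ K₁ ⟶ K₂ ⟶ K₃ ⟶ 0 a short exact sequence of bounded
below cochain complexes of C. Let R^n T(K) denote the n-th cohomology object of R⁺T(K), where R⁺T is
the right derived functor of T on the bounded below derived category (computed with injective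
resolutions). Then R^n T(K₁) ⟶ R^n T(K₂) ⟶ R^n T(K₃) is exact for every n. (The published statement
asserts a long exact sequence with connecting morphisms; this row states exactness at the middle
term only, with the vanishing of the composite carried as a hypothesis.) -/
theorem result {C : Type u} [Category.{v} C] [Abelian C]
    [EnoughInjectives C] [HasDerivedCategory.{w} C] {D : Type u'} [Category.{v'} D] [Abelian D]
    [HasDerivedCategory.{w'} D] (T : C ⥤ D) [T.Additive] {K₁ K₂ K₃ : CochainComplex.Plus C}
    (φ : K₁ ⟶ K₂) (ψ : K₂ ⟶ K₃) (hφψ : φ.hom ≫ ψ.hom = 0)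
    (hS : (ShortComplex.mk φ.hom ψ.hom hφψ).ShortExact) (n : ℤ)
    (hz : (HomotopyCategory.Plus.quotient C ⋙ DerivedCategory.Plus.Qh ⋙ T.rightDerivedFunctorPlus ⋙
          DerivedCategory.Plus.homologyFunctor D n).map φ ≫
      (HomotopyCategory.Plus.quotient C ⋙ DerivedCategory.Plus.Qh ⋙ T.rightDerivedFunctorPlus ⋙
          DerivedCategory.Plus.homologyFunctor D n).map ψ = 0) :
    (ShortComplex.mk ((HomotopyCategory.Plus.quotient C ⋙ DerivedCategory.Plus.Qh ⋙ T.rightDerivedFunctorPlus ⋙
          DerivedCategory.Plus.homologyFunctor D n).map φ)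
      ((HomotopyCategory.Plus.quotient C ⋙ DerivedCategory.Plus.Qh ⋙ T.rightDerivedFunctorPlus ⋙
          DerivedCategory.Plus.homologyFunctor D n).map ψ) hz).Exact := by
  have hex : kernelSubobject ψ.hom = imageSubobject φ.hom :=
    ((ShortComplex.exact_iff_image_eq_kernel _).1 hS.exact).symm
  rw [ShortComplex.exact_iff_image_eq_kernel]
  exact (Groth.Agent.S12229.long_exact T φ ψ hS.mono_f hS.epi_g hex n).1.symm

end Groth.Agent.S8354
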