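import Groth.Statements.S8356
import Groth.Agent.Misc3Lie.Bracket
-- import your own Groth.Agent.* helpers here

set_option autoImplicit false
universe u
open CategoryTheory MonObj AlgebraicGeometry
open LieS

namespace Groth.Agent.S8356

set_option maxSynthPendingDepth 6

/-- For a group scheme G over a scheme S and an affine S-scheme T = Spec B, the group Lie(G/S)(T) of
points of G with values in the dual numbers over T that restrict to the unit along the zero section,
with the group law of G and the rescaling action of B, is the additive group of a Lie algebra over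
B: there are a Lie algebra L over B and a multiplicative isomorphism from L onto Lie(G/S)(T)
carrying the scalar multiplication of L to the rescaling action and the bracket of L to the
infinitesimal commutator on the iterated dual numbers. In particular the group law of Lie(G/S)(T) is
commutative, the rescaling action makes it a B-module, and the bracket so defined is B-bilinear,
alternating and satisfies the Jacobi identity. -/
theorem result (S : Scheme.{u}) (G : Over S) [GrpObj G] (B : Type u) [CommRing B]
    (f : Spec (CommRingCat.of B) ⟶ S) :
    ∃ (L : Type u) (_ : LieRing L) (_ : LieAlgebra B L), Nonempty (LieS.Model G B f L) := by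
  letI : CommGroup (LieS.Lie G B f) := { Subgroup.toGroup _ with mul_comm := Misc3Lie.mul_comm' G f }
  let L := Additive ↥(LieS.Lie G B f)
  let mo : L → ↥(LieS.Lie G B f) := Additive.toMul
  have hinj : Function.Injective mo := Additive.toMul.injective
  letI : Bracket L L := ⟨fun a b => Additive.ofMul (Misc3Lie.br G f (mo a) (mo b))⟩
  letI : SMul B L := ⟨fun b a => Additive.ofMul (b • mo a)⟩
  have hbr : ∀ a b : L, mo ⁅a, b⁆ = Misc3Lie.br G f (mo a) (mo b) := fun _ _ => rfl
  have hsm : ∀ (b : B) (a : L), mo (b • a) = b • mo a := fun _ _ => rfl
  have hadd : ∀ a b : L, mo (a + b) = mo a * mo b := fun _ _ => rfl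
  have hzero : mo 0 = 1 := rfl
  letI : LieRing L :=
    { (inferInstance : AddCommGroup L) with
      bracket := fun a b => ⁅a, b⁆
      add_lie := fun a b c => hinj (by rw [hbr, hadd, hadd, hbr, hbr, Misc3Lie.br_mul_left])
      lie_add := fun a b c => hinj (by rw [hbr, hadd, hadd, hbr, hbr, Misc3Lie.br_mul_right])
      lie_self := fun a => hinj (by rw [hbr, hzero, Misc3Lie.br_self])
      leibniz_lie := fun a b c => hinj (by rw [hadd, hbr, hbr, hbr, hbr, hbr, hbr, Misc3Lie.br_jacobi]) }
  have hsm_mul : ∀ (b : B) (x y : ↥(LieS.Lie G B f)), b • (x * y) = (b • x) * (b • y) := fun b x y =>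
    Subtype.ext (Misc3Lie.comp_mul' (LieS.scale B f b) x.1 y.1)
  have hsm_one : ∀ b : B, b • (1 : ↥(LieS.Lie G B f)) = 1 := fun b => Subtype.ext (MonObj.comp_one _)
  letI : Module B L :=
    { (inferInstance : SMul B L) with
      one_smul := fun a => hinj (by rw [hsm, Groth.LieSBasic.one_smul'])
      mul_smul := fun a b x => hinj (by rw [hsm, hsm, hsm, Misc3Lie.smul_comm_smul])
      smul_zero := fun b => hinj (by rw [hsm, hzero, hsm_one])
      smul_add := fun b x y => hinj (by rw [hsm, hadd, hadd, hsm, hsm, hsm_mul])
      add_smul := fun a b x => hinj (by rw [hsm, hadd, hsm, hsm, Groth.LieSBasic.smul_mul_smul'])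
      zero_smul := fun x => hinj (by
        rw [hsm, hzero]
        exact Subtype.ext (Groth.LieSBasic.scale_zero_comp G f (mo x))) }
  letI : LieAlgebra B L :=
    { lie_smul := fun b x y => hinj (by rw [hbr, hsm, hsm, hbr, Misc3Lie.br_smul_right]) }
  exact ⟨L, inferInstance, inferInstance, ⟨
    { e := MulEquiv.mk' ((Multiplicative.toAdd (α := L)).trans Additive.toMul) (fun _ _ => rfl)
      e_smul := fun _ _ => rfl
      e_lie := fun x y => Misc3Lie.isBracket_br G f _ _ }⟩⟩

end Groth.Agent.S8356
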