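import Groth.Statements.S8358
-- import your own Groth.Agent.* helpers here

set_option autoImplicit false
universe u
open CategoryTheory MonObj AlgebraicGeometry
open LieS

namespace Groth.Agent.S8358

variable (R : Type u) [CommRing R] (M : Type) [AddCommGroup M] (B : Type u) [CommRing B] [Algebra R B]

local notation "RM" => MonoidAlgebra R (Multiplicative M)
local notation "PT" => (dpt B (Spec.map (CommRingCat.ofHom (algebraMap R B))) ⟶ Red.diag R M)

variable {R M B}

/-- the algebra homomorphism of a point -/
noncomputable def phi (v : PT) : RM →ₐ[R] DualNumber B :=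
  (Spec.mapMulEquiv.symm ((dptIso B).inv ≫ v)).ofConv

theorem mapMulEquiv_left' {R' S T : Type u} [CommRing R'] [CommRing S] [CommRing T] [Bialgebra R' S]
    [Algebra R' T] (a : WithConv (S →ₐ[R'] T)) :
    (Spec.mapMulEquiv a).left = Spec.map (CommRingCat.ofHom a.ofConv.toRingHom) := rfl

theorem spec_phi (v : PT) : Spec.map (CommRingCat.ofHom (phi v).toRingHom) = v.left := by
  unfold phi
  rw [← mapMulEquiv_left', MulEquiv.apply_symm_apply, Over.comp_left]
  exact Category.id_comp _

/-- the point of an algebra homomorphism -/
noncomputable def mkPt (a : RM →ₐ[R] DualNumber B) : PT :=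
  (dptIso B).hom ≫ Spec.mapMulEquiv (WithConv.toConv a)

theorem phi_mkPt (a : RM →ₐ[R] DualNumber B) : phi (mkPt a) = a := by
  simp [phi, mkPt]

theorem mkPt_phi (v : PT) : mkPt (phi v) = v := by
  simp [phi, mkPt]

theorem phi_mul (v w : PT) (m : Multiplicative M) :
    phi (v * w) (MonoidAlgebra.single m 1)
      = phi v (MonoidAlgebra.single m 1) * phi w (MonoidAlgebra.single m 1) := by
  have h : (dptIso B).inv ≫ (v * w) = ((dptIso B).inv ≫ v) * ((dptIso B).inv ≫ w) :=
    ((yonedaGrpObj (Red.diag R M)).map ((dptIso B).inv).op).hom.map_mul v w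
  simp only [phi, h, map_mul]
  exact (AlgHom.convMul_apply _ _ _).trans (by simp)

theorem phi_mem (v : PT) : v ∈ LieR (Red.diag R M) B ↔
    ∀ m : Multiplicative M, (phi v (MonoidAlgebra.single m 1)).fst = 1 := by
  rw [mem_Lie_iff]
  have h1 : (zeroSec B (Spec.map (CommRingCat.ofHom (algebraMap R B))) ≫ v).left
      = Spec.map (CommRingCat.ofHom (((TrivSqZeroExt.fstHom R B B).comp (phi v)).toRingHom)) := by
    rw [Over.comp_left, ← spec_phi v]
    exact specMap_comp _ _
  have h2 : (1 : pt B (Spec.map (CommRingCat.ofHom (algebraMap R B))) ⟶ Red.diag R M).left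
      = Spec.map (CommRingCat.ofHom
          (((Algebra.ofId R B).comp (Bialgebra.counitAlgHom R RM)).toRingHom)) := by
    rw [Hom.one_def, Over.comp_left, Over.toUnit_left]
    erw [one_spec_asOver_spec_left]
    exact specMap_comp _ _
  constructor
  · intro h m
    have h3 := h1.symm.trans ((congrArg (fun q => q.left) h).trans h2)
    have h4 : ((TrivSqZeroExt.fstHom R B B).comp (phi v)).toRingHom
        = ((Algebra.ofId R B).comp (Bialgebra.counitAlgHom R RM)).toRingHom :=
      congrArg CommRingCat.Hom.hom (Spec.map_injective h3)
    exact (congrArg (fun q : RM →+* B => q (MonoidAlgebra.single m 1)) h4).trans (by simp)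
  · intro h
    apply Over.OverMorphism.ext
    rw [h1, h2]
    have : (TrivSqZeroExt.fstHom R B B).comp (phi v)
        = (Algebra.ofId R B).comp (Bialgebra.counitAlgHom R RM) := by
      apply (MonoidAlgebra.lift R B (Multiplicative M)).symm.injective
      apply MonoidHom.ext
      intro m
      simpa using h m
    rw [this]

theorem mem_snd (v : LieR (Red.diag R M) B) (m : Multiplicative M) :
    phi v.1 (MonoidAlgebra.single m 1)
      = 1 + TrivSqZeroExt.inr (phi v.1 (MonoidAlgebra.single m 1)).snd := by
  apply TrivSqZeroExt.ext <;> simp [(phi_mem v.1).1 v.2 m]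

/-- the homomorphism `M → B` of a point of the Lie algebra -/
noncomputable def toAdd' (v : LieR (Red.diag R M) B) : M →+ B :=
  AddMonoidHom.mk' (fun m => (phi v.1 (MonoidAlgebra.single (Multiplicative.ofAdd m) 1)).snd)
    fun a b => by
      have : MonoidAlgebra.single (Multiplicative.ofAdd (a + b)) (1 : R)
          = MonoidAlgebra.single (Multiplicative.ofAdd a) 1
            * MonoidAlgebra.single (Multiplicative.ofAdd b) 1 := by
        simp [MonoidAlgebra.single_mul_single]
      rw [this, map_mul, DualNumber.snd_mul, (phi_mem v.1).1 v.2, (phi_mem v.1).1 v.2]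
      ring

/-- the point `m ↦ 1 + h(m) ε` -/
noncomputable def ofAdd' (h : M →+ B) : RM →ₐ[R] DualNumber B :=
  MonoidAlgebra.lift R (DualNumber B) (Multiplicative M)
    { toFun := fun m => 1 + TrivSqZeroExt.inr (h m.toAdd)
      map_one' := by simp
      map_mul' := fun a b => by
        apply TrivSqZeroExt.ext <;> simp [DualNumber.snd_mul]; ring }

theorem ofAdd'_single (h : M →+ B) (m : Multiplicative M) :
    ofAdd' (R := R) h (MonoidAlgebra.single m 1) = 1 + TrivSqZeroExt.inr (h m.toAdd) := by
  simp [ofAdd']

theorem mkPt_ofAdd'_mem (h : M →+ B) : mkPt (ofAdd' (R := R) h) ∈ LieR (Red.diag R M) B := by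
  rw [phi_mem]
  intro m
  simp [phi_mkPt, ofAdd'_single]


/-- First isomorphism: over an affine base: for a commutative ring R, a commutative group M, the
diagonalisable group D(M) = Spec R[M] over Spec R and a commutative R-algebra B, the group
Lie(D(M))(Spec B) is identified with the additive group Hom(M, B) of group homomorphisms: there is a
multiplicative isomorphism which sends a point v of D(M) with values in B[ε], read as an R-algebra
homomorphism from R[M] to B[ε], to the homomorphism m ↦ (ε-coefficient of the image of m), and which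
carries the rescaling action of b in B to multiplication of homomorphisms by b. -/
theorem result (R : Type u) [CommRing R] (M : Type) [AddCommGroup M]
    (B : Type u) [CommRing B] [Algebra R B] :
    ∃ e : LieS.LieR (Red.diag R M) B ≃* Multiplicative (M →+ B),
      (∀ (v : LieS.LieR (Red.diag R M) B) (m : M),
        Multiplicative.toAdd (e v) m =
          TrivSqZeroExt.snd (((Spec.mapMulEquiv.symm ((LieS.dptIso B).inv ≫ v.1)).ofConv :
            MonoidAlgebra R (Multiplicative M) →ₐ[R] DualNumber B)
            (MonoidAlgebra.single (Multiplicative.ofAdd m) 1))) ∧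
      ∀ (b : B) (v : LieS.LieR (Red.diag R M) B),
        e (b • v) = Multiplicative.ofAdd (b • Multiplicative.toAdd (e v)) := by
  let e : LieS.LieR (Red.diag R M) B ≃* Multiplicative (M →+ B) :=
    { toFun := fun v => Multiplicative.ofAdd (toAdd' v)
      invFun := fun h => ⟨mkPt (ofAdd' h.toAdd), mkPt_ofAdd'_mem h.toAdd⟩
      left_inv := fun v => by
        apply Subtype.ext
        conv_rhs => rw [← mkPt_phi v.1]
        refine congrArg mkPt ((MonoidAlgebra.lift R (DualNumber B) (Multiplicative M)).symm.injective ?_)
        apply MonoidHom.ext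
        intro m
        exact (ofAdd'_single (toAdd' v) m).trans (mem_snd v m).symm
      right_inv := fun h => by
        apply Multiplicative.toAdd.injective
        apply AddMonoidHom.ext
        intro m
        show (phi (mkPt (ofAdd' h.toAdd)) (MonoidAlgebra.single (Multiplicative.ofAdd m) 1)).snd = _
        rw [phi_mkPt, ofAdd'_single]
        simp
      map_mul' := fun v w => by
        apply Multiplicative.toAdd.injective
        apply AddMonoidHom.ext
        intro m
        show (phi (v.1 * w.1) (MonoidAlgebra.single (Multiplicative.ofAdd m) 1)).snd = _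
        rw [phi_mul, DualNumber.snd_mul, (phi_mem v.1).1 v.2, (phi_mem w.1).1 w.2]
        simp [toAdd']
        ring }
  refine ⟨e, fun v m => rfl, fun b v => ?_⟩
  apply Multiplicative.toAdd.injective
  apply AddMonoidHom.ext
  intro m
  show (phi (b • v).1 (MonoidAlgebra.single (Multiplicative.ofAdd m) 1)).snd
    = b • (phi v.1 (MonoidAlgebra.single (Multiplicative.ofAdd m) 1)).snd
  have h : (phi (b • v).1).toRingHom = (scaleHom b).comp (phi v.1).toRingHom := by
    have h' : Spec.map (CommRingCat.ofHom (phi (b • v).1).toRingHom)
        = Spec.map (CommRingCat.ofHom ((scaleHom b).comp (phi v.1).toRingHom)) := by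
      rw [spec_phi, smul_val, Over.comp_left, ← spec_phi v.1]
      exact specMap_comp _ _
    exact congrArg CommRingCat.Hom.hom (Spec.map_injective h')
  have h2 := congrArg (fun q : MonoidAlgebra R (Multiplicative M) →+* DualNumber B =>
    (q (MonoidAlgebra.single (Multiplicative.ofAdd m) 1)).snd) h
  exact h2.trans (by simp [scaleHom, TrivSqZeroExt.algebraMap_eq_inl', mul_comm])

end Groth.Agent.S8358
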