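import Groth.Statements.S8359
import Groth.Agent.Reductive.TrivialAction
import Groth.Agent.AlgGrp2.DiagBaseChange
import Mathlib.RingTheory.Ideal.Quotient.Operations

set_option autoImplicit false
universe u
open CategoryTheory MonObj AlgebraicGeometry
open Red

open MonoidalCategory CartesianMonoidalCategory MonObj GrpObj

namespace Groth.Agent.S8359

/-- Over an affine base S = Spec R with S₀ = Spec (R/I) for a nilpotent ideal I: for a commutative group
M, the diagonalisable group D(M) = Spec R[M] over S, a group scheme X locally of finite presentation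
over S and a homomorphism f from D(M) to X, if the base change of f to S₀ is the unit homomorphism
then f is the unit homomorphism. (The published statement is over an arbitrary base scheme with S₀
defined by a nilpotent quasi-coherent ideal; this row is its case of an affine base.) -/
theorem result (R : Type u) [CommRing R] (I : Ideal R) (hI : IsNilpotent I)
    (M : Type) [AddCommGroup M] (X : Over (Spec (CommRingCat.of R))) [GrpObj X]
    [LocallyOfFinitePresentation X.hom] (f : Red.diag R M ⟶ X) [IsMonHom f]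
    (h : (Over.pullback (Spec.map (CommRingCat.ofHom (Ideal.Quotient.mk I)))).map f = 1) :
    f = 1 := by
  let e := Groth.AlgGrp2.diagIsoDS R M
  haveI : IsMonHom e.inv := inferInstance
  let act : Red.DS (Spec (CommRingCat.of R)) M ⊗ X ⟶ X := (fst _ _ ≫ e.inv ≫ f) * snd _ _
  have hact : ∀ (Z : Over (Spec (CommRingCat.of R))) (a : Z ⟶ Red.DS (Spec (CommRingCat.of R)) M) (y : Z ⟶ X),
      lift a y ≫ act = (a ≫ e.inv ≫ f) * y := fun Z a y ↦ by
    simp only [act, MonObj.comp_mul, lift_fst_assoc, lift_snd]
  let σ := Scheme.ΓSpecIso (CommRingCat.of R)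
  let J : Ideal Γ(Spec (CommRingCat.of R), ⊤) := I.map σ.inv.hom
  have hJ : IsNilpotent J := by
    obtain ⟨n, hn⟩ := hI
    exact ⟨n, by rw [← Ideal.map_pow, hn, Ideal.zero_eq_bot, Ideal.map_bot, Ideal.zero_eq_bot]⟩
  have hsnd : act = snd _ _ := by
    refine Groth.Reductive.FreeDiag.eq_snd_of_diag act ?_ ?_ J hJ ?_
    · intro Z a b y
      rw [hact, hact, hact, MonObj.mul_comp, _root_.mul_assoc]
    · intro Z y
      rw [hact, MonObj.one_comp, _root_.one_mul]
    · intro Z hZ a y
      let φ : R →+* Γ(Z.left, ⊤) := (σ.inv ≫ Z.hom.appTop).hom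
      have hφ : ∀ r ∈ I, φ r = 0 := fun r hr ↦ hZ _ (Ideal.mem_map_of_mem _ hr)
      let q : Over (Spec (CommRingCat.of (R ⧸ I))) :=
        Over.mk (Z.left.toSpecΓ ≫ Spec.map (CommRingCat.ofHom (Ideal.Quotient.lift I φ hφ)))
      let j := Spec.map (CommRingCat.ofHom (Ideal.Quotient.mk I))
      have hw : q.hom ≫ j = Z.hom := by
        show (Z.left.toSpecΓ ≫ Spec.map _) ≫ Spec.map _ = Z.hom
        rw [Category.assoc, ← Spec.map_comp, ← CommRingCat.ofHom_comp, Ideal.Quotient.lift_comp_mk]
        show Z.left.toSpecΓ ≫ Spec.map (σ.inv ≫ Z.hom.appTop) = _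
        rw [Spec.map_comp, ← Category.assoc, ← Scheme.toSpecΓ_naturality, Category.assoc]
        simp [σ, toSpecΓ_SpecMap_ΓSpecIso_inv]
      let c : Z ⟶ (Over.map j).obj q := Over.homMk (𝟙 _) (by simpa using hw)
      let ci : (Over.map j).obj q ⟶ Z := Over.homMk (𝟙 _) (by simpa using hw.symm)
      let x : q ⟶ Red.bc j (Red.diag R M) :=
        (Over.mapPullbackAdj j).homEquiv q (Red.diag R M) (ci ≫ a ≫ e.inv)
      have hx : x ≫ (Over.pullback j).map f = 1 := by rw [h, MonObj.comp_one]
      have h1 := congrArg (Groth.Reductive.bcPointEquiv j X q) hx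
      rw [map_one] at h1
      have h2 : (ci ≫ a ≫ e.inv) ≫ f = 1 := by
        rw [← h1]
        show _ = Groth.Reductive.FreeDiag.qPt j (x ≫ (Over.pullback j).map f)
        rw [Groth.Reductive.FreeDiag.qPt_map, show Groth.Reductive.FreeDiag.qPt j x = ci ≫ a ≫ e.inv
          from Equiv.symm_apply_apply _ _]
      have h3 : a ≫ e.inv ≫ f = 1 := by
        have h4 := c ≫= h2
        rw [MonObj.comp_one] at h4
        rw [← h4, show c ≫ (ci ≫ a ≫ e.inv) ≫ f = (c ≫ ci) ≫ a ≫ e.inv ≫ f by simp only [Category.assoc],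
          show c ≫ ci = 𝟙 Z from Over.OverMorphism.ext (Category.id_comp _), Category.id_comp]
      rw [hact, h3, _root_.one_mul]
  have key := hact _ e.hom 1
  rw [hsnd, lift_snd, _root_.mul_one, e.hom_inv_id_assoc] at key
  exact key.symm

end Groth.Agent.S8359
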