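import Groth.Statements.S8362
import Groth.Agent.Divisors.IdealComap
import Mathlib.AlgebraicGeometry.Morphisms.ClosedImmersion
-- import your own Groth.Agent.* helpers here

set_option autoImplicit false
universe u
open CategoryTheory AlgebraicGeometry
open SGA3

namespace Groth.Agent.S8362

/-- Over an affine base S = Spec R with S₀ = Spec (R/J) for an ideal J of square zero: for an arbitrary
S-scheme X, every S-endomorphism of X inducing the identity on X ×_S S₀ is an automorphism. (The
published statement is over an arbitrary base scheme with a quasi-coherent ideal of square zero;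
this row is its case of an affine base, to which it reduces since being an isomorphism is local on
the base.) -/
theorem result (R : Type u) [CommRing R] (J : Ideal R) (hJ : J * J = ⊥)
    (X : Over (Spec (CommRingCat.of R))) (u : X ⟶ X)
    (h : (Over.pullback (Spec.map (CommRingCat.ofHom (Ideal.Quotient.mk J)))).map u = 𝟙 _) :
    IsIso u := by

  let σ := Scheme.ΓSpecIso (CommRingCat.of R)
  let i := Spec.map (CommRingCat.ofHom (Ideal.Quotient.mk J))
  have : IsClosedImmersion i :=
    IsClosedImmersion.spec_of_surjective _ Ideal.Quotient.mk_surjective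
  have : Surjective i := ⟨by
    intro p
    have hJp : J ≤ p.asIdeal := fun r hr => by
      have h2 : r * r ∈ J * J := Ideal.mul_mem_mul hr hr
      rw [hJ, Ideal.mem_bot] at h2
      exact (p.isPrime.mem_or_mem (h2 ▸ p.asIdeal.zero_mem : r * r ∈ p.asIdeal)).elim id id
    have : p ∈ Set.range (PrimeSpectrum.comap (Ideal.Quotient.mk J)) := by
      rw [range_comap_of_surjective _ _ Ideal.Quotient.mk_surjective, Ideal.mk_ker]
      exact hJp
    obtain ⟨q, hq⟩ := this
    exact ⟨q, hq⟩⟩
  let j := Limits.pullback.fst X.hom i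
  have hju : j ≫ u.left = j := by
    have := congrArg (fun m => m.left ≫ Limits.pullback.fst X.hom i) h
    exact (Limits.pullback.lift_fst _ _ _).symm.trans (this.trans (Category.id_comp _))
  have hpt : ∀ x : X.left, u.left x = x := fun x => by
    obtain ⟨y, rfl⟩ := j.surjective x
    rw [← Scheme.Hom.comp_apply, hju]
  let J' : Ideal Γ(Spec (CommRingCat.of R), ⊤) := J.map σ.inv.hom
  have hJ' : J' * J' = ⊥ := by rw [← Ideal.map_mul, hJ, Ideal.map_bot]
  have hle : i.ker.ideal ⟨⊤, isAffineOpen_top _⟩ ≤ J' := fun r hr => by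
    rw [Scheme.Hom.ker_apply, RingHom.mem_ker] at hr
    have e := ConcreteCategory.congr_hom
      (Scheme.ΓSpecIso_naturality (CommRingCat.ofHom (Ideal.Quotient.mk J))) r
    have e2 : Ideal.Quotient.mk J (σ.hom r) = 0 := by
      refine e.symm.trans ?_
      show (Scheme.ΓSpecIso _).hom.hom (i.appTop.hom r) = 0
      rw [show i.appTop.hom r = 0 from hr, map_zero]
    have := Ideal.mem_map_of_mem σ.inv.hom (Ideal.Quotient.eq_zero_iff_mem.mp e2)
    simpa [J'] using this
  have happ : ∀ V : X.left.Opens, IsAffineOpen V → IsIso (u.left.app V) := fun V hV => by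
    have hVV : u.left ⁻¹ᵁ V = V := TopologicalSpace.Opens.ext (Set.ext fun x => by
      show u.left x ∈ V ↔ x ∈ V
      rw [hpt])
    let φ := u.left.appLE V V hVV.ge
    let ψ := X.hom.appLE ⊤ V (by simp)
    have h1 : φ ≫ j.appLE V (j ⁻¹ᵁ V) le_rfl = j.appLE V (j ⁻¹ᵁ V) le_rfl := by
      rw [Scheme.Hom.appLE_comp_appLE]; simp only [hju]
    have h2 : ψ ≫ φ = ψ := by
      rw [Scheme.Hom.appLE_comp_appLE]; simp only [Over.w u]; rfl
    let K : Ideal Γ(X.left, V) := J'.map ψ.hom
    have hK : ∀ a, φ.hom a - a ∈ K := fun a => by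
      have hk : φ.hom a - a ∈ j.ker.ideal ⟨V, hV⟩ := by
        rw [Scheme.Hom.ker_apply, RingHom.mem_ker, map_sub, sub_eq_zero]
        have := ConcreteCategory.congr_hom h1 a
        simpa [Scheme.Hom.app_eq_appLE] using this
      rw [Scheme.IdealSheafData.ker_fst_of_isClosedImmersion,
        Groth.Divisors.ideal_comap_affine i.ker X.hom ⟨⊤, isAffineOpen_top _⟩ ⟨V, hV⟩ (by simp)] at hk
      exact Ideal.map_mono hle hk
    have hK2 : K * K = ⊥ := by rw [← Ideal.map_mul, hJ', Ideal.map_bot]
    have hfix : ∀ x ∈ K, φ.hom x = x := fun x hx => by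
      induction hx using Submodule.span_induction with
      | mem x hx =>
        obtain ⟨r, -, rfl⟩ := hx
        exact ConcreteCategory.congr_hom h2 r
      | zero => simp
      | add a b _ _ ha hb => rw [map_add, ha, hb]
      | smul a x hx ha =>
        rw [smul_eq_mul, map_mul, ha]
        have : (φ.hom a - a) * x ∈ K * K := Ideal.mul_mem_mul (hK a) hx
        rw [hK2, Ideal.mem_bot, sub_mul, sub_eq_zero] at this
        exact this
    have : IsIso φ := by
      rw [ConcreteCategory.isIso_iff_bijective]
      refine ⟨(injective_iff_map_eq_zero φ.hom).mpr fun a ha => ?_, fun a => ?_⟩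
      · have hk := hK a
        rw [ha, zero_sub, neg_mem_iff] at hk
        rw [← hfix a hk, ha]
      · refine ⟨a - (φ.hom a - a), ?_⟩
        show φ.hom (a - (φ.hom a - a)) = a
        rw [map_sub, hfix _ (hK a)]; ring
    have : IsIso (homOfLE hVV.ge : V ⟶ u.left ⁻¹ᵁ V) :=
      ⟨homOfLE hVV.le, Subsingleton.elim _ _, Subsingleton.elim _ _⟩
    have e : φ = u.left.app V ≫ X.left.presheaf.map (homOfLE hVV.ge).op := rfl
    exact IsIso.of_isIso_fac_right e.symm
  have : IsIso u.left := by
    rw [← MorphismProperty.isomorphisms.iff (f := u.left),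
      IsZariskiLocalAtTarget.iff_of_iSup_eq_top (P := .isomorphisms Scheme.{u}) _
        (iSup_affineOpens_eq_top X.left)]
    intro V
    rw [MorphismProperty.isomorphisms.iff]
    have hVV : u.left ⁻¹ᵁ V.1 = V.1 := TopologicalSpace.Opens.ext (Set.ext fun x => by
      show u.left x ∈ V.1 ↔ x ∈ V.1
      rw [hpt])
    have : IsAffine (u.left ⁻¹ᵁ V.1).toScheme := by rw [hVV]; exact V.2
    have : IsAffine V.1.toScheme := V.2
    have : IsIso (u.left ∣_ V.1).appTop := by
      rw [morphismRestrict_appTop]
      have := happ (V.1.ι ''ᵁ ⊤) ((isAffineOpen_top V.1.toScheme).image_of_isOpenImmersion V.1.ι)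
      set_option backward.isDefEq.respectTransparency false in
      exact @IsIso.comp_isIso _ _ _ _ _ _ _ this (inferInstance)
    rw [← MorphismProperty.isomorphisms.iff (f := u.left ∣_ V.1), HasAffineProperty.iff_of_isAffine (P := .isomorphisms Scheme.{u})]
    exact ⟨inferInstance, this⟩
  have : IsIso ((Over.forget _).map u) := ‹IsIso u.left›
  exact isIso_of_reflects_iso u (Over.forget _)

end Groth.Agent.S8362
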