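import Groth.Statements.S8363
import Groth.Agent.Divisors.IdealComap
import Mathlib.AlgebraicGeometry.Morphisms.ClosedImmersion
-- import your own Groth.Agent.* helpers here

set_option autoImplicit false
universe u
open CategoryTheory MonObj AlgebraicGeometry
open SGA3

namespace Groth.Agent.S8363

section Helpers

open scoped MonObj
open MonoidalCategory CartesianMonoidalCategory

theorem appLE_congr' {A B : Scheme.{u}} {f g : A ⟶ B} (h : f = g) (U : B.Opens) (V : A.Opens)
    (e : V ≤ f ⁻¹ᵁ U) (e' : V ≤ g ⁻¹ᵁ U) : f.appLE U V e = g.appLE U V e' := by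
  subst h; rfl

theorem appLE_comp' {A B C : Scheme.{u}} (f : A ⟶ B) (g : B ⟶ C) (h : A ⟶ C) (hh : f ≫ g = h)
    (U : C.Opens) (W : B.Opens) (V : A.Opens) (e₁ : W ≤ g ⁻¹ᵁ U) (e₂ : V ≤ f ⁻¹ᵁ W)
    (e₃ : V ≤ h ⁻¹ᵁ U) (x) :
    (f.appLE W V e₂).hom ((g.appLE U W e₁).hom x) = (h.appLE U V e₃).hom x := by
  subst hh
  exact ConcreteCategory.congr_hom (Scheme.Hom.appLE_comp_appLE f g U W V e₁ e₂) x

def addHom {E A : Type u} [CommRing E] [CommRing A] (a b c : E →+* A)
    (h : ∀ x y, (a x - c x) * (b y - c y) = 0) : E →+* A where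
  toFun x := a x + b x - c x
  map_one' := by simp
  map_zero' := by simp
  map_add' x y := by simp only [map_add]; ring
  map_mul' x y := by
    simp only [map_mul]
    linear_combination -(h x y) - (h y x)

theorem surjective_specQuot (R : Type u) [CommRing R] (J : Ideal R) (hJ : J * J = ⊥) :
    Surjective (Spec.map (CommRingCat.ofHom (Ideal.Quotient.mk J))) := ⟨by
  intro p
  have hJp : J ≤ p.asIdeal := fun r hr => by
    have h2 : r * r ∈ J * J := Ideal.mul_mem_mul hr hr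
    rw [hJ, Ideal.mem_bot] at h2
    exact (p.isPrime.mem_or_mem (h2 ▸ p.asIdeal.zero_mem : r * r ∈ p.asIdeal)).elim id id
  have : p ∈ Set.range (PrimeSpectrum.comap (Ideal.Quotient.mk J)) := by
    rw [range_comap_of_surjective _ _ Ideal.Quotient.mk_surjective, Ideal.mk_ker]
    exact hJp
  obtain ⟨q, hq⟩ := this
  exact ⟨q, hq⟩⟩

theorem ker_sq (R : Type u) [CommRing R] (J : Ideal R) (hJ : J * J = ⊥)
    {T : Scheme.{u}} (t : T ⟶ Spec (CommRingCat.of R)) (V : T.affineOpens) :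
    (Limits.pullback.fst t (Spec.map (CommRingCat.ofHom (Ideal.Quotient.mk J)))).ker.ideal V *
      (Limits.pullback.fst t (Spec.map (CommRingCat.ofHom (Ideal.Quotient.mk J)))).ker.ideal V = ⊥ := by
  let σ := Scheme.ΓSpecIso (CommRingCat.of R)
  let i := Spec.map (CommRingCat.ofHom (Ideal.Quotient.mk J))
  have : IsClosedImmersion i :=
    IsClosedImmersion.spec_of_surjective _ Ideal.Quotient.mk_surjective
  let J' : Ideal Γ(Spec (CommRingCat.of R), ⊤) := J.map σ.inv.hom
  have hJ' : J' * J' = ⊥ := by rw [← Ideal.map_mul, hJ, Ideal.map_bot]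
  have hle : i.ker.ideal ⟨⊤, isAffineOpen_top _⟩ ≤ J' := fun r hr => by
    rw [Scheme.Hom.ker_apply, RingHom.mem_ker] at hr
    have e := ConcreteCategory.congr_hom
      (Scheme.ΓSpecIso_naturality (CommRingCat.ofHom (Ideal.Quotient.mk J))) r
    have e2 : Ideal.Quotient.mk J (σ.hom r) = 0 := by
      refine e.symm.trans ?_
      show (Scheme.ΓSpecIso _).hom.hom (i.appTop.hom r) = 0
      rw [show i.appTop.hom r = 0 from hr, map_zero]
    have := Ideal.mem_map_of_mem σ.inv.hom (Ideal.Quotient.eq_zero_iff_mem.mp e2)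
    simpa [J'] using this
  rw [Scheme.IdealSheafData.ker_fst_of_isClosedImmersion,
    Groth.Divisors.ideal_comap_affine i.ker t ⟨⊤, isAffineOpen_top _⟩ V (by simp), eq_bot_iff]
  refine (Ideal.mul_mono (Ideal.map_mono hle) (Ideal.map_mono hle)).trans ?_
  rw [← Ideal.map_mul, hJ', Ideal.map_bot]

theorem exists_same_hom {S : Scheme.{u}} {X Y : Over S} [GrpObj X] {T₀ : Scheme.{u}}
    (j : T₀ ⟶ Y.left) [Surjective j] [QuasiCompact j]
    (hK : ∀ V : Y.left.affineOpens, j.ker.ideal V * j.ker.ideal V = ⊥)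
    (g g' : Y ⟶ X) (hg : j ≫ g.left = j ≫ (1 : Y ⟶ X).left)
    (hg' : j ≫ g'.left = j ≫ (1 : Y ⟶ X).left) (y : Y.left) :
    ∃ V : Y.left.Opens, y ∈ V ∧ V.ι ≫ (g * g').left = V.ι ≫ (g' * g).left := by
  let P : Over S := X ⊗ X
  let μl : P.left ⟶ X.left := (μ[X]).left
  let pz : (Y ⟶ X) → (Y ⟶ X) → (Y.left ⟶ P.left) := fun a b => (lift a b).left
  have hfst : ∀ a b, pz a b ≫ (fst X X).left = a.left := fun a b =>
    congrArg CommaMorphism.left (lift_fst a b)
  have hsnd : ∀ a b, pz a b ≫ (snd X X).left = b.left := fun a b =>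
    congrArg CommaMorphism.left (lift_snd a b)
  have hmul : ∀ a b, pz a b ≫ μl = (a * b).left := fun a b => rfl
  have hj : ∀ a b : Y ⟶ X, j ≫ a.left = j ≫ (1 : Y ⟶ X).left → j ≫ b.left = j ≫ (1 : Y ⟶ X).left →
      j ≫ pz a b = j ≫ pz 1 1 := fun a b ha hb => by
    let T : Over S := Over.mk (j ≫ Y.hom)
    let jo : T ⟶ Y := Over.homMk j rfl
    have : jo ≫ lift a b = jo ≫ lift (1 : Y ⟶ X) 1 := by
      rw [comp_lift, comp_lift,
        show jo ≫ a = jo ≫ (1 : Y ⟶ X) from Over.OverMorphism.ext ha,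
        show jo ≫ b = jo ≫ (1 : Y ⟶ X) from Over.OverMorphism.ext hb]
    exact congrArg CommaMorphism.left this
  have hpt : ∀ {Z : Scheme.{u}} (a b : Y.left ⟶ Z), j ≫ a = j ≫ b → ∀ t : Y.left, a t = b t :=
    fun a b hab t => by
      obtain ⟨s, rfl⟩ := j.surjective t
      rw [← Scheme.Hom.comp_apply, hab, Scheme.Hom.comp_apply]
  obtain ⟨_, ⟨W, hW, rfl⟩, heW, -⟩ := X.left.isBasis_affineOpens.exists_subset_of_mem_open
    (Set.mem_univ ((1 : Y ⟶ X).left y)) isOpen_univ
  let O : P.left.Opens := (fst X X).left ⁻¹ᵁ W ⊓ (snd X X).left ⁻¹ᵁ W ⊓ μl ⁻¹ᵁ W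
  have hqO : pz 1 1 y ∈ O := by
    refine ⟨⟨?_, ?_⟩, ?_⟩
    · show (fst X X).left (pz 1 1 y) ∈ W
      rw [← Scheme.Hom.comp_apply, hfst]; exact heW
    · show (snd X X).left (pz 1 1 y) ∈ W
      rw [← Scheme.Hom.comp_apply, hsnd]; exact heW
    · show μl (pz 1 1 y) ∈ W
      rw [← Scheme.Hom.comp_apply, hmul, _root_.one_mul]; exact heW
  obtain ⟨_, ⟨O', hO', rfl⟩, hqO', hO'O⟩ := P.left.isBasis_affineOpens.exists_subset_of_mem_open
    hqO O.isOpen
  obtain ⟨_, ⟨V, hV, rfl⟩, hyV, hVO⟩ := Y.left.isBasis_affineOpens.exists_subset_of_mem_open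
    (show y ∈ pz 1 1 ⁻¹ᵁ O' from hqO') (pz 1 1 ⁻¹ᵁ O').isOpen
  have hO'fst : O' ≤ (fst X X).left ⁻¹ᵁ W := fun t ht => (hO'O ht).1.1
  have hO'snd : O' ≤ (snd X X).left ⁻¹ᵁ W := fun t ht => (hO'O ht).1.2
  have hO'μ : O' ≤ μl ⁻¹ᵁ W := fun t ht => (hO'O ht).2
  have hle : ∀ a b : Y ⟶ X, j ≫ a.left = j ≫ (1 : Y ⟶ X).left → j ≫ b.left = j ≫ (1 : Y ⟶ X).left →
      V ≤ pz a b ⁻¹ᵁ O' := fun a b ha hb t ht => by
    show pz a b t ∈ O'
    rw [hpt _ _ (hj a b ha hb) t]
    exact hVO ht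
  have hleX : ∀ a : Y ⟶ X, j ≫ a.left = j ≫ (1 : Y ⟶ X).left → V ≤ a.left ⁻¹ᵁ W := fun a ha t ht => by
    show a.left t ∈ W
    rw [← hfst a 1, Scheme.Hom.comp_apply]
    exact hO'fst (hle a 1 ha rfl ht)
  have key : ∀ (a b : Y ⟶ X) (ha : j ≫ a.left = j ≫ (1 : Y ⟶ X).left)
      (hb : j ≫ b.left = j ≫ (1 : Y ⟶ X).left) (φ : Γ(X.left, W) ⟶ Γ(Y.left, V)),
      (∀ x, φ.hom x = (a.left.appLE W V (hleX a ha)).hom x + (b.left.appLE W V (hleX b hb)).hom x
        - ((1 : Y ⟶ X).left.appLE W V (hleX 1 rfl)).hom x) →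
      hV.fromSpec ≫ (a * b).left = Spec.map φ ≫ hW.fromSpec := by
    intro a b ha hb φ hφ
    let A := ((pz a 1).appLE O' V (hle a 1 ha rfl)).hom
    let B := ((pz 1 b).appLE O' V (hle 1 b rfl hb)).hom
    let C := ((pz 1 1).appLE O' V (hle 1 1 rfl rfl)).hom
    have hmem : ∀ (p : Y.left ⟶ P.left) (hp : V ≤ p ⁻¹ᵁ O'), j ≫ p = j ≫ pz 1 1 → ∀ x,
        (p.appLE O' V hp).hom x - C x ∈ j.ker.ideal ⟨V, hV⟩ := fun p hp hjp x => by
      rw [Scheme.Hom.ker_apply, RingHom.mem_ker, map_sub, sub_eq_zero, Scheme.Hom.app_eq_appLE]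
      rw [appLE_comp' j p (j ≫ p) rfl O' V (j ⁻¹ᵁ V) hp le_rfl
          (fun t ht => hp ht) x,
        appLE_comp' j (pz 1 1) (j ≫ p) hjp.symm O' V (j ⁻¹ᵁ V) (hle 1 1 rfl rfl) le_rfl
          (fun t ht => hp ht) x]
    have hABC : ∀ x z, (A x - C x) * (B z - C z) = 0 := fun x z => by
      have := Ideal.mul_mem_mul (hmem _ (hle a 1 ha rfl) (hj a 1 ha rfl) x)
        (hmem _ (hle 1 b rfl hb) (hj 1 b rfl hb) z)
      rw [hK ⟨V, hV⟩] at this
      exact (Ideal.mem_bot).mp this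
    let q : Γ(P.left, O') ⟶ Γ(Y.left, V) := CommRingCat.ofHom (addHom A B C hABC)
    let m : Spec Γ(Y.left, V) ⟶ P.left := Spec.map q ≫ hO'.fromSpec
    have hcomp : ∀ (p : P.left ⟶ X.left) (hp : O' ≤ p ⁻¹ᵁ W) (r : Y ⟶ X)
        (hr : V ≤ r.left ⁻¹ᵁ W),
        (∀ x, A ((p.appLE W O' hp).hom x) + B ((p.appLE W O' hp).hom x) - C ((p.appLE W O' hp).hom x)
          = (r.left.appLE W V hr).hom x) → m ≫ p = hV.fromSpec ≫ r.left := by
      intro p hp r hr H
      rw [← IsAffineOpen.SpecMap_appLE_fromSpec r.left hW hV hr]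
      rw [Category.assoc, ← IsAffineOpen.SpecMap_appLE_fromSpec p hW hO' hp, ← Category.assoc,
        ← Spec.map_comp]
      congr 2
      exact CommRingCat.hom_ext (RingHom.ext H)
    have hmfst : m ≫ (fst X X).left = hV.fromSpec ≫ a.left :=
      hcomp _ hO'fst a (hleX a ha) fun x => by
        simp only [A, B, C]
        rw [appLE_comp' _ _ _ (hfst a 1) _ _ _ _ _ (hleX a ha),
          appLE_comp' _ _ _ (hfst 1 b) _ _ _ _ _ (hleX 1 rfl),
          appLE_comp' _ _ _ (hfst 1 1) _ _ _ _ _ (hleX 1 rfl)]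
        ring
    have hmsnd : m ≫ (snd X X).left = hV.fromSpec ≫ b.left :=
      hcomp _ hO'snd b (hleX b hb) fun x => by
        simp only [A, B, C]
        rw [appLE_comp' _ _ _ (hsnd a 1) _ _ _ _ _ (hleX 1 rfl),
          appLE_comp' _ _ _ (hsnd 1 b) _ _ _ _ _ (hleX b hb),
          appLE_comp' _ _ _ (hsnd 1 1) _ _ _ _ _ (hleX 1 rfl)]
        ring
    have hm : hV.fromSpec ≫ pz a b = m := by
      let T : Over S := Over.mk (hV.fromSpec ≫ Y.hom)
      let iT : T ⟶ Y := Over.homMk hV.fromSpec rfl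
      let mo : T ⟶ P := Over.homMk m (by
        rw [← Over.w (fst X X), ← Category.assoc, hmfst, Category.assoc, Over.w a]; rfl)
      have : iT ≫ lift a b = mo := by
        apply CartesianMonoidalCategory.hom_ext
        · rw [Category.assoc, lift_fst]; exact Over.OverMorphism.ext hmfst.symm
        · rw [Category.assoc, lift_snd]; exact Over.OverMorphism.ext hmsnd.symm
      exact congrArg CommaMorphism.left this
    rw [← hmul, ← Category.assoc, hm, Category.assoc,
      ← IsAffineOpen.SpecMap_appLE_fromSpec μl hW hO' hO'μ, ← Category.assoc, ← Spec.map_comp]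
    congr 2
    refine CommRingCat.hom_ext (RingHom.ext fun x => ?_)
    show A ((μl.appLE W O' hO'μ).hom x) + B ((μl.appLE W O' hO'μ).hom x) -
      C ((μl.appLE W O' hO'μ).hom x) = φ.hom x
    simp only [A, B, C, hφ]
    rw [appLE_comp' _ _ _ ((hmul a 1).trans (by rw [_root_.mul_one])) _ _ _ _ _ (hleX a ha),
      appLE_comp' _ _ _ ((hmul 1 b).trans (by rw [_root_.one_mul])) _ _ _ _ _ (hleX b hb),
      appLE_comp' _ _ _ ((hmul 1 1).trans (by rw [_root_.mul_one])) _ _ _ _ _ (hleX 1 rfl)]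
  let G := g.left.appLE W V (hleX g hg)
  let G' := g'.left.appLE W V (hleX g' hg')
  let E := (1 : Y ⟶ X).left.appLE W V (hleX 1 rfl)
  have hpair : ∀ x z, (G.hom x - E.hom x) * (G'.hom z - E.hom z) = 0 := by
    intro x z
    have hk : ∀ (r : Y ⟶ X) (hr : j ≫ r.left = j ≫ (1 : Y ⟶ X).left) (x),
        (r.left.appLE W V (hleX r hr)).hom x - E.hom x ∈ j.ker.ideal ⟨V, hV⟩ := fun r hr x => by
      rw [Scheme.Hom.ker_apply, RingHom.mem_ker, map_sub, sub_eq_zero, Scheme.Hom.app_eq_appLE]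
      rw [appLE_comp' j r.left (j ≫ r.left) rfl W V (j ⁻¹ᵁ V) (hleX r hr) le_rfl
          (fun t ht => hleX r hr ht) x,
        appLE_comp' j (1 : Y ⟶ X).left (j ≫ r.left) hr.symm W V (j ⁻¹ᵁ V) (hleX 1 rfl) le_rfl
          (fun t ht => hleX r hr ht) x]
    have := Ideal.mul_mem_mul (hk g hg x) (hk g' hg' z)
    rw [hK ⟨V, hV⟩] at this
    exact (Ideal.mem_bot).mp this
  let φ : Γ(X.left, W) ⟶ Γ(Y.left, V) := CommRingCat.ofHom (addHom G.hom G'.hom E.hom hpair)
  have h1 := key g g' hg hg' φ fun x => rfl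
  have h2 := key g' g hg' hg φ fun x => by
    show G.hom x + G'.hom x - E.hom x = G'.hom x + G.hom x - E.hom x
    ring
  refine ⟨V, hyV, ?_⟩
  have h3 := h1.trans h2.symm
  rw [IsAffineOpen.fromSpec, Category.assoc, Category.assoc] at h3
  exact (cancel_epi _).mp h3

end Helpers

/-- The kernel of the reduction map is commutative: over an affine base S = Spec R with S₀ = Spec (R/J)
for an ideal J of square zero: for a group scheme X over S and an arbitrary S-scheme Y, the kernel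
of the reduction map from X(Y) to X(Y ×_S S₀) = X₀(Y₀) is a commutative group: two Y-valued points
of X whose base changes to S₀ are the unit commute. (The published statement identifies this kernel,
as a group functor, with the commutative functor of homomorphisms from the pulled-back invariant
differentials of X₀ to J·O_Y, over an arbitrary base with a quasi-coherent ideal of square zero;
this row states only the resulting commutativity, over an affine base.) -/
theorem result (R : Type u) [CommRing R] (J : Ideal R) (hJ : J * J = ⊥)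
    (X : Over (Spec (CommRingCat.of R))) [GrpObj X] (Y : Over (Spec (CommRingCat.of R))) (g g' : Y ⟶ X)
    (hg : (Over.pullback (Spec.map (CommRingCat.ofHom (Ideal.Quotient.mk J)))).map g = 1)
    (hg' : (Over.pullback (Spec.map (CommRingCat.ofHom (Ideal.Quotient.mk J)))).map g' = 1) :
    g * g' = g' * g := by

  let i := Spec.map (CommRingCat.ofHom (Ideal.Quotient.mk J))
  have : IsClosedImmersion i :=
    IsClosedImmersion.spec_of_surjective _ Ideal.Quotient.mk_surjective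
  have : Surjective i := surjective_specQuot R J hJ
  let j := Limits.pullback.fst Y.hom i
  have hj : ∀ a b : Y ⟶ X, (Over.pullback i).map a = (Over.pullback i).map b →
      j ≫ a.left = j ≫ b.left := fun a b hab => by
    have := congrArg (fun m => m.left ≫ Limits.pullback.fst X.hom i) hab
    exact (Limits.pullback.lift_fst _ _ _).symm.trans (this.trans (Limits.pullback.lift_fst _ _ _))
  have h1 : (Over.pullback i).map (1 : Y ⟶ X) = 1 := Functor.map_one _
  refine Over.OverMorphism.ext (Scheme.hom_ext_of_forall _ _ fun y => ?_)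
  exact exists_same_hom j (fun V => ker_sq R J hJ Y.hom V) g g' (hj g 1 (hg.trans h1.symm))
    (hj g' 1 (hg'.trans h1.symm)) y

end Groth.Agent.S8363
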