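import Groth.Statements.S8364


set_option autoImplicit false
universe u
open SGA3

namespace Groth.Agent.S8364

/-- For a commutative ring R, an ideal J of R of square zero, a smooth R-algebra A and the extended
ideal I = J·A, every R-algebra automorphism of A/I lifts to an R-algebra automorphism of A. (The
published statement concerns the automorphism functor of a smooth affine S-scheme E and affine test
schemes Y; this row is the case Y = S = Spec R, E = Spec A, which gives the general one after
replacing R by the ring of Y.) -/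
theorem result (R A : Type u) [CommRing R] [CommRing A] [Algebra R A]
    [Algebra.Smooth R A] (J : Ideal R) (hJ : J * J = ⊥)
    (φ₀ : (A ⧸ Ideal.map (algebraMap R A) J) ≃ₐ[R] (A ⧸ Ideal.map (algebraMap R A) J)) :
    ∃ φ : A ≃ₐ[R] A,
      (Ideal.Quotient.mkₐ R (Ideal.map (algebraMap R A) J)).comp φ.toAlgHom =
        φ₀.toAlgHom.comp (Ideal.Quotient.mkₐ R (Ideal.map (algebraMap R A) J)) := by
  classical
  let I := Ideal.map (algebraMap R A) J
  have hII : I * I = ⊥ := by
    change Ideal.map (algebraMap R A) J * Ideal.map (algebraMap R A) J = ⊥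
    rw [← Ideal.map_mul, hJ, Ideal.map_bot]
  have hnil : IsNilpotent I := ⟨2, by rw [pow_two, hII]; rfl⟩
  let f : A →ₐ[R] A := Algebra.FormallySmooth.lift I hnil
    (φ₀.toAlgHom.comp (Ideal.Quotient.mkₐ R I))
  let g : A →ₐ[R] A := Algebra.FormallySmooth.lift I hnil
    (φ₀.symm.toAlgHom.comp (Ideal.Quotient.mkₐ R I))
  have hf : ∀ a, Ideal.Quotient.mk I (f a) = φ₀ (Ideal.Quotient.mk I a) := fun a => by simp [f]
  have hg : ∀ a, Ideal.Quotient.mk I (g a) = φ₀.symm (Ideal.Quotient.mk I a) := fun a => by
    simp [g]
  have key : ∀ θ : A →ₐ[R] A, (∀ a, θ a - a ∈ I) → Function.Bijective θ := by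
    intro θ hθ
    have hfix : ∀ a ∈ I, θ a = a := by
      intro a ha
      refine Submodule.span_induction (p := fun x _ => θ x = x) ?_ (map_zero θ) ?_ ?_ ha
      · rintro _ ⟨j, _, rfl⟩
        exact θ.commutes j
      · intro x y _ _ hx hy
        rw [map_add, hx, hy]
      · intro c x hx' hx
        rw [smul_eq_mul, map_mul, hx]
        have h0 : (θ c - c) * x ∈ I * I := Ideal.mul_mem_mul (hθ c) hx'
        rw [hII, Ideal.mem_bot] at h0
        linear_combination h0
    refine ⟨fun a b hab => ?_, fun a => ⟨a - (θ a - a), ?_⟩⟩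
    · have hd : a - b ∈ I := by
        have := I.sub_mem (hθ b) (hθ a)
        rw [hab] at this
        convert this using 1
        ring
      have := hfix _ hd
      rw [map_sub, hab, sub_self] at this
      linear_combination -this
    · rw [map_sub, hfix _ (hθ a)]
      ring
  have h1 : ∀ a, g (f a) - a ∈ I := fun a => by
    rw [← Ideal.Quotient.eq, hg, hf, AlgEquiv.symm_apply_apply]
  have h2 : ∀ a, f (g a) - a ∈ I := fun a => by
    rw [← Ideal.Quotient.eq, hf, hg, AlgEquiv.apply_symm_apply]
  have b1 := key (g.comp f) h1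
  have b2 := key (f.comp g) h2
  have hbij : Function.Bijective f :=
    ⟨Function.Injective.of_comp (f := g) b1.1, Function.Surjective.of_comp (g := g) b2.2⟩
  refine ⟨AlgEquiv.ofBijective f hbij, ?_⟩
  ext a
  exact hf a

end Groth.Agent.S8364
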