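import Groth.Statements.S8365
import Groth.Agent.Misc3Lie.Ev
-- import your own Groth.Agent.* helpers here

set_option autoImplicit false
universe u
open CategoryTheory MonObj AlgebraicGeometry
open LieS

namespace Groth.Agent.S8365

/-- For a monoid scheme X over a scheme S (an associative unital monoid object in S-schemes) and an
affine S-scheme T = Spec B, a point of X with values in the dual numbers over T is invertible if and
only if its restriction along the zero section ε = 0 is invertible in X(T); in particular every such
point restricting to the unit section is invertible. (The published statement is for monoid-valued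
functors satisfying a tangent-space exactness condition, which every representable functor
satisfies, and its special case where the restriction is the unit section allows unital composition
laws that need not be associative; this row treats monoid schemes only.) -/
theorem result (S : Scheme.{u}) (X : Over S) [MonObj X] (B : Type u) [CommRing B]
    (f : Spec (CommRingCat.of B) ⟶ S) (v : LieS.dpt B f ⟶ X) :
    IsUnit v ↔ IsUnit (LieS.zeroSec B f ≫ v) := by
  constructor
  · intro h
    let p : (LieS.dpt B f ⟶ X) →* (LieS.pt B f ⟶ X) := ((yonedaMonObj X).map (LieS.zeroSec B f).op).hom
    exact h.map p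
  · intro h
    obtain ⟨u, hu⟩ := h
    let p : (LieS.pt B f ⟶ X) →* (LieS.dpt B f ⟶ X) := ((yonedaMonObj X).map (LieS.proj B f).op).hom
    have hw : LieS.zeroSec B f ≫ (v * p ↑u⁻¹) = 1 := by
      rw [Misc3Lie.comp_mul', ← hu]
      show _ * (LieS.zeroSec B f ≫ LieS.proj B f ≫ (↑u⁻¹ : LieS.pt B f ⟶ X)) = 1
      rw [← Category.assoc, LieS.zeroSec_proj, Category.id_comp]
      exact u.mul_inv
    have hp : IsUnit (p ↑u) := u.isUnit.map p
    have := (Misc3Lie.isUnit_of_restrict f hw).mul hp
    rwa [_root_.mul_assoc, ← map_mul, Units.inv_mul, map_one, _root_.mul_one] at this

end Groth.Agent.S8365
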