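import Groth.Statements.S8366
import Groth.Agent.FlatMor2.Deform
import Groth.Agent.GrpschLoci.SpecThickening
import Mathlib.AlgebraicGeometry.Sites.Fpqc
-- import your own Groth.Agent.* helpers here

set_option autoImplicit false
universe u
open CategoryTheory MonoidalCategory MonObj AlgebraicGeometry
open SGA3

namespace Groth.Agent.S8366

section Helpers

open CategoryTheory Limits MonoidalCategory CartesianMonoidalCategory MonObj AlgebraicGeometry

/-- An associative law with invertible shear maps on a nonempty object is a group law. -/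
theorem exists_grpObj {S : Scheme.{u}} {X : Over S} (P : X ⊗ X ⟶ X)
    (hassoc : (P ▷ X) ≫ P = (α_ X X X).hom ≫ (X ◁ P) ≫ P)
    (hL : IsIso (lift (fst X X) P)) (hR : IsIso (lift P (snd X X))) (hX : EffectiveEpi X.hom) :
    ∃ _ : GrpObj X, μ[X] = P := by
  have assoc : ∀ {T : Over S} (a b c : T ⟶ X),
      lift (lift a b ≫ P) c ≫ P = lift a (lift b c ≫ P) ≫ P := fun a b c => by
    have := congrArg (lift (lift a b) c ≫ ·) hassoc
    simpa using this
  have exL : ∀ {T : Over S} (a c : T ⟶ X), ∃ b, lift a b ≫ P = c := fun a c => by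
    refine ⟨lift a c ≫ inv (lift (fst X X) P) ≫ snd X X, ?_⟩
    have h2 := congrArg (lift a c ≫ ·) (IsIso.inv_hom_id (lift (fst X X) P))
    simp only [Category.comp_id] at h2
    have h3 := congrArg (· ≫ fst X X) h2
    have h4 := congrArg (· ≫ snd X X) h2
    simp only [Category.assoc, lift_fst, lift_snd] at h3 h4
    conv_rhs => rw [← h4]
    rw [← Category.assoc (lift a c), ← Category.assoc (lift a c)]
    congr 1
    exact CartesianMonoidalCategory.hom_ext _ _ (by simp [h3]) (by simp)
  have exR : ∀ {T : Over S} (a c : T ⟶ X), ∃ b, lift b a ≫ P = c := fun a c => by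
    refine ⟨lift c a ≫ inv (lift P (snd X X)) ≫ fst X X, ?_⟩
    have h2 := congrArg (lift c a ≫ ·) (IsIso.inv_hom_id (lift P (snd X X)))
    simp only [Category.comp_id] at h2
    have h3 := congrArg (· ≫ fst X X) h2
    have h4 := congrArg (· ≫ snd X X) h2
    simp only [Category.assoc, lift_fst, lift_snd] at h3 h4
    conv_rhs => rw [← h3]
    rw [← Category.assoc (lift c a), ← Category.assoc (lift c a)]
    congr 1
    exact CartesianMonoidalCategory.hom_ext _ _ (by simp) (by simp [h4])
  have injL : ∀ {T : Over S} (a b b' : T ⟶ X), lift a b ≫ P = lift a b' ≫ P → b = b' :=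
    fun a b b' e => by
      have h : lift a b ≫ lift (fst X X) P = lift a b' ≫ lift (fst X X) P := by
        simp [comp_lift, e]
      rw [cancel_mono] at h
      simpa using congrArg (· ≫ snd X X) h
  -- the unit
  obtain ⟨e₁, he₁⟩ := exL (𝟙 X) (𝟙 X)
  have he : ∀ {T : Over S} (x : T ⟶ X), lift x (x ≫ e₁) ≫ P = x := fun x => by
    have := congrArg (x ≫ ·) he₁
    simpa [comp_lift_assoc] using this
  have hconst : ∀ {T : Over S} (x x' : T ⟶ X), x ≫ e₁ = x' ≫ e₁ := fun x x' => by
    obtain ⟨u, hu⟩ := exR x x'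
    have h : lift x' (x ≫ e₁) ≫ P = x' := by
      conv_lhs => rw [← hu]
      rw [assoc, he, hu]
    exact injL x' _ _ (h.trans (he x').symm)
  obtain ⟨s, hs⟩ : ∃ s : 𝟙_ (Over S) ⟶ X, toUnit X ≫ s = e₁ := by
    have hcond : ∀ {W : Scheme.{u}} (a b : W ⟶ X.left), a ≫ X.hom = b ≫ X.hom →
        a ≫ e₁.left = b ≫ e₁.left := fun {W} a b hab =>
      congr(($(hconst (T := Over.mk (a ≫ X.hom)) (Over.homMk a rfl) (Over.homMk b hab.symm))).left)
    refine ⟨Over.homMk (EffectiveEpi.desc X.hom e₁.left fun a b => hcond a b) ?_, ?_⟩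
    · rw [← cancel_epi X.hom]
      exact (EffectiveEpi.fac_assoc _ _ _ _).trans ((Over.w e₁).trans (Category.comp_id _).symm)
    · exact Over.OverMorphism.ext (EffectiveEpi.fac X.hom e₁.left fun a b => hcond a b)
  have r1 : ∀ {T : Over S} (x : T ⟶ X), lift x (toUnit T ≫ s) ≫ P = x := fun {T} x => by
    rw [show toUnit T ≫ s = x ≫ e₁ by rw [← hs, ← Category.assoc, toUnit_unique (x ≫ toUnit X) (toUnit T)]]
    exact he x
  have l1 : ∀ {T : Over S} (x : T ⟶ X), lift (toUnit T ≫ s) x ≫ P = x := fun {T} x =>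
    injL x _ _ (by rw [← assoc, r1])
  obtain ⟨i, hi⟩ := exR (𝟙 X) (toUnit X ≫ s)
  have hi' : lift (𝟙 X) i ≫ P = toUnit X ≫ s := injL i _ _ (by
    rw [← assoc, hi, l1, r1])
  let M : MonObj X :=
    { one := s
      mul := P
      one_mul := by
        have h := l1 (snd (𝟙_ (Over S)) X)
        rw [leftUnitor_hom]
        rw [show s ▷ X = lift (toUnit _ ≫ s) (snd (𝟙_ (Over S)) X) from
          CartesianMonoidalCategory.hom_ext _ _
            (by simp [toUnit_unique (fst (𝟙_ (Over S)) X) (toUnit _)]) (by simp)]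
        exact h
      mul_one := by
        have h := r1 (fst X (𝟙_ (Over S)))
        rw [rightUnitor_hom]
        rw [show X ◁ s = lift (fst X (𝟙_ (Over S))) (toUnit _ ≫ s) from
          CartesianMonoidalCategory.hom_ext _ _
            (by simp) (by simp [toUnit_unique (snd X (𝟙_ (Over S))) (toUnit _)])]
        exact h
      mul_assoc := hassoc }
  exact ⟨{ M with inv := i, left_inv := hi, right_inv := hi' }, rfl⟩

/-- Deformation of the shear maps. -/
theorem isIso_of_mod_nilpotent {R : Type u} [CommRing R] (I : Ideal R) (hI : IsNilpotent I)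
    {A : Over (Spec (CommRingCat.of R))} [Flat A.hom] (σ : A ⟶ A)
    [IsIso ((Over.pullback (Spec.map (CommRingCat.ofHom (Ideal.Quotient.mk I)))).map σ)] : IsIso σ := by
  let π := Spec.map (CommRingCat.ofHom (Ideal.Quotient.mk I))
  have hS : MoreMor.IsFiniteOrderThickening π :=
    Groth.GrpschLoci.isFiniteOrderThickening_specMap _ Ideal.Quotient.mk_surjective
      (by rw [CommRingCat.hom_ofHom, Ideal.mk_ker]; exact hI)
  have hf : IsIso ((Over.pullback π).map σ).left := inferInstanceAs (IsIso ((Over.forget _).map ((Over.pullback π).map σ)))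
  have hp : IsPullback (pullback.fst A.hom π) ((Over.pullback π).obj A).hom A.hom π :=
    IsPullback.of_hasPullback A.hom π
  have : Flat (σ.left ≫ A.hom) := by rw [Over.w σ]; infer_instance
  have h := (Groth.FlatMor2.isIso_iff_deform (f := ((Over.pullback π).map σ).left) (f' := σ.left) hS
    (by rw [Over.w ((Over.pullback π).map σ), Over.w σ]; exact hp) hp
    (pullback.lift_fst _ _ _).symm).1 hf
  have : IsIso ((Over.forget _).map σ) := h
  exact isIso_of_reflects_iso σ (Over.forget _)

theorem main {R : Type u} [CommRing R] (I : Ideal R)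
    (hI : IsNilpotent I) (X : Over (Spec (CommRingCat.of R))) [Flat X.hom]
    (hX : QuasiCompact X.hom ∨ LocallyOfFinitePresentation X.hom) (P : X ⊗ X ⟶ X)
    (hassoc : (P ▷ X) ≫ P = (α_ X X X).hom ≫ (X ◁ P) ≫ P)
    (h0 : ∃ _ : GrpObj ((Over.pullback (Spec.map (CommRingCat.ofHom (Ideal.Quotient.mk I)))).obj X),
      μ[(Over.pullback (Spec.map (CommRingCat.ofHom (Ideal.Quotient.mk I)))).obj X] =
        Functor.LaxMonoidal.μ (Over.pullback (Spec.map (CommRingCat.ofHom (Ideal.Quotient.mk I)))) X X ≫ (Over.pullback (Spec.map (CommRingCat.ofHom (Ideal.Quotient.mk I)))).map P) :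
    ∃ _ : GrpObj X, μ[X] = P := by
  obtain ⟨inst, h0⟩ := h0
  let π := Spec.map (CommRingCat.ofHom (Ideal.Quotient.mk I))
  let F := Over.pullback π
  let X0 := F.obj X
  have hS : MoreMor.IsFiniteOrderThickening π :=
    Groth.GrpschLoci.isFiniteOrderThickening_specMap _ Ideal.Quotient.mk_surjective
      (by rw [CommRingCat.hom_ofHom, Ideal.mk_ker]; exact hI)
  have hmap : ∀ (σ : X ⊗ X ⟶ X ⊗ X),
      IsIso (Functor.LaxMonoidal.μ F X X ≫ F.map σ ≫ Functor.OplaxMonoidal.δ F X X) → IsIso (F.map σ) := by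
    intro σ h
    have := IsIso.of_isIso_comp_left (Functor.LaxMonoidal.μ F X X) (F.map σ ≫ Functor.OplaxMonoidal.δ F X X)
    exact IsIso.of_isIso_comp_right (F.map σ) (Functor.OplaxMonoidal.δ F X X)
  have eP : Functor.LaxMonoidal.μ F X X ≫ F.map P = μ[X0] := h0.symm
  have hsL : IsIso (lift (fst X0 X0) μ[X0]) := by
    refine ⟨⟨lift (fst X0 X0) (lift ((fst X0 X0) ≫ GrpObj.inv (X := X0)) (snd X0 X0) ≫ μ[X0]), ?_, ?_⟩⟩
    · refine CartesianMonoidalCategory.hom_ext _ _ (by simp) ?_
      simp only [Category.assoc, lift_snd, Category.id_comp, comp_lift_assoc, lift_fst_assoc]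
      rw [← Hom.mul_def, ← Hom.inv_def, show μ[X0] = fst X0 X0 * snd X0 X0 by rw [Hom.mul_def, lift_fst_snd, Category.id_comp], inv_mul_cancel_left]
    · refine CartesianMonoidalCategory.hom_ext _ _ (by simp) ?_
      simp only [Category.assoc, lift_snd, Category.id_comp]
      rw [← Hom.inv_def, ← Hom.mul_def, ← Hom.mul_def, mul_inv_cancel_left]
  have hsR : IsIso (lift μ[X0] (snd X0 X0)) := by
    refine ⟨⟨lift (lift (fst X0 X0) ((snd X0 X0) ≫ GrpObj.inv (X := X0)) ≫ μ[X0]) (snd X0 X0), ?_, ?_⟩⟩
    · refine CartesianMonoidalCategory.hom_ext _ _ ?_ (by simp)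
      simp only [Category.assoc, lift_fst, Category.id_comp, comp_lift_assoc, lift_snd_assoc]
      rw [← Hom.mul_def, ← Hom.inv_def, show μ[X0] = fst X0 X0 * snd X0 X0 by rw [Hom.mul_def, lift_fst_snd, Category.id_comp], mul_inv_cancel_right]
    · refine CartesianMonoidalCategory.hom_ext _ _ ?_ (by simp)
      simp only [Category.assoc, lift_fst, Category.id_comp]
      rw [← Hom.inv_def, ← Hom.mul_def, ← Hom.mul_def, inv_mul_cancel_right]
  have : Flat (X ⊗ X).hom := inferInstanceAs (Flat (pullback.fst X.hom X.hom ≫ X.hom))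
  have hL : IsIso (lift (fst X X) P) := by
    have := hmap (lift (fst X X) P) (by
      have e : Functor.LaxMonoidal.μ F X X ≫ F.map (lift (fst X X) P) ≫ Functor.OplaxMonoidal.δ F X X =
          lift (fst X0 X0) μ[X0] := by
        refine CartesianMonoidalCategory.hom_ext _ _ ?_ ?_
        · simp [← Functor.map_comp, X0]
        · simp [← Functor.map_comp, X0, ← eP]
      rw [e]; exact hsL)
    exact isIso_of_mod_nilpotent I hI _
  have hR : IsIso (lift P (snd X X)) := by
    have := hmap (lift P (snd X X)) (by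
      have e : Functor.LaxMonoidal.μ F X X ≫ F.map (lift P (snd X X)) ≫ Functor.OplaxMonoidal.δ F X X =
          lift μ[X0] (snd X0 X0) := by
        refine CartesianMonoidalCategory.hom_ext _ _ ?_ ?_
        · simp [← Functor.map_comp, X0, ← eP]
        · simp [← Functor.map_comp, X0]
      rw [e]; exact hsR)
    exact isIso_of_mod_nilpotent I hI _
  have hsurj : Surjective X.hom := by
    refine ⟨fun p => ?_⟩
    obtain ⟨q, rfl⟩ := hS.1.2.surj p
    refine ⟨(pullback.fst X.hom π).base ((η[X0] : 𝟙_ _ ⟶ X0).left.base q), ?_⟩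
    have e1 : (pullback.snd X.hom π).base ((η[X0] : 𝟙_ _ ⟶ X0).left.base q) = q :=
      congr(($(Over.w (η[X0] : 𝟙_ _ ⟶ X0))).base q)
    calc X.hom.base ((pullback.fst X.hom π).base ((η[X0] : 𝟙_ _ ⟶ X0).left.base q))
        = π.base ((pullback.snd X.hom π).base ((η[X0] : 𝟙_ _ ⟶ X0).left.base q)) :=
          congr(($(pullback.condition (f := X.hom) (g := π))).base ((η[X0] : 𝟙_ _ ⟶ X0).left.base q))
      _ = π.base q := by rw [e1]
  have hX' : EffectiveEpi X.hom := by
    rcases hX with hX | hX <;> infer_instance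
  exact exists_grpObj P hassoc hL hR hX'

end Helpers

/-- Over an affine base S = Spec R with S₀ = Spec (R/I) for a nilpotent ideal I: let X be an S-scheme
which is flat and either quasi-compact or locally of finite presentation over S, and P : X ×_S X → X
a composition law. If P is associative and its base change to S₀ is the multiplication of some
group-scheme structure on X ×_S S₀, then P is the multiplication of a group-scheme structure on X.
(The published statement is over an arbitrary base scheme with S₀ defined by a nilpotent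
quasi-coherent ideal; this row is its case of an affine base.) -/
theorem result (R : Type u) [CommRing R] (I : Ideal R)
    (hI : IsNilpotent I) (X : Over (Spec (CommRingCat.of R))) [Flat X.hom]
    (hX : QuasiCompact X.hom ∨ LocallyOfFinitePresentation X.hom) (P : X ⊗ X ⟶ X)
    (hassoc : (P ▷ X) ≫ P = (α_ X X X).hom ≫ (X ◁ P) ≫ P)
    (h0 : ∃ _ : GrpObj ((Over.pullback (Spec.map (CommRingCat.ofHom (Ideal.Quotient.mk I)))).obj X),
      μ[(Over.pullback (Spec.map (CommRingCat.ofHom (Ideal.Quotient.mk I)))).obj X] =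
        Functor.LaxMonoidal.μ (Over.pullback (Spec.map (CommRingCat.ofHom (Ideal.Quotient.mk I)))) X X ≫ (Over.pullback (Spec.map (CommRingCat.ofHom (Ideal.Quotient.mk I)))).map P) :
    ∃ _ : GrpObj X, μ[X] = P :=
  main I hI X hX P hassoc h0

end Groth.Agent.S8366
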