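import Groth.Statements.S8660
import Groth.Agent.Syntomic.CIFibre

set_option autoImplicit false
universe u
open CategoryTheory CategoryTheory.Limits AlgebraicGeometry
open Synt

namespace Groth.Agent.S8660

/-- Let f : X ⟶ Y be flat and locally of finite presentation. Then f is a local complete intersection
morphism in the factorisation sense (around each point of X, f is locally of finite type and factors
as a Koszul-regular immersion followed by a smooth morphism) if and only if f is a
complete-intersection morphism in the fibrewise sense: flat, locally of finite presentation, and
every local ring of every fibre is a complete intersection (its completion is a regular local ring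
modulo a regular sequence). -/
theorem result {X Y : Scheme.{u}} (f : X ⟶ Y) [Flat f] [LocallyOfFinitePresentation f] :
    (∀ x : X, Synt.IsKoszulAt f x) ↔ CInt.IsCIMorphism f := by
  rw [Groth.KoszulLCI.isKoszulAt_iff_morLCI, ← Groth.Syntomic.isSyntomicMor_iff_isCIMorphism,
    Groth.Syntomic.isSyntomicMor_iff]
  exact ⟨fun h => ⟨inferInstance, h⟩, fun h => h.2⟩

end Groth.Agent.S8660
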