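import Groth.Statements.S8905
import Groth.Agent.KoszulLCI.Kinds

set_option autoImplicit false
universe u
open CategoryTheory CategoryTheory.Limits AlgebraicGeometry TopologicalSpace
open SDiv

namespace Groth.Agent.S8905

/-- Let i : Z ⟶ X be an immersion of schemes. If i is a regular immersion then it is Koszul-regular; if
Koszul-regular then H_1-regular; if H_1-regular then quasi-regular. -/
theorem result {Z X : Scheme.{u}} (i : Z ⟶ X) :
    (RegImm.IsRegularImmersion RegImm.Kind.regular i → RegImm.IsRegularImmersion RegImm.Kind.koszul i) ∧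
      (RegImm.IsRegularImmersion RegImm.Kind.koszul i → RegImm.IsRegularImmersion RegImm.Kind.h1 i) ∧
      (RegImm.IsRegularImmersion RegImm.Kind.h1 i → RegImm.IsRegularImmersion RegImm.Kind.quasi i) := by
  refine ⟨Groth.KoszulLCI.isRegularImmersion_of_isRegularImmersion_regular _ i, fun h => ⟨h.1, fun z => ?_⟩,
    fun h => ⟨h.1, fun z => ?_⟩⟩ <;> obtain ⟨U, hz, hci, rs, hrs, hker⟩ := h.2 z
  · exact ⟨U, hz, hci, rs, Groth.KoszulLCI.seq_h1_of_koszul hrs, hker⟩
  · exact ⟨U, hz, hci, rs, Groth.KoszulLCI.seq_quasi_of_h1 hrs, hker⟩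

end Groth.Agent.S8905
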