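import Groth.Statements.S8368
import Groth.Agent.Calg5.KoszulColon
import Groth.Agent.EGA43Flat.Nilpotent
import Mathlib.RingTheory.Flat.Equalizer
import Mathlib.LinearAlgebra.TensorProduct.Quotient
-- import your own Groth.Agent.* helpers here

set_option autoImplicit false
universe u
open SGA3

namespace Groth.Agent.S8368

open TensorProduct Groth.FrobLCI.CE
open scoped TensorProduct

theorem flat_of_flat_quotient {R : Type u} [CommRing R] {M : Type u} [AddCommGroup M] [Module R M]
    (K : Submodule R M) [Module.Flat R M] [Module.Flat R (M ⧸ K)] : Module.Flat R K := by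
  rw [Module.Flat.iff_rTensor_injective']
  intro a
  have h1 : Function.Injective (K.subtype.lTensor a) :=
    LinearMap.lTensor_injective_of_exact_of_flat K.mkQ K.mkQ_surjective K.subtype K.injective_subtype
      (LinearMap.exact_subtype_mkQ K) a
  intro x y hxy
  apply h1
  apply Module.Flat.rTensor_preserves_injective_linearMap (M := M) a.subtype Subtype.val_injective
  simp only [← LinearMap.comp_apply, LinearMap.rTensor_comp_lTensor, ← LinearMap.lTensor_comp_rTensor]
  rw [LinearMap.comp_apply, LinearMap.comp_apply, hxy]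

theorem flat_coker_of_exact {R : Type u} [CommRing R] {M1 M2 M3 : Type u} [AddCommGroup M1] [Module R M1]
    [AddCommGroup M2] [Module R M2] [AddCommGroup M3] [Module R M3] {f : M1 →ₗ[R] M2} {g : M2 →ₗ[R] M3}
    (h : Function.Exact f g) [Module.Flat R M3] [Module.Flat R (M3 ⧸ LinearMap.range g)] :
    Module.Flat R (M2 ⧸ LinearMap.range f) := by
  have := flat_of_flat_quotient (LinearMap.range g)
  exact Module.Flat.of_linearEquiv
    ((Submodule.quotEquivOfEq _ _ (LinearMap.exact_iff.1 h).symm).trans g.quotKerEquivRange)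

theorem compatibleSMul_of_surjective {A R N M : Type u} [CommRing A] [CommRing R] [Algebra A R]
    (hR : Function.Surjective (algebraMap A R))
    [AddCommGroup N] [Module A N] [Module R N] [IsScalarTower A R N]
    [AddCommGroup M] [Module A M] [Module R M] [IsScalarTower A R M] :
    CompatibleSMul A R N M where
  smul_tmul r m n := by
    obtain ⟨a, rfl⟩ := hR r
    rw [algebraMap_smul, algebraMap_smul, smul_tmul]

theorem lTensor_exact_of_surjective {A R N M1 M2 M3 : Type u} [CommRing A] [CommRing R] [Algebra A R]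
    (hR : Function.Surjective (algebraMap A R))
    [AddCommGroup N] [Module A N] [Module R N] [IsScalarTower A R N]
    [AddCommGroup M1] [Module A M1] [Module R M1] [IsScalarTower A R M1]
    [AddCommGroup M2] [Module A M2] [Module R M2] [IsScalarTower A R M2]
    [AddCommGroup M3] [Module A M3] [Module R M3] [IsScalarTower A R M3]
    {f : M1 →ₗ[R] M2} {g : M2 →ₗ[R] M3} (h : Function.Exact f g) [Module.Flat R (M3 ⧸ LinearMap.range g)]
    (x : N ⊗[A] M2) (hx : (g.restrictScalars A).lTensor N x = 0) :
    ∃ y, (f.restrictScalars A).lTensor N y = x := by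
  have c1 := compatibleSMul_of_surjective (N := N) (M := M1) hR
  have c2 := compatibleSMul_of_surjective (N := N) (M := M2) hR
  let e1 := mapOfCompatibleSMul A R A N M1
  let e2 := mapOfCompatibleSMul R A A N M2
  let e2' := mapOfCompatibleSMul A R A N M2
  let e3 := mapOfCompatibleSMul R A A N M3
  have hg : ∀ z, g.lTensor N (e2 z) = e3 ((g.restrictScalars A).lTensor N z) := by
    intro z; induction z <;> simp_all [e2, e3]
  have hf : ∀ z, (f.restrictScalars A).lTensor N (e1 z) = e2' (f.lTensor N z) := by
    intro z; induction z <;> simp_all [e1, e2']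
  have h22 : ∀ z, e2' (e2 z) = z := by
    intro z; induction z <;> simp_all [e2, e2']
  have hex : Function.Exact f g.rangeRestrict := fun z =>
    (by rw [← h z]; exact Subtype.ext_iff)
  have hinj : Function.Injective ((LinearMap.range g).subtype.lTensor N) :=
    LinearMap.lTensor_injective_of_exact_of_flat (LinearMap.range g).mkQ (Submodule.mkQ_surjective _) _
      (Submodule.injective_subtype _) (LinearMap.exact_subtype_mkQ _) N
  have hx' : g.lTensor N (e2 x) = 0 := by rw [hg, hx, map_zero]
  have hx'' : g.rangeRestrict.lTensor N (e2 x) = 0 := by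
    apply hinj
    rw [map_zero, ← LinearMap.comp_apply, ← LinearMap.lTensor_comp, LinearMap.subtype_comp_codRestrict, hx']
  obtain ⟨y, hy⟩ := (lTensor_exact N hex g.surjective_rangeRestrict (e2 x)).1 hx''
  exact ⟨e1 y, by rw [hf, hy, h22]⟩

theorem lTensor_injective_of_ker {R N M P : Type u} [CommRing R] [AddCommGroup N] [Module R N]
    [AddCommGroup M] [Module R M] [AddCommGroup P] [Module R P] (f : M →ₗ[R] P) (hf : Function.Surjective f)
    (h : ∀ (j : N) (w : M), f w = 0 → j ⊗ₜ[R] w = 0) : Function.Injective (f.lTensor N) := by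
  rw [injective_iff_map_eq_zero]
  intro t ht
  obtain ⟨s, rfl⟩ := (lTensor_exact N (LinearMap.exact_subtype_ker_map f) hf t).1 ht
  clear ht
  induction s with
  | zero => exact map_zero _
  | add a b ha hb => rw [map_add, ha, hb, add_zero]
  | tmul j w => rw [LinearMap.lTensor_tmul]; exact h j _ (LinearMap.mem_ker.1 w.2)

theorem isKoszulRegularSeq_of_exact {R : Type u} [CommRing R] {n : ℕ} (x : Fin n → R)
    (h : ∀ (i : ℕ) (v : idx n (i + 1) → R), d x i v = 0 → ∃ w, d x (i + 1) w = v) :
    LCI.IsKoszulRegularSeq R (List.ofFn x) := by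
  intro m hm
  rcases lt_or_gt_of_ne hm with hlt | hgt
  · obtain ⟨i, rfl⟩ : ∃ i : ℕ, m = -((i + 1 : ℕ) : ℤ) := ⟨(-m - 1).toNat, by omega⟩
    rw [← HomologicalComplex.exactAt_iff_isZero_homology,
      HomologicalComplex.exactAt_iff' _ (-((i + 2 : ℕ) : ℤ)) (-((i + 1 : ℕ) : ℤ)) (-(i : ℤ))
        (by simp; ring) (by simp), CategoryTheory.ShortComplex.moduleCat_exact_iff]
    obtain ⟨T, hT⟩ := Groth.Calg5.KoszulColon.exists_equiv x
    intro v hv
    obtain ⟨w, hw⟩ := h i (T (i + 1) v) (((hT i v).symm.trans (congrArg (T i) hv)).trans (map_zero _))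
    refine ⟨(T (i + 2)).symm w, (T (i + 1)).injective ?_⟩
    exact (hT (i + 1) _).trans ((congrArg (d x (i + 1)) ((T (i + 2)).apply_symm_apply w)).trans hw)
  · exact Groth.KoszulReg.isZero_koszul_homology (List.ofFn x) m hgt

section

variable {A B : Type u} [CommRing A] [CommRing B] [Algebra A B] (J : Ideal A) {n : ℕ} (x : Fin n → B)

local notation "Abar" => A ⧸ J
local notation "Bbar" => B ⧸ Ideal.map (algebraMap A B) J

/-- the reduction map on cochains -/
noncomputable def red (i : ℕ) : (idx n i → B) →ₗ[A] (idx n i → Bbar) :=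
  ((Algebra.linearMap B Bbar).compLeft (idx n i)).restrictScalars A

/-- multiplication -/
noncomputable def mu (i : ℕ) : J ⊗[A] (idx n i → B) →ₗ[A] (idx n i → B) :=
  (TensorProduct.lid A (idx n i → B)).toLinearMap ∘ₗ (Submodule.subtype J).rTensor (idx n i → B)

theorem mu_tmul (i : ℕ) (j : J) (c : idx n i → B) : mu J i (j ⊗ₜ c) = (j : A) • c := rfl

theorem mu_injective [Module.Flat A B] (i : ℕ) : Function.Injective (mu J (n := n) (B := B) i) := by
  have : Finite (idx n i) := @Finite.of_fintype _ (fintypeIdx n i)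
  have : Module.Flat A (idx n i → B) := by
    classical
    let _ := fintypeIdx n i
    exact Module.Flat.of_linearEquiv (DirectSum.linearEquivFunOnFintype A (idx n i) (fun _ => B)).symm
  exact (TensorProduct.lid A (idx n i → B)).injective.comp
    (Module.Flat.rTensor_preserves_injective_linearMap _ Subtype.val_injective)

theorem red_apply (i : ℕ) (v : idx n i → B) (k : idx n i) :
    red J i v k = Ideal.Quotient.mk _ (v k) := rfl

theorem mem_range_mu (i : ℕ) (v : idx n i → B) (hv : red J i v = 0) :
    v ∈ LinearMap.range (mu J (n := n) (B := B) i) := by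
  classical
  have : Fintype (idx n i) := fintypeIdx n i
  rw [← Finset.univ_sum_single v]
  refine Submodule.sum_mem _ fun k _ => ?_
  have hk : v k ∈ Ideal.map (algebraMap A B) J :=
    Ideal.Quotient.eq_zero_iff_mem.1 (congrFun hv k)
  have hk' : v k ∈ J • (⊤ : Submodule A B) := by
    rw [Ideal.smul_top_eq_map]; exact hk
  generalize v k = b at hk' ⊢
  induction hk' using Submodule.smul_induction_on' with
  | smul a ha b _ =>
    refine ⟨⟨a, ha⟩ ⊗ₜ Pi.single k b, ?_⟩
    rw [mu_tmul, ← Pi.single_smul]
  | add y _ z _ hy hz =>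
    rw [Pi.single_add]
    exact Submodule.add_mem _ hy hz

theorem red_mu (i : ℕ) (t : J ⊗[A] (idx n i → B)) : red J i (mu J i t) = 0 := by
  induction t with
  | zero => simp
  | tmul j c =>
    funext k
    rw [red_apply, mu_tmul, Pi.smul_apply, Algebra.smul_def]
    exact Ideal.Quotient.eq_zero_iff_mem.2 (Ideal.mul_mem_right _ _ (Ideal.mem_map_of_mem _ j.2))
  | add a b ha hb => simp [ha, hb]

theorem red_surjective (i : ℕ) : Function.Surjective (red J (n := n) (B := B) i) := fun v => by
  choose w hw using fun k => Ideal.Quotient.mk_surjective (v k)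
  exact ⟨w, funext hw⟩

theorem tmul_mu (hJ : J * J = ⊥) (i : ℕ) (j : J) (s : J ⊗[A] (idx n i → B)) :
    j ⊗ₜ[A] mu J i s = 0 := by
  induction s with
  | zero => rw [map_zero, TensorProduct.tmul_zero]
  | tmul j' c =>
    rw [mu_tmul, ← TensorProduct.smul_tmul]
    have : (j' : A) • j = 0 := by
      have hm : (j' : A) * (j : A) ∈ J * J := Ideal.mul_mem_mul j'.2 j.2
      rw [hJ, Ideal.mem_bot] at hm
      exact Subtype.ext hm
    rw [this, TensorProduct.zero_tmul]
  | add a b ha hb => rw [map_add, TensorProduct.tmul_add, ha, hb, add_zero]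

theorem lTensor_red_injective (hJ : J * J = ⊥) (i : ℕ) :
    Function.Injective ((red J (n := n) (B := B) i).lTensor J) :=
  lTensor_injective_of_ker (R := A) (N := J) (M := idx n i → B) (P := idx n i → B ⧸ Ideal.map (algebraMap A B) J)
    (red J i) (red_surjective J i) fun j w hw => by
    obtain ⟨s, hs⟩ := mem_range_mu J i w hw
    exact (congrArg (fun z => j ⊗ₜ[A] z) hs).symm.trans (tmul_mu J hJ i j s)

theorem red_d (i : ℕ) (v : idx n (i + 1) → B) : red J i (d x i v) = d x i (red J (i + 1) v) :=
  (d_map (Algebra.linearMap B Bbar) x i v).symm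

theorem mu_d (i : ℕ) (t : J ⊗[A] (idx n (i + 1) → B)) :
    d x i (mu J (i + 1) t) = mu J i (((dL x i).restrictScalars A).lTensor J t) := by
  change ((dL x i).restrictScalars A) (mu J (i + 1) t) = _
  induction t with
  | zero => simp
  | tmul j c => rw [LinearMap.lTensor_tmul, mu_tmul, mu_tmul, map_smul]
  | add a b ha hb => simp only [map_add, ha, hb]

theorem main [Module.Flat A B] (hJ : J * J = ⊥)
    (hex : ∀ (i : ℕ) (v : idx n (i + 1) → Bbar), d x i v = 0 → ∃ w, d x (i + 1) w = v)
    (hflat : Module.Flat Abar (Bbar ⧸ Ideal.span (Set.range (algebraMap B Bbar ∘ x)))) :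
    (∀ (i : ℕ) (v : idx n (i + 1) → B), d x i v = 0 → ∃ w, d x (i + 1) w = v) ∧
      Module.Flat A (B ⧸ Ideal.span (Set.range x)) := by
  have : Module.Flat Abar Bbar := by
    have hs : Function.Surjective (IsScalarTower.toAlgHom A B Bbar).toLinearMap := Ideal.Quotient.mk_surjective
    have hk : LinearMap.ker (IsScalarTower.toAlgHom A B Bbar).toLinearMap = J • (⊤ : Submodule A B) := by
      rw [Ideal.smul_top_eq_map]
      ext b
      exact Ideal.Quotient.eq_zero_iff_mem
    let e := ((TensorProduct.quotTensorEquivQuotSMul B J).trans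
      (Submodule.quotEquivOfEq _ _ hk.symm)).trans ((IsScalarTower.toAlgHom A B Bbar).toLinearMap.quotKerEquivOfSurjective hs)
    exact Module.Flat.of_linearEquiv (e.extendScalarsOfSurjective Ideal.Quotient.mk_surjective).symm
  have hflC : ∀ i, Module.Flat Abar (idx n i → Bbar) := fun i => by
    classical
    let _ := fintypeIdx n i
    exact Module.Flat.of_linearEquiv (DirectSum.linearEquivFunOnFintype Abar (idx n i) (fun _ => Bbar)).symm
  let D : ∀ i, (idx n (i + 1) → Bbar) →ₗ[Abar] (idx n i → Bbar) := fun i =>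
    (dL (M := Bbar) (algebraMap B Bbar ∘ x) i).restrictScalars Abar
  have hD : ∀ i v, D i v = d x i v := fun i v => d_algebraMap x i v
  have hDex : ∀ i, Function.Exact (D (i + 1)) (D i) := fun i v => by
    refine ⟨fun hv => ?_, ?_⟩
    · rw [hD] at hv
      obtain ⟨w, hw⟩ := hex i v hv
      exact ⟨w, (hD _ w).trans hw⟩
    · rintro ⟨w, rfl⟩
      rw [hD, hD, d_d]
  have hcok : ∀ i, Module.Flat Abar ((idx n i → Bbar) ⧸ LinearMap.range (D i)) := by
    intro i
    induction i with
    | zero =>
      let ev : (idx n 0 → Bbar) →ₗ[Abar] Bbar ⧸ Ideal.span (Set.range (algebraMap B Bbar ∘ x)) :=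
        ((Submodule.mkQ (Ideal.span (Set.range (algebraMap B Bbar ∘ x)))).restrictScalars Abar) ∘ₗ LinearMap.proj (pt n)
      have hev : Function.Surjective ev := fun q => by
        obtain ⟨b, rfl⟩ := Submodule.mkQ_surjective _ q
        exact ⟨fun _ => b, rfl⟩
      have hk : LinearMap.ker ev = LinearMap.range (D 0) := by
        ext v
        rw [LinearMap.mem_ker, LinearMap.mem_range]
        change Submodule.Quotient.mk (v (pt n)) = 0 ↔ _
        rw [Submodule.Quotient.mk_eq_zero]
        constructor
        · intro hv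
          obtain ⟨w, hw⟩ := exists_d_eq (M := Bbar) (algebraMap B Bbar ∘ x) (v (pt n))
            (by rwa [smul_eq_mul, Ideal.mul_top])
          exact ⟨w, funext fun j => by rw [eq_pt n j]; exact hw⟩
        · rintro ⟨w, rfl⟩
          have := d_mem_smul_top (M := Bbar) (algebraMap B Bbar ∘ x) 0 w (pt n)
          rwa [smul_eq_mul, Ideal.mul_top] at this
      exact Module.Flat.of_linearEquiv ((Submodule.quotEquivOfEq _ _ hk.symm).trans (ev.quotKerEquivOfSurjective hev))
    | succ i ih => exact flat_coker_of_exact (hDex i)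
  let mJ : Module Abar J :=
    Module.IsTorsionBySet.module (M := J) (I := J) fun y ⟨a, ha⟩ => Subtype.ext (by
      have hm : a * (y : A) ∈ J * J := Ideal.mul_mem_mul ha y.2
      rwa [hJ, Ideal.mem_bot] at hm)
  have : IsScalarTower A Abar J := Module.IsTorsionBySet.isScalarTower _
  have key : ∀ i (t : J ⊗[A] (idx n (i + 1) → Bbar)),
      ((D i).restrictScalars A).lTensor J t = 0 → ∃ s, ((D (i + 1)).restrictScalars A).lTensor J s = t :=
    fun i t ht => @lTensor_exact_of_surjective A Abar J _ _ _ _ _ _ Ideal.Quotient.mk_surjective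
      _ _ mJ ‹_› _ _ _ _ _ _ _ _ _ _ _ _ _ _ (hDex i) (hcok i) t ht
  have hq : ∀ i (t : J ⊗[A] (idx n (i + 1) → B)),
      (red J i).lTensor J (((dL x i).restrictScalars A).lTensor J t) =
        ((D i).restrictScalars A).lTensor J ((red J (i + 1)).lTensor J t) := by
    intro i t
    induction t with
    | zero => simp
    | tmul j c =>
      simp only [LinearMap.lTensor_tmul, LinearMap.restrictScalars_apply]
      rw [hD]
      exact congrArg (fun z => j ⊗ₜ[A] z) (red_d J x i c)
    | add a b ha hb => simp only [map_add, ha, hb]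
  refine ⟨fun i v hv => ?_, ?_⟩
  · obtain ⟨wb, hwb⟩ := hex i (red J (i + 1) v) (by rw [← red_d, hv, map_zero])
    obtain ⟨w, rfl⟩ := red_surjective J (i + 2) wb
    obtain ⟨t, ht⟩ := mem_range_mu J (i + 1) (v - d x (i + 1) w)
      (by rw [map_sub, red_d, hwb, sub_self])
    have ht0 : ((dL x i).restrictScalars A).lTensor J t = 0 := by
      apply mu_injective J i
      rw [← mu_d, ht, map_zero]
      change dL x i _ = 0
      rw [map_sub, show dL x i v = 0 from hv, show dL x i (d x (i + 1) w) = 0 from d_d x i w, sub_zero]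
    obtain ⟨sb, hsb⟩ := key i ((red J (i + 1)).lTensor J t) (by rw [← hq, ht0, map_zero])
    obtain ⟨s, rfl⟩ := LinearMap.lTensor_surjective J (red_surjective J (i + 2)) sb
    rw [← hq] at hsb
    have hst := lTensor_red_injective J hJ (i + 1) hsb
    refine ⟨mu J (i + 2) s + w, ?_⟩
    rw [d_add, mu_d, hst, ht, sub_add_cancel]
  · let I := Ideal.span (Set.range x)
    let ψ : (idx n 0 → B) →ₗ[A] B ⧸ I := ((Submodule.mkQ I).restrictScalars A) ∘ₗ LinearMap.proj (pt n)
    have hψ : Function.Surjective ψ := fun q => by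
      obtain ⟨b, rfl⟩ := Submodule.mkQ_surjective _ q
      exact ⟨fun _ => b, rfl⟩
    have hψd : ∀ w, ψ (d x 0 w) = 0 := fun w => by
      have := d_mem_smul_top (M := B) x 0 w (pt n)
      rw [smul_eq_mul, Ideal.mul_top] at this
      exact (Submodule.Quotient.mk_eq_zero _).2 this
    have h1 : Function.Injective ((Submodule.subtype J).rTensor (B ⧸ I)) := by
      rw [injective_iff_map_eq_zero]
      intro t ht
      obtain ⟨t, rfl⟩ := LinearMap.lTensor_surjective J hψ t
      have hψμ : ∀ z, ψ (mu J 0 z) = TensorProduct.lid A (B ⧸ I) ((Submodule.subtype J).rTensor _ (ψ.lTensor J z)) := by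
        intro z
        induction z with
        | zero => simp
        | tmul j c => rw [mu_tmul, map_smul]; rfl
        | add a b ha hb => simp only [map_add, ha, hb]
      have hmem : mu J 0 t (pt n) ∈ I := by
        have := hψμ t
        rw [ht, map_zero] at this
        exact (Submodule.Quotient.mk_eq_zero _).1 this
      obtain ⟨w, hw⟩ := exists_d_eq (M := B) x (mu J 0 t (pt n)) (by rwa [smul_eq_mul, Ideal.mul_top])
      have hw' : d x 0 w = mu J 0 t := funext fun j => by rw [eq_pt n j]; exact hw
      obtain ⟨zb, hzb⟩ := hex 0 (red J 1 w) (by rw [← red_d, hw', red_mu])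
      obtain ⟨z, rfl⟩ := red_surjective J 2 zb
      obtain ⟨s, hs⟩ := mem_range_mu J 1 (w - d x 1 z) (by rw [map_sub, red_d, hzb, sub_self])
      have : ((dL x 0).restrictScalars A).lTensor J s = t := by
        apply mu_injective J 0
        rw [← mu_d, hs, ← hw']
        change dL x 0 _ = dL x 0 w
        rw [map_sub, show dL x 0 (d x 1 z) = 0 from d_d x 0 z, sub_zero]
      rw [← this, ← LinearMap.comp_apply, ← LinearMap.lTensor_comp,
        show ψ ∘ₗ (dL x 0).restrictScalars A = 0 from LinearMap.ext hψd, LinearMap.lTensor_zero,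
        LinearMap.zero_apply]
    let f : (B ⧸ I) →ₗ[A] Bbar ⧸ Ideal.span (Set.range (algebraMap B Bbar ∘ x)) :=
      (Submodule.liftQ (I.restrictScalars A)
        (((Submodule.mkQ (Ideal.span (Set.range (algebraMap B Bbar ∘ x)))).restrictScalars A) ∘ₗ
          (IsScalarTower.toAlgHom A B Bbar).toLinearMap) (fun b hb => (Submodule.Quotient.mk_eq_zero _).2 (by
            rw [Set.range_comp, ← Ideal.map_span]
            exact Ideal.mem_map_of_mem _ hb))) ∘ₗ (Submodule.Quotient.restrictScalarsEquiv A I).symm.toLinearMap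
    have hfmk : ∀ b : B, f (Submodule.Quotient.mk b) = Submodule.Quotient.mk (algebraMap B Bbar b) := fun b => rfl
    have hf : Function.Surjective f := fun q => by
      obtain ⟨q, rfl⟩ := Submodule.mkQ_surjective _ q
      obtain ⟨b, rfl⟩ := Ideal.Quotient.mk_surjective q
      exact ⟨Submodule.Quotient.mk b, hfmk b⟩
    have hker : LinearMap.ker f = J • ⊤ := by
      apply le_antisymm
      · intro q hq
        obtain ⟨b, rfl⟩ := Submodule.mkQ_surjective _ q
        rw [LinearMap.mem_ker, Submodule.mkQ_apply, hfmk, Submodule.Quotient.mk_eq_zero, Set.range_comp, ← Ideal.map_span,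
          Ideal.mem_map_iff_of_surjective (algebraMap B Bbar) Ideal.Quotient.mk_surjective] at hq
        obtain ⟨y, hy, hyb⟩ := hq
        have hby : b - y ∈ J • (⊤ : Submodule A B) := by
          rw [Ideal.smul_top_eq_map]
          exact Ideal.Quotient.eq.1 hyb.symm
        have h2 := Submodule.smul_top_le_comap_smul_top J ((Submodule.mkQ I).restrictScalars A) hby
        simp only [Submodule.mem_comap, LinearMap.restrictScalars_apply, Submodule.mkQ_apply,
          Submodule.Quotient.mk_sub, (Submodule.Quotient.mk_eq_zero I).2 hy, sub_zero] at h2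
        exact h2
      · rw [Submodule.smul_le]
        intro a ha q _
        rw [LinearMap.mem_ker, map_smul, ← algebraMap_smul Bbar a (f q),
          show algebraMap A Bbar a = 0 from Ideal.Quotient.eq_zero_iff_mem.2 (Ideal.mem_map_of_mem _ ha), zero_smul]
    let e := ((TensorProduct.quotTensorEquivQuotSMul (B ⧸ I) J).trans
      (Submodule.quotEquivOfEq _ _ hker.symm)).trans (f.quotKerEquivOfSurjective hf)
    have : Module.Flat Abar (Abar ⊗[A] (B ⧸ I)) :=
      Module.Flat.of_linearEquiv (e.extendScalarsOfSurjective Ideal.Quotient.mk_surjective)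
    exact Groth.EGA43Flat.flat_of_flat_quotient_of_rTensor_injective ⟨2, by rw [sq, hJ]; rfl⟩ h1

end

/-- Let A be a commutative ring, J an ideal of A of square zero, B a flat A-algebra and f₁, …, f_d
elements of B (a linear map from a free B-module of rank d to B). If the reductions of the f_i to
B/JB form a Koszul-regular sequence and the quotient of B/JB by them is flat over A/J, then f₁, …,
f_d is a Koszul-regular sequence in B and B/(f₁, …, f_d) is flat over A. -/
theorem result (A B : Type u) [CommRing A] [CommRing B] [Algebra A B]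
    [Module.Flat A B] (J : Ideal A) (hJ : J * J = ⊥) (rs : List B)
    (hreg : LCI.IsKoszulRegularSeq (B ⧸ Ideal.map (algebraMap A B) J)
      (rs.map (Ideal.Quotient.mk (Ideal.map (algebraMap A B) J))))
    (hflat : Module.Flat (A ⧸ J) ((B ⧸ Ideal.map (algebraMap A B) J) ⧸
      Ideal.ofList (rs.map (Ideal.Quotient.mk (Ideal.map (algebraMap A B) J))))) :
    LCI.IsKoszulRegularSeq B rs ∧ Module.Flat A (B ⧸ Ideal.ofList rs) := by
  obtain ⟨n, x, rfl⟩ : ∃ (n : ℕ) (x : Fin n → B), rs = List.ofFn x :=
    ⟨rs.length, rs.get, (List.ofFn_get rs).symm⟩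
  rw [List.map_ofFn] at hreg hflat
  have hI : ∀ {C : Type u} [CommRing C] (y : Fin n → C), Ideal.ofList (List.ofFn y) = Ideal.span (Set.range y) := by
    intro C _ y
    exact congrArg Ideal.span (Set.ext fun z => by simp)
  rw [hI] at hflat ⊢
  obtain ⟨h1, h2⟩ := main J x hJ (fun i v hv => by
    have hex := Groth.Calg5.KoszulColon.exact_of_isKoszulRegularSeq
      (R := B ⧸ Ideal.map (algebraMap A B) J) _ hreg i v (by
        rw [← Ideal.Quotient.algebraMap_eq, Groth.FrobLCI.CE.d_algebraMap]; exact hv)
    obtain ⟨w, hw⟩ := hex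
    rw [← Ideal.Quotient.algebraMap_eq, Groth.FrobLCI.CE.d_algebraMap] at hw
    exact ⟨w, hw⟩) hflat
  exact ⟨isKoszulRegularSeq_of_exact x h1, h2⟩

end Groth.Agent.S8368
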