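import Groth.Statements.S8369
import Mathlib.RingTheory.Flat.Equalizer
import Mathlib.LinearAlgebra.TensorProduct.Quotient
open scoped TensorProduct

set_option autoImplicit false
universe u v
open SGA3

namespace Groth.Agent.S8369

/-- Let A be a commutative ring, J a nilpotent ideal, N ⊆ M A-modules with M/N flat over A. If elements
of N have images generating the image of N in M/JM, then they generate N. (The published statement
takes finitely many elements; this row allows an arbitrary set, which the same argument permits.) -/
theorem result (A : Type u) [CommRing A] (J : Ideal A) (hJ : IsNilpotent J)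
    (M : Type v) [AddCommGroup M] [Module A M] (N : Submodule A M) [Module.Flat A (M ⧸ N)] (s : Set M)
    (hs : s ⊆ N)
    (hgen : (Submodule.span A s).map (J • (⊤ : Submodule A M)).mkQ = N.map (J • (⊤ : Submodule A M)).mkQ) :
    Submodule.span A s = N := by
  have key : N ⊓ J • ⊤ ≤ J • N := by
    rintro x ⟨hxN, hxJ⟩
    have hinj := LinearMap.lTensor_injective_of_exact_of_flat N.mkQ N.mkQ_surjective N.subtype
      N.injective_subtype (LinearMap.exact_subtype_mkQ N) (A ⧸ J)
    have h0 : (1 : A ⧸ J) ⊗ₜ[A] (⟨x, hxN⟩ : N) = 0 := by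
      apply hinj
      rw [map_zero, LinearMap.lTensor_tmul]
      apply (TensorProduct.quotTensorEquivQuotSMul M J).injective
      rw [map_zero, ← map_one (Ideal.Quotient.mk J), TensorProduct.quotTensorEquivQuotSMul_mk_tmul,
        one_smul, Submodule.Quotient.mk_eq_zero]
      exact hxJ
    have h1 := congrArg (TensorProduct.quotTensorEquivQuotSMul N J) h0
    rw [map_zero, ← map_one (Ideal.Quotient.mk J), TensorProduct.quotTensorEquivQuotSMul_mk_tmul,
      one_smul, Submodule.Quotient.mk_eq_zero] at h1
    have h2 : x ∈ Submodule.map N.subtype (J • ⊤) := ⟨_, h1, rfl⟩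
    rwa [Submodule.map_smul'', Submodule.map_top, Submodule.range_subtype] at h2
  have hsN : Submodule.span A s ≤ N := Submodule.span_le.mpr hs
  have step : N ≤ Submodule.span A s ⊔ J • N := by
    intro x hx
    have : (J • (⊤ : Submodule A M)).mkQ x ∈ N.map (J • (⊤ : Submodule A M)).mkQ :=
      Submodule.mem_map_of_mem hx
    rw [← hgen] at this
    obtain ⟨y, hy, hxy⟩ := this
    rw [Submodule.mkQ_apply, Submodule.mkQ_apply, Submodule.Quotient.eq] at hxy
    have hd : y - x ∈ J • N := key ⟨N.sub_mem (hsN hy) hx, hxy⟩
    refine Submodule.mem_sup.mpr ⟨y, hy, -(y - x), Submodule.neg_mem _ hd, ?_⟩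
    abel
  have iter : ∀ n : ℕ, N ≤ Submodule.span A s ⊔ J ^ n • N := by
    intro n
    induction n with
    | zero => simp
    | succ n ih =>
      refine ih.trans (sup_le le_sup_left ?_)
      rw [pow_succ, Submodule.mul_smul]
      refine le_trans (Submodule.smul_mono le_rfl step) ?_
      rw [Submodule.smul_sup]
      exact sup_le_sup Submodule.smul_le_right le_rfl
  obtain ⟨n, hn⟩ := hJ
  refine le_antisymm hsN ((iter n).trans ?_)
  rw [hn]
  simp

end Groth.Agent.S8369
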