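import Groth.Statements.S8370
-- import your own Groth.Agent.* helpers here

set_option autoImplicit false
universe u
open CategoryTheory MonObj AlgebraicGeometry
open LieS

namespace Groth.Agent.S8370

theorem comp_mul' {S : Scheme.{u}} {G : Over S} [GrpObj G] {X Y : Over S} (g : X ⟶ Y)
    (a b : Y ⟶ G) : g ≫ (a * b) = (g ≫ a) * (g ≫ b) :=
  ((yonedaGrpObj G).map g.op).hom.map_mul a b

/-- `ε ↦ c` -/
noncomputable def evalSec {S : Scheme.{u}} (C : Type u) [CommRing C]
    (f : Spec (CommRingCat.of C) ⟶ S) (c : C) (hc : c * c = 0) : pt C f ⟶ dpt C f :=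
  Over.homMk (Spec.map (CommRingCat.ofHom (dualHom (RingHom.id C) c hc))) (by
    change Spec.map _ ≫ Spec.map _ ≫ f = f
    rw [← Category.assoc, specMap_comp, dualHom_comp_algebraMap, CommRingCat.ofHom_id]
    erw [Spec.map_id]; exact Category.id_comp f)

theorem evalSec_proj {S : Scheme.{u}} (C : Type u) [CommRing C]
    (f : Spec (CommRingCat.of C) ⟶ S) (c : C) (hc : c * c = 0) :
    evalSec C f c hc ≫ proj C f = 𝟙 _ := by
  ext; change Spec.map _ ≫ Spec.map _ = 𝟙 _
  rw [specMap_comp, dualHom_comp_algebraMap, CommRingCat.ofHom_id]; erw [Spec.map_id]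

theorem dualHom_comp_bcHom {B C : Type u} [CommRing B] [CommRing C] (a : DualNumber B →+* C)
    (hc : a DualNumber.eps * a DualNumber.eps = 0) :
    (dualHom (RingHom.id C) (a DualNumber.eps) hc).comp (bcHom (a.comp (algebraMap B (DualNumber B))))
      = a := by
  apply RingHom.ext
  intro x
  have hx : x = algebraMap B (DualNumber B) x.fst
      + algebraMap B (DualNumber B) x.snd * DualNumber.eps := by
    apply TrivSqZeroExt.ext <;> simp [TrivSqZeroExt.algebraMap_eq_inl']
  conv_rhs => rw [hx]
  simp [bcHom, TrivSqZeroExt.algebraMap_eq_inl']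


/-- For a group scheme G over a scheme S (the group law of the Lie algebra functor of a group scheme is
commutative, which the published statement assumes), a sub-group-scheme K of G given by a
monomorphic homomorphism i, and an affine S-scheme T = Spec B: an element x of Lie(G/S)(T) belongs
to the Lie algebra of the centraliser of K, i.e. the point x of G with values in the dual numbers
I_T commutes with every point of K with values in any scheme over I_T, if and only if x is fixed by
the adjoint action of every point of K with values in an affine scheme T' = Spec B' over T (acting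
on the restriction of x to T'). -/
theorem result (S : Scheme.{u}) (G K : Over S) [GrpObj G] [GrpObj K] (i : K ⟶ G)
    [IsMonHom i] [Mono i] (B : Type u) [CommRing B] (f : Spec (CommRingCat.of B) ⟶ S) (x : LieS.Lie G B f) :
    (∀ (X' : Over S) (y : X' ⟶ LieS.dpt B f) (h : X' ⟶ K), (y ≫ x.1) * (h ≫ i) = (h ≫ i) * (y ≫ x.1)) ↔
    (∀ (B' : Type u) [CommRing B'] (h : B →+* B')
      (k : LieS.pt B' (Spec.map (CommRingCat.ofHom h) ≫ f) ⟶ K),
      LieS.Ad G B' (Spec.map (CommRingCat.ofHom h) ≫ f) (k ≫ i) (LieS.pull G f h x) = LieS.pull G f h x) := by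
  constructor
  · intro H B' _ h k
    apply Subtype.ext
    have e := H _ (dptMap f h) (proj B' _ ≫ k)
    change (proj B' _ ≫ k ≫ i) * (dptMap f h ≫ x.1) * (proj B' _ ≫ k ≫ i)⁻¹ = dptMap f h ≫ x.1
    rw [Category.assoc] at e
    rw [← e, _root_.mul_assoc, _root_.mul_inv_cancel, _root_.mul_one]
  · intro H X' y h
    apply Over.OverMorphism.ext
    apply X'.left.affineCover.hom_ext
    intro j
    let C := Γ(X'.left.affineCover.X j, ⊤)
    let inc : Spec (CommRingCat.of C) ⟶ X'.left :=
      (X'.left.affineCover.X j).isoSpec.inv ≫ X'.left.affineCover.f j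
    let a : DualNumber B →+* C := (Spec.preimage (inc ≫ y.left)).hom
    have ha : Spec.map (CommRingCat.ofHom a) = inc ≫ y.left := Spec.map_preimage _
    have hc : a DualNumber.eps * a DualNumber.eps = 0 := by rw [← map_mul, eps_sq, map_zero]
    let h' : B →+* C := a.comp (algebraMap B (DualNumber B))
    let incO : pt C (Spec.map (CommRingCat.ofHom h') ≫ f) ⟶ X' := Over.homMk inc (by
      change inc ≫ X'.hom = Spec.map _ ≫ f
      rw [← specMap_comp, ha, ← Over.w y, Category.assoc, Category.assoc]
      rfl)
    have e := congrArg Subtype.val (H C h' (incO ≫ h))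
    change (proj C _ ≫ (incO ≫ h) ≫ i) * (dptMap f h' ≫ x.1) * (proj C _ ≫ (incO ≫ h) ≫ i)⁻¹
      = dptMap f h' ≫ x.1 at e
    rw [mul_inv_eq_iff_eq_mul] at e
    have hσ : evalSec C _ (a DualNumber.eps) hc ≫ dptMap f h' = incO ≫ y := by
      ext
      change Spec.map _ ≫ Spec.map _ = inc ≫ y.left
      rw [specMap_comp, dualHom_comp_bcHom, ha]
    have e' := congrArg (evalSec C _ (a DualNumber.eps) hc ≫ ·) e
    simp only [comp_mul', Category.assoc, reassoc_of% evalSec_proj, reassoc_of% hσ] at e'
    have e2 := congrArg (fun q => q.left) e'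
    simp only [← comp_mul', Over.comp_left] at e2
    rw [← cancel_epi (X'.left.affineCover.X j).isoSpec.inv]
    simpa [incO, inc] using e2.symm

end Groth.Agent.S8370
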