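import Groth.Statements.S8373
import Groth.Agent.CartanRel.Stable
-- import your own Groth.Agent.* helpers here

set_option autoImplicit false
universe u
open scoped TensorProduct
open SGA3t2b

namespace Groth.Agent.S8373

open Groth.CartanRelAux

lemma ad_pow_equiv {A : Type u} [CommRing A] {L : Type u} [LieRing L] [LieAlgebra A L]
    (u : L ≃ₗ⁅A⁆ L) (a y : L) (n : ℕ) :
    ((LieAlgebra.ad A L (u a)) ^ n) (u y) = u (((LieAlgebra.ad A L a) ^ n) y) := by
  induction n with
  | zero => rfl
  | succ n ih =>
    rw [pow_succ', Module.End.mul_apply, ih, pow_succ', Module.End.mul_apply]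
    exact (LieEquiv.map_lie u _ _).symm


/-- Over an affine base Spec A: let L be a Lie algebra over A which is a finitely generated projective
A-module, H a Cartan subalgebra of L relative to A, a an element of H which is quasi-regular in L,
and u an automorphism of the Lie algebra L over A. Then u(H) = H if and only if u(a) ∈ H. -/
theorem result {A : Type u} [CommRing A] {L : Type u} [LieRing L]
    [LieAlgebra A L] [Module.Finite A L] [Module.Projective A L]
    (H : LieSubalgebra A L) (hH : SGA3t2b.IsCartanRel H) (a : L) (haH : a ∈ H)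
    (ha : SGA3t2b.IsQuasiRegular A L a) (u : L ≃ₗ⁅A⁆ L) :
    H.map u.toLieHom = H ↔ u a ∈ H := by
  refine ⟨fun h => h ▸ ⟨a, haH, rfl⟩, fun h => ?_⟩
  have hu : SGA3t2b.IsQuasiRegular A L (u a) := fun p => by
    have h1 := (isRegular_equiv (bcEquiv p.asIdeal.ResidueField u)
      ((1 : p.asIdeal.ResidueField) ⊗ₜ[A] a)).mpr (ha p)
    rwa [bcEquiv_tmul] at h1
  have h1 := eq_engel_of_cartan hH haH ha
  have h2 := eq_engel_of_cartan hH h hu
  ext z
  rw [LieSubalgebra.mem_map]
  constructor
  · rintro ⟨y, hy, rfl⟩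
    rw [h1, LieSubalgebra.mem_engel_iff] at hy
    rw [h2, LieSubalgebra.mem_engel_iff]
    obtain ⟨n, hn⟩ := hy
    exact ⟨n, (ad_pow_equiv u a y n).trans (by rw [hn, map_zero])⟩
  · intro hz
    rw [h2, LieSubalgebra.mem_engel_iff] at hz
    obtain ⟨n, hn⟩ := hz
    refine ⟨u.symm z, ?_, u.apply_symm_apply z⟩
    rw [h1, LieSubalgebra.mem_engel_iff]
    refine ⟨n, u.injective ?_⟩
    change u _ = u 0
    rw [← ad_pow_equiv, u.apply_symm_apply, hn, map_zero]

end Groth.Agent.S8373
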