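import Groth.Statements.S8374
import Groth.Agent.CartanRel.Stable
-- import your own Groth.Agent.* helpers here

set_option autoImplicit false
universe u
open scoped TensorProduct
open SGA3t2b

namespace Groth.Agent.S8374

open Groth.CartanRelAux


/-- Over an affine base Spec A: let L be a Lie algebra over A which is a finitely generated projective
A-module, H a Cartan subalgebra of L relative to A, and p a prime of A whose residue field is
infinite. Then there are f ∈ A with f ∉ p and an element a ∈ H such that a is a regular element of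
every fibre κ(q) ⊗ L with f ∉ q, H is contained in the Engel subalgebra Nil(a, L), and every element
of Nil(a, L) is carried into H by some power of f; that is, over the basic open set D(f) the section
a is regular and H coincides with Nil(a, L). (The published statement gives a regular section of H
over some open neighbourhood of p; this row takes a global element of H and a basic open
neighbourhood D(f), which is equivalent over an affine base because multiplying by a function
invertible on D(f) does not change regularity.) -/
theorem result {A : Type u} [CommRing A] {L : Type u} [LieRing L]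
    [LieAlgebra A L] [Module.Finite A L] [Module.Projective A L]
    (H : LieSubalgebra A L) (hH : SGA3t2b.IsCartanRel H) (p : PrimeSpectrum A)
    (hp : Infinite p.asIdeal.ResidueField) :
    ∃ f : A, f ∉ p.asIdeal ∧ ∃ a : L, a ∈ H ∧
      (∀ q : PrimeSpectrum A, f ∉ q.asIdeal →
        LieAlgebra.IsRegular q.asIdeal.ResidueField ((1 : q.asIdeal.ResidueField) ⊗ₜ[A] a)) ∧
      H ≤ LieSubalgebra.engel A a ∧
      ∀ y : L, y ∈ LieSubalgebra.engel A a → ∃ n : ℕ, f ^ n • y ∈ H := by
  have := hH.1
  obtain ⟨hnil, hnorm, hrank⟩ := hH.2 p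
  let K := p.asIdeal.ResidueField
  let Hp : LieSubalgebra K (K ⊗[A] L) := (bcHom K H.incl).range
  have hmem : ∀ x, x ∈ Hp ↔ x ∈ SGA3t2b.fibreSubmodule p H := fun x => Iff.rfl
  have : LieRing.IsNilpotent Hp := (bcHom K H.incl).isNilpotent_range
  obtain ⟨x, hx, hxe⟩ := exists_engel_eq Hp (fun z hz => (hmem z).mpr (hnorm z fun y hy =>
    (hmem _).mp (hz y ((hmem y).mpr hy))))
  obtain ⟨z, rfl⟩ := hx
  have hxr : LieAlgebra.IsRegular K (bcHom K H.incl z) := by
    have hxe' : LieSubalgebra.engel K (bcHom K H.incl z) = Hp := hxe
    rw [LieAlgebra.isRegular_iff_finrank_engel_eq_rank, hxe']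
    exact hrank
  obtain ⟨s, hs, a, hsa⟩ := exists_smul_eq_tmul p z
  have har : LieAlgebra.IsRegular K ((1 : K) ⊗ₜ[A] (a : L)) := by
    have h1 := (isRegular_smul (c := algebraMap A K s)
      (fun h => hs (Ideal.algebraMap_residueField_eq_zero.mp h)) (bcHom K H.incl z)).mpr hxr
    rwa [← map_smul, hsa, bcHom_tmul] at h1
  let ψ := adQuot H (a : L) a.2
  obtain ⟨f, hf, hfQ⟩ := exists_smul_mem_range ψ p
    (adQuot_surjective_of_fibre_eq p _ a.2 (fibre_eq_engel p hH a.2 har))
  refine ⟨f, hf, a, a.2, fun q hq => ?_, le_engel_of_cartan hH a.2, fun y hy => ?_⟩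
  · have hs : Function.Surjective (ψ.baseChange q.asIdeal.ResidueField) := by
      intro w
      induction w using TensorProduct.induction_on with
      | zero => exact ⟨0, map_zero _⟩
      | add u v hu hv =>
        obtain ⟨u', rfl⟩ := hu
        obtain ⟨v', rfl⟩ := hv
        exact ⟨u' + v', map_add _ _ _⟩
      | tmul c v =>
        obtain ⟨w, hw⟩ := hfQ v
        have hf0 : algebraMap A q.asIdeal.ResidueField f ≠ 0 := fun h =>
          hq (Ideal.algebraMap_residueField_eq_zero.mp h)
        refine ⟨(c * (algebraMap A q.asIdeal.ResidueField f)⁻¹) ⊗ₜ w, ?_⟩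
        rw [LinearMap.baseChange_tmul, hw, ← TensorProduct.smul_tmul, Algebra.smul_def,
          mul_comm c, ← mul_assoc, mul_inv_cancel₀ hf0, one_mul]
    have heq := le_antisymm (fibre_le_engel q (hH.2 q).1 a.2) (engel_le_fibre q _ a.2 hs)
    rw [LieAlgebra.isRegular_iff_finrank_engel_eq_rank, ← (hH.2 q).2.2, heq]
    rfl
  · exact exists_pow_smul_eq_zero_of_pow_eq_zero H a.2 f hfQ y hy

end Groth.Agent.S8374
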