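import Groth.Statements.S8375
import Groth.Agent.CartanRel.Stable
-- import your own Groth.Agent.* helpers here

set_option autoImplicit false
universe u
open scoped TensorProduct
open SGA3t2b

namespace Groth.Agent.S8375

open Groth.CartanRelAux
attribute [local instance 100] LieRing.ofAssociativeRing


/-- Over an affine base Spec A: let L be a Lie algebra over A which is a finitely generated projective
A-module, such that the nilpotent rank of the fibre Lie algebras κ(p) ⊗ L is a locally constant
function of p ∈ Spec A. Then for every a ∈ L the set of primes p at which 1 ⊗ a is a regular element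
of κ(p) ⊗ L is open in Spec A. (The published statement is over an arbitrary base and first asserts
that the locus of regular elements in the vector bundle of L is open; this row states its
consequence for a given section a, over an affine base.) -/
theorem result {A : Type u} [CommRing A] {L : Type u} [LieRing L]
    [LieAlgebra A L] [Module.Finite A L] [Module.Projective A L]
    (hC0 : ∀ p : PrimeSpectrum A, ∃ f : A, f ∉ p.asIdeal ∧ ∀ q : PrimeSpectrum A, f ∉ q.asIdeal →
        LieAlgebra.rank q.asIdeal.ResidueField (q.asIdeal.ResidueField ⊗[A] L) =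
          LieAlgebra.rank p.asIdeal.ResidueField (p.asIdeal.ResidueField ⊗[A] L)) (a : L) :
    IsOpen {p : PrimeSpectrum A |
      LieAlgebra.IsRegular p.asIdeal.ResidueField ((1 : p.asIdeal.ResidueField) ⊗ₜ[A] a)} := by
  obtain ⟨S⟩ := Split.nonempty (A := A) (L := L)
  rw [isOpen_iff_forall_mem_open]
  intro p hp
  obtain ⟨f, hf, hd⟩ := S.exists_d_const hC0 p
  let y₀ : Fin S.n → A := fun j => (Pi.basisFun A (Fin S.n)).equivFun (S.i a) j
  let c : A := (S.F.map (MvPolynomial.aeval y₀).toRingHom).coeff (S.d p.asIdeal.ResidueField)
  have key : ∀ q : PrimeSpectrum A, f ∉ q.asIdeal →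
      (LieAlgebra.IsRegular q.asIdeal.ResidueField ((1 : q.asIdeal.ResidueField) ⊗ₜ[A] a) ↔
        c ∉ q.asIdeal) := by
    intro q hq
    rw [← S.el_algebraMap q.asIdeal.ResidueField a, S.isRegular_el_iff, ← S.map_F_map A _ y₀,
      Polynomial.coeff_map, hd q hq, ne_eq, Ideal.algebraMap_residueField_eq_zero]
  refine ⟨PrimeSpectrum.basicOpen (f * c), fun q hq => ?_, PrimeSpectrum.isOpen_basicOpen, ?_⟩
  · have h1 : f ∉ q.asIdeal := fun h => hq (q.asIdeal.mul_mem_right _ h)
    exact (key q h1).mpr fun h => hq (q.asIdeal.mul_mem_left _ h)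
  · exact fun h => (p.isPrime.mem_or_mem h).elim hf ((key p hf).mp hp)

end Groth.Agent.S8375
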