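import Groth.Statements.S8377
import Groth.Agent.CartanRel.Stable
-- import your own Groth.Agent.* helpers here

set_option autoImplicit false
universe u
open scoped TensorProduct
open SGA3t2b

namespace Groth.Agent.S8377

open Groth.CartanRelAux


/-- Let L be a Lie algebra over the commutative ring A which is a finitely generated projective
A-module. Suppose that the nilpotent rank of the fibres κ(p) ⊗ L is locally constant on Spec A, that
for every A-algebra A' every quasi-regular element of A' ⊗ L is regular (condition (C₂)), and that
every fibre κ(p) ⊗ L has a regular element (automatic when every residue field of A is infinite).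
Then L acquires a relative Cartan subalgebra after a faithfully flat etale base change A → A'
(condition (C′₁)). (The published implication (C₂) ⇒ (C′₁) is over an arbitrary base and has no
hypothesis on regular elements of the fibres; this row is over an affine base and assumes every
fibre has a regular element, the case in which the published argument, through the existence of a
Cartan subalgebra Zariski-locally near each such point, is complete.) -/
theorem result {A : Type u} [CommRing A] {L : Type u} [LieRing L]
    [LieAlgebra A L] [Module.Finite A L] [Module.Projective A L]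
    (hC2 : ((∀ p : PrimeSpectrum A, ∃ f : A, f ∉ p.asIdeal ∧ ∀ q : PrimeSpectrum A, f ∉ q.asIdeal →
        LieAlgebra.rank q.asIdeal.ResidueField (q.asIdeal.ResidueField ⊗[A] L) =
          LieAlgebra.rank p.asIdeal.ResidueField (p.asIdeal.ResidueField ⊗[A] L)) ∧
      ∀ (A' : Type u) [CommRing A'] [Algebra A A'] (a' : A' ⊗[A] L),
        SGA3t2b.IsQuasiRegular A' (A' ⊗[A] L) a' → SGA3t2b.IsRegularRel A' (A' ⊗[A] L) a'))
    (hreg : ∀ p : PrimeSpectrum A, ∃ x : p.asIdeal.ResidueField ⊗[A] L, LieAlgebra.IsRegular p.asIdeal.ResidueField x) :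
    ∃ (A' : Type u) (_ : CommRing A') (_ : Algebra A A'), Algebra.Etale A A' ∧ Module.FaithfullyFlat A A' ∧
        ∃ H : LieSubalgebra A' (A' ⊗[A] L), SGA3t2b.IsCartanRel H := by
  classical
  choose f hf a hreg' using fun p => exists_isRegular_nhds hC2.1 p (hreg p)
  have htop : Ideal.span (Set.range f) = ⊤ := by
    by_contra h
    obtain ⟨m, hm, hle⟩ := Ideal.exists_le_maximal _ h
    exact hf ⟨m, hm.isPrime⟩ (hle (Ideal.subset_span ⟨⟨m, hm.isPrime⟩, rfl⟩))
  obtain ⟨s, hs⟩ : ∃ s : Finset (PrimeSpectrum A), Ideal.span (f '' (s : Set (PrimeSpectrum A))) = ⊤ := by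
    obtain ⟨t, ht, hts⟩ := Submodule.mem_span_finite_of_mem_span ((Ideal.eq_top_iff_one _).mp htop)
    choose g hg using fun z : t => ht z.2
    refine ⟨Finset.univ.image g, (Ideal.eq_top_iff_one _).mpr (Ideal.span_mono ?_ hts)⟩
    intro z hz
    exact ⟨g ⟨z, hz⟩, by simp, hg ⟨z, hz⟩⟩
  let A' : Type u := ∀ i : s, Localization.Away (f i.1)
  let e : s → A' := fun i => Pi.single i 1
  let a' : A' ⊗[A] L := ∑ i : s, e i ⊗ₜ[A] a i.1
  have hq : SGA3t2b.IsQuasiRegular A' (A' ⊗[A] L) a' := by
    intro q
    let K := q.asIdeal.ResidueField
    obtain ⟨i, hi⟩ : ∃ i, e i ∉ q.asIdeal := by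
      by_contra h
      push Not at h
      refine q.isPrime.ne_top ((Ideal.eq_top_iff_one _).mpr ?_)
      have : (1 : A') = ∑ i, e i := (Finset.univ_sum_single (1 : A')).symm
      rw [this]
      exact Ideal.sum_mem _ fun i _ => h i
    have hone : algebraMap A' K (e i) = 1 := by
      have h1 : e i * e i = e i := by
 
        funext l
        change (e i l) * (e i l) = e i l
        by_cases hl : l = i
        · subst hl
          simp [e]
        · simp [e, hl]
      have h2 : algebraMap A' K (e i) ≠ 0 := fun h => hi (Ideal.algebraMap_residueField_eq_zero.mp h)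
      have h3 : algebraMap A' K (e i) * algebraMap A' K (e i) = algebraMap A' K (e i) * 1 := by
        rw [mul_one, ← map_mul, h1]
      exact mul_left_cancel₀ h2 h3
    have hzero : ∀ j, j ≠ i → algebraMap A' K (e j) = 0 := by
      intro j hj
      have h1 : e j * e i = 0 := by
        funext l
        change e j l * e i l = 0
        by_cases hl : l = j
        · subst hl
          simp [e, Pi.single_eq_of_ne hj]
        · simp [e, hl]
      rcases q.isPrime.mem_or_mem (show e j * e i ∈ q.asIdeal from h1 ▸ zero_mem _) with h | h
      · exact Ideal.algebraMap_residueField_eq_zero.mpr h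
      · exact absurd h hi
    rw [← isRegular_equiv (cancelLie (R := A) (L := L) A' K)]
    have h4 : cancelLie (R := A) (L := L) A' K ((1 : K) ⊗ₜ[A'] a') = (1 : K) ⊗ₜ[A] a i.1 := by
      simp only [a', TensorProduct.tmul_sum]
      rw [← LieEquiv.coe_toLinearEquiv, map_sum, Finset.sum_eq_single i]
      · simp [← Algebra.algebraMap_eq_smul_one, hone]
      · intro j _ hj
        simp [← Algebra.algebraMap_eq_smul_one, hzero j hj]
      · simp
    rw [h4, isRegular_comap]
    refine hreg' i.1 _ fun h => hi ?_
    have h5 : e i = algebraMap A A' (f i.1) *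
        Pi.single i (IsLocalization.Away.invSelf (f i.1)) := by
      funext l
      change e i l = algebraMap A _ (f i.1) * Pi.single (M := fun i : s => Localization.Away (f i.1)) i (IsLocalization.Away.invSelf (f i.1)) l
      by_cases hl : l = i
      · subst hl
        simp [e, IsLocalization.Away.mul_invSelf]
      · simp [e, hl]
    rw [h5]
    exact q.asIdeal.mul_mem_right _ h
  refine ⟨A', inferInstance, inferInstance, inferInstance, ?_, ?_⟩
  · have : Module.Flat A A' := inferInstance
    refine Module.FaithfullyFlat.of_comap_surjective fun p => ?_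
    obtain ⟨i, hi⟩ : ∃ i : s, f i.1 ∉ p.asIdeal := by
      by_contra h
      push Not at h
      refine p.isPrime.ne_top (top_le_iff.mp (hs ▸ Ideal.span_le.mpr ?_))
      rintro _ ⟨z, hz, rfl⟩
      exact h ⟨z, hz⟩
    have : p ∈ Set.range (PrimeSpectrum.comap (algebraMap A (Localization.Away (f i.1)))) := by
      rw [PrimeSpectrum.localization_away_comap_range _ (f i.1)]
      exact hi
    obtain ⟨r, hr⟩ := this
    exact ⟨PrimeSpectrum.comap (Pi.evalRingHom _ i) r, hr⟩
  · obtain ⟨H, hH, -⟩ := (hC2.2 A' a' hq).2
    exact ⟨H, hH⟩

end Groth.Agent.S8377
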