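import Groth.Statements.S8378
import Groth.Agent.CartanRel.Stable
-- import your own Groth.Agent.* helpers here

set_option autoImplicit false
universe u
open scoped TensorProduct
open SGA3t2b

namespace Groth.Agent.S8378

open Groth.CartanRelAux


/-- Over an affine base Spec A: let L be a Lie algebra over A which is a finitely generated projective
A-module. If for some faithfully flat A-algebra A' the Lie algebra A' ⊗ L has a Cartan subalgebra
relative to A' (condition (C₁)), then the nilpotent rank of the fibres κ(p) ⊗ L is a locally
constant function of p ∈ Spec A (condition (C₀)). -/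
theorem result {A : Type u} [CommRing A] {L : Type u} [LieRing L]
    [LieAlgebra A L] [Module.Finite A L] [Module.Projective A L]
    (hC1 : ∃ (A' : Type u) (_ : CommRing A') (_ : Algebra A A'), Module.FaithfullyFlat A A' ∧
        ∃ H : LieSubalgebra A' (A' ⊗[A] L), SGA3t2b.IsCartanRel H) :
    ∀ p : PrimeSpectrum A, ∃ f : A, f ∉ p.asIdeal ∧ ∀ q : PrimeSpectrum A, f ∉ q.asIdeal →
        LieAlgebra.rank q.asIdeal.ResidueField (q.asIdeal.ResidueField ⊗[A] L) =
          LieAlgebra.rank p.asIdeal.ResidueField (p.asIdeal.ResidueField ⊗[A] L) := by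
  obtain ⟨A', _, _, hff, H, hH⟩ := hC1
  intro p
  have := hH.1
  have := finite_of_projective_quotient H.toSubmodule
  have := projective_of_projective_quotient H.toSubmodule
  have : Module.FinitePresentation A' H.toSubmodule := Module.finitePresentation_of_projective A' _
  have hr : ∀ q : PrimeSpectrum A', Module.rankAtStalk (R := A') H.toSubmodule q
      = rk A L (PrimeSpectrum.comap (algebraMap A A') q).asIdeal.ResidueField := by
    intro q
    rw [← rank_fibre_baseChange q, ← (hH.2 q).2.2, fibre_eq_range,
      LinearMap.finrank_range_of_inj (baseChange_subtype_injective _ H.toSubmodule),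
      Module.rankAtStalk_eq]
  have hq : Topology.IsQuotientMap (PrimeSpectrum.comap (algebraMap A A')) :=
    PrimeSpectrum.isQuotientMap_of_generalizingMap PrimeSpectrum.comap_surjective_of_faithfullyFlat
      (Algebra.HasGoingDown.iff_generalizingMap_primeSpectrumComap.mp inferInstance)
  let U : Set (PrimeSpectrum A) :=
    {q | rk A L q.asIdeal.ResidueField = rk A L p.asIdeal.ResidueField}
  have hU : IsOpen U := by
    rw [← hq.isOpen_preimage]
    convert (Module.isLocallyConstant_rankAtStalk (R := A') (M := H.toSubmodule)).isOpen_fiber
      (rk A L p.asIdeal.ResidueField) using 1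
    ext q
    simp [U, hr q]
  obtain ⟨V, ⟨g, rfl⟩, hpg, hgU⟩ :=
    PrimeSpectrum.isTopologicalBasis_basic_opens.exists_subset_of_mem_open (show p ∈ U from rfl) hU
  exact ⟨g, hpg, fun q hq => hgU hq⟩

end Groth.Agent.S8378
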