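import Groth.Statements.S8379
import Groth.Agent.CartanRel.Stable
-- import your own Groth.Agent.* helpers here

set_option autoImplicit false
universe u
open scoped TensorProduct
open SGA3t2b

namespace Groth.Agent.S8379

open Groth.CartanRelAux
attribute [local instance 100] LieRing.ofAssociativeRing


/-- Over an affine base Spec A with A reduced: let L be a Lie algebra over A which is a finitely
generated projective A-module whose fibres κ(p) ⊗ L have locally constant nilpotent rank on Spec A.
Then for every A-algebra A', every quasi-regular element of A' ⊗ L (regular in every fibre) is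
regular: it lies in a Cartan subalgebra of A' ⊗ L relative to A' (over a reduced base, condition
(C₀) implies condition (C₂)). -/
theorem result {A : Type u} [CommRing A] {L : Type u} [LieRing L]
    [LieAlgebra A L] [Module.Finite A L] [Module.Projective A L] [IsReduced A]
    (hC0 : ∀ p : PrimeSpectrum A, ∃ f : A, f ∉ p.asIdeal ∧ ∀ q : PrimeSpectrum A, f ∉ q.asIdeal →
        LieAlgebra.rank q.asIdeal.ResidueField (q.asIdeal.ResidueField ⊗[A] L) =
          LieAlgebra.rank p.asIdeal.ResidueField (p.asIdeal.ResidueField ⊗[A] L))
    (A' : Type u) [CommRing A'] [Algebra A A'] (a' : A' ⊗[A] L)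
    (ha' : SGA3t2b.IsQuasiRegular A' (A' ⊗[A] L) a') :
    SGA3t2b.IsRegularRel A' (A' ⊗[A] L) a' := by
  obtain ⟨h1, h2⟩ := engel_split_of_locally_const hC0 a' ha'
  exact ⟨ha', _, isCartanRel_engel ha' h1 h2, LieSubalgebra.self_mem_engel A' a'⟩

end Groth.Agent.S8379
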