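import Groth.Statements.S8383
import Mathlib.RingTheory.TensorProduct.Free


set_option autoImplicit false
universe u
open scoped TensorProduct
open SGA3t2b

namespace Groth.Agent.S8383

/-- Replace the rows of an invertible matrix over `K` one at a time by the image of the row under
a `k`-linear functional, keeping the determinant non-zero. -/
lemma exists_functionals (k K : Type*) [Field k] [Field K] [Algebra k K] {ι : Type*} [Fintype ι]
    [DecidableEq ι] (M : Matrix ι ι K) (hM : M.det ≠ 0) :
    ∃ π : ι → (K →ₗ[k] k), Matrix.det (fun i j => algebraMap k K (π i (M i j))) ≠ 0 := by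
  classical
  let B := Module.Basis.ofVectorSpace k K
  suffices h : ∀ s : Finset ι, ∃ π : ι → (K →ₗ[k] k), Matrix.det
      (fun i j => if i ∈ s then algebraMap k K (π i (M i j)) else M i j) ≠ 0 by
    simpa using h Finset.univ
  intro s
  induction s using Finset.induction_on with
  | empty => exact ⟨fun _ => 0, by simpa using hM⟩
  | insert a s ha ih =>
    obtain ⟨π, hπ⟩ := ih
    set P : Matrix ι ι K :=
      fun i j => if i ∈ s then algebraMap k K (π i (M i j)) else M i j with hP
    let T := Finset.univ.biUnion fun j => (B.repr (M a j)).support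
    have hrow : P a = ∑ t ∈ T, (B t : K) • fun j => algebraMap k K (B.coord t (M a j)) := by
      funext j
      rw [hP]
      simp only [ha, if_false, Finset.sum_apply, Pi.smul_apply, smul_eq_mul]
      conv_lhs => rw [← B.linearCombination_repr (M a j), Finsupp.linearCombination_apply,
        Finsupp.sum_of_support_subset _ (show (B.repr (M a j)).support ⊆ T from
          Finset.subset_biUnion_of_mem (fun j => (B.repr (M a j)).support) (Finset.mem_univ j))
          (fun t c => c • B t) (fun i _ => zero_smul k (B i))]
      refine Finset.sum_congr rfl fun t _ => ?_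
      rw [Algebra.smul_def, mul_comm]
      rfl
    have hne : ∃ t ∈ T, Matrix.det
        (P.updateRow a fun j => algebraMap k K (B.coord t (M a j))) ≠ 0 := by
      by_contra hcon
      push Not at hcon
      apply hπ
      let L := (Matrix.detRowAlternating (R := K) (n := ι)).toMultilinearMap.toLinearMap P a
      have hL : ∀ v, L v = (P.updateRow a v).det := fun v => rfl
      have h1 : L (P a) = 0 := by
        rw [hrow, map_sum]
        refine Finset.sum_eq_zero fun t ht => ?_
        rw [map_smul, hL, hcon t ht, smul_zero]
      rw [hL, Matrix.updateRow_eq_self] at h1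
      exact h1
    obtain ⟨t, _, ht⟩ := hne
    refine ⟨Function.update π a (B.coord t), ?_⟩
    convert ht using 2
    congr 1
    funext i j
    by_cases hia : i = a
    · subst hia
      simp
    · rw [Matrix.updateRow_ne hia]
      simp [hia]
      rfl


/-- Let k be a finite field with algebraic closure K, V a finite-dimensional vector space over k, and
θ₁, …, θₙ a basis of the dual of the K-vector space K ⊗ V. Then there is x ∈ V with θᵢ(1 ⊗ x) ≠ 0
for every i. -/
theorem result (k : Type u) [Field k] [Finite k]
    (V : Type u) [AddCommGroup V] [Module k V] [Module.Finite k V] {ι : Type} [Fintype ι]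
    (θ : Module.Basis ι (AlgebraicClosure k) (Module.Dual (AlgebraicClosure k) (AlgebraicClosure k ⊗[k] V))) :
    ∃ x : V, ∀ i : ι, θ i ((1 : AlgebraicClosure k) ⊗ₜ[k] x) ≠ 0 := by
  classical
  set K := AlgebraicClosure k
  let b0 := Module.finBasis k V
  have hcard : Fintype.card ι = Fintype.card (Fin (Module.finrank k V)) := by
    rw [← Module.finrank_eq_card_basis θ, Subspace.dual_finrank_eq, Module.finrank_baseChange,
      Fintype.card_fin]
  let b := b0.reindex (Fintype.equivOfCardEq hcard).symm
  let bK := Algebra.TensorProduct.basis K b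
  let M : Matrix ι ι K := fun i j => θ i ((1 : K) ⊗ₜ[k] b j)
  have hM : M.det ≠ 0 := by
    have h1 : bK.dualBasis.toMatrix θ = M.transpose := by
      ext j i
      simp [Module.Basis.toMatrix_apply, M, bK]
      all_goals rfl
    have h2 : IsUnit (bK.dualBasis.toMatrix θ).det := by
      have := bK.dualBasis.invertibleToMatrix θ
      exact Matrix.isUnit_det_of_invertible _
    rw [h1, Matrix.det_transpose] at h2
    exact h2.ne_zero
  obtain ⟨π, hπ⟩ := exists_functionals k K M hM
  let N : Matrix ι ι k := fun i j => π i (M i j)
  have hN : IsUnit N := by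
    rw [Matrix.isUnit_iff_isUnit_det, isUnit_iff_ne_zero]
    intro h0
    apply hπ
    have := RingHom.map_det (algebraMap k K) N
    rw [h0, map_zero] at this
    exact this.symm
  obtain ⟨y, hy⟩ := (Matrix.mulVec_surjective_iff_isUnit.mpr hN) (fun _ => 1)
  refine ⟨∑ j, y j • b j, fun i h0 => ?_⟩
  have h3 : π i (θ i ((1 : K) ⊗ₜ[k] ∑ j, y j • b j)) = 1 := by
    have h4 := congrFun hy i
    simp only [Matrix.mulVec, dotProduct] at h4
    rw [← h4]
    simp only [TensorProduct.tmul_sum, TensorProduct.tmul_smul, map_sum]
    refine Finset.sum_congr rfl fun j _ => ?_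
    rw [LinearMap.map_smul_of_tower, map_smul, smul_eq_mul, mul_comm]
  rw [h0, map_zero] at h3
  exact zero_ne_one h3

end Groth.Agent.S8383
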