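import Groth.Statements.S8384
import Mathlib.RingTheory.AdicCompletion.RingHom
import Mathlib.AlgebraicGeometry.Morphisms.ClosedImmersion
-- no helpers

set_option autoImplicit false
universe u
open CategoryTheory MonoidalCategory CartesianMonoidalCategory MonObj GrpObj AlgebraicGeometry
open SGA3x

namespace Groth.Agent.S8384


/-- Let A be a local ring, separated and complete for the topology defined by its maximal ideal m, S =
Spec A and Sₙ = Spec(A/mⁿ). Then for every scheme X the canonical map Hom(S, X) → lim Hom(Sₙ, X) is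
bijective: two morphisms S → X that agree on every Sₙ are equal, and every family of morphisms Sₙ →
X compatible with the closed immersions Sₙ → Sₙ₊₁ is induced by a morphism S → X. -/
theorem result (A : Type u) [CommRing A] [IsLocalRing A]
    [IsAdicComplete (IsLocalRing.maximalIdeal A) A] (X : Scheme.{u}) :
    (∀ f g : (Spec (CommRingCat.of A)) ⟶ X,
      (∀ n : ℕ, (Spec.map (CommRingCat.ofHom (Ideal.Quotient.mk ((IsLocalRing.maximalIdeal A) ^ n)))) ≫ f = (Spec.map (CommRingCat.ofHom (Ideal.Quotient.mk ((IsLocalRing.maximalIdeal A) ^ n)))) ≫ g) → f = g) ∧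
    (∀ u : (n : ℕ) → (Spec (CommRingCat.of (A ⧸ (IsLocalRing.maximalIdeal A) ^ n)) ⟶ X),
      (∀ n : ℕ, (Spec.map (CommRingCat.ofHom (Ideal.Quotient.factor
          (Ideal.pow_le_pow_right (I := (IsLocalRing.maximalIdeal A)) (Nat.le_succ n))))) ≫ u (n + 1) = u n) →
      ∃ f : (Spec (CommRingCat.of A)) ⟶ X, ∀ n : ℕ, (Spec.map (CommRingCat.ofHom (Ideal.Quotient.mk ((IsLocalRing.maximalIdeal A) ^ n)))) ≫ f = u n) := by
  set m := IsLocalRing.maximalIdeal A with hm
  have hmax : ∀ n : ℕ, ∀ p : PrimeSpectrum (A ⧸ m ^ n),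
      (PrimeSpectrum.comap (Ideal.Quotient.mk (m ^ n)) p) = IsLocalRing.closedPoint A := by
    intro n p
    apply PrimeSpectrum.ext
    refine ((IsLocalRing.maximalIdeal.isMaximal A).eq_of_le (PrimeSpectrum.isPrime _).ne_top ?_).symm
    intro a ha
    refine (PrimeSpectrum.isPrime _).mem_of_pow_mem n ?_
    show Ideal.Quotient.mk (m ^ n) (a ^ n) ∈ p.asIdeal
    rw [Ideal.Quotient.eq_zero_iff_mem.mpr (Ideal.pow_mem_pow ha n)]
    exact zero_mem _
  let i : ∀ n : ℕ, Spec (CommRingCat.of (A ⧸ m ^ n)) ⟶ Spec (CommRingCat.of A) :=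
    fun n ↦ Spec.map (CommRingCat.ofHom (Ideal.Quotient.mk (m ^ n)))
  have hpt1 : ∃ p : ↥(Spec (CommRingCat.of (A ⧸ m ^ 1))), True := by
    have : Nontrivial (A ⧸ m ^ 1) := Ideal.Quotient.nontrivial_iff.mpr (by simp [Ideal.IsMaximal.ne_top (IsLocalRing.maximalIdeal.isMaximal A), hm])
    exact ⟨Classical.arbitrary _, trivial⟩
  obtain ⟨p1, -⟩ := hpt1
  constructor
  · intro f g hfg
    obtain ⟨U, hU, hxU, -⟩ := exists_isAffineOpen_mem_and_subset (X := X)
      (x := f.base (IsLocalRing.closedPoint A)) (U := ⊤) trivial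
    have hg : g.base (IsLocalRing.closedPoint A) = f.base (IsLocalRing.closedPoint A) := by
      have h := congr($(hfg 1).base p1)
      have e : (i 1).base p1 = IsLocalRing.closedPoint A := hmax 1 p1
      simpa [← e] using h.symm
    have key : ∀ h : Spec (CommRingCat.of A) ⟶ X, h.base (IsLocalRing.closedPoint A) ∈ U →
        ∃ φ : Γ(X, U) ⟶ CommRingCat.of A, h = Spec.map φ ≫ hU.fromSpec := by
      intro h hh
      have : Set.range h.base ⊆ Set.range hU.fromSpec.base := by
        rw [hU.range_fromSpec]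
        rintro _ ⟨y, rfl⟩
        exact ((IsLocalRing.specializes_closedPoint y).map h.base.hom.continuous).mem_open U.2 hh
      exact ⟨Spec.preimage (IsOpenImmersion.lift hU.fromSpec h this), by simp⟩
    obtain ⟨φ, rfl⟩ := key f hxU
    obtain ⟨ψ, rfl⟩ := key g (hg ▸ hxU)
    congr 2
    ext b
    refine IsHausdorff.haus (I := m) inferInstance (φ.hom b - ψ.hom b) (fun n ↦ ?_) |> sub_eq_zero.mp
    have h := hfg n
    rw [← Category.assoc, ← Category.assoc, cancel_mono, ← Spec.map_comp, ← Spec.map_comp] at h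
    have := congr($(Spec.map_injective h) b)
    rw [SModEq.zero, smul_eq_mul, Ideal.mul_top]
    exact Ideal.Quotient.eq.mp (by simpa using this)
  · intro u hu
    obtain ⟨U, hU, hxU, -⟩ := exists_isAffineOpen_mem_and_subset (X := X)
      (x := (u 1).base p1) (U := ⊤) trivial
    let t : ∀ n : ℕ, Spec (CommRingCat.of (A ⧸ m ^ n)) ⟶ Spec (CommRingCat.of (A ⧸ m ^ (n+1))) :=
      fun n ↦ Spec.map (CommRingCat.ofHom (Ideal.Quotient.factor (Ideal.pow_le_pow_right (I := m) (Nat.le_succ n))))
    have hinj : ∀ n, Function.Injective (i n).base := fun n ↦ by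
      haveI : IsClosedImmersion (i n) := IsClosedImmersion.spec_of_surjective _ Ideal.Quotient.mk_surjective
      exact (i n).isClosedEmbedding.injective
    have hmem : ∀ n, ∀ p, (u n).base p ∈ U := by
      intro n
      induction n with
      | zero =>
        intro p
        have : Subsingleton (A ⧸ m ^ 0) := Ideal.Quotient.subsingleton_iff.mpr (by simp)
        exact isEmptyElim (α := PrimeSpectrum (A ⧸ m ^ 0)) p
      | succ n ih =>
        intro p
        rcases Nat.eq_zero_or_pos n with rfl | hn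
        · rwa [hinj 1 ((hmax 1 p).trans (hmax 1 p1).symm)]
        · have : Nontrivial (A ⧸ m ^ n) := Ideal.Quotient.nontrivial_iff.mpr (by simp [Ideal.IsMaximal.ne_top (IsLocalRing.maximalIdeal.isMaximal A), hm, hn.ne'])
          let q : ↥(Spec (CommRingCat.of (A ⧸ m ^ n))) := Classical.arbitrary _
          have : p = (t n).base q := hinj (n+1) ((hmax _ _).trans (hmax _ _).symm)
          rw [this]
          simpa [← hu n] using ih q
    have hfac : ∀ n, ∃ φ : Γ(X, U) ⟶ CommRingCat.of (A ⧸ m ^ n), u n = Spec.map φ ≫ hU.fromSpec := by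
      intro n
      have : Set.range (u n).base ⊆ Set.range hU.fromSpec.base := by
        rw [hU.range_fromSpec]; rintro _ ⟨p, rfl⟩; exact hmem n p
      exact ⟨Spec.preimage (IsOpenImmersion.lift hU.fromSpec (u n) this), by simp⟩
    choose φ hφ using hfac
    have hcompat : ∀ n, (Ideal.Quotient.factorPow m (Nat.le_succ n)).comp (φ (n+1)).hom = (φ n).hom := by
      intro n
      have h := hu n
      rw [hφ, hφ, ← Category.assoc, cancel_mono, ← Spec.map_comp] at h
      exact congr(CommRingCat.Hom.hom $(Spec.map_injective h))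
    refine ⟨Spec.map (CommRingCat.ofHom (IsAdicComplete.StrictMono.liftRingHom m (a := fun n ↦ n)
      strictMono_id (fun n ↦ (φ n).hom) (fun {n} ↦ hcompat n))) ≫ hU.fromSpec, fun n ↦ ?_⟩
    rw [← Category.assoc, ← Spec.map_comp, hφ n]
    congr 2
    ext b
    exact IsAdicComplete.StrictMono.mk_liftRingHom m strictMono_id _ (fun {n} ↦ hcompat n) b

end Groth.Agent.S8384
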