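import Groth.Statements.S8385
import Groth.Agent.Reductive2.HomComplete
import Groth.Agent.Hensel1.Finite
import Groth.Agent.AdicLinTop.Adic

set_option autoImplicit false
universe u
open CategoryTheory MonoidalCategory CartesianMonoidalCategory MonObj GrpObj AlgebraicGeometry
open SGA3x

namespace Groth.Agent.S8385

open Groth.Reductive2

variable (A : Type u) [CommRing A] [IsLocalRing A] [IsNoetherianRing A]
  [IsAdicComplete (IsLocalRing.maximalIdeal A) A] (B : Type u) [CommRing B] [Algebra A B]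
  [Module.Finite A B]

/-- The ideal `m^n B`. -/
abbrev Jn (n : ℕ) : Ideal B := Ideal.map (algebraMap A B) ((IsLocalRing.maximalIdeal A) ^ n)

section

variable (Q : Ideal B) [IsLocalRing (B ⧸ Q)]

/-- The ideal `m (B/Q)`. -/
abbrev JQ : Ideal (B ⧸ Q) := (IsLocalRing.maximalIdeal A).map (algebraMap A (B ⧸ Q))

theorem complete_piece : IsAdicComplete (JQ A B Q) (B ⧸ Q) :=
  (IsAdicComplete.map_algebraMap_iff _ _).mpr Groth.AdicLinTop.Adic.isAdicComplete_of_finite

theorem JQ_ne_top : JQ A B Q ≠ ⊤ := fun h => by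
  have := complete_piece A B Q
  rw [h] at this
  exact not_subsingleton (B ⧸ Q) this.subsingleton

/-- `B/m^nB → (B/Q)/m^n(B/Q)`. -/
noncomputable def rho (n : ℕ) : B ⧸ Jn A B n →+* (B ⧸ Q) ⧸ (JQ A B Q) ^ n :=
  Ideal.quotientMap _ (Ideal.Quotient.mk Q) (by
    rw [← Ideal.map_le_iff_le_comap, Jn, JQ, Ideal.map_map, ← Ideal.map_pow]
    rfl)

theorem rho_comp (n : ℕ) : (rho A B Q n).comp (Ideal.Quotient.mk (Jn A B n)) =
    (Ideal.Quotient.mk ((JQ A B Q) ^ n)).comp (Ideal.Quotient.mk Q) := by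
  ext; rfl

theorem hom_ext_piece {Y : Scheme.{u}} (f g : Spec (CommRingCat.of B) ⟶ Y)
    (h : ∀ n, sp (Ideal.Quotient.mk (Jn A B n)) ≫ f = sp (Ideal.Quotient.mk (Jn A B n)) ≫ g) :
    sp (Ideal.Quotient.mk Q) ≫ f = sp (Ideal.Quotient.mk Q) ≫ g := by
  have := complete_piece A B Q
  refine hom_ext_complete (JQ_ne_top A B Q) _ _ fun n => ?_
  rw [← sp_comp_assoc, ← sp_comp_assoc, ← rho_comp A B Q n, sp_comp_assoc, sp_comp_assoc, h n]

theorem exists_piece {Y : Scheme.{u}} (u : ∀ n, Spec (CommRingCat.of (B ⧸ Jn A B n)) ⟶ Y)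
    (hu : ∀ {m n : ℕ} (h : m ≤ n), sp (Ideal.Quotient.factor (S := Jn A B n) (T := Jn A B m)
      (Ideal.map_mono (Ideal.pow_le_pow_right h))) ≫ u n = u m) :
    ∃ f : Spec (CommRingCat.of (B ⧸ Q)) ⟶ Y,
      ∀ n, sp (Ideal.Quotient.mk ((JQ A B Q) ^ n)) ≫ f = sp (rho A B Q n) ≫ u n := by
  have := complete_piece A B Q
  refine exists_hom_complete (JQ_ne_top A B Q) _ fun {m n} h => ?_
  rw [← hu h, ← sp_comp_assoc, ← sp_comp_assoc]
  congr 2
  ext x
  rfl

end

include A in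
theorem exists_idem : ∃ (J₀ : Type u) (_ : Fintype J₀) (e : J₀ → B), CompleteOrthogonalIdempotents e ∧
    ∀ i, IsLocalRing (B ⧸ Ideal.span {1 - e i}) := by
  have : HenselianRing A (IsLocalRing.maximalIdeal A) := inferInstance
  have := Groth.Hensel1.henselianLocalRing_of_henselianRing (R := A)
  exact Groth.Hensel1.exists_completeOrthogonalIdempotents_local A B

theorem unique {Y : Scheme.{u}} (f g : Spec (CommRingCat.of B) ⟶ Y)
    (h : ∀ n, sp (Ideal.Quotient.mk (Jn A B n)) ≫ f = sp (Ideal.Quotient.mk (Jn A B n)) ≫ g) :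
    f = g := by
  obtain ⟨J₀, _, e, he, hloc⟩ := exists_idem A B
  exact hom_ext_idem he f g fun i => have := hloc i; hom_ext_piece A B _ f g h

theorem existence {Y : Scheme.{u}} (u : ∀ n, Spec (CommRingCat.of (B ⧸ Jn A B n)) ⟶ Y)
    (hu : ∀ {m n : ℕ} (h : m ≤ n), sp (Ideal.Quotient.factor (S := Jn A B n) (T := Jn A B m)
      (Ideal.map_mono (Ideal.pow_le_pow_right h))) ≫ u n = u m) :
    ∃ f : Spec (CommRingCat.of B) ⟶ Y, ∀ n, sp (Ideal.Quotient.mk (Jn A B n)) ≫ f = u n := by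
  obtain ⟨J₀, _, e, he, hloc⟩ := exists_idem A B
  choose fi hfi using fun i => (have := hloc i; exists_piece A B (Ideal.span {1 - e i}) u hu)
  obtain ⟨f, hf⟩ := exists_hom_idem he fi
  refine ⟨f, fun n => hom_ext_idem (he.map (Ideal.Quotient.mk (Jn A B n))) _ _ fun i => ?_⟩
  dsimp only [Function.comp_apply]
  set π := Ideal.Quotient.mk
    (Ideal.span {(1 : B ⧸ Jn A B n) - Ideal.Quotient.mk (Jn A B n) (e i)}) with hπ
  let σ' := Ideal.Quotient.lift (Ideal.span {1 - e i}) (π.comp (Ideal.Quotient.mk (Jn A B n)))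
    (fun a ha => by
      obtain ⟨c, rfl⟩ := Ideal.mem_span_singleton'.mp ha
      rw [RingHom.comp_apply, map_mul (Ideal.Quotient.mk (Jn A B n)), map_mul π, map_sub, map_one,
        Ideal.Quotient.eq_zero_iff_mem.mpr (Ideal.mem_span_singleton_self _), mul_zero])
  let σ := Ideal.Quotient.lift ((JQ A B (Ideal.span {1 - e i})) ^ n) σ' (fun a ha => by
    rw [JQ, ← Ideal.map_pow] at ha
    refine (Ideal.map_le_iff_le_comap.mpr fun r hr => ?_ : _ ≤ RingHom.ker σ') ha
    show σ' (Ideal.Quotient.mk _ (algebraMap A B r)) = 0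
    rw [Ideal.Quotient.lift_mk, RingHom.comp_apply,
      Ideal.Quotient.eq_zero_iff_mem.mpr (Ideal.mem_map_of_mem _ hr), map_zero])
  have hσ : π = σ.comp (rho A B (Ideal.span {1 - e i}) n) :=
    Ideal.Quotient.ringHom_ext (RingHom.ext fun x => rfl)
  calc sp π ≫ sp (Ideal.Quotient.mk (Jn A B n)) ≫ f
      = sp σ ≫ sp (rho A B (Ideal.span {1 - e i}) n) ≫ sp (Ideal.Quotient.mk (Jn A B n)) ≫ f := by
        rw [hσ, sp_comp_assoc]
    _ = sp σ ≫ sp ((Ideal.Quotient.mk ((JQ A B (Ideal.span {1 - e i})) ^ n)).comp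
          (Ideal.Quotient.mk (Ideal.span {1 - e i}))) ≫ f := by
        rw [← rho_comp, sp_comp_assoc]
    _ = sp σ ≫ sp (rho A B (Ideal.span {1 - e i}) n) ≫ u n := by
        rw [sp_comp_assoc, hf i, hfi i n]
    _ = sp π ≫ u n := by rw [hσ, sp_comp_assoc]


/-- Let A be a complete Noetherian local ring with maximal ideal m, S = Spec A, Sₙ = Spec(A/mⁿ), X =
Spec B a scheme finite over S (B a finite A-algebra) and Y an S-scheme. Then the canonical map
Hom_S(X, Y) → lim Hom_{Sₙ}(Xₙ, Yₙ), Xₙ = Spec(B/mⁿB), is bijective: two S-morphisms X → Y agreeing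
on every Xₙ are equal, and every family of S-morphisms Xₙ → Y compatible with the closed immersions
Xₙ → Xₙ₊₁ comes from an S-morphism X → Y. -/
theorem result (A : Type u) [CommRing A] [IsLocalRing A]
    [IsNoetherianRing A] [IsAdicComplete (IsLocalRing.maximalIdeal A) A] (B : Type u) [CommRing B] [Algebra A B]
    [Module.Finite A B] (Y : Over (Spec (CommRingCat.of A))) :
    (∀ f g : Spec (CommRingCat.of B) ⟶ Y.left, f ≫ Y.hom = Spec.map (CommRingCat.ofHom (algebraMap A B)) →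
      g ≫ Y.hom = Spec.map (CommRingCat.ofHom (algebraMap A B)) →
      (∀ n : ℕ, Spec.map (CommRingCat.ofHom (Ideal.Quotient.mk (Ideal.map (algebraMap A B) ((IsLocalRing.maximalIdeal A) ^ n)))) ≫ f =
        Spec.map (CommRingCat.ofHom (Ideal.Quotient.mk (Ideal.map (algebraMap A B) ((IsLocalRing.maximalIdeal A) ^ n)))) ≫ g) → f = g) ∧
    (∀ u : (n : ℕ) → (Spec (CommRingCat.of (B ⧸ (Ideal.map (algebraMap A B) ((IsLocalRing.maximalIdeal A) ^ n)))) ⟶ Y.left),
      (∀ n : ℕ, u n ≫ Y.hom =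
        Spec.map (CommRingCat.ofHom ((Ideal.Quotient.mk (Ideal.map (algebraMap A B) ((IsLocalRing.maximalIdeal A) ^ n))).comp (algebraMap A B)))) →
      (∀ n : ℕ, Spec.map (CommRingCat.ofHom (Ideal.Quotient.factor
          (Ideal.map_mono (Ideal.pow_le_pow_right (I := (IsLocalRing.maximalIdeal A)) (Nat.le_succ n))))) ≫ u (n + 1) = u n) →
      ∃ f : Spec (CommRingCat.of B) ⟶ Y.left, f ≫ Y.hom = Spec.map (CommRingCat.ofHom (algebraMap A B)) ∧
        ∀ n : ℕ, Spec.map (CommRingCat.ofHom (Ideal.Quotient.mk (Ideal.map (algebraMap A B) ((IsLocalRing.maximalIdeal A) ^ n)))) ≫ f = u n) := by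
  refine ⟨fun f g _ _ h => unique A B f g h, fun u hu hcomp => ?_⟩
  have hle : ∀ {m n : ℕ} (h : m ≤ n), sp (Ideal.Quotient.factor (S := Jn A B n) (T := Jn A B m)
      (Ideal.map_mono (Ideal.pow_le_pow_right h))) ≫ u n = u m := by
    intro m n h
    induction n, h using Nat.le_induction with
    | base =>
      have : Ideal.Quotient.factor (le_refl (Jn A B m)) = RingHom.id _ :=
        Ideal.Quotient.ringHom_ext (RingHom.ext fun _ => rfl)
      rw [this, sp, CommRingCat.ofHom_id, Spec.map_id, Category.id_comp]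
    | succ k hk ih =>
      rw [← ih, ← hcomp k, ← sp_comp_assoc]
      congr 2
      exact Ideal.Quotient.ringHom_ext (RingHom.ext fun _ => rfl)
  obtain ⟨f, hf⟩ := existence A B u hle
  refine ⟨f, unique A B _ _ fun n => ?_, hf⟩
  rw [← Category.assoc, hf n, hu n]
  exact sp_comp _ _

end Groth.Agent.S8385
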