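import Groth.Statements.S8396
import Groth.Agent.Reductive2.CentralTorsionLift

set_option autoImplicit false
universe u
open CategoryTheory MonoidalCategory CartesianMonoidalCategory MonObj GrpObj AlgebraicGeometry
open SGA3x

namespace Groth.Agent.S8396

theorem surjective_spec_quotient {A : Type u} [CommRing A] (J : Ideal A) (hJ : ∀ x ∈ J, IsNilpotent x) :
    Surjective (Spec.map (CommRingCat.ofHom (Ideal.Quotient.mk J))) := by
  refine ⟨fun z => ?_⟩
  have hle : J ≤ z.asIdeal := fun x hx => by
    obtain ⟨n, hn⟩ := hJ x hx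
    exact z.isPrime.mem_of_pow_mem n (by rw [hn]; exact zero_mem _)
  have hz : z ∈ Set.range (PrimeSpectrum.comap (Ideal.Quotient.mk J)) := by
    rw [range_comap_of_surjective _ _ Ideal.Quotient.mk_surjective, Ideal.mk_ker]
    exact hle
  exact hz

/-- Let A be a ring, J an ideal of A all of whose elements are nilpotent, S = Spec A, S₀ = Spec(A/J), G
an S-group scheme flat and of finite presentation over S, H an S-group scheme of multiplicative
type, smooth and finite over S, and u₀ : H₀ → G₀ a central homomorphism between the restrictions to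
S₀. Then u₀ is the restriction of exactly one homomorphism u : H → G, and u is central. (The
published statement is over an arbitrary base S with S₀ defined by a locally nilpotent ideal; this
row is over an affine base.) -/
theorem result (A : Type u) [CommRing A] (J : Ideal A)
    (hJ : ∀ x ∈ J, IsNilpotent x) (G : Over (Spec (CommRingCat.of A))) [GrpObj G] [Flat G.hom] [QuasiCompact G.hom]
    [QuasiSeparated G.hom] [LocallyOfFinitePresentation G.hom]
    (H : Over (Spec (CommRingCat.of A))) [GrpObj H] [Smooth H.hom] [IsFinite H.hom] (hH : SGA3x.IsMultTypeFT H)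
    (u₀ : Red.bc (Spec.map (CommRingCat.ofHom (Ideal.Quotient.mk J))) H ⟶ Red.bc (Spec.map (CommRingCat.ofHom (Ideal.Quotient.mk J))) G) [IsMonHom u₀]
    (hc₀ : ∀ (X : Over (Spec (CommRingCat.of (A ⧸ J)))) (x : X ⟶ Red.bc (Spec.map (CommRingCat.ofHom (Ideal.Quotient.mk J))) H) (g : X ⟶ Red.bc (Spec.map (CommRingCat.ofHom (Ideal.Quotient.mk J))) G), (x ≫ u₀) * g = g * (x ≫ u₀)) :
    ∃ u : H ⟶ G, IsMonHom u ∧ (Over.pullback (Spec.map (CommRingCat.ofHom (Ideal.Quotient.mk J)))).map u = u₀ ∧
      (∀ (X : Over (Spec (CommRingCat.of A))) (x : X ⟶ H) (g : X ⟶ G), (x ≫ u) * g = g * (x ≫ u)) ∧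
      ∀ u' : H ⟶ G, IsMonHom u' → (Over.pullback (Spec.map (CommRingCat.ofHom (Ideal.Quotient.mk J)))).map u' = u₀ → u' = u := by
  haveI := surjective_spec_quotient J hJ
  haveI : IsClosedImmersion (Spec.map (CommRingCat.ofHom (Ideal.Quotient.mk J))) :=
    IsClosedImmersion.spec_of_surjective _ Ideal.Quotient.mk_surjective
  exact Groth.Reductive2.CentralTorsion.existsUnique_hom _ u₀ hc₀ hH

end Groth.Agent.S8396
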