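import Groth.Statements.S8386
import Groth.Agent.Reductive2.MTLift
import Groth.Agent.S5261
import Groth.Agent.S8396

set_option autoImplicit false
universe u
open CategoryTheory MonoidalCategory CartesianMonoidalCategory MonObj GrpObj AlgebraicGeometry
open SGA3x

namespace Groth.Agent.S8386

open Groth.Reductive Groth.Reductive.FreeDiag Groth.Reductive2

theorem main {S S₀ : Scheme.{u}} (i₀ : S₀ ⟶ S) [IsClosedImmersion i₀] [Surjective i₀] (G : Over S)
    [GrpObj G] [Flat G.hom] [LocallyOfFinitePresentation G.hom]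
    (H₀ : Over S₀) [GrpObj H₀] (j₀ : H₀ ⟶ Red.bc i₀ G) [IsMonHom j₀] [Mono j₀]
    [Smooth H₀.hom] [IsFinite H₀.hom] (hm₀ : SGA3x.IsMultTypeFT H₀)
    (hc₀ : ∀ (X : Over S₀) (x : X ⟶ H₀) (g : X ⟶ Red.bc i₀ G), (x ≫ j₀) * g = g * (x ≫ j₀)) :
    (∃ (H : Over S) (_ : GrpObj H) (j : H ⟶ G), IsMonHom j ∧ Mono j ∧ SGA3x.IsMultTypeFT H ∧
      (∃ e : Red.bc i₀ H ≅ H₀, e.hom ≫ j₀ = (Over.pullback i₀).map j) ∧
      (∀ (X : Over S) (x : X ⟶ H) (g : X ⟶ G), (x ≫ j) * g = g * (x ≫ j)) ∧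
      ∀ (H' : Over S) [GrpObj H'] (j' : H' ⟶ G) [IsMonHom j'] [Mono j'], SGA3x.IsMultTypeFT H' →
        (∃ e' : Red.bc i₀ H' ≅ H₀, e'.hom ≫ j₀ = (Over.pullback i₀).map j') →
        ∃ φ : H' ≅ H, φ.hom ≫ j = j') := by
  haveI : Etale H₀.hom := (Groth.Agent.S4997.result H₀.hom).mpr ⟨inferInstance, inferInstance⟩
  obtain ⟨H, gH, hHe, e, he⟩ := MTLift.exists_grp_lift i₀ H₀
  haveI := he
  haveI : IsFinite (Red.bc i₀ H).hom := by
    haveI : IsIso e.hom.left := inferInstanceAs (IsIso ((Over.forget _).map e.hom))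
    exact (congrArg (fun φ => IsFinite φ) (Over.w e.hom)).mp inferInstance
  haveI : IsFinite H.hom := MTLift.isFinite_of_bc i₀ H
  have hH : SGA3x.IsMultTypeFT H := MTLift.isMultTypeFT_lift i₀ H H₀ hm₀ e
  let u₀ : Red.bc i₀ H ⟶ Red.bc i₀ G := e.hom ≫ j₀
  haveI : IsMonHom u₀ := inferInstanceAs (IsMonHom (e.hom ≫ j₀))
  have hcu : ∀ (X : Over S₀) (x : X ⟶ Red.bc i₀ H) (g : X ⟶ Red.bc i₀ G), (x ≫ u₀) * g = g * (x ≫ u₀) :=
    fun X x g => by
      show (x ≫ e.hom ≫ j₀) * g = g * (x ≫ e.hom ≫ j₀)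
      rw [← Category.assoc]
      exact hc₀ X _ g
  obtain ⟨u, hu, humap, hcen, -⟩ := CentralTorsion.existsUnique_hom i₀ u₀ hcu hH
  haveI := hu
  have hmono : Mono u := by
    have hfib : ∀ s : S, Mono ((Over.pullback (S.fromSpecResidueField s)).map u).left := fun s => by
      obtain ⟨s₀, rfl⟩ := i₀.surjective s
      let r := i₀.residueFieldMap s₀
      haveI : IsIso r := by
        rw [ConcreteCategory.isIso_iff_bijective]
        refine ⟨r.hom.injective, fun z => ?_⟩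
        obtain ⟨t, rfl⟩ := S₀.residue_surjective s₀ z
        obtain ⟨t', rfl⟩ := i₀.stalkMap_surjective s₀ t
        exact ⟨S.residue _ t', congr($(Scheme.residue_residueFieldMap i₀ s₀) t')⟩
      have hd : (CategoryTheory.inv (Spec.map r) ≫ S₀.fromSpecResidueField s₀) ≫ i₀ = S.fromSpecResidueField (i₀ s₀) := by
        rw [Category.assoc, ← i₀.SpecMap_residueFieldMap_fromSpecResidueField s₀, IsIso.inv_hom_id_assoc]
      rw [← hd]
      obtain ⟨t₁, t₂, sq, -⟩ := exists_isPullback_map u i₀ (CategoryTheory.inv (Spec.map r) ≫ S₀.fromSpecResidueField s₀)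
      refine MorphismProperty.of_isPullback (P := MorphismProperty.monomorphisms Scheme) sq ?_
      rw [humap]
      haveI : Mono (e.hom ≫ j₀) := mono_comp _ _
      exact inferInstanceAs (Mono ((Over.forget _).map (e.hom ≫ j₀)))
    haveI := Groth.Agent.S5261.result H G hH (Or.inr inferInstance) u hfib
    exact (Over.forget S).mono_of_mono_map this
  refine ⟨H, gH, u, hu, hmono, hH, ⟨e, humap.symm⟩, hcen, fun H' _ j' hj'h hj'm hH' ⟨e', he'⟩ => ?_⟩
  haveI := hj'h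
  haveI : IsMonHom ((Over.pullback i₀).map j') := inferInstance
  haveI : IsMonHom e'.hom := Groth.AlgGrp1.isMonHom_of_points _ fun Z a b => by
    rw [← cancel_mono j₀, MonObj.mul_comp (a ≫ e'.hom) (b ≫ e'.hom) j₀, Category.assoc, Category.assoc,
      Category.assoc, he', MonObj.mul_comp]
  obtain ⟨hflat', hlfp'⟩ := Groth.Reductive.flat_lfp_of_multTypeFT H' hH'
    Groth.AlgSp2.flat_descendsAlong inferInstance
  haveI : IsIso e'.hom.left := inferInstanceAs (IsIso ((Over.forget _).map e'.hom))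
  haveI : Etale (Red.bc i₀ H').hom := (congrArg (fun φ => Etale φ) (Over.w e'.hom)).mp inferInstance
  haveI : IsFinite (Red.bc i₀ H').hom := (congrArg (fun φ => IsFinite φ) (Over.w e'.hom)).mp inferInstance
  haveI : Etale H'.hom := MTLift.etale_of_bc i₀ H'
  haveI : IsFinite H'.hom := MTLift.isFinite_of_bc i₀ H'
  obtain ⟨φ, hφ, -⟩ := MTLift.existsUnique_map i₀ H H' (e'.hom ≫ e.inv)
  obtain ⟨φ', hφ', -⟩ := MTLift.existsUnique_map i₀ H' H (e.hom ≫ e'.inv)
  beta_reduce at hφ hφ'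
  have e₁ : φ ≫ φ' = 𝟙 _ := (Groth.EtaleBase.pullback_hom_bijective i₀ _ _).1 (by
    show (Over.pullback i₀).map _ = (Over.pullback i₀).map _
    rw [Functor.map_comp, hφ, hφ', CategoryTheory.Functor.map_id, Category.assoc, e.inv_hom_id_assoc,
      e'.hom_inv_id])
  have e₂ : φ' ≫ φ = 𝟙 _ := (Groth.EtaleBase.pullback_hom_bijective i₀ _ _).1 (by
    show (Over.pullback i₀).map _ = (Over.pullback i₀).map _
    rw [Functor.map_comp, hφ, hφ', CategoryTheory.Functor.map_id, Category.assoc, e'.inv_hom_id_assoc,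
      e.hom_inv_id])
  haveI : IsMonHom ((Over.pullback i₀).map φ) := by rw [hφ]; infer_instance
  haveI : IsMonHom φ := MTLift.isMonHom_of_map i₀ φ
  haveI : IsMonHom (e'.hom ≫ j₀) := inferInstance
  have hcu' : ∀ (X : Over S₀) (x : X ⟶ Red.bc i₀ H') (g : X ⟶ Red.bc i₀ G),
      (x ≫ e'.hom ≫ j₀) * g = g * (x ≫ e'.hom ≫ j₀) := fun X x g => by
    rw [← Category.assoc]
    exact hc₀ X _ g
  obtain ⟨w, -, -, -, hw⟩ := CentralTorsion.existsUnique_hom i₀ (e'.hom ≫ j₀) hcu' hH'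
  refine ⟨⟨φ, φ', e₁, e₂⟩, ?_⟩
  show φ ≫ u = j'
  rw [hw (φ ≫ u) inferInstance (by rw [Functor.map_comp, hφ, humap, Category.assoc, e.inv_hom_id_assoc]),
    hw j' inferInstance he'.symm]

/-- Over an affine base: let A be a ring, J an ideal of A all of whose elements are nilpotent, S = Spec
A, S₀ = Spec(A/J), G an S-group scheme flat and of finite presentation over S, and H₀ a subgroup
scheme of G₀ = G ×_S S₀ which is smooth and finite over S₀, of multiplicative type and central in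
G₀. Then there is a subgroup scheme H of G of multiplicative type with H ×_S S₀ = H₀ as subgroups of
G₀; it is unique (any two such are isomorphic over G); and H is central in G. -/
theorem result (A : Type u) [CommRing A] (J : Ideal A)
    (hJ : ∀ x ∈ J, IsNilpotent x) (G : Over (Spec (CommRingCat.of A))) [GrpObj G] [Flat G.hom] [QuasiCompact G.hom]
    [QuasiSeparated G.hom] [LocallyOfFinitePresentation G.hom]
    (H₀ : Over (Spec (CommRingCat.of (A ⧸ J)))) [GrpObj H₀] (j₀ : H₀ ⟶ Red.bc (Spec.map (CommRingCat.ofHom (Ideal.Quotient.mk J))) G) [IsMonHom j₀] [Mono j₀]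
    [Smooth H₀.hom] [IsFinite H₀.hom] (hm₀ : SGA3x.IsMultTypeFT H₀)
    (hc₀ : (∀ (X : Over _) (x : X ⟶ _) (g : X ⟶ Red.bc (Spec.map (CommRingCat.ofHom (Ideal.Quotient.mk J))) G), (x ≫ j₀) * g = g * (x ≫ j₀))) :
    (∃ (H : Over (Spec (CommRingCat.of A))) (_ : GrpObj H) (j : H ⟶ G), IsMonHom j ∧ Mono j ∧ SGA3x.IsMultTypeFT H ∧
      (∃ e : Red.bc (Spec.map (CommRingCat.ofHom (Ideal.Quotient.mk J))) H ≅ H₀, e.hom ≫ j₀ = (Over.pullback (Spec.map (CommRingCat.ofHom (Ideal.Quotient.mk J)))).map j) ∧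
      (∀ (X : Over _) (x : X ⟶ _) (g : X ⟶ G), (x ≫ j) * g = g * (x ≫ j)) ∧
      ∀ (H' : Over (Spec (CommRingCat.of A))) [GrpObj H'] (j' : H' ⟶ G) [IsMonHom j'] [Mono j'], SGA3x.IsMultTypeFT H' →
        (∃ e' : Red.bc (Spec.map (CommRingCat.ofHom (Ideal.Quotient.mk J))) H' ≅ H₀, e'.hom ≫ j₀ = (Over.pullback (Spec.map (CommRingCat.ofHom (Ideal.Quotient.mk J)))).map j') →
        ∃ φ : H' ≅ H, φ.hom ≫ j = j') := by
  haveI := Groth.Agent.S8396.surjective_spec_quotient J hJ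
  haveI : IsClosedImmersion (Spec.map (CommRingCat.ofHom (Ideal.Quotient.mk J))) :=
    IsClosedImmersion.spec_of_surjective _ Ideal.Quotient.mk_surjective
  exact main _ G H₀ j₀ hm₀ hc₀

end Groth.Agent.S8386
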