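import Groth.Statements.S8389
import Groth.Agent.Reductive2.CentralHensel

set_option autoImplicit false
universe u
open CategoryTheory MonoidalCategory CartesianMonoidalCategory MonObj GrpObj AlgebraicGeometry
open SGA3x

namespace Groth.Agent.S8389

/-- Let A be a complete Noetherian local ring with residue field k, S = Spec A, S₀ = Spec k the closed
point, M an S-group scheme of multiplicative type which is smooth and finite over S, G an S-group
scheme flat and of finite type over S, and u₀ : M₀ → G₀ a central homomorphism between the closed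
fibres. Then u₀ is the restriction of exactly one homomorphism u : M → G; and u is central when the
fibres of G are connected. -/
theorem result (A : Type u) [CommRing A]
    [IsLocalRing A] [IsNoetherianRing A] [IsAdicComplete (IsLocalRing.maximalIdeal A) A]
    (M : Over (Spec (CommRingCat.of A))) [GrpObj M] [IsFinite M.hom] [Smooth M.hom] (hM : SGA3x.IsMultTypeFT M)
    (G : Over (Spec (CommRingCat.of A))) [GrpObj G] [Flat G.hom] [QuasiCompact G.hom] [LocallyOfFiniteType G.hom]
    (u₀ : Red.bc (Spec.map (CommRingCat.ofHom (Ideal.Quotient.mk (IsLocalRing.maximalIdeal A)))) M ⟶ Red.bc (Spec.map (CommRingCat.ofHom (Ideal.Quotient.mk (IsLocalRing.maximalIdeal A)))) G) [IsMonHom u₀]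
    (hc₀ : ∀ (X : Over _) (x : X ⟶ Red.bc (Spec.map (CommRingCat.ofHom (Ideal.Quotient.mk (IsLocalRing.maximalIdeal A)))) M) (g : X ⟶ Red.bc (Spec.map (CommRingCat.ofHom (Ideal.Quotient.mk (IsLocalRing.maximalIdeal A)))) G), (x ≫ u₀) * g = g * (x ≫ u₀)) :
    (∃ u : M ⟶ G, IsMonHom u ∧ (Over.pullback (Spec.map (CommRingCat.ofHom (Ideal.Quotient.mk (IsLocalRing.maximalIdeal A))))).map u = u₀ ∧
      ∀ u' : M ⟶ G, IsMonHom u' → (Over.pullback (Spec.map (CommRingCat.ofHom (Ideal.Quotient.mk (IsLocalRing.maximalIdeal A))))).map u' = u₀ → u' = u) ∧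
    ((∀ s : (Spec (CommRingCat.of A)), _root_.IsConnected (G.hom.base ⁻¹' {s})) →
      ∀ u : M ⟶ G, IsMonHom u → (Over.pullback (Spec.map (CommRingCat.ofHom (Ideal.Quotient.mk (IsLocalRing.maximalIdeal A))))).map u = u₀ →
        ∀ (X : Over (Spec (CommRingCat.of A))) (x : X ⟶ M) (g : X ⟶ G), (x ≫ u) * g = g * (x ≫ u)) := by
  let i₀ := Spec.map (CommRingCat.ofHom (Ideal.Quotient.mk (IsLocalRing.maximalIdeal A)))
  haveI : HenselianLocalRing A :=
    haveI : HenselianRing A (IsLocalRing.maximalIdeal A) := inferInstance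
    Groth.Hensel1.henselianLocalRing_of_henselianRing
  haveI : LocallyOfFinitePresentation G.hom := inferInstance
  obtain ⟨n, V, hsV, hV⟩ := Groth.Reductive2.CentralTorsion.exists_good M hM (IsLocalRing.closedPoint A)
  have htop : ∀ s : Spec (CommRingCat.of A), s ∈ V := fun s =>
    (IsLocalRing.specializes_closedPoint (R := A) s).mem_open V.2 hsV
  let w : M ⟶ Over.mk V.ι := Over.homMk (IsOpenImmersion.lift V.ι M.hom (by
    rw [Scheme.Opens.range_ι]; rintro _ ⟨z, rfl⟩; exact htop _)) (IsOpenImmersion.lift_fac _ _ _)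
  have hn : (𝟙 M) ^ n = 1 := hV.pow_eq_one w (𝟙 M)
  have hO : ∀ z, (Groth.Reductive.FreeDiag.qPt i₀ u₀).left.base z ∈
      Groth.Reductive2.CentralTorsion.etLocus G n := fun z => by
    refine Groth.Reductive2.CentralTorsion.mem_etLocus G n _ (fun W a b => ?_) z ?_
    · let n₀ : Over _ := Over.mk (a.left ≫ (Red.bc i₀ M).hom)
      let c : (Over.map i₀).obj n₀ ≅ W := Over.isoMk (Iso.refl _) (by
        show 𝟙 _ ≫ W.hom = (a.left ≫ (Red.bc i₀ M).hom) ≫ i₀
        rw [Category.id_comp, ← Over.w a, Category.assoc]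
        rfl)
      let a₀ : n₀ ⟶ Red.bc i₀ M := Over.homMk a.left rfl
      have ha : c.hom ≫ a = (Over.map i₀).map a₀ := Over.OverMorphism.ext (Category.id_comp _)
      let b₀ : n₀ ⟶ Red.bc i₀ G := (Groth.Reductive.bcPointEquiv i₀ G n₀).symm (c.hom ≫ b)
      have hb : Groth.Reductive.bcPointEquiv i₀ G n₀ b₀ = c.hom ≫ b := MulEquiv.apply_symm_apply _ _
      have h := congrArg (Groth.Reductive.bcPointEquiv i₀ G n₀) (hc₀ n₀ a₀ b₀)
      rw [map_mul, map_mul, hb, Groth.Reductive.bcPointEquiv_comp, ← ha] at h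
      rw [← cancel_epi c.hom, MonObj.comp_mul, MonObj.comp_mul]
      simp only [Category.assoc] at h ⊢
      exact h
    · intro h0
      refine hV.1 _ (htop (((Over.map i₀).obj (Red.bc i₀ M)).hom z))
        ((((Over.map i₀).obj (Red.bc i₀ M)).hom.residueFieldMap z).hom.injective ?_)
      rw [map_natCast, map_zero]
      exact h0
  obtain ⟨u, hu, humap, hun, huO, huniq⟩ :=
    Groth.Reductive2.CentralHensel.existsUnique_hom u₀ hO hn hc₀
  refine ⟨⟨u, hu, humap, huniq⟩, fun hconn u' hu' hu'map => ?_⟩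
  obtain rfl := huniq u' hu' hu'map
  exact Groth.Reductive2.CentralHensel.central_of_connected G M hconn u' hun huO

end Groth.Agent.S8389
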