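import Groth.Statements.S8400
import Groth.Agent.Reductive2.TorusWeightsLie
import Groth.Agent.Reductive2.DescendAlgClosed
import Groth.Agent.Reductive2.HomDual
import Groth.Agent.Reductive.TorusMT
import Groth.Agent.Reductive.MultTypeHom
import Groth.Agent.TorusPts.Affine
import Groth.Agent.GrpschAbsch.NoTorus
import Groth.Agent.Reductive.BaseChangeMT
import Groth.Agent.AlgGrp1.Geom

set_option autoImplicit false
universe u
open CategoryTheory MonoidalCategory CartesianMonoidalCategory MonObj GrpObj AlgebraicGeometry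
open SGA3x

namespace Groth.Agent.S8400

open Groth.Reductive Groth.Reductive.FreeDiag Groth.Agf

/-- Tori over an algebraically closed field are split. -/
theorem exists_split {k : Type u} [Field k] [IsAlgClosed k] (T : Over (Spec (CommRingCat.of k))) [GrpObj T]
    (hT : Red.IsTorus T) :
    ∃ (r : ℕ) (i : Red.DS (Spec (CommRingCat.of k)) (Fin r → ℤ) ≅ T), IsMonHom i.hom := by
  obtain ⟨S', f, -, hf, -, hloc⟩ := id hT
  obtain ⟨s', -⟩ := hf.surj (IsLocalRing.closedPoint k : Spec (CommRingCat.of k))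
  obtain ⟨U, hU, r, ⟨e⟩⟩ := hloc s'
  let L := (U : Scheme.{u}).residueField ⟨s', hU⟩
  let pL : Spec (CommRingCat.of L) ⟶ (U : Scheme.{u}) := (U : Scheme.{u}).fromSpecResidueField ⟨s', hU⟩
  let φ := Spec.preimage (pL ≫ U.ι ≫ f)
  letI : Algebra k L := φ.hom.toAlgebra
  have hstr : Groth.AlgGrp2.str k L = pL ≫ U.ι ≫ f := Spec.map_preimage _
  let e' : Red.DS (U : Scheme.{u}) (Fin r → ℤ) ≅ Red.bc (U.ι ≫ f) T := ((Grp.forget _).mapIso e).symm
  haveI : IsMonHom e'.hom := inferInstanceAs (IsMonHom e.inv.hom.hom)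
  obtain ⟨a, ha⟩ : ∃ a : Red.DS (Spec (CommRingCat.of L)) (Fin r → ℤ) ≅ Red.bc (Groth.AlgGrp2.str k L) T,
      IsMonHom a.hom := hstr ▸ exists_trivialisation_comp T pL (U.ι ≫ f) e'
  haveI := ha
  obtain ⟨b, hb⟩ := Groth.Reductive2.HomDual.exists_bc_ds (S := Spec (CommRingCat.of k))
    (Groth.AlgGrp2.str k L) (Fin r → ℤ)
  haveI := hb
  haveI : IsMonHom (a.symm ≪≫ b).hom := by
    simp only [Iso.trans_hom, Iso.symm_hom]; infer_instance
  haveI : IsMonHom a.symm.hom := inferInstanceAs (IsMonHom a.inv)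
  haveI : IsAffine T.left := Groth.TorusPts.isAffine_of_split (M := Fin r → ℤ) T L
    ⟨Grp.mkIso' a.symm⟩
  haveI : IsAffine (Red.DS (Spec (CommRingCat.of k)) (Fin r → ℤ)).left :=
    haveI : IsAffine (Red.diag (ULift.{u} ℤ) (Fin r → ℤ)).left := isAffine_Spec _
    inferInstanceAs (IsAffine (Limits.pullback _ _))
  obtain ⟨-, hlfp⟩ := Groth.Reductive.flat_lfp_of_multTypeFT T
    (isMultTypeFT_of_isTorus hT) Groth.AlgSp2.flat_descendsAlong inferInstance
  obtain ⟨-, hlfp'⟩ := Groth.Reductive.flat_lfp_of_multTypeFT (Red.DS (Spec (CommRingCat.of k)) (Fin r → ℤ))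
    (isMultTypeFT_DS (Module.Finite.iff_addGroup_fg.mp inferInstance))
    Groth.AlgSp2.flat_descendsAlong inferInstance
  obtain ⟨w⟩ := Groth.Reductive2.nonempty_iso_of_bc (Ω := L) T _ ⟨Grp.mkIso' (a.symm ≪≫ b)⟩
  exact ⟨r, ((Grp.forget _).mapIso w).symm, inferInstanceAs (IsMonHom w.inv.hom.hom)⟩

/-- Let G be a smooth, connected, affine algebraic group over an algebraically closed field k whose
reductive centre is trivial (every central subgroup scheme of multiplicative type is trivial), and
suppose the Lie algebra of G is nilpotent. Then the maximal tori of G are trivial: G contains no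
non-trivial subtorus. (The published statement concludes that G is unipotent, i.e. has a composition
series with quotients isomorphic to 𝔾_a; this row concludes only that G contains no non-trivial
subtorus.) -/
theorem result (k : Type u) [Field k] [IsAlgClosed k]
    (G : Over (Spec (CommRingCat.of k))) [GrpObj G] [Smooth G.hom] [QuasiCompact G.hom] [IsAffine G.left] [ConnectedSpace ↥G.left]
    (hZ : ∀ (Z : Over (Spec (CommRingCat.of k))) [GrpObj Z] (z : Z ⟶ G) [IsMonHom z] [Mono z], SGA3x.IsMultTypeFT Z →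
      (∀ (X : Over (Spec (CommRingCat.of k))) (x : X ⟶ Z) (g : X ⟶ G), (x ≫ z) * g = g * (x ≫ z)) → Red.IsTrivialGrp Z)
    (L : Type u) [LieRing L] [LieAlgebra k L] (m : LieS.Model G k (Spec.map (CommRingCat.ofHom (algebraMap k k))) L) (hL : LieRing.IsNilpotent L) :
    Red.HasNoSubtorus k G := by
  intro T _ j _ _ hT
  let S : Scheme.{u} := Spec (CommRingCat.of k)
  obtain ⟨r, e, he⟩ := exists_split T hT
  rcases Nat.eq_zero_or_pos r with rfl | hr
  · show IsIso T.hom
    haveI := Groth.GrpschAbsch.DS_zero_isIso (U := S)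
    haveI : IsIso e.inv.left := inferInstanceAs (IsIso ((Over.forget _).map e.inv))
    rw [← Over.w e.inv]
    infer_instance
  exfalso
  haveI := he
  -- a one-parameter subgroup
  let ev : (Fin r → ℤ) →+ ℤ := Pi.evalAddMonoidHom (fun _ => ℤ) ⟨0, hr⟩
  haveI hme : Mono (dsHom (T := S) ev).left := mono_dsHom ev fun z => ⟨fun _ => z, rfl⟩
  haveI : Mono (dsHom (T := S) ev) := (Over.forget S).mono_of_mono_map hme
  haveI : IsMonHom (dsHom (T := S) ev) := Groth.AlgGrp1.isMonHom_of_points _ fun Z a b => mul_comp_dsHom ev a b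
  let i : Red.Gm S ⟶ G := dsHom ev ≫ e.hom ≫ j
  haveI : IsMonHom i := inferInstanceAs (IsMonHom (dsHom (T := S) ev ≫ e.hom ≫ j))
  haveI : Mono i := mono_comp _ _
  -- weights
  haveI := Groth.AlgGrp1.isIntegral_of_smooth G
  haveI : IsLocallyNoetherian G.left := Groth.AlgGrp1.isLocallyNoetherian_left G
  haveI : IsNoetherianRing (Fn G) := IsLocallyNoetherian.component_noetherian ⟨⊤, isAffineOpen_top _⟩
  haveI : IsDomain (Fn G) := inferInstanceAs (IsDomain Γ(G.left, ⊤))
  have hP : ∀ n : ℤ, (n : k) ≠ 0 → ∀ f : Fn G, Groth.Reductive2.TorusWeights.P i n f = 0 := fun n hn f =>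
    Groth.Reductive2.TorusWeights.P_eq_zero i
      (fun n hn f hf => Groth.Reductive2.TorusWeightsLie.P_mem_sq i m hL n hn f hf) hn f
  -- the kernel of the characteristic
  obtain ⟨p, hp⟩ := CharP.exists k
  let q : ℤ →+ ZMod p := Int.castAddHom (ZMod p)
  haveI hmq : Mono (dsHom (T := S) q).left := mono_dsHom q ZMod.intCast_surjective
  haveI : Mono (dsHom (T := S) q) := (Over.forget S).mono_of_mono_map hmq
  haveI : IsMonHom (dsHom (T := S) q) := Groth.AlgGrp1.isMonHom_of_points _ fun Z a b => mul_comp_dsHom q a b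
  let Z := Red.DS S (ZMod p)
  let z : Z ⟶ G := dsHom q ≫ i
  haveI : IsMonHom z := inferInstanceAs (IsMonHom (dsHom (T := S) q ≫ i))
  haveI : Mono z := mono_comp _ _
  have hqp : (dsHom (T := S) q) ^ p = 1 := by
    refine dsVal_ext fun x => ?_
    have h1 : ∀ l : ℕ, dsValHom ((dsHom (T := S) q) ^ l) x = dsValHom (dsHom (T := S) q) (x ^ l) := fun l => by
      induction l with
      | zero => rw [pow_zero, pow_zero, dsValHom_one, map_one]; rfl
      | succ l ih =>
        rw [pow_succ, pow_succ, dsValHom_apply, dsVal_mul, ← dsValHom_apply, ← dsValHom_apply, ih, map_mul]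
    rw [← dsValHom_apply, h1, dsValHom_apply, ← Category.id_comp (dsHom q), dsVal_dsHom,
      ← dsValHom_apply, ← dsValHom_apply, dsValHom_one]
    rw [show AddMonoidHom.toMultiplicative q (x ^ p) = 1 from Multiplicative.toAdd.injective
      (by simp [q, AddMonoidHom.coe_toMultiplicative]), map_one]
    rfl
  have hcentre : ∀ (X : Over S) (x : X ⟶ Z) (g : X ⟶ G), (x ≫ z) * g = g * (x ≫ z) := by
    intro X x g
    suffices h : (fst Z G ≫ z) * snd Z G = snd Z G * (fst Z G ≫ z) by
      have := lift x g ≫= h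
      rwa [MonObj.comp_mul, MonObj.comp_mul, ← Category.assoc, lift_fst, lift_snd] at this
    haveI : IsAffine Z.left :=
      haveI : IsAffine (Red.diag (ULift.{u} ℤ) (ZMod p)).left := isAffine_Spec _
      inferInstanceAs (IsAffine (Limits.pullback _ _))
    haveI : IsAffine (Z ⊗ G).left := inferInstanceAs (IsAffine (Limits.pullback Z.hom G.hom))
    haveI : Epi (univ (Z ⊗ G)) := by
      haveI : IsIso (univ (Z ⊗ G)).left := by
        show IsIso (Spec.map (CommRingCat.ofHom (AlgHom.id k (Fn (Z ⊗ G))).toRingHom) ≫ _)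
        haveI : IsIso (Spec.map (CommRingCat.ofHom (AlgHom.id k (Fn (Z ⊗ G))).toRingHom)) :=
          inferInstanceAs (IsIso (Spec.map (𝟙 _)))
        infer_instance
      exact (Over.forget S).epi_of_epi_map (inferInstanceAs (Epi (univ (Z ⊗ G)).left))
    rw [← cancel_epi (univ (Z ⊗ G)), MonObj.comp_mul, MonObj.comp_mul]
    let t := univ (Z ⊗ G) ≫ fst Z G ≫ dsHom q
    have ht : t ^ p = 1 := by
      rw [← MonObj.comp_pow, ← MonObj.comp_pow, hqp, MonObj.comp_one, MonObj.comp_one]
    set u := ((isUnit_gmC (k := k)).map (evalPt t)).unit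
    have htu : gmPt u = t := gmPt_evalPt t
    have hu : u ^ p = 1 := by
      let φu : (Fn (Z ⊗ G))ˣ →* (VecGrp.pt k (Fn (Z ⊗ G)) ⟶ Red.Gm S) := MonoidHom.mk' gmPt gmPt_mul
      have hinj : Function.Injective φu := fun a b h => Units.ext (by
        rw [← evalPt_gmPt (k := k) a, ← evalPt_gmPt (k := k) b]
        exact congrArg (fun x => evalPt x gmC) h)
      apply hinj
      rw [map_pow, map_one]
      show gmPt u ^ p = 1
      rw [htu]; exact ht
    have h := Groth.Reductive2.TorusWeights.conjPt_eq i (p := p) hP (univ (Z ⊗ G) ≫ snd Z G) u hu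
    rw [Groth.Reductive2.TorusWeights.conjPt, Groth.Reductive2.TorusWeights.gmHom_apply, htu,
      mul_inv_eq_iff_eq_mul] at h
    simpa [t, z, Category.assoc] using h
  have htriv := hZ Z z (isMultTypeFT_DS (by
    exact (AddGroup.fg_of_surjective (f := q) ZMod.intCast_surjective))) hcentre
  -- contradiction
  haveI : IsIso Z.hom := htriv
  have h1 : 𝟙 Z = 1 := by
    apply Over.OverMorphism.ext
    rw [← cancel_mono Z.hom, Over.w, Over.w]
  let Y : Over S := VecGrp.pt k (MonoidAlgebra k (Multiplicative (ZMod p)))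
  let eB := (AlgEquiv.ofBijective (ptFn (k := k) (MonoidAlgebra k (Multiplicative (ZMod p))))
    ptFn_bijective).symm
  let y : Y ⟶ Z := dsMk Y ((eB : _ →* Fn Y).comp (MonoidAlgebra.of k (Multiplicative (ZMod p))))
  have hy : y = 1 := by rw [← Category.comp_id y, h1, MonObj.comp_one]
  have h2 := congrArg (fun v => dsVal v (Multiplicative.ofAdd (1 : ZMod p))) hy
  dsimp only [y] at h2
  rw [dsVal_dsMk, ← dsValHom_apply, dsValHom_one, MonoidHom.one_apply, MonoidHom.comp_apply] at h2
  have h3 : MonoidAlgebra.of k (Multiplicative (ZMod p)) (Multiplicative.ofAdd 1) = 1 :=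
    eB.injective (h2.trans (map_one eB).symm)
  rw [← map_one (MonoidAlgebra.of k (Multiplicative (ZMod p)))] at h3
  have h4 := MonoidAlgebra.of_injective h3
  have h5 : (1 : ZMod p) = 0 := h4
  rcases CharP.char_is_prime_or_zero k p with h | rfl
  · haveI : Fact (1 < p) := ⟨h.one_lt⟩
    exact one_ne_zero h5
  · exact one_ne_zero (show (1 : ℤ) = 0 from h5)

end Groth.Agent.S8400
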