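import Groth.Statements.S8401
import Groth.Agent.Reductive2.MaxTorusAlgClosed
import Groth.Agent.Reductive2.DensePointsCentral
import Groth.Agent.Reductive2.DiagInTorus
import Groth.Agent.Reductive2.MultTypeSpec
import Groth.Agent.Reductive2.MultTypeSplit
import Groth.Agent.S3006

set_option autoImplicit false
set_option linter.style.haveILetI false
universe u
open CategoryTheory MonoidalCategory CartesianMonoidalCategory MonObj GrpObj AlgebraicGeometry
open SGA3x

noncomputable section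

namespace Groth.Agent.S8401

variable {k : Type u} [Field k]

/-- Base change along the identity does not change the source of morphisms. -/
def idIso (H : Over (Spec (CommRingCat.of k))) : (Over.map (𝟙 (Spec (CommRingCat.of k)))).obj H ≅ H :=
  Over.isoMk (Iso.refl _) (by simp)

/-- The universal property of the reductive centre, over the base itself. -/
theorem factor_centre {G Z : Over (Spec (CommRingCat.of k))} [GrpObj G] [GrpObj Z] (z : Z ⟶ G)
    (huniv : ∀ (S' : Scheme.{u}) (f : S' ⟶ (Spec (CommRingCat.of k))) (H : Over S') [GrpObj H] (v : H ⟶ Red.bc f G) [IsMonHom v],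
      SGA3x.IsMultTypeFT H →
      (∀ (X : Over S') (x : X ⟶ H) (g : X ⟶ Red.bc f G), (x ≫ v) * g = g * (x ≫ v)) →
      ∃ w : H ⟶ Red.bc f Z, w ≫ (Over.pullback f).map z = v)
    (H : Over (Spec (CommRingCat.of k))) [GrpObj H] (v : H ⟶ G) [IsMonHom v] (hH : SGA3x.IsMultTypeFT H)
    (hv : ∀ (X : Over (Spec (CommRingCat.of k))) (x : X ⟶ H) (g : X ⟶ G), (x ≫ v) * g = g * (x ≫ v)) :
    ∃ w : H ⟶ Z, w ≫ z = v := by
  let f := 𝟙 (Spec (CommRingCat.of k))
  let E := fun (X : Over (Spec (CommRingCat.of k))) (Y : Over (Spec (CommRingCat.of k))) (m : X ⟶ Y) =>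
    (idIso X).hom ≫ m
  have hnat : ∀ {X Y : Over (Spec (CommRingCat.of k))} (m : X ⟶ Y),
      (Over.map f).map m ≫ (idIso Y).hom = (idIso X).hom ≫ m := fun m => by
    ext; simp [idIso, f]
  let v' : H ⟶ Red.bc f G := (Groth.Reductive.bcPointEquiv f G H).symm ((idIso H).hom ≫ v)
  have hv' : ∀ {X : Over (Spec (CommRingCat.of k))} (x : X ⟶ H),
      Groth.Reductive.bcPointEquiv f G X (x ≫ v') = (idIso X).hom ≫ x ≫ v := fun x => by
    rw [Groth.Reductive.bcPointEquiv_comp, MulEquiv.apply_symm_apply, ← Category.assoc, hnat, Category.assoc]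
  have : IsMonHom v' := Groth.AlgGrp1.isMonHom_of_points _ fun W a b => by
    apply (Groth.Reductive.bcPointEquiv f G W).injective
    rw [map_mul, hv', hv', hv', MonObj.mul_comp, MonObj.comp_mul]
  obtain ⟨w, hw⟩ := huniv _ f H v' hH fun X x g => by
    apply (Groth.Reductive.bcPointEquiv f G X).injective
    rw [map_mul, map_mul, hv']
    have h := hv _ ((idIso X).hom ≫ x) (Groth.Reductive.bcPointEquiv f G X g)
    rwa [Category.assoc] at h
  refine ⟨(idIso H).inv ≫ Groth.Reductive.bcPointEquiv f Z H w, ?_⟩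
  have h1 : Groth.Reductive.bcPointEquiv f Z H w ≫ z =
      Groth.Reductive.bcPointEquiv f G H (w ≫ (Over.pullback f).map z) :=
    (Adjunction.homEquiv_naturality_right_symm _ _ _).symm
  rw [Category.assoc, h1, hw, MulEquiv.apply_symm_apply, Iso.inv_hom_id_assoc]

variable [IsAlgClosed k]

/-- A central point lying in a torus factors through the reductive centre. -/
theorem factor_of_central_mem_torus {G Z T : Over (Spec (CommRingCat.of k))} [GrpObj G] [GrpObj Z] [GrpObj T]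
    [IsSeparated G.hom] (z : Z ⟶ G)
    (huniv : ∀ (S' : Scheme.{u}) (f : S' ⟶ (Spec (CommRingCat.of k))) (H : Over S') [GrpObj H] (v : H ⟶ Red.bc f G) [IsMonHom v],
      SGA3x.IsMultTypeFT H →
      (∀ (X : Over S') (x : X ⟶ H) (g : X ⟶ Red.bc f G), (x ≫ v) * g = g * (x ≫ v)) →
      ∃ w : H ⟶ Red.bc f Z, w ≫ (Over.pullback f).map z = v)
    (i : T ⟶ G) [IsMonHom i] (hT : Red.IsTorus T) {X : Over (Spec (CommRingCat.of k))} (t : X ⟶ T)
    (hc : ∀ (W : Over (Spec (CommRingCat.of k))) (s : W ⟶ X) (g : W ⟶ G),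
      (s ≫ t ≫ i) * g = g * (s ≫ t ≫ i)) :
    ∃ x : X ⟶ Z, x ≫ z = t ≫ i := by
  obtain ⟨r, eT, heT⟩ := Groth.AlgGrp1.exists_diag_iso_of_isTorus hT
  haveI := heT
  let N := MonoidAlgebra k (Multiplicative (Fin r → ℤ))
  let iN : CoactBr.sp k N ⟶ G := eT.hom ≫ i
  let Y := CoactBr.sp k N ⊗ G
  obtain ⟨E, c, hcl, hE⟩ := Groth.AlgGrp1.exists_equalizer
    ((fst _ G ≫ iN) * snd (CoactBr.sp k N) G) (snd (CoactBr.sp k N) G * (fst _ G ≫ iN))
  obtain ⟨K, κ, hκ, hK⟩ := Groth.Agf.exists_factorsTimes c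
  let P : ∀ ⦃S : Over (Spec (CommRingCat.of k))⦄, (S ⟶ CoactBr.sp k N) → Prop := fun S a =>
    ∀ (W : Over (Spec (CommRingCat.of k))) (s : W ⟶ S) (g : W ⟶ G), (s ≫ a ≫ iN) * g = g * (s ≫ a ≫ iN)
  have hP : ∀ (S : Over (Spec (CommRingCat.of k))) (a : S ⟶ CoactBr.sp k N),
      (∃ y : S ⟶ K, y ≫ κ = a) ↔ P a := fun S a => by
    refine (hK S a).trans (forall_congr' fun W => forall_congr' fun s => forall_congr' fun g => ?_)
    rw [hE, MonObj.comp_mul, MonObj.comp_mul, lift_fst_assoc, lift_snd, Category.assoc]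
  haveI := hκ
  have : Mono κ := Over.mono_of_mono_left κ
  obtain ⟨_, _⟩ := Groth.Agf.exists_grpObj_of_subgroup κ P hP
    (fun S W s g => by simp [MonObj.comp_one, MonObj.one_comp])
    (fun S a b ha hb W s g => by
      rw [MonObj.mul_comp, MonObj.comp_mul, _root_.mul_assoc, hb W s g, ← _root_.mul_assoc, ha W s g,
        _root_.mul_assoc])
    (fun S a ha W s g => by
      rw [GrpObj.inv_comp, GrpObj.comp_inv, inv_mul_eq_iff_eq_mul, ← _root_.mul_assoc, ha W s g,
        mul_inv_cancel_right])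
  obtain ⟨I, _, hI⟩ := Groth.AlgGrp1.exists_hopfIdeal κ
  have : Algebra.FiniteType k (N ⧸ I) :=
    .of_surjective (Ideal.Quotient.mkₐ k I) Ideal.Quotient.mk_surjective
  let Q := Bialgebra.Quotient.mkBialgHom (R := k) I
  let q : CoactBr.sp k (N ⧸ I) ⟶ CoactBr.sp k N := CoactBr.pt (Q : N →ₐ[k] N ⧸ I)
  have : IsMonHom q := Groth.AlgGrp1.isMonHom_pt_bialg Q
  have : IsClosedImmersion q.left := IsClosedImmersion.spec_of_surjective _ Ideal.Quotient.mk_surjective
  have : Mono q := Over.mono_of_mono_left q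
  have hdiag : SGA3b.IsDiag k N :=
    ⟨Multiplicative (ULift.{u} (Fin r → ℤ)), inferInstance,
      ⟨MonoidAlgebra.domCongrBialgEquiv k k (AddEquiv.toMultiplicative AddEquiv.ulift).symm⟩⟩
  have hMT : SGA3x.IsMultTypeFT (CoactBr.sp k (N ⧸ I)) :=
    Groth.Reductive2.MTSpec.isMultTypeFT (N ⧸ I) (AlgebraicClosure k)
      (Groth.Sga3.MultType.isDiag_baseChange (AlgebraicClosure k) (N ⧸ I)
        (Groth.Sga3.MultType.isDiag_of_surjective Q Ideal.Quotient.mk_surjective hdiag))
  have hqP : P q := (hP _ _).1 ((hI (N ⧸ I) (Q : N →ₐ[k] N ⧸ I)).1 fun a ha =>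
    Ideal.Quotient.eq_zero_iff_mem.2 ha)
  obtain ⟨w, hw⟩ := factor_centre z huniv _ (q ≫ iN) hMT fun W x g => hqP W x g
  obtain ⟨x₀, hx₀⟩ := Groth.AlgGrp1.exists_factor_of_pts q (t ≫ eT.inv) fun R y => by
    obtain ⟨f, hf⟩ := Groth.AlgGrp2.pt_surjective (R := k) (K := (R : Type u)) (B := N) (y ≫ t ≫ eT.inv)
    have hf0 : ∀ a ∈ I, f a = 0 := by
      refine (hI R f).2 ((hP _ _).2 ?_)
      rw [hf]
      intro W s g
      have := hc W (s ≫ y) g
      simpa [iN] using this
    refine ⟨CoactBr.pt (Ideal.Quotient.liftₐ I f hf0), ?_⟩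
    refine Eq.trans (?_ : _ = CoactBr.pt f) hf
    show CoactBr.pt (Ideal.Quotient.liftₐ I f hf0) ≫ CoactBr.pt (Q : N →ₐ[k] N ⧸ I) = _
    rw [← CoactBr.pt_comp]
    rfl
  exact ⟨x₀ ≫ w, by rw [Category.assoc, hw, reassoc_of% hx₀]; simp [iN]⟩

/-- A point lying in every maximal torus is central. -/
theorem central_of_mem_all {G : Over (Spec (CommRingCat.of k))} [GrpObj G] [IsAffine G.left] [Smooth G.hom]
    [ConnectedSpace G.left] {T C : Over (Spec (CommRingCat.of k))} [GrpObj T] [GrpObj C] (i : T ⟶ G)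
    (hT : AGF.IsMaxTorus i) (c : C ⟶ G) (hc : Red.IsCentralizerOf i c)
    {X : Over (Spec (CommRingCat.of k))} (g : X ⟶ G)
    (hg : ∀ h : 𝟙_ (Over (Spec (CommRingCat.of k))) ⟶ G, ∃ t : X ⟶ T, t ≫ AGF.conjBy h i = g)
    (W : Over (Spec (CommRingCat.of k))) (s : W ⟶ X) (w : W ⟶ G) : (s ≫ g) * w = w * (s ≫ g) := by
  obtain ⟨hm, hmono, htor, -⟩ := hT
  obtain ⟨U, hne, hU⟩ := Groth.AlgGrp1.exists_open_conj_centralizer i htor c hc
  obtain ⟨-, hcc⟩ := Groth.AlgGrp1.smooth_centralizer_torus i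
    (Groth.AlgGrp1.isClosedImmersion_of_isTorus i htor) htor c hc
  have : LocallyOfFiniteType C.hom := by rw [← Over.w c]; infer_instance
  have : LocallyOfFiniteType (G ⊗ C).hom :=
    inferInstanceAs (LocallyOfFiniteType (Limits.pullback.fst G.hom C.hom ≫ G.hom))
  obtain ⟨hcm, hcmo, hcp⟩ := hc
  haveI := hm; haveI := hcm
  obtain ⟨A, _, _, _, e, he⟩ := Groth.AlgGrp1.exists_hopf_iso G
  haveI := he
  have : IsIso e.hom.left := inferInstanceAs (IsIso ((Over.forget _).map e.hom))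
  have : IsIntegral G.left := Groth.AlgGrp1.isIntegral_of_smooth G
  have : IsOpenImmersion e.hom.left := IsOpenImmersion.of_isIso _
  have : Nonempty (CoactBr.sp k A).left := ⟨e.inv.left.base (Classical.arbitrary _)⟩
  have : IsIntegral (Spec (CommRingCat.of A)) :=
    (isIntegral_of_isOpenImmersion e.hom.left : IsIntegral (CoactBr.sp k A).left)
  have : IsDomain A := (affine_isIntegral_iff (CommRingCat.of A)).1 this
  obtain ⟨p, hp⟩ := hne
  obtain ⟨p, rfl⟩ := e.hom.left.surjective p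
  obtain ⟨_, ⟨f, rfl⟩, hpf, hfU⟩ := PrimeSpectrum.isTopologicalBasis_basic_opens.exists_subset_of_mem_open
    (show p ∈ e.hom.left ⁻¹' (U : Set G.left) from hp) (U.2.preimage e.hom.left.continuous)
  have hf : f ≠ 0 := fun h => by subst h; exact hpf (Ideal.zero_mem _)
  have key := Groth.Reductive2.DensePts.commute_of_points f hf (g ≫ e.inv) fun x hx => by
    let x₁ : 𝟙_ (Over (Spec (CommRingCat.of k))) ⟶ G := Groth.AlgGrp1.unitSp.hom ≫ CoactBr.pt x ≫ e.hom
    have hx₁ : Groth.AlgGrp1.rpt x₁ ∈ Set.range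
        (fst G C * (snd G C ≫ c) * (fst G C)⁻¹).left.base := by
      refine hU (hfU ?_)
      exact fun hmem => hx (by
        have h2 : x f ∈ IsLocalRing.maximalIdeal k := hmem
        rwa [IsLocalRing.maximalIdeal_eq_bot, Ideal.mem_bot] at h2)
    obtain ⟨v, hv⟩ := Groth.AlgGrp1.exists_rpt_lift _ x₁ hx₁
    let h := v ≫ fst G C
    let y := v ≫ snd G C
    have hxy : x₁ = h * (y ≫ c) * h⁻¹ := by
      rw [← hv, MonObj.comp_mul, MonObj.comp_mul, GrpObj.comp_inv, Category.assoc]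
    obtain ⟨t, ht⟩ := hg h
    have hyt := (hcp X (toUnit X ≫ y ≫ c)).1 ⟨toUnit X ≫ y, by rw [Category.assoc]⟩ X (𝟙 X) t
    rw [Category.id_comp] at hyt
    have hgx : g * (toUnit X ≫ x₁) = (toUnit X ≫ x₁) * g := by
      rw [← ht, hxy, MonObj.comp_mul, MonObj.comp_mul, GrpObj.comp_inv]
      rw [← Category.assoc t, toUnit_unique (t ≫ toUnit T) (toUnit X)]
      have h1 : ∀ {M : Type u} [Group M] {a b d : M}, b * d = d * b →
          (a * d * a⁻¹) * (a * b * a⁻¹) = (a * b * a⁻¹) * (a * d * a⁻¹) := by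
        intro M _ a b d hbd
        simp only [_root_.mul_assoc, inv_mul_cancel_left]
        rw [← _root_.mul_assoc d b, ← hbd, _root_.mul_assoc]
      rw [MonObj.comp_mul (toUnit X) (h * y ≫ c), MonObj.comp_mul (toUnit X) h, GrpObj.comp_inv]; exact h1 hyt
    rw [← cancel_mono e.hom, MonObj.mul_comp, MonObj.mul_comp]
    simpa only [x₁, Category.assoc, Iso.inv_hom_id, Category.comp_id] using hgx
  have := congrArg (· ≫ e.hom) (key W s (w ≫ e.inv))
  simpa [MonObj.mul_comp] using this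

/-- Let G be an affine, smooth, connected algebraic group over an algebraically closed field k, and Z
its reductive centre. Then Z is the scheme-theoretic intersection of the maximal tori of G: a point
of G with values in a k-scheme X factors through Z if and only if it factors through every maximal
torus of G. -/
theorem result (k : Type u) [Field k] [IsAlgClosed k]
    (G : Over (Spec (CommRingCat.of k))) [GrpObj G] [Smooth G.hom] [QuasiCompact G.hom] [IsAffine G.left] [ConnectedSpace ↥G.left]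
    (Z : Over (Spec (CommRingCat.of k))) [GrpObj Z] (z : Z ⟶ G)
    (hZ : (IsMonHom z ∧ Mono z ∧ SGA3x.IsMultTypeFT Z ∧
      (∀ (X : Over (Spec (CommRingCat.of k))) (x : X ⟶ Z) (g : X ⟶ G), (x ≫ z) * g = g * (x ≫ z)) ∧
      ∀ (S' : Scheme.{u}) (f : S' ⟶ (Spec (CommRingCat.of k))) (H : Over S') [GrpObj H] (v : H ⟶ Red.bc f G) [IsMonHom v],
        SGA3x.IsMultTypeFT H →
        (∀ (X : Over S') (x : X ⟶ H) (g : X ⟶ Red.bc f G), (x ≫ v) * g = g * (x ≫ v)) →
        ∃ w : H ⟶ Red.bc f Z, w ≫ (Over.pullback f).map z = v)) (X : Over (Spec (CommRingCat.of k))) (g : X ⟶ G) :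
    (∃ x : X ⟶ Z, x ≫ z = g) ↔
      ∀ (T : Over (Spec (CommRingCat.of k))) [GrpObj T] (i : T ⟶ G), Red.IsMaximalTorus i → ∃ t : X ⟶ T, t ≫ i = g := by
  obtain ⟨hzm, hzmono, hzMT, hzc, huniv⟩ := hZ
  have hsep : IsSeparated G.hom := Groth.AlgGrp1.isSeparated_grpObj G
  constructor
  · rintro ⟨x, rfl⟩ T _ i hi
    have hmax := (Groth.Reductive2.MaxTorus.isMaximalTorus_iff i).1 hi
    obtain ⟨hm, hmono, htor, hmx⟩ := hmax
    haveI := hm; haveI := hmono
    obtain ⟨⟨C, _, c, hc, -, -⟩, -⟩ := Groth.Agent.S3006.result (Spec (CommRingCat.of k)) G T i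
      (Groth.AlgGrp1.isClosedImmersion_of_isTorus i htor) htor
    obtain ⟨hCs, hccl, hCc, hCn⟩ := Groth.AlgGrp1.isNilpotentGrp_centralizer_maxTorus
      ⟨hm, hmono, htor, hmx⟩ hc
    obtain ⟨hcm, hcmo, hcp⟩ := hc
    haveI := hcm; haveI := hcmo
    have : IsAffine C.left := isAffine_of_isAffineHom c.left
    obtain ⟨t, ht⟩ := (hcp T i).2 fun X' a b => by
      rw [← MonObj.mul_comp, ← MonObj.mul_comp, Groth.Reductive2.torus_mul_comm htor a b]
    have : IsMonHom t := Groth.AlgGrp1.isMonHom_of_points _ fun W p q => by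
      rw [← cancel_mono c, Category.assoc, ht, MonObj.mul_comp, MonObj.mul_comp, Category.assoc, ht,
        Category.assoc, ht]
    have : Mono t := by
      have : Mono (t ≫ c) := by rw [ht]; infer_instance
      exact mono_of_mono t c
    have hTC : AGF.IsMaxTorus t := ⟨inferInstance, inferInstance, htor, fun T' _ j _ _ f hT' hf =>
      hmx T' (j ≫ c) f hT' (by rw [← Category.assoc, hf, ht])⟩
    have hcen : ∀ (X : Over (Spec (CommRingCat.of k))) (s : X ⟶ T) (g : X ⟶ C), g * (s ≫ t) = (s ≫ t) * g := by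
      intro X s g
      rw [← cancel_mono c, MonObj.mul_comp, MonObj.mul_comp, Category.assoc, ht]
      have := (hcp X (g ≫ c)).1 ⟨g, rfl⟩ X (𝟙 X) s
      rwa [Category.id_comp] at this
    obtain ⟨z', hz'⟩ := (hcp Z z).2 fun X' a b => hzc X' a (b ≫ i)
    have : IsMonHom z' := Groth.AlgGrp1.isMonHom_of_points _ fun W p q => by
      rw [← cancel_mono c, Category.assoc, hz', MonObj.mul_comp, MonObj.mul_comp, Category.assoc, hz',
        Category.assoc, hz']
    obtain ⟨D, _, _, e, he, hD⟩ := Groth.Reductive2.MTSplit.exists_diag_iso hzMT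
    haveI := he
    obtain ⟨q, hq⟩ := Groth.Reductive2.DiagTorus.exists_factor
      (Groth.Reductive2.DiagTorus.isSolvableGrp_of_nilpotent hCn) t hTC hcen hD (e.hom ≫ z')
    exact ⟨x ≫ e.inv ≫ q, by
      rw [← ht, Category.assoc, Category.assoc, reassoc_of% hq, hz']; simp⟩
  · intro hall
    obtain ⟨B, _, iB, _, _, _, _, hB, -, -⟩ := Groth.AlgGrp1.exists_borel_proper (G := G)
    have : IsClosedImmersion iB.left := hB.2.1
    obtain ⟨T, _, s, hsm, hsc, htor, -, habs⟩ := Groth.AlgGrp1.exists_torus_absorbing_of_borel hB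
    have : IsClosedImmersion (s ≫ iB).left := by rw [Over.comp_left]; infer_instance
    have hT := (Groth.AlgGrp1.isMaxTorus_of_absorbing (s ≫ iB) htor habs).1
    obtain ⟨⟨C, _, c, hc, -, -⟩, -⟩ := Groth.Agent.S3006.result (Spec (CommRingCat.of k)) G T (s ≫ iB)
      inferInstance htor
    have hg : ∀ h : 𝟙_ (Over (Spec (CommRingCat.of k))) ⟶ G, ∃ t : X ⟶ T, t ≫ AGF.conjBy h (s ≫ iB) = g :=
      fun h => hall T _ ((Groth.Reductive2.MaxTorus.isMaximalTorus_iff _).2
        (Groth.AlgGrp1.isMaxTorus_conjBy hT h))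
    have hcen := central_of_mem_all (s ≫ iB) hT c hc g hg
    obtain ⟨t, ht⟩ := hall T (s ≫ iB) ((Groth.Reductive2.MaxTorus.isMaximalTorus_iff _).2 hT)
    obtain ⟨x, hx⟩ := factor_of_central_mem_torus z huniv (s ≫ iB) htor t fun W u w => by
      rw [ht]; exact hcen W u w
    exact ⟨x, hx.trans ht⟩

end Groth.Agent.S8401
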