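import Groth.Statements.S8403
import Groth.Agent.AlgGrp1.CartanDim
import Groth.Agent.AlgSpBasic.DimIntegral

set_option autoImplicit false
universe u
open CategoryTheory MonoidalCategory CartesianMonoidalCategory MonObj GrpObj AlgebraicGeometry
open SGA3x

namespace Groth.Agent.S8403

/-- Let G be an affine smooth algebraic group over a field k, T a torus in G and C its centralizer. Then
the nilpotent rank of G (the dimension of the Cartan subgroups of G over an algebraic closure of k)
is at most dim C. -/
theorem result (k : Type u) [Field k]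
    (G : Over (Spec (CommRingCat.of k))) [GrpObj G] [Smooth G.hom] [QuasiCompact G.hom] [IsAffine G.left]
    (T : Over (Spec (CommRingCat.of k))) [GrpObj T] (j : T ⟶ G) [IsMonHom j] [Mono j] (hT : Red.IsTorus T)
    (C : Over (Spec (CommRingCat.of k))) [GrpObj C] (c : C ⟶ G) (hC : Red.IsCentralizerOf j c)
    (s : ↥(Spec (CommRingCat.of k))) (C' : Over (Spec (CommRingCat.of (AlgebraicClosure ((Spec (CommRingCat.of k)).residueField s))))) [GrpObj C']
    (c' : C' ⟶ Red.geomFibre s G) (hC' : SGA3x.IsCartanOver (AlgebraicClosure ((Spec (CommRingCat.of k)).residueField s)) c') :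
    topologicalKrullDim ↥C'.left ≤ topologicalKrullDim ↥C.left := by
  let φ := Red.geomPt s
  haveI := Groth.AlgGrp1.isAffine_bc φ G
  haveI := Groth.AlgGrp1.smooth_bc φ G
  haveI := Groth.Abvar.isMonHom_map (f := φ) j
  have h := Groth.AlgGrp1.dim_cartan_le (G := Red.geomFibre s G) ((Over.pullback φ).map j)
    (Groth.AlgGrp1.isTorus_bc φ hT) (Groth.AlgGrp1.isCentralizerOf_bc φ hC) hC'
  haveI : IsIntegralHom φ := by
    let π := (Spec (CommRingCat.of k)).fromSpecResidueField s
    haveI : Subsingleton (Spec (CommRingCat.of k) : Scheme.{u}) := inferInstanceAs (Subsingleton (PrimeSpectrum k))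
    haveI : Surjective π := ⟨fun x => ⟨IsLocalRing.closedPoint _, Subsingleton.elim _ _⟩⟩
    haveI : IsClosedImmersion π := .of_isPreimmersion π (isClosed_discrete _)
    haveI : IsIntegralHom (Spec.map (CommRingCat.ofHom (algebraMap ((Spec (CommRingCat.of k)).residueField s)
        (AlgebraicClosure ((Spec (CommRingCat.of k)).residueField s))))) :=
      IsIntegralHom.SpecMap_iff.2 fun x => Algebra.IsIntegral.isIntegral x
    show IsIntegralHom (_ ≫ π)
    infer_instance
  haveI : IsIntegralHom (Limits.pullback.fst C.hom φ) := MorphismProperty.pullback_fst _ _ inferInstance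
  exact h.trans (Groth.AlgSpBasic.topologicalKrullDim_le_of_strictMono (Limits.pullback.fst C.hom φ)
    (Groth.AlgSpBasic.strictMono_of_integral _))

end Groth.Agent.S8403
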