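import Groth.Statements.S8404
import Groth.Agent.Reductive.RedRankEtale
import Groth.Agent.Reductive.NilpCentTorus
import Groth.Agent.Reductive.TorusDescent
-- import your own Groth.Agent.* helpers here

set_option autoImplicit false
universe u
open CategoryTheory MonoidalCategory CartesianMonoidalCategory MonObj GrpObj AlgebraicGeometry
open SGA3x

namespace Groth.Agent.S8404

/-- Let G be an S-group scheme, smooth and affine over S, such that every geometric fibre of G is
connected and nilpotent (its group of points over the algebraic closure is a nilpotent group), and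
such that the reductive rank of G is locally constant. Then G has a unique maximal torus T; T is
central and contains every subtorus of G. -/
theorem result (S : Scheme.{u}) (G : Over S) [GrpObj G]
    [Smooth G.hom] [IsAffineHom G.hom]
    (hconn : ∀ s : S, ConnectedSpace ↥(Red.geomFibre s G).left)
    (hnil : ∀ s : S, Group.IsNilpotent
      (𝟙_ (Over (Spec (CommRingCat.of (AlgebraicClosure (S.residueField s))))) ⟶ Red.geomFibre s G))
    (hr : SGA3x.RedRankLocallyConstant G) :
    ∃ (T : Over S) (_ : GrpObj T) (i : T ⟶ G), Red.IsMaximalTorus i ∧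
      (∀ (X : Over S) (t : X ⟶ T) (g : X ⟶ G), (t ≫ i) * g = g * (t ≫ i)) ∧
      ∀ (R : Over S) [GrpObj R] (j : R ⟶ G) [IsMonHom j] [Mono j], Red.IsTorus R → ∃ f : R ⟶ T, f ≫ i = j := by
  obtain ⟨S', f, hf, hsurj, T', _, i', hi'⟩ :=
    Groth.Reductive.RedRank.hasMaxTorusEtaleLocally_of_redRank hr
  haveI := hf; haveI := hsurj; haveI := hi'.1; haveI := hi'.2.1
  haveI : LocallyQuasiFinite f := Groth.SmoothSlice.locallyQuasiFinite_of_formallyUnramified' f
  haveI : IsAffineHom (Red.bc f G).hom := MorphismProperty.pullback_snd (P := @IsAffineHom) _ _ inferInstance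
  haveI : Smooth (Red.bc f G).hom := MorphismProperty.pullback_snd (P := @Smooth) _ _ inferInstance
  have hu : Groth.Reductive2.SubDescent.UnivT (Red.bc f G) T' i' := fun S'' f' H _ v _ hH => by
    haveI : IsAffineHom (Red.bc f' (Red.bc f G)).hom :=
      MorphismProperty.pullback_snd (P := @IsAffineHom) _ _ inferInstance
    haveI : Smooth (Red.bc f' (Red.bc f G)).hom := MorphismProperty.pullback_snd (P := @Smooth) _ _ inferInstance
    exact Groth.Reductive.RedRank.exists_factor_of_commute _
      (Groth.Reductive.RedRank.isMaximalTorus_bc hi' f') v hH fun X x y => by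
        apply (Groth.Reductive.bcPointEquiv f' (Red.bc f G) X).injective
        rw [map_mul, map_mul, Groth.Reductive.RedRank.bcPointEquiv_map']
        exact (Groth.Reductive.RedRank.central_of_nilpotent_fibres hconn hnil f i' hi' _ _ _).symm
  haveI : Flat f := inferInstance
  obtain ⟨T, _, i, him, himono, hT, huT⟩ := Groth.Reductive2.SubDescent.exists_descendT
    (fun V hV => (Groth.Reductive.FreeDiag.qcCover_singleton_iff f).1 (by
      rw [← Scheme.presieve₀_mem_qcPrecoverage_iff, PreZeroHypercover.presieve₀_singleton.{u} f]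
      exact Groth.Pi1Desc.IsCover.qc) V hV) hi'.2.2.1 hu
  haveI := him; haveI := himono
  have hmax : Red.IsMaximalTorus i := ⟨him, himono, hT, fun s T₁ _ j _ _ g hT₁ hg => by
      obtain ⟨w, hw⟩ := huT _ (Red.geomPt s) T₁ j hT₁
      exact ⟨w, by rw [← cancel_mono ((Over.pullback (Red.geomPt s)).map i), Category.assoc, hw, hg, Category.id_comp],
        by rw [← cancel_mono j, Category.assoc, hg, hw, Category.id_comp]⟩⟩
  have hcent : ∀ (X : Over S) (t : X ⟶ T) (g : X ⟶ G), (t ≫ i) * g = g * (t ≫ i) := fun X t g => by
    have h := Groth.Reductive.RedRank.central_of_nilpotent_fibres hconn hnil (𝟙 S)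
      ((Over.pullback (𝟙 S)).map i) (Groth.Reductive.RedRank.isMaximalTorus_bc hmax (𝟙 S))
      ((Over.pullback (𝟙 S)).obj X) ((Over.pullback (𝟙 S)).map t) ((Over.pullback (𝟙 S)).map g)
    rw [← Functor.map_comp, ← Functor.map_mul, ← Functor.map_mul] at h
    exact (Over.pullback (𝟙 S)).map_injective h
  exact ⟨T, inferInstance, i, hmax, hcent, fun R _ j _ _ hR =>
    Groth.Reductive.RedRank.exists_factor_of_commute i hmax j hR fun X x y => (hcent X y (x ≫ j)).symm⟩
end Groth.Agent.S8404
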