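import Groth.Statements.S8405
import Groth.Agent.AlgGrp1.CentreQuotient
import Groth.Agent.AlgGrp1.QuotTower

set_option autoImplicit false
set_option linter.style.haveILetI false
universe u
open CategoryTheory MonoidalCategory CartesianMonoidalCategory MonObj GrpObj AlgebraicGeometry
open SGA3x

namespace Groth.Agent.S8405

/-- Let G be a connected algebraic group (a group scheme of finite type) over a field k, z : Z → G the
centre of G and q : G → Q a morphism representing the fppf quotient G/Z. Then Q is an affine scheme.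
(The published statement allows any subgroup of finite index in the centre; this row takes Z to be
the centre itself.) -/
theorem result (k : Type u) [Field k]
    (G : Over (Spec (CommRingCat.of k))) [GrpObj G] [QuasiCompact G.hom] [LocallyOfFiniteType G.hom] [ConnectedSpace ↥G.left]
    (Z : Over (Spec (CommRingCat.of k))) [GrpObj Z] (z : Z ⟶ G) (hZ : Red.IsCentre z)
    (Q : Over (Spec (CommRingCat.of k))) (q : G ⟶ Q) (hq : RedSub.IsQuotient z q) : IsAffine Q.left := by
  obtain ⟨Z₀, _, i, him, hic, -, hZ₀, Q₀, _, q₀, hq₀m, hQ₀a, hQ₀l, hQ₀q, hq₀f, hq₀s, hker⟩ :=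
    Groth.AlgGrp1.exists_centre_quotient G
  haveI := hq₀m; haveI := hq₀f; haveI := hq₀s; haveI := hQ₀l
  obtain ⟨hqs, hqf, hql, hpb⟩ := hq
  haveI := hqs; haveI := hqf; haveI := hql
  obtain ⟨hzm, hzmo, hzp⟩ := hZ
  have hcent : ∀ (X : Over (Spec (CommRingCat.of k))) (g : X ⟶ G),
      (∃ y : X ⟶ Z, y ≫ z = g) ↔ ∃ y : X ⟶ Z₀, y ≫ i = g := fun X g => by
    rw [hzp X g, hZ₀ X g]
    simp only [Category.comp_id]
  have hdiff : ∀ (X : Over (Spec (CommRingCat.of k))) (s t : X ⟶ G),
      s ≫ q = t ≫ q ↔ ∃ y : X ⟶ Z, t = s * (y ≫ z) := fun X s t => by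
    constructor
    · intro h
      obtain ⟨w, hw1, hw2⟩ := hpb.exists_lift s t h
      refine ⟨w ≫ snd G Z, ?_⟩
      rw [← hw2, ← hw1, Hom.mul_def, ← lift_whiskerLeft,
        show lift (w ≫ fst G Z) (w ≫ snd G Z) = w by ext <;> simp]
      simp only [Category.assoc]
    · rintro ⟨y, rfl⟩
      have e := congrArg (lift s y ≫ ·) hpb.w
      simp only [← Category.assoc, lift_fst] at e
      rw [e]
      simp [lift_whiskerLeft, ← Hom.mul_def]
  have hdiff₀ : ∀ (X : Over (Spec (CommRingCat.of k))) (s t : X ⟶ G),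
      s ≫ q₀ = t ≫ q₀ ↔ ∃ y : X ⟶ Z, t = s * (y ≫ z) := fun X s t => by
    constructor
    · intro h
      have h1 : (s⁻¹ * t) ≫ q₀ = toUnit X ≫ η[Q₀] := by
        rw [MonObj.mul_comp, GrpObj.inv_comp, h, inv_mul_cancel, Hom.one_def]
      obtain ⟨w, hw, -⟩ := hker.exists_lift _ _ h1
      obtain ⟨y, hy⟩ := (hcent X _).2 ⟨w, hw⟩
      exact ⟨y, by rw [hy, mul_inv_cancel_left]⟩
    · rintro ⟨y, rfl⟩
      obtain ⟨w, hw⟩ := (hcent X _).1 ⟨y, rfl⟩
      have hi : i ≫ q₀ = 1 := by
        rw [hker.w, ← Hom.one_def]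
      rw [← hw, MonObj.mul_comp, Category.assoc, hi, MonObj.comp_one, _root_.mul_one]
  have : LocallyOfFinitePresentation q₀.left := Groth.AlgGrp1.lfp_left q₀
  obtain ⟨d, hd⟩ := Groth.Agf.exists_desc_of_fppf q _ _ (IsPullback.of_hasPullback q q) q₀
    ((hdiff₀ _ _ _).2 ((hdiff _ _ _).1 Limits.pullback.condition))
  obtain ⟨d', hd'⟩ := Groth.Agf.exists_desc_of_fppf q₀ _ _ (IsPullback.of_hasPullback q₀ q₀) q
    ((hdiff _ _ _).2 ((hdiff₀ _ _ _).1 Limits.pullback.condition))
  have := Groth.Agf.epi_of_fppf q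
  have := Groth.Agf.epi_of_fppf q₀
  let φ : Q ≅ Q₀ := ⟨d, d', by rw [← cancel_epi q, ← Category.assoc, hd, hd', Category.comp_id],
    by rw [← cancel_epi q₀, ← Category.assoc, hd', hd, Category.comp_id]⟩
  have : IsIso φ.hom.left := ((Over.forget _).mapIso φ).isIso_hom
  exact IsAffine.of_isIso φ.hom.left

end Groth.Agent.S8405
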