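import Groth.Statements.S8406
import Groth.Agent.AlgGrp1.TorusConjGeneral

set_option autoImplicit false
universe u
open CategoryTheory MonoidalCategory CartesianMonoidalCategory MonObj GrpObj AlgebraicGeometry
open SGA3x

namespace Groth.Agent.S8406

/-- Let G be a smooth connected algebraic group (not necessarily affine) over an algebraically closed
field k. Then any two maximal tori of G are conjugate by an element of G(k). -/
theorem result (k : Type u) [Field k] [IsAlgClosed k]
    (G : Over (Spec (CommRingCat.of k))) [GrpObj G] [Smooth G.hom] [QuasiCompact G.hom] [ConnectedSpace ↥G.left]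
    (T₁ T₂ : Over (Spec (CommRingCat.of k))) [GrpObj T₁] [GrpObj T₂] (i₁ : T₁ ⟶ G) (i₂ : T₂ ⟶ G)
    (h₁ : Red.IsMaximalTorus i₁) (h₂ : Red.IsMaximalTorus i₂) :
    ∃ g : 𝟙_ (Over (Spec (CommRingCat.of k))) ⟶ G, SGA3x.ConjBy i₁ i₂ g := by
  obtain ⟨g, f, hf⟩ := Groth.AlgGrp1.maxTorus_conj_general
    ((Groth.Reductive2.MaxTorus.isMaximalTorus_iff i₁).1 h₁) ((Groth.Reductive2.MaxTorus.isMaximalTorus_iff i₂).1 h₂)
  exact ⟨g, f, hf.symm⟩

end Groth.Agent.S8406
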