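import Groth.Statements.S8408
import Groth.Agent.AlgGrp1.NormalizerCartan

set_option autoImplicit false
universe u
open CategoryTheory MonoidalCategory CartesianMonoidalCategory MonObj GrpObj AlgebraicGeometry
open SGA3x

namespace Groth.Agent.S8408

/-- Let G be a smooth connected algebraic group (not necessarily affine) over an algebraically closed
field k, T a maximal torus of G and C = Centr_G(T) the corresponding Cartan subgroup. Then Norm_G(C)
= Norm_G(T): a subgroup scheme n : N → G represents the normalizer of C if and only if it represents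
the normalizer of T. (The published item c) says more about the Cartan subgroup C; this row states
only its last assertion, the equality of the two normalizers.) -/
theorem result (k : Type u) [Field k] [IsAlgClosed k]
    (G : Over (Spec (CommRingCat.of k))) [GrpObj G] [Smooth G.hom] [QuasiCompact G.hom] [ConnectedSpace ↥G.left]
    (T : Over (Spec (CommRingCat.of k))) [GrpObj T] (i : T ⟶ G) (hT : Red.IsMaximalTorus i)
    (C : Over (Spec (CommRingCat.of k))) [GrpObj C] (c : C ⟶ G) (hC : Red.IsCentralizerOf i c)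
    (N : Over (Spec (CommRingCat.of k))) [GrpObj N] (n : N ⟶ G) :
    Red.IsNormalizerOf c n ↔ Red.IsNormalizerOf i n := by
  have hT' := (Groth.Reductive2.MaxTorus.isMaximalTorus_iff i).1 hT
  have key : ∀ {X : Over (Spec (CommRingCat.of k))} (g : X ⟶ G),
      Groth.AlgGrp1.Normalizes c g ↔ Groth.AlgGrp1.Normalizes i g := fun {X} g =>
    ⟨fun hg => Groth.AlgGrp1.normalizes_torus_of_centralizer hT' hC g hg, fun hg => by
      have hone : ∀ {X : Over (Spec (CommRingCat.of k))} (g : X ⟶ G), Groth.AlgGrp1.Normalizes i g →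
          ∀ (X' : Over (Spec (CommRingCat.of k))) (x : X' ⟶ X) (h : X' ⟶ C),
            ∃ h' : X' ⟶ C, (x ≫ g) * (h ≫ c) * (x ≫ g)⁻¹ = h' ≫ c := by
        intro X g hg X' x h
        obtain ⟨z, hz⟩ := (hC.2.2 X' ((x ≫ g) * (h ≫ c) * (x ≫ g)⁻¹)).2 fun W w s => by
          obtain ⟨-, ⟨s', hs'⟩⟩ := hg W (w ≫ x) s
          have h1 := (hC.2.2 X' (h ≫ c)).1 ⟨h, rfl⟩ W w s'
          simp only [MonObj.comp_mul, GrpObj.comp_inv, ← Category.assoc] at h1 hs' ⊢
          rw [← hs'] at h1
          generalize (w ≫ x) ≫ g = a at h1 ⊢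
          generalize (w ≫ h) ≫ c = b at h1 ⊢
          generalize s ≫ i = u at h1 ⊢
          calc a * b * a⁻¹ * u = a * (b * (a⁻¹ * u * a)) * a⁻¹ := by group
            _ = a * (a⁻¹ * u * a * b) * a⁻¹ := by rw [h1]
            _ = u * (a * b * a⁻¹) := by group
        exact ⟨z, hz.symm⟩
      intro X' x h
      refine ⟨hone g hg X' x h, ?_⟩
      obtain ⟨z, hz⟩ := hone g⁻¹ hg.inv X' x h
      rw [GrpObj.comp_inv, _root_.inv_inv] at hz
      exact ⟨z, hz⟩⟩
  constructor
  · rintro ⟨h1, h2, h3⟩
    exact ⟨h1, h2, fun X g => (h3 X g).trans (key g)⟩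
  · rintro ⟨h1, h2, h3⟩
    exact ⟨h1, h2, fun X g => (h3 X g).trans (key g).symm⟩

end Groth.Agent.S8408
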