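import Groth.Statements.S8410
import Groth.Agent.Reductive.CentreQuot.Basic
import Groth.Agent.Reductive.CentreQuot.Field
import Groth.Agent.Reductive.CentralNhd.Global
import Groth.Agent.GitQuot.FppfSourceScheme
-- import your own Groth.Agent.* helpers here

set_option autoImplicit false
universe u
open CategoryTheory MonoidalCategory CartesianMonoidalCategory MonObj GrpObj AlgebraicGeometry
open SGA3x

namespace Groth.Agent.S8410

/-- Let G be an S-group scheme, smooth and affine over S with connected fibres, Z a reductive centre of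
G (central, of multiplicative type, and universal after every base change for central homomorphisms
from groups of multiplicative type and finite type), and q : G → G′ a homomorphism representing the
quotient G/Z. Then the unit subgroup is a reductive centre of G′: for every S′ → S, every central
homomorphism H → G′ ×_S S′ from an S′-group H of multiplicative type and of finite type is trivial.
(The published item b) first asserts that G/Z is representable; this row takes a representing
homomorphism q as given and states its second assertion.) -/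
theorem result (S : Scheme.{u}) (G : Over S) [GrpObj G]
    [Smooth G.hom] [IsAffineHom G.hom] (hconn : ∀ s : S, _root_.IsConnected (G.hom.base ⁻¹' {s}))
    (Z : Over S) [GrpObj Z] (z : Z ⟶ G) (hZ : (IsMonHom z ∧ Mono z ∧ SGA3x.IsMultTypeFT Z ∧
      (∀ (X : Over S) (x : X ⟶ Z) (g : X ⟶ G), (x ≫ z) * g = g * (x ≫ z)) ∧
      ∀ (S' : Scheme.{u}) (f : S' ⟶ S) (H : Over S') [GrpObj H] (v : H ⟶ Red.bc f G) [IsMonHom v],
        SGA3x.IsMultTypeFT H →
        (∀ (X : Over S') (x : X ⟶ H) (g : X ⟶ Red.bc f G), (x ≫ v) * g = g * (x ≫ v)) →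
        ∃ w : H ⟶ Red.bc f Z, w ≫ (Over.pullback f).map z = v))
    (G' : Over S) [GrpObj G'] (q : G ⟶ G') [IsMonHom q] (hq : RedSub.IsQuotient z q)
    (S' : Scheme.{u}) (f : S' ⟶ S) (H : Over S') [GrpObj H] (v : H ⟶ Red.bc f G') [IsMonHom v]
    (hH : SGA3x.IsMultTypeFT H)
    (hv : ∀ (X : Over S') (x : X ⟶ H) (g : X ⟶ Red.bc f G'), (x ≫ v) * g = g * (x ≫ v)) :
    v = 1 := by
  obtain ⟨hzm, hzmo, hZMT, hzc, huniv⟩ := hZ
  haveI := hzm; haveI := hzmo
  haveI := hq.1; haveI := hq.2.1; haveI := hq.2.2.1
  haveI : IsSeparated G'.hom := Groth.Reductive.CentreQuot.isSeparated_quotient inferInstance hZMT hq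
  haveI : LocallyOfFinitePresentation G'.hom := by
    haveI : LocallyOfFinitePresentation (q.left ≫ G'.hom) := by rw [Over.w q]; infer_instance
    exact Groth.GitQuot.FppfSource.locallyOfFinitePresentation_of_fppf q.left G'.hom
  haveI : IsSeparated (Red.bc f G').hom := MorphismProperty.pullback_snd _ _ inferInstance
  haveI : LocallyOfFinitePresentation (Red.bc f G').hom := MorphismProperty.pullback_snd _ _ inferInstance
  obtain ⟨U, -, hU, hUt⟩ := Groth.Reductive.FreeDiag.exists_clopen_trivLocus' v hH (Or.inr inferInstance)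
  suffices hall : ∀ s : S', s ∈ U by
    have h := hUt H (Over.homMk (IsOpenImmersion.lift U.ι H.hom (by
      rw [Scheme.Opens.range_ι]; exact fun y _ ↦ hall y)) (IsOpenImmersion.lift_fac _ _ _)) (𝟙 H)
    rwa [Category.id_comp] at h
  intro s
  rw [hU, Groth.Reductive.FreeDiag.pullback_map_eq_one_iff]
  let K : Type u := AlgebraicClosure (S'.residueField s)
  let d : Spec (CommRingCat.of K) ⟶ Spec (S'.residueField s) :=
    Spec.map (CommRingCat.ofHom (algebraMap (S'.residueField s) K))
  let g := d ≫ S'.fromSpecResidueField s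
  suffices h : Groth.Reductive.FreeDiag.TrivOn v (Over.mk g) by
    let e : Over.mk g ⟶ Over.mk (S'.fromSpecResidueField s) := Over.homMk d rfl
    haveI : Flat e.left := by
      show Flat (Spec.map _)
      rw [Flat.SpecMap_iff]
      exact RingHom.flat_algebraMap_iff.mpr inferInstance
    haveI : Surjective e.left := ⟨fun y ↦ ⟨IsLocalRing.closedPoint K,
      Subsingleton.elim (α := (Spec (S'.residueField s) : Scheme.{u})) _ _⟩⟩
    exact Groth.Reductive.FreeDiag.TrivOn.descend e h
  rw [← Groth.Reductive.FreeDiag.pullback_map_eq_one_iff]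
  -- over the geometric point
  obtain ⟨j, hj⟩ := Groth.Reductive.FreeDiag.exists_bc_comp_iso G' g f
  haveI := hj
  let v' : Red.bc g H ⟶ Red.bc (g ≫ f) G' := (Over.pullback g).map v ≫ j.hom
  suffices h : v' = 1 by
    rw [← cancel_mono j.hom, MonObj.one_comp]
    exact h
  haveI : IsAffine (Red.bc (g ≫ f) G).left := by
    haveI : IsAffineHom (Red.bc (g ≫ f) G).hom := MorphismProperty.pullback_snd _ _ inferInstance
    exact isAffine_of_isAffineHom (Red.bc (g ≫ f) G).hom
  haveI : ConnectedSpace (Red.bc (g ≫ f) G).left := by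
    refine Groth.Reductive.CentralNhd.connectedSpace_fibre (fun t ↦ ?_) K (g ≫ f)
    haveI := Subtype.connectedSpace (hconn t)
    exact (G.hom.fiberHomeo t).symm.surjective.connectedSpace (G.hom.fiberHomeo t).symm.continuous
  haveI : LocallyOfFiniteType (Red.bc (g ≫ f) G).hom := MorphismProperty.pullback_snd _ _ inferInstance
  haveI : LocallyOfFiniteType (Red.bc (g ≫ f) G').hom := MorphismProperty.pullback_snd _ _ inferInstance
  haveI : Mono ((Over.pullback (g ≫ f)).map z) := inferInstance
  have hbp : IsPullback ((Over.pullback (g ≫ f)).map q).left (Limits.pullback.fst G.hom (g ≫ f))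
      (Limits.pullback.fst G'.hom (g ≫ f)) q.left := by
    have h1 : ((Over.pullback (g ≫ f)).map q).left ≫ Limits.pullback.fst G'.hom (g ≫ f) =
        Limits.pullback.fst G.hom (g ≫ f) ≫ q.left := Limits.pullback.lift_fst _ _ _
    have h2 : ((Over.pullback (g ≫ f)).map q).left ≫ Limits.pullback.snd G'.hom (g ≫ f) =
        Limits.pullback.snd G.hom (g ≫ f) := Limits.pullback.lift_snd _ _ _
    have outer : IsPullback (((Over.pullback (g ≫ f)).map q).left ≫ Limits.pullback.snd G'.hom (g ≫ f))
        (Limits.pullback.fst G.hom (g ≫ f)) (g ≫ f) (q.left ≫ G'.hom) := by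
      rw [h2, Over.w q]
      exact (IsPullback.of_hasPullback G.hom (g ≫ f)).flip
    exact IsPullback.of_right outer h1 (IsPullback.of_hasPullback G'.hom (g ≫ f)).flip
  haveI : Flat ((Over.pullback (g ≫ f)).map q).left := MorphismProperty.of_isPullback hbp.flip ‹Flat q.left›
  haveI : Surjective ((Over.pullback (g ≫ f)).map q).left :=
    MorphismProperty.of_isPullback hbp.flip ‹Surjective q.left›
  refine Groth.Reductive.CentreQuot.eq_one_of_central ((Over.pullback (g ≫ f)).map z)
    (Groth.Reductive.FreeDiag.isMultTypeFT_bc hZMT _) (fun X x y ↦ ?_)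
    (fun P _ w _ hP hw ↦ huniv _ (g ≫ f) P w hP hw) ((Over.pullback (g ≫ f)).map q)
    (Groth.Reductive.CentreQuot.isKernel_bc _ (Groth.Reductive.CentreQuot.isKernel_of_isQuotient hq))
    v' (Groth.Reductive.FreeDiag.isMultTypeFT_bc hH _) fun X x y ↦ ?_
  · apply (Groth.Reductive.bcPointEquiv (g ≫ f) G X).injective
    rw [map_mul, map_mul]
    show Groth.Reductive.FreeDiag.qPt _ (x ≫ _) * _ = _ * Groth.Reductive.FreeDiag.qPt _ (x ≫ _)
    rw [Groth.Reductive.FreeDiag.qPt_map]
    exact hzc _ _ _
  · apply (cancel_mono j.inv).1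
    rw [MonObj.mul_comp, MonObj.mul_comp]
    apply (Groth.Reductive.bcPointEquiv g (Red.bc f G') X).injective
    rw [map_mul, map_mul]
    show Groth.Reductive.FreeDiag.qPt g _ * _ = _ * Groth.Reductive.FreeDiag.qPt g _
    simp only [v', Category.assoc, Iso.hom_inv_id, Category.comp_id]
    rw [Groth.Reductive.FreeDiag.qPt_map]
    exact hv _ _ _

end Groth.Agent.S8410
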