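import Groth.Statements.S8412
import Groth.Agent.AlgGrp1.CartanSubgroup

set_option autoImplicit false
universe u
open CategoryTheory MonoidalCategory CartesianMonoidalCategory MonObj GrpObj AlgebraicGeometry
open SGA3x

namespace Groth.Agent.S8412

/-- Let G be an S-group scheme, smooth and of finite presentation over S with connected fibres, and i :
H → G a monomorphism of S-groups with H smooth over S, such that every geometric fibre H_s̄ is
connected and contains a Cartan subgroup of G_s̄ (has the same reductive and nilpotent ranks). Then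
a subgroup scheme C of H is a Cartan subgroup of H if and only if it is a Cartan subgroup of G. -/
theorem result (S : Scheme.{u}) (G : Over S) [GrpObj G]
    [Smooth G.hom] [QuasiCompact G.hom] [QuasiSeparated G.hom] (hconn : ∀ s : S, _root_.IsConnected (G.hom.base ⁻¹' {s}))
    (H : Over S) [GrpObj H] [Smooth H.hom] (i : H ⟶ G) [IsMonHom i] [Mono i]
    (hHconn : ∀ s : S, ConnectedSpace ↥(Red.geomFibre s H).left)
    (hHC : ∀ s : S, ∃ (C' : Over (Spec (CommRingCat.of (AlgebraicClosure (S.residueField s))))) (_ : GrpObj C')
      (c' : C' ⟶ Red.geomFibre s H), SGA3x.IsCartanOver _ (c' ≫ (Over.pullback (Red.geomPt s)).map i))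
    (C : Over S) [GrpObj C] (c : C ⟶ H) :
    SGA3x.IsCartan c ↔ SGA3x.IsCartan (c ≫ i) := by
  haveI : Mono ((Over.forget S).map i) := inferInstance
  haveI : Mono i.left := ‹Mono ((Over.forget S).map i)›
  haveI : QuasiCompact H.hom := Groth.GrpschSep.quasiCompact_of_connected_fibres
    (fun s => inferInstanceAs (LocallyOfFiniteType (Limits.pullback.snd H.hom (S.fromSpecResidueField s)))) fun s => by
      haveI := hHconn s
      haveI : ConnectedSpace (H.hom ⁻¹' {s} : Set H.left) :=
        isConnected_iff_connectedSpace.1 (Groth.AlgGrp1.isConnected_fibre_of_geomFibre H s)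
      exact (H.hom.fiberHomeo s).symm.surjective.connectedSpace (H.hom.fiberHomeo s).symm.continuous
  have key : ∀ s : S, SGA3x.IsCartanOver _ ((Over.pullback (Red.geomPt s)).map c) ↔
      SGA3x.IsCartanOver _ ((Over.pullback (Red.geomPt s)).map (c ≫ i)) := fun s => by
    obtain ⟨C', _, c', hc'⟩ := hHC s
    rw [Functor.map_comp]
    haveI : Smooth (Red.geomFibre s H).hom := inferInstanceAs (Smooth (Limits.pullback.snd H.hom (Red.geomPt s)))
    haveI : QuasiCompact (Red.geomFibre s H).hom :=
      inferInstanceAs (QuasiCompact (Limits.pullback.snd H.hom (Red.geomPt s)))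
    haveI := hHconn s
    exact Groth.AlgGrp1.isCartanOver_comp_iff _ c' hc' _
  constructor
  · rintro ⟨hm, hmo, hs, hfib⟩
    haveI := hm; haveI := hmo
    exact ⟨inferInstance, inferInstance, hs, fun s => (key s).1 (hfib s)⟩
  · rintro ⟨hm, hmo, hs, hfib⟩
    haveI := hm; haveI := hmo
    haveI : Mono c := mono_of_mono c i
    exact ⟨Groth.AlgGrp1.isMonHom_of_points _ fun W a b => by
      rw [← cancel_mono i, MonObj.mul_comp (a ≫ c), Category.assoc, Category.assoc, Category.assoc, MonObj.mul_comp],
      inferInstance, hs, fun s => (key s).2 (hfib s)⟩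

end Groth.Agent.S8412
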