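import Groth.Statements.S8414
import Groth.Agent.Sga3.InvImageSmooth.Field
import Groth.Agent.Sga3.CommSpread.Adj
import Groth.Agent.AlgGrp1.CartanField
-- import your own Groth.Agent.* helpers here

set_option autoImplicit false
universe u
open CategoryTheory MonoidalCategory CartesianMonoidalCategory MonObj GrpObj AlgebraicGeometry
open CategoryTheory.Limits
open SGA3x

namespace Groth.Agent.S8414

open Groth.Sga3.CommSpread in
theorem key_bc {S : Scheme.{u}} {K : Type u} [Field K] (t : Spec (CommRingCat.of K) ⟶ S) {E H C : Over S}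
    [GrpObj H] (u : E ⟶ H) (c : C ⟶ E)
    (key : ∀ {Z : Over S} (z : Z ⟶ E), z ≫ u = 1 → ∃ d : Z ⟶ C, d ≫ c = z)
    {Z : Over (Spec (CommRingCat.of K))} (z : Z ⟶ Red.bc t E) (hz : z ≫ (Over.pullback t).map u = 1) :
    ∃ d : Z ⟶ Red.bc t C, d ≫ (Over.pullback t).map c = z := by
  obtain ⟨d, hd⟩ := key ((adj t).symm z) ((adjGrp t Z H).injective (by
    rw [map_one, adjGrp_apply, adj_comp, Equiv.apply_symm_apply, hz]))
  exact ⟨adj t d, by rw [← adj_comp, hd, Equiv.apply_symm_apply]⟩

/-- Connected fibres as connected spaces. -/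
theorem connectedSpace_bc_iff {S : Scheme.{u}} (X : Over S) (s : S) :
    ConnectedSpace ↥(Red.bc (S.fromSpecResidueField s) X).left ↔ _root_.IsConnected (X.hom.base ⁻¹' {s}) := by
  rw [isConnected_iff_connectedSpace]
  let h : ↥(Red.bc (S.fromSpecResidueField s) X).left ≃ₜ ↥(X.hom.base ⁻¹' {s}) := X.hom.fiberHomeo s
  exact ⟨fun _ => h.surjective.connectedSpace h.continuous, fun _ => h.symm.surjective.connectedSpace h.symm.continuous⟩

/-- Let G, G′ be S-group schemes flat and of finite presentation over S, u : G → G′ a homomorphism which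
is faithfully flat, and C′ a subgroup scheme of G′ of finite presentation over S whose inverse image
C = u⁻¹(C′) is smooth over S (resp. has connected fibres). Then for every subgroup scheme H′ of G′
of finite presentation over S containing C′ and smooth over S (resp. with connected fibres), the
inverse image u⁻¹(H′) is smooth over S (resp. has connected fibres). -/
theorem result (S : Scheme.{u}) (G G' : Over S) [GrpObj G] [GrpObj G']
    [Flat G.hom] [QuasiCompact G.hom] [QuasiSeparated G.hom] [LocallyOfFinitePresentation G.hom]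
    [Flat G'.hom] [QuasiCompact G'.hom] [QuasiSeparated G'.hom] [LocallyOfFinitePresentation G'.hom]
    (u : G ⟶ G') [IsMonHom u] [Flat u.left] [Surjective u.left]
    (C' : Over S) [GrpObj C'] (c' : C' ⟶ G') [IsMonHom c'] [Mono c']
    [QuasiCompact C'.hom] [QuasiSeparated C'.hom] [LocallyOfFinitePresentation C'.hom]
    (H' : Over S) [GrpObj H'] (h' : H' ⟶ G') [IsMonHom h'] [Mono h']
    [QuasiCompact H'.hom] [QuasiSeparated H'.hom] [LocallyOfFinitePresentation H'.hom]
    (hle : ∃ f : C' ⟶ H', f ≫ h' = c') :
    (Smooth (Limits.pullback c' u).hom → Smooth H'.hom → Smooth (Limits.pullback h' u).hom) ∧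
    ((∀ s : S, _root_.IsConnected ((Limits.pullback c' u).hom.base ⁻¹' {s})) →
      (∀ s : S, _root_.IsConnected (H'.hom.base ⁻¹' {s})) →
      ∀ s : S, _root_.IsConnected ((Limits.pullback h' u).hom.base ⁻¹' {s})) := by
  let E := Limits.pullback h' u
  let e : E ⟶ H' := pullback.fst h' u
  let C := Limits.pullback c' u
  obtain ⟨f, hf⟩ := hle
  let c₀ : C ⟶ E := pullback.lift (pullback.fst c' u ≫ f) (pullback.snd c' u)
    (by rw [Category.assoc, hf]; exact pullback.condition)
  obtain ⟨grp, hmon⟩ := Groth.GrpschAbsch.NeutralSet.exists_grpObj_of_mono G (pullback.snd h' u)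
    ⟨pullback.lift η[H'] η[G] (by rw [IsMonHom.one_hom, IsMonHom.one_hom]), pullback.lift_snd _ _ _⟩
    ⟨pullback.lift ((fst E E ≫ e) * (snd E E ≫ e))
      ((fst E E ≫ pullback.snd h' u) * (snd E E ≫ pullback.snd h' u)) (by
        simp only [MonObj.mul_comp, Category.assoc, e]; rw [pullback.condition]), pullback.lift_snd _ _ _⟩
    ⟨pullback.lift e⁻¹ (pullback.snd h' u)⁻¹ (by
      simp only [GrpObj.inv_comp, e]; rw [pullback.condition]), pullback.lift_snd _ _ _⟩
  letI : GrpObj E := grp
  haveI : IsMonHom (pullback.snd h' u) := hmon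
  haveI : IsMonHom e := Groth.AlgGrp1.isMonHom_of_points e fun T a b => by
    have cond : e ≫ h' = pullback.snd h' u ≫ u := pullback.condition
    rw [← cancel_mono h']
    conv_rhs => rw [MonObj.mul_comp, Category.assoc, Category.assoc, cond]
    rw [Category.assoc, cond, ← Category.assoc, MonObj.mul_comp, MonObj.mul_comp, Category.assoc, Category.assoc]
  have key : ∀ {Z : Over S} (z : Z ⟶ E), z ≫ e = 1 → ∃ d : Z ⟶ C, d ≫ c₀ = z := fun {Z} z hz => by
    refine ⟨pullback.lift 1 (z ≫ pullback.snd h' u) ?_, ?_⟩
    · rw [MonObj.one_comp, Category.assoc, ← pullback.condition, reassoc_of% hz, MonObj.one_comp]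
    · apply pullback.hom_ext
      · simp only [c₀, Category.assoc, pullback.lift_fst, pullback.lift_fst_assoc, MonObj.one_comp]
        rw [show (1 : Z ⟶ C') ≫ f = 1 from by rw [← cancel_mono h', Category.assoc, hf, MonObj.one_comp, MonObj.one_comp]]
        exact hz.symm
      · simp only [c₀, Category.assoc, pullback.lift_snd]
  haveI : LocallyOfFiniteType G'.hom := inferInstance
  haveI : LocallyOfFinitePresentation (u.left ≫ G'.hom) := by rw [Over.w u]; infer_instance
  haveI : LocallyOfFinitePresentation u.left := Groth.SpectralTopology.lfp_of_comp u.left G'.hom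
  have sq := (IsPullback.of_hasPullback h' u).map (Over.forget S)
  haveI : Flat e.left := MorphismProperty.of_isPullback sq.flip ‹Flat u.left›
  haveI : Surjective e.left := MorphismProperty.of_isPullback sq.flip ‹Surjective u.left›
  haveI : LocallyOfFinitePresentation e.left := MorphismProperty.of_isPullback sq.flip ‹LocallyOfFinitePresentation u.left›
  haveI : LocallyOfFinitePresentation E.hom := by rw [← Over.w e]; infer_instance
  refine ⟨fun hC hH => ?_, fun hC hH s => ?_⟩
  · change Smooth C.hom at hC
    show Smooth E.hom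
    haveI : Flat E.hom := by rw [← Over.w e]; infer_instance
    refine Smooth.of_smooth_fiberToSpecResidueField _ fun s => ?_
    let K := AlgebraicClosure (S.residueField s)
    let φ : Spec (CommRingCat.of K) ⟶ Spec (CommRingCat.of (S.residueField s)) :=
      Spec.map (CommRingCat.ofHom (algebraMap (S.residueField s) K))
    let t : Spec (CommRingCat.of K) ⟶ S := φ ≫ S.fromSpecResidueField s
    letI : GrpObj (Red.bc t E) := Red.grpObj_bc t E
    letI : GrpObj (Red.bc t H') := Red.grpObj_bc t H'
    haveI : Smooth (Red.bc t C).hom := MorphismProperty.pullback_snd _ _ hC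
    haveI : Smooth (Red.bc t H').hom := MorphismProperty.pullback_snd _ _ hH
    haveI : LocallyOfFiniteType (Red.bc t E).hom := inferInstanceAs (LocallyOfFiniteType (pullback.snd E.hom t))
    haveI : IsMonHom ((Over.pullback t).map e : Red.bc t E ⟶ Red.bc t H') := inferInstanceAs (IsMonHom ((Over.pullback t).map e))
    haveI : Flat ((Over.pullback t).map e).left :=
      MorphismProperty.of_isPullback (Groth.GrpschAbsch.FibreFlat.isPullback_map t e) ‹Flat e.left›
    haveI : Surjective ((Over.pullback t).map e).left :=
      MorphismProperty.of_isPullback (Groth.GrpschAbsch.FibreFlat.isPullback_map t e) ‹Surjective e.left›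
    have hsm : Smooth (Red.bc t E).hom :=
      Groth.Sga3.InvImageSmooth.smooth_of_kernel_le ((Over.pullback t).map e) ((Over.pullback t).map c₀)
        (fun z hz => key_bc t e c₀ key z hz)
    have R := IsPullback.of_hasPullback E.hom (S.fromSpecResidueField s)
    let q : (Red.bc t E).left ⟶ pullback E.hom (S.fromSpecResidueField s) := R.lift (pullback.fst E.hom t) (pullback.snd E.hom t ≫ φ)
      (by rw [Category.assoc]; exact pullback.condition)
    have sq' : IsPullback q (Red.bc t E).hom (E.hom.fiberToSpecResidueField s) φ := by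
      refine IsPullback.of_right ?_ (R.lift_snd _ _ _) R
      rw [R.lift_fst]
      exact IsPullback.of_hasPullback _ _
    have hh := Groth.AlgGrp1.fpqc_fieldMap φ
    exact MorphismProperty.of_isPullback_of_descendsAlong (P := @Smooth)
      (Q := @Surjective ⊓ @Flat ⊓ @QuasiCompact) sq'.flip ⟨⟨hh.1.1, hh.1.2⟩, hh.2⟩ hsm
  · let t := S.fromSpecResidueField s
    let K : Type u := S.residueField s
    letI : GrpObj (Red.bc (S := S) t E : Over (Spec (CommRingCat.of K))) := Red.grpObj_bc t E
    letI : GrpObj (Red.bc (S := S) t H' : Over (Spec (CommRingCat.of K))) := Red.grpObj_bc t H'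
    haveI : LocallyOfFiniteType (Red.bc t E).hom := inferInstanceAs (LocallyOfFiniteType (pullback.snd E.hom t))
    haveI : LocallyOfFiniteType (Red.bc t H').hom := inferInstanceAs (LocallyOfFiniteType (pullback.snd H'.hom t))
    haveI : ConnectedSpace ↥(Red.bc t C).left := (connectedSpace_bc_iff C s).2 (hC s)
    haveI : ConnectedSpace ↥(Red.bc t H').left := (connectedSpace_bc_iff H' s).2 (hH s)
    haveI : IsMonHom ((Over.pullback t).map e) := inferInstance
    haveI : Flat ((Over.pullback t).map e).left :=
      MorphismProperty.of_isPullback (Groth.GrpschAbsch.FibreFlat.isPullback_map t e) ‹Flat e.left›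
    haveI : Surjective ((Over.pullback t).map e).left :=
      MorphismProperty.of_isPullback (Groth.GrpschAbsch.FibreFlat.isPullback_map t e) ‹Surjective e.left›
    exact (connectedSpace_bc_iff E s).1 (Groth.Sga3.InvImageSmooth.connectedSpace_of_kernel_le (k := K)
      ((Over.pullback t).map e) ((Over.pullback t).map c₀) (fun z hz => key_bc (K := K) t e c₀ key z hz))

end Groth.Agent.S8414
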