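import Groth.Statements.S8421
import Groth.Agent.AlgGrp1.OpenNormalizer

set_option autoImplicit false
universe u
open CategoryTheory MonoidalCategory CartesianMonoidalCategory MonObj GrpObj AlgebraicGeometry
open SGA3x

namespace Groth.Agent.S8421

/-- Let G be an S-group scheme, smooth and of finite presentation over S with connected fibres, and i :
H → G a monomorphism of S-groups with H smooth over S, such that each geometric fibre H_s̄ is
connected and contains a Cartan subgroup of G_s̄. Then Norm_G(H) is represented by a closed subgroup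
scheme N of G of finite presentation over S, the canonical monomorphism H → N is an open immersion
(H = N⁰), and consequently i is an immersion. -/
theorem result (S : Scheme.{u}) (G : Over S) [GrpObj G]
    [Smooth G.hom] [QuasiCompact G.hom] [QuasiSeparated G.hom] (hconn : ∀ s : S, _root_.IsConnected (G.hom.base ⁻¹' {s}))
    (H : Over S) [GrpObj H] [Smooth H.hom] (i : H ⟶ G) [IsMonHom i] [Mono i]
    (hHconn : ∀ s : S, ConnectedSpace ↥(Red.geomFibre s H).left)
    (hHC : ∀ s : S, ∃ (C' : Over (Spec (CommRingCat.of (AlgebraicClosure (S.residueField s))))) (_ : GrpObj C')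
      (c' : C' ⟶ Red.geomFibre s H), SGA3x.IsCartanOver _ (c' ≫ (Over.pullback (Red.geomPt s)).map i)) :
    (∃ (N : Over S) (_ : GrpObj N) (n : N ⟶ G) (f : H ⟶ N), Red.IsNormalizerOf i n ∧ IsClosedImmersion n.left ∧
      QuasiCompact N.hom ∧ LocallyOfFinitePresentation N.hom ∧ f ≫ n = i ∧ IsOpenImmersion f.left) ∧
    IsImmersion i.left := by
  obtain ⟨N, hgN, n, f, hN, hnc, hq, hlfp, hf, hfo⟩ := Groth.AlgGrp1.exists_normalizer_open hconn i hHconn hHC
  refine ⟨⟨N, hgN, n, f, hN, hnc, hq, hlfp, hf, hfo⟩, ?_⟩
  haveI := hnc; haveI := hfo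
  rw [← hf, Over.comp_left]; infer_instance

end Groth.Agent.S8421
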