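import Groth.Statements.S8423
import Groth.Agent.Reductive2.BorelNonAffine

set_option autoImplicit false
universe u
open CategoryTheory MonoidalCategory CartesianMonoidalCategory MonObj GrpObj AlgebraicGeometry
open SGA3x

namespace Groth.Agent.S8423

/-- Let G be a smooth connected algebraic group (not necessarily affine) over an algebraically closed
field k. Then every element of G(k) is contained in a Borel subgroup of G. -/
theorem result (k : Type u) [Field k] [IsAlgClosed k]
    (G : Over (Spec (CommRingCat.of k))) [GrpObj G] [Smooth G.hom] [QuasiCompact G.hom] [ConnectedSpace ↥G.left]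
    (g : 𝟙_ (Over (Spec (CommRingCat.of k))) ⟶ G) :
    ∃ (B : Over (Spec (CommRingCat.of k))) (_ : GrpObj B) (b : B ⟶ G), Red.IsBorelOver k b ∧ ∃ g' : 𝟙_ (Over (Spec (CommRingCat.of k))) ⟶ B, g' ≫ b = g := by
  exact Groth.Reductive2.BorelNonAffine.exists_borel_mem g

end Groth.Agent.S8423
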