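import Groth.Statements.S8424
import Groth.Agent.AlgGrp1.NormalizerCartan

set_option autoImplicit false
universe u
open CategoryTheory MonoidalCategory CartesianMonoidalCategory MonObj GrpObj AlgebraicGeometry
open SGA3x

namespace Groth.Agent.S8424

/-- Let G be a smooth algebraic group (not necessarily affine) over an algebraically closed field k, B a
Borel subgroup of G, C a Cartan subgroup of B and N the normalizer of C in G. Then N ∩ B = C: a
point of G with values in a k-scheme factors through N and through B if and only if it factors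
through C. -/
theorem result (k : Type u) [Field k] [IsAlgClosed k]
    (G : Over (Spec (CommRingCat.of k))) [GrpObj G] [Smooth G.hom] [QuasiCompact G.hom]
    (B : Over (Spec (CommRingCat.of k))) [GrpObj B] (b : B ⟶ G) (hB : Red.IsBorelOver k b)
    (C : Over (Spec (CommRingCat.of k))) [GrpObj C] (c : C ⟶ B) (hC : SGA3x.IsCartanOver k c)
    (N : Over (Spec (CommRingCat.of k))) [GrpObj N] (n : N ⟶ G) (hN : Red.IsNormalizerOf (c ≫ b) n)
    (X : Over (Spec (CommRingCat.of k))) (g : X ⟶ G) :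
    ((∃ x : X ⟶ N, x ≫ n = g) ∧ (∃ y : X ⟶ B, y ≫ b = g)) ↔ ∃ z : X ⟶ C, z ≫ c ≫ b = g := by
  obtain ⟨hmb, hcb, hsb, hnb, hsol, -⟩ := hB
  haveI := hmb; haveI := hcb; haveI := hsb; haveI := hnb
  haveI : Mono b := Over.mono_of_mono_left b
  haveI : QuasiCompact B.hom := by
    haveI : QuasiCompact b.left := inferInstance
    rw [← Over.w b]; infer_instance
  obtain ⟨hmc, hmoc, T, _, i, hT, hCc⟩ := hC
  haveI := hmc; haveI := hmoc
  constructor
  · rintro ⟨⟨x, hx⟩, ⟨y, hy⟩⟩
    have hg : Groth.AlgGrp1.Normalizes (c ≫ b) (y ≫ b) := by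
      rw [hy]; exact (hN.2.2 X g).1 ⟨x, hx⟩
    have hy' : Groth.AlgGrp1.Normalizes c y := fun X' w h => by
      obtain ⟨⟨a, ha⟩, ⟨a', ha'⟩⟩ := hg X' w h
      refine ⟨⟨a, ?_⟩, ⟨a', ?_⟩⟩ <;>
        rw [← cancel_mono b] <;> simp only [MonObj.mul_comp, GrpObj.inv_comp, Category.assoc] <;> assumption
    obtain ⟨z, hz⟩ := Groth.AlgGrp1.le_centralizer_of_normalizes hsol
      ((Groth.Reductive2.MaxTorus.isMaximalTorus_iff i).1 hT) hCc y hy'
    exact ⟨z, by rw [← Category.assoc, hz, hy]⟩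
  · rintro ⟨z, hz⟩
    refine ⟨(hN.2.2 X g).2 ?_, ⟨z ≫ c, by rw [Category.assoc, hz]⟩⟩
    rw [← hz]
    exact Groth.AlgGrp1.normalizes_of_factor (c ≫ b) z

end Groth.Agent.S8424
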