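import Groth.Statements.S8425
import Groth.Agent.AlgGrp1.BorelRelative

set_option autoImplicit false
universe u
open CategoryTheory MonoidalCategory CartesianMonoidalCategory MonObj GrpObj AlgebraicGeometry
open SGA3x

namespace Groth.Agent.S8425

/-- Let G be an S-group scheme, smooth and of finite presentation over S with connected fibres, and b :
B → G a Borel subgroup: a subgroup scheme (a homomorphism which is an immersion), smooth and of
finite presentation over S, every geometric fibre of which is a Borel subgroup of the corresponding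
geometric fibre of G. Then B is its own normalizer, and B is a closed subscheme of G. -/
theorem result (S : Scheme.{u}) (G : Over S) [GrpObj G]
    [Smooth G.hom] [QuasiCompact G.hom] [QuasiSeparated G.hom] (hconn : ∀ s : S, _root_.IsConnected (G.hom.base ⁻¹' {s}))
    (B : Over S) [GrpObj B] (b : B ⟶ G) (hB : (IsMonHom b ∧ IsImmersion b.left ∧ Smooth B.hom ∧ QuasiCompact B.hom ∧
      ∀ s : S, Red.IsBorelOver (AlgebraicClosure (S.residueField s)) ((Over.pullback (Red.geomPt s)).map b))) :
    Red.IsNormalizerOf b b ∧ IsClosedImmersion b.left := by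
  obtain ⟨hm, hi, hs, hq, hgeo⟩ := hB
  haveI := hm; haveI := hi; haveI := hs; haveI := hq
  haveI : Mono b := Over.mono_of_mono_left b
  haveI : QuasiSeparated B.hom := by rw [← Over.w b]; infer_instance
  have hconnB : ∀ s : S, _root_.IsConnected (B.hom.base ⁻¹' {s}) := fun s => by
    haveI : ConnectedSpace ↥(Limits.pullback B.hom (Red.geomPt s)) := (hgeo s).2.2.2.1
    have hr : B.hom.base ⁻¹' {s} = Set.range (Limits.pullback.fst B.hom (Red.geomPt s)).base := by
      rw [Scheme.Pullback.range_fst]
      refine congrArg (B.hom.base ⁻¹' ·) (Set.ext fun y => ⟨fun hy => ⟨IsLocalRing.closedPoint _, ?_⟩, ?_⟩)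
      · rw [Set.mem_singleton_iff] at hy
        rw [hy, Scheme.Hom.comp_apply, Scheme.fromSpecResidueField_apply]
      · rintro ⟨z, rfl⟩
        rw [Set.mem_singleton_iff, Scheme.Hom.comp_apply, Scheme.fromSpecResidueField_apply]
    rw [hr]
    exact isConnected_range (Limits.pullback.fst B.hom (Red.geomPt s)).continuous
  refine Groth.AlgGrp1.isNormalizerOf_self_of_fibres b hconnB fun s => ?_
  have : Smooth (Red.geomFibre s G).hom := inferInstanceAs (Smooth (Limits.pullback.snd G.hom (Red.geomPt s)))
  have : QuasiCompact (Red.geomFibre s G).hom := inferInstanceAs (QuasiCompact (Limits.pullback.snd G.hom (Red.geomPt s)))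
  have := Groth.AlgGrp1.connectedSpace_geomFibre G s (hconn s)
  exact Groth.AlgGrp1.isNormalizerOf_borelOver_general (hgeo s)

end Groth.Agent.S8425
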