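import Groth.Statements.S8434
import Groth.Agent.Reductive2.BorelCentralQuotBase

set_option autoImplicit false
universe u
open CategoryTheory MonoidalCategory CartesianMonoidalCategory MonObj GrpObj AlgebraicGeometry
open SGA3x

namespace Groth.Agent.S8434

/-- Let G, G′ be S-group schemes, smooth and of finite presentation over S with connected fibres, and u
: G → G′ a faithfully flat homomorphism whose kernel is central in G. Then B′ ↦ u⁻¹(B′) sends Borel
subgroups of G′ (subgroup schemes smooth and of finite presentation over S whose geometric fibres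
are Borel subgroups) to Borel subgroups of G, and every Borel subgroup of G arises in this way: if
B′ is a Borel subgroup of G′ and B is an S-group scheme with homomorphisms b : B → G and v : B → B′
making B = G ×_{G′} B′, then B is a Borel subgroup of G; and every Borel subgroup of G is such an
inverse image of some Borel subgroup of G′. (The published statement says that B′ ↦ u⁻¹(B′) is a
bijection; its injectivity, a consequence of faithful flatness of u, is not stated here.) -/
theorem result (S : Scheme.{u}) (G G' : Over S) [GrpObj G] [GrpObj G']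
    [Smooth G.hom] [QuasiCompact G.hom] [QuasiSeparated G.hom] [Smooth G'.hom] [QuasiCompact G'.hom] [QuasiSeparated G'.hom]
    (hconn : ∀ s : S, _root_.IsConnected (G.hom.base ⁻¹' {s})) (hconn' : ∀ s : S, _root_.IsConnected (G'.hom.base ⁻¹' {s}))
    (u : G ⟶ G') [IsMonHom u] [Flat u.left] [Surjective u.left]
    (hker : ∀ (X : Over S) (z : X ⟶ G), z ≫ u = 1 → ∀ (X' : Over S) (x : X' ⟶ X) (g : X' ⟶ G),
      (x ≫ z) * g = g * (x ≫ z)) :
    (∀ (B' : Over S) [GrpObj B'] (b' : B' ⟶ G'), (IsMonHom b' ∧ Mono b' ∧ Smooth B'.hom ∧ QuasiCompact B'.hom ∧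
      ∀ s : S, Red.IsBorelOver (AlgebraicClosure (S.residueField s)) ((Over.pullback (Red.geomPt s)).map b')) →
      ∀ (B : Over S) [GrpObj B] (b : B ⟶ G) [IsMonHom b] (v : B ⟶ B') [IsMonHom v], IsPullback b v u b' → (IsMonHom b ∧ Mono b ∧ Smooth B.hom ∧ QuasiCompact B.hom ∧
      ∀ s : S, Red.IsBorelOver (AlgebraicClosure (S.residueField s)) ((Over.pullback (Red.geomPt s)).map b))) ∧
    (∀ (B : Over S) [GrpObj B] (b : B ⟶ G), (IsMonHom b ∧ Mono b ∧ Smooth B.hom ∧ QuasiCompact B.hom ∧
      ∀ s : S, Red.IsBorelOver (AlgebraicClosure (S.residueField s)) ((Over.pullback (Red.geomPt s)).map b)) →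
      ∃ (B' : Over S) (_ : GrpObj B') (b' : B' ⟶ G') (v : B ⟶ B'), (IsMonHom b' ∧ Mono b' ∧ Smooth B'.hom ∧ QuasiCompact B'.hom ∧
      ∀ s : S, Red.IsBorelOver (AlgebraicClosure (S.residueField s)) ((Over.pullback (Red.geomPt s)).map b')) ∧ IsMonHom v ∧
        IsPullback b v u b') := by
  refine ⟨fun B' _ b' ⟨_, hmo, hs, hq, hgeo⟩ B _ b _ v _ sq => ?_, fun B _ b ⟨hm, hmo, hs, hq, hgeo⟩ => ?_⟩
  · haveI := hmo; haveI := hs; haveI := hq
    exact ⟨inferInstance, Groth.Reductive2.BorelCentralBase.borel_preimage u hconn hconn' hker sq hgeo⟩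
  · haveI := hm; haveI := hmo; haveI := hs; haveI := hq
    exact Groth.Reductive2.BorelCentralBase.borel_image u b hconn hconn' hker hgeo

end Groth.Agent.S8434
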