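import Groth.Statements.S8441


set_option autoImplicit false
universe u v w
open SGA3t2b

namespace Groth.Agent.S8441

/-- Let R be a root system with a system of simple roots a₁, …, aₙ and simple reflections rᵢ, and put θᵢ
= rₙ ⋯ rᵢ₊₁(aᵢ). Then the θᵢ form a basis of the group generated by the roots. Stated for a root
pairing over ℤ (Mathlib) with a base whose support is enumerated by Fin n: the θᵢ are ℤ-linearly
independent and their ℤ-span is the ℤ-span of all roots. -/
theorem result {ι : Type u} {M : Type v} {N : Type w} [AddCommGroup M] [Module ℤ M]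
    [AddCommGroup N] [Module ℤ N] (P : RootPairing ι ℤ M N) (b : P.Base) (n : ℕ) (e : Fin n ≃ ↥b.support) :
    LinearIndependent ℤ (fun i : Fin n =>
      ((List.finRange n).filter (fun j => i < j)).foldl (fun x j => P.reflection (e j : ι) x) (P.root (e i : ι))) ∧
    Submodule.span ℤ (Set.range (fun i : Fin n =>
      ((List.finRange n).filter (fun j => i < j)).foldl (fun x j => P.reflection (e j : ι) x) (P.root (e i : ι)))) =
      Submodule.span ℤ (Set.range P.root) := by
  classical
  obtain rfl : ‹Module ℤ M› = AddCommGroup.toIntModule M := Subsingleton.elim _ _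
  set a : Fin n → M := fun i => P.root (e i : ι) with ha
  set θ : Fin n → M := fun i =>
      ((List.finRange n).filter (fun j => i < j)).foldl (fun x j => P.reflection (e j : ι) x)
        (P.root (e i : ι)) with hθ
  have hfold : ∀ (l : List (Fin n)) (W : Submodule ℤ M) (x : M),
      (∀ j ∈ l, a j ∈ W) → l.foldl (fun x j => P.reflection (e j : ι) x) x - x ∈ W := by
    intro l W
    induction l with
    | nil => intro x _; simp
    | cons j l ih =>
      intro x hl
      have h1 := ih (P.reflection (e j : ι) x) fun i hi => hl i (List.mem_cons_of_mem _ hi)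
      have h2 : P.reflection (e j : ι) x - x ∈ W := by
        rw [P.reflection_apply, sub_sub_cancel_left]
        exact W.neg_mem (W.smul_mem _ (hl j List.mem_cons_self))
      rw [List.foldl_cons]
      simpa using W.add_mem h1 h2
  have htri : ∀ i, θ i - a i ∈ Submodule.span ℤ (a '' {j | i < j}) := by
    intro i
    apply hfold
    intro j hj
    simp only [List.mem_filter, decide_eq_true_eq] at hj
    exact Submodule.subset_span ⟨j, hj.2, rfl⟩
  have hrange : Set.range a = P.root '' ↑b.support := by
    ext x
    constructor
    · rintro ⟨i, rfl⟩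
      exact ⟨_, (e i).2, rfl⟩
    · rintro ⟨i, hi, rfl⟩
      exact ⟨e.symm ⟨i, hi⟩, by simp [ha]⟩
  have hle : Submodule.span ℤ (Set.range θ) ≤ Submodule.span ℤ (Set.range a) := by
    rw [Submodule.span_le]
    rintro _ ⟨i, rfl⟩
    have h1 := Submodule.span_mono (Set.image_subset_range a _) (htri i)
    simpa using (Submodule.span ℤ (Set.range a)).add_mem h1 (Submodule.subset_span ⟨i, rfl⟩)
  have hge : ∀ m : ℕ, ∀ i : Fin n, n ≤ (i : ℕ) + m → a i ∈ Submodule.span ℤ (Set.range θ) := by
    intro m
    induction m with
    | zero => intro i hi; have := i.isLt; omega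
    | succ m ih =>
      intro i hi
      have h1 : Submodule.span ℤ (a '' {j | i < j}) ≤ Submodule.span ℤ (Set.range θ) := by
        rw [Submodule.span_le]
        rintro _ ⟨j, hj, rfl⟩
        refine ih j ?_
        have : (i : ℕ) < (j : ℕ) := hj
        omega
      simpa using (Submodule.span ℤ (Set.range θ)).sub_mem
        (Submodule.subset_span ⟨i, rfl⟩) (h1 (htri i))
  have hspan : Submodule.span ℤ (Set.range θ) = Submodule.span ℤ (Set.range a) := by
    refine le_antisymm hle (Submodule.span_le.mpr ?_)
    rintro _ ⟨i, rfl⟩
    exact hge n i (by omega)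
  have hind : LinearIndependent ℤ a := b.linearIndepOn_root.linearIndependent.comp e e.injective
  refine ⟨?_, ?_⟩
  · let B := Module.Basis.span hind
    have hmem : ∀ i, θ i ∈ Submodule.span ℤ (Set.range a) := fun i =>
      hspan ▸ Submodule.subset_span ⟨i, rfl⟩
    let f : Submodule.span ℤ (Set.range a) →ₗ[ℤ] Submodule.span ℤ (Set.range a) :=
      B.constr ℤ fun i => ⟨θ i, hmem i⟩
    have hf : Function.Surjective f := by
      rintro ⟨x, hx⟩
      have h1 : x ∈ Submodule.map (Submodule.span ℤ (Set.range a)).subtype (LinearMap.range f) := by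
        rw [← hspan] at hx
        refine (Submodule.span_le.mpr ?_) hx
        rintro _ ⟨i, rfl⟩
        refine ⟨⟨θ i, hmem i⟩, ⟨B i, ?_⟩, rfl⟩
        simp [f]
      obtain ⟨y, ⟨z, hz⟩, hy⟩ := h1
      exact ⟨z, Subtype.ext (by rw [hz]; exact hy)⟩
    have : Module.Finite ℤ (Submodule.span ℤ (Set.range a)) := Module.Finite.of_basis B
    have hf' := OrzechProperty.injective_of_surjective_endomorphism f hf
    have h2 : LinearIndependent ℤ (f ∘ B) :=
      B.linearIndependent.map' f (LinearMap.ker_eq_bot.mpr hf')
    have h3 : f ∘ B = fun i => (⟨θ i, hmem i⟩ : Submodule.span ℤ (Set.range a)) := by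
      funext i
      exact B.constr_basis ℤ _ i
    rw [h3] at h2
    exact h2.map' (Submodule.span ℤ (Set.range a)).subtype (Submodule.ker_subtype _)
  · rw [hspan, hrange]
    exact b.span_int_root_support

end Groth.Agent.S8441
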