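import Groth.Statements.S8445
import Groth.Agent.Reductive2.RankOneWeight

set_option autoImplicit false
universe u
open CategoryTheory MonoidalCategory CartesianMonoidalCategory MonObj GrpObj AlgebraicGeometry CategoryTheory.Limits
open Red

namespace Groth.Agent.S8445

/-- Let G be an S-group scheme, i : T ⟶ G a torus of G, j : Q ⟶ T a subtorus, α a character of T whose
restriction to Q is non-trivial on every geometric fibre, and p₊, p₋ : 𝔾_a ⟶ G homomorphisms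
normalised by T with multipliers α and α⁻¹ (i(t) p₊(x) i(t)⁻¹ = p₊(α(t) x), i(t) p₋(y) i(t)⁻¹ =
p₋(α(t)⁻¹ y)) such that the morphism 𝔾_a ×_S T ×_S 𝔾_a ⟶ G, (y, t, x) ↦ p₋(y) i(t) p₊(x), is an open
immersion. Let q ≥ 0 and let p : 𝔾_a ⟶ G be a homomorphism such that conjugating p(x) q times by
i(j(t)) gives p(α(t) x), for all points t of Q and x of 𝔾_a. Then there is exactly one S-point ν of
𝔾_a such that p(x) = p₊(ν x^q) for every point x of 𝔾_a with values in any S-scheme. -/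
theorem result (S : Scheme.{u}) (G T : Over S) [GrpObj G] [GrpObj T] (i : T ⟶ G) [IsMonHom i] [Mono i] (hT : Red.IsTorus T)
    (Q : Over S) [GrpObj Q] (j : Q ⟶ T) [IsMonHom j] [Mono j] (hQ : Red.IsTorus Q)
    (α : T ⟶ Red.Gm S) [IsMonHom α] (hα : ∀ s : S, (Over.pullback (Red.geomPt s)).map (j ≫ α) ≠ 1)
    (pp pm : Red.Ga S ⟶ G) [IsMonHom pp] [IsMonHom pm]
    (hpp : ∀ (X : Over S) (t : X ⟶ T) (x : X ⟶ Red.Ga S), ∃ x' : X ⟶ Red.Ga S,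
      x' ≫ pp = (t ≫ i) * (x ≫ pp) * (t ≫ i)⁻¹ ∧ Red.gaFn x' = Red.gmFn (t ≫ α) * Red.gaFn x)
    (hpm : ∀ (X : Over S) (t : X ⟶ T) (y : X ⟶ Red.Ga S), ∃ y' : X ⟶ Red.Ga S,
      y' ≫ pm = (t ≫ i) * (y ≫ pm) * (t ≫ i)⁻¹ ∧ Red.gaFn y' * Red.gmFn (t ≫ α) = Red.gaFn y)
    (hΩ : IsOpenImmersion (((pm ⊗ₘ i) ⊗ₘ pp) ≫ (μ[G] ▷ G) ≫ μ[G]).left) (q : ℕ) (p : Red.Ga S ⟶ G) [IsMonHom p]
    (hp : ∀ (X : Over S) (t : X ⟶ Q) (x x' : X ⟶ Red.Ga S), Red.gaFn x' = Red.gmFn (t ≫ j ≫ α) * Red.gaFn x →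
      x' ≫ p = ((t ≫ j ≫ i) ^ q) * (x ≫ p) * ((t ≫ j ≫ i) ^ q)⁻¹) :
    ∃! ν : 𝟙_ (Over S) ⟶ Red.Ga S, ∀ (X : Over S) (x y : X ⟶ Red.Ga S),
      Red.gaFn y = Red.gaFn (toUnit X ≫ ν) * Red.gaFn x ^ q → x ≫ p = y ≫ pp := by
  obtain ⟨hfl, hsu⟩ := Groth.Reductive2.flat_surjective_char (j ≫ α) hQ hα
  obtain ⟨ν, hν⟩ := Groth.Reductive2.exists_eq_pp_pow hpp hpm hΩ hT p 1 one_ne_zero q fun X v ↦ by
    obtain ⟨X', k, t, hf, hs, -, e⟩ := Groth.Reductive2.exists_torusPt (j ≫ α) v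
    refine ⟨X', k, (t ≫ j) ^ q, hf, hs, ?_, fun x ↦ ?_⟩
    · rw [MonObj.pow_comp (g := α), Groth.Reductive.gmFn_pow, Category.assoc, e, ← map_pow, _root_.one_mul, Units.val_pow_eq_pow_val]
    · have := hp X' t x (Groth.Reductive.gaMk X' (Groth.Reductive2.pull k ↑(v ^ 1) * Red.gaFn x))
        (by simp [e])
      rw [this, MonObj.pow_comp, Category.assoc]
  refine ⟨Groth.Reductive.gaMk _ ν, fun X x y hy ↦ ?_, fun ν' hν' ↦ ?_⟩
  · rw [hν X x]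
    congr 1
    exact Groth.Reductive.gaFn_injective (by simp [hy, Groth.Reductive.gaFn_comp])
  · have e1 := hν' _ (Groth.Reductive.gaMk _ 1) ν' (by simp [toUnit_unique (toUnit (𝟙_ (Over S))) (𝟙 _)])
    rw [hν] at e1
    have e2 := Groth.Reductive2.cell_inj hΩ (y := 1) (y' := 1) (t := 1) (t' := 1)
      (x := Groth.Reductive.gaMk (𝟙_ (Over S)) (Groth.Reductive2.pull (toUnit (𝟙_ (Over S))) ν *
        Red.gaFn (Groth.Reductive.gaMk (𝟙_ (Over S)) 1) ^ q)) (x' := ν') (by rw [e1])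
    rw [← e2.2.2]
    exact Groth.Reductive.gaFn_injective (by simp [toUnit_unique (toUnit (𝟙_ (Over S))) (𝟙 _)])

end Groth.Agent.S8445
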