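import Groth.Statements.S8447
import Groth.Agent.Reductive2.RankOneCentre

-- import your own Groth.Agent.* helpers here

set_option autoImplicit false
universe u
open CategoryTheory MonoidalCategory CartesianMonoidalCategory MonObj GrpObj AlgebraicGeometry CategoryTheory.Limits
open Red

namespace Groth.Agent.S8447

/-- Let G be a reductive S-group, i : T ⟶ G a maximal torus, α a character of T non-trivial on every
geometric fibre, and p₊, p₋ : 𝔾_a ⟶ G monomorphisms of groups normalised by T with multipliers α and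
α⁻¹ such that 𝔾_a ×_S T ×_S 𝔾_a ⟶ G, (y, t, x) ↦ p₋(y) i(t) p₊(x), is an open immersion (a rank-one
system: G has semisimple rank 1 and p₊, p₋ trivialise the root groups of α and -α). Then the centre
of G is Ker α: a point g of G with values in an S-scheme X commutes with all points of G after every
base change X' ⟶ X if and only if g = i(t) for some X-point t of T with α(t) = 1. (In particular the
centre is a closed subgroup of multiplicative type; only the equality of points is stated.) -/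
theorem result (S : Scheme.{u}) (G T : Over S) [GrpObj G] [GrpObj T] (i : T ⟶ G) [IsMonHom i] [Mono i] (hG : Red.IsReductive G) (hTm : Red.IsMaximalTorus i)
    (α : T ⟶ Red.Gm S) [IsMonHom α] (hα : ∀ s : S, (Over.pullback (Red.geomPt s)).map α ≠ 1)
    (pp pm : Red.Ga S ⟶ G) [IsMonHom pp] [Mono pp] [IsMonHom pm] [Mono pm]
    (hpp : ∀ (X : Over S) (t : X ⟶ T) (x : X ⟶ Red.Ga S), ∃ x' : X ⟶ Red.Ga S,
      x' ≫ pp = (t ≫ i) * (x ≫ pp) * (t ≫ i)⁻¹ ∧ Red.gaFn x' = Red.gmFn (t ≫ α) * Red.gaFn x)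
    (hpm : ∀ (X : Over S) (t : X ⟶ T) (y : X ⟶ Red.Ga S), ∃ y' : X ⟶ Red.Ga S,
      y' ≫ pm = (t ≫ i) * (y ≫ pm) * (t ≫ i)⁻¹ ∧ Red.gaFn y' * Red.gmFn (t ≫ α) = Red.gaFn y)
    (hΩ : IsOpenImmersion (((pm ⊗ₘ i) ⊗ₘ pp) ≫ (μ[G] ▷ G) ≫ μ[G]).left) (X : Over S) (g : X ⟶ G) :
    (∀ (X' : Over S) (x : X' ⟶ X) (k : X' ⟶ G), (x ≫ g) * k = k * (x ≫ g)) ↔
      ∃ t : X ⟶ T, t ≫ i = g ∧ t ≫ α = 1 := by
  have hT := hTm.2.2.1
  obtain ⟨hfl, hsu⟩ := Groth.Reductive2.flat_surjective_char α hT hα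
  refine ⟨Groth.Reductive2.exists_torus_of_central hpp hpm hΩ hT hG g, ?_⟩
  rintro ⟨t, rfl, ht⟩ X' x k
  rw [← Category.assoc]
  exact Groth.Reductive2.central_of_torus hpp hpm hΩ hT hG (x ≫ t)
    (by rw [Category.assoc, ht, MonObj.comp_one]) k

end Groth.Agent.S8447
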