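import Groth.Statements.S8448
import Groth.Agent.Reductive.RankOne

set_option autoImplicit false
universe u
open CategoryTheory MonoidalCategory CartesianMonoidalCategory MonObj GrpObj AlgebraicGeometry CategoryTheory.Limits
open Red

namespace Groth.Agent.S8448

/-- Let G be an S-group scheme, i : T ⟶ G a torus of G (a monomorphism of groups), α : T ⟶ 𝔾_m and α^* :
𝔾_m ⟶ T homomorphisms with α ∘ α^* the squaring map, and p₊, p₋ : 𝔾_a ⟶ G homomorphisms normalised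
by T with multipliers α and α⁻¹ which satisfy the rank-one commutation rule: whenever 1 + xy is
invertible, p₊(x) p₋(y) = p₋(y/(1+xy)) · i(α^*(1+xy)) · p₊(x/(1+xy)) (the situation of any reductive
group of semisimple rank 1 with trivialised root groups, where α^* is the coroot). For a point x of
𝔾_a whose coordinate is invertible put w(x) = p₊(x) p₋(-x⁻¹) p₊(x). Then w(x) normalises T: w(x)
i(t) w(x)⁻¹ = i(α^*(α(t)))⁻¹ · i(t) for every point t of T, and for every point z of 𝔾_m one has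
w(zx) = i(α^*(z)) · w(x) = w(x) · i(α^*(z))⁻¹. (The published statement is for a reductive group of
semisimple rank one with a maximal torus and a root; this row assumes only the commutation rule, the
normalisation of p₊, p₋ by T and α ∘ α^* the squaring map, which is all the published proof uses.) -/
theorem result (S : Scheme.{u}) (G T : Over S) [GrpObj G] [GrpObj T] (i : T ⟶ G) [IsMonHom i] [Mono i] (hT : Red.IsTorus T)
    (α : T ⟶ Red.Gm S) [IsMonHom α]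
    (pp pm : Red.Ga S ⟶ G) [IsMonHom pp] [IsMonHom pm]
    (hpp : ∀ (X : Over S) (t : X ⟶ T) (x : X ⟶ Red.Ga S), ∃ x' : X ⟶ Red.Ga S,
      x' ≫ pp = (t ≫ i) * (x ≫ pp) * (t ≫ i)⁻¹ ∧ Red.gaFn x' = Red.gmFn (t ≫ α) * Red.gaFn x)
    (hpm : ∀ (X : Over S) (t : X ⟶ T) (y : X ⟶ Red.Ga S), ∃ y' : X ⟶ Red.Ga S,
      y' ≫ pm = (t ≫ i) * (y ≫ pm) * (t ≫ i)⁻¹ ∧ Red.gaFn y' * Red.gmFn (t ≫ α) = Red.gaFn y)
    (av : Red.Gm S ⟶ T) [IsMonHom av] (h2 : av ≫ α = (𝟙 (Red.Gm S)) ^ 2)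
    (hF : ∀ (X : Over S) (x y : X ⟶ Red.Ga S), IsUnit (1 + Red.gaFn x * Red.gaFn y) →
      ∃ (x' y' : X ⟶ Red.Ga S) (z : X ⟶ Red.Gm S), Red.gmFn z = 1 + Red.gaFn x * Red.gaFn y ∧
        Red.gaFn x' * Red.gmFn z = Red.gaFn x ∧ Red.gaFn y' * Red.gmFn z = Red.gaFn y ∧
        (x ≫ pp) * (y ≫ pm) = (y' ≫ pm) * (z ≫ av ≫ i) * (x' ≫ pp))
    (X : Over S) (x x' : X ⟶ Red.Ga S) (hx : Red.gaFn x' * Red.gaFn x = -1) :
    (∀ t : X ⟶ T, ((x ≫ pp) * (x' ≫ pm) * (x ≫ pp)) * (t ≫ i) * ((x ≫ pp) * (x' ≫ pm) * (x ≫ pp))⁻¹ =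
        (t ≫ α ≫ av ≫ i)⁻¹ * (t ≫ i)) ∧
      ∀ (z : X ⟶ Red.Gm S) (y y' : X ⟶ Red.Ga S), Red.gaFn y = Red.gmFn z * Red.gaFn x →
        Red.gaFn y' * Red.gaFn y = -1 →
        (y ≫ pp) * (y' ≫ pm) * (y ≫ pp) = (z ≫ av ≫ i) * ((x ≫ pp) * (x' ≫ pm) * (x ≫ pp)) ∧
          (y ≫ pp) * (y' ≫ pm) * (y ≫ pp) = ((x ≫ pp) * (x' ≫ pm) * (x ≫ pp)) * (z ≫ av ≫ i)⁻¹ := by
  set 𝒮 := Groth.Reductive.rankOneOfPoints i α pp pm hpp hpm av h2 hF X with h𝒮
  obtain ⟨ux, hux⟩ : IsUnit (Red.gaFn x) := IsUnit.of_mul_eq_one (-Red.gaFn x') (by linear_combination -hx)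
  have hW : ∀ (a a' : X ⟶ Red.Ga S) (v : Γ(X.left, ⊤)ˣ), Red.gaFn a = v →
      Red.gaFn a' * Red.gaFn a = -1 → (a ≫ pp) * (a' ≫ pm) * (a ≫ pp) = 𝒮.w v := by
    intro a a' v hv ha
    have e : Red.gaFn a' = -↑v⁻¹ := by
      rw [hv] at ha
      linear_combination (↑v⁻¹ : Γ(X.left, ⊤)) * ha - Red.gaFn a' * v.mul_inv
    rw [Groth.Reductive.comp_eq_gaMk_comp a, Groth.Reductive.comp_eq_gaMk_comp a', hv, e]
    rfl
  rw [hW x x' ux hux.symm hx]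
  refine ⟨fun t ↦ ?_, fun z y y' hy hy' ↦ ?_⟩
  · refine (𝒮.w_torus t ux).trans ?_
    have : Groth.Reductive.gmMk X (𝒮.a t) = t ≫ α := (Groth.Reductive.eq_gmMk _).symm
    show ((Groth.Reductive.gmMk X (𝒮.a t) ≫ av) ≫ i)⁻¹ * (t ≫ i) = _
    rw [this]; simp only [Category.assoc]
  · obtain ⟨uz, huz⟩ := Groth.Reductive.isUnit_gmFn z
    have hz : z = Groth.Reductive.gmMk X uz := Groth.Reductive.gmFn_injective (by simp [huz])
    rw [hW y y' (uz * ux) (by rw [hy, Units.val_mul, huz, hux]) hy', hz,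
      ← Category.assoc (Groth.Reductive.gmMk X uz)]
    exact ⟨𝒮.w_mul uz ux, 𝒮.w_mul_right uz ux⟩

end Groth.Agent.S8448
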