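import Groth.Statements.S8451
import Groth.Agent.Reductive2.RankOneInvert

set_option autoImplicit false
universe u
open CategoryTheory MonoidalCategory CartesianMonoidalCategory MonObj GrpObj AlgebraicGeometry CategoryTheory.Limits
open Red

namespace Groth.Agent.S8451

/-- Let G be a reductive S-group, i : T ⟶ G a maximal torus, α a character of T non-trivial on every
geometric fibre, p₊, p₋ : 𝔾_a ⟶ G monomorphisms of groups normalised by T with multipliers α and α⁻¹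
whose cell map (y, t, x) ↦ p₋(y) i(t) p₊(x) is an open immersion 𝔾_a ×_S T ×_S 𝔾_a ⟶ G, and α^* :
𝔾_m ⟶ T the coroot: α ∘ α^* is the squaring map and p₊(x) p₋(y) = p₋(y/(1+xy)) · i(α^*(1+xy)) ·
p₊(x/(1+xy)) whenever 1 + xy is invertible (so p₊ and p₋ are dual to each other). Let e₁, em be the
S-points of 𝔾_a with coordinates 1 and -1, u = p₊(e₁) and w₀ = p₊(e₁) p₋(em) p₊(e₁). Let n be a
non-zero integer. If an S-point w of G satisfies w · i(α^*(z))^n · w⁻¹ = i(α^*(z))^{-n} for all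
points z of 𝔾_m (after base change) and w u w⁻¹ = u⁻¹ w u⁻¹, then w = w₀. (The published statement
has the condition (w u)³ = e in place of w u w⁻¹ = u⁻¹ w u⁻¹, and also asserts that w₀ has both
properties. The cube condition does not determine w when the centre of G contains a non-trivial cube
root of unity: for G = GL₂ over a field containing a primitive cube root of unity ζ, the point ζ·w₀
inverts the coroot and satisfies (ζ w₀ u)³ = e. The published proof uses the conjugation identity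
stated here, which is equivalent to (w u)³ = e once w² = i(α^*(-1)).) -/
theorem result (S : Scheme.{u}) (G T : Over S) [GrpObj G] [GrpObj T] (i : T ⟶ G) [IsMonHom i] [Mono i] (hG : Red.IsReductive G) (hTm : Red.IsMaximalTorus i)
    (α : T ⟶ Red.Gm S) [IsMonHom α] (hα : ∀ s : S, (Over.pullback (Red.geomPt s)).map α ≠ 1)
    (pp pm : Red.Ga S ⟶ G) [IsMonHom pp] [Mono pp] [IsMonHom pm] [Mono pm]
    (hpp : ∀ (X : Over S) (t : X ⟶ T) (x : X ⟶ Red.Ga S), ∃ x' : X ⟶ Red.Ga S,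
      x' ≫ pp = (t ≫ i) * (x ≫ pp) * (t ≫ i)⁻¹ ∧ Red.gaFn x' = Red.gmFn (t ≫ α) * Red.gaFn x)
    (hpm : ∀ (X : Over S) (t : X ⟶ T) (y : X ⟶ Red.Ga S), ∃ y' : X ⟶ Red.Ga S,
      y' ≫ pm = (t ≫ i) * (y ≫ pm) * (t ≫ i)⁻¹ ∧ Red.gaFn y' * Red.gmFn (t ≫ α) = Red.gaFn y)
    (hΩ : IsOpenImmersion (((pm ⊗ₘ i) ⊗ₘ pp) ≫ (μ[G] ▷ G) ≫ μ[G]).left)
    (av : Red.Gm S ⟶ T) [IsMonHom av] (h2 : av ≫ α = (𝟙 (Red.Gm S)) ^ 2)
    (hF : ∀ (X : Over S) (x y : X ⟶ Red.Ga S), IsUnit (1 + Red.gaFn x * Red.gaFn y) →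
      ∃ (x' y' : X ⟶ Red.Ga S) (z : X ⟶ Red.Gm S), Red.gmFn z = 1 + Red.gaFn x * Red.gaFn y ∧
        Red.gaFn x' * Red.gmFn z = Red.gaFn x ∧ Red.gaFn y' * Red.gmFn z = Red.gaFn y ∧
        (x ≫ pp) * (y ≫ pm) = (y' ≫ pm) * (z ≫ av ≫ i) * (x' ≫ pp))
    (e₁ em : 𝟙_ (Over S) ⟶ Red.Ga S) (he₁ : Red.gaFn e₁ = 1) (hem : Red.gaFn em = -1)
    (n : ℤ) (hn : n ≠ 0) (w : 𝟙_ (Over S) ⟶ G)
    (hw : ∀ (X : Over S) (z : X ⟶ Red.Gm S),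
      (toUnit X ≫ w) * (((z ≫ av) ^ n) ≫ i) * (toUnit X ≫ w)⁻¹ = ((((z ≫ av) ^ n) ≫ i))⁻¹)
    (hconj : w * (e₁ ≫ pp) * w⁻¹ = (e₁ ≫ pp)⁻¹ * w * (e₁ ≫ pp)⁻¹) :
    w = (e₁ ≫ pp) * (em ≫ pm) * (e₁ ≫ pp) := by
  obtain ⟨t₀, ht₀⟩ := Groth.Reductive.exists_eq_torus_mul_w_inv i α pp pm hpp hpm hΩ hG av h2 hF hTm.2.2.1 n hn w hw

  have : IsAffineHom G.hom := hG.1
  set 𝒳 := Groth.Reductive.rankOneOfPoints i α pp pm hpp hpm av h2 hF (𝟙_ (Over S)) with h𝒳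
  have H := Groth.Reductive.conj_w_P i α pp pm hpp hpm av h2 hF (X := 𝟙_ (Over S))
  have hP : e₁ ≫ pp = 𝒳.P 1 := by rw [← he₁]; exact Groth.Reductive.comp_eq_gaMk_comp e₁ pp
  have hM : em ≫ pm = 𝒳.M (-1) := by rw [← hem]; exact Groth.Reductive.comp_eq_gaMk_comp em pm
  have hw₁ : 𝒳.P 1 * 𝒳.M (-1) * 𝒳.P 1 = 𝒳.w 1 := by simp [Groth.Reductive.RankOne.w]
  rw [hP] at hconj
  rw [hP, hM, hw₁]
  set t := t₀ * 𝒳.h (-1)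
  have hwt : w = 𝒳.τ t * 𝒳.w 1 := by
    have h1 : 𝒳.τ (𝒳.h (-1)) * 𝒳.τ (𝒳.h (-1)) = 1 := by
      rw [← map_mul, ← map_mul, neg_mul_neg, _root_.one_mul, map_one, map_one]
    rw [ht₀, map_mul, _root_.mul_assoc]
    congr 1
    rw [inv_eq_iff_mul_eq_one, ← _root_.mul_assoc, ← eq_inv_iff_mul_eq_one]
    refine eq_inv_of_mul_eq_one_left ?_
    calc 𝒳.w 1 * 𝒳.τ (𝒳.h (-1)) * 𝒳.w 1 = 𝒳.w 1 * (𝒳.w 1 * 𝒳.w 1) * 𝒳.w 1 := by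
          rw [𝒳.w_mul_w 1 1 (-1) (by simp)]
      _ = 1 := by
          rw [_root_.mul_assoc, _root_.mul_assoc, 𝒳.w_mul_w 1 1 (-1) (by simp), ← _root_.mul_assoc,
            𝒳.w_mul_w 1 1 (-1) (by simp), h1]
  rw [hwt] at hconj ⊢
  have hL : 𝒳.τ t * 𝒳.w 1 * 𝒳.P 1 * (𝒳.τ t * 𝒳.w 1)⁻¹ = 𝒳.M (-↑(𝒳.a t)⁻¹) := by
    have h3 := H 1 1
    rw [inv_one, Units.val_one, _root_.one_mul, _root_.one_mul] at h3
    calc 𝒳.τ t * 𝒳.w 1 * 𝒳.P 1 * (𝒳.τ t * 𝒳.w 1)⁻¹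
        = 𝒳.τ t * (𝒳.w 1 * 𝒳.P 1 * (𝒳.w 1)⁻¹) * (𝒳.τ t)⁻¹ := by simp [_root_.mul_assoc]
      _ = _ := by
          rw [h3, 𝒳.conjM, mul_inv_cancel_right]
          congr 1
          rw [mul_neg, _root_.mul_one]
  rw [hL, 𝒳.P_inv] at hconj
  have hR : 𝒳.M (-↑(𝒳.a t)⁻¹) = 𝒳.τ t * 𝒳.P (↑(𝒳.a t)⁻¹ * (-1 + ↑(𝒳.a t))) * 𝒳.M (-1) := by
    have h5 : 𝒳.w 1 * 𝒳.P (-1) = 𝒳.P 1 * 𝒳.M (-1) := by
      rw [← hw₁, ← 𝒳.P_inv, mul_inv_cancel_right]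
    have h6 : 𝒳.τ t * 𝒳.P 1 = 𝒳.P ↑(𝒳.a t) * 𝒳.τ t := by rw [𝒳.conjP, _root_.mul_one]
    calc 𝒳.M (-↑(𝒳.a t)⁻¹) = 𝒳.P (-1) * (𝒳.τ t * 𝒳.P 1) * 𝒳.M (-1) := by
          rw [hconj, _root_.mul_assoc, _root_.mul_assoc, h5]; simp only [_root_.mul_assoc]
      _ = _ := by rw [h6, ← _root_.mul_assoc, ← 𝒳.P_add, 𝒳.P_mul_τ]
  have hc : 𝒳.M 0 * 𝒳.τ t * 𝒳.P (↑(𝒳.a t)⁻¹ * (-1 + ↑(𝒳.a t))) =
      𝒳.M (-↑(𝒳.a t)⁻¹ + 1) * 𝒳.τ 1 * 𝒳.P 0 := by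
    rw [𝒳.M_zero, _root_.one_mul, 𝒳.P_zero, map_one, _root_.mul_one, _root_.mul_one, 𝒳.M_add, hR,
      _root_.mul_assoc _ (𝒳.M (-1)), ← 𝒳.M_add, neg_add_cancel, 𝒳.M_zero, _root_.mul_one]
  obtain ⟨-, ht, -⟩ := Groth.Reductive.system_cell_inj i α pp pm hpp hpm hΩ av h2 hF hc
  rw [ht, map_one, _root_.one_mul]

end Groth.Agent.S8451
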