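import Groth.Statements.S8452
import Groth.Agent.Reductive2.RankOneIso

-- import your own Groth.Agent.* helpers here

set_option autoImplicit false
universe u
open CategoryTheory MonoidalCategory CartesianMonoidalCategory MonObj GrpObj AlgebraicGeometry CategoryTheory.Limits
open Red

namespace Groth.Agent.S8452

/-- Let (G, T, α, p₊, p₋, α^*) and (G', T', α', p'₊, p'₋, α'^*) be two rank-one systems over S: G
reductive, i : T ⟶ G a maximal torus, α a character of T non-trivial on every geometric fibre, p₊,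
p₋ : 𝔾_a ⟶ G monomorphisms normalised by T with multipliers α, α⁻¹ whose cell map (y, t, x) ↦ p₋(y)
i(t) p₊(x) is an open immersion, α^* : 𝔾_m ⟶ T with α ∘ α^* the squaring map and p₊(x) p₋(y) =
p₋(y/(1+xy)) · i(α^*(1+xy)) · p₊(x/(1+xy)) whenever 1 + xy is invertible; likewise for the primed
data. Let q > 0 be an integer such that x ↦ x^q is additive on all functions of S-schemes. For a
homomorphism f : G ⟶ G' the following are equivalent: (i) f restricted to T factors through a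
homomorphism f_T : T ⟶ T' with α' ∘ f_T = α^q and f_T ∘ α^* = (α'^*)^q; (ii) there is an S-point c
of 𝔾_m (it is then unique) with f(p₊(x)) = p'₊(c x^q) and f(p₋(y)) = p'₋(c⁻¹ y^q) for all points x,
y of 𝔾_a. -/
theorem result (S : Scheme.{u}) (G T : Over S) [GrpObj G] [GrpObj T] (i : T ⟶ G) [IsMonHom i] [Mono i] (hG : Red.IsReductive G) (hTm : Red.IsMaximalTorus i)
    (α : T ⟶ Red.Gm S) [IsMonHom α] (hα : ∀ s : S, (Over.pullback (Red.geomPt s)).map α ≠ 1)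
    (pp pm : Red.Ga S ⟶ G) [IsMonHom pp] [Mono pp] [IsMonHom pm] [Mono pm]
    (hpp : ∀ (X : Over S) (t : X ⟶ T) (x : X ⟶ Red.Ga S), ∃ x' : X ⟶ Red.Ga S,
      x' ≫ pp = (t ≫ i) * (x ≫ pp) * (t ≫ i)⁻¹ ∧ Red.gaFn x' = Red.gmFn (t ≫ α) * Red.gaFn x)
    (hpm : ∀ (X : Over S) (t : X ⟶ T) (y : X ⟶ Red.Ga S), ∃ y' : X ⟶ Red.Ga S,
      y' ≫ pm = (t ≫ i) * (y ≫ pm) * (t ≫ i)⁻¹ ∧ Red.gaFn y' * Red.gmFn (t ≫ α) = Red.gaFn y)
    (hΩ : IsOpenImmersion (((pm ⊗ₘ i) ⊗ₘ pp) ≫ (μ[G] ▷ G) ≫ μ[G]).left)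
    (av : Red.Gm S ⟶ T) [IsMonHom av] (h2 : av ≫ α = (𝟙 (Red.Gm S)) ^ 2)
    (hF : ∀ (X : Over S) (x y : X ⟶ Red.Ga S), IsUnit (1 + Red.gaFn x * Red.gaFn y) →
      ∃ (x' y' : X ⟶ Red.Ga S) (z : X ⟶ Red.Gm S), Red.gmFn z = 1 + Red.gaFn x * Red.gaFn y ∧
        Red.gaFn x' * Red.gmFn z = Red.gaFn x ∧ Red.gaFn y' * Red.gmFn z = Red.gaFn y ∧
        (x ≫ pp) * (y ≫ pm) = (y' ≫ pm) * (z ≫ av ≫ i) * (x' ≫ pp))
    (G' T' : Over S) [GrpObj G'] [GrpObj T'] (i' : T' ⟶ G') [IsMonHom i'] [Mono i'] (hG' : Red.IsReductive G') (hTm' : Red.IsMaximalTorus i')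
    (α' : T' ⟶ Red.Gm S) [IsMonHom α'] (hα' : ∀ s : S, (Over.pullback (Red.geomPt s)).map α' ≠ 1)
    (pp' pm' : Red.Ga S ⟶ G') [IsMonHom pp'] [Mono pp'] [IsMonHom pm'] [Mono pm']
    (hpp' : ∀ (X : Over S) (t : X ⟶ T') (x : X ⟶ Red.Ga S), ∃ x' : X ⟶ Red.Ga S,
      x' ≫ pp' = (t ≫ i') * (x ≫ pp') * (t ≫ i')⁻¹ ∧ Red.gaFn x' = Red.gmFn (t ≫ α') * Red.gaFn x)
    (hpm' : ∀ (X : Over S) (t : X ⟶ T') (y : X ⟶ Red.Ga S), ∃ y' : X ⟶ Red.Ga S,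
      y' ≫ pm' = (t ≫ i') * (y ≫ pm') * (t ≫ i')⁻¹ ∧ Red.gaFn y' * Red.gmFn (t ≫ α') = Red.gaFn y)
    (hΩ' : IsOpenImmersion (((pm' ⊗ₘ i') ⊗ₘ pp') ≫ (μ[G'] ▷ G') ≫ μ[G']).left)
    (av' : Red.Gm S ⟶ T') [IsMonHom av'] (h2' : av' ≫ α' = (𝟙 (Red.Gm S)) ^ 2)
    (hF' : ∀ (X : Over S) (x y : X ⟶ Red.Ga S), IsUnit (1 + Red.gaFn x * Red.gaFn y) →
      ∃ (x' y' : X ⟶ Red.Ga S) (z : X ⟶ Red.Gm S), Red.gmFn z = 1 + Red.gaFn x * Red.gaFn y ∧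
        Red.gaFn x' * Red.gmFn z = Red.gaFn x ∧ Red.gaFn y' * Red.gmFn z = Red.gaFn y ∧
        (x ≫ pp') * (y ≫ pm') = (y' ≫ pm') * (z ≫ av' ≫ i') * (x' ≫ pp'))
    (q : ℕ) (hq0 : 0 < q) (hq : ∀ (X : Over S) (a b : Γ(X.left, ⊤)), (a + b) ^ q = a ^ q + b ^ q) (f : G ⟶ G') [IsMonHom f] :
    (∃ fT : T ⟶ T', IsMonHom fT ∧ i ≫ f = fT ≫ i' ∧ fT ≫ α' = α ^ q ∧ av ≫ fT = av' ^ q) ↔
      ∃! c : 𝟙_ (Over S) ⟶ Red.Gm S,
        (∀ (X : Over S) (x y : X ⟶ Red.Ga S), Red.gaFn y = Red.gmFn (toUnit X ≫ c) * Red.gaFn x ^ q →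
          (x ≫ pp) ≫ f = y ≫ pp') ∧
        (∀ (X : Over S) (x y : X ⟶ Red.Ga S), Red.gaFn y * Red.gmFn (toUnit X ≫ c) = Red.gaFn x ^ q →
          (x ≫ pm) ≫ f = y ≫ pm') := by
  let D : Groth.Reductive2.Sys G T :=
    { i := i, α := α, pp := pp, pm := pm, hpp := hpp, hpm := hpm, hΩ := hΩ, hG := hG, hT := hTm.2.2.1,
      hα := hα, av := av, h2 := h2, hF := hF }
  let D' : Groth.Reductive2.Sys G' T' :=
    { i := i', α := α', pp := pp', pm := pm', hpp := hpp', hpm := hpm', hΩ := hΩ', hG := hG', hT := hTm'.2.2.1,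
      hα := hα', av := av', h2 := h2', hF := hF' }
  constructor
  · rintro ⟨fT, hfT, h1, -, h3⟩
    have hh := Groth.Reductive2.Sys.corootCompat_of_torusMap (D := D) (D' := D') (q := q) fT h1 h3
    obtain ⟨ν, hν⟩ := Groth.Reductive2.Sys.exists_mapP hh
    obtain ⟨w, hw⟩ := Groth.Reductive2.Sys.exists_mapM hh
    obtain ⟨u, rfl⟩ := IsUnit.of_mul_eq_one w (Groth.Reductive2.Sys.mul_eq_one hq0 hq hh hν hw)
    have hM := Groth.Reductive2.Sys.mapM_of_compat hq0 hq hh hν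
    refine ⟨Groth.Reductive.gmMk _ u, ⟨fun X x y hy ↦ ?_, fun X x y hy ↦ ?_⟩, fun c hc ↦ ?_⟩
    · rw [show x ≫ pp = _ from D.comp_pp x, hν, show y ≫ pp' = _ from D'.comp_pp y, hy,
        Groth.Reductive.gmFn_comp, Groth.Reductive.gmFn_gmMk]
    · rw [show x ≫ pm = _ from D.comp_pm x, hM, show y ≫ pm' = _ from D'.comp_pm y, ← hy,
        Groth.Reductive.gmFn_comp, Groth.Reductive.gmFn_gmMk, _root_.mul_comm (Red.gaFn y),
        ← _root_.mul_assoc, ← map_mul, Units.inv_mul, map_one, _root_.one_mul]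
    · have e := hc.1 _ (Groth.Reductive.gaMk _ 1) (Groth.Reductive.gaMk _ (Red.gmFn c))
        (by simp [toUnit_unique (toUnit (𝟙_ (Over S))) (𝟙 _)])
      have e2 := D'.P_inj ((hν _ 1).symm.trans e)
      rw [toUnit_unique (toUnit (𝟙_ (Over S))) (𝟙 _), Groth.Reductive2.pull_id, RingHom.id_apply, one_pow,
        _root_.mul_one] at e2
      exact Groth.Reductive.gmFn_injective (by rw [Groth.Reductive.gmFn_gmMk, e2])
  · rintro ⟨c, ⟨hP, hM⟩, -⟩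
    obtain ⟨u, hu⟩ := Groth.Reductive.isUnit_gmFn c
    have hc : ∀ X : Over S, Groth.Reductive2.pull (toUnit X) ↑u = Red.gmFn (toUnit X ≫ c) := fun X ↦ by
      rw [hu]; exact (Groth.Reductive.gmFn_comp _ _).symm
    have h1 : Groth.Reductive2.Sys.MapP D D' f q ↑u := fun X r ↦
      hP X (Groth.Reductive.gaMk X r) (Groth.Reductive.gaMk X _)
        (by rw [Groth.Reductive.gaFn_gaMk, Groth.Reductive.gaFn_gaMk, hc])
    have h2 : Groth.Reductive2.Sys.MapM D D' f q ↑u⁻¹ := fun X r ↦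
      hM X (Groth.Reductive.gaMk X r) (Groth.Reductive.gaMk X _)
        (by rw [Groth.Reductive.gaFn_gaMk, Groth.Reductive.gaFn_gaMk, ← hc, _root_.mul_right_comm,
          ← map_mul, Units.inv_mul, map_one, _root_.one_mul])
    exact Groth.Reductive2.Sys.exists_torusMap hq0 hq h1 h2

end Groth.Agent.S8452
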