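import Groth.Statements.S8453
import Groth.Agent.Reductive2.RankOneIso

-- import your own Groth.Agent.* helpers here

set_option autoImplicit false
universe u
open CategoryTheory MonoidalCategory CartesianMonoidalCategory MonObj GrpObj AlgebraicGeometry CategoryTheory.Limits
open Red

namespace Groth.Agent.S8453

/-- Isomorphism thm for groups of semisimple rank 1: Let (G, T, α, p₊, p₋, α^*) and (G', T', α', p'₊,
p'₋, α'^*) be two rank-one systems over S: G reductive, i : T ⟶ G a maximal torus, α a character of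
T non-trivial on every geometric fibre, p₊, p₋ : 𝔾_a ⟶ G monomorphisms normalised by T with
multipliers α, α⁻¹ whose cell map (y, t, x) ↦ p₋(y) i(t) p₊(x) is an open immersion, α^* : 𝔾_m ⟶ T
with α ∘ α^* the squaring map and p₊(x) p₋(y) = p₋(y/(1+xy)) · i(α^*(1+xy)) · p₊(x/(1+xy)) whenever
1 + xy is invertible; likewise for the primed data. Let q > 0 be an integer such that x ↦ x^q is
additive on all functions of S-schemes. Let c be an S-point of 𝔾_m (a trivialisation of the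
isomorphism (𝔤^α)^{⊗q} ≅ 𝔤'^{α'}) and f_T : T ⟶ T' a homomorphism with α' ∘ f_T = α^q and f_T ∘ α^*
= (α'^*)^q. Then there is exactly one homomorphism f : G ⟶ G' extending f_T (i ∘ f = f_T ∘ i') with
f(p₊(x)) = p'₊(c x^q) for all points x of 𝔾_a; moreover every such f satisfies f(p₋(y)) = p'₋(c⁻¹
y^q) for all points y. -/
theorem result (S : Scheme.{u}) (G T : Over S) [GrpObj G] [GrpObj T] (i : T ⟶ G) [IsMonHom i] [Mono i] (hG : Red.IsReductive G) (hTm : Red.IsMaximalTorus i)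
    (α : T ⟶ Red.Gm S) [IsMonHom α] (hα : ∀ s : S, (Over.pullback (Red.geomPt s)).map α ≠ 1)
    (pp pm : Red.Ga S ⟶ G) [IsMonHom pp] [Mono pp] [IsMonHom pm] [Mono pm]
    (hpp : ∀ (X : Over S) (t : X ⟶ T) (x : X ⟶ Red.Ga S), ∃ x' : X ⟶ Red.Ga S,
      x' ≫ pp = (t ≫ i) * (x ≫ pp) * (t ≫ i)⁻¹ ∧ Red.gaFn x' = Red.gmFn (t ≫ α) * Red.gaFn x)
    (hpm : ∀ (X : Over S) (t : X ⟶ T) (y : X ⟶ Red.Ga S), ∃ y' : X ⟶ Red.Ga S,
      y' ≫ pm = (t ≫ i) * (y ≫ pm) * (t ≫ i)⁻¹ ∧ Red.gaFn y' * Red.gmFn (t ≫ α) = Red.gaFn y)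
    (hΩ : IsOpenImmersion (((pm ⊗ₘ i) ⊗ₘ pp) ≫ (μ[G] ▷ G) ≫ μ[G]).left)
    (av : Red.Gm S ⟶ T) [IsMonHom av] (h2 : av ≫ α = (𝟙 (Red.Gm S)) ^ 2)
    (hF : ∀ (X : Over S) (x y : X ⟶ Red.Ga S), IsUnit (1 + Red.gaFn x * Red.gaFn y) →
      ∃ (x' y' : X ⟶ Red.Ga S) (z : X ⟶ Red.Gm S), Red.gmFn z = 1 + Red.gaFn x * Red.gaFn y ∧
        Red.gaFn x' * Red.gmFn z = Red.gaFn x ∧ Red.gaFn y' * Red.gmFn z = Red.gaFn y ∧
        (x ≫ pp) * (y ≫ pm) = (y' ≫ pm) * (z ≫ av ≫ i) * (x' ≫ pp))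
    (G' T' : Over S) [GrpObj G'] [GrpObj T'] (i' : T' ⟶ G') [IsMonHom i'] [Mono i'] (hG' : Red.IsReductive G') (hTm' : Red.IsMaximalTorus i')
    (α' : T' ⟶ Red.Gm S) [IsMonHom α'] (hα' : ∀ s : S, (Over.pullback (Red.geomPt s)).map α' ≠ 1)
    (pp' pm' : Red.Ga S ⟶ G') [IsMonHom pp'] [Mono pp'] [IsMonHom pm'] [Mono pm']
    (hpp' : ∀ (X : Over S) (t : X ⟶ T') (x : X ⟶ Red.Ga S), ∃ x' : X ⟶ Red.Ga S,
      x' ≫ pp' = (t ≫ i') * (x ≫ pp') * (t ≫ i')⁻¹ ∧ Red.gaFn x' = Red.gmFn (t ≫ α') * Red.gaFn x)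
    (hpm' : ∀ (X : Over S) (t : X ⟶ T') (y : X ⟶ Red.Ga S), ∃ y' : X ⟶ Red.Ga S,
      y' ≫ pm' = (t ≫ i') * (y ≫ pm') * (t ≫ i')⁻¹ ∧ Red.gaFn y' * Red.gmFn (t ≫ α') = Red.gaFn y)
    (hΩ' : IsOpenImmersion (((pm' ⊗ₘ i') ⊗ₘ pp') ≫ (μ[G'] ▷ G') ≫ μ[G']).left)
    (av' : Red.Gm S ⟶ T') [IsMonHom av'] (h2' : av' ≫ α' = (𝟙 (Red.Gm S)) ^ 2)
    (hF' : ∀ (X : Over S) (x y : X ⟶ Red.Ga S), IsUnit (1 + Red.gaFn x * Red.gaFn y) →
      ∃ (x' y' : X ⟶ Red.Ga S) (z : X ⟶ Red.Gm S), Red.gmFn z = 1 + Red.gaFn x * Red.gaFn y ∧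
        Red.gaFn x' * Red.gmFn z = Red.gaFn x ∧ Red.gaFn y' * Red.gmFn z = Red.gaFn y ∧
        (x ≫ pp') * (y ≫ pm') = (y' ≫ pm') * (z ≫ av' ≫ i') * (x' ≫ pp'))
    (q : ℕ) (hq0 : 0 < q) (hq : ∀ (X : Over S) (a b : Γ(X.left, ⊤)), (a + b) ^ q = a ^ q + b ^ q) (c : 𝟙_ (Over S) ⟶ Red.Gm S) (fT : T ⟶ T') [IsMonHom fT]
    (hfTα : fT ≫ α' = α ^ q) (hfTav : av ≫ fT = av' ^ q) :
    (∃! f : G ⟶ G', IsMonHom f ∧ i ≫ f = fT ≫ i' ∧
        ∀ (X : Over S) (x y : X ⟶ Red.Ga S), Red.gaFn y = Red.gmFn (toUnit X ≫ c) * Red.gaFn x ^ q →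
          (x ≫ pp) ≫ f = y ≫ pp') ∧
      ∀ f : G ⟶ G', IsMonHom f → i ≫ f = fT ≫ i' →
        (∀ (X : Over S) (x y : X ⟶ Red.Ga S), Red.gaFn y = Red.gmFn (toUnit X ≫ c) * Red.gaFn x ^ q →
          (x ≫ pp) ≫ f = y ≫ pp') →
        ∀ (X : Over S) (x y : X ⟶ Red.Ga S), Red.gaFn y * Red.gmFn (toUnit X ≫ c) = Red.gaFn x ^ q →
          (x ≫ pm) ≫ f = y ≫ pm' := by
  let D : Groth.Reductive2.Sys G T :=
    { i := i, α := α, pp := pp, pm := pm, hpp := hpp, hpm := hpm, hΩ := hΩ, hG := hG, hT := hTm.2.2.1,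
      hα := hα, av := av, h2 := h2, hF := hF }
  let D' : Groth.Reductive2.Sys G' T' :=
    { i := i', α := α', pp := pp', pm := pm', hpp := hpp', hpm := hpm', hΩ := hΩ', hG := hG', hT := hTm'.2.2.1,
      hα := hα', av := av', h2 := h2', hF := hF' }
  obtain ⟨u, hu⟩ := Groth.Reductive.isUnit_gmFn c
  have hc : ∀ X : Over S, Groth.Reductive2.pull (toUnit X) ↑u = Red.gmFn (toUnit X ≫ c) := fun X ↦ by
    rw [hu]; exact (Groth.Reductive.gmFn_comp _ _).symm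
  have conv : ∀ f : G ⟶ G', (∀ (X : Over S) (x y : X ⟶ Red.Ga S),
      Red.gaFn y = Red.gmFn (toUnit X ≫ c) * Red.gaFn x ^ q → (x ≫ pp) ≫ f = y ≫ pp') →
      Groth.Reductive2.Sys.MapP D D' f q ↑u := fun f hP X r ↦
    hP X (Groth.Reductive.gaMk X r) (Groth.Reductive.gaMk X _)
      (by rw [Groth.Reductive.gaFn_gaMk, Groth.Reductive.gaFn_gaMk, hc])
  refine ⟨?_, fun f hfm h1 hP X x y hy ↦ ?_⟩
  · obtain ⟨f, hfm, h1, hP⟩ := Groth.Reductive2.Sys.exists_extension hq0 hq D D' u fT hfTα hfTav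
    refine ⟨f, ⟨hfm, h1, fun X x y hy ↦ ?_⟩, fun g ⟨hgm, hg1, hg⟩ ↦ ?_⟩
    · rw [show x ≫ pp = _ from D.comp_pp x, hP, show y ≫ pp' = _ from D'.comp_pp y, hy, hc]
    · exact Groth.Reductive2.Sys.eq_of_mapP hq0 hq (hg1.trans h1.symm)
        (Groth.Reductive2.Sys.corootCompat_of_torusMap fT hg1 hfTav) (conv g hg) hP
  · have hM := Groth.Reductive2.Sys.mapM_of_compat hq0 hq
      (Groth.Reductive2.Sys.corootCompat_of_torusMap (D := D) (D' := D') fT h1 hfTav) (conv f hP)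
    rw [show x ≫ pm = _ from D.comp_pm x, hM, show y ≫ pm' = _ from D'.comp_pm y, ← hy,
      ← hc, _root_.mul_comm (Red.gaFn y), ← _root_.mul_assoc, ← map_mul, Units.inv_mul, map_one, _root_.one_mul]

end Groth.Agent.S8453
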