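import Groth.Statements.S8454
import Groth.Agent.Reductive2.RankOneIso

-- import your own Groth.Agent.* helpers here

set_option autoImplicit false
universe u
open CategoryTheory MonoidalCategory CartesianMonoidalCategory MonObj GrpObj AlgebraicGeometry CategoryTheory.Limits
open Red

namespace Groth.Agent.S8454

/-- Let (G, T, α, p₊, p₋, α^*) and (G', T', α', p'₊, p'₋, α'^*) be two rank-one systems over S: G
reductive, i : T ⟶ G a maximal torus, α a character of T non-trivial on every geometric fibre, p₊,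
p₋ : 𝔾_a ⟶ G monomorphisms normalised by T with multipliers α, α⁻¹ whose cell map (y, t, x) ↦ p₋(y)
i(t) p₊(x) is an open immersion, α^* : 𝔾_m ⟶ T with α ∘ α^* the squaring map and p₊(x) p₋(y) =
p₋(y/(1+xy)) · i(α^*(1+xy)) · p₊(x/(1+xy)) whenever 1 + xy is invertible; likewise for the primed
data. Let q > 0 be an integer such that x ↦ x^q is additive on all functions of S-schemes. Assume q
= 1: let c be an S-point of 𝔾_m and f_T : T ⟶ T' a homomorphism with α' ∘ f_T = α and f_T ∘ α^* =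
α'^* which is an isomorphism. Then a homomorphism f : G ⟶ G' extending f_T with f(p₊(x)) = p'₊(c x)
for all points x is an isomorphism. -/
theorem result (S : Scheme.{u}) (G T : Over S) [GrpObj G] [GrpObj T] (i : T ⟶ G) [IsMonHom i] [Mono i] (hG : Red.IsReductive G) (hTm : Red.IsMaximalTorus i)
    (α : T ⟶ Red.Gm S) [IsMonHom α] (hα : ∀ s : S, (Over.pullback (Red.geomPt s)).map α ≠ 1)
    (pp pm : Red.Ga S ⟶ G) [IsMonHom pp] [Mono pp] [IsMonHom pm] [Mono pm]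
    (hpp : ∀ (X : Over S) (t : X ⟶ T) (x : X ⟶ Red.Ga S), ∃ x' : X ⟶ Red.Ga S,
      x' ≫ pp = (t ≫ i) * (x ≫ pp) * (t ≫ i)⁻¹ ∧ Red.gaFn x' = Red.gmFn (t ≫ α) * Red.gaFn x)
    (hpm : ∀ (X : Over S) (t : X ⟶ T) (y : X ⟶ Red.Ga S), ∃ y' : X ⟶ Red.Ga S,
      y' ≫ pm = (t ≫ i) * (y ≫ pm) * (t ≫ i)⁻¹ ∧ Red.gaFn y' * Red.gmFn (t ≫ α) = Red.gaFn y)
    (hΩ : IsOpenImmersion (((pm ⊗ₘ i) ⊗ₘ pp) ≫ (μ[G] ▷ G) ≫ μ[G]).left)
    (av : Red.Gm S ⟶ T) [IsMonHom av] (h2 : av ≫ α = (𝟙 (Red.Gm S)) ^ 2)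
    (hF : ∀ (X : Over S) (x y : X ⟶ Red.Ga S), IsUnit (1 + Red.gaFn x * Red.gaFn y) →
      ∃ (x' y' : X ⟶ Red.Ga S) (z : X ⟶ Red.Gm S), Red.gmFn z = 1 + Red.gaFn x * Red.gaFn y ∧
        Red.gaFn x' * Red.gmFn z = Red.gaFn x ∧ Red.gaFn y' * Red.gmFn z = Red.gaFn y ∧
        (x ≫ pp) * (y ≫ pm) = (y' ≫ pm) * (z ≫ av ≫ i) * (x' ≫ pp))
    (G' T' : Over S) [GrpObj G'] [GrpObj T'] (i' : T' ⟶ G') [IsMonHom i'] [Mono i'] (hG' : Red.IsReductive G') (hTm' : Red.IsMaximalTorus i')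
    (α' : T' ⟶ Red.Gm S) [IsMonHom α'] (hα' : ∀ s : S, (Over.pullback (Red.geomPt s)).map α' ≠ 1)
    (pp' pm' : Red.Ga S ⟶ G') [IsMonHom pp'] [Mono pp'] [IsMonHom pm'] [Mono pm']
    (hpp' : ∀ (X : Over S) (t : X ⟶ T') (x : X ⟶ Red.Ga S), ∃ x' : X ⟶ Red.Ga S,
      x' ≫ pp' = (t ≫ i') * (x ≫ pp') * (t ≫ i')⁻¹ ∧ Red.gaFn x' = Red.gmFn (t ≫ α') * Red.gaFn x)
    (hpm' : ∀ (X : Over S) (t : X ⟶ T') (y : X ⟶ Red.Ga S), ∃ y' : X ⟶ Red.Ga S,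
      y' ≫ pm' = (t ≫ i') * (y ≫ pm') * (t ≫ i')⁻¹ ∧ Red.gaFn y' * Red.gmFn (t ≫ α') = Red.gaFn y)
    (hΩ' : IsOpenImmersion (((pm' ⊗ₘ i') ⊗ₘ pp') ≫ (μ[G'] ▷ G') ≫ μ[G']).left)
    (av' : Red.Gm S ⟶ T') [IsMonHom av'] (h2' : av' ≫ α' = (𝟙 (Red.Gm S)) ^ 2)
    (hF' : ∀ (X : Over S) (x y : X ⟶ Red.Ga S), IsUnit (1 + Red.gaFn x * Red.gaFn y) →
      ∃ (x' y' : X ⟶ Red.Ga S) (z : X ⟶ Red.Gm S), Red.gmFn z = 1 + Red.gaFn x * Red.gaFn y ∧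
        Red.gaFn x' * Red.gmFn z = Red.gaFn x ∧ Red.gaFn y' * Red.gmFn z = Red.gaFn y ∧
        (x ≫ pp') * (y ≫ pm') = (y' ≫ pm') * (z ≫ av' ≫ i') * (x' ≫ pp'))
    (c : 𝟙_ (Over S) ⟶ Red.Gm S) (fT : T ⟶ T') [IsMonHom fT] [IsIso fT]
    (hfTα : fT ≫ α' = α) (hfTav : av ≫ fT = av') (f : G ⟶ G') [IsMonHom f] (hfT : i ≫ f = fT ≫ i')
    (hf : ∀ (X : Over S) (x y : X ⟶ Red.Ga S), Red.gaFn y = Red.gmFn (toUnit X ≫ c) * Red.gaFn x →
      (x ≫ pp) ≫ f = y ≫ pp') :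
    IsIso f := by
  let D : Groth.Reductive2.Sys G T :=
    { i := i, α := α, pp := pp, pm := pm, hpp := hpp, hpm := hpm, hΩ := hΩ, hG := hG, hT := hTm.2.2.1,
      hα := hα, av := av, h2 := h2, hF := hF }
  let D' : Groth.Reductive2.Sys G' T' :=
    { i := i', α := α', pp := pp', pm := pm', hpp := hpp', hpm := hpm', hΩ := hΩ', hG := hG', hT := hTm'.2.2.1,
      hα := hα', av := av', h2 := h2', hF := hF' }
  obtain ⟨u, hu⟩ := Groth.Reductive.isUnit_gmFn c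
  have hc : ∀ X : Over S, Groth.Reductive2.pull (toUnit X) ↑u = Red.gmFn (toUnit X ≫ c) := fun X ↦ by
    rw [hu]; exact (Groth.Reductive.gmFn_comp _ _).symm
  have hq : ∀ (X : Over S) (a b : Γ(X.left, ⊤)), (a + b) ^ 1 = a ^ 1 + b ^ 1 := fun X a b ↦ by simp
  have hP : Groth.Reductive2.Sys.MapP D D' f 1 ↑u := fun X r ↦ by
    refine hf X (Groth.Reductive.gaMk X r) (Groth.Reductive.gaMk X _) ?_
    rw [Groth.Reductive.gaFn_gaMk, Groth.Reductive.gaFn_gaMk, hc, pow_one]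
  have h1' : inv fT ≫ α = α' ^ 1 := by rw [pow_one, IsIso.inv_comp_eq, hfTα]
  have h2' : av' ≫ inv fT = av ^ 1 := by rw [pow_one, IsIso.comp_inv_eq, hfTav]
  have : IsMonHom (inv fT) := { one_hom := by simp [IsMonHom.one_hom fT], mul_hom := by simp [IsMonHom.mul_hom fT] }
  obtain ⟨g, hgm, hg1, hg2⟩ := Groth.Reductive2.Sys.exists_extension one_pos hq D' D u⁻¹ (inv fT) h1' h2'
  have hfav : av ≫ fT = av' ^ 1 := by rw [pow_one, hfTav]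
  refine ⟨⟨g, ?_, ?_⟩⟩
  · refine Groth.Reductive2.Sys.eq_of_mapP (D := D) (D' := D) (c := 1) one_pos hq ?_
      (Groth.Reductive2.Sys.corootCompat_of_torusMap (q := 1) (𝟙 T) ?_ (by simp)) (fun X r ↦ ?_) (fun X r ↦ by simp)
    · show i ≫ f ≫ g = i ≫ 𝟙 G
      rw [reassoc_of% hfT, show i' ≫ g = inv fT ≫ i from hg1, IsIso.hom_inv_id_assoc, Category.comp_id]
    · show i ≫ f ≫ g = 𝟙 T ≫ i
      rw [reassoc_of% hfT, show i' ≫ g = inv fT ≫ i from hg1, IsIso.hom_inv_id_assoc, Category.id_comp]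
    · rw [← Category.assoc, hP, hg2, pow_one, pow_one, ← _root_.mul_assoc, ← map_mul, Units.inv_mul, Units.val_one]
  · refine Groth.Reductive2.Sys.eq_of_mapP (D := D') (D' := D') (c := 1) one_pos hq ?_
      (Groth.Reductive2.Sys.corootCompat_of_torusMap (q := 1) (𝟙 T') ?_ (by simp)) (fun X r ↦ ?_) (fun X r ↦ by simp)
    · show i' ≫ g ≫ f = i' ≫ 𝟙 G'
      rw [reassoc_of% (show i' ≫ g = inv fT ≫ i from hg1), hfT, IsIso.inv_hom_id_assoc, Category.comp_id]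
    · show i' ≫ g ≫ f = 𝟙 T' ≫ i'
      rw [reassoc_of% (show i' ≫ g = inv fT ≫ i from hg1), hfT, IsIso.inv_hom_id_assoc, Category.id_comp]
    · rw [← Category.assoc, hg2, hP, pow_one, pow_one, ← _root_.mul_assoc, ← map_mul, Units.mul_inv, Units.val_one]

end Groth.Agent.S8454
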