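import Groth.Statements.S8457
import Groth.Agent.Reductive2.RankOneExt

-- import your own Groth.Agent.* helpers here

set_option autoImplicit false
universe u
open CategoryTheory MonoidalCategory CartesianMonoidalCategory MonObj GrpObj AlgebraicGeometry CategoryTheory.Limits
open Red

namespace Groth.Agent.S8457

/-- Generators and relations for a group of semisimple rank 1: for H an S-group scheme. Let G be a
reductive S-group, i : T ⟶ G a maximal torus, α a character of T non-trivial on every geometric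
fibre, p₊, p₋ : 𝔾_a ⟶ G monomorphisms of groups normalised by T with multipliers α and α⁻¹ whose
cell map (y, t, x) ↦ p₋(y) i(t) p₊(x) is an open immersion 𝔾_a ×_S T ×_S 𝔾_a ⟶ G, and α^* : 𝔾_m ⟶ T
the coroot: α ∘ α^* is the squaring map and p₊(x) p₋(y) = p₋(y/(1+xy)) · i(α^*(1+xy)) · p₊(x/(1+xy))
whenever 1 + xy is invertible (so p₊ and p₋ are dual to each other). Let e₁, em be the S-points of
𝔾_a with coordinates 1, -1 and m the S-point of 𝔾_m with coordinate -1; put u = p₊(e₁) and w =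
p₊(e₁) p₋(em) p₊(e₁). Let H be an S-group scheme, f_T : T ⟶ H and f_α : 𝔾_a ⟶ H homomorphisms and h
an S-point of H. Then there is exactly one homomorphism f : G ⟶ H with f ∘ i = f_T, f ∘ p₊ = f_α and
f(w) = h if and only if: (1) f_T(t) f_α(x) f_T(t)⁻¹ = f_α(α(t) x) for all points t of T and x of
𝔾_a; (2) h f_T(t) h⁻¹ = f_T(t · α^*(α(t))⁻¹) for all points t of T; (3) h² = f_T(α^*(m)); (4) (h ·
f_α(e₁))³ = e. (The published statement allows H to be any fppf sheaf of groups.) -/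
theorem result (S : Scheme.{u}) (G T : Over S) [GrpObj G] [GrpObj T] (i : T ⟶ G) [IsMonHom i] [Mono i] (hG : Red.IsReductive G) (hTm : Red.IsMaximalTorus i)
    (α : T ⟶ Red.Gm S) [IsMonHom α] (hα : ∀ s : S, (Over.pullback (Red.geomPt s)).map α ≠ 1)
    (pp pm : Red.Ga S ⟶ G) [IsMonHom pp] [Mono pp] [IsMonHom pm] [Mono pm]
    (hpp : ∀ (X : Over S) (t : X ⟶ T) (x : X ⟶ Red.Ga S), ∃ x' : X ⟶ Red.Ga S,
      x' ≫ pp = (t ≫ i) * (x ≫ pp) * (t ≫ i)⁻¹ ∧ Red.gaFn x' = Red.gmFn (t ≫ α) * Red.gaFn x)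
    (hpm : ∀ (X : Over S) (t : X ⟶ T) (y : X ⟶ Red.Ga S), ∃ y' : X ⟶ Red.Ga S,
      y' ≫ pm = (t ≫ i) * (y ≫ pm) * (t ≫ i)⁻¹ ∧ Red.gaFn y' * Red.gmFn (t ≫ α) = Red.gaFn y)
    (hΩ : IsOpenImmersion (((pm ⊗ₘ i) ⊗ₘ pp) ≫ (μ[G] ▷ G) ≫ μ[G]).left)
    (av : Red.Gm S ⟶ T) [IsMonHom av] (h2 : av ≫ α = (𝟙 (Red.Gm S)) ^ 2)
    (hF : ∀ (X : Over S) (x y : X ⟶ Red.Ga S), IsUnit (1 + Red.gaFn x * Red.gaFn y) →
      ∃ (x' y' : X ⟶ Red.Ga S) (z : X ⟶ Red.Gm S), Red.gmFn z = 1 + Red.gaFn x * Red.gaFn y ∧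
        Red.gaFn x' * Red.gmFn z = Red.gaFn x ∧ Red.gaFn y' * Red.gmFn z = Red.gaFn y ∧
        (x ≫ pp) * (y ≫ pm) = (y' ≫ pm) * (z ≫ av ≫ i) * (x' ≫ pp))
    (e₁ em : 𝟙_ (Over S) ⟶ Red.Ga S) (he₁ : Red.gaFn e₁ = 1) (hem : Red.gaFn em = -1)
    (m : 𝟙_ (Over S) ⟶ Red.Gm S) (hm : Red.gmFn m = -1)
    (H : Over S) [GrpObj H] (fT : T ⟶ H) [IsMonHom fT] (fα : Red.Ga S ⟶ H) [IsMonHom fα] (h : 𝟙_ (Over S) ⟶ H) :
    (∃! f : G ⟶ H, IsMonHom f ∧ i ≫ f = fT ∧ pp ≫ f = fα ∧ ((e₁ ≫ pp) * (em ≫ pm) * (e₁ ≫ pp)) ≫ f = h) ↔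
      ((∀ (X : Over S) (t : X ⟶ T) (x x' : X ⟶ Red.Ga S), Red.gaFn x' = Red.gmFn (t ≫ α) * Red.gaFn x →
          (t ≫ fT) * (x ≫ fα) * (t ≫ fT)⁻¹ = x' ≫ fα) ∧
        (∀ (X : Over S) (t : X ⟶ T), (toUnit X ≫ h) * (t ≫ fT) * (toUnit X ≫ h)⁻¹ = (t * (t ≫ α ≫ av)⁻¹) ≫ fT) ∧
        h ^ 2 = m ≫ av ≫ fT ∧ (h * (e₁ ≫ fα)) ^ 3 = 1) := by
  let D : Groth.Reductive2.Sys G T :=
    { i := i, α := α, pp := pp, pm := pm, hpp := hpp, hpm := hpm, hΩ := hΩ, hG := hG, hT := hTm.2.2.1,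
      hα := hα, av := av, h2 := h2, hF := hF }
  have e1 : e₁ = Groth.Reductive.gaMk _ 1 := Groth.Reductive.gaFn_injective (by simp [he₁])
  have em1 : em = Groth.Reductive.gaMk _ (-1) := Groth.Reductive.gaFn_injective (by simp [hem])
  have m1 : m = Groth.Reductive.gmMk _ (-1) := Groth.Reductive.gmFn_injective (by simp [hm])
  have hw : (e₁ ≫ pp) * (em ≫ pm) * (e₁ ≫ pp) = (D.pts (𝟙_ (Over S))).w 1 := by
    rw [e1, em1]
    simp only [Groth.Reductive.RankOne.w, inv_one, Units.val_one]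
    rfl
  rw [hw]
  have hσ : ∀ (X : Over S) (t : X ⟶ T), t * (t ≫ α ≫ av)⁻¹ = (D.pts X).σ t := fun X t ↦ by
    rw [Groth.Reductive.RankOne.σ, D.torus_comm t, ← Category.assoc]
    congr 2
    exact D.comp_av (t ≫ α)
  constructor
  · rintro ⟨f, ⟨hfm, h1, h2', h3⟩, -⟩
    have hR := Groth.Reductive2.Rels.of_hom (D := D) f
    subst h1 h2' h3
    refine ⟨fun X t x x' hx ↦ ?_, fun X t ↦ ?_, ?_, ?_⟩
    · rw [mul_inv_eq_iff_eq_mul, Groth.Reductive.comp_eq_gaMk_comp x, Groth.Reductive.comp_eq_gaMk_comp x', hx]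
      exact hR.conj X t (Red.gaFn x)
    · rw [mul_inv_eq_iff_eq_mul, hσ]
      exact hR.torus X t
    · rw [m1, sq, ← Category.assoc]
      exact hR.sq
    · rw [e1]
      exact hR.cube
  · rintro ⟨r1, r2, r3, r4⟩
    have hR : Groth.Reductive2.Rels D fT fα h :=
      { conj := fun X t r ↦ by
          rw [← mul_inv_eq_iff_eq_mul]
          exact r1 X t (Groth.Reductive.gaMk X r) (Groth.Reductive.gaMk X _) (by
            rw [Groth.Reductive.gaFn_gaMk, Groth.Reductive.gaFn_gaMk, D.a_def])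
        torus := fun X t ↦ by
          rw [← mul_inv_eq_iff_eq_mul, ← hσ]
          exact r2 X t
        sq := by rw [← sq, r3, m1, ← Category.assoc]; rfl
        cube := by rw [← e1]; exact r4 }
    have hi : i ≫ hR.extend = fT := by
      have := hR.τ_extend (𝟙 T)
      rwa [D.τ_def, Category.id_comp, Category.id_comp] at this
    have hp : pp ≫ hR.extend = fα := by
      have := hR.P_extend (Red.gaFn (𝟙 (Red.Ga S)))
      rw [← D.comp_pp, Groth.Reductive2.Rels.F, ← Groth.Reductive.comp_eq_gaMk_comp, Category.id_comp,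
        Category.id_comp] at this
      exact this
    have hh : (D.pts (𝟙_ (Over S))).w 1 ≫ hR.extend = h := by
      rw [hR.w_extend, Groth.Reductive2.Rels.hX, toUnit_unique (toUnit (𝟙_ (Over S))) (𝟙 _), Category.id_comp]
    refine ⟨hR.extend, ⟨hR.isMonHom_extend, hi, hp, hh⟩, fun g ⟨hgm, hg1, hg2, hg3⟩ ↦ ?_⟩
    have := hR.isMonHom_extend
    exact Groth.Reductive2.Rels.unique (D := D) g hR.extend (hg1.trans hi.symm) (hg2.trans hp.symm) (hg3.trans hh.symm)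

end Groth.Agent.S8457
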