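import Groth.Statements.S8471
-- import your own Groth.Agent.* helpers here

set_option autoImplicit false
open Red
open scoped Polynomial

namespace Groth.Agent.S8471

open Polynomial in
/-- `P(x + cY) Q(Y) = c P(Y) Q(x + cY)` with `c = P(x)/Q(x)` forces `Q` constant and `P` linear. -/
theorem core {k M : Type} [Field k] [Field M] [Algebra k M] [IsAlgClosed M] (x c : M)
    (hx : Transcendental k x) (P Q : k[X]) (hco : IsCoprime P Q) (hQ : Q.Monic) (hP0 : P.eval 0 ≠ 0)
    (hQ0 : Q.eval 0 ≠ 0) (hc : c ≠ 0) (hcx : c * aeval x Q = aeval x P)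
    (H : ∀ y : M, aeval (x + c * y) P * aeval y Q = c * aeval y P * aeval (x + c * y) Q) :
    Q = 1 ∧ P.natDegree ≤ 1 := by
  set Ω := algebraicClosure k M
  haveI : Algebra.IsAlgebraic k Ω := ⟨fun a =>
    (isAlgebraic_algebraMap_iff (A := M) Subtype.val_injective).mp (mem_algebraicClosure_iff.mp a.2)⟩
  have hxΩ : Transcendental Ω x := fun h => hx (h.restrictScalars k)
  have inj : Function.Injective (algebraMap k Ω) := (algebraMap k Ω).injective
  -- a linear identity between `P` and `Q` over `Ω` from one at `x`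
  have lin : ∀ β β' : Ω, aeval x P * (β : M) = aeval x Q * ((β' : M) - x) →
      P.map (algebraMap k Ω) * C β = Q.map (algebraMap k Ω) * (C β' - Polynomial.X) := by
    intro β β' h
    by_contra hne
    refine hxΩ ⟨_, sub_ne_zero.mpr hne, ?_⟩
    simp [aeval_map_algebraMap, IntermediateField.algebraMap_apply, h]
  have alg : ∀ (R : k[X]) (r : M), R ≠ 0 → aeval r R = 0 → r ∈ Ω := fun R r hR hr =>
    mem_algebraicClosure_iff.mpr ⟨R, hR, hr⟩
  have hPne : P ≠ 0 := fun h => hP0 (by simp [h])
  have cop : ∀ z : M, aeval z Q = 0 → aeval z P ≠ 0 := by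
    intro z hz hzP
    obtain ⟨a, b, hab⟩ := hco
    simpa [hz, hzP] using congrArg (aeval z) hab
  have root0 : ∀ (R : k[X]) (r : M), R.eval 0 ≠ 0 → aeval r R = 0 → r ≠ 0 := by
    intro R r hR hr h
    subst h
    rw [← coeff_zero_eq_aeval_zero', coeff_zero_eq_eval_zero, map_eq_zero] at hr
    exact hR hr
  -- `Q` has no root
  have hQ1 : Q = 1 := by
    by_contra hQne
    have hdeg : (Q.map (algebraMap k M)).degree ≠ 0 := by
      rw [degree_map]
      intro h
      exact hQne (hQ.natDegree_eq_zero.mp (natDegree_eq_of_degree_eq_some h))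
    obtain ⟨β, hβ⟩ := IsAlgClosed.exists_root _ hdeg
    rw [IsRoot.def, eval_map, ← aeval_def] at hβ
    have hβ' : aeval (x + c * β) Q = 0 := by
      have h := H β
      rw [hβ, mul_zero] at h
      rcases mul_eq_zero.mp h.symm with h | h
      · exact absurd h (mul_ne_zero hc (cop β hβ))
      · exact h
    have hβ0 : β ≠ 0 := root0 Q β hQ0 hβ
    have hQn : Q ≠ 0 := hQ.ne_zero
    have e := lin ⟨β, alg Q β hQn hβ⟩ ⟨x + c * β, alg Q _ hQn hβ'⟩ (by
      show aeval x P * β = aeval x Q * (x + c * β - x)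
      rw [← hcx]; ring)
    have e2 := congrArg (aeval β) e
    simp [aeval_map_algebraMap, IntermediateField.algebraMap_apply, hβ] at e2
    exact e2.elim (cop β hβ) hβ0
  refine ⟨hQ1, ?_⟩
  by_contra hlt
  have hdeg : (P.map (algebraMap k M)).degree ≠ 0 := by
    rw [degree_map]
    intro h
    exact hlt (Nat.le_trans (natDegree_eq_of_degree_eq_some h).le zero_le_one)
  obtain ⟨β', hβ'⟩ := IsAlgClosed.exists_root _ hdeg
  rw [IsRoot.def, eval_map, ← aeval_def] at hβ'
  obtain ⟨β, hβdef⟩ : ∃ β, β' = x + c * β := ⟨(β' - x) / c, by field_simp; ring⟩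
  have hβ : aeval β P = 0 := by
    have h := H β
    rw [← hβdef, hβ', zero_mul, hQ1, map_one, mul_one] at h
    exact (mul_eq_zero.mp h.symm).resolve_left hc
  have hβ0 : β ≠ 0 := root0 P β hP0 hβ
  have e := lin ⟨β, alg P β hPne hβ⟩ ⟨β', alg P β' hPne hβ'⟩ (by
    show aeval x P * β = aeval x Q * (β' - x)
    rw [← hcx, hβdef]; ring)
  rw [hQ1, Polynomial.map_one, one_mul] at e
  have e3 := congrArg natDegree e
  rw [natDegree_mul_C (fun hh => hβ0 (congrArg Subtype.val hh)), natDegree_map] at e3
  have : (C (⟨β', alg P β' hPne hβ'⟩ : Ω) - Polynomial.X).natDegree ≤ 1 := by compute_degree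
  omega


/-- Let k be a field and F ∈ k(X) a rational function whose denominator does not vanish at 0 and with
F(0) = 1. Suppose that in the field of fractions L of k[X₀, X₁] one has F(X₀ + X₁ · F(X₀)) = F(X₀) ·
F(X₁) (the functional equation F(x + y F(x)) = F(x) F(y)). Then there is a ∈ k with F = 1 + a X.
(The published statement takes the identity on an open neighbourhood of the origin of 𝔾_a × 𝔾_a on
which all terms are defined; this row takes it as an identity of rational functions in two
variables.) -/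
theorem result (k : Type) [Field k] (F : RatFunc k)
    (h0 : F.denom.eval 0 ≠ 0) (h1 : F.num.eval 0 = F.denom.eval 0)
    (hFE : RatFunc.eval (algebraMap k (FractionRing (MvPolynomial (Fin 2) k)))
        (algebraMap (MvPolynomial (Fin 2) k) (FractionRing (MvPolynomial (Fin 2) k)) (MvPolynomial.X 0) +
          algebraMap (MvPolynomial (Fin 2) k) (FractionRing (MvPolynomial (Fin 2) k)) (MvPolynomial.X 1) *
            RatFunc.eval (algebraMap k (FractionRing (MvPolynomial (Fin 2) k)))
              (algebraMap (MvPolynomial (Fin 2) k) (FractionRing (MvPolynomial (Fin 2) k)) (MvPolynomial.X 0)) F) F =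
      RatFunc.eval (algebraMap k (FractionRing (MvPolynomial (Fin 2) k)))
          (algebraMap (MvPolynomial (Fin 2) k) (FractionRing (MvPolynomial (Fin 2) k)) (MvPolynomial.X 0)) F *
        RatFunc.eval (algebraMap k (FractionRing (MvPolynomial (Fin 2) k)))
          (algebraMap (MvPolynomial (Fin 2) k) (FractionRing (MvPolynomial (Fin 2) k)) (MvPolynomial.X 1)) F) :
    ∃ a : k, F = 1 + RatFunc.C a * RatFunc.X := by
  classical
  set L := FractionRing (MvPolynomial (Fin 2) k)
  let K := RatFunc k
  let g : MvPolynomial (Fin 1) k →ₐ[k] K :=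
    (IsScalarTower.toAlgHom k k[X] K).comp (MvPolynomial.uniqueAlgEquiv k (Fin 1)).toAlgHom
  have hg : Function.Injective g :=
    (IsFractionRing.injective k[X] K).comp (MvPolynomial.uniqueAlgEquiv k (Fin 1)).injective
  let θ₀ : MvPolynomial (Fin 2) k →ₐ[k] K[X] :=
    (Polynomial.mapAlgHom g).comp ((MvPolynomial.finSuccEquiv k 1).toAlgHom.comp
      (MvPolynomial.rename (Equiv.swap (0 : Fin 2) 1)))
  have hθ₀ : Function.Injective θ₀ :=
    (Polynomial.map_injective g.toRingHom hg).comp ((MvPolynomial.finSuccEquiv k 1).injective.comp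
      (MvPolynomial.rename_injective _ (Equiv.swap (0 : Fin 2) 1).injective))
  let θ₁ : MvPolynomial (Fin 2) k →ₐ[k] RatFunc K :=
    (IsScalarTower.toAlgHom k K[X] (RatFunc K)).comp θ₀
  have hθ₁ : Function.Injective θ₁ := (IsFractionRing.injective K[X] (RatFunc K)).comp hθ₀
  let θ : L →ₐ[k] RatFunc K := IsFractionRing.liftAlgHom (g := θ₁) hθ₁
  have hθ : ∀ p, θ (algebraMap (MvPolynomial (Fin 2) k) L p) = θ₁ p := fun p => by
    rw [IsFractionRing.liftAlgHom_apply]
    exact IsFractionRing.lift_algebraMap _ _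
  have hx₀ : θ₀ (MvPolynomial.X 0) = Polynomial.C (RatFunc.X : K) := by
    have h : (MvPolynomial.finSuccEquiv k 1) (MvPolynomial.X (1 : Fin 2)) =
        Polynomial.C (MvPolynomial.X 0) := MvPolynomial.finSuccEquiv_X_succ (j := 0)
    simp [θ₀, h, g, MvPolynomial.uniqueAlgEquiv]
    rfl
  have hx₁ : θ₀ (MvPolynomial.X 1) = Polynomial.X := by
    simp [θ₀, MvPolynomial.finSuccEquiv_X_zero]
  set P := F.num
  set Q := F.denom
  set xK : K := RatFunc.X
  set c : K := Polynomial.aeval xK P / Polynomial.aeval xK Q with hc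
  have htr : Transcendental k xK := RatFunc.transcendental_X
  have hQx : Polynomial.aeval xK Q ≠ 0 := fun h => htr ⟨Q, F.denom_ne_zero, h⟩
  have hPne : P ≠ 0 := fun h => h0 (by rw [← h1, h, Polynomial.eval_zero])
  have hPx : Polynomial.aeval xK P ≠ 0 := fun h => htr ⟨P, hPne, h⟩
  have hc0 : c ≠ 0 := div_ne_zero hPx hQx
  -- transport the functional equation
  let ι := algebraMap K[X] (RatFunc K)
  have hθev : ∀ t : L, θ (RatFunc.eval (algebraMap k L) t F) =
      Polynomial.aeval (θ t) P / Polynomial.aeval (θ t) Q := fun t => by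
    rw [RatFunc.eval, map_div₀, ← Polynomial.aeval_def, ← Polynomial.aeval_def,
      Polynomial.aeval_algHom_apply, Polynomial.aeval_algHom_apply]
  have hι : ∀ (R : k[X]) (t : K[X]), Polynomial.aeval (ι t) R = ι (Polynomial.aeval t R) := fun R t =>
    Polynomial.aeval_algHom_apply (IsScalarTower.toAlgHom k K[X] (RatFunc K)) t R
  have hC : ∀ (R : k[X]) (t : K), Polynomial.aeval (Polynomial.C t) R = Polynomial.C (Polynomial.aeval t R) :=
    fun R t => Polynomial.aeval_algHom_apply (IsScalarTower.toAlgHom k K K[X]) t R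
  have hcL : θ (RatFunc.eval (algebraMap k L) (algebraMap (MvPolynomial (Fin 2) k) L (MvPolynomial.X 0)) F) =
      ι (Polynomial.C c) := by
    rw [hθev, hθ]
    show Polynomial.aeval (ι (θ₀ (MvPolynomial.X 0))) P / Polynomial.aeval (ι (θ₀ (MvPolynomial.X 0))) Q = _
    rw [hx₀, hι, hι, hC, hC, div_eq_iff]
    · rw [← map_mul, ← Polynomial.C_mul, hc, div_mul_cancel₀ _ hQx]
    · simpa [ι] using hQx
  have h := congrArg θ hFE
  rw [map_mul, hcL, hθev, map_add, map_mul, hcL, hθev, hθ, hθ] at h
  change Polynomial.aeval (ι (θ₀ _) + ι (θ₀ _) * ι (Polynomial.C c)) P /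
      Polynomial.aeval (ι (θ₀ _) + ι (θ₀ _) * ι (Polynomial.C c)) Q =
    ι (Polynomial.C c) * (Polynomial.aeval (ι (θ₀ _)) P / Polynomial.aeval (ι (θ₀ _)) Q) at h
  rw [hx₀, hx₁, ← map_mul, ← map_add, hι, hι, hι, hι] at h
  have hXt : ∀ R : k[X], Polynomial.aeval (Polynomial.X : K[X]) R = R.map (algebraMap k K) := fun R => by
    rw [Polynomial.aeval_X_left_eq_map]
  have hQy : ι (Polynomial.aeval (Polynomial.X : K[X]) Q) ≠ 0 := by
    rw [hXt, map_ne_zero_iff _ (IsFractionRing.injective K[X] (RatFunc K))]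
    exact Polynomial.map_ne_zero F.denom_ne_zero
  have hPy : ι (Polynomial.aeval (Polynomial.X : K[X]) P) ≠ 0 := by
    rw [hXt, map_ne_zero_iff _ (IsFractionRing.injective K[X] (RatFunc K))]
    exact Polynomial.map_ne_zero hPne
  have hQu : ι (Polynomial.aeval (Polynomial.C xK + Polynomial.X * Polynomial.C c) Q) ≠ 0 := by
    intro h'
    rw [h', div_zero] at h
    exact mul_ne_zero (by simpa [ι] using hc0) (div_ne_zero hPy hQy) h.symm
  rw [mul_div_assoc', div_eq_div_iff hQu hQy, ← map_mul, ← map_mul, ← map_mul] at h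
  have hid := IsFractionRing.injective K[X] (RatFunc K) h
  -- pass to an algebraic closure
  let M := AlgebraicClosure K
  have hev : ∀ (R : k[X]) (t : K[X]) (y : M),
      Polynomial.aeval y (Polynomial.aeval t R) = Polynomial.aeval (Polynomial.aeval y t) R := fun R t y =>
    (Polynomial.aeval_algHom_apply ((Polynomial.aeval y).restrictScalars k) t R).symm
  obtain ⟨hQ1, hPd⟩ := core (algebraMap K M xK) (algebraMap K M c)
    ((transcendental_algebraMap_iff (algebraMap K M).injective).mpr htr) P Q
    (RatFunc.isCoprime_num_denom F) (RatFunc.monic_denom F) (by rwa [h1]) h0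
    (by simpa using hc0)
    (by rw [Polynomial.aeval_algebraMap_apply, Polynomial.aeval_algebraMap_apply, ← map_mul, hc,
          div_mul_cancel₀ _ hQx])
    (fun y => by
      have e := congrArg (Polynomial.aeval y) hid
      simp only [map_mul, hev, map_add, Polynomial.aeval_C, Polynomial.aeval_X] at e
      rw [mul_comm y] at e
      linear_combination e)
  refine ⟨P.coeff 1, ?_⟩
  have hP := Polynomial.eq_X_add_C_of_natDegree_le_one hPd
  have hP1 : P.coeff 0 = 1 := by rw [Polynomial.coeff_zero_eq_eval_zero, h1, hQ1]; simp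
  have hF := RatFunc.num_div_denom F
  rw [show (F.denom : k[X]) = 1 from hQ1, map_one, div_one, show F.num = P from rfl, hP, hP1] at hF
  rw [← hF]
  simp [RatFunc.algebraMap_C, RatFunc.algebraMap_X, add_comm]
  exact Or.inl rfl

end Groth.Agent.S8471
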