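import Groth.Statements.S8473
import Groth.Agent.Reductive2.FieldPts
import Groth.Agent.Reductive2.TorusBasic
import Groth.Agent.AlgGrp1.SmoothReduced
import Groth.Agent.AlgGrp1.Basic
import Groth.Agent.DescentBase.DimEtale

set_option autoImplicit false
universe u
open CategoryTheory MonoidalCategory CartesianMonoidalCategory MonObj GrpObj AlgebraicGeometry CategoryTheory.Limits
open Red

namespace Groth.Agent.S8473

/-- Let k be an algebraically closed field, T a k-torus, α : T ⟶ 𝔾_m a non-trivial character and P the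
semi-direct product T ⋉_α 𝔾_a, given as a k-group P with homomorphisms j_T : T ⟶ P and j_U : 𝔾_a ⟶ P
such that (t, x) ↦ j_T(t) j_U(x) is an isomorphism of schemes T × 𝔾_a ≅ P and j_T(t) j_U(x) j_T(t)⁻¹
= j_U(α(t) x). Let n : N ⟶ P be a normal subgroup scheme which is étale over k and such that N ∩ T
is trivial (a point of N whose image is in j_T(T) is the unit). Then N is the trivial group. -/
theorem result (K : Type u) [Field K] [IsAlgClosed K]
    (T P N : Over (Spec (CommRingCat.of K))) [GrpObj T] [GrpObj P] [GrpObj N] (hT : Red.IsTorus T)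
    (α : T ⟶ Red.Gm (Spec (CommRingCat.of K))) [IsMonHom α] (hα : α ≠ 1)
    (jT : T ⟶ P) [IsMonHom jT] (jU : Red.Ga (Spec (CommRingCat.of K)) ⟶ P) [IsMonHom jU] (hiso : IsIso ((jT ⊗ₘ jU) ≫ μ[P]))
    (hconj : ∀ (X : Over (Spec (CommRingCat.of K))) (t : X ⟶ T) (x x' : X ⟶ Red.Ga (Spec (CommRingCat.of K))), Red.gaFn x' = Red.gmFn (t ≫ α) * Red.gaFn x →
      (t ≫ jT) * (x ≫ jU) * (t ≫ jT)⁻¹ = x' ≫ jU)
    (n : N ⟶ P) [IsMonHom n] [Mono n] (hn : AlgGrp.IsNormalHom n) (het : Etale N.hom)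
    (hNT : ∀ (X : Over (Spec (CommRingCat.of K))) (t : X ⟶ T) (m : X ⟶ N), t ≫ jT = m ≫ n → m = 1) :
    Red.IsTrivialGrp N := by
  let S := Spec (CommRingCat.of K)
  have hlift : ∀ {X : Over S} (a : X ⟶ T) (b : X ⟶ Red.Ga S),
      lift a b ≫ ((jT ⊗ₘ jU) ≫ μ[P]) = (a ≫ jT) * (b ≫ jU) := fun a b => by
    rw [lift_map_assoc]; rfl
  have hinj : ∀ {X : Over S} (b b' : X ⟶ Red.Ga S), b ≫ jU = b' ≫ jU → b = b' := fun {X} b b' h => by
    have e : lift (1 : X ⟶ T) b = lift 1 b' := by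
      rw [← cancel_mono ((jT ⊗ₘ jU) ≫ μ[P]), hlift, hlift, h]
    simpa using congrArg (· ≫ snd T (Red.Ga S)) e
  have : LocallyOfFiniteType N.hom := inferInstance
  have : IsSeparated N.hom := Groth.AlgGrp1.isSeparated_grpObj N
  have : IsReduced N.left := Groth.AlgGrp1.isReduced_of_smooth N.hom
  have : DiscreteTopology N.left := by
    have : LocallyQuasiFinite N.hom := Groth.DescentBase.locallyQuasiFinite_of_etale _
    have h := N.hom.isDiscrete_preimage (s := (Set.univ : Set S))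
      (Set.subsingleton_of_subsingleton.isDiscrete)
    rw [Set.preimage_univ] at h
    exact isDiscrete_univ_iff.mp h
  have : ConnectedSpace T.left := Groth.Reductive2.connectedSpace_of_isTorus hT
  have main : ∀ m : 𝟙_ (Over S) ⟶ N, m = 1 := by
    intro m
    obtain ⟨p, hp⟩ : ∃ p : 𝟙_ (Over S) ⟶ T ⊗ Red.Ga S, p ≫ ((jT ⊗ₘ jU) ≫ μ[P]) = m ≫ n :=
      ⟨m ≫ n ≫ inv ((jT ⊗ₘ jU) ≫ μ[P]), by simp⟩
    obtain ⟨t, x, rfl⟩ : ∃ t x, lift t x = p := ⟨p ≫ fst _ _, p ≫ snd _ _, lift_comp_fst_snd p⟩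
    rw [hlift] at hp
    suffices hx : x = 1 by
      rw [hx, MonObj.one_comp, _root_.mul_one] at hp
      exact hNT _ t m hp
    obtain ⟨c, hc⟩ := hn T jT (toUnit T ≫ m)
    -- a value of the character different from one
    obtain ⟨c₀, hc0, hc1⟩ : ∃ c₀ : K, c₀ ≠ 0 ∧ c₀ ≠ 1 := by
      classical
      obtain ⟨c₀, hc₀⟩ := Infinite.exists_notMem_finset ({0, 1} : Finset K)
      simp only [Finset.mem_insert, Finset.mem_singleton, not_or] at hc₀
      exact ⟨c₀, hc₀⟩
    let e : K →+* Γ((𝟙_ (Over S)).left, ⊤) := (Scheme.ΓSpecIso (CommRingCat.of K)).inv.hom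
    let z := Groth.Reductive.gmMk (𝟙_ (Over S)) ((Units.mk0 c₀ hc0).map e.toMonoidHom)
    obtain ⟨L, _, str, s, hs⟩ := Groth.Reductive2.exists_point_char hT α hα z
    let Y : Over S := Over.mk str
    have hcomm : (s ≫ jT) * (toUnit Y ≫ m ≫ n) * (s ≫ jT)⁻¹ = toUnit Y ≫ m ≫ n := by
      have key : ∀ q : Y ⟶ T, q ≫ c ≫ n = (q ≫ jT) * (toUnit Y ≫ m ≫ n) * (q ≫ jT)⁻¹ := fun q => by
        rw [← hc, MonObj.comp_mul, MonObj.comp_mul, GrpObj.comp_inv, Category.assoc,
          ← Category.assoc q (toUnit T), comp_toUnit]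
      rw [← key, ← Category.assoc, Groth.Reductive2.eq_of_connected c s (1 : Y ⟶ T), Category.assoc,
        key, MonObj.one_comp, _root_.one_mul, inv_one, _root_.mul_one]
    obtain ⟨y, hy⟩ : ∃ y : Y ⟶ Red.Ga S,
        Red.gaFn y = Red.gmFn (s ≫ α) * Red.gaFn (toUnit Y ≫ x) :=
      ⟨_, Groth.Reductive.gaFn_gaMk _⟩
    have hsx := hconj Y s (toUnit Y ≫ x) y hy
    have hts : (toUnit Y ≫ t ≫ jT) * (s ≫ jT) = (s ≫ jT) * (toUnit Y ≫ t ≫ jT) := by
      rw [← Category.assoc, ← MonObj.mul_comp, Groth.Reductive2.torus_mul_comm hT, MonObj.mul_comp]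
    rw [← hp, MonObj.comp_mul, ← _root_.mul_assoc, ← hts, _root_.mul_assoc (toUnit Y ≫ t ≫ jT),
      _root_.mul_assoc (toUnit Y ≫ t ≫ jT)] at hcomm
    have hyx := hinj y (toUnit Y ≫ x) (by
      rw [← hsx, Category.assoc]; exact mul_left_cancel hcomm)
    rw [hyx, hs, Groth.Reductive.gmFn_comp, Groth.Reductive.gaFn_comp, Groth.Reductive.gmFn_gmMk] at hy
    change (toUnit Y).left.appTop.hom (Red.gaFn x) =
      (toUnit Y).left.appTop.hom (e c₀) * (toUnit Y).left.appTop.hom (Red.gaFn x) at hy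
    have hK : IsField Γ((𝟙_ (Over S)).left, ⊤) :=
      (Scheme.ΓSpecIso (CommRingCat.of K)).commRingCatIsoToRingEquiv.toMulEquiv.isField (Field.toIsField K)
    letI := hK.toField
    have : Nontrivial Γ(Y.left, ⊤) :=
      (Scheme.ΓSpecIso (CommRingCat.of L)).commRingCatIsoToRingEquiv.toEquiv.nontrivial
    rw [← map_mul] at hy
    have h0 : (e c₀ - 1) * Red.gaFn x = 0 := by
      rw [sub_mul, _root_.one_mul, sub_eq_zero]
      exact ((toUnit Y).left.appTop.hom.injective hy).symm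
    refine Groth.Reductive.gaFn_injective ?_
    rw [Groth.Reductive.gaFn_one]
    exact (mul_eq_zero.mp h0).resolve_left (sub_ne_zero.mpr fun he => hc1 (by
      have : Function.Injective e := ((Scheme.ΓSpecIso (CommRingCat.of K)).symm.commRingCatIsoToRingEquiv).injective
      exact this (he.trans (map_one e).symm)))
  have hid : 𝟙 N.left = N.hom ≫ η[N].left := by
    have : LocallyOfFiniteType (𝟙 N.left ≫ N.hom) := by rw [Category.id_comp]; infer_instance
    refine ext_of_apply_eq N.hom Set.univ isOpen_univ.isLocallyClosed dense_univ ?_ (by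
      rw [Category.assoc, Over.w η[N]]; simp)
    intro x _ hx
    let m : 𝟙_ (Over S) ⟶ N := Over.homMk (pointOfClosedPoint N.hom x hx) (pointOfClosedPoint_comp _ _ _)
    have hm : m = η[N] := (main m).trans (by rw [Hom.one_def, toUnit_unit, Category.id_comp])
    show x = η[N].left.base (N.hom.base x)
    rw [← hm]
    exact (pointOfClosedPoint_apply N.hom x hx _).symm
  exact ⟨η[N].left, hid.symm, Over.w η[N]⟩

end Groth.Agent.S8473
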