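import Groth.Statements.S8476
import Groth.Agent.Reductive.RankOne

set_option autoImplicit false
universe u
open CategoryTheory MonoidalCategory CartesianMonoidalCategory MonObj GrpObj AlgebraicGeometry CategoryTheory.Limits
open Red

namespace Groth.Agent.S8476

/-- The product of two elements of the big cell: Let G be an S-group scheme, i : T ⟶ G a torus of G (a
monomorphism of groups), α : T ⟶ 𝔾_m and α^* : 𝔾_m ⟶ T homomorphisms with α ∘ α^* the squaring map,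
and p₊, p₋ : 𝔾_a ⟶ G homomorphisms normalised by T with multipliers α and α⁻¹ which satisfy the
rank-one commutation rule: whenever 1 + xy is invertible, p₊(x) p₋(y) = p₋(y/(1+xy)) · i(α^*(1+xy))
· p₊(x/(1+xy)) (the situation of any reductive group of semisimple rank 1 with trivialised root
groups, where α^* is the coroot). Let y, t, x, y', t', x' be points (of 𝔾_a, T, 𝔾_a, ...) with u = 1
+ x y' invertible. Then p₋(y) i(t) p₊(x) · p₋(y') i(t') p₊(x') = p₋(y + y'/(u α(t))) · i(t α^*(u)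
t') · p₊(x/(u α(t')) + x'). (The published statement is for a reductive group of semisimple rank one
with a maximal torus and a root, and also asserts that the product lies in the big cell only if u is
invertible; this row assumes only the commutation rule, the normalisation of p₊, p₋ by T and α ∘ α^*
the squaring map, which is all the published proof uses for the product formula, and does not assert
the converse membership statement.) -/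
theorem result (S : Scheme.{u}) (G T : Over S) [GrpObj G] [GrpObj T] (i : T ⟶ G) [IsMonHom i] [Mono i] (hT : Red.IsTorus T)
    (α : T ⟶ Red.Gm S) [IsMonHom α]
    (pp pm : Red.Ga S ⟶ G) [IsMonHom pp] [IsMonHom pm]
    (hpp : ∀ (X : Over S) (t : X ⟶ T) (x : X ⟶ Red.Ga S), ∃ x' : X ⟶ Red.Ga S,
      x' ≫ pp = (t ≫ i) * (x ≫ pp) * (t ≫ i)⁻¹ ∧ Red.gaFn x' = Red.gmFn (t ≫ α) * Red.gaFn x)
    (hpm : ∀ (X : Over S) (t : X ⟶ T) (y : X ⟶ Red.Ga S), ∃ y' : X ⟶ Red.Ga S,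
      y' ≫ pm = (t ≫ i) * (y ≫ pm) * (t ≫ i)⁻¹ ∧ Red.gaFn y' * Red.gmFn (t ≫ α) = Red.gaFn y)
    (av : Red.Gm S ⟶ T) [IsMonHom av] (h2 : av ≫ α = (𝟙 (Red.Gm S)) ^ 2)
    (hF : ∀ (X : Over S) (x y : X ⟶ Red.Ga S), IsUnit (1 + Red.gaFn x * Red.gaFn y) →
      ∃ (x' y' : X ⟶ Red.Ga S) (z : X ⟶ Red.Gm S), Red.gmFn z = 1 + Red.gaFn x * Red.gaFn y ∧
        Red.gaFn x' * Red.gmFn z = Red.gaFn x ∧ Red.gaFn y' * Red.gmFn z = Red.gaFn y ∧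
        (x ≫ pp) * (y ≫ pm) = (y' ≫ pm) * (z ≫ av ≫ i) * (x' ≫ pp))
    (X : Over S) (x y x' y' y₂ x₂ : X ⟶ Red.Ga S) (t t' : X ⟶ T) (z : X ⟶ Red.Gm S)
    (hz : Red.gmFn z = 1 + Red.gaFn x * Red.gaFn y')
    (hy₂ : (Red.gaFn y₂ - Red.gaFn y) * Red.gmFn z * Red.gmFn (t ≫ α) = Red.gaFn y')
    (hx₂ : (Red.gaFn x₂ - Red.gaFn x') * Red.gmFn z * Red.gmFn (t' ≫ α) = Red.gaFn x) :
    ((y ≫ pm) * (t ≫ i) * (x ≫ pp)) * ((y' ≫ pm) * (t' ≫ i) * (x' ≫ pp)) =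
      (y₂ ≫ pm) * ((t * (z ≫ av) * t') ≫ i) * (x₂ ≫ pp) := by
  set 𝒮 := Groth.Reductive.rankOneOfPoints i α pp pm hpp hpm av h2 hF X with h𝒮
  obtain ⟨u, hu⟩ := Groth.Reductive.isUnit_gmFn z
  have hr := 𝒮.rule (Red.gaFn x) (Red.gaFn y') u (by rw [hu, hz])
  have ha : ∀ s : X ⟶ T, (𝒮.a s : Γ(X.left, ⊤)) = Red.gmFn (s ≫ α) := fun s ↦ rfl
  have ey : Red.gaFn y₂ = Red.gaFn y + ↑(𝒮.a t)⁻¹ * (↑u⁻¹ * Red.gaFn y') := by
    rw [← hy₂, ← ha, ← hu]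
    linear_combination (-(Red.gaFn y₂ - Red.gaFn y) * ↑u⁻¹ * ↑u) * (𝒮.a t).inv_mul
      - (Red.gaFn y₂ - Red.gaFn y) * u.inv_mul
  have ex : Red.gaFn x₂ = ↑(𝒮.a t')⁻¹ * (↑u⁻¹ * Red.gaFn x) + Red.gaFn x' := by
    rw [← hx₂, ← ha, ← hu]
    linear_combination (-(Red.gaFn x₂ - Red.gaFn x') * ↑u⁻¹ * ↑u) * (𝒮.a t').inv_mul
      - (Red.gaFn x₂ - Red.gaFn x') * u.inv_mul
  have hz' : z = Groth.Reductive.gmMk X u := Groth.Reductive.gmFn_injective (by simp [hu])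
  have hcP : 𝒮.P (↑u⁻¹ * Red.gaFn x) * 𝒮.τ t' = 𝒮.τ t' * 𝒮.P (↑(𝒮.a t')⁻¹ * (↑u⁻¹ * Red.gaFn x)) := by
    rw [𝒮.conjP, ← _root_.mul_assoc, Units.mul_inv, _root_.one_mul]
  rw [Groth.Reductive.comp_eq_gaMk_comp y, Groth.Reductive.comp_eq_gaMk_comp x,
    Groth.Reductive.comp_eq_gaMk_comp y', Groth.Reductive.comp_eq_gaMk_comp x',
    Groth.Reductive.comp_eq_gaMk_comp y₂, Groth.Reductive.comp_eq_gaMk_comp x₂]
  show 𝒮.M _ * 𝒮.τ t * 𝒮.P _ * (𝒮.M _ * 𝒮.τ t' * 𝒮.P _) = 𝒮.M _ * 𝒮.τ (t * (z ≫ av) * t') * 𝒮.P _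
  have hh : z ≫ av = 𝒮.h u := by rw [hz']; rfl
  rw [ey, ex, hh, map_mul, map_mul, 𝒮.M_add, 𝒮.P_add]
  calc 𝒮.M (Red.gaFn y) * 𝒮.τ t * 𝒮.P (Red.gaFn x) *
        (𝒮.M (Red.gaFn y') * 𝒮.τ t' * 𝒮.P (Red.gaFn x'))
      = 𝒮.M (Red.gaFn y) * 𝒮.τ t * (𝒮.P (Red.gaFn x) * 𝒮.M (Red.gaFn y')) * 𝒮.τ t' *
          𝒮.P (Red.gaFn x') := by simp only [_root_.mul_assoc]
    _ = 𝒮.M (Red.gaFn y) * (𝒮.τ t * 𝒮.M (↑u⁻¹ * Red.gaFn y')) * 𝒮.τ (𝒮.h u) *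
          (𝒮.P (↑u⁻¹ * Red.gaFn x) * 𝒮.τ t') * 𝒮.P (Red.gaFn x') := by
        rw [hr]; simp only [_root_.mul_assoc]
    _ = _ := by rw [𝒮.conjM, hcP]; simp only [_root_.mul_assoc]

end Groth.Agent.S8476
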