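import Groth.Statements.S8478
import Groth.Agent.Reductive2.RankOneIso

-- import your own Groth.Agent.* helpers here

set_option autoImplicit false
universe u
open CategoryTheory MonoidalCategory CartesianMonoidalCategory MonObj GrpObj AlgebraicGeometry CategoryTheory.Limits
open Red

namespace Groth.Agent.S8478

/-- Let (G, T, α, p₊, p₋, α^*) and (G', T', α', p'₊, p'₋, α'^*) be two rank-one systems over S: G
reductive, i : T ⟶ G a maximal torus, α a character of T non-trivial on every geometric fibre, p₊,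
p₋ : 𝔾_a ⟶ G monomorphisms normalised by T with multipliers α, α⁻¹ whose cell map (y, t, x) ↦ p₋(y)
i(t) p₊(x) is an open immersion, α^* : 𝔾_m ⟶ T with α ∘ α^* the squaring map and p₊(x) p₋(y) =
p₋(y/(1+xy)) · i(α^*(1+xy)) · p₊(x/(1+xy)) whenever 1 + xy is invertible; likewise for the primed
data. Let q > 0 be an integer such that x ↦ x^q is additive on all functions of S-schemes. Let c be
an S-point of 𝔾_m and f : G ⟶ G' a homomorphism with f(p₊(x)) = p'₊(c x^q) for all points x of 𝔾_a.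
Write w(x) = p₊(x) p₋(-x⁻¹) p₊(x) and w'(x) = p'₊(x) p'₋(-x⁻¹) p'₊(x) for points x with invertible
coordinate. Then the following are equivalent: (i) f(i(α^*(z))) = i'(α'^*(z))^q for all points z of
𝔾_m; (ii) f(w(x)) = w'(c x^q) for all x with invertible coordinate; (iii) f(p₋(y)) = p'₋(c⁻¹ y^q)
for all points y. -/
theorem result (S : Scheme.{u}) (G T : Over S) [GrpObj G] [GrpObj T] (i : T ⟶ G) [IsMonHom i] [Mono i] (hG : Red.IsReductive G) (hTm : Red.IsMaximalTorus i)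
    (α : T ⟶ Red.Gm S) [IsMonHom α] (hα : ∀ s : S, (Over.pullback (Red.geomPt s)).map α ≠ 1)
    (pp pm : Red.Ga S ⟶ G) [IsMonHom pp] [Mono pp] [IsMonHom pm] [Mono pm]
    (hpp : ∀ (X : Over S) (t : X ⟶ T) (x : X ⟶ Red.Ga S), ∃ x' : X ⟶ Red.Ga S,
      x' ≫ pp = (t ≫ i) * (x ≫ pp) * (t ≫ i)⁻¹ ∧ Red.gaFn x' = Red.gmFn (t ≫ α) * Red.gaFn x)
    (hpm : ∀ (X : Over S) (t : X ⟶ T) (y : X ⟶ Red.Ga S), ∃ y' : X ⟶ Red.Ga S,
      y' ≫ pm = (t ≫ i) * (y ≫ pm) * (t ≫ i)⁻¹ ∧ Red.gaFn y' * Red.gmFn (t ≫ α) = Red.gaFn y)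
    (hΩ : IsOpenImmersion (((pm ⊗ₘ i) ⊗ₘ pp) ≫ (μ[G] ▷ G) ≫ μ[G]).left)
    (av : Red.Gm S ⟶ T) [IsMonHom av] (h2 : av ≫ α = (𝟙 (Red.Gm S)) ^ 2)
    (hF : ∀ (X : Over S) (x y : X ⟶ Red.Ga S), IsUnit (1 + Red.gaFn x * Red.gaFn y) →
      ∃ (x' y' : X ⟶ Red.Ga S) (z : X ⟶ Red.Gm S), Red.gmFn z = 1 + Red.gaFn x * Red.gaFn y ∧
        Red.gaFn x' * Red.gmFn z = Red.gaFn x ∧ Red.gaFn y' * Red.gmFn z = Red.gaFn y ∧
        (x ≫ pp) * (y ≫ pm) = (y' ≫ pm) * (z ≫ av ≫ i) * (x' ≫ pp))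
    (G' T' : Over S) [GrpObj G'] [GrpObj T'] (i' : T' ⟶ G') [IsMonHom i'] [Mono i'] (hG' : Red.IsReductive G') (hTm' : Red.IsMaximalTorus i')
    (α' : T' ⟶ Red.Gm S) [IsMonHom α'] (hα' : ∀ s : S, (Over.pullback (Red.geomPt s)).map α' ≠ 1)
    (pp' pm' : Red.Ga S ⟶ G') [IsMonHom pp'] [Mono pp'] [IsMonHom pm'] [Mono pm']
    (hpp' : ∀ (X : Over S) (t : X ⟶ T') (x : X ⟶ Red.Ga S), ∃ x' : X ⟶ Red.Ga S,
      x' ≫ pp' = (t ≫ i') * (x ≫ pp') * (t ≫ i')⁻¹ ∧ Red.gaFn x' = Red.gmFn (t ≫ α') * Red.gaFn x)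
    (hpm' : ∀ (X : Over S) (t : X ⟶ T') (y : X ⟶ Red.Ga S), ∃ y' : X ⟶ Red.Ga S,
      y' ≫ pm' = (t ≫ i') * (y ≫ pm') * (t ≫ i')⁻¹ ∧ Red.gaFn y' * Red.gmFn (t ≫ α') = Red.gaFn y)
    (hΩ' : IsOpenImmersion (((pm' ⊗ₘ i') ⊗ₘ pp') ≫ (μ[G'] ▷ G') ≫ μ[G']).left)
    (av' : Red.Gm S ⟶ T') [IsMonHom av'] (h2' : av' ≫ α' = (𝟙 (Red.Gm S)) ^ 2)
    (hF' : ∀ (X : Over S) (x y : X ⟶ Red.Ga S), IsUnit (1 + Red.gaFn x * Red.gaFn y) →
      ∃ (x' y' : X ⟶ Red.Ga S) (z : X ⟶ Red.Gm S), Red.gmFn z = 1 + Red.gaFn x * Red.gaFn y ∧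
        Red.gaFn x' * Red.gmFn z = Red.gaFn x ∧ Red.gaFn y' * Red.gmFn z = Red.gaFn y ∧
        (x ≫ pp') * (y ≫ pm') = (y' ≫ pm') * (z ≫ av' ≫ i') * (x' ≫ pp'))
    (q : ℕ) (hq0 : 0 < q) (hq : ∀ (X : Over S) (a b : Γ(X.left, ⊤)), (a + b) ^ q = a ^ q + b ^ q) (c : 𝟙_ (Over S) ⟶ Red.Gm S) (f : G ⟶ G') [IsMonHom f]
    (hf : ∀ (X : Over S) (x y : X ⟶ Red.Ga S), Red.gaFn y = Red.gmFn (toUnit X ≫ c) * Red.gaFn x ^ q →
      (x ≫ pp) ≫ f = y ≫ pp') :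
    [∀ (X : Over S) (z : X ⟶ Red.Gm S), (z ≫ av ≫ i) ≫ f = ((z ≫ av') ^ q) ≫ i',
      ∀ (X : Over S) (x x' y y' : X ⟶ Red.Ga S), Red.gaFn x' * Red.gaFn x = -1 →
        Red.gaFn y = Red.gmFn (toUnit X ≫ c) * Red.gaFn x ^ q → Red.gaFn y' * Red.gaFn y = -1 →
        ((x ≫ pp) * (x' ≫ pm) * (x ≫ pp)) ≫ f = (y ≫ pp') * (y' ≫ pm') * (y ≫ pp'),
      ∀ (X : Over S) (x y : X ⟶ Red.Ga S), Red.gaFn y * Red.gmFn (toUnit X ≫ c) = Red.gaFn x ^ q →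
        (x ≫ pm) ≫ f = y ≫ pm'].TFAE := by
  let D : Groth.Reductive2.Sys G T :=
    { i := i, α := α, pp := pp, pm := pm, hpp := hpp, hpm := hpm, hΩ := hΩ, hG := hG, hT := hTm.2.2.1,
      hα := hα, av := av, h2 := h2, hF := hF }
  let D' : Groth.Reductive2.Sys G' T' :=
    { i := i', α := α', pp := pp', pm := pm', hpp := hpp', hpm := hpm', hΩ := hΩ', hG := hG', hT := hTm'.2.2.1,
      hα := hα', av := av', h2 := h2', hF := hF' }
  obtain ⟨u, hu⟩ := Groth.Reductive.isUnit_gmFn c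
  have hc : ∀ X : Over S, Groth.Reductive2.pull (toUnit X) ↑u = Red.gmFn (toUnit X ≫ c) := fun X ↦ by
    rw [hu]; exact (Groth.Reductive.gmFn_comp _ _).symm
  have hν : Groth.Reductive2.Sys.MapP D D' f q ↑u := fun X r ↦
    hf X (Groth.Reductive.gaMk X r) (Groth.Reductive.gaMk X _)
      (by rw [Groth.Reductive.gaFn_gaMk, Groth.Reductive.gaFn_gaMk, hc])
  tfae_have 1 → 3 := fun h X x y hy ↦ by
    have hh : Groth.Reductive2.Sys.CorootCompat D D' f q := fun X v ↦ by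
      have := h X (Groth.Reductive.gmMk X v)
      rw [← Category.assoc] at this
      rw [map_pow]
      exact this
    have h1 := Groth.Reductive2.Sys.mapM_of_compat hq0 hq hh hν X (Red.gaFn x)
    rw [← D.comp_pm, ← hy, _root_.mul_comm (Red.gaFn y), ← _root_.mul_assoc, ← hc, ← map_mul,
      Units.inv_mul, map_one, _root_.one_mul, ← D'.comp_pm] at h1
    exact h1
  tfae_have 3 → 2 := fun h X x x' y y' hx hy hy' ↦ by
    rw [MonObj.mul_comp, MonObj.mul_comp, hf X x y hy, h X x' y' ?_]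
    obtain ⟨e, he⟩ := Groth.Reductive.isUnit_gmFn (toUnit X ≫ c)
    rw [← he] at hy ⊢
    have h2 : Red.gaFn x' ^ q * Red.gaFn x ^ q = -1 := by
      rw [← mul_pow, hx, Groth.Reductive2.Sys.neg_pow_q hq0 hq, one_pow]
    rw [hy] at hy'
    linear_combination (Red.gaFn y' * ↑e) * h2 - Red.gaFn x' ^ q * hy'
  tfae_have 2 → 1 := fun h X z ↦ by
    have hw : ∀ (X : Over S) (x : Γ(X.left, ⊤)ˣ), (D.pts X).w x ≫ f =
        (D'.pts X).w (Units.map (Groth.Reductive2.pull (toUnit X)).toMonoidHom u * x ^ q) := fun X x ↦ by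
      have := h X (Groth.Reductive.gaMk X ↑x) (Groth.Reductive.gaMk X (-↑x⁻¹))
        (Groth.Reductive.gaMk X ↑(Units.map (Groth.Reductive2.pull (toUnit X)).toMonoidHom u * x ^ q))
        (Groth.Reductive.gaMk X (-↑(Units.map (Groth.Reductive2.pull (toUnit X)).toMonoidHom u * x ^ q)⁻¹))
        (by simp) (by simp only [Groth.Reductive.gaFn_gaMk, Units.val_mul, Units.val_pow_eq_pow_val, ← hc]; rfl)
        (by rw [Groth.Reductive.gaFn_gaMk, Groth.Reductive.gaFn_gaMk, neg_mul, Units.inv_mul])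
      exact this
    have h2 := Groth.Reductive2.Sys.corootCompat_of_w hw X (Groth.Reductive.isUnit_gmFn z).unit
    rw [map_pow, ← D.comp_av, ← D'.comp_av] at h2
    rwa [← Category.assoc]
  tfae_finish

end Groth.Agent.S8478
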