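import Groth.Statements.S8483
import Groth.Agent.Reductive2.RankOneConj

set_option autoImplicit false
universe u
open CategoryTheory MonoidalCategory CartesianMonoidalCategory MonObj GrpObj AlgebraicGeometry CategoryTheory.Limits
open Red

namespace Groth.Agent.S8483

/-- Let G be a reductive S-group, i : T ⟶ G a maximal torus, α a character of T non-trivial on every
geometric fibre, p₊, p₋ : 𝔾_a ⟶ G monomorphisms of groups normalised by T with multipliers α and α⁻¹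
whose cell map (y, t, x) ↦ p₋(y) i(t) p₊(x) is an open immersion 𝔾_a ×_S T ×_S 𝔾_a ⟶ G, and α^* :
𝔾_m ⟶ T the coroot: α ∘ α^* is the squaring map and p₊(x) p₋(y) = p₋(y/(1+xy)) · i(α^*(1+xy)) ·
p₊(x/(1+xy)) whenever 1 + xy is invertible (so p₊ and p₋ are dual to each other). For points x, y of
𝔾_a with invertible coordinates put w(x) = p₊(x) p₋(-x⁻¹) p₊(x) and w₋(y) = p₋(y) p₊(-y⁻¹) p₋(y).
Then w₋(x⁻¹) = w(x)⁻¹ = w(-x), and w(x) w₋(y) = i(α^*(x y)). -/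
theorem result (S : Scheme.{u}) (G T : Over S) [GrpObj G] [GrpObj T] (i : T ⟶ G) [IsMonHom i] [Mono i] (hG : Red.IsReductive G) (hTm : Red.IsMaximalTorus i)
    (α : T ⟶ Red.Gm S) [IsMonHom α] (hα : ∀ s : S, (Over.pullback (Red.geomPt s)).map α ≠ 1)
    (pp pm : Red.Ga S ⟶ G) [IsMonHom pp] [Mono pp] [IsMonHom pm] [Mono pm]
    (hpp : ∀ (X : Over S) (t : X ⟶ T) (x : X ⟶ Red.Ga S), ∃ x' : X ⟶ Red.Ga S,
      x' ≫ pp = (t ≫ i) * (x ≫ pp) * (t ≫ i)⁻¹ ∧ Red.gaFn x' = Red.gmFn (t ≫ α) * Red.gaFn x)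
    (hpm : ∀ (X : Over S) (t : X ⟶ T) (y : X ⟶ Red.Ga S), ∃ y' : X ⟶ Red.Ga S,
      y' ≫ pm = (t ≫ i) * (y ≫ pm) * (t ≫ i)⁻¹ ∧ Red.gaFn y' * Red.gmFn (t ≫ α) = Red.gaFn y)
    (hΩ : IsOpenImmersion (((pm ⊗ₘ i) ⊗ₘ pp) ≫ (μ[G] ▷ G) ≫ μ[G]).left)
    (av : Red.Gm S ⟶ T) [IsMonHom av] (h2 : av ≫ α = (𝟙 (Red.Gm S)) ^ 2)
    (hF : ∀ (X : Over S) (x y : X ⟶ Red.Ga S), IsUnit (1 + Red.gaFn x * Red.gaFn y) →
      ∃ (x' y' : X ⟶ Red.Ga S) (z : X ⟶ Red.Gm S), Red.gmFn z = 1 + Red.gaFn x * Red.gaFn y ∧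
        Red.gaFn x' * Red.gmFn z = Red.gaFn x ∧ Red.gaFn y' * Red.gmFn z = Red.gaFn y ∧
        (x ≫ pp) * (y ≫ pm) = (y' ≫ pm) * (z ≫ av ≫ i) * (x' ≫ pp))
    (X : Over S) (x x' nx nx' y y' : X ⟶ Red.Ga S) (hx : Red.gaFn x' * Red.gaFn x = -1) (hnx : Red.gaFn nx = - Red.gaFn x)
    (hnx' : Red.gaFn nx' = - Red.gaFn x') (hy : Red.gaFn y' * Red.gaFn y = -1) (z : X ⟶ Red.Gm S)
    (hz : Red.gmFn z = Red.gaFn x * Red.gaFn y) :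
    (nx' ≫ pm) * (nx ≫ pp) * (nx' ≫ pm) = ((x ≫ pp) * (x' ≫ pm) * (x ≫ pp))⁻¹ ∧
      (nx ≫ pp) * (nx' ≫ pm) * (nx ≫ pp) = ((x ≫ pp) * (x' ≫ pm) * (x ≫ pp))⁻¹ ∧
      ((x ≫ pp) * (x' ≫ pm) * (x ≫ pp)) * ((y ≫ pm) * (y' ≫ pp) * (y ≫ pm)) = z ≫ av ≫ i := by
  set 𝒮 := Groth.Reductive.rankOneOfPoints i α pp pm hpp hpm av h2 hF X with h𝒮
  have : IsAffineHom G.hom := hG.1
  have H : ∀ (v : Γ(X.left, ⊤)ˣ) (r : Γ(X.left, ⊤)),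
      𝒮.w v * 𝒮.P r * (𝒮.w v)⁻¹ = 𝒮.M (-(↑v⁻¹ * ↑v⁻¹ * r)) :=
    Groth.Reductive.conj_w_P i α pp pm hpp hpm av h2 hF
  have hinv : ∀ (a a' : X ⟶ Red.Ga S) (v : Γ(X.left, ⊤)ˣ), Red.gaFn a = v →
      Red.gaFn a' * Red.gaFn a = -1 → Red.gaFn a' = -↑v⁻¹ := by
    intro a a' v hv ha
    rw [hv] at ha
    linear_combination (↑v⁻¹ : Γ(X.left, ⊤)) * ha - Red.gaFn a' * v.mul_inv
  obtain ⟨ux, hux⟩ : IsUnit (Red.gaFn x) := IsUnit.of_mul_eq_one (-Red.gaFn x') (by linear_combination -hx)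
  have ex' := hinv x x' ux hux.symm hx

  obtain ⟨uy, huy⟩ : IsUnit (Red.gaFn y) := IsUnit.of_mul_eq_one (-Red.gaFn y') (by linear_combination -hy)
  have ey' := hinv y y' uy huy.symm hy
  have hP : ∀ a : X ⟶ Red.Ga S, a ≫ pp = 𝒮.P (Red.gaFn a) := fun a ↦ Groth.Reductive.comp_eq_gaMk_comp a pp
  have hM : ∀ a : X ⟶ Red.Ga S, a ≫ pm = 𝒮.M (Red.gaFn a) := fun a ↦ Groth.Reductive.comp_eq_gaMk_comp a pm
  simp only [hP, hM, hnx, hnx', ex', ey', ← hux, ← huy, neg_neg]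
  have hw : (𝒮.P ↑ux * 𝒮.M (-↑ux⁻¹) * 𝒮.P ↑ux) = 𝒮.w ux := rfl
  have e1 : 𝒮.w (-ux) = (𝒮.w ux)⁻¹ := 𝒮.w_neg ux
  have hn : -(((-ux)⁻¹ : Γ(X.left, ⊤)ˣ) : Γ(X.left, ⊤)) = ↑ux⁻¹ := by rw [inv_neg, Units.val_neg, neg_neg]
  refine ⟨?_, ?_, ?_⟩
  · rw [hw, ← e1, 𝒮.w_eq_MPM H (-ux), hn, Units.val_neg]
  · rw [hw, ← e1]
    unfold Groth.Reductive.RankOne.w
    rw [hn, Units.val_neg]
  · obtain ⟨uz, huz⟩ := Groth.Reductive.isUnit_gmFn z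
    have hz' : z = Groth.Reductive.gmMk X uz := Groth.Reductive.gmFn_injective (by simp [huz])
    have hwy : 𝒮.M ↑uy * 𝒮.P (-↑uy⁻¹) * 𝒮.M ↑uy = 𝒮.w (-uy⁻¹) := by
      rw [𝒮.w_eq_MPM H (-uy⁻¹)]; simp [inv_neg]
    have hzu : uz = ux * uy := Units.ext (by rw [huz, hz, Units.val_mul, hux, huy])
    have hm : uz * -uy⁻¹ = -ux := by rw [hzu]; simp [_root_.mul_assoc]
    rw [hw, hwy, 𝒮.w_mul_w ux (-uy⁻¹) uz hm, hz']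
    exact Category.assoc (Groth.Reductive.gmMk X uz) av i

end Groth.Agent.S8483
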