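import Groth.Statements.S8487
import Groth.Agent.Reductive2.RankOneInvert

set_option autoImplicit false
universe u
open CategoryTheory MonoidalCategory CartesianMonoidalCategory MonObj GrpObj AlgebraicGeometry CategoryTheory.Limits
open Red

namespace Groth.Agent.S8487

/-- Let G be a reductive S-group, i : T ⟶ G a maximal torus, α a character of T non-trivial on every
geometric fibre, p₊, p₋ : 𝔾_a ⟶ G monomorphisms of groups normalised by T with multipliers α and α⁻¹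
whose cell map (y, t, x) ↦ p₋(y) i(t) p₊(x) is an open immersion 𝔾_a ×_S T ×_S 𝔾_a ⟶ G, and α^* :
𝔾_m ⟶ T the coroot: α ∘ α^* is the squaring map and p₊(x) p₋(y) = p₋(y/(1+xy)) · i(α^*(1+xy)) ·
p₊(x/(1+xy)) whenever 1 + xy is invertible (so p₊ and p₋ are dual to each other). Let n be a
non-zero integer and w an S-point of G such that w · i(α^*(z))^n · w⁻¹ = i(α^*(z))^{-n} for all
points z of 𝔾_m (after base change). Then w is a point of N^× = Norm_G(T) − T: it normalises T, with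
w i(t) w⁻¹ = i(α^*(α(t)))⁻¹ i(t) for all points t of T, and for no geometric point s̄ of S does
w(s̄) lie in T. (The published statement is an equivalence; this row states only this implication.) -/
theorem result (S : Scheme.{u}) (G T : Over S) [GrpObj G] [GrpObj T] (i : T ⟶ G) [IsMonHom i] [Mono i] (hG : Red.IsReductive G) (hTm : Red.IsMaximalTorus i)
    (α : T ⟶ Red.Gm S) [IsMonHom α] (hα : ∀ s : S, (Over.pullback (Red.geomPt s)).map α ≠ 1)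
    (pp pm : Red.Ga S ⟶ G) [IsMonHom pp] [Mono pp] [IsMonHom pm] [Mono pm]
    (hpp : ∀ (X : Over S) (t : X ⟶ T) (x : X ⟶ Red.Ga S), ∃ x' : X ⟶ Red.Ga S,
      x' ≫ pp = (t ≫ i) * (x ≫ pp) * (t ≫ i)⁻¹ ∧ Red.gaFn x' = Red.gmFn (t ≫ α) * Red.gaFn x)
    (hpm : ∀ (X : Over S) (t : X ⟶ T) (y : X ⟶ Red.Ga S), ∃ y' : X ⟶ Red.Ga S,
      y' ≫ pm = (t ≫ i) * (y ≫ pm) * (t ≫ i)⁻¹ ∧ Red.gaFn y' * Red.gmFn (t ≫ α) = Red.gaFn y)
    (hΩ : IsOpenImmersion (((pm ⊗ₘ i) ⊗ₘ pp) ≫ (μ[G] ▷ G) ≫ μ[G]).left)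
    (av : Red.Gm S ⟶ T) [IsMonHom av] (h2 : av ≫ α = (𝟙 (Red.Gm S)) ^ 2)
    (hF : ∀ (X : Over S) (x y : X ⟶ Red.Ga S), IsUnit (1 + Red.gaFn x * Red.gaFn y) →
      ∃ (x' y' : X ⟶ Red.Ga S) (z : X ⟶ Red.Gm S), Red.gmFn z = 1 + Red.gaFn x * Red.gaFn y ∧
        Red.gaFn x' * Red.gmFn z = Red.gaFn x ∧ Red.gaFn y' * Red.gmFn z = Red.gaFn y ∧
        (x ≫ pp) * (y ≫ pm) = (y' ≫ pm) * (z ≫ av ≫ i) * (x' ≫ pp))
    (n : ℤ) (hn : n ≠ 0) (w : 𝟙_ (Over S) ⟶ G)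
    (hw : ∀ (X : Over S) (z : X ⟶ Red.Gm S),
      (toUnit X ≫ w) * (((z ≫ av) ^ n) ≫ i) * (toUnit X ≫ w)⁻¹ = ((((z ≫ av) ^ n) ≫ i))⁻¹) :
    (∀ (X : Over S) (t : X ⟶ T), (toUnit X ≫ w) * (t ≫ i) * (toUnit X ≫ w)⁻¹ = (t ≫ α ≫ av ≫ i)⁻¹ * (t ≫ i)) ∧
      ∀ s : S, ¬ ∃ t : Over.mk (Red.geomPt s) ⟶ T, t ≫ i = toUnit (Over.mk (Red.geomPt s)) ≫ w := by
  obtain ⟨t₀, ht₀⟩ := Groth.Reductive.exists_eq_torus_mul_w_inv i α pp pm hpp hpm hΩ hG av h2 hF hTm.2.2.1 n hn w hw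

  have hconj : ∀ (X : Over S) (t : X ⟶ T),
      (toUnit X ≫ w) * (t ≫ i) * (toUnit X ≫ w)⁻¹ = (t ≫ α ≫ av ≫ i)⁻¹ * (t ≫ i) := by
    intro X t
    set 𝒳 := Groth.Reductive.rankOneOfPoints i α pp pm hpp hpm av h2 hF X with h𝒳
    have hw' : toUnit X ≫ w = 𝒳.τ (toUnit X ≫ t₀) * (𝒳.w 1)⁻¹ := by
      rw [ht₀, MonObj.comp_mul, GrpObj.comp_inv, Groth.Reductive.comp_τ i α pp pm hpp hpm av h2 hF,
        Groth.Reductive.comp_w i α pp pm hpp hpm av h2 hF, map_one]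
    show (toUnit X ≫ w) * 𝒳.τ t * (toUnit X ≫ w)⁻¹ = _
    calc (toUnit X ≫ w) * 𝒳.τ t * (toUnit X ≫ w)⁻¹
        = 𝒳.τ (toUnit X ≫ t₀) * ((𝒳.w 1)⁻¹ * (𝒳.τ t * 𝒳.w 1)) * (𝒳.τ (toUnit X ≫ t₀))⁻¹ := by
          rw [hw']; simp [_root_.mul_assoc]
      _ = 𝒳.τ (𝒳.σ t) := by
          rw [𝒳.τ_mul_w, inv_mul_cancel_left, ← map_mul, Groth.Reductive2.torus_mul_comm hTm.2.2.1, map_mul,
            mul_inv_cancel_right]
      _ = _ := by
          rw [map_mul, map_inv]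
          have : Groth.Reductive.gmMk X (𝒳.a t) = t ≫ α := (Groth.Reductive.eq_gmMk _).symm
          show ((Groth.Reductive.gmMk X (𝒳.a t) ≫ av) ≫ i)⁻¹ * (t ≫ i) = _
          rw [this]; simp only [Category.assoc]
  refine ⟨hconj, fun s ⟨t, ht⟩ ↦ ?_⟩
  set X := Over.mk (Red.geomPt s)
  set 𝒳 := Groth.Reductive.rankOneOfPoints i α pp pm hpp hpm av h2 hF X with h𝒳
  obtain ⟨v, hv⟩ := Groth.Reductive.exists_unit_pow_ne_one _ (Red.geomPt s) (N := 4 * n.natAbs) (by omega)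
  have h := hw X (Groth.Reductive.gmMk X v)
  rw [← ht, ← MonObj.mul_comp, Groth.Reductive2.torus_mul_comm hTm.2.2.1, MonObj.mul_comp, mul_inv_cancel_right,
    ← GrpObj.inv_comp, cancel_mono, ← mul_eq_one_iff_eq_inv, ← zpow_add] at h
  have h' : 𝒳.h (v ^ (n + n)) = 1 := by rw [map_zpow]; exact h
  have h4 : v ^ (n + n) * v ^ (n + n) = 1 := by
    rw [← 𝒳.a_h, h', ← map_one 𝒳.h, 𝒳.a_h, _root_.mul_one]
  refine hv ?_
  rw [← zpow_add, show n + n + (n + n) = 4 * n by ring] at h4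
  rcases Int.natAbs_eq n with h1 | h1
  · rwa [h1, ← Nat.cast_ofNat, ← Nat.cast_mul, zpow_natCast] at h4
  · rw [h1, mul_neg, zpow_neg, inv_eq_one, ← Nat.cast_ofNat, ← Nat.cast_mul, zpow_natCast] at h4
    exact h4

end Groth.Agent.S8487
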