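import Groth.Statements.S8489
import Groth.Agent.Reductive2.RankOneWeight

set_option autoImplicit false
universe u
open CategoryTheory MonoidalCategory CartesianMonoidalCategory MonObj GrpObj AlgebraicGeometry CategoryTheory.Limits
open Red

namespace Groth.Agent.S8489

/-- At the level of root homomorphisms. Let G be a reductive S-group, i : T ⟶ G a maximal torus, α a
character of T non-trivial on every geometric fibre, and p₊, p₋ : 𝔾_a ⟶ G monomorphisms of groups
normalised by T with multipliers α and α⁻¹ such that 𝔾_a ×_S T ×_S 𝔾_a ⟶ G, (y, t, x) ↦ p₋(y) i(t)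
p₊(x), is an open immersion (a rank-one system: G has semisimple rank 1 and p₊, p₋ trivialise the
root groups of α and -α). Then every monomorphism of groups p : 𝔾_a ⟶ G normalised by T with
multiplier α is a rescaling of p₊ by a unit: there is exactly one S-point c of 𝔾_m with p(x) = p₊(c
x) for all points x of 𝔾_a. (The published statement is a bijection between the nowhere-vanishing
sections of the root line bundle and such monomorphisms; this row states it after fixing p₊.) -/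
theorem result (S : Scheme.{u}) (G T : Over S) [GrpObj G] [GrpObj T] (i : T ⟶ G) [IsMonHom i] [Mono i] (hG : Red.IsReductive G) (hTm : Red.IsMaximalTorus i)
    (α : T ⟶ Red.Gm S) [IsMonHom α] (hα : ∀ s : S, (Over.pullback (Red.geomPt s)).map α ≠ 1)
    (pp pm : Red.Ga S ⟶ G) [IsMonHom pp] [Mono pp] [IsMonHom pm] [Mono pm]
    (hpp : ∀ (X : Over S) (t : X ⟶ T) (x : X ⟶ Red.Ga S), ∃ x' : X ⟶ Red.Ga S,
      x' ≫ pp = (t ≫ i) * (x ≫ pp) * (t ≫ i)⁻¹ ∧ Red.gaFn x' = Red.gmFn (t ≫ α) * Red.gaFn x)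
    (hpm : ∀ (X : Over S) (t : X ⟶ T) (y : X ⟶ Red.Ga S), ∃ y' : X ⟶ Red.Ga S,
      y' ≫ pm = (t ≫ i) * (y ≫ pm) * (t ≫ i)⁻¹ ∧ Red.gaFn y' * Red.gmFn (t ≫ α) = Red.gaFn y)
    (hΩ : IsOpenImmersion (((pm ⊗ₘ i) ⊗ₘ pp) ≫ (μ[G] ▷ G) ≫ μ[G]).left)
    (p : Red.Ga S ⟶ G) [IsMonHom p] [Mono p]
    (hp : ∀ (X : Over S) (t : X ⟶ T) (x : X ⟶ Red.Ga S), ∃ x' : X ⟶ Red.Ga S,
      x' ≫ p = (t ≫ i) * (x ≫ p) * (t ≫ i)⁻¹ ∧ Red.gaFn x' = Red.gmFn (t ≫ α) * Red.gaFn x) :
    ∃! c : 𝟙_ (Over S) ⟶ Red.Gm S, ∀ (X : Over S) (x y : X ⟶ Red.Ga S),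
      Red.gaFn y = Red.gmFn (toUnit X ≫ c) * Red.gaFn x → x ≫ p = y ≫ pp := by
  have hT := hTm.2.2.1
  obtain ⟨hfl, hsu⟩ := Groth.Reductive2.flat_surjective_char α hT hα
  obtain ⟨ν, hν⟩ := Groth.Reductive2.exists_eq_pp_pow hpp hpm hΩ hT p 1 one_ne_zero 1 fun X v ↦ by
    obtain ⟨X', j, t, hf, hs, -, e⟩ := Groth.Reductive2.exists_torusPt α v
    refine ⟨X', j, t, hf, hs, by simpa using e, fun x ↦ ?_⟩
    obtain ⟨x', h1, h2⟩ := hp X' t x
    rw [← h1]
    congr 1
    exact (Groth.Reductive.gaFn_injective (by simp [h2, e])).symm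
  have hu : IsUnit ν := by
    refine (𝟙_ (Over S)).left.toLocallyRingedSpace.toRingedSpace.isUnit_of_isUnit_germ ⊤ ν fun s _ ↦
      (Scheme.mem_basicOpen_top _ ν s).mp ?_
    by_contra hs
    let K := AlgebraicClosure ((𝟙_ (Over S)).left.residueField s)
    let Z : Over S := Over.mk (Red.geomPt (S := (𝟙_ (Over S)).left) s ≫ (𝟙_ (Over S)).hom)
    let z : Z ⟶ 𝟙_ (Over S) := Over.homMk (Red.geomPt (S := (𝟙_ (Over S)).left) s) rfl
    have h0 : Groth.Reductive2.pull z ν = 0 := by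
      by_contra hne
      have h1 := Groth.Reductive2.inCell_of_weight.isUnit_of_ne_zero K hne
      have h2 := Scheme.preimage_basicOpen_top z.left ν
      rw [Scheme.basicOpen_of_isUnit _ h1] at h2
      have h3 : z.left.base (IsLocalRing.closedPoint K) ∈ (𝟙_ (Over S)).left.basicOpen ν := h2.ge (x := IsLocalRing.closedPoint K) trivial
      refine hs ?_
      have h4 : z.left.base (IsLocalRing.closedPoint K) = s := by
        simp only [z, Red.geomPt, Over.homMk_left]
        exact Scheme.fromSpecResidueField_apply s _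
      rwa [h4] at h3
    have e1 := hν Z (Groth.Reductive.gaMk Z 1)
    rw [toUnit_unique (toUnit Z) z, h0, zero_mul] at e1
    have e2 : Groth.Reductive.gaMk Z 0 = 1 := Groth.Reductive.gaFn_injective (by simp [Groth.Reductive.gaFn_one])
    rw [e2, MonObj.one_comp, ← MonObj.one_comp (M := Red.Ga S) (f := p), cancel_mono] at e1
    have e3 := congrArg Red.gaFn e1
    rw [Groth.Reductive.gaFn_gaMk, Groth.Reductive.gaFn_one] at e3
    have hK : Nontrivial Γ(Z.left, ⊤) :=
      (Scheme.ΓSpecIso (CommRingCat.of K)).commRingCatIsoToRingEquiv.toEquiv.nontrivial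
    exact one_ne_zero e3
  obtain ⟨u, rfl⟩ := hu
  refine ⟨Groth.Reductive.gmMk _ u, fun X x y hy ↦ ?_, fun c hc ↦ ?_⟩
  · rw [hν X x]
    congr 1
    exact Groth.Reductive.gaFn_injective (by
      simp only [Groth.Reductive.gaFn_gaMk, hy, Groth.Reductive.gmFn_comp, Groth.Reductive.gmFn_gmMk, pow_one])
  · have e1 := hc _ (Groth.Reductive.gaMk _ 1) (Groth.Reductive.gaMk _ (Red.gmFn c)) (by
      simp [toUnit_unique (toUnit (𝟙_ (Over S))) (𝟙 _)])
    rw [hν, cancel_mono] at e1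
    have e2 := congrArg Red.gaFn e1
    simp [toUnit_unique (toUnit (𝟙_ (Over S))) (𝟙 _)] at e2
    exact Groth.Reductive.gmFn_injective (by rw [Groth.Reductive.gmFn_gmMk]; exact e2.symm)

end Groth.Agent.S8489
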