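import Groth.Statements.S8496
import Groth.Agent.FlatMor2.FibCrit.Fibrewise
import Groth.Agent.AlgSp2.FormallySmoothHom
import Groth.Agent.FlatmorThree.FormalLift
import Groth.Agent.Reductive2.TorusChar

set_option autoImplicit false
open CategoryTheory MonoidalCategory CartesianMonoidalCategory MonObj GrpObj AlgebraicGeometry
universe u
open Par

namespace Groth.Agent.S8496

open CategoryTheory.Limits

/-- Smoothness of an lfp morphism descends along fpqc base change. -/
theorem smooth_of_fpqc {X Y Y' : Scheme.{u}} (f : X ⟶ Y) [LocallyOfFinitePresentation f] (r : Y' ⟶ Y)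
    [Surjective r] [Flat r] [QuasiCompact r] (h : Smooth (pullback.snd f r)) : Smooth f := by
  have hfs : Groth.AlgSp2.FSHom f :=
    MorphismProperty.of_pullback_snd_of_descendsAlong (Q := Groth.EtaleBase.Fpqc)
      ⟨⟨‹_›, ‹_›⟩, ‹_›⟩ (Groth.AlgSp2.fsHom_of_smooth _)
  rw [HasRingHomProperty.iff_appLE (P := @Smooth)]
  intro V U e
  exact RingHom.smooth_def.mpr ⟨Groth.FlatmorThree.FormalLift.formallySmooth_appLE hfs U.2 V.2 e,
    HasRingHomProperty.appLE (P := @LocallyOfFinitePresentation) f inferInstance V U e⟩


/-- Transversal position of a pair of parabolic subgroups is read here as smoothness of the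
multiplication morphism P ×_S Q ⟶ G (one of its equivalent characterisations). Let G be a reductive
S-group and P, Q parabolic subgroups. Then (P, Q) is in transversal position if and only if (P_s,
Q_s) is for every point s of S; and if (P_{S'}, Q_{S'}) is in transversal position for some
surjective S' ⟶ S then so is (P, Q). -/
theorem result {S : Scheme.{u}} {G P Q : Over S} [GrpObj G] [GrpObj P]
    [GrpObj Q] (hG : Red.IsReductive G) (p : P ⟶ G) (q : Q ⟶ G) (hP : Red.IsParabolic p) (hQ : Red.IsParabolic q) :
    (Smooth ((p ⊗ₘ q) ≫ μ[G]).left ↔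
      ∀ s : S, Smooth ((Over.pullback (S.fromSpecResidueField s)).map ((p ⊗ₘ q) ≫ μ[G])).left) ∧
    ∀ (S' : Scheme.{u}) (g : S' ⟶ S), Surjective g →
      Smooth ((Over.pullback g).map ((p ⊗ₘ q) ≫ μ[G])).left → Smooth ((p ⊗ₘ q) ≫ μ[G]).left := by
  let f := ((p ⊗ₘ q) ≫ μ[G]).left
  have hGs : Smooth G.hom := hG.2.1
  have hPs : Smooth P.hom := hP.2.2.1
  have hQs : Smooth Q.hom := hQ.2.2.1
  have : Smooth (P ⊗ Q).hom := by
    show Smooth (pullback.fst P.hom Q.hom ≫ P.hom)
    infer_instance
  have hw : f ≫ G.hom = (P ⊗ Q).hom := Over.w _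
  have hcrit := Groth.FlatMor2.FibCrit.smooth_iff_fibres G.hom (P ⊗ Q).hom f hw
  have hmap : ∀ {W : Scheme.{u}} (g : W ⟶ S),
      Smooth ((Over.pullback g).map ((p ⊗ₘ q) ≫ μ[G])).left ↔ Smooth (pullback.snd f (pullback.fst G.hom g)) :=
    fun g => by
      rw [← (Groth.Reductive2.isPullback_pullback_map g ((p ⊗ₘ q) ≫ μ[G])).flip.isoPullback_hom_snd]
      exact MorphismProperty.cancel_left_of_respectsIso @Smooth _ _
  refine ⟨hcrit.trans (forall_congr' fun s => (hmap (S.fromSpecResidueField s)).symm),
    fun S' g hg hsm => hcrit.mpr fun s => ?_⟩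
  rw [hmap] at hsm
  obtain ⟨s', rfl⟩ := hg.surj s
  let j := S.fromSpecResidueField (g.base s')
  let e := Spec.map (g.residueFieldMap s')
  have he : e ≫ j = S'.fromSpecResidueField s' ≫ g :=
    Scheme.Hom.SpecMap_residueFieldMap_fromSpecResidueField g s'
  let r : pullback G.hom (e ≫ j) ⟶ pullback G.hom j :=
    pullback.map _ _ _ _ (𝟙 _) e (𝟙 _) (by simp) (by simp)
  have hr : IsPullback r (pullback.snd G.hom (e ≫ j)) (pullback.snd G.hom j) e := by
    refine IsPullback.of_right ?_ (pullback.lift_snd _ _ _) (IsPullback.of_hasPullback G.hom j)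
    rw [show r ≫ pullback.fst G.hom j = pullback.fst G.hom (e ≫ j) from
      (pullback.lift_fst _ _ _).trans (Category.comp_id _)]
    exact IsPullback.of_hasPullback G.hom (e ≫ j)
  have : Flat e := inferInstance
  have : Surjective e := ⟨fun y => ⟨default, Subsingleton.elim (α := ↥(Spec _)) _ _⟩⟩
  have : Flat r := MorphismProperty.of_isPullback hr.flip inferInstance
  have : Surjective r := MorphismProperty.of_isPullback hr.flip inferInstance
  have : QuasiCompact r := MorphismProperty.of_isPullback hr.flip inferInstance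
  have : LocallyOfFinitePresentation f := by
    have : LocallyOfFinitePresentation (f ≫ G.hom) := by rw [hw]; infer_instance
    exact Groth.FlatMor2.FibCrit.lfp_of_comp f G.hom
  have : LocallyOfFinitePresentation (pullback.snd f (pullback.fst G.hom j)) := inferInstance
  refine smooth_of_fpqc (pullback.snd f (pullback.fst G.hom j)) r ?_
  let r' : pullback G.hom (e ≫ j) ⟶ pullback G.hom g :=
    pullback.lift (pullback.fst _ _) (pullback.snd _ _ ≫ S'.fromSpecResidueField s')
      (by rw [Category.assoc, ← he, pullback.condition])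
  have hbot : r ≫ pullback.fst G.hom j = r' ≫ pullback.fst G.hom g :=
    ((pullback.lift_fst _ _ _).trans (Category.comp_id _)).trans (pullback.lift_fst _ _ _).symm
  have hA := (IsPullback.of_hasPullback (pullback.snd f (pullback.fst G.hom j)) r).paste_horiz
    (IsPullback.of_hasPullback f (pullback.fst G.hom j))
  have hB := (IsPullback.of_hasPullback (pullback.snd f (pullback.fst G.hom g)) r').paste_horiz
    (IsPullback.of_hasPullback f (pullback.fst G.hom g))
  rw [hbot] at hA
  rw [← hA.isoIsPullback_hom_snd _ _ hB]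
  have : Smooth (pullback.snd (pullback.snd f (pullback.fst G.hom g)) r') :=
    MorphismProperty.pullback_snd _ _ hsm
  exact (MorphismProperty.cancel_left_of_respectsIso @Smooth _ _).mpr this

end Groth.Agent.S8496
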