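import Groth.Statements.S8509
import Groth.Agent.Hensel1.SmoothLift
import Groth.Agent.Hensel1.FiniteEtaleLift
import Groth.Agent.Hensel1.Finite
import Groth.Agent.Calg4.SmoothReduced
import Groth.Agent.VarietyBC.SepPoints
import Mathlib.AlgebraicGeometry.Morphisms.LocalFlatDescent

set_option autoImplicit false
open CategoryTheory MonoidalCategory CartesianMonoidalCategory MonObj GrpObj AlgebraicGeometry
universe u
open RedSub

namespace Groth.Agent.S8509

section Helpers

open TensorProduct Limits

/-- The total space of a torsor under a smooth affine group over an affine base is smooth, when it is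
tested on an affine open surjecting onto the base. -/
theorem smooth_of_isTorsor {A : Type u} [CommRing A] [IsLocalRing A]
    {G P : Over (Spec (CommRingCat.of A))} [GrpObj G] [Smooth G.hom] (a : AlgGrp.Action G P)
    (ha : RedSub.IsTorsor a) : Smooth P.hom := by
  obtain ⟨h₁, h₂, h₃, h₄⟩ := ha
  have e : lift a.act (snd G P) ≫ snd P P = snd G P := lift_snd _ _
  have hl : IsIso (lift a.act (snd G P)).left :=
    inferInstanceAs (IsIso ((Over.forget (Spec (CommRingCat.of A))).map (lift a.act (snd G P))))
  have hsnd : Smooth (pullback.snd P.hom P.hom) := by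
    have := congrArg (fun g => g.left) e
    simp only [Over.comp_left, Over.snd_left] at this
    refine (MorphismProperty.cancel_left_of_respectsIso @Smooth (lift a.act (snd G P)).left _).1 ?_
    change Smooth ((lift a.act (snd G P)).left ≫ pullback.snd P.hom P.hom)
    erw [this]
    exact MorphismProperty.pullback_snd _ _ inferInstance
  -- an affine open surjecting onto the base
  obtain ⟨x, hx⟩ := P.hom.surjective (IsLocalRing.closedPoint A)
  obtain ⟨_, ⟨U₀, hU, rfl⟩, hxU, -⟩ :=
    P.left.isBasis_affineOpens.exists_subset_of_mem_open (Set.mem_univ x) isOpen_univ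
  let U : P.left.Opens := U₀
  have : IsAffine (U : Scheme.{u}) := hU
  have hsurj : Surjective (U.ι ≫ P.hom) := by
    have ho : IsOpen (Set.range (U.ι ≫ P.hom)) := (U.ι ≫ P.hom).isOpenMap.isOpen_range
    have hc : IsLocalRing.closedPoint A ∈ Set.range (U.ι ≫ P.hom) := by
      exact ⟨⟨x, hxU⟩, hx⟩
    refine ⟨fun z => ?_⟩
    exact (IsLocalRing.specializes_closedPoint z).mem_open ho hc
  have hflat : Flat (U.ι ≫ P.hom) := inferInstance
  have hqc : QuasiCompact (U.ι ≫ P.hom) := inferInstance
  have h5 : Smooth (pullback.snd P.hom (U.ι ≫ P.hom)) := by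
    have sq := IsPullback.of_hasPullback (pullback.snd P.hom P.hom) U.ι
    have hbig := sq.paste_horiz (IsPullback.of_hasPullback P.hom P.hom)
    refine (MorphismProperty.cancel_left_of_respectsIso @Smooth hbig.isoPullback.hom _).1 ?_
    rw [IsPullback.isoPullback_hom_snd]
    exact MorphismProperty.pullback_snd _ _ hsnd
  exact MorphismProperty.of_isPullback_of_descendsAlong
    (Q := @Surjective ⊓ @Flat ⊓ @QuasiCompact) (IsPullback.of_hasPullback P.hom (U.ι ≫ P.hom)).flip
    ⟨⟨hsurj, hflat⟩, hqc⟩ h5

/-- A smooth algebra over a henselian local ring with a point over the closed point has a point in a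
finite étale algebra. -/
theorem exists_etale_point (A T : Type u) [CommRing A] [HenselianLocalRing A] [CommRing T]
    [Algebra A T] [Algebra.Smooth A T] (y : PrimeSpectrum T)
    (hy : y.comap (algebraMap A T) = IsLocalRing.closedPoint A) :
    ∃ (B : Type u) (_ : CommRing B) (_ : Algebra A B), Module.Finite A B ∧ Algebra.Etale A B ∧
      Function.Surjective (Spec.map (CommRingCat.ofHom (algebraMap A B))) ∧ Nonempty (T →ₐ[A] B) := by
  let m := IsLocalRing.maximalIdeal A
  letI : Field (A ⧸ m) := Ideal.Quotient.field m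
  let T₀ := (A ⧸ m) ⊗[A] T
  -- the closed fibre is nonzero
  have hm : y.asIdeal.comap (algebraMap A T) = m := congrArg PrimeSpectrum.asIdeal hy
  let θ : T₀ →ₐ[A] T ⧸ y.asIdeal := Algebra.TensorProduct.lift
    (Ideal.Quotient.liftₐ m (Algebra.ofId A (T ⧸ y.asIdeal)) (fun a ha => by
      rw [← hm, Ideal.mem_comap] at ha
      exact Ideal.Quotient.eq_zero_iff_mem.2 ha))
    (Ideal.Quotient.mkₐ A y.asIdeal) (fun _ _ => Commute.all _ _)
  have : Nontrivial T₀ := θ.toRingHom.domain_nontrivial
  have hred : ∀ (L : Type u) [Field L] [Algebra (A ⧸ m) L], _root_.IsReduced (L ⊗[A ⧸ m] T₀) :=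
    fun L _ _ => Groth.Calg4.isReduced_of_smooth_field L (L ⊗[A ⧸ m] T₀)
  obtain ⟨n, _, _, _⟩ := Groth.VarietyBC.exists_maximal_separable (A ⧸ m) T₀ hred
  have : Algebra.Etale (A ⧸ m) n.ResidueField := by
    have : Algebra.FormallyEtale (A ⧸ m) n.ResidueField :=
      Algebra.FormallyEtale.of_isSeparable (A ⧸ m) n.ResidueField
    have : Algebra.FinitePresentation (A ⧸ m) n.ResidueField :=
      Algebra.FinitePresentation.of_finiteType.1 inferInstance
    exact ⟨inferInstance, inferInstance⟩
  obtain ⟨B, _, _, hfin, het, ⟨e⟩⟩ := Groth.Hensel1.exists_finite_etale_lift m n.ResidueField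
  refine ⟨B, inferInstance, inferInstance, hfin, het, ?_, ?_⟩
  · -- surjectivity
    have ho : IsOpen (Set.range (Spec.map (CommRingCat.ofHom (algebraMap A B)))) := by
      have : Etale (Spec.map (CommRingCat.ofHom (algebraMap A B))) := by
        rw [HasRingHomProperty.Spec_iff (P := @Etale)]; exact RingHom.etale_algebraMap.2 het
      exact (Spec.map (CommRingCat.ofHom (algebraMap A B))).isOpenMap.isOpen_range
    obtain ⟨z⟩ : Nonempty (PrimeSpectrum ((A ⧸ m) ⊗[A] B)) := by
      have : Nontrivial ((A ⧸ m) ⊗[A] B) := e.toRingEquiv.toEquiv.nontrivial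
      infer_instance
    have hc : IsLocalRing.closedPoint A ∈ Set.range (Spec.map (CommRingCat.ofHom (algebraMap A B))) := by
      refine ⟨z.comap (Algebra.TensorProduct.includeRight (R := A) (A := A ⧸ m) (B := B)).toRingHom, ?_⟩
      apply PrimeSpectrum.ext
      show Ideal.comap (algebraMap A B) (Ideal.comap _ z.asIdeal) = m
      refine ((IsLocalRing.maximalIdeal.isMaximal A).eq_of_le ?_ fun a ha => ?_).symm
      · exact (Ideal.IsPrime.comap _).ne_top
      · rw [Ideal.mem_comap, Ideal.mem_comap]
        show (Algebra.TensorProduct.includeRight (R := A) (A := A ⧸ m)) (algebraMap A B a) ∈ z.asIdeal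
        rw [AlgHom.commutes, Algebra.TensorProduct.algebraMap_apply]
        rw [show algebraMap A (A ⧸ m) a = 0 from Ideal.Quotient.eq_zero_iff_mem.2 ha]
        simp
    exact fun z => (IsLocalRing.specializes_closedPoint z).mem_open ho hc
  · -- lifting the point
    let M := m.map (algebraMap A B)
    have : Algebra.IsIntegral A B := Algebra.IsIntegral.of_finite A B
    have : HenselianRing B M := Groth.Hensel1.henselianRing_of_isIntegral (I := m) B
    let q : (A ⧸ m) ⊗[A] B →ₐ[A] B ⧸ M := Algebra.TensorProduct.lift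
      (Ideal.Quotient.liftₐ m (Algebra.ofId A (B ⧸ M)) (fun a ha =>
        Ideal.Quotient.eq_zero_iff_mem.2 (Ideal.mem_map_of_mem _ ha)))
      (Ideal.Quotient.mkₐ A M) (fun _ _ => Commute.all _ _)
    let τ : T →ₐ[A] B ⧸ M :=
      q.comp ((e.symm.toAlgHom.restrictScalars A).comp
        (((IsScalarTower.toAlgHom (A ⧸ m) T₀ n.ResidueField).restrictScalars A).comp
          Algebra.TensorProduct.includeRight))
    let σ : B ⊗[A] T →ₐ[B] B ⧸ M :=
      Algebra.TensorProduct.lift (Algebra.ofId B (B ⧸ M)) τ (fun _ _ => Commute.all _ _)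
    obtain ⟨s, -⟩ := Groth.Hensel1.exists_smooth_lift Groth.Hensel1.gabber_of_henselianRing σ
    exact ⟨(s.restrictScalars A).comp Algebra.TensorProduct.includeRight⟩

end Helpers

/-- Let A be a henselian local ring, S = Spec A, and G an S-group scheme which is smooth and affine over
S. Then every torsor P under G (a representable principal homogeneous bundle) is isotrivial: there
is a finite etale surjective morphism S' ⟶ S such that P_{S'} has a section. (The published
statement asks only that every finite set of points of G lie in an affine open; this row takes G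
affine over S.) -/
theorem result (A : Type u) [CommRing A] [HenselianLocalRing A]
    {G P : Over (Spec (CommRingCat.of A))} [GrpObj G] [Smooth G.hom] [IsAffineHom G.hom] (a : AlgGrp.Action G P)
    (ha : RedSub.IsTorsor a) :
    ∃ (S' : Scheme.{u}) (f : S' ⟶ Spec (CommRingCat.of A)), IsFinite f ∧ Etale f ∧ Surjective f ∧
      RedSub.HasSection (Red.bc f P) := by
  have hsm : Smooth P.hom := smooth_of_isTorsor a ha
  obtain ⟨hP₁, hP₂, hP₃, -⟩ := ha
  -- an affine open meeting the closed fibre
  obtain ⟨x, hx⟩ := P.hom.surjective (IsLocalRing.closedPoint A)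
  obtain ⟨_, ⟨U, hU, rfl⟩, hxU, -⟩ :=
    P.left.isBasis_affineOpens.exists_subset_of_mem_open (Set.mem_univ x) isOpen_univ
  let φ : CommRingCat.of A ⟶ Γ(P.left, U) := Spec.preimage (hU.fromSpec ≫ P.hom)
  have hφ : Spec.map φ = hU.fromSpec ≫ P.hom := Spec.map_preimage _
  algebraize [φ.hom]
  have : Algebra.Smooth A Γ(P.left, U) := by
    have : Smooth (Spec.map φ) := by rw [hφ]; infer_instance
    exact (HasRingHomProperty.Spec_iff (P := @Smooth)).1 this
  let T : Type u := Γ(P.left, U)
  -- the point `x` over the closed point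
  obtain ⟨y, hy⟩ : ∃ y : PrimeSpectrum T, y.comap φ.hom = IsLocalRing.closedPoint A := by
    obtain ⟨y, hy⟩ : x ∈ Set.range hU.fromSpec := by rw [hU.range_fromSpec]; exact hxU
    refine ⟨y, ?_⟩
    have := congrArg (fun g : Spec Γ(P.left, U) ⟶ Spec (CommRingCat.of A) => g y) hφ
    simp only [Scheme.Hom.comp_apply] at this
    rw [hy, hx] at this
    exact this
  obtain ⟨B, _, _, _, _, hB, ⟨s⟩⟩ := exists_etale_point A T y (by
    rw [← hy]; rfl)
  refine ⟨Spec (CommRingCat.of B), Spec.map (CommRingCat.ofHom (algebraMap A B)), ?_, ?_, ⟨hB⟩, ?_⟩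
  · rw [IsFinite.SpecMap_iff]; exact RingHom.finite_algebraMap.2 ‹_›
  · rw [HasRingHomProperty.Spec_iff (P := @Etale)]; exact RingHom.etale_algebraMap.2 ‹_›
  · refine ⟨Over.homMk (Limits.pullback.lift (Spec.map (CommRingCat.ofHom s.toRingHom) ≫ hU.fromSpec) (𝟙 _) ?_) ?_⟩
    · rw [Category.assoc, ← hφ, ← Spec.map_comp, Category.id_comp]
      congr 1
      ext a
      exact s.commutes a
    · exact Limits.pullback.lift_snd _ _ _

end Groth.Agent.S8509
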