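import Groth.Statements.S8511
import Groth.Agent.RedSub2.EtSection.Pieces
import Groth.Agent.Pi1Quot.SigmaFinite

set_option autoImplicit false
open CategoryTheory MonoidalCategory CartesianMonoidalCategory MonObj GrpObj AlgebraicGeometry
universe u
open RedSub

namespace Groth.Agent.S8511

/-- Let A be a semi-local ring, S = Spec A, and X ⟶ S a surjective smooth morphism with X a closed
subscheme of some projective space P^n_S over S. Then X ⟶ S has a section after a finite etale
surjective base change: there are a finite etale surjective S' ⟶ S and an S-morphism S' ⟶ X. -/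
theorem result {A : Type u} [CommRing A]
    (hA : {m : Ideal A | m.IsMaximal}.Finite) {X : Scheme.{u}} (g : X ⟶ Spec (CommRingCat.of A)) [Smooth g]
    [Surjective g] (n : ℕ) (e : X ⟶ CohB1.ProjSpaceOver n (Spec (CommRingCat.of A))) [IsClosedImmersion e]
    (he : e ≫ CohB1.ProjSpaceOver.toBase n (Spec (CommRingCat.of A)) = g) :
    ∃ (S' : Scheme.{u}) (f : S' ⟶ Spec (CommRingCat.of A)) (σ : S' ⟶ X), IsFinite f ∧ Etale f ∧ Surjective f ∧
      σ ≫ g = f := by
  classical
  haveI : IsProper (CohB1.ProjSpaceOver.toBase n (Spec (CommRingCat.of A))) :=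
    Groth.Variety2.isProper_projSpaceOver_toBase _ _
  haveI : IsProper g := by rw [← he]; infer_instance
  let Im : ℕ → Set (Spec (CommRingCat.of A)) := fun d =>
    g '' (Groth.RedSub2.EtSection.dimLocus g d : Set X)
  have hIm : ∀ d, IsClopen (Im d) := fun d =>
    ⟨g.isClosedMap _ (Groth.RedSub2.EtSection.isClopen_dimLocus g d).1,
      g.isOpenMap _ (Groth.RedSub2.EtSection.isClopen_dimLocus g d).2⟩
  have hex : ∀ p : Spec (CommRingCat.of A), ∃ d, p ∈ Im d := fun p => by
    obtain ⟨x, rfl⟩ := g.surjective p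
    obtain ⟨d, hd⟩ := Groth.RedSub2.EtSection.exists_mem_dimLocus g x
    exact ⟨d, x, hd, rfl⟩
  let δ : Spec (CommRingCat.of A) → ℕ := fun p => Nat.find (hex p)
  have hfib : ∀ d, δ ⁻¹' {d} = Im d ∩ ⋂ d' : Fin d, (Im d')ᶜ := fun d => by
    ext p
    simp only [Set.mem_preimage, Set.mem_singleton_iff, Set.mem_inter_iff, Set.mem_iInter,
      Set.mem_compl_iff, δ, Nat.find_eq_iff]
    exact and_congr_right fun _ => ⟨fun h m => h m.1 m.2, fun h m hm => h ⟨m, hm⟩⟩
  have hclopen : ∀ d, IsClopen (δ ⁻¹' {d}) := fun d => by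
    rw [hfib]
    exact (hIm d).inter (isClopen_iInter_of_finite fun d' => (hIm d').compl)
  have hloc : IsLocallyConstant δ := IsLocallyConstant.iff_isOpen_fiber.2 fun d => (hclopen d).2
  haveI := hloc.range_finite.to_subtype
  have H : ∀ i : ULift.{u} (Set.range δ), ∃ (S' : Scheme.{u}) (f : S' ⟶ Spec (CommRingCat.of A))
      (σ : S' ⟶ X), IsFinite f ∧ Etale f ∧ Set.range f = δ ⁻¹' {i.down.1} ∧ σ ≫ g = f := fun i =>
    Groth.RedSub2.EtSection.exists_section_piece hA g (Groth.RedSub2.EtSection.Atlas.ofEmb e)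
      (Groth.RedSub2.EtSection.Atlas.ofEmb_generates e he) i.down.1
      ⟨δ ⁻¹' {i.down.1}, (hclopen _).2⟩ (hclopen _) (fun p hp => by
        have h := Nat.find_spec (hex p)
        rw [show Nat.find (hex p) = i.down.1 from hp] at h
        exact h)
  choose S' f σ hfin het hrange hσ using H
  refine ⟨∐ S', Limits.Sigma.desc f, Limits.Sigma.desc σ, Groth.Pi1Quot.isFinite_sigmaDesc f,
    IsZariskiLocalAtSource.sigmaDesc het, ⟨fun p => ?_⟩, Limits.Sigma.hom_ext _ _ fun i => ?_⟩
  · obtain ⟨z, hz⟩ : p ∈ Set.range (f ⟨⟨δ p, p, rfl⟩⟩) := by rw [hrange]; rfl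
    exact ⟨Limits.Sigma.ι S' _ z, by rw [← Scheme.Hom.comp_apply, Limits.Sigma.ι_desc, hz]⟩
  · rw [Limits.Sigma.ι_desc_assoc, Limits.Sigma.ι_desc, hσ]

end Groth.Agent.S8511
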