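import Groth.Statements.S8513
-- no helpers

set_option autoImplicit false
open CategoryTheory MonoidalCategory CartesianMonoidalCategory MonObj GrpObj AlgebraicGeometry
universe u
open Par

namespace Groth.Agent.S8513


/-- Let G be a reductive S-group and P, Q two parabolic subgroups of G in transversal position (the
multiplication morphism P ×_S Q ⟶ G is smooth). Then P ∩ Q (a fibre product of P and Q over G) is
smooth over S. -/
theorem result {S : Scheme.{u}} {G P Q I : Over S} [GrpObj G] [GrpObj P] [GrpObj Q]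
    (hG : Red.IsReductive G) (p : P ⟶ G) (q : Q ⟶ G) (hP : Red.IsParabolic p) (hQ : Red.IsParabolic q)
    (htr : Smooth ((p ⊗ₘ q) ≫ μ[G]).left) (m : I ⟶ P) (m' : I ⟶ Q) (hI : IsPullback m m' p q) :
    Smooth I.hom := by
  have : IsMonHom p := hP.1
  have : IsMonHom q := hQ.1
  have hsq : IsPullback (lift m (m' ≫ ι[Q])) (toUnit I) ((p ⊗ₘ q) ≫ μ[G]) η[G] := by
    have key : ∀ (X : Over S) (a : X ⟶ P) (b : X ⟶ Q),
        lift a b ≫ (p ⊗ₘ q) ≫ μ[G] = (a ≫ p) * (b ≫ q) := by
      intro X a b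
      rw [← Category.assoc, lift_map, Hom.mul_def]
    have hone : ∀ (X : Over S), toUnit X ≫ η[G] = (1 : X ⟶ G) := fun X ↦ rfl
    have w : lift m (m' ≫ ι[Q]) ≫ (p ⊗ₘ q) ≫ μ[G] = toUnit I ≫ η[G] := by
      rw [key, hone, ← Hom.inv_def, GrpObj.inv_comp, hI.w, mul_inv_cancel]
    refine IsPullback.of_isLimit' ⟨w⟩ (Limits.PullbackCone.IsLimit.mk _
      (fun s ↦ hI.lift (s.fst ≫ fst _ _) ((s.fst ≫ snd _ _)⁻¹) ?_) ?_ ?_ ?_)
    · have h := s.condition
      rw [← lift_comp_fst_snd s.fst, key, Subsingleton.elim s.snd (toUnit _), hone] at h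
      rw [GrpObj.inv_comp]
      exact eq_inv_of_mul_eq_one_left h
    · intro s
      rw [comp_lift, ← Hom.inv_def, GrpObj.comp_inv, IsPullback.lift_fst, IsPullback.lift_snd,
        _root_.inv_inv, lift_comp_fst_snd]
    · intro s
      exact toUnit_unique _ _
    · intro s l h₁ h₂
      apply hI.hom_ext
      · rw [IsPullback.lift_fst, ← h₁, Category.assoc, lift_fst]
      · rw [IsPullback.lift_snd, ← h₁, Category.assoc, lift_snd, ← Hom.inv_def, GrpObj.comp_inv, _root_.inv_inv]
  have h2 := hsq.map (Over.forget S)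
  have h3 : Smooth (toUnit I).left := MorphismProperty.of_isPullback h2 htr
  have h4 : (toUnit I).left = I.hom := by simp
  exact h4 ▸ h3

end Groth.Agent.S8513
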