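import Groth.Statements.S8517
import Groth.Agent.Reductive.RootComb

set_option autoImplicit false
open CategoryTheory MonoidalCategory CartesianMonoidalCategory MonObj GrpObj AlgebraicGeometry
universe u
open RedSub

namespace Groth.Agent.S8517

/-- Let R be the set of roots of a root pairing over ℤ with finitely many roots, and R₁, R₂ two closed
subsets of R (if a, b ∈ Rᵢ and root a + root b is a root c then c ∈ Rᵢ), each containing a system of
positive roots (the positive roots of some base). If R₁ ∪ R₂ = R, then R₁ ∩ (−R₂) (the roots of R₁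
whose negative is a root in R₂) contains a system of positive roots. -/
theorem result {idx M N : Type} [Finite idx] [AddCommGroup M] [AddCommGroup N] (P : RootPairing idx ℤ M N) (R₁ R₂ : Set idx)
    (h₁ : ∀ a b c : idx, a ∈ R₁ → b ∈ R₁ → P.root a + P.root b = P.root c → c ∈ R₁)
    (h₂ : ∀ a b c : idx, a ∈ R₂ → b ∈ R₂ → P.root a + P.root b = P.root c → c ∈ R₂)
    (hb₁ : ∃ b : P.Base, RedSub.posRoots P b ⊆ R₁) (hb₂ : ∃ b : P.Base, RedSub.posRoots P b ⊆ R₂)
    (hunion : R₁ ∪ R₂ = Set.univ) :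
    ∃ b : P.Base, RedSub.posRoots P b ⊆ {a | a ∈ R₁ ∧ ∃ c ∈ R₂, P.root a = -P.root c} := by
  obtain ⟨b, hb⟩ := hb₁
  obtain ⟨b', hb'⟩ := hb₂
  have hS := Groth.RootData.IsSimpleSys.isPosSys (Groth.RootData.Base.isSimpleSys b)
  have hS' := Groth.RootData.IsSimpleSys.isPosSys (Groth.RootData.Base.isSimpleSys b')
  have h₁' : ∀ i, i ∈ R₁ ∨ Groth.RootData.neg P i ∈ R₁ := fun i ↦
    (hS.cover i).imp (fun h ↦ hb h) (fun h ↦ hb h)
  have h₂' : ∀ i, i ∈ R₂ ∨ Groth.RootData.neg P i ∈ R₂ := fun i ↦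
    (hS'.cover i).imp (fun h ↦ hb' h) (fun h ↦ hb' h)
  set R₃ : Set idx := {a | a ∈ R₁ ∧ ∃ c ∈ R₂, P.root a = -P.root c}
  have hmem : ∀ i, i ∈ R₁ → Groth.RootData.neg P i ∈ R₂ → i ∈ R₃ := fun i hi hn ↦
    ⟨hi, _, hn, by rw [Groth.RootData.root_neg, neg_neg]⟩
  have hcov : ∀ i, i ∈ R₃ ∨ Groth.RootData.neg P i ∈ R₃ := by
    intro i
    have u1 := (hunion ▸ Set.mem_univ i : i ∈ R₁ ∪ R₂)
    have u2 := (hunion ▸ Set.mem_univ (Groth.RootData.neg P i) : Groth.RootData.neg P i ∈ R₁ ∪ R₂)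
    have hn := Groth.RootData.neg_neg (P := P) i
    rcases h₁' i with h | h <;> rcases h₂' i with h' | h'
    · by_cases hh : Groth.RootData.neg P i ∈ R₁
      · exact .inr (hmem _ hh (hn.symm ▸ h'))
      · exact .inl (hmem _ h (u2.resolve_left hh))
    · exact .inl (hmem _ h h')
    · exact .inr (hmem _ h (hn.symm ▸ h'))
    · by_cases hh : i ∈ R₁
      · exact .inl (hmem _ hh h')
      · exact .inr (hmem _ h (hn.symm ▸ u1.resolve_left hh))
  have hcl : RootD.IsClosedSub P R₃ := by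
    rintro i j k ⟨hi, i', hi', ei⟩ ⟨hj, j', hj', ej⟩ hk
    refine hmem k (h₁ i j k hi hj hk.symm) (h₂ i' j' _ hi' hj' ?_)
    rw [Groth.RootData.root_neg, hk, ei, ej]
    abel
  obtain ⟨g, -, hg⟩ := Groth.RootData.exists_weyl_image_subset hS hcov hcl
  refine ⟨Groth.Reductive.RootComb.mapBase g b, ?_⟩
  rw [Groth.Reductive.RootComb.posRoots_eq, Groth.Reductive.RootComb.coe_mapBase_support,
    Groth.RootData.IsSimpleSys.posOf_image g (Groth.RootData.Base.isSimpleSys b)]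
  exact hg

end Groth.Agent.S8517
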