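import Groth.Statements.S8524
import Groth.Agent.EtCd.Torsion

set_option autoImplicit false
universe u
open CategoryTheory CategoryTheory.Limits AlgebraicGeometry Opposite
open EtAcyc

namespace Groth.Agent.S8524

/-- For the small etale site of a scheme and abelian sheaves: let L be a set of primes, F an abelian
L-torsion sheaf on the small etale site of a scheme X, and U an etale X-scheme with quasi-compact
underlying space. Then every section of F over U is killed by some positive integer all of whose
prime factors lie in L. -/
theorem result {X : Scheme.{u}} (L : Set ℕ) (F : EtCoh.Ab X)
    (hF : EtAcyc.IsLTorsion L F) (U : X.Etale) [CompactSpace U.left] (s : EtCoh.sect F U) :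
    ∃ m : ℕ, EtAcyc.PrimesIn L m ∧ m • s = 0 := by
  exact Groth.EtCd.exists_primesIn_smul_eq_zero hF U s

end Groth.Agent.S8524
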