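import Groth.Statements.S8526
import Groth.Agent.EtaleDeep.Cons.AbCriteria
-- import your own Groth.Agent.* helpers here

set_option autoImplicit false
set_option backward.isDefEq.respectTransparency.types false
universe u
open CategoryTheory CategoryTheory.Limits AlgebraicGeometry Opposite
open EtPBC

namespace Groth.Agent.S8526

/-- Let F be a constructible abelian sheaf on the small etale site of a scheme X. Then the support of F,
the set of points of X over which some geometric stalk of F is nonzero, is a locally constructible
subset of X. -/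
theorem result {X : Scheme.{u}} (F : EtCoh.Ab X) (hF : EtPBC.IsConstructible F) :
    Topology.IsLocallyConstructible (EtPBC.supp F) := by
  have hset : EtPBC.supp F =
      {x : X | ¬ IsZero ((EtCoh.stalk (Groth.EtaleBase.geomPoint x)).obj F)} := by
    ext x
    refine ⟨?_, fun h => ⟨_, inferInstance, inferInstance, Groth.EtaleBase.geomPoint x,
      Groth.EtaleDeep.Cons.range_eq_singleton (Groth.EtaleBase.geomPoint_apply _ _), h⟩⟩
    rintro ⟨Ω, _, _, ξ, hξ, hn⟩ h0
    obtain ⟨M, _, _, hM⟩ := Groth.EtaleDeep.Cons.exists_stalk_equiv hF x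
    obtain ⟨e⟩ := hM Ω ξ (Groth.EtaleDeep.Cons.base_default_of_range hξ)
    obtain ⟨e'⟩ := hM _ _ (Groth.EtaleBase.geomPoint_apply x default)
    exact hn (h0.of_iso (e.symm.trans e').toAddCommGrpIso)
  rw [hset]
  exact Groth.EtaleDeep.Cons.isLocallyConstructible_stalk hF (fun A => ¬ IsZero A)
    fun A B e h h0 => h (h0.of_iso e)

end Groth.Agent.S8526
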