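import Groth.Statements.S8527
import Groth.Agent.EtaleDeep.Cons.AbCriteria
-- import your own Groth.Agent.* helpers here

set_option autoImplicit false
set_option backward.isDefEq.respectTransparency.types false
universe u
open CategoryTheory CategoryTheory.Limits AlgebraicGeometry Opposite
open EtPBC

namespace Groth.Agent.S8527

/-- Let X be a locally Noetherian scheme and F an abelian sheaf on its small etale site. Then F is
constructible if and only if for every point x of X there is a nonempty open subset of the closure
of x along which F becomes finite locally constant; precisely: there are an open V containing x and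
an immersion g : T → X with image V ∩ closure(x) such that the inverse image of F along g is finite
locally constant. -/
theorem result {X : Scheme.{u}} [IsLocallyNoetherian X]
    (F : EtCoh.Ab X) :
    EtPBC.IsConstructible F ↔
      ∀ x : X, ∃ (V : X.Opens) (T : Scheme.{u}) (g : T ⟶ X), IsImmersion g ∧ x ∈ V ∧
        Set.range g.base = (V : Set X) ∩ closure {x} ∧
        EtCoh.IsFiniteLocallyConstant ((EtCoh.pull g).obj F) := by
  exact ⟨fun hF x => Groth.EtaleDeep.Cons.exists_flc_closure hF x,
    Groth.EtaleDeep.Cons.isConstructible_of_closure F⟩

end Groth.Agent.S8527
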