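import Groth.Statements.S8530
import Groth.Agent.EtaleDeep.Cons.AbCriteria
-- import your own Groth.Agent.* helpers here

set_option autoImplicit false
set_option backward.isDefEq.respectTransparency.types false
universe u
open CategoryTheory CategoryTheory.Limits AlgebraicGeometry Opposite
open EtPBC

namespace Groth.Agent.S8530

/-- Let F be a constructible abelian sheaf on the small etale site of a scheme X, x a point of X and ξ a
geometric point of X located at x. Then F is finite locally constant on some open neighbourhood of x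
if and only if, for every geometric point ξ' of X and every morphism of points of the etale site
from ξ' to ξ (a specialization arrow, ξ' a generization of ξ), the induced specialization map F_ξ →
F_ξ' is an isomorphism. -/
theorem result {X : Scheme.{u}} (F : EtCoh.Ab X)
    (hF : EtPBC.IsConstructible F) (x : X) {Ω : Type u} [Field Ω] [IsSepClosed Ω]
    (ξ : Spec (CommRingCat.of Ω) ⟶ X) (hξ : Set.range ξ.base = {x}) :
    (∃ U : X.Opens, x ∈ U ∧ EtCoh.IsFiniteLocallyConstant ((EtCoh.pull U.ι).obj F)) ↔
      ∀ (Ω' : Type u) [Field Ω'] [IsSepClosed Ω'] (ξ' : Spec (CommRingCat.of Ω') ⟶ X)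
        (φ : Scheme.pointSmallEtale ξ' ⟶ Scheme.pointSmallEtale ξ),
        IsIso ((GrothendieckTopology.Point.Hom.sheafFiber (A := AddCommGrpCat.{u + 1}) φ).app F) := by
  have hx : ξ.base default = x := Groth.EtaleDeep.Cons.base_default_of_range hξ
  constructor
  · rintro ⟨U, hxU, hU⟩ Ω' _ _ ξ' φ
    have hξU : ξ.base default ∈ U := hx.symm ▸ hxU
    exact Groth.EtaleDeep.Cons.isIso_sheafFiber_of_open U hU
      ((Groth.EtaleDeep.Cons.specializes_of_pointHom φ).mem_open U.2 hξU) hξU φ
  · intro h
    obtain ⟨V, hV, hF'⟩ := Groth.EtaleDeep.Cons.exists_open_isFLC hF ξ h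
    exact ⟨V, hx ▸ hV, hF'⟩

end Groth.Agent.S8530
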