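import Groth.Statements.S8532
import Groth.Agent.EtCd.FiniteEtaleTrace
import Groth.Agent.EtCd.LTorsionRpush
import Groth.Agent.EtaleBase.PullStalk

set_option autoImplicit false
universe u
open CategoryTheory CategoryTheory.Limits AlgebraicGeometry Opposite
open EtAcyc

namespace Groth.Agent.S8532

/-- Let f : X' → X be finite etale of constant degree d (every geometric fibre has exactly d points), L
a set of primes such that no prime in L divides d, F an abelian L-torsion sheaf on the small etale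
site of X, and q a natural number. If H^q(X', f⁻¹F) = 0, then H^q(X, F) = 0. -/
theorem result {X X' : Scheme.{u}} (f : X' ⟶ X) [IsFinite f] [Etale f]
    (d : ℕ) (hd : ∀ (Ω : Type u) [Field Ω] [IsSepClosed Ω] (ξ : Spec (CommRingCat.of Ω) ⟶ X),
      Nat.card ↥(pullback f ξ) = d)
    (L : Set ℕ) (hL : ∀ p : ℕ, p.Prime → p ∈ L → ¬ p ∣ d) (F : EtCoh.Ab X) (hF : EtAcyc.IsLTorsion L F)
    [PreservesFiniteLimits (EtCoh.pull f)] (q : ℕ)
    (h : Subsingleton (EtCoh.H X' ((EtCoh.pull f).obj F) q)) :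
    Subsingleton (EtCoh.H X F q) := by
    have hfin : ∀ s, f.finrank s = d := fun s => by
      obtain ⟨Ω, _, _, ξ, rfl⟩ := Groth.Pi1FEt.exists_geomPoint s
      exact (Groth.EtCdFiniteTrace.natCard_geomFibre f ξ).symm.trans (hd Ω ξ)
    refine subsingleton_of_forall_eq 0 fun α => ?_
    have hdα : d • α = 0 :=
      Groth.EtCdFiniteTrace.nsmul_eq_zero f hfin F q α (@Subsingleton.elim _ h _ _)
    rcases Nat.eq_zero_or_pos d with hd0 | hd0
    · subst hd0
      have hz : (𝟙 F : F ⟶ F) = 0 := by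
        refine (isIsoZeroEquiv F F ?_).1
        haveI : ∀ s : X, IsIso ((Groth.EtaleBase.stalkAt s).map (0 : F ⟶ F)) := fun s => by
          have hall : ∀ t : (EtCoh.stalk (Groth.EtaleBase.geomPoint s)).obj F, t = 0 := fun t => by
            obtain ⟨m, hm, hmt⟩ := (Groth.EtCd.isLTorsion_iff_stalks F).1 hF _ (Groth.EtaleBase.geomPoint s) t
            have : m = 1 := Nat.eq_one_iff_not_exists_prime_dvd.2 fun p hp hpm =>
              hL p hp (hm.2 p hp hpm) (dvd_zero p)
            rwa [this, one_nsmul] at hmt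
          exact (ConcreteCategory.isIso_iff_bijective _).2
            ⟨fun a b _ => (hall a).trans (hall b).symm, fun b => ⟨b, (hall _).trans (hall b).symm⟩⟩
        exact Groth.EtaleBase.stalkAt_jointlyReflectIsomorphisms.isIso _
      rw [← Abelian.Ext.comp_mk₀_id α, hz, Abelian.Ext.mk₀_zero, Abelian.Ext.comp_zero]
    · haveI := Groth.EtCdLTorsionRpush.isIso_nsmul hF hd0 fun p hp hpd hpL => hL p hp hpL hpd
      have hb : Function.Bijective fun x : EtCoh.H X F q =>
          x.comp (Abelian.Ext.mk₀ (d • 𝟙 F)) (add_zero q) :=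
        (((EtCoh.HF X q).mapIso (asIso (d • 𝟙 F))).addCommGroupIsoToAddEquiv).bijective
      refine hb.1 ?_
      show α.comp (Abelian.Ext.mk₀ (d • 𝟙 F)) _ = (0 : EtCoh.H X F q).comp _ _
      rw [Abelian.Ext.zero_comp, show Abelian.Ext.mk₀ (d • 𝟙 F) = d • Abelian.Ext.mk₀ (𝟙 F) from
        map_nsmul (Abelian.Ext.addEquiv₀ (X := F) (Y := F)).symm _ _]
      exact (map_nsmul (Abelian.Ext.bilinearComp (EtCoh.const X ℤ) F F q 0 q (add_zero q) α) _ _).trans
        ((congrArg (d • ·) (Abelian.Ext.comp_mk₀_id α)).trans hdα)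

end Groth.Agent.S8532
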