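import Groth.Statements.S8535
import Mathlib.CategoryTheory.Abelian.Exact
import Mathlib.CategoryTheory.Abelian.Refinements
import Mathlib.CategoryTheory.Limits.FunctorCategory.EpiMono
import Mathlib.CategoryTheory.Abelian.FunctorCategory
-- import your own Groth.Agent.* helpers here

set_option autoImplicit false
universe v v' u u'
open CategoryTheory CategoryTheory.Limits
open DeltaF

namespace Groth.Agent.S8535

variable {A : Type u} [Category.{v} A] [Abelian A] {B : Type u'} [Category.{v'} B] [Abelian B]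
  (T T' : CohDeltaFunctor A B ℕ)

theorem mono_app' (φ : T ⟶ T') (i : ℕ) [Mono (φ.app i)] (X : A) : Mono ((φ.app i).app X) :=
  inferInstance

theorem isIso_of_mono_of_epi' (φ : T ⟶ T') (i : ℕ) [Mono (φ.app i)] [Epi (φ.app i)] :
    IsIso (φ.app i) := by
  haveI : ∀ X, IsIso ((φ.app i).app X) := fun X => isIso_of_mono_of_epi _
  exact NatIso.isIso_of_isIso_app _

theorem ses_of_mono {X Y : A} (u : X ⟶ Y) [Mono u] :
    (ShortComplex.mk u (cokernel.π u) (cokernel.condition u)).ShortExact :=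
  { exact := ShortComplex.exact_cokernel u }

theorem mono_succ (hT : T.IsEffaceable) (φ : T ⟶ T') (i : ℕ)
    [Mono (φ.app i)] [Epi (φ.app i)] : Mono (φ.app (i + 1)) := by
  haveI : ∀ X, Mono ((φ.app (i + 1)).app X) := fun X => by
    obtain ⟨Y, u, hu, h0⟩ := hT i X
    set S := ShortComplex.mk u (cokernel.π u) (cokernel.condition u)
    have hS : S.ShortExact := ses_of_mono u
    haveI : Epi (T.δ S hS i (i + 1) rfl) := (T.exact₁ S hS i (i + 1) rfl).epi_f h0
    apply Preadditive.mono_of_cancel_zero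
    intro W k hk
    obtain ⟨W₁, p₁, hp₁, a, ha⟩ := surjective_up_to_refinements_of_epi (T.δ S hS i (i + 1) rfl) k
    have h1 : (a ≫ (φ.app i).app S.X₃) ≫ T'.δ S hS i (i + 1) rfl = 0 := by
      rw [Category.assoc, ← φ.comm S hS i (i + 1) rfl, ← Category.assoc, ← ha, Category.assoc, hk,
        comp_zero]
    obtain ⟨W₂, p₂, hp₂, b, hb⟩ := (T'.exact₃ S hS i (i + 1) rfl).exact_up_to_refinements _ h1
    obtain ⟨W₃, p₃, hp₃, c, hc⟩ := surjective_up_to_refinements_of_epi ((φ.app i).app S.X₂) b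
    have h2 : p₃ ≫ p₂ ≫ a = c ≫ (T.F i).map S.g := by
      rw [← cancel_mono ((φ.app i).app S.X₃)]
      simp only [Category.assoc]
      erw [hb, (φ.app i).naturality, reassoc_of% hc]
    haveI : Epi (p₃ ≫ p₂ ≫ p₁) := inferInstance
    rw [← cancel_epi (p₃ ≫ p₂ ≫ p₁), comp_zero]
    simp only [Category.assoc]
    erw [ha, reassoc_of% h2, T.comp_δ S hS i (i + 1) rfl, comp_zero]
  exact NatTrans.mono_of_mono_app _

theorem epi_succ (φ : T ⟶ T') (i : ℕ) [Epi (φ.app i)]
    (h : ∀ X : A, ∃ (Y : A) (u : X ⟶ Y), Mono u ∧ (T'.F (i + 1)).map u = 0) :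
    Epi (φ.app (i + 1)) := by
  haveI : ∀ X, Epi ((φ.app (i + 1)).app X) := fun X => by
    obtain ⟨Y, u, hu, h0⟩ := h X
    set S := ShortComplex.mk u (cokernel.π u) (cokernel.condition u)
    have hS : S.ShortExact := ses_of_mono u
    haveI : Epi (T'.δ S hS i (i + 1) rfl) := (T'.exact₁ S hS i (i + 1) rfl).epi_f h0
    haveI : Epi (T.δ S hS i (i + 1) rfl ≫ (φ.app (i + 1)).app S.X₁) := by
      rw [φ.comm S hS i (i + 1) rfl]
      exact epi_comp _ _
    exact epi_of_epi (T.δ S hS i (i + 1) rfl) _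
  exact NatTrans.epi_of_epi_app _


/-- Let A and B be abelian categories, T and T' cohomological delta-functors from A to B in degrees ≥ 0
whose degree-0 components are left exact (they vanish in negative degrees), such that T^i is
effaceable for every i > 0, and let φ : T → T' be a morphism of delta-functors and n a natural
number. Then the following are equivalent: (a) φ^i is an isomorphism for i ≤ n and a monomorphism
for i = n + 1; (b) φ^0 is a monomorphism and φ^i is an epimorphism for every i ≤ n; (c) φ^0 is an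
isomorphism and, for 0 < i ≤ n, T'^i is effaceable (every object X admits a monomorphism X → Y
killed by T'^i). -/
theorem result {A : Type u} [Category.{v} A] [Abelian A]
    {B : Type u'} [Category.{v'} B] [Abelian B] (T T' : DeltaF.CohDeltaFunctor A B ℕ)
    (h0 : T.ZeroMono) (h0' : T'.ZeroMono) (hT : T.IsEffaceable) (φ : T ⟶ T') (n : ℕ) :
    ((∀ i : ℕ, i ≤ n → IsIso (φ.app i)) ∧ Mono (φ.app (n + 1)) ↔
      (Mono (φ.app 0) ∧ ∀ i : ℕ, i ≤ n → Epi (φ.app i))) ∧
    ((∀ i : ℕ, i ≤ n → IsIso (φ.app i)) ∧ Mono (φ.app (n + 1)) ↔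
      (IsIso (φ.app 0) ∧ ∀ i : ℕ, 0 < i → i ≤ n → ∀ X : A, ∃ (Y : A) (u : X ⟶ Y), Mono u ∧ (T'.F i).map u = 0)) := by
  have hab : ((∀ i : ℕ, i ≤ n → IsIso (φ.app i)) ∧ Mono (φ.app (n + 1))) →
      (Mono (φ.app 0) ∧ ∀ i : ℕ, i ≤ n → Epi (φ.app i)) := fun h => by
    haveI := h.1 0 (Nat.zero_le _)
    exact ⟨inferInstance, fun i hi => by haveI := h.1 i hi; infer_instance⟩
  have hba : (Mono (φ.app 0) ∧ ∀ i : ℕ, i ≤ n → Epi (φ.app i)) →
      ((∀ i : ℕ, i ≤ n → IsIso (φ.app i)) ∧ Mono (φ.app (n + 1))) := fun h => by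
    have key : ∀ i, i ≤ n + 1 → Mono (φ.app i) := by
      intro i
      induction i with
      | zero => exact fun _ => h.1
      | succ i ih =>
        intro hi
        haveI := ih (by omega)
        haveI := h.2 i (by omega)
        exact mono_succ T T' hT φ i
    exact ⟨fun i hi => by
      haveI := key i (by omega)
      haveI := h.2 i hi
      exact isIso_of_mono_of_epi' T T' φ i, key _ le_rfl⟩
  refine ⟨⟨hab, hba⟩, ⟨fun h => ⟨h.1 0 (Nat.zero_le _), fun i hi hin X => ?_⟩, fun h => ?_⟩⟩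
  · obtain ⟨j, rfl⟩ := Nat.exists_eq_succ_of_ne_zero (Nat.pos_iff_ne_zero.mp hi)
    obtain ⟨Y, u, hu, h0⟩ := hT j X
    haveI := h.1 (j + 1) hin
    refine ⟨Y, u, hu, ?_⟩
    rw [← cancel_epi ((φ.app (j + 1)).app X), ← (φ.app (j + 1)).naturality, h0]
    simp
  · apply hba
    haveI := h.1
    refine ⟨inferInstance, ?_⟩
    intro i
    induction i with
    | zero => exact fun _ => inferInstance
    | succ i ih =>
      intro hi
      haveI := ih (by omega)
      exact epi_succ T T' φ i (h.2 (i + 1) (Nat.succ_pos _) hi)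

end Groth.Agent.S8535
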