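import Groth.Statements.S8537
import Groth.Agent.DescentBase.BcAcyclic

set_option autoImplicit false
universe u
open CategoryTheory CategoryTheory.Limits AlgebraicGeometry
open EtBC

namespace Groth.Agent.S8537

/-- Let h : Y → X and p : X̄ → X be morphisms of schemes with X, Y, X̄ quasi-compact and quasi-separated
(p need not be surjective), Ȳ = Y ×_X X̄ with projections h̄ : Ȳ → X̄ and p_Y : Ȳ → Y, L a set of
primes and n a natural number. Suppose that pullback along h is bijective on the etale cohomology of
every abelian L-torsion sheaf on X in degrees ≤ n and injective in degree n + 1, and that for every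
abelian L-torsion sheaf F̄ on X̄ the degree-i base change morphism h⁻¹ R^i p_* F̄ → R^i p_{Y*} h̄⁻¹
F̄ is an isomorphism for i ≤ n and a monomorphism for i = n + 1. Then pullback along h̄ is bijective
on the etale cohomology of every abelian L-torsion sheaf on X̄ in degrees ≤ n and injective in
degree n + 1. -/
theorem result {X Y Xb Yb : Scheme.{u}} [CompactSpace X] [QuasiSeparatedSpace X]
    [CompactSpace Y] [QuasiSeparatedSpace Y] [CompactSpace Xb] [QuasiSeparatedSpace Xb]
    (h : Y ⟶ X) (p : Xb ⟶ X) (hb : Yb ⟶ Xb) (pY : Yb ⟶ Y) (sq : IsPullback hb pY p h)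
    (L : Set ℕ) (n : ℕ) (hh : EtAcyc.CompN h L n) [PreservesFiniteLimits (EtCoh.pull hb)]
    (hbc : ∀ Fb : EtCoh.Ab Xb, EtAcyc.IsLTorsion L Fb →
      (∀ i : ℕ, i ≤ n → IsIso (EtBC.bcQ p h pY hb sq.w i Fb)) ∧ Mono (EtBC.bcQ p h pY hb sq.w (n + 1) Fb)) :
    EtAcyc.CompN hb L n := by
  haveI : QuasiCompact p := QuasiCompact.of_comp p (terminal.from X)
  haveI : QuasiSeparated p := QuasiSeparated.of_comp p (terminal.from X)
  haveI : QuasiCompact h := QuasiCompact.of_comp h (terminal.from X)
  haveI : QuasiSeparated h := QuasiSeparated.of_comp h (terminal.from X)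
  haveI : QuasiCompact hb := MorphismProperty.of_isPullback sq.flip ‹QuasiCompact h›
  haveI : QuasiSeparated hb := MorphismProperty.of_isPullback sq.flip ‹QuasiSeparated h›
  haveI : CompactSpace ↥Yb := QuasiCompact.compactSpace_of_compactSpace hb
  haveI : QuasiSeparatedSpace ↥Yb := quasiSeparatedSpace_of_quasiSeparated hb
  exact Groth.DescentBase.BcAcyclic.compN_baseChange sq.w hbc hh

end Groth.Agent.S8537
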