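import Groth.Statements.S8538
import Groth.Agent.EtCd.DimClosure

set_option autoImplicit false
universe u
open CategoryTheory CategoryTheory.Limits AlgebraicGeometry Opposite
open EtCd

namespace Groth.Agent.S8538

/-- Let A be a Noetherian universally catenary local ring, f : X → Spec A a morphism of finite type, x a
point of X with image y, and X₀ the closed fibre of f. Put δ(x) = dim closure(y) + trdeg(κ(x)/κ(y))
= dim(A/p_y) + trdeg(κ(x)/κ(y)) and d(x) = dim closure(x) (topological Krull dimension of the
closure of x in X). Then d(x) = δ(x) when the closure of x meets X₀, and d(x) + 1 = δ(x) when it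
does not. -/
theorem result (A : Type u) [CommRing A] [IsNoetherianRing A] [IsLocalRing A]
    (hA : CAlg.IsUniversallyCatenary A) {X : Scheme.{u}} (f : X ⟶ Spec (CommRingCat.of A)) [LocallyOfFiniteType f]
    [QuasiCompact f] (x : X) (a b d : ℕ) (ha : ringKrullDim (A ⧸ (f.base x).asIdeal) = a)
    (hb : letI := (f.residueFieldMap x).hom.toAlgebra;
      Algebra.trdeg ((Spec (CommRingCat.of A)).residueField (f.base x)) (X.residueField x) = b)
    (hd : topologicalKrullDim ↥(closure ({x} : Set X)) = d) :
    ((closure ({x} : Set X) ∩ f.base ⁻¹' {((IsLocalRing.closedPoint A : PrimeSpectrum A) : ↥(Spec (CommRingCat.of A)))}).Nonempty →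
        d = a + b) ∧
    (closure ({x} : Set X) ∩ f.base ⁻¹' {((IsLocalRing.closedPoint A : PrimeSpectrum A) : ↥(Spec (CommRingCat.of A)))} = ∅ →
        d + 1 = a + b) := by
  have hh : Order.height (f.base x) = a := by
    have := Groth.EtCdDim.height_eq_ringKrullDim (A := A) (f.base x)
    rw [ha] at this
    exact_mod_cast this
  have hhd : Order.height x = d := by
    have := Groth.WeilCoh.topologicalKrullDim_closure_eq_height x
    rw [hd] at this
    exact_mod_cast this.symm
  obtain ⟨h1, h2⟩ := Groth.EtCdDim.height_eq f hA x a b d hh hb hhd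
  refine ⟨fun ⟨z, hz, hzm⟩ => h1 ⟨z, specializes_iff_mem_closure.2 hz, hzm⟩, fun he => h2 fun z hz hzm => ?_⟩
  exact Set.notMem_empty z (he ▸ ⟨specializes_iff_mem_closure.1 hz, hzm⟩)

end Groth.Agent.S8538
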