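import Groth.Statements.S8539
import Groth.Agent.EtCd.StrictHensClosed
import Groth.Agent.Hensel1.Regular

set_option autoImplicit false
universe u
open CategoryTheory CategoryTheory.Limits AlgebraicGeometry Opposite
open EtCd

namespace Groth.Agent.S8539

/-- Let X be a scheme of finite type over a field k, x a point of X and A a strict henselization of the
local ring of X at x. Then there are a separably closed field k', a scheme X' of finite type over k'
and a closed point x' of X' such that A is (isomorphic to) a strict henselization of the local ring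
of X' at x': some local algebra structure over that local ring makes A a strict henselization of it. -/
theorem result (k : Type u) [Field k] {X : Scheme.{u}}
    (f : X ⟶ Spec (CommRingCat.of k)) [LocallyOfFiniteType f] [QuasiCompact f] (x : X)
    (A : Type u) [CommRing A] [IsLocalRing A] [Algebra (X.presheaf.stalk x) A]
    [IsLocalHom (algebraMap (X.presheaf.stalk x) A)] [Hensel.IsStrictHenselization (X.presheaf.stalk x) A] :
    ∃ (k' : Type u) (_ : Field k') (_ : IsSepClosed k') (X' : Scheme.{u}) (f' : X' ⟶ Spec (CommRingCat.of k'))
      (_ : LocallyOfFiniteType f') (_ : QuasiCompact f') (x' : X') (_ : IsClosed ({x'} : Set X'))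
      (_ : Algebra (X'.presheaf.stalk x') A) (_ : IsLocalHom (algebraMap (X'.presheaf.stalk x') A)),
      Hensel.IsStrictHenselization (X'.presheaf.stalk x') A := by
  haveI : Unique (Spec (CommRingCat.of k)) := inferInstanceAs (Unique (PrimeSpectrum k))
  obtain ⟨σ, P, hP, hmem, H⟩ := Groth.EtCd.StrictHensClosed.exists_closed_point_model f x
    (by
      have : (f x : PrimeSpectrum k) = IsLocalRing.closedPoint k := Subsingleton.elim _ _
      exact congrArg PrimeSpectrum.asIdeal this) A
  have hR : IsField (Localization.AtPrime P) :=
    Groth.EtCd.StrictHensClosed.isField_localization_of_isField (Field.toIsField k) P hmem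
  obtain ⟨T, _, _, _, _, hT⟩ :=
    Groth.Hensel1.exists_isStrictHenselization (Localization.AtPrime P)
  obtain ⟨X', f', h1, h2, x', h3, -, h5, h6, h7⟩ := H T
  obtain ⟨M⟩ := Groth.Hensel1.hensModel_of_isStrictHenselization (R := Localization.AtPrime P) (S := T)
  have hTm : IsLocalRing.maximalIdeal T = ⊥ := by
    rw [← M.map_maximalIdeal, IsLocalRing.isField_iff_maximalIdeal_eq.mp hR, Ideal.map_bot]
  letI : Field T := (IsLocalRing.isField_iff_maximalIdeal_eq.mpr hTm).toField
  haveI := hT.isSepClosure
  haveI : IsSepClosed (IsLocalRing.ResidueField T) :=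
    IsSepClosure.sep_closed (k := IsLocalRing.ResidueField (Localization.AtPrime P))
  have hbij : Function.Bijective (IsLocalRing.residue T) :=
    ⟨(IsLocalRing.residue T).injective, IsLocalRing.residue_surjective⟩
  let e : T ≃+* IsLocalRing.ResidueField T := RingEquiv.ofBijective _ hbij
  have hsc : IsSepClosed T := IsSepClosed.of_exists_root _ fun p _ hp hsep => by
    obtain ⟨y, hy⟩ := IsSepClosed.exists_root (p.map e.toRingHom)
      (by rw [Polynomial.degree_map]; exact hp.degree_pos.ne') hsep.map
    refine ⟨e.symm y, e.injective ?_⟩
    rw [map_zero]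
    show e.toRingHom (p.eval (e.symm y)) = 0
    rw [← Polynomial.eval₂_hom, ← Polynomial.eval_map]
    show (p.map e.toRingHom).eval (e (e.symm y)) = 0
    rw [RingEquiv.apply_symm_apply]
    exact hy
  exact ⟨T, inferInstance, hsc,
    X', f', h1, h2, x', h3, h5, h6, h7⟩

end Groth.Agent.S8539
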