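import Groth.Statements.S8541
import Groth.Agent.EtCd.ThickenFlat
import Groth.Agent.PnCoh.OverAffine
import Groth.Agent.Chow.ToPn

set_option autoImplicit false
universe u
open CategoryTheory CategoryTheory.Limits AlgebraicGeometry Opposite
open EtCd

namespace Groth.Agent.S8541

/-- Let A be a Noetherian local ring, S = Spec A, and X a closed subscheme of the projective space P^N_S
(closed immersion i) whose fibres over S all have dimension at most n. Then there is a closed
subscheme Z of P^N_S which is flat over S with all fibres of dimension at most n and which contains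
X: a closed immersion j : Z → P^N_S with Z → S flat of relative dimension ≤ n and a closed immersion
g : X → Z with g ≫ j = i. -/
theorem result (A : Type u) [CommRing A] [IsNoetherianRing A] [IsLocalRing A]
    (N n : ℕ) {X : Scheme.{u}} (i : X ⟶ CohB1.ProjSpaceOver N (Spec (CommRingCat.of A))) [IsClosedImmersion i]
    (hdim : ∀ s : ↥(Spec (CommRingCat.of A)),
      topologicalKrullDim ↥((i ≫ CohB1.ProjSpaceOver.toBase N (Spec (CommRingCat.of A))).fiber s) ≤ n) :
    ∃ (Z : Scheme.{u}) (j : Z ⟶ CohB1.ProjSpaceOver N (Spec (CommRingCat.of A))) (g : X ⟶ Z),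
      IsClosedImmersion j ∧ IsClosedImmersion g ∧ g ≫ j = i ∧
      Flat (j ≫ CohB1.ProjSpaceOver.toBase N (Spec (CommRingCat.of A))) ∧
      ∀ s : ↥(Spec (CommRingCat.of A)),
        topologicalKrullDim ↥((j ≫ CohB1.ProjSpaceOver.toBase N (Spec (CommRingCat.of A))).fiber s) ≤ n := by
  classical
  let S := Spec (CommRingCat.of A)
  let h := i ≫ CohB1.ProjSpaceOver.toBase N S
  let i' : X ⟶ Proj (CohB1.polyGrading N A) := i ≫ (Groth.PnCoh.overIso N A).inv
  haveI : IsClosedImmersion i' := inferInstanceAs (IsClosedImmersion (i ≫ (Groth.PnCoh.overIso N A).inv))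
  have hi' : i' ≫ CohB1.ProjSpace.toSpec N A = h := by
    show (i ≫ (Groth.PnCoh.overIso N A).inv) ≫ _ = _
    rw [Category.assoc, ← Groth.PnCoh.overIso_hom_toBase N A, Iso.inv_hom_id_assoc]
  let s : Finset (MvPolynomial (Fin (N + 1)) A) := Finset.univ.image fun l => MvPolynomial.X l
  have hcs : (s : Set (MvPolynomial (Fin (N + 1)) A)) = Set.range fun l => MvPolynomial.X l := by
    simp [s]
  have hs1 : ∀ f ∈ s, f ∈ CohB1.polyGrading N A 1 := fun f hf => by
    obtain ⟨l, -, rfl⟩ := Finset.mem_image.mp hf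
    exact Groth.EtCdProjChart.X_mem l
  have hs : (HomogeneousIdeal.irrelevant (CohB1.polyGrading N A)).toIdeal =
      Ideal.span (s : Set (MvPolynomial (Fin (N + 1)) A)) := by
    refine le_antisymm (hcs ▸ Groth.Chow.ToPn.irrelevant_le_span_X) (Ideal.span_le.mpr fun f hf => ?_)
    exact HomogeneousIdeal.mem_irrelevant_of_mem _ one_pos (hs1 f hf)
  obtain ⟨B, _, _, ℬ, _, φ, hsurj, hφ, e, he, -⟩ :=
    Groth.ProjClosed.exists_quotient_alg (CohB1.polyGrading N A) s hs1 hs i'
  let n' := min n N
  have hX : ∀ x : ↥(CohB1.ProjSpace N A), Groth.EtCdThicken.OverM x →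
      x ∈ Set.range (Proj.map φ hφ).base → Order.height x ≤ (n' : ℕ∞) := by
    intro x hx hxr
    suffices hn : Order.height x ≤ (n : ℕ∞) by
      rcases le_total n N with hl | hl
      · rwa [show n' = n from min_eq_left hl]
      · rw [show n' = N from min_eq_right hl]
        exact Groth.EtCdThicken.height_le_of_overM hx
    obtain ⟨y, rfl⟩ := hxr
    let z := e.inv.base y
    have hz : i'.base z = (Proj.map φ hφ).base y := by
      rw [← he, Scheme.Hom.comp_apply]
      show (Proj.map φ hφ).base (e.hom.base (e.inv.base y)) = _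
      rw [← Scheme.Hom.comp_apply e.inv e.hom, e.inv_hom_id]
      rfl
    rw [← hz] at hx ⊢
    have hzh : h.base z = Groth.EtCdDim.cp A := by
      rw [← hi', Scheme.Hom.comp_apply]
      exact hx
    refine (Groth.EtCdThicken.height_apply_le i' i'.isEmbedding z fun w hw => ?_).trans ?_
    · exact i'.isClosedEmbedding.isClosed_range.stableUnderSpecialization hw ⟨z, rfl⟩
    let w := (h.fiberHomeo (Groth.EtCdDim.cp A)).symm ⟨z, hzh⟩
    have hw : (h.fiberι (Groth.EtCdDim.cp A)).base w = z := h.fiberι_fiberHomeo_symm _ _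
    rw [← hw]
    refine (Groth.EtCdThicken.height_apply_le _ (h.fiberι _).isEmbedding w fun v hv => ?_).trans ?_
    · rw [hw] at hv
      rw [Scheme.Hom.range_fiberι]
      show h.base v = Groth.EtCdDim.cp A
      have h1 : h.base z ⤳ h.base v := hv.map h.continuous
      rw [hzh] at h1
      exact Inseparable.eq ((Groth.EtCdDim.closedPoint_le (h.base v)).antisymm h1)
    · exact WithBot.coe_le_coe.mp
        ((Groth.EtCdThicken.height_le_topologicalKrullDim w).trans (hdim _))
  obtain ⟨d, f, -, hd, hφf, hbound⟩ := Groth.EtCdThicken.exists_forms φ hφ hsurj n' hX (N - n')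
  have hN : N - (N - n') = n' := by omega
  obtain ⟨Z, j, g, hj, hg, hgj, hflat, hfib⟩ :=
    Groth.EtCdThicken.exists_thickening (r := N - n') (Nat.sub_le _ _) d f hd
      (fun x hx hfx => (hbound x hx hfx).trans (by rw [hN, max_self])) φ hsurj hφ hφf
  have hjb : (j ≫ (Groth.PnCoh.overIso N A).hom) ≫ CohB1.ProjSpaceOver.toBase N S =
      j ≫ CohB1.ProjSpace.toSpec N A := by
    rw [Category.assoc, Groth.PnCoh.overIso_hom_toBase]
  refine ⟨Z, j ≫ (Groth.PnCoh.overIso N A).hom, e.hom ≫ g, inferInstance, inferInstance, ?_, ?_, ?_⟩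
  · rw [Category.assoc, ← Category.assoc g, hgj, ← Category.assoc]
    exact (congrArg (fun m => m ≫ (Groth.PnCoh.overIso N A).hom) he).trans
      ((Category.assoc _ _ _).trans (by simp))
  · rw [hjb]; exact hflat
  · intro t
    rw [hjb]
    refine (hfib t).trans ?_
    rw [hN]
    exact_mod_cast min_le_left n N

end Groth.Agent.S8541
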