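import Groth.Statements.S8545
import Groth.Agent.EtCd.StrictLocDelta
import Groth.Agent.S0603
import Groth.Agent.Ega4Algebra1.CMTensor
import Groth.Agent.KoszShLib.CMLocal

set_option autoImplicit false
universe u
open CategoryTheory CategoryTheory.Limits AlgebraicGeometry Opposite
open EtCd

namespace Groth.Agent.S8545

/-- Let f : X → Y be a morphism of schemes of finite type over a field k, x a point of X with image y,
y₀ a specialization of y in Y, R a strict henselization of the local ring of Y at y₀ with Y' = Spec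
R → Y the strict localization and X' = X ×_Y Y' with projection f' : X' → Y', and let x' be a point
of X' lying over x, with image y' in Y'. Writing δ(x') = dim closure(y') + trdeg(κ(x')/κ(y'))
(closure in Y' = Spec R, so dim closure(y') = dim R/p_{y'}) and d for the dimension of the closure
of a point in X or Y, one has δ(x') = d(x) - d(y₀); stated as δ(x') + d(y₀) = d(x). -/
theorem result (k : Type u) [Field k] {X Y : Scheme.{u}}
    (aX : X ⟶ Spec (CommRingCat.of k)) (aY : Y ⟶ Spec (CommRingCat.of k)) [LocallyOfFiniteType aX] [QuasiCompact aX]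
    [LocallyOfFiniteType aY] [QuasiCompact aY] (f : X ⟶ Y) (w : f ≫ aY = aX) (x : X) (y₀ : Y) (hsp : f.base x ⤳ y₀)
    (R : Type u) [CommRing R] [IsLocalRing R] [Algebra (Y.presheaf.stalk y₀) R]
    [IsLocalHom (algebraMap (Y.presheaf.stalk y₀) R)] [Hensel.IsStrictHenselization (Y.presheaf.stalk y₀) R]
    (x' : ↥(pullback f (Hens2.specOf Y y₀ R))) (hx' : (pullback.fst f (Hens2.specOf Y y₀ R)).base x' = x)
    (a b dx dy : ℕ)
    (ha : ringKrullDim (R ⧸ ((pullback.snd f (Hens2.specOf Y y₀ R)).base x').asIdeal) = a)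
    (hb : letI := ((pullback.snd f (Hens2.specOf Y y₀ R)).residueFieldMap x').hom.toAlgebra;
      Algebra.trdeg ((Spec (CommRingCat.of R)).residueField ((pullback.snd f (Hens2.specOf Y y₀ R)).base x'))
        ((pullback f (Hens2.specOf Y y₀ R)).residueField x') = b)
    (hdx : topologicalKrullDim ↥(closure ({x} : Set X)) = dx)
    (hdy : topologicalKrullDim ↥(closure ({y₀} : Set Y)) = dy) :
    a + b + dy = dx := by
  haveI : IsLocallyNoetherian Y := LocallyOfFiniteType.isLocallyNoetherian aY
  haveI : LocallyOfFiniteType f := by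
    haveI : LocallyOfFiniteType (f ≫ aY) := w.symm ▸ inferInstance
    exact locallyOfFiniteType_of_comp f aY
  haveI : IsNoetherianRing (Y.presheaf.stalk y₀) := inferInstance
  haveI : LocCoh.IsCohenMacaulayRing k :=
    Groth.KoszShLib.isCohenMacaulayRing_of_local k
      (Groth.Ega4Algebra1.isCohenMacaulayLocalRing_of_krullDimLE_zero k)
  have hk : CAlg.IsUniversallyCatenary k := Groth.Agent.S0603.result k
  have hO : CAlg.IsUniversallyCatenary (Y.presheaf.stalk y₀) :=
    Groth.EGA43Topo.JacobsonDim.isUnivCat_stalk aY y₀ (Groth.EtCdDim.isUniversallyCatenary_stalk hk _)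
  obtain ⟨M⟩ := Groth.Hensel1.hensModel_of_isStrictHenselization (R := Y.presheaf.stalk y₀) (S := R)
  let g := Hens2.specOf Y y₀ R
  let y' := (pullback.snd f g).base x'
  let φ := CommRingCat.ofHom (algebraMap (Y.presheaf.stalk y₀) R)
  let p : Spec (CommRingCat.of (Y.presheaf.stalk y₀)) := (Spec.map φ).base y'
  have hpy : (Y.fromSpecStalk y₀).base p = f.base x := by
    rw [← hx']
    exact (congr($(pullback.condition (f := f) (g := g)) x')).symm
  obtain ⟨m₀, m, h0, hm, hle, hdim⟩ := Groth.EtCdDim.Strict.ringKrullDim_quotient_stalk aY y₀ p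
  replace hdim : ringKrullDim (R ⧸ y'.asIdeal) = ((m - m₀ : ℕ) : WithBot ℕ∞) :=
    (Groth.EtCdDim.Hens.ringKrullDim_quotient_eq M hO y'.asIdeal).trans hdim
  have ha' : ringKrullDim (R ⧸ y'.asIdeal) = a := ha
  rw [ha'] at hdim
  have hdim' : a = m - m₀ := by exact_mod_cast hdim
  have hg : Groth.Variety2.Dim.relTrdeg g y' = 0 := by
    rw [Groth.Cycles.relTrdeg_preimmersion_comp]
    exact Groth.EtCdDim.Strict.relTrdeg_specMap_eq_zero M y'
  have hb' : Groth.Variety2.Dim.relTrdeg (pullback.snd f g) x' = b := hb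
  have hfb : Groth.Variety2.Dim.relTrdeg f x = b := by
    have h1 := Groth.Cycles.relTrdeg_comp_add (pullback.snd f g) g x'
    have h2 := Groth.Cycles.relTrdeg_comp_add (pullback.fst f g) f x'
    rw [hg, zero_add, hb'] at h1
    rw [Groth.EtCdDim.Strict.relTrdeg_fst_eq_zero f g x' hg, add_zero, pullback.condition, h1] at h2
    rw [hx'] at h2
    exact h2.symm
  obtain ⟨n, hn, hn'⟩ := Groth.Variety2.Dim.exists_trdegAt_eq_height aX x
  obtain ⟨nY, hnY, hnY'⟩ := Groth.Variety2.Dim.exists_trdegAt_eq_height aY (f.base x)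
  have hsum := Groth.Variety2.Dim.trdegAt_eq_add aX aY f w x
  rw [hn, hfb] at hsum
  have hsum' : n = nY + b := by
    have h3 : (n : Cardinal.{u}) = (nY + b : ℕ) := by rw [Nat.cast_add, ← hnY]; exact hsum
    exact_mod_cast h3
  rw [hpy, hnY'] at hm
  have hmY : nY = m := by exact_mod_cast hm
  have hdx' : n = dx := by
    have := Groth.WeilCoh.topologicalKrullDim_closure_eq_height x
    rw [hdx, hn'] at this
    exact_mod_cast this.symm
  have hdy' : m₀ = dy := by
    have := Groth.WeilCoh.topologicalKrullDim_closure_eq_height y₀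
    rw [hdy, h0] at this
    exact_mod_cast this.symm
  omega

end Groth.Agent.S8545
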