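import Groth.Statements.S8551
import Groth.Agent.DescentBase.BcDescent

set_option autoImplicit false
universe u
open CategoryTheory CategoryTheory.Limits AlgebraicGeometry
open EtBC

namespace Groth.Agent.S8551

/-- Let h : Y → X and p : X̄ → X be morphisms of schemes with X, Y, X̄ quasi-compact quasi-separated and
p surjective, Ȳ = Y ×_X X̄ with projections h̄ : Ȳ → X̄ and p_Y : Ȳ → Y, L a set of primes and n a
natural number. Assume that pullback along h is bijective on the etale cohomology of every abelian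
L-torsion sheaf on X in degrees ≤ n and injective in degree n + 1, and that for every abelian
L-torsion sheaf F̄ on X̄ the degree-i base change morphism h⁻¹ R^i p_* F̄ → R^i p_{Y*} h̄⁻¹ F̄ is an
isomorphism for i ≤ n and a monomorphism for i = n + 1. Let F be an abelian L-torsion sheaf on X and
ξ ∈ H^{n+1}(Y, h⁻¹F). Then ξ lies in the image of H^{n+1}(X, F) if and only if its pullback to
H^{n+1}(Ȳ, (p_Y ≫ h)⁻¹F) lies in the image of H^{n+1}(X̄, p⁻¹F) under pullback along h̄. -/
theorem result {X Y Xb Yb : Scheme.{u}} [CompactSpace X]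
    [QuasiSeparatedSpace X] [CompactSpace Y] [QuasiSeparatedSpace Y] [CompactSpace Xb] [QuasiSeparatedSpace Xb]
    (h : Y ⟶ X) (p : Xb ⟶ X) (hb : Yb ⟶ Xb) (pY : Yb ⟶ Y) (sq : IsPullback hb pY p h) (hp : Function.Surjective p.base)
    (L : Set ℕ) (n : ℕ) (hh : EtAcyc.CompN h L n)
    [PreservesFiniteLimits (EtCoh.pull h)] [PreservesFiniteLimits (EtCoh.pull hb)] [PreservesFiniteLimits (EtCoh.pull pY)]
    (hbc : ∀ Fb : EtCoh.Ab Xb, EtAcyc.IsLTorsion L Fb →
      (∀ i : ℕ, i ≤ n → IsIso (EtBC.bcQ p h pY hb sq.w i Fb)) ∧ Mono (EtBC.bcQ p h pY hb sq.w (n + 1) Fb))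
    (F : EtCoh.Ab X) (hF : EtAcyc.IsLTorsion L F) (ξ : EtCoh.H Y ((EtCoh.pull h).obj F) (n + 1)) :
    ξ ∈ Set.range (EtCore.Hpull h F (n + 1)) ↔
      EtCore.HpullVia pY h (pY ≫ h) rfl F (n + 1) ξ ∈
        Set.range (EtCore.HpullVia hb p (pY ≫ h) sq.w F (n + 1)) := by
  haveI : Surjective p := ⟨hp⟩
  haveI : QuasiCompact p := QuasiCompact.of_comp p (terminal.from X)
  haveI : QuasiSeparated p := QuasiSeparated.of_comp p (terminal.from X)
  haveI : QuasiCompact h := QuasiCompact.of_comp h (terminal.from X)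
  haveI : QuasiSeparated h := QuasiSeparated.of_comp h (terminal.from X)
  haveI : QuasiCompact hb := MorphismProperty.of_isPullback sq.flip ‹QuasiCompact h›
  haveI : QuasiSeparated hb := MorphismProperty.of_isPullback sq.flip ‹QuasiSeparated h›
  haveI : CompactSpace ↥Yb := QuasiCompact.compactSpace_of_compactSpace hb
  haveI : QuasiSeparatedSpace ↥Yb := quasiSeparatedSpace_of_quasiSeparated hb
  exact Groth.DescentBase.BcDescent.mem_range_iff sq.w hbc hh hF ξ

end Groth.Agent.S8551
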