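import Groth.Statements.S8554
import Groth.Agent.NonAbBdry.Godement

set_option autoImplicit false
universe u
open CategoryTheory CategoryTheory.Limits AlgebraicGeometry Opposite
open NonAbH1

namespace Groth.Agent.S8554

/-- Every sheaf of groups F on the small etale site of a scheme X embeds into a sheaf of groups G with
vanishing first non-abelian cohomology on every etale X-scheme: there are G and a morphism u : F ⟶
G, injective on sections over every object of the site, such that for every etale X-scheme U every
torsor under the restriction of G to the induced site over U is trivial, i.e. H¹(U, G) is reduced to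
its base point. (The published statement adds that the first higher direct images of G along any
morphism of schemes then vanish as pointed sheaves; that clause follows from this one and is not
stated here.) -/
theorem result {X : Scheme.{u}}
    (F : Sheaf X.smallEtaleTopology GrpCat.{u + 1}) :
    ∃ (G : Sheaf X.smallEtaleTopology GrpCat.{u + 1}) (φ : F ⟶ G),
      (∀ U : X.Etaleᵒᵖ, Function.Injective (φ.hom.app U)) ∧
      ∀ (U : X.Etale) (P : NonAbH1.Torsor (G.over U)), P.IsTrivial := by
  let sp : ∀ x : X, Spec (CommRingCat.of (SeparableClosure (X.residueField x))) ⟶ X := fun x =>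
    (Scheme.SpecToEquivOfField (SeparableClosure (X.residueField x)) _).2
      ⟨x, CommRingCat.ofHom (algebraMap (X.residueField x) _)⟩
  have hsp : ∀ x : X, sp x default = x := fun x => by simp [sp, Scheme.SpecToEquivOfField]
  let Φ : X → GrothendieckTopology.Point.{u} X.smallEtaleTopology := fun x => Scheme.pointSmallEtale (sp x)
  have hcons : ∀ (V : X.Etale) (S : Sieve V), (∀ x (v : (Φ x).fiber.obj V), ∃ (W : X.Etale) (f : W ⟶ V)
      (_ : S f) (w : (Φ x).fiber.obj W), (Φ x).fiber.map f w = v) → S ∈ X.smallEtaleTopology V := by
    intro V S hS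
    have hS' : Sieve.ofArrows _ (fun a : Σ W : X.Etale, {f : W ⟶ V // S f} => a.2.1) ∈
        X.smallEtaleTopology V := by
      rw [Scheme.ofArrows_mem_smallEtaleTopology_iff]
      refine Set.eq_univ_of_forall fun v => ?_
      obtain ⟨v', hv'⟩ := Scheme.pointSmallEtaleFiberObjToPreimage_surjective (sp (V.hom v))
        (hsp (V.hom v)) V ⟨v, rfl⟩
      obtain ⟨W, f, hf, w, hw⟩ := hS (V.hom v) v'
      refine Set.mem_iUnion.2 ⟨⟨W, f, hf⟩, (Scheme.pointSmallEtaleFiberObjToPreimage (sp (V.hom v))
        (hsp (V.hom v)) w).1, ?_⟩
      have h1 := congrArg Subtype.val hv'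
      subst hw
      exact h1
    refine GrothendieckTopology.superset_covering _ ?_ hS'
    rintro W f ⟨W', b, g, ⟨a⟩, rfl⟩
    exact S.downward_closed a.2.2 b
  refine ⟨Groth.NonAbBdry.Godement.shProd Φ (Groth.NonAbBdry.Godement.stalk Φ F),
    Groth.NonAbBdry.Godement.unit Φ F, Groth.NonAbBdry.Godement.unit_injective Φ F hcons, fun U P => ?_⟩
  obtain ⟨s, hs⟩ := Groth.NonAbBdry.Godement.hasSection Φ _ U P
  exact Groth.NonAbBdry.nonempty_iso_trivial_of_section P ⟨s, hs⟩

end Groth.Agent.S8554
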