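import Groth.Statements.S8558
import Groth.Agent.NonAbBdry.Trivial

set_option autoImplicit false
universe u
open CategoryTheory CategoryTheory.Limits AlgebraicGeometry Opposite
open NonAbH1

namespace Groth.Agent.S8558

/-- Exactness of the non-abelian cohomology sequence at the global sections of the quotient: let u : F ⟶
G be a morphism of sheaves of groups on the small etale site of a scheme X that is injective on
sections over every object, and let the G-sheaf Q with its equivariant map π from G (acting on
itself by left translation) be the quotient G/F (π identifies two sections of G exactly when they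
differ by right multiplication by a section of F, and is locally surjective). If the F-torsor T is
the sheaf of local liftings of a global section c of Q to G (F acting by f · g = g u(f)⁻¹), then the
class of T in H¹(X, F) is the base point, ∂c = 1, if and only if c is the image under π of a global
section of G. -/
theorem result {X : Scheme.{u}} {F G : Sheaf X.smallEtaleTopology GrpCat.{u + 1}}
    (u : F ⟶ G) (hu : ∀ U : X.Etaleᵒᵖ, Function.Injective (u.hom.app U))
    {Q : NonAbH1.GSheaf G} (π : NonAbH1.GSheaf.trivial.{u + 1, u, u + 1} G ⟶ Q) (hQ : NonAbH1.GSheaf.IsQuotientBy.{u + 1, u, u + 1} u π)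
    (c : Q.P.obj.sections) (T : NonAbH1.Torsor F) (hT : NonAbH1.GSheaf.IsFibreOver.{u + 1, u, u + 1} u π c T.toGSheaf) :
    T.cl = 1 ↔
      ∃ g : (NonAbH1.GSheaf.uSh.{u + 1, u, u + 1} G).obj.sections, ∀ U : X.Etaleᵒᵖ, π.hom.hom.app U (g.1 U) = c.1 U := by
  exact Groth.NonAbBdry.cl_eq_one_iff u π c T hT

end Groth.Agent.S8558
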