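import Groth.Statements.S8562
-- import your own Groth.Agent.* helpers here

set_option autoImplicit false
universe u
open CategoryTheory CategoryTheory.Limits AlgebraicGeometry Opposite
open NonAbH1

namespace Groth.Agent.S8562

/-- Exactness of the sequence 0 → H¹(Y, f_*F) → H¹(X, F) → H⁰(Y, R¹f_*F) at its middle term, in terms of
torsors: let f : X ⟶ Y be a morphism of schemes, F a sheaf of groups on the small etale site of X,
f_*F its direct image on Y (sections over an etale Y-scheme V are the sections of F over X ×_Y V),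
and Q an F-torsor. Then Q is the image of a class in H¹(Y, f_*F), in the sense that there are an
f_*F-torsor P on Y and a morphism of sheaves of sets from P to the direct image of the sheaf
underlying Q which is equivariant for the actions of f_*F, if and only if the class of Q is locally
trivial over Y: there is a jointly surjective family of etale Y-schemes Y_i such that Q has a
section over every X ×_Y Y_i. -/
theorem result {X Y : Scheme.{u}} (f : X ⟶ Y)
    [EtCoh.BCCont f] (F : Sheaf X.smallEtaleTopology GrpCat.{u + 1}) (Q : NonAbH1.Torsor F) :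
    (∃ (P : NonAbH1.Torsor (((EtCoh.bc f).sheafPushforwardContinuous GrpCat.{u + 1}
        Y.smallEtaleTopology X.smallEtaleTopology).obj F))
      (φ : P.P ⟶ ((EtCoh.bc f).sheafPushforwardContinuous (Type (u + 1))
        Y.smallEtaleTopology X.smallEtaleTopology).obj Q.P),
      ∀ (V : Y.Etaleᵒᵖ) (g : F.obj.obj (op ((EtCoh.bc f).obj V.unop))) (s : P.P.obj.obj V),
        φ.hom.app V (P.smul g s) = Q.smul g (φ.hom.app V s)) ↔
    ∃ (ι : Type u) (V : ι → Y.Etale), EtCoh.Covers V ∧
      ∀ i, Nonempty (Q.P.obj.obj (op ((EtCoh.bc f).obj (V i)))) := by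
  constructor
  · rintro ⟨P, φ, -⟩
    let T : Y.Etale := MorphismProperty.Over.mk ⊤ (𝟙 Y) (inferInstanceAs (Etale (𝟙 Y)))
    obtain ⟨S, hS, hne⟩ := P.isTorsor.2 T
    have hS' : Sieve.ofArrows _ (fun a : Σ W : Y.Etale, {f : W ⟶ T // S f} => a.2.1) ∈
        Y.smallEtaleTopology T :=
      GrothendieckTopology.superset_covering _
        (fun W f hf => Sieve.ofArrows_mk _ (fun a : Σ W : Y.Etale, {f : W ⟶ T // S f} => a.2.1) ⟨W, f, hf⟩) hS
    have h := Scheme.ofArrows_mem_smallEtaleTopology_iff _ |>.1 hS'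
    have h' : ∀ y : Y, ∃ (a : Σ W : Y.Etale, {f : W ⟶ T // S f}), y ∈ Set.range a.2.1.left := fun y =>
      Set.mem_iUnion.1 (h.symm ▸ Set.mem_univ y)
    choose a ha using h'
    refine ⟨Y, fun y => (a y).1, fun y => ?_, fun y => ?_⟩
    · obtain ⟨z, hz⟩ := ha y
      have e : (a y).2.1.left = (a y).1.hom :=
        (Category.comp_id _).symm.trans (MorphismProperty.Over.w (a y).2.1)
      exact ⟨y, z, by rw [← e]; exact hz⟩
    · obtain ⟨s⟩ := hne (a y).2.1 (a y).2.2
      exact ⟨φ.hom.app _ s⟩
  · rintro ⟨ι, V, hV, hne⟩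
    refine ⟨⟨⟨((EtCoh.bc f).sheafPushforwardContinuous (Type (u + 1))
        Y.smallEtaleTopology X.smallEtaleTopology).obj Q.P, fun {W} g s => Q.smul g s,
        fun {W} s => Q.one_smul s, fun {W} g h s => Q.mul_smul g h s,
        fun {W W'} a g s => Q.map_smul ((EtCoh.bc f).map a.unop).op g s⟩,
      fun W p q => Q.isTorsor.1 _ p q, fun W => ?_⟩, 𝟙 _, fun _ _ _ => rfl⟩
    let T : Y.Etale := MorphismProperty.Over.mk ⊤ (𝟙 Y) (inferInstanceAs (Etale (𝟙 Y)))
    let t : ∀ W : Y.Etale, W ⟶ T := fun W =>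
      MorphismProperty.Over.homMk W.hom (Category.comp_id _) trivial
    have hT : Sieve.ofArrows _ (fun i => t (V i)) ∈ Y.smallEtaleTopology T := by
      rw [Scheme.ofArrows_mem_smallEtaleTopology_iff]
      refine Set.eq_univ_of_forall fun y => ?_
      obtain ⟨i, z, hz⟩ := hV y
      exact Set.mem_iUnion.2 ⟨i, z, hz⟩
    refine ⟨_, GrothendieckTopology.pullback_stable _ (t W) hT, fun W' a ha => ?_⟩
    obtain ⟨Z, b, c, ⟨i⟩, -⟩ := ha
    obtain ⟨q⟩ := hne i
    exact ⟨Q.P.obj.map ((EtCoh.bc f).map b).op q⟩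

end Groth.Agent.S8562
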