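import Groth.Statements.S8564
import Groth.Agent.Misc7.SitePush.Basic
import Groth.Agent.SiteCohomology.ModulesGrothendieck

set_option autoImplicit false
open CategoryTheory CategoryTheory.Limits
universe u
open CohCx

namespace Groth.Agent.S8564
open CategoryTheory CategoryTheory.Limits CategoryTheory.Abelian Opposite

variable {C : Type u} [SmallCategory C] {J : GrothendieckTopology C}

/-- The free abelian sheaf on a sheaf of sets. -/
noncomputable abbrev Z (K : Sheaf J (Type u)) : Sheaf J AddCommGrpCat.{u} :=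
  (presheafToSheaf J AddCommGrpCat.{u}).obj (K.obj ⋙ AddCommGrpCat.free.{u})

/-- Every abelian sheaf is a quotient of the free abelian sheaf on its underlying sheaf of sets. -/
lemma exists_epi_free (P : Sheaf J AddCommGrpCat.{u}) :
    ∃ (K : Sheaf J (Type u)) (e : Z K ⟶ P), Epi e := by
  let K : Sheaf J (Type u) := (sheafCompose J (forget AddCommGrpCat.{u})).obj P
  let c : K.obj ⋙ AddCommGrpCat.free.{u} ⟶ P.obj :=
    { app := fun U => AddCommGrpCat.adj.counit.app (P.obj.obj U)
      naturality := fun U V f => AddCommGrpCat.adj.counit.naturality (P.obj.map f) }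
  have : ∀ U, Epi (c.app U) := fun U =>
    inferInstanceAs (Epi (AddCommGrpCat.adj.counit.app (P.obj.obj U)))
  have : Epi c := NatTrans.epi_of_epi_app c
  have := (sheafificationAdjunction J AddCommGrpCat.{u}).leftAdjoint_preservesColimits
  have : Epi ((presheafToSheaf J AddCommGrpCat.{u}).map c) := inferInstance
  exact ⟨K, (presheafToSheaf J AddCommGrpCat.{u}).map c ≫
    (sheafificationAdjunction J AddCommGrpCat.{u}).counit.app P, epi_comp _ _⟩

section

variable {T : Type u} (F : T → Sheaf J AddCommGrpCat.{u})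

/-- The embeddings into injectives. -/
noncomputable abbrev S (t : T) : ShortComplex (Sheaf J AddCommGrpCat.{u}) :=
  ShortComplex.mk (Injective.ι (F t)) (cokernel.π _) (cokernel.condition _)

lemma shortExact_S (t : T) : (S F t).ShortExact :=
  { exact := ShortComplex.exact_of_g_is_cokernel _ (cokernelIsCokernel _) }

lemma lift_component (hF : ∀ t, CohCx.IsTotallyAcyclic (F t)) (K : Sheaf J (Type u)) (t : T)
    (g : Z K ⟶ (S F t).X₃) : ∃ g', g' ≫ (S F t).g = g := by
  obtain ⟨x₂, hx₂⟩ := Ext.covariant_sequence_exact₃ _ (shortExact_S F t) (Ext.mk₀ g) (zero_add 1)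
    ((hF t K 0).elim _ _)
  obtain ⟨g', rfl⟩ := (Ext.mk₀_bijective _ _).2 x₂
  rw [Ext.mk₀_comp_mk₀] at hx₂
  exact ⟨g', (Ext.mk₀_bijective _ _).1 hx₂⟩

lemma acyclic_coker (hF : ∀ t, CohCx.IsTotallyAcyclic (F t)) (t : T) :
    CohCx.IsTotallyAcyclic (S F t).X₃ := fun K p =>
  subsingleton_of_forall_eq 0 fun x => by
    obtain ⟨x₂, rfl⟩ := Ext.covariant_sequence_exact₃ _ (shortExact_S F t) x rfl
      ((hF t K (p + 1)).elim _ _)
    rw [Ext.eq_zero_of_injective x₂, Ext.zero_comp]

/-- The product of the embeddings. -/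
noncomputable abbrev P : ShortComplex (Sheaf J AddCommGrpCat.{u}) :=
  ShortComplex.mk (Limits.Pi.map fun t => (S F t).f) (Limits.Pi.map fun t => (S F t).g)
    (Limits.Pi.hom_ext _ _ fun t => by simp)

lemma lift_product (hF : ∀ t, CohCx.IsTotallyAcyclic (F t)) (K : Sheaf J (Type u))
    (g : Z K ⟶ (P F).X₃) : ∃ g', g' ≫ (P F).g = g := by
  choose g' hg' using fun t => lift_component F hF K t (g ≫ Pi.π _ t)
  exact ⟨Pi.lift g', Limits.Pi.hom_ext _ _ fun t => by simpa using hg' t⟩

lemma shortExact_P (hF : ∀ t, CohCx.IsTotallyAcyclic (F t)) : (P F).ShortExact := by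
  have hmono : Mono (P F).f := ⟨fun a b h => Limits.Pi.hom_ext _ _ fun t => by
    have := congrArg (· ≫ Pi.π (fun t => (S F t).X₂) t) h
    have h' : (a ≫ Pi.π (fun t => F t) t) ≫ Injective.ι (F t) = (b ≫ Pi.π (fun t => F t) t) ≫ Injective.ι (F t) := by
      simpa [Category.assoc] using this
    exact (cancel_mono _).1 h'⟩
  have hepi : Epi (P F).g := by
    obtain ⟨K, e, he⟩ := exists_epi_free (P F).X₃
    obtain ⟨g', hg'⟩ := lift_product F hF K e
    exact epi_of_epi_fac hg'
  refine { exact := ?_, mono_f := hmono, epi_g := hepi }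
  apply ShortComplex.exact_of_f_is_kernel
  refine KernelFork.IsLimit.ofι' _ _ fun {W} k hk => ?_
  have hk' : ∀ t, (k ≫ Pi.π _ t) ≫ (S F t).g = 0 := fun t => by
    have := congrArg (· ≫ Pi.π (fun t => (S F t).X₃) t) hk
    simpa [Category.assoc] using this
  refine ⟨Pi.lift fun t => (shortExact_S F t).exact.lift (k ≫ Pi.π _ t) (hk' t),
    Limits.Pi.hom_ext _ _ fun t => ?_⟩
  simp
  exact (shortExact_S F t).exact.lift_f _ (hk' t)

end

lemma pi_acyclic (p : ℕ) : ∀ {T : Type u} (F : T → Sheaf J AddCommGrpCat.{u}),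
    (∀ t, CohCx.IsTotallyAcyclic (F t)) → ∀ K : Sheaf J (Type u), Subsingleton (CohCx.HK K (∏ᶜ F) (p + 1)) := by
  induction p with
  | zero =>
    intro T F hF K
    refine subsingleton_of_forall_eq 0 fun x => ?_
    obtain ⟨x₃, rfl⟩ := Ext.covariant_sequence_exact₁ _ (shortExact_P F hF) x
      (Ext.eq_zero_of_injective _) (zero_add 1)
    obtain ⟨g, rfl⟩ := (Ext.mk₀_bijective _ _).2 x₃
    obtain ⟨g', rfl⟩ := lift_product F hF K g
    rw [← Ext.mk₀_comp_mk₀, Ext.comp_assoc_of_second_deg_zero, (shortExact_P F hF).comp_extClass,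
      Ext.comp_zero]
  | succ p ih =>
    intro T F hF K
    refine subsingleton_of_forall_eq 0 fun x => ?_
    obtain ⟨x₃, rfl⟩ := Ext.covariant_sequence_exact₁ _ (shortExact_P F hF) x
      (Ext.eq_zero_of_injective _) (rfl : (p + 1) + 1 = p + 2)
    rw [(ih (fun t => (S F t).X₃) (acyclic_coker F hF) K).elim x₃ 0, Ext.zero_comp]


/-- Let (F_t) be a family of abelian sheaves on a small site, indexed by a small set, such that each F_t
is totally acyclic, i.e. H^p(K, F_t) = 0 for every sheaf of sets K and every p > 0. Then the product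
sheaf of the family is totally acyclic. (The published statement is for modules over a ringed topos;
this row is the case of abelian sheaves.) -/
theorem result {C : Type u} [SmallCategory C] (J : GrothendieckTopology C)
    {T : Type u} (F : T → Sheaf J AddCommGrpCat.{u}) (hF : ∀ t, CohCx.IsTotallyAcyclic (F t)) :
    CohCx.IsTotallyAcyclic (∏ᶜ F) := by
  exact fun K p => pi_acyclic p F hF K

end Groth.Agent.S8564
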