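import Groth.Statements.S8567
import Groth.Agent.CohTopBC.Germs

set_option autoImplicit false
open CategoryTheory TopologicalSpace Opposite
universe u
open CohTop

namespace Groth.Agent.S8567

/-- Let X be a topological space, K ⊆ X a compact subset such that any two distinct points of K have
disjoint neighbourhoods in X, and F a flasque abelian sheaf on X. Then the inverse image F|K of F on
the subspace K is a soft sheaf: for every closed subset A of K, every section of (F|K)|A over A is
the restriction of a section of F|K over K (the restriction map is the unit of the inverse image /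
direct image adjunction for the inclusion A → K, taken on global sections). -/
theorem result {X : TopCat.{u}} {K : Set X} (hK : IsCompact K)
    (hsep : ∀ x ∈ K, ∀ y ∈ K, x ≠ y → ∃ U V : Set X, IsOpen U ∧ IsOpen V ∧ x ∈ U ∧ y ∈ V ∧ Disjoint U V)
    (F : CohTop.Ab X) [TopCat.Sheaf.IsFlasque F] {A : Set K} (hA : IsClosed A) :
    Function.Surjective
      ((((TopCat.Sheaf.pullbackPushforwardAdjunction AddCommGrpCat.{u}
        (TopCat.ofHom ⟨((↑) : A → K), continuous_subtype_val⟩ : TopCat.of A ⟶ TopCat.of K)).unit.app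
        ((CohTop.pull (TopCat.ofHom ⟨((↑) : K → X), continuous_subtype_val⟩ : TopCat.of K ⟶ X)).obj F)).hom.app
        (op ⊤)).hom) := by
  haveI : CompactSpace K := isCompact_iff_compactSpace.1 hK
  let i : TopCat.of K ⟶ X := TopCat.ofHom ⟨((↑) : K → X), continuous_subtype_val⟩
  let j : TopCat.of A ⟶ TopCat.of K := TopCat.ofHom ⟨((↑) : A → K), continuous_subtype_val⟩
  have hsoft := Groth.Agent.CohTopBC.isSoftSh_pull_flasque i Topology.IsEmbedding.subtypeVal
    (fun x y hxy => hsep x.1 x.2 y.1 y.2 fun e => hxy (Subtype.ext e)) F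
  intro t
  obtain ⟨b, hb, hbt⟩ := Groth.Agent.CohTopBC.exists_locRep_down (i := j) Topology.IsEmbedding.subtypeVal
    ((CohTop.pull i).obj F) (A := Set.univ)
    (fun z _ => Groth.Agent.CohDescent.gm ((CohTop.pull j).obj ((CohTop.pull i).obj F)) z ⊤ trivial t)
    (fun z _ => ⟨⊤, t, trivial, fun z' _ _ => rfl⟩)
  have hr : j '' Set.univ = A := by
    ext z
    exact ⟨fun ⟨w, _, e⟩ => e ▸ w.2, fun hz => ⟨⟨z, hz⟩, trivial, rfl⟩⟩
  obtain ⟨s, hs⟩ := hsoft (j '' Set.univ) (hr.symm ▸ hA) b hb
  refine ⟨s, Groth.Agent.CohDescent.sect_ext (G := (CohTop.pull j).obj ((CohTop.pull i).obj F)) (W := ⊤)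
    _ _ fun z hz => ?_⟩
  refine (Groth.Agent.CohDescent.tau_gm j ((CohTop.pull i).obj F) rfl ⊤ trivial s).symm.trans ?_
  rw [hs (j z) ⟨z, trivial, rfl⟩]
  exact hbt z trivial

end Groth.Agent.S8567
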