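import Groth.Statements.S8569
import Groth.Agent.SitesTopoi.Topos.GiraudReflect
import Mathlib.CategoryTheory.Adjunction.Evaluation
import Groth.Agent.SitesTopoi.Topos.Eps

set_option autoImplicit false
open CategoryTheory
universe v u
open SGA4

namespace Groth.Agent.S8569

open CategoryTheory.Limits in
open Groth.SitesTopoi.Topos in
theorem functor_to_sheaf_isTopos {C : Type u} [SmallCategory C] (J : GrothendieckTopology C)
    (D : Type u) [SmallCategory D] : SGA4.IsTopos.{u + 1, u} (D ⥤ Sheaf J (Type u)) := by
  refine isTopos_of_toposFunctors (fun d : D => { U := (evaluation D (Sheaf J (Type u))).obj d })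
    (fun f h => ?_) ⟨ObjectProperty.ofObj fun p : D × C => (evaluationLeftAdjoint (Sheaf J (Type u)) p.1).obj (epsObj p.2),
      inferInstance, fun X Y f hf => ?_⟩
  · exact (NatTrans.isIso_iff_isIso_app f).2 h
  · refine (NatTrans.isIso_iff_isIso_app f).2 fun d => isIso_of_bijective (f.app d) fun c => ?_
    let e := fun Z => (evaluationAdjunctionRight (Sheaf J (Type u)) d).homEquiv (epsObj c) Z
    have key : ∀ y, ∃! x, ap (f.app d) x = y := fun y => by
      obtain ⟨h', hh', huniq⟩ := hf _ (ObjectProperty.ofObj_apply _ (d, c)) ((e Y).symm (epsLift y))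
      refine ⟨ap ((e X) h') (epsSec (𝟙 c)), ?_, fun x hx => ?_⟩
      · have := congrArg (fun φ => ap ((e Y) φ) (epsSec (J := J) (𝟙 c))) hh'
        simp only [Equiv.apply_symm_apply, ap_epsLift, rs_id] at this
        change ap (f.app d) _ = y
        rw [← this, ← ap_comp]
        exact congrArg (fun φ => ap φ _) (Adjunction.homEquiv_naturality_right _ h' f).symm
      · have h₁ : (e X).symm (epsLift x) ≫ f = (e Y).symm (epsLift y) := by
          refine (Adjunction.homEquiv_naturality_right_symm _ _ f).symm.trans (congrArg _ ?_)
          exact eps_hom_ext (by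
            rw [ap_comp, ap_epsLift, ap_epsLift, rs_id, rs_id]
            exact hx)
        rw [← huniq _ h₁, Equiv.apply_symm_apply, ap_epsLift, rs_id]
    exact ⟨fun a b hab => (key _).unique hab rfl, fun y => (key y).exists⟩


/-- Let E be a topos (a category equivalent to the category of sheaves of sets on a small site, for the
universe u) and D a u-small category. Then the category of functors D ⥤ E, which is the category of
sections of the constant D-topos with value E, is a topos. (The published statement is for an
arbitrary D-topos, i.e. a category bifibred in topoi over D; this row is the case of a constant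
one.) -/
theorem result {E : Type v} [Category.{u} E] (hE : SGA4.IsTopos E)
    (D : Type u) [SmallCategory D] : SGA4.IsTopos (D ⥤ E) := by
  obtain ⟨C, _, J, ⟨e⟩⟩ := hE
  obtain ⟨C', i, J', ⟨e'⟩⟩ := functor_to_sheaf_isTopos J D
  exact ⟨C', i, J', ⟨e.congrRight.trans e'⟩⟩

end Groth.Agent.S8569
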