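import Groth.Statements.S8570
import Groth.Agent.CohDescent.DescentComplex
import Groth.Agent.CohDescent.DisjointUnion
-- import your own Groth.Agent.* helpers here

set_option autoImplicit false
open CategoryTheory TopologicalSpace
universe u
open CohTop

namespace Groth.Agent.S8570

section Aux

open Groth.Agent.CohDescent Opposite Simplicial

variable {X : TopCat.{u}} {I : Type u} (U : I → Set X)

/-- The intersection indexed by a tuple. -/
abbrev piece {n : ℕ} (σ : Fin n → I) : Set X := ⋂ k, U (σ k)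

/-- The disjoint union of the intersections of `n` members of the family. -/
abbrev level (n : ℕ) : Type u := Σ σ : Fin n → I, ↥(piece U σ)

/-- The map to `X`. -/
def levelVal {n : ℕ} : C(level U n, X) :=
  ⟨fun z => z.2.1, continuous_sigma fun _ => continuous_subtype_val⟩

/-- The inclusion of a summand. -/
def incl {n : ℕ} (σ : Fin n → I) : C(piece U σ, level U n) where
  toFun := fun z => (⟨σ, z⟩ : level U n)
  continuous_toFun := continuous_sigmaMk (σ := fun τ : Fin n → I => ↥(piece U τ)) (i := σ)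

/-- Change of indices. -/
def levelMap {n m : ℕ} (θ : Fin m → Fin n) : C(level U n, level U m) :=
  ⟨fun z => ⟨z.1 ∘ θ, z.2.1, Set.mem_iInter.2 fun k => Set.mem_iInter.1 z.2.2 (θ k)⟩,
    continuous_sigma fun σ => (continuous_sigmaMk (i := σ ∘ θ)).comp
      (continuous_subtype_val.subtype_mk (p := fun y => y ∈ piece U (σ ∘ θ))
        fun x : piece U σ => Set.mem_iInter.2 fun k => Set.mem_iInter.1 x.2 (θ k))⟩

lemma level_ext {n : ℕ} {z z' : level U n} (h1 : z.1 = z'.1) (h2 : z.2.1 = z'.2.1) : z = z' := by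
  obtain ⟨σ, x, hx⟩ := z
  obtain ⟨σ', x', hx'⟩ := z'
  dsimp at h1 h2
  subst h1 h2
  rfl

/-- The simplicial space of a family. -/
def nerve : SimplicialObject (Over X) where
  obj n := Over.mk (TopCat.ofHom (levelVal U) : TopCat.of (level U (n.unop.len + 1)) ⟶ X)
  map {n m} θ := Over.homMk (TopCat.ofHom (levelMap U θ.unop.toOrderHom)) (by rfl)
  map_id _ := Over.OverMorphism.ext rfl
  map_comp _ _ := Over.OverMorphism.ext rfl

variable {U}

lemma locallyFinite_piece (hlf : LocallyFinite U) (n : ℕ) :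
    LocallyFinite fun σ : Fin (n + 1) → I => piece U σ := fun x => by
  obtain ⟨V, hV, hfin⟩ := hlf x
  refine ⟨V, hV, ?_⟩
  refine (Set.Finite.pi (fun _ : Fin (n + 1) => hfin)).subset fun σ hσ k _ => ?_
  obtain ⟨y, hy, hyV⟩ := hσ
  exact ⟨y, Set.mem_iInter.1 hy k, hyV⟩

lemma isClosedSepFibres_str (hU : ∀ i, IsClosed (U i)) (hlf : LocallyFinite U) (n : ℕ) :
    IsClosedSepFibres (str (nerve U) n) := by
  refine ⟨fun C hC => ?_, fun x => ?_⟩
  · have hi : ∀ σ : Fin (n + 1) → I, IsClosed ((fun z : piece U σ => (z : X)) ''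
        (incl U σ ⁻¹' (C : Set (level U (n + 1))))) := fun σ =>
      (isClosed_iInter fun k => hU (σ k)).isClosedEmbedding_subtypeVal.isClosedMap
        (incl U σ ⁻¹' (C : Set (level U (n + 1)))) (IsClosed.preimage (incl U σ).continuous hC)
    have : str (nerve U) n '' C = ⋃ σ : Fin (n + 1) → I, (fun z : piece U σ => (z : X)) ''
        (incl U σ ⁻¹' (C : Set (level U (n + 1)))) := by
      ext y
      simp only [Set.mem_iUnion, Set.mem_image]
      constructor
      · rintro ⟨⟨σ, z⟩, hz, rfl⟩
        exact ⟨σ, z, hz, rfl⟩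
      · rintro ⟨σ, z, hz, rfl⟩
        exact ⟨⟨σ, z⟩, hz, rfl⟩
    rw [this]
    exact ((locallyFinite_piece hlf n).subset fun σ => by rintro _ ⟨z, -, rfl⟩; exact z.2).isClosed_iUnion hi
  · refine ⟨fun y => ⟨Set.range (Sigma.mk (β := fun σ : Fin (n + 1) → I => ↥(piece U σ)) (y.1 : level U (n + 1)).1),
      isOpen_range_sigmaMk⟩, fun y => ⟨(y.1 : level U (n + 1)).2, rfl⟩, fun a b hab => ?_⟩
    refine SetLike.ext fun z => ⟨fun hz => ?_, fun hz => (Set.notMem_empty z hz).elim⟩
    obtain ⟨⟨u, hu⟩, ⟨v, hv⟩⟩ := hz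
    have h1 : (a.1 : level U (n + 1)).1 = (b.1 : level U (n + 1)).1 :=
      (congrArg Sigma.fst hu).trans (congrArg Sigma.fst hv).symm
    exact (hab (Subtype.ext (level_ext U h1 (a.2.trans b.2.symm)))).elim

lemma hasFibreContraction_nerve (hcov : ⋃ i, U i = Set.univ) : HasFibreContraction (nerve U) := by
  refine ⟨fun x => ?_⟩
  obtain ⟨i, hi⟩ := Set.mem_iUnion.1 (Set.eq_univ_iff_forall.1 hcov x)
  refine ⟨⟨(⟨fun _ => i, x, Set.mem_iInter.2 fun _ => hi⟩ : level U 1), rfl⟩,
    fun n y => ⟨(⟨Fin.cons i (y.1 : level U (n + 1)).1, x, Set.mem_iInter.2 fun k => by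
      cases k using Fin.cases with
      | zero => simpa using hi
      | succ k =>
        have := Set.mem_iInter.1 (y.1 : level U (n + 1)).2.2 k
        rw [show ((y.1 : level U (n + 1)).2.1 : X) = x from y.2] at this
        simpa using this⟩ : level U (n + 1 + 1)), rfl⟩, fun n y => ?_, fun y => ?_, fun n j y => ?_⟩
  · refine Subtype.ext (level_ext U (funext fun k => ?_) y.2.symm)
    show (Fin.cons i (y.1 : level U (n + 1)).1 : Fin (n + 2) → I) ((0 : Fin (n + 2)).succAbove k) = _
    simp
  · refine Subtype.ext (level_ext U (funext fun k => ?_) rfl)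
    show (Fin.cons i (y.1 : level U 1).1 : Fin 2 → I) ((1 : Fin 2).succAbove k) = i
    obtain rfl : k = 0 := Subsingleton.elim (α := Fin 1) _ _
    rfl
  · refine Subtype.ext (level_ext U (funext fun k => ?_) rfl)
    show (Fin.cons i (y.1 : level U (n + 1 + 1)).1 : Fin (n + 3) → I) (j.succ.succAbove k) =
      (Fin.cons i ((y.1 : level U (n + 1 + 1)).1 ∘ j.succAbove) : Fin (n + 2) → I) k
    cases k using Fin.cases with
    | zero => simp
    | succ k => simp

theorem nonempty_H_level (n : ℕ) (F : CohTop.Ab X) (q : ℕ) :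
    Nonempty (CohTop.H ((CohTop.pull (str (nerve U) n)).obj F) q ≃+ ∀ σ : Fin (n + 1) → I,
      CohTop.H ((CohTop.pull (TopCat.ofHom ⟨(Subtype.val : ↥(piece U σ) → X), continuous_subtype_val⟩ :
        TopCat.of (piece U σ : Set X) ⟶ X)).obj F) q) := by
  let j : ∀ σ : Fin (n + 1) → I, TopCat.of (piece U σ : Set X) ⟶ TopCat.of (level U (n + 1)) := fun σ =>
    TopCat.ofHom (incl U σ)
  obtain ⟨e⟩ := nonempty_H_disjointUnion j (fun σ => Topology.IsOpenEmbedding.sigmaMk (σ := fun τ : Fin (n + 1) → I => ↥(piece U τ)) (i := σ))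
    (fun y => ⟨y.1, y.2, rfl⟩) (fun z z' h => congrArg Sigma.fst h) ((CohTop.pull (str (nerve U) n)).obj F) q
  refine ⟨e.trans (AddEquiv.piCongrRight fun σ => Groth.SiteCohomology.extIsoRight ?_ _ q)⟩
  exact ((Adjunction.leftAdjointUniq (Groth.SiteCohomology.pullPushAdj _)
    (((Groth.SiteCohomology.pullPushAdj (str (nerve U) n)).comp (Groth.SiteCohomology.pullPushAdj (j σ))).ofNatIsoRight
      (Iso.refl _))).app F).symm

end Aux

/-- Let (U_i), i in I, be a locally finite covering of a topological space X by closed subsets and F an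
abelian sheaf on X. The disjoint union of the U_i is then of cohomological descent over X, and the
descent spectral sequence reads, in existence form: there is a bounded spectral sequence of abelian
groups starting at page one, with E_1^{p,q} isomorphic for p, q ≥ 0 to the product, over all ordered
(p+1)-tuples of indices (i_0, ..., i_p), of the groups H^q(U_{i_0} ∩ ... ∩ U_{i_p}, F|(U_{i_0} ∩ ...
∩ U_{i_p})) (inverse image of F on the closed subspace) and zero otherwise, together with abutment
data whose filtrations are finite on H^n(X, F) for n ≥ 0 (zero for n < 0). (The E_1 identifications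
and the abutment isomorphisms are asserted to exist only; the first differential, which is the
alternating sum of the restriction maps, is not part of this statement.) -/
theorem result {X : TopCat.{u}} {I : Type u} (U : I → Set X)
    (hU : ∀ i, IsClosed (U i)) (hlf : LocallyFinite U) (hcov : ⋃ i, U i = Set.univ) (F : CohTop.Ab X) :
    ∃ (E : CohomologicalSpectralSequence AddCommGrpCat.{u} 1)
      (a : SpSeq.Abutment E (fun n : ℤ =>
        if 0 ≤ n then AddCommGrpCat.of (CohTop.H F n.toNat) else AddCommGrpCat.of PUnit.{u + 1})),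
      (∀ n, a.IsFinite n) ∧ SpSeq.IsBounded E ∧
      ∀ p q : ℤ, Nonempty ((E.page 1 le_rfl).X (p, q) ≅
        (if 0 ≤ p ∧ 0 ≤ q then
          AddCommGrpCat.of (∀ σ : Fin (p.toNat + 1) → I,
            CohTop.H ((CohTop.pull (TopCat.ofHom ⟨((↑) : (⋂ k, U (σ k) : Set X) → X), continuous_subtype_val⟩ :
              TopCat.of (⋂ k, U (σ k) : Set X) ⟶ X)).obj F) q.toNat)
         else AddCommGrpCat.of PUnit.{u + 1})) := by
  obtain ⟨E, a, ha, hb, hE⟩ := Groth.Agent.CohDescent.exists_descent_spectralSequence F (nerve U)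
    (isClosedSepFibres_str hU hlf) (hasFibreContraction_nerve hcov)
  refine ⟨E, a, ha, hb, fun p q => ?_⟩
  obtain ⟨i⟩ := hE p q
  by_cases h : 0 ≤ p ∧ 0 ≤ q
  · rw [if_pos h] at i ⊢
    obtain ⟨e⟩ := nonempty_H_level (U := U) p.toNat F q.toNat
    exact ⟨i ≪≫ AddEquiv.toAddCommGrpIso
      (X := AddCommGrpCat.of (CohTop.H ((CohTop.pull (Groth.Agent.CohDescent.str (nerve U) p.toNat)).obj F) q.toNat))
      (Y := AddCommGrpCat.of (∀ σ : Fin (p.toNat + 1) → I,
        CohTop.H ((CohTop.pull (TopCat.ofHom ⟨(Subtype.val : ↥(piece U σ) → X), continuous_subtype_val⟩ :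
          TopCat.of (piece U σ : Set X) ⟶ X)).obj F) q.toNat)) e⟩
  · rw [if_neg h] at i ⊢
    exact ⟨i⟩

end Groth.Agent.S8570
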