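import Groth.Statements.S8575
import Groth.Agent.DescentBase.CechPushPullSS

set_option autoImplicit false
open CategoryTheory CategoryTheory.Limits AlgebraicGeometry
universe u
open EtDesc

namespace Groth.Agent.S8575

/-- Let f : X → Y be an integral surjective morphism of schemes and F any abelian sheaf on the small
etale site of Y. Then f is of cohomological descent for F, and the descent spectral sequence reads,
in existence form: there is a bounded spectral sequence of abelian groups starting at page one with
E_1^{p,q} isomorphic, for p, q ≥ 0, to the etale cohomology group H^q(X_p, F|X_p), where X_p is the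
(p+1)-fold fibre product of X over Y and F|X_p the inverse image of F along its projection to Y, and
zero otherwise, together with abutment data whose filtrations are finite on H^n(Y_et, F) for n ≥ 0
(zero for n < 0). (The E_1 identifications and the abutment isomorphisms are asserted to exist only;
the differentials are not part of this statement.) -/
theorem result {X Y : Scheme.{u}} (f : X ⟶ Y)
    [IsIntegralHom f] [Surjective f] (F : EtCoh.Ab Y) :
    ∃ (E : CohomologicalSpectralSequence AddCommGrpCat.{u + 1} 1)
      (a : SpSeq.Abutment E (fun n : ℤ =>
        if 0 ≤ n then AddCommGrpCat.of (EtCoh.H Y F n.toNat) else AddCommGrpCat.of PUnit.{u + 2})),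
      (∀ n, a.IsFinite n) ∧ SpSeq.IsBounded E ∧
      ∀ p q : ℤ, Nonempty ((E.page 1 le_rfl).X (p, q) ≅
        (if 0 ≤ p ∧ 0 ≤ q then
          AddCommGrpCat.of (EtCoh.H (widePullback Y (fun _ : Fin (p.toNat + 1) => X) (fun _ => f))
            ((EtCoh.pull (WidePullback.base (fun _ : Fin (p.toNat + 1) => f) :
              widePullback Y (fun _ : Fin (p.toNat + 1) => X) (fun _ => f) ⟶ Y)).obj F) q.toNat)
         else AddCommGrpCat.of PUnit.{u + 2})) := by
  exact Groth.DescentBase.PushPull.exists_descent_spectralSequence F f

end Groth.Agent.S8575
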