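import Groth.Statements.S8577
import Groth.Agent.CohTopBC.HyperMain

set_option autoImplicit false
open CategoryTheory CategoryTheory.Limits TopologicalSpace Opposite
universe u
open CohTop

namespace Groth.Agent.S8577

/-- In the setting of topological spaces and proper surjective maps, let S be a topological space and K
a simplicial object of spaces over S which is a proper hypercovering: the structure map K_0 → S and,
for every n, the canonical map K_{n+1} → (cosk_n K)_{n+1} (n-coskeleton computed in spaces over S,
assumed to exist as a right Kan extension) are proper and surjective, proper meaning universally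
closed with any two distinct points of a fibre separated by disjoint open subsets. Then K is of
cohomological descent over S, and the descent spectral sequence reads, in existence form: for every
abelian sheaf F on S there is a bounded spectral sequence of abelian groups starting at page one
with E_1^{p,q} isomorphic, for p, q ≥ 0, to H^q(K_p, F|K_p) (inverse image of F along K_p → S) and
zero otherwise, together with abutment data whose filtrations are finite on H^n(S, F) for n ≥ 0
(zero for n < 0). (The E_1 identifications and the abutment isomorphisms are asserted to exist only;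
the differentials are not part of this statement.) -/
theorem result {S : TopCat.{u}}
    [∀ (n : ℕ) (G : (SimplexCategory.Truncated n)ᵒᵖ ⥤ Over S),
      (SimplexCategory.Truncated.inclusion n).op.HasRightKanExtension G]
    (K : SimplicialObject (Over S))
    (h0c : IsProperMap (K.obj (op (SimplexCategory.mk 0))).hom)
    (h0s : ∀ x x' : (K.obj (op (SimplexCategory.mk 0))).left, (K.obj (op (SimplexCategory.mk 0))).hom x =
      (K.obj (op (SimplexCategory.mk 0))).hom x' → x ≠ x' →
      ∃ U V : Set (K.obj (op (SimplexCategory.mk 0))).left, IsOpen U ∧ IsOpen V ∧ x ∈ U ∧ x' ∈ V ∧ Disjoint U V)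
    (h0j : Function.Surjective (K.obj (op (SimplexCategory.mk 0))).hom)
    (hc : ∀ n : ℕ, IsProperMap (((SimplicialObject.coskAdj n).unit.app K).app (op (SimplexCategory.mk (n + 1)))).left)
    (hs : ∀ (n : ℕ) (x x' : (K.obj (op (SimplexCategory.mk (n + 1)))).left),
      (((SimplicialObject.coskAdj n).unit.app K).app (op (SimplexCategory.mk (n + 1)))).left x =
        (((SimplicialObject.coskAdj n).unit.app K).app (op (SimplexCategory.mk (n + 1)))).left x' → x ≠ x' →
      ∃ U V : Set (K.obj (op (SimplexCategory.mk (n + 1)))).left, IsOpen U ∧ IsOpen V ∧ x ∈ U ∧ x' ∈ V ∧ Disjoint U V)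
    (hj : ∀ n : ℕ, Function.Surjective (((SimplicialObject.coskAdj n).unit.app K).app (op (SimplexCategory.mk (n + 1)))).left)
    (F : CohTop.Ab S) :
    ∃ (E : CohomologicalSpectralSequence AddCommGrpCat.{u} 1)
      (a : SpSeq.Abutment E (fun n : ℤ =>
        if 0 ≤ n then AddCommGrpCat.of (CohTop.H F n.toNat) else AddCommGrpCat.of PUnit.{u + 1})),
      (∀ n, a.IsFinite n) ∧ SpSeq.IsBounded E ∧
      ∀ p q : ℤ, Nonempty ((E.page 1 le_rfl).X (p, q) ≅
        (if 0 ≤ p ∧ 0 ≤ q then
          AddCommGrpCat.of (CohTop.H ((CohTop.pull (K.obj (op (SimplexCategory.mk p.toNat))).hom).obj F) q.toNat)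
         else AddCommGrpCat.of PUnit.{u + 1})) := by
  exact Groth.Agent.CohTopBC.DescentSite.exists_proper_hypercovering_spectralSequence h0c h0s h0j hc hs hj F

end Groth.Agent.S8577
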