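import Groth.Statements.S8579
import Mathlib
import Groth.Agent.Calg8.DegenerateSS
import Groth.Agent.SiteCohomology.Flasque
import Groth.Agent.SiteCohomology.Free

set_option autoImplicit false
universe u
open CategoryTheory CategoryTheory.Limits TopologicalSpace
open CohTop

namespace Groth.Agent.S8579

open Abelian Opposite
open Groth.Agent.Calg8 Groth.SiteCohomology

section Abstract

universe v w u₁ u₂

variable {C : Type u₁} [Category.{v} C] [Abelian C] {D : Type u₂} [Category.{v} D] [Abelian D]
  (P : C ⥤ D) [P.Additive] [PreservesFiniteLimits P] [PreservesFiniteColimits P]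
  (Q : D ⥤ C) [Q.Additive] [PreservesFiniteLimits Q] [PreservesFiniteColimits Q]

attribute [local simp] Ext.mapExactFunctor_comp Ext.mapExactFunctor_mk₀ Ext.mapExactFunctor_extClass

attribute [local instance] Ext.subsingleton_of_injective in
/-- A retraction of exact functors induces retractions on `Ext`. -/
theorem bijective_mapExt_mapExt (e : P ⋙ Q ≅ 𝟭 C) [HasExt.{w} C] [HasExt.{w} D] [EnoughInjectives C]
    (X Y : C) (n : ℕ) :
    Function.Bijective ((Q.mapExtAddHom (P.obj X) (P.obj Y) n).comp (P.mapExtAddHom X Y n)) := by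
  haveI : (P ⋙ Q).Full := Functor.Full.of_iso e.symm
  haveI : (P ⋙ Q).Faithful := Functor.Faithful.of_iso e.symm
  induction n generalizing Y with
  | zero =>
    have hR : Function.Bijective ((P ⋙ Q).map : (X ⟶ Y) → _) :=
      ⟨fun a b h => (P ⋙ Q).map_injective h, (P ⋙ Q).map_surjective⟩
    have : ((Q.mapExtAddHom (P.obj X) (P.obj Y) 0).comp (P.mapExtAddHom X Y 0) : Ext X Y 0 → _) =
        Ext.mk₀ ∘ (P ⋙ Q).map ∘ Ext.homEquiv₀ := by
      funext x
      obtain ⟨f, rfl⟩ := (Ext.mk₀_bijective X Y).2 x
      simp [Ext.homEquiv₀]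
      
    rw [this]
    exact (Ext.mk₀_bijective _ _).comp (hR.comp Ext.homEquiv₀.bijective)
  | succ n hn =>
    let I : InjectivePresentation Y := Classical.arbitrary _
    let S := ShortComplex.mk _ _ (cokernel.condition I.f)
    haveI := I.injective
    have : Injective ((S.map P).map Q).X₂ := Injective.of_iso (e.app I.J).symm inferInstance
    have hS : S.ShortExact := { exact := ShortComplex.exact_cokernel I.f }
    have hS' : ((S.map P).map Q).ShortExact := (hS.map_of_exact P).map_of_exact Q
    exact AddMonoidHom.bijective_of_surjective_of_bijective_of_right_exact _ _ _ _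
      ((Q.mapExtAddHom _ _ n).comp (P.mapExtAddHom X S.X₂ n))
      ((Q.mapExtAddHom _ _ n).comp (P.mapExtAddHom X S.X₃ n))
      ((Q.mapExtAddHom _ _ (n + 1)).comp (P.mapExtAddHom X S.X₁ (n + 1)))
      (by
        refine AddMonoidHom.ext fun x => ?_
        show (((x.mapExactFunctor P).mapExactFunctor Q).comp (Ext.mk₀ ((S.map P).map Q).g) (add_zero n)) =
          ((x.comp (Ext.mk₀ S.g) (add_zero n)).mapExactFunctor P).mapExactFunctor Q
        simp only [Ext.mapExactFunctor_comp, Ext.mapExactFunctor_mk₀]
        rfl)
      (by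
        refine AddMonoidHom.ext fun x => ?_
        show (((x.mapExactFunctor P).mapExactFunctor Q).comp hS'.extClass rfl) =
          ((x.comp hS.extClass rfl).mapExactFunctor P).mapExactFunctor Q
        rw [Ext.mapExactFunctor_comp, Ext.mapExactFunctor_comp, Ext.mapExactFunctor_extClass P hS]
        exact congrArg (fun z => Ext.comp ((x.mapExactFunctor P).mapExactFunctor Q) z rfl)
          (Ext.mapExactFunctor_extClass Q (hS.map_of_exact P)).symm)
      ((ShortComplex.ab_exact_iff_function_exact _).mp
        (Ext.covariant_sequence_exact₃' X hS n (n + 1) rfl))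
      ((ShortComplex.ab_exact_iff_function_exact _).mp
        (Ext.covariant_sequence_exact₃' (Q.obj (P.obj X)) hS' n (n + 1) rfl))
      (hn _).surjective (hn _)
      (fun x₁ ↦ Ext.covariant_sequence_exact₁ _ hS x₁ (by subsingleton) rfl)
      (fun y₁ ↦ Ext.covariant_sequence_exact₁ _ hS' y₁ (by subsingleton) rfl)

end Abstract

section Topology

variable {S A B : TopCat.{u}}

instance (g : A ⟶ B) : (CohTop.pull g).Additive := (pullPushAdj g).left_adjoint_additive

instance (g : A ⟶ B) : PreservesFiniteColimits (CohTop.pull g) :=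
  haveI := (pullPushAdj g).leftAdjoint_preservesColimits
  inferInstance

/-- Composition of inverse images. -/
noncomputable def pullComp (g : A ⟶ B) (b : B ⟶ S) : CohTop.pull (g ≫ b) ≅ CohTop.pull b ⋙ CohTop.pull g :=
  Adjunction.leftAdjointUniq (pullPushAdj (g ≫ b))
    (((pullPushAdj b).comp (pullPushAdj g)).ofNatIsoRight (Iso.refl _))

/-- Inverse image along a retraction. -/
noncomputable def pullRetr (g : A ⟶ B) (t : B ⟶ A) (h : t ≫ g = 𝟙 B) :
    CohTop.pull g ⋙ CohTop.pull t ≅ 𝟭 _ :=
  Adjunction.leftAdjointUniq (((pullPushAdj g).comp (pullPushAdj t)).ofNatIsoRight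
    (show CohTop.push t ⋙ CohTop.push g ≅ 𝟭 (CohTop.Ab B) from
      (Iso.refl _ : CohTop.push t ⋙ CohTop.push g ≅ CohTop.push (t ≫ g)) ≪≫ eqToIso (congrArg CohTop.push h) ≪≫
        Iso.refl _)) Adjunction.id

/-- The inverse image of a constant sheaf. -/
noncomputable def pullConst (g : A ⟶ B) :
    constantSheaf (Opens.grothendieckTopology B) AddCommGrpCat.{u} ⋙ CohTop.pull g ≅
      constantSheaf (Opens.grothendieckTopology A) AddCommGrpCat.{u} :=
  Adjunction.leftAdjointUniq
    (((constantSheafAdj _ _ (Preorder.isTerminalTop (Opens B))).comp (pullPushAdj g)).ofNatIsoRight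
      (Iso.refl _))
    (constantSheafAdj _ _ (Preorder.isTerminalTop (Opens A)))

theorem nonempty_splitMono_H (g : A ⟶ B) (t : B ⟶ A) (h : t ≫ g = 𝟙 B) (F : CohTop.Ab B) (F' : CohTop.Ab A)
    (eF : (CohTop.pull g).obj F ≅ F') (q : ℕ) :
    Nonempty (DegenerateSS.SplitMono' (AddCommGrpCat.of (CohTop.H F q)) (AddCommGrpCat.of (CohTop.H F' q))) := by
  let Z := (constantSheaf (Opens.grothendieckTopology B) AddCommGrpCat.{u}).obj (AddCommGrpCat.of (ULift ℤ))
  have hb := bijective_mapExt_mapExt (CohTop.pull g) (CohTop.pull t) (pullRetr g t h) Z F q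
  let b := AddEquiv.ofBijective _ hb
  let e : Ext ((CohTop.pull g).obj Z) ((CohTop.pull g).obj F) q ≃+ CohTop.H F' q :=
    (extIsoLeft ((pullConst g).app _).symm _ q).trans (extIsoRight eF _ q)
  let i : CohTop.H F q →+ CohTop.H F' q :=
    e.toAddMonoidHom.comp ((CohTop.pull g).mapExtAddHom Z F q)
  let r : CohTop.H F' q →+ CohTop.H F q :=
    b.symm.toAddMonoidHom.comp (((CohTop.pull t).mapExtAddHom _ _ q).comp e.symm.toAddMonoidHom)
  have hri : ∀ x, r (i x) = x := fun x => by
    show b.symm (_) = x
    rw [AddEquiv.symm_apply_eq]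
    exact congrArg ((CohTop.pull t).mapExtAddHom _ _ q) (e.symm_apply_apply _)
  exact ⟨⟨AddCommGrpCat.ofHom i, AddCommGrpCat.ofHom r, AddCommGrpCat.ext hri⟩⟩

end Topology

/-- In the setting of topological spaces and abelian sheaves (where every continuous map is flat for the
inverse image of sheaves), let f : X → S be a continuous map with a continuous section s, f ∘ s =
id, and F an abelian sheaf on S. Then f is of universal cohomological descent, and the descent
spectral sequence reads, in existence form: there is a bounded spectral sequence of abelian groups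
starting at page one with E_1^{p,q} isomorphic, for p, q ≥ 0, to H^q(X_p, F|X_p), where X_p is the
(p+1)-fold fibre product of X over S and F|X_p the inverse image of F along its projection to S, and
zero otherwise, together with abutment data whose filtrations are finite on H^n(S, F) for n ≥ 0
(zero for n < 0). (The E_1 identifications and the abutment isomorphisms are asserted to exist only;
the differentials are not part of this statement.) -/
theorem result {X S : TopCat.{u}} (f : X ⟶ S) (s : S ⟶ X)
    (hs : s ≫ f = 𝟙 S) (F : CohTop.Ab S) :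
    ∃ (E : CohomologicalSpectralSequence AddCommGrpCat.{u} 1)
      (a : SpSeq.Abutment E (fun n : ℤ =>
        if 0 ≤ n then AddCommGrpCat.of (CohTop.H F n.toNat) else AddCommGrpCat.of PUnit.{u + 1})),
      (∀ n, a.IsFinite n) ∧ SpSeq.IsBounded E ∧
      ∀ p q : ℤ, Nonempty ((E.page 1 le_rfl).X (p, q) ≅
        (if 0 ≤ p ∧ 0 ≤ q then
          AddCommGrpCat.of (CohTop.H ((CohTop.pull
            (WidePullback.base (fun _ : Fin (p.toNat + 1) => f) :
              widePullback S (fun _ : Fin (p.toNat + 1) => X) (fun _ => f) ⟶ S)).obj F) q.toNat)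
         else AddCommGrpCat.of PUnit.{u + 1})) := by

  let M : ℕ → ℕ → AddCommGrpCat.{u} := fun p q => AddCommGrpCat.of (CohTop.H ((CohTop.pull
    (WidePullback.base (fun _ : Fin (p + 1) => f) :
      widePullback S (fun _ : Fin (p + 1) => X) (fun _ => f) ⟶ S)).obj F) q)
  obtain ⟨E, a, ha, hE, hX⟩ := DegenerateSS.exists_spSeq_of_split_rows (fun n : ℤ =>
      if 0 ≤ n then AddCommGrpCat.of (CohTop.H F n.toNat) else AddCommGrpCat.of PUnit.{u + 1})
    (fun n hn => by
      simp only [if_neg (not_le.2 hn)]
      exact AddCommGrpCat.isZero_of_subsingleton _) M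
    (fun q => by
      simp only [Nat.cast_nonneg, if_true, Int.toNat_natCast]
      refine nonempty_splitMono_H _ (WidePullback.lift (arrows := fun _ : Fin (0 + 1) => f) (𝟙 S) (fun _ => s)
        fun _ => hs) ?_ F _ (Iso.refl _) q
      exact WidePullback.lift_base _ _ _ _)
    (fun p q => by
      let bp := (WidePullback.base (fun _ : Fin (p + 1) => f) :
        widePullback S (fun _ : Fin (p + 1) => X) (fun _ => f) ⟶ S)
      let bp' := (WidePullback.base (fun _ : Fin (p + 1 + 1) => f) :
        widePullback S (fun _ : Fin (p + 1 + 1) => X) (fun _ => f) ⟶ S)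
      let g : widePullback S (fun _ : Fin (p + 1 + 1) => X) (fun _ => f) ⟶
          widePullback S (fun _ : Fin (p + 1) => X) (fun _ => f) :=
        WidePullback.lift bp' (fun i => WidePullback.π (fun _ => f) i.castSucc) fun i => WidePullback.π_arrow _ _
      let t : widePullback S (fun _ : Fin (p + 1) => X) (fun _ => f) ⟶
          widePullback S (fun _ : Fin (p + 1 + 1) => X) (fun _ => f) :=
        WidePullback.lift bp
          (Fin.snoc (α := fun _ => (widePullback S (fun _ : Fin (p + 1) => X) (fun _ => f) ⟶ X))
            (fun i => WidePullback.π (fun _ => f) i) (bp ≫ s)) fun i => by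
          cases i using Fin.lastCases with
          | last => simp [hs]
          | cast i => rw [Fin.snoc_castSucc]; exact WidePullback.π_arrow (fun _ : Fin (p + 1) => f) i
      have hg : g ≫ bp = bp' := WidePullback.lift_base _ _ _ _
      have ht : t ≫ g = 𝟙 _ := by
        refine WidePullback.hom_ext _ _ _ (fun i => ?_) ?_
        · rw [Category.assoc, WidePullback.lift_π, WidePullback.lift_π, Category.id_comp]
          exact Fin.snoc_castSucc (α := fun _ => _) _ _ _
        · rw [Category.assoc, hg, WidePullback.lift_base, Category.id_comp]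
      refine nonempty_splitMono_H g t ht _ _ ?_ q
      exact ((pullComp g bp).app F).symm ≪≫ eqToIso (by rw [hg]))
  refine ⟨E, a, ha, hE, fun p q => ?_⟩
  by_cases h : 0 ≤ p ∧ 0 ≤ q
  · rw [if_pos h]; exact (hX p q).1 h
  · rw [if_neg h]; exact ⟨((hX p q).2 h).iso (AddCommGrpCat.isZero_of_subsingleton _)⟩

end Groth.Agent.S8579
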