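import Groth.Statements.S8591
import Mathlib

set_option autoImplicit false
universe u
open CAlg

namespace Groth.Agent.S8591
open Polynomial in
theorem det_aeval_split {k : Type u} [CommRing k] {n : Type*} [DecidableEq n] [Fintype n] (A : Matrix n n k)
    (s : Multiset k) : (aeval A (s.map fun a => X - C a).prod).det =
      (s.map fun a => (-1) ^ Fintype.card n * A.charpoly.eval a).prod := by
  induction s using Multiset.induction_on with
  | empty => simp
  | cons a s ih =>
    rw [Multiset.map_cons, Multiset.prod_cons, map_mul, Matrix.det_mul, ih, Multiset.map_cons, Multiset.prod_cons]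
    congr 1
    rw [Matrix.eval_charpoly, ← Matrix.det_neg, neg_sub]
    congr 1
    rw [map_sub, aeval_X, aeval_C]
    rfl

open Polynomial in
theorem det_aeval_map {k : Type u} [CommRing k] (S : Type u) [CommRing S] [Algebra k S] {l : Type*}
    [DecidableEq l] [Fintype l] (M : Matrix l l k) (Q : k[X]) :
    algebraMap k S (aeval M Q).det = (aeval ((Algebra.ofId k S).mapMatrix M) (Q.map (algebraMap k S))).det := by
  rw [aeval_map_algebraMap, aeval_algHom_apply]
  exact (Algebra.ofId k S).map_det _

open Polynomial in
theorem det_aeval_eq {k : Type u} [CommRing k] [Nontrivial k] {n m : Type*} [DecidableEq n] [Fintype n] [DecidableEq m]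
    [Fintype m] (A : Matrix n n k) (B : Matrix m m k) (h : A.charpoly = B.charpoly) (P : k[X]) :
    (aeval A P).det = (aeval B P).det := by
  have hcard : Fintype.card n = Fintype.card m := by
    rw [← A.charpoly_natDegree_eq_dim, h, B.charpoly_natDegree_eq_dim]
  obtain ⟨Q, hQ, hAQ, hBQ⟩ : ∃ Q : k[X], Q.Monic ∧ aeval A Q = aeval A P ∧ aeval B Q = aeval B P := by
    by_cases h0 : A.charpoly.natDegree = 0
    · have h1 := (A.charpoly_monic).natDegree_eq_zero.mp h0
      refine ⟨P + A.charpoly * (1 - P), ?_, ?_, ?_⟩
      · rw [h1]; simp [monic_one]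
      · rw [map_add, map_mul, A.aeval_self_charpoly, zero_mul, add_zero]
      · rw [map_add, map_mul, h, B.aeval_self_charpoly, zero_mul, add_zero]
    · refine ⟨P + A.charpoly * X ^ (P.natDegree + 1), ?_, ?_, ?_⟩
      · refine ((A.charpoly_monic).mul (monic_X_pow _)).add_of_right ?_
        refine degree_lt_degree ?_
        rw [(A.charpoly_monic).natDegree_mul (monic_X_pow _), natDegree_X_pow]
        omega
      · rw [map_add, map_mul, A.aeval_self_charpoly, zero_mul, add_zero]
      · rw [map_add, map_mul, h, B.aeval_self_charpoly, zero_mul, add_zero]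
  rw [← hAQ, ← hBQ]
  obtain ⟨S, _, _, _, _, _, hS⟩ := hQ.exists_splits_map
  have hinj : Function.Injective (algebraMap k S) := FaithfulSMul.algebraMap_injective k S
  apply hinj
  obtain ⟨s, hs⟩ := (Polynomial.splits_iff_exists_multiset.mp hS)
  rw [(hQ.map (algebraMap k S)).leadingCoeff, map_one, one_mul] at hs
  have e : (A.map (algebraMap k S)).charpoly = (B.map (algebraMap k S)).charpoly := by
    rw [Matrix.charpoly_map, Matrix.charpoly_map, h]
  rw [det_aeval_map S A, det_aeval_map S B, hs, det_aeval_split, det_aeval_split]
  simp only [AlgHom.mapMatrix_apply, hcard]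
  exact congrArg _ (Multiset.map_congr rfl fun a _ => congrArg _ (congrArg (Polynomial.eval a) e))

open Polynomial in
theorem minpoly_root' {k : Type u} [CommRing k] [Nontrivial k] {g : k[X]} (hg : g.Monic) :
    minpoly k (AdjoinRoot.powerBasis' hg).gen = g := by
  have h1 := (AdjoinRoot.powerBasis' hg).minpolyGen_eq
  refine (minpoly.unique' k _ hg (by simp [AdjoinRoot.powerBasis']) fun q hq => ?_).symm
  refine or_iff_not_imp_left.mpr fun hq0 hqr => hq0 ?_
  simp only [AdjoinRoot.powerBasis'_gen, AdjoinRoot.aeval_eq, AdjoinRoot.mk_eq_zero] at hqr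
  by_contra hne
  exact hg.not_dvd_of_degree_lt hne hq hqr


/-- Let k be a commutative ring, M a finite free k-module, u an endomorphism of M with characteristic
polynomial χ, and P a polynomial over k. Then the norm, from the k-algebra k[T]/(χ) (free of rank
the rank of M) down to k, of the class of P(T) equals det(P(u)). (The published statement writes the
quotient by det(u - T), which generates the same ideal as χ(T) = det(T - u).) -/
theorem result (k : Type u) [CommRing k] (M : Type u) [AddCommGroup M] [Module k M]
    [Module.Free k M] [Module.Finite k M] (u : M →ₗ[k] M) (P : Polynomial k) :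
    Algebra.norm k (AdjoinRoot.mk u.charpoly P) = LinearMap.det (Polynomial.aeval u P) := by
  rcases subsingleton_or_nontrivial k with hk | hk
  · exact Subsingleton.elim _ _
  let b := Module.Free.chooseBasis k M
  classical
  set A := LinearMap.toMatrix b b u
  have hA : A.charpoly = u.charpoly := u.charpoly_toMatrix b
  have hm : u.charpoly.Monic := u.charpoly_monic
  let pb := AdjoinRoot.powerBasis' hm
  set B := Algebra.leftMulMatrix pb.basis (AdjoinRoot.root u.charpoly)
  have hB : B.charpoly = A.charpoly := by
    rw [hA, show B = Algebra.leftMulMatrix pb.basis pb.gen from rfl, charpoly_leftMulMatrix]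
    exact (minpoly_root' hm)
  have key := det_aeval_eq A B hB.symm P
  rw [Algebra.norm_eq_matrix_det pb.basis, ← AdjoinRoot.aeval_eq, ← Polynomial.aeval_algHom_apply,
    ← LinearMap.det_toMatrix b]
  · rw [← key]
    have h2 : LinearMap.toMatrix b b (Polynomial.aeval u P) = Polynomial.aeval A P :=
      (Polynomial.aeval_algHom_apply (LinearMap.toMatrixAlgEquiv b).toAlgHom u P).symm
    rw [h2]

end Groth.Agent.S8591
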