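import Groth.Statements.S8596
import Mathlib
import Groth.Agent.Calg3.ResidueAcyclic
import Groth.Agent.SGA7.TorSeq
import Groth.Agent.FlatCxBase.Core

set_option autoImplicit false
universe u
open CategoryTheory CategoryTheory.Limits
open CAlg

namespace Groth.Agent.S8596

/-- Case of a complex reduced to a single module in degree 0: let A be a commutative Noetherian ring, M
an A-module (not necessarily finitely generated) and n ≥ 0. Then M has tor-dimension at most n —
Tor_i^A(N, M) = 0 for every A-module N and every i > n, the Tor being the left derived functors of N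
⊗ - evaluated at M — if and only if Tor_i^A(k(x), M) = 0 for every prime ideal x of A, with residue
field k(x), and every i > n. (The published statement gives the equivalence for bounded-above
complexes K and the derived tensor product K ⊗^L k(x); this is the case K = M[0].) -/
theorem result (A : Type u) [CommRing A] [IsNoetherianRing A]
    (M : ModuleCat.{u} A) (n : ℕ) :
    (∀ (N : ModuleCat.{u} A) (i : ℕ), n < i → IsZero (((Tor (ModuleCat.{u} A) i).obj N).obj M)) ↔
    (∀ (x : Ideal A) [x.IsPrime] (i : ℕ), n < i →
      IsZero (((Tor (ModuleCat.{u} A) i).obj (ModuleCat.of A x.ResidueField)).obj M)) := by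
  constructor
  · intro h x _ i hi
    exact h _ i hi
  intro h N i hi
  obtain ⟨P⟩ := (inferInstance : HasProjectiveResolution M).out
  let X : ℕ → ModuleCat.{u} A := fun j => P.complex.X j
  let d : ∀ j, X (j + 1) →ₗ[A] X j := fun j => (P.complex.d (j + 1) j).hom
  have hd : ∀ j (x : X (j + 1 + 1)), d j (d (j + 1) x) = 0 := fun j x =>
    ConcreteCategory.congr_hom (P.complex.d_comp_d (j + 1 + 1) (j + 1) j) x
  have hflat : ∀ j, Module.Flat A (X j) := fun j => by
    haveI : Projective (P.complex.X j) := P.projective j
    haveI : Module.Projective A (P.complex.X j) := ModuleCat.projective_of_module_projective _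
    exact Module.Flat.of_projective
  have iff : ∀ (N : ModuleCat.{u} A), (∀ j, n + 1 ≤ j → IsZero (((Tor (ModuleCat.{u} A) j).obj N).obj M)) ↔
      Groth.Calg3.ResidueAcyclic.Acyc X d (n + 1) N := by
    intro N
    refine forall_congr' fun j => imp_congr_right fun hj => ?_
    obtain ⟨j, rfl⟩ : ∃ k, j = k + 1 := ⟨j - 1, by omega⟩
    rw [Groth.SGA7.TorSeq.isZero_tor_iff N M P, Groth.FlatCxBase.isZero_homology_iff (i := j + 1 + 1) (k := j)
      ((ComplexShape.down ℕ).prev_eq' rfl) ((ComplexShape.down ℕ).next_eq' rfl)]
    rfl
  exact (iff N).mpr (Groth.Calg3.ResidueAcyclic.acyc_all hd hflat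
    (fun p _ => (iff (ModuleCat.of A p.ResidueField)).mp fun j hj => h p j hj) N) i hi

end Groth.Agent.S8596
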