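import Groth.Statements.S8597
import Mathlib
import Groth.Agent.Calg3.ResidueAcyclic
import Groth.Agent.FlatCxBase.Core

set_option autoImplicit false
universe u
open CategoryTheory CategoryTheory.Limits
open CAlg
open scoped TensorProduct

namespace Groth.Agent.S8597

section helpers

variable {A : Type u} [CommRing A] {K P1 P0 Pm Q2 Q1 Q0 : Type u} [AddCommGroup K] [Module A K]
  [AddCommGroup P1] [Module A P1] [AddCommGroup P0] [Module A P0] [AddCommGroup Pm] [Module A Pm]
  [AddCommGroup Q2] [Module A Q2] [AddCommGroup Q1] [Module A Q1] [AddCommGroup Q0] [Module A Q0]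

theorem lT_coprod (f : P0 →ₗ[A] Q0) (g : Q1 →ₗ[A] Q0) (z : K ⊗[A] (P0 × Q1)) :
    (f.coprod g).lTensor K z =
      f.lTensor K ((LinearMap.fst A P0 Q1).lTensor K z) + g.lTensor K ((LinearMap.snd A P0 Q1).lTensor K z) := by
  rw [← LinearMap.lTensor_comp_apply, ← LinearMap.lTensor_comp_apply, ← LinearMap.add_apply,
    ← LinearMap.lTensor_add]
  congr 2

theorem top_exact (f : P0 →ₗ[A] Q0) (g : Q1 →ₗ[A] Q0) (y : K ⊗[A] Q0)
    (h : ∃ x w, f.lTensor K x + g.lTensor K w = y) : ∃ v, (f.coprod g).lTensor K v = y := by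
  obtain ⟨x, w, rfl⟩ := h
  refine ⟨(LinearMap.inl A P0 Q1).lTensor K x + (LinearMap.inr A P0 Q1).lTensor K w, ?_⟩
  rw [map_add, ← LinearMap.lTensor_comp_apply, ← LinearMap.lTensor_comp_apply, LinearMap.coprod_inl,
    LinearMap.coprod_inr]

theorem split (z : K ⊗[A] (P0 × Q1)) :
    (LinearMap.inl A P0 Q1).lTensor K ((LinearMap.fst A P0 Q1).lTensor K z) +
      (LinearMap.inr A P0 Q1).lTensor K ((LinearMap.snd A P0 Q1).lTensor K z) = z := by
  rw [← LinearMap.lTensor_comp_apply, ← LinearMap.lTensor_comp_apply, ← LinearMap.add_apply,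
    ← LinearMap.lTensor_add]
  convert LinearMap.id_apply z using 2
  rw [← LinearMap.lTensor_id]
  congr 1
  ext v <;> simp

theorem cycle_eqs (dP0 : P0 →ₗ[A] Pm) (f0 : P0 →ₗ[A] Q0) (dQ1 : Q1 →ₗ[A] Q0) (z : K ⊗[A] (P0 × Q1))
    (h : ((-(dP0 ∘ₗ LinearMap.fst A P0 Q1)).prod (f0.coprod dQ1)).lTensor K z = 0) :
    dP0.lTensor K ((LinearMap.fst A P0 Q1).lTensor K z) = 0 ∧
      f0.lTensor K ((LinearMap.fst A P0 Q1).lTensor K z) + dQ1.lTensor K ((LinearMap.snd A P0 Q1).lTensor K z) = 0 := by
  constructor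
  · have := congrArg ((LinearMap.fst A Pm Q0).lTensor K) h
    rw [map_zero, ← LinearMap.lTensor_comp_apply, LinearMap.fst_prod, LinearMap.lTensor_neg,
      LinearMap.neg_apply, neg_eq_zero, LinearMap.lTensor_comp_apply] at this
    exact this
  · have := congrArg ((LinearMap.snd A Pm Q0).lTensor K) h
    rw [map_zero, ← LinearMap.lTensor_comp_apply, LinearMap.snd_prod, lT_coprod] at this
    exact this

theorem mid_exact (dP : P1 →ₗ[A] P0) (f1 : P1 →ₗ[A] Q1) (f0 : P0 →ₗ[A] Q0) (dQ2 : Q2 →ₗ[A] Q1)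
    (dQ1 : Q1 →ₗ[A] Q0) (hcomm : dQ1 ∘ₗ f1 = f0 ∘ₗ dP) (z : K ⊗[A] (P0 × Q1))
    (hab : f0.lTensor K ((LinearMap.fst A P0 Q1).lTensor K z) + dQ1.lTensor K ((LinearMap.snd A P0 Q1).lTensor K z) = 0)
    (hinj : (∃ y, dQ1.lTensor K y = f0.lTensor K ((LinearMap.fst A P0 Q1).lTensor K z)) →
      ∃ w, dP.lTensor K w = (LinearMap.fst A P0 Q1).lTensor K z)
    (hsurj : ∀ y : K ⊗[A] Q1, dQ1.lTensor K y = 0 →
      ∃ x w, dP.lTensor K x = 0 ∧ f1.lTensor K x + dQ2.lTensor K w = y) :
    ∃ v, ((-(dP ∘ₗ LinearMap.fst A P1 Q2)).prod (f1.coprod dQ2)).lTensor K v = z := by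
  set a := (LinearMap.fst A P0 Q1).lTensor K z
  set b := (LinearMap.snd A P0 Q1).lTensor K z
  obtain ⟨p', hp'⟩ := hinj ⟨-b, by rw [map_neg]; exact (eq_neg_of_add_eq_zero_left hab).symm⟩
  obtain ⟨x, w, hx, hxw⟩ := hsurj (f1.lTensor K p' + b) (by
    rw [map_add, ← LinearMap.lTensor_comp_apply, hcomm, LinearMap.lTensor_comp_apply, hp', hab])
  refine ⟨(LinearMap.inl A P1 Q2).lTensor K (x - p') + (LinearMap.inr A P1 Q2).lTensor K w, ?_⟩
  have h1 : (-(dP ∘ₗ LinearMap.fst A P1 Q2)).prod (f1.coprod dQ2) ∘ₗ LinearMap.inl A P1 Q2 =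
      -(LinearMap.inl A P0 Q1 ∘ₗ dP) + LinearMap.inr A P0 Q1 ∘ₗ f1 :=
    LinearMap.ext fun v => Prod.ext (by simp) (by simp)
  have h2 : (-(dP ∘ₗ LinearMap.fst A P1 Q2)).prod (f1.coprod dQ2) ∘ₗ LinearMap.inr A P1 Q2 =
      LinearMap.inr A P0 Q1 ∘ₗ dQ2 :=
    LinearMap.ext fun v => Prod.ext (by simp) (by simp)
  rw [← split z, map_add, ← LinearMap.lTensor_comp_apply, ← LinearMap.lTensor_comp_apply, h1, h2,
    LinearMap.lTensor_add, LinearMap.lTensor_neg, LinearMap.add_apply, LinearMap.neg_apply,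
    LinearMap.lTensor_comp_apply, LinearMap.lTensor_comp_apply, LinearMap.lTensor_comp_apply,
    add_assoc, ← map_add, map_sub, hx, zero_sub, map_neg, neg_neg, hp', map_sub]
  congr 2
  rw [sub_add_eq_add_sub, hxw]
  exact add_sub_cancel_left _ _

end helpers

/-- The terms of the cone. -/
noncomputable def coneX {A : Type u} [CommRing A] (P Q : ChainComplex (ModuleCat.{u} A) ℕ) : ℕ → ModuleCat.{u} A
  | 0 => Q.X 0
  | n + 1 => ModuleCat.of A (P.X n × Q.X (n + 1))

/-- The differential of the cone. -/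
noncomputable def coneD {A : Type u} [CommRing A] {P Q : ChainComplex (ModuleCat.{u} A) ℕ} (φ : P ⟶ Q) :
    ∀ j, coneX P Q (j + 1) →ₗ[A] coneX P Q j
  | 0 => (φ.f 0).hom.coprod (Q.d 1 0).hom
  | n + 1 => LinearMap.prod (-((P.d (n + 1) n).hom ∘ₗ LinearMap.fst A _ _))
      ((φ.f (n + 1)).hom.coprod (Q.d (n + 1 + 1) (n + 1)).hom)


/-- Case of modules placed in degree 0: let A be a commutative Noetherian ring and u : M -> N a
homomorphism of A-modules such that for every prime ideal x of A, with residue field k(x), and every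
i ≥ 0, the induced map Tor_i^A(k(x), M) -> Tor_i^A(k(x), N) (left derived functors of k(x) ⊗ -) is
an isomorphism. Then u is an isomorphism. (The published statement is for a morphism of
bounded-above complexes and the derived tensor products with k(x); this is the case of two modules.) -/
theorem result (A : Type u) [CommRing A] [IsNoetherianRing A]
    {M N : ModuleCat.{u} A} (u : M ⟶ N)
    (h : ∀ (x : Ideal A) [x.IsPrime] (i : ℕ),
      IsIso (((Tor (ModuleCat.{u} A) i).obj (ModuleCat.of A x.ResidueField)).map u)) :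
    IsIso u := by
  classical
  obtain ⟨P⟩ := (inferInstance : HasProjectiveResolution M).out
  obtain ⟨Q⟩ := (inferInstance : HasProjectiveResolution N).out
  let φ := ProjectiveResolution.lift u P Q
  have comm : φ.f 0 ≫ Q.π.f 0 = P.π.f 0 ≫ u := by
    have := congrArg (fun t => HomologicalComplex.Hom.f t 0) (ProjectiveResolution.lift_commutes u P Q)
    simp only [HomologicalComplex.comp_f, ChainComplex.single₀_map_f_zero] at this
    exact this
  let X := coneX P.complex Q.complex
  let d := coneD φ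
  have hφ : ∀ i j (x : P.complex.X i), Q.complex.d i j (φ.f i x) = φ.f j (P.complex.d i j x) := fun i j x =>
    ConcreteCategory.congr_hom (φ.comm i j) x
  have hPP : ∀ i j k (x : P.complex.X i), P.complex.d j k (P.complex.d i j x) = 0 := fun i j k x =>
    ConcreteCategory.congr_hom (P.complex.d_comp_d i j k) x
  have hQQ : ∀ i j k (x : Q.complex.X i), Q.complex.d j k (Q.complex.d i j x) = 0 := fun i j k x =>
    ConcreteCategory.congr_hom (Q.complex.d_comp_d i j k) x
  have hd : ∀ j (x : X (j + 1 + 1)), d j (d (j + 1) x) = 0 := by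
    intro j x
    obtain ⟨a, b⟩ := x
    rcases j with _ | j
    · show φ.f 0 (-(P.complex.d 1 0 a)) + Q.complex.d 1 0 (φ.f 1 a + Q.complex.d 2 1 b) = 0
      rw [map_neg, map_add, hφ, hQQ, add_zero, neg_add_cancel]
    · refine Prod.ext ?_ ?_
      · show -(P.complex.d (j + 1) j (-(P.complex.d (j + 2) (j + 1) a))) = 0
        rw [map_neg, hPP, neg_zero, neg_zero]
      · show φ.f (j + 1) (-(P.complex.d (j + 2) (j + 1) a)) +
          Q.complex.d (j + 2) (j + 1) (φ.f (j + 2) a + Q.complex.d (j + 3) (j + 2) b) = 0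
        rw [map_neg, map_add, hφ, hQQ, add_zero, neg_add_cancel]
  have hproj : ∀ {Z : ModuleCat.{u} A} (R : ProjectiveResolution Z) (j : ℕ), Module.Flat A (R.complex.X j) :=
    fun R j => by
      haveI : Projective (R.complex.X j) := R.projective j
      haveI : Module.Projective A (R.complex.X j) := ModuleCat.projective_of_module_projective _
      exact Module.Flat.of_projective
  have hflat : ∀ j, Module.Flat A (X j) := fun j => by
    rcases j with _ | j
    · exact hproj Q 0
    · haveI : Module.Projective A (P.complex.X j) := by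
        haveI : Projective (P.complex.X j) := P.projective j
        exact ModuleCat.projective_of_module_projective _
      haveI : Module.Projective A (Q.complex.X (j + 1)) := by
        haveI : Projective (Q.complex.X (j + 1)) := Q.projective (j + 1)
        exact ModuleCat.projective_of_module_projective _
      haveI h1 := hproj P j
      haveI h2 := hproj Q (j + 1)
      haveI : Module.Flat A (↥(P.complex.X j) × ↥(Q.complex.X (j + 1))) := inferInstance
      exact this
  have hres : ∀ (p : Ideal A) [p.IsPrime], Groth.Calg3.ResidueAcyclic.Acyc X d 0 p.ResidueField := by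
    intro p _
    let F : ModuleCat.{u} A ⥤ ModuleCat.{u} A :=
      (MonoidalCategory.tensoringLeft (ModuleCat.{u} A)).obj (ModuleCat.of A p.ResidueField)
    let ψ := (F.mapHomologicalComplex (ComplexShape.down ℕ)).map φ
    have hiso : ∀ n, Function.Bijective (HomologicalComplex.homologyMap ψ n) := by
      intro n
      haveI : IsIso ((F.leftDerived n).map u) := h p n
      haveI : IsIso (HomologicalComplex.homologyMap ψ n) := by
        have e : HomologicalComplex.homologyMap ψ n =
            (P.isoLeftDerivedObj F n).inv ≫ (F.leftDerived n).map u ≫ (Q.isoLeftDerivedObj F n).hom := by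
          rw [ProjectiveResolution.isoLeftDerivedObj_hom_naturality u P Q φ comm F n, Iso.inv_hom_id_assoc]
          rfl
        rw [e]
        exact IsIso.comp_isIso' (Iso.isIso_inv _) (IsIso.comp_isIso' (h p n) (Iso.isIso_hom _))
      exact ConcreteCategory.bijective_of_isIso _
    let K := p.ResidueField
    have hprev : ∀ n : ℕ, (ComplexShape.down ℕ).prev n = n + 1 := fun n => (ComplexShape.down ℕ).prev_eq' rfl
    have hψd : ∀ i j (x : K ⊗[A] P.complex.X i),
        (Q.complex.d i j).hom.lTensor K ((φ.f i).hom.lTensor K x) = (φ.f j).hom.lTensor K ((P.complex.d i j).hom.lTensor K x) := by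
      intro i j x
      rw [← LinearMap.comp_apply, ← LinearMap.lTensor_comp, ← ModuleCat.hom_comp, φ.comm, ModuleCat.hom_comp,
        LinearMap.lTensor_comp, LinearMap.comp_apply]
    have hsurj : ∀ n k (hk : (ComplexShape.down ℕ).next n = k) (y : K ⊗[A] Q.complex.X n),
        (Q.complex.d n k).hom.lTensor K y = 0 → ∃ x w, (P.complex.d n k).hom.lTensor K x = 0 ∧
          (φ.f n).hom.lTensor K x + (Q.complex.d (n + 1) n).hom.lTensor K w = y :=
      fun n k hk => (Groth.FlatCxBase.homologyMap_surjective_iff ψ (j := n) (hprev n) hk).mp (hiso n).2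
    have hinj : ∀ n k (hk : (ComplexShape.down ℕ).next n = k) (x : K ⊗[A] P.complex.X n),
        (P.complex.d n k).hom.lTensor K x = 0 → (∃ y, (Q.complex.d (n + 1) n).hom.lTensor K y = (φ.f n).hom.lTensor K x) →
          ∃ w, (P.complex.d (n + 1) n).hom.lTensor K w = x :=
      fun n k hk => (Groth.FlatCxBase.homologyMap_injective_iff ψ (j := n) (hprev n) hk).mp (hiso n).1
    intro j _ z hz
    rcases j with _ | n
    · obtain ⟨x, w, -, hxw⟩ := hsurj 0 0 (ComplexShape.next_eq_self' _ _ (by simp)) z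
        (by rw [Q.complex.shape 0 0 (by simp)]
            exact LinearMap.congr_fun (LinearMap.lTensor_zero K) z)
      exact top_exact (φ.f 0).hom (Q.complex.d 1 0).hom z ⟨x, w, hxw⟩
    · have hc : (Q.complex.d (n + 1) n).hom ∘ₗ (φ.f (n + 1)).hom = (φ.f n).hom ∘ₗ (P.complex.d (n + 1) n).hom :=
        LinearMap.ext fun v => hφ (n + 1) n v
      have hnext : (ComplexShape.down ℕ).next (n + 1) = n := (ComplexShape.down ℕ).next_eq' rfl
      rcases n with _ | n
      · have hab := (lT_coprod (φ.f 0).hom (Q.complex.d 1 0).hom z).symm.trans hz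
        refine mid_exact (P.complex.d 1 0).hom (φ.f 1).hom (φ.f 0).hom (Q.complex.d 2 1).hom
          (Q.complex.d 1 0).hom hc z hab ?_ (hsurj 1 0 hnext)
        exact hinj 0 0 (ComplexShape.next_eq_self' _ _ (by simp)) _ (by
          rw [P.complex.shape 0 0 (by simp)]
          exact LinearMap.congr_fun (LinearMap.lTensor_zero K) _)
      · obtain ⟨hda, hab⟩ := cycle_eqs (P.complex.d (n + 1) n).hom (φ.f (n + 1)).hom
          (Q.complex.d (n + 1 + 1) (n + 1)).hom z hz
        exact mid_exact (P.complex.d (n + 1 + 1) (n + 1)).hom (φ.f (n + 1 + 1)).hom (φ.f (n + 1)).hom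
          (Q.complex.d (n + 1 + 1 + 1) (n + 1 + 1)).hom (Q.complex.d (n + 1 + 1) (n + 1)).hom hc z hab
          (hinj (n + 1) n ((ComplexShape.down ℕ).next_eq' rfl) _ hda) (hsurj (n + 1 + 1) (n + 1) hnext)
  have hA := Groth.Calg3.ResidueAcyclic.acyc_all hd hflat hres A
  have key : ∀ j (x : X j), (∀ i, j = i + 1 → (∀ h : j = i + 1, d i (h ▸ x) = 0)) → ∃ w, d j w = x := by
    intro j x hx
    obtain ⟨w, hw⟩ := hA j (Nat.zero_le j) ((TensorProduct.lid A (X j)).symm x) (by
      rcases j with _ | i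
      · trivial
      · show (d i).lTensor A _ = 0
        rw [TensorProduct.lid_symm_apply, LinearMap.lTensor_tmul, hx i rfl rfl, TensorProduct.tmul_zero])
    refine ⟨TensorProduct.lid A _ w, ?_⟩
    have : ∀ v, d j (TensorProduct.lid A _ v) = TensorProduct.lid A _ ((d j).lTensor A v) := fun v => by
      induction v with
      | zero => simp
      | tmul c y => simp
      | add a b ha hb => simp only [map_add, ha, hb]
    rw [this, hw, LinearEquiv.apply_symm_apply]
  haveI : Mono u := (ModuleCat.mono_iff_injective u).mpr ((injective_iff_map_eq_zero u.hom).mpr fun m hm => by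
    obtain ⟨p, rfl⟩ := (ModuleCat.epi_iff_surjective (P.π.f 0)).mp inferInstance m
    have h0 : Q.π.f 0 (φ.f 0 p) = 0 := (ConcreteCategory.congr_hom comm p).trans hm
    obtain ⟨q, hq⟩ := (ShortComplex.moduleCat_exact_iff _).mp Q.exact₀ _ h0
    change Q.complex.d 1 0 q = φ.f 0 p at hq
    obtain ⟨⟨a, b⟩, hab⟩ := key 1 ((p, -q) : P.complex.X 0 × Q.complex.X 1) fun i hi h => by
      obtain rfl : i = 0 := by omega
      show φ.f 0 p + Q.complex.d 1 0 (-q) = 0
      rw [map_neg, hq, add_neg_cancel]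
    have h1 : -(P.complex.d 1 0 a) = p := congrArg Prod.fst hab
    rw [← h1, map_neg]
    exact neg_eq_zero.mpr (ConcreteCategory.congr_hom P.complex_d_comp_π_f_zero a))
  haveI : Epi u := (ModuleCat.epi_iff_surjective u).mpr fun y => by
    obtain ⟨q, rfl⟩ := (ModuleCat.epi_iff_surjective (Q.π.f 0)).mp inferInstance y
    obtain ⟨⟨p, q'⟩, hpq⟩ := key 0 q (fun i hi => absurd hi (Nat.succ_ne_zero i).symm)
    change φ.f 0 p + Q.complex.d 1 0 q' = q at hpq
    refine ⟨P.π.f 0 p, (ConcreteCategory.congr_hom comm p).symm.trans ?_⟩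
    rw [← hpq, map_add]
    have : Q.π.f 0 (Q.complex.d 1 0 q') = 0 := ConcreteCategory.congr_hom Q.complex_d_comp_π_f_zero q'
    rw [this, add_zero]
    rfl
  exact isIso_of_mono_of_epi u

end Groth.Agent.S8597
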