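import Groth.Statements.S8598
import Mathlib.CategoryTheory.Adjunction.FullyFaithful

set_option autoImplicit false
universe u
open CategoryTheory CategoryTheory.Limits AlgebraicGeometry Opposite
open EtDl

namespace Groth.Agent.S8598

set_option backward.isDefEq.respectTransparency.types false in
/-- Restriction along a surjective etale morphism is faithful. -/
theorem faithful_restrAlong {X Y : Scheme.{u}} (u : X ⟶ Y) [Etale u] [Surjective u] [EtShriek.JCont u] :
    (EtShriek.restrAlong u).Faithful where
  map_injective {F G} α β h := by
    apply Sheaf.hom_ext
    apply NatTrans.ext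
    funext V
    obtain ⟨V⟩ := V
    let W : Y.Etale := (EtShriek.compEtale u).obj ((EtCoh.bc u).obj V)
    let c : W ⟶ V := MorphismProperty.Over.homMk (pullback.fst V.hom u) (pullback.condition (f := V.hom) (g := u))
    have hS : Sieve.generate (Presieve.singleton c) ∈ Y.smallEtaleTopology V := by
      have eY : Y.smallEtaleTopology =
          (Y.smallPretopology (P := EtCoh.etaleMP) (Q := EtCoh.etaleMP)).toGrothendieck :=
        Scheme.smallGrothendieckTopology_eq_toGrothendieck_smallPretopology Y le_rfl
      rw [eY]
      refine (Scheme.mem_toGrothendieck_smallPretopology V _).2 fun x => ?_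
      have : Surjective (pullback.fst V.hom u) := MorphismProperty.pullback_fst _ _ inferInstance
      obtain ⟨w, hw⟩ := (pullback.fst V.hom u).surjective x
      exact ⟨W, c, w, ⟨W, 𝟙 W, c, Presieve.singleton_self c, Category.id_comp c⟩,
        MorphismProperty.pullback_fst _ _ (inferInstanceAs (Etale u)), hw⟩
    refine (Presheaf.IsSheaf.hom_ext G.property ⟨_, hS⟩ _ _ ?_)
    rintro ⟨Z, _, k, _, g, ⟨⟩, rfl⟩
    have hW : α.hom.app (op W) = β.hom.app (op W) :=
      congrArg (fun γ => γ.hom.app (op ((EtCoh.bc u).obj V))) h
    dsimp
    rw [Functor.map_comp, ← Category.assoc, ← Category.assoc, ← α.hom.naturality c.op, ← β.hom.naturality c.op, hW]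

/-- Let u : X -> Y be an etale, separated morphism of finite type that is surjective, and F an abelian
sheaf on Y_et. The sheaves F_n = (u_n)_! u_n^* F built from the iterated fibre powers of X over Y
form a left resolution of F; in particular (the part stated here) the augmentation u_! u^* F -> F,
which is the counit of the adjunction between extension by zero u_! and restriction u^*, is an
epimorphism. (The continuity of V ↦ (V -> X -> Y) between the small etale sites is carried as an
instance hypothesis, the prelude's convention for extension by zero along an etale morphism.) -/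
theorem result {X Y : Scheme.{u}} (u : X ⟶ Y) [Etale u] [IsSeparated u]
    [LocallyOfFiniteType u] [QuasiCompact u] [Surjective u] [EtShriek.JCont u] (F : EtCoh.Ab Y) :
    Epi ((EtShriek.extZeroAdj u).counit.app F) := by
  have := faithful_restrAlong u
  infer_instance

end Groth.Agent.S8598
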