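import Groth.Statements.S8604
import Mathlib
import Groth.Agent.SigmaLinH.Local

set_option autoImplicit false
universe u
open CAlg

namespace Groth.Agent.S8604

/-- Over an algebraically closed field: let k be an algebraically closed field of characteristic p > 0,
V a finite-dimensional k-vector space and F : V -> V a p-linear endomorphism (additive with F(a·v) =
a^p·F(v)). Let V^F be the set of vectors fixed by F (an F_p-subspace), V_0 the k-span of V^F and V_n
the k-span of the vectors killed by some iterate of F (these already form an F-stable subspace on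
which F is nilpotent). Then V = V_0 ⊕ V_n, and V^F ⊗ k -> V_0 is bijective in the sense that any
finitely many F-fixed vectors linearly independent over Z/p (every vanishing integer combination has
all coefficients divisible by p) are linearly independent over k. (The published statement asserts
this decomposition, with V^F ⊗ k ≅ V_0, for every PERFECT field k; that is false when k is not
separably closed — for k = Z/3, V = k and F = multiplication by 2 there are no nonzero fixed vectors
although F is bijective — and the decomposition is stated here over an algebraically closed field,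
the case in which it holds.) -/
theorem result (p : ℕ) [Fact p.Prime] (k : Type u) [Field k]
    [IsAlgClosed k] [CharP k p] (V : Type u) [AddCommGroup V] [Module k V] [FiniteDimensional k V]
    (F : V →+ V) (hF : ∀ (a : k) (v : V), F (a • v) = a ^ p • F v) :
    IsCompl (Submodule.span k {v : V | F v = v})
        (Submodule.span k {v : V | ∃ m : ℕ, (⇑F)^[m] v = 0}) ∧
      ∀ (s : Finset V), (∀ v ∈ s, F v = v) →
        (∀ c : s → ℤ, (∑ v : s, c v • (v : V)) = 0 → ∀ v : s, (p : ℤ) ∣ c v) →
          LinearIndependent k (fun v : s => (v : V)) := by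
  classical
  haveI : ExpChar k p := ExpChar.prime Fact.out
  have hσ : Function.Surjective (frobenius k p) := fun x => by
    obtain ⟨z, hz⟩ := IsAlgClosed.exists_pow_nat_eq x (Nat.Prime.pos Fact.out : 0 < p)
    exact ⟨z, hz⟩
  let T : V →ₛₗ[frobenius k p] V :=
    { toFun := F, map_add' := map_add F, map_smul' := fun a v => by simp [frobenius_def, hF] }
  have hT : ∀ v, T v = F v := fun v => rfl
  have hTn : ∀ m v, (⇑T)^[m] v = (⇑F)^[m] v := fun m v => rfl
  obtain ⟨N, hc, hnil⟩ := Groth.SigmaLinH.fitting hσ T
  have h1 : Submodule.span k {v : V | F v = v} = Groth.SigmaLinH.ssPart T := by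
    refine le_antisymm (Submodule.span_le.mpr fun v hv => Groth.SigmaLinH.mem_span_fixed T hv) ?_
    obtain ⟨b, hb⟩ := Groth.SigmaLinH.exists_fixed_basis_ssPart T
      (Groth.SigmaLinH.H2_frobenius k p) (Groth.SigmaLinH.H3_frobenius k p)
    intro x hx
    rw [show x = ((⟨x, hx⟩ : Groth.SigmaLinH.ssPart T) : V) from rfl, ← b.sum_repr ⟨x, hx⟩,
      AddSubmonoidClass.coe_finset_sum]
    exact Submodule.sum_mem _ fun i _ => Submodule.smul_mem _ _ (Submodule.subset_span (hb i))
  have h2 : Submodule.span k {v : V | ∃ m : ℕ, (⇑F)^[m] v = 0} = Groth.SigmaLinH.kerPow T N :=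
    le_antisymm (Submodule.span_le.mpr fun v ⟨m, hm⟩ => hnil m v hm)
      fun v hv => Submodule.subset_span ⟨N, hv⟩
  refine ⟨by rw [h1, h2]; exact hc.symm, ?_⟩
  intro s hs hind
  have key : ∀ (t : Finset s) (c : s → k), ∑ v ∈ t, c v • (v : V) = 0 → ∀ v ∈ t, c v = 0 := by
    intro t
    induction t using Finset.strongInduction with
    | H t ih =>
      intro c hc0 v0 hv0
      by_contra hne
      set d : s → k := fun v => (c v0)⁻¹ * c v with hd
      have hd0 : ∑ v ∈ t, d v • (v : V) = 0 := by
        simp only [hd, mul_smul, ← Finset.smul_sum, hc0, smul_zero]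
      have hd1 : d v0 = 1 := inv_mul_cancel₀ hne
      have hFd : ∑ v ∈ t, (d v) ^ p • (v : V) = 0 := by
        have h := congrArg F hd0
        rw [map_sum, map_zero] at h
        rw [← h]
        exact Finset.sum_congr rfl fun v _ => by rw [hF, hs v.1 v.2]
      have hsub : ∑ v ∈ t.erase v0, ((d v) ^ p - d v) • (v : V) = 0 := by
        rw [Finset.sum_erase _ (by rw [hd1, one_pow, sub_self, zero_smul])]
        simp only [sub_smul, Finset.sum_sub_distrib, hFd, hd0, sub_zero]
      have hpow : ∀ v ∈ t, (d v) ^ p = d v := by
        intro v hv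
        by_cases h : v = v0
        · rw [h, hd1, one_pow]
        · exact sub_eq_zero.mp (ih _ (Finset.erase_ssubset hv0) _ hsub v (Finset.mem_erase.mpr ⟨h, hv⟩))
      have hint : ∀ v : s, ∃ n : ℤ, v ∈ t → (n : k) = d v := by
        intro v
        by_cases hv : v ∈ t
        · have := (Subfield.mem_bot_iff_pow_eq_self k p).mpr (hpow v hv)
          rw [← ZMod.fieldRange_castHom_eq_bot p] at this
          obtain ⟨z, hz⟩ := this
          refine ⟨(z.val : ℤ), fun _ => ?_⟩
          rw [← hz, Int.cast_natCast, ← map_natCast (ZMod.castHom (dvd_refl p) k), ZMod.natCast_zmod_val]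
        · exact ⟨0, fun h => absurd h hv⟩
      choose n hn using hint
      have hz : ∑ v : s, (if v ∈ t then n v else 0) • (v : V) = 0 := by
        rw [← hd0, ← Finset.sum_subset (Finset.subset_univ t) (fun v _ hv => by simp [hv])]
        refine Finset.sum_congr rfl fun v hv => ?_
        rw [if_pos hv, ← Int.cast_smul_eq_zsmul k, hn v hv]
      have := hind _ hz v0
      rw [if_pos hv0, ← CharP.intCast_eq_zero_iff k p, hn v0 hv0, hd1] at this
      exact one_ne_zero this
  rw [Fintype.linearIndependent_iff]
  exact fun g hg i => key Finset.univ g hg i (Finset.mem_univ i)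

end Groth.Agent.S8604
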