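import Groth.Statements.S8607
import Groth.Agent.Misc3Cpct.Image

set_option autoImplicit false
universe u
open CategoryTheory CategoryTheory.Limits AlgebraicGeometry Opposite
open DEt

namespace Groth.Agent.S8607

/-- The equalizing half of 'the category of compactifications of f is cofiltering': let f : X -> Y be a
morphism of quasi-compact quasi-separated schemes, (Xbar_1, j_1, fbar_1) and (Xbar_2, j_2, fbar_2)
two compactifications of f, and r, s : Xbar_1 -> Xbar_2 two morphisms of compactifications (r ∘ j_1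
= j_2 = s ∘ j_1 and fbar_2 ∘ r = fbar_1 = fbar_2 ∘ s). Then there are a compactification (Xbar, j,
fbar) of f and a proper morphism t : Xbar -> Xbar_1 of compactifications (t ∘ j = j_1, fbar_1 ∘ t =
fbar) with r ∘ t = s ∘ t. -/
theorem result {X Y : Scheme.{u}} [CompactSpace ↥X] [QuasiSeparatedSpace ↥X]
    [CompactSpace ↥Y] [QuasiSeparatedSpace ↥Y] {f : X ⟶ Y} (c₁ c₂ : DEt.Compactification f)
    (r s : c₁.Xbar ⟶ c₂.Xbar) (hr : c₁.j ≫ r = c₂.j) (hs : c₁.j ≫ s = c₂.j)
    (hr' : r ≫ c₂.fbar = c₁.fbar) (hs' : s ≫ c₂.fbar = c₁.fbar) :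
    ∃ (c : DEt.Compactification f) (t : c.Xbar ⟶ c₁.Xbar), IsProper t ∧ c.j ≫ t = c₁.j ∧ t ≫ c₁.fbar = c.fbar ∧
      t ≫ r = t ≫ s := by
  let Δ := CategoryTheory.Limits.pullback.diagonal c₂.fbar
  let rs := CategoryTheory.Limits.pullback.lift r s (hr'.trans hs'.symm)
  let e := CategoryTheory.Limits.pullback.fst rs Δ
  have w : c₁.j ≫ rs = c₂.j ≫ Δ := by
    apply CategoryTheory.Limits.pullback.hom_ext
    · simp only [Category.assoc]
      erw [CategoryTheory.Limits.pullback.lift_fst, CategoryTheory.Limits.pullback.diagonal_fst]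
      rw [hr]; exact (Category.comp_id _).symm
    · simp only [Category.assoc]
      erw [CategoryTheory.Limits.pullback.lift_snd, CategoryTheory.Limits.pullback.diagonal_snd]
      rw [hs]; exact (Category.comp_id _).symm
  let g := CategoryTheory.Limits.pullback.lift c₁.j c₂.j w
  haveI : IsImmersion (g ≫ e) := by
    simp only [g, e, CategoryTheory.Limits.pullback.lift_fst]; infer_instance
  haveI := IsImmersion.of_comp g e
  obtain ⟨c, i, hi, hj, hf⟩ := Groth.Misc3Cpct.exists_of_immersion (f := f) g (e ≫ c₁.fbar)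
    (by simp only [g, e, CategoryTheory.Limits.pullback.lift_fst_assoc, c₁.fac])
  refine ⟨c, i ≫ e, inferInstance, ?_, ?_, ?_⟩
  · rw [reassoc_of% hj]; exact CategoryTheory.Limits.pullback.lift_fst _ _ _
  · rw [Category.assoc, hf]
  · have h : e ≫ rs = CategoryTheory.Limits.pullback.snd rs Δ ≫ Δ :=
      CategoryTheory.Limits.pullback.condition
    have h1 := h =≫ CategoryTheory.Limits.pullback.fst c₂.fbar c₂.fbar
    have h2 := h =≫ CategoryTheory.Limits.pullback.snd c₂.fbar c₂.fbar
    simp only [rs, Δ, Category.assoc, CategoryTheory.Limits.pullback.lift_fst,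
      CategoryTheory.Limits.pullback.lift_snd, CategoryTheory.Limits.pullback.diagonal_fst,
      CategoryTheory.Limits.pullback.diagonal_snd] at h1 h2
    rw [Category.assoc, Category.assoc, h1.trans h2.symm]

end Groth.Agent.S8607
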