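import Groth.Statements.S8609
import Mathlib
-- import your own Groth.Agent.* helpers here

set_option autoImplicit false
universe u
open CategoryTheory
open SGA4h

namespace Groth.Agent.S8609

section Helpers

open Matrix MvPolynomial

variable {r : ℕ} {A : Type*} [CommRing A]

private abbrev Ex (r n : ℕ) := {a : Fin r →₀ ℕ // a ∈ Finset.univ.finsuppAntidiag n}

private theorem mem_ex {n : ℕ} (a : Fin r →₀ ℕ) : a ∈ Finset.univ.finsuppAntidiag n ↔ ∑ l, a l = n := by
  simp [Finset.mem_finsuppAntidiag]

private noncomputable def phi (U : Matrix (Fin r) (Fin r) A) : MvPolynomial (Fin r) A →ₐ[A] MvPolynomial (Fin r) A :=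
  aeval fun l => ∑ j, C (U l j) * X j

private noncomputable def symMat (U : Matrix (Fin r) (Fin r) A) (n : ℕ) : Matrix (Ex r n) (Ex r n) A :=
  Matrix.of fun a b => coeff a.1 (phi U (monomial b.1 1))

private noncomputable def series (U : Matrix (Fin r) (Fin r) A) : PowerSeries A :=
  PowerSeries.mk fun n => (symMat U n).trace

private theorem phi_monomial (U : Matrix (Fin r) (Fin r) A) (b : Fin r →₀ ℕ) :
    phi U (monomial b 1) = ∏ l, (∑ j, C (U l j) * X j) ^ b l := by
  rw [phi, aeval_monomial, map_one, one_mul, Finsupp.prod_fintype _ _ fun l => pow_zero _]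

private theorem phi_eq_sum (U : Matrix (Fin r) (Fin r) A) (n : ℕ) (b : Ex r n) :
    phi U (monomial b.1 1) = ∑ a : Ex r n, monomial a.1 (symMat U n a b) := by
  classical
  have hh : (phi U (monomial b.1 1)).IsHomogeneous n := by
    rw [phi_monomial]
    have hn : ∑ l, b.1 l = n := (mem_ex b.1).1 b.2
    suffices h : (∏ l, (∑ j, C (U l j) * X j) ^ b.1 l : MvPolynomial (Fin r) A).IsHomogeneous (∑ l, b.1 l) by
      rwa [hn] at h
    refine IsHomogeneous.prod _ _ _ fun l _ => ?_
    have h1 : (∑ j, C (U l j) * X j : MvPolynomial (Fin r) A).IsHomogeneous 1 :=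
      IsHomogeneous.sum _ _ _ fun j _ => isHomogeneous_C_mul_X _ _
    simpa using h1.pow (b.1 l)
  ext m
  rw [coeff_sum]
  by_cases hm : m ∈ Finset.univ.finsuppAntidiag n
  · rw [Finset.sum_eq_single (⟨m, hm⟩ : Ex r n)]
    · rw [coeff_monomial, if_pos rfl]; rfl
    · intro a _ ha
      rw [coeff_monomial, if_neg fun h => ha (Subtype.ext h)]
    · exact fun h => absurd (Finset.mem_univ _) h
  · rw [Finset.sum_eq_zero fun a _ => by rw [coeff_monomial, if_neg fun h : a.1 = m => hm (h ▸ a.2)]]
    refine hh.coeff_eq_zero fun h => hm ((mem_ex m).2 ?_)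
    rw [← h, Finsupp.degree_eq_sum]

private theorem symMat_mul (U V : Matrix (Fin r) (Fin r) A) (n : ℕ) :
    symMat (U * V) n = symMat V n * symMat U n := by
  classical
  have hcomp : phi (U * V) = (phi V).comp (phi U) := by
    refine algHom_ext fun l => ?_
    simp only [phi, AlgHom.comp_apply, aeval_X, map_sum, map_mul, aeval_C, MvPolynomial.algebraMap_eq,
      Matrix.mul_apply, Finset.sum_mul, Finset.mul_sum]
    rw [Finset.sum_comm]
    refine Finset.sum_congr rfl fun j _ => Finset.sum_congr rfl fun i _ => ?_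
    ring
  ext c b
  show coeff c.1 (phi (U * V) (monomial b.1 1)) = _
  rw [hcomp, AlgHom.comp_apply, phi_eq_sum, map_sum, coeff_sum, Matrix.mul_apply]
  refine Finset.sum_congr rfl fun a _ => ?_
  rw [show monomial a.1 (symMat U n a b) = symMat U n a b • monomial a.1 (1 : A) by
    rw [smul_monomial, smul_eq_mul, mul_one], map_smul, coeff_smul, smul_eq_mul, mul_comm]
  rfl

private theorem symMat_diagonal (d : Fin r → A) (n : ℕ) :
    symMat (Matrix.diagonal d) n = Matrix.diagonal fun b : Ex r n => ∏ l, d l ^ b.1 l := by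
  classical
  ext a b
  show coeff a.1 (phi (Matrix.diagonal d) (monomial b.1 1)) = _
  rw [phi_monomial]
  have : ∀ l, (∑ j, C (Matrix.diagonal d l j) * X j : MvPolynomial (Fin r) A) = C (d l) * X l := fun l => by
    rw [Finset.sum_eq_single l (fun j _ hj => by rw [Matrix.diagonal_apply_ne _ hj.symm, map_zero, zero_mul])
      (fun h => absurd (Finset.mem_univ _) h), Matrix.diagonal_apply_eq]
  simp only [this, mul_pow, Finset.prod_mul_distrib, ← map_pow, ← map_prod]
  rw [show (∏ l, (X l : MvPolynomial (Fin r) A) ^ b.1 l) = monomial b.1 1 by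
    rw [monomial_eq, map_one, one_mul, Finsupp.prod_fintype _ _ fun l => pow_zero _],
    C_mul_monomial, mul_one, coeff_monomial, Matrix.diagonal_apply]
  by_cases h : a = b
  · subst h; simp
  · rw [if_neg fun e => h (Subtype.ext e.symm), if_neg h]

private theorem rev_mul_series_diagonal (d : Fin r → A) :
    ((Matrix.diagonal d).charpolyRev : PowerSeries A) * series (Matrix.diagonal d) = 1 := by
  classical
  have h1 : (Matrix.diagonal d).charpolyRev = ∏ l, (1 - Polynomial.C (d l) * Polynomial.X) := by
    rw [Matrix.charpolyRev, Matrix.diagonal_map (map_zero _), ← Matrix.diagonal_smul, ← Matrix.diagonal_one,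
      Matrix.diagonal_sub, Matrix.det_diagonal]
    refine Finset.prod_congr rfl fun l _ => ?_
    simp only [Pi.smul_apply, Pi.one_apply, Pi.sub_apply, Function.comp_apply, smul_eq_mul]
    rw [mul_comm]
  have h2 : series (Matrix.diagonal d) = ∏ l, PowerSeries.mk fun i => d l ^ i := by
    refine PowerSeries.ext fun n => ?_
    rw [series, PowerSeries.coeff_mk, symMat_diagonal, Matrix.trace_diagonal, PowerSeries.coeff_prod]
    simp only [PowerSeries.coeff_mk]
    exact (Finset.sum_subtype (p := fun a => a ∈ (Finset.univ : Finset (Fin r)).finsuppAntidiag n)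
      ((Finset.univ : Finset (Fin r)).finsuppAntidiag n) (fun _ => Iff.rfl) fun a : Fin r →₀ ℕ => ∏ l, d l ^ a l).symm
  rw [h1, h2, ← Polynomial.coeToPowerSeries.ringHom_apply, map_prod, ← Finset.prod_mul_distrib]
  refine Finset.prod_eq_one fun l _ => PowerSeries.ext fun i => ?_
  rw [Polynomial.coeToPowerSeries.ringHom_apply, Polynomial.coe_sub, Polynomial.coe_one, Polynomial.coe_mul,
    Polynomial.coe_C, Polynomial.coe_X, sub_mul, one_mul, mul_assoc, map_sub, PowerSeries.coeff_C_mul,
    PowerSeries.coeff_one, PowerSeries.coeff_mk]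
  cases i with
  | zero => rw [PowerSeries.coeff_zero_X_mul, mul_zero, sub_zero, pow_zero, if_pos rfl]
  | succ i => rw [PowerSeries.coeff_succ_X_mul, PowerSeries.coeff_mk, pow_succ', sub_self, if_neg (Nat.succ_ne_zero i)]

private theorem rev_mul_series_conj (P Q : Matrix (Fin r) (Fin r) A) (hPQ : P * Q = 1) (d : Fin r → A) :
    ((P * Matrix.diagonal d * Q).charpolyRev : PowerSeries A) * series (P * Matrix.diagonal d * Q) = 1 := by
  classical
  have hQP : Q * P = 1 := mul_eq_one_comm.1 hPQ
  have h1 : (P * Matrix.diagonal d * Q).charpolyRev = (Matrix.diagonal d).charpolyRev := by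
    let c : Matrix (Fin r) (Fin r) A →+* Matrix (Fin r) (Fin r) (Polynomial A) := Polynomial.C.mapMatrix
    have hc : c P * c Q = 1 := by rw [← map_mul, hPQ, map_one]
    show (1 - (Polynomial.X : Polynomial A) • c _).det = (1 - (Polynomial.X : Polynomial A) • c _).det
    rw [map_mul, map_mul, show 1 - (Polynomial.X : Polynomial A) • (c P * c (Matrix.diagonal d) * c Q) =
      c P * (1 - (Polynomial.X : Polynomial A) • c (Matrix.diagonal d)) * c Q by
        rw [mul_sub, sub_mul, mul_one, hc, Matrix.mul_smul, Matrix.smul_mul],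
      Matrix.det_mul, Matrix.det_mul, mul_right_comm, ← Matrix.det_mul, hc, Matrix.det_one, one_mul]
  have h2 : series (P * Matrix.diagonal d * Q) = series (Matrix.diagonal d) := by
    refine PowerSeries.ext fun n => ?_
    simp only [series, PowerSeries.coeff_mk]
    rw [symMat_mul, symMat_mul, Matrix.trace_mul_comm, mul_assoc, ← symMat_mul, hQP]
    rw [show symMat (1 : Matrix (Fin r) (Fin r) A) n = 1 by
      rw [← Matrix.diagonal_one, symMat_diagonal]; simp, mul_one]
  rw [h1, h2]
  exact rev_mul_series_diagonal d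

private theorem map_series {B : Type*} [CommRing B] (f : A →+* B) (U : Matrix (Fin r) (Fin r) A) :
    series (U.map f) = PowerSeries.map f (series U) := by
  refine PowerSeries.ext fun n => ?_
  simp only [series, PowerSeries.coeff_mk, PowerSeries.coeff_map, Matrix.trace, map_sum]
  refine Finset.sum_congr rfl fun a _ => ?_
  show coeff a.1 (phi (U.map f) (monomial a.1 1)) = f (coeff a.1 (phi U (monomial a.1 1)))
  rw [← coeff_map, phi_monomial, phi_monomial, map_prod]
  refine congrArg _ (Finset.prod_congr rfl fun l _ => ?_)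
  simp [map_pow, map_sum, MvPolynomial.map_C, MvPolynomial.map_X]

private theorem map_rev {B : Type*} [CommRing B] (f : A →+* B) (U : Matrix (Fin r) (Fin r) A) :
    (U.map f).charpolyRev = U.charpolyRev.map f := by
  rw [Matrix.charpolyRev, Matrix.charpolyRev, ← Polynomial.coe_mapRingHom, RingHom.map_det]
  congr 1
  ext i j
  by_cases h : i = j
  · subst h; simp
  · simp [h]

private theorem coe_map {B : Type*} [CommRing B] (f : A →+* B) (p : Polynomial A) :
    ((p.map f : Polynomial B) : PowerSeries B) = PowerSeries.map f (p : PowerSeries A) :=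
  PowerSeries.ext fun n => by simp

private theorem exists_conj_diagonal {K : Type u} [Field K] [IsAlgClosed K] (U : Matrix (Fin r) (Fin r) K)
    (hsep : U.charpoly.Separable) :
    ∃ (P Q : Matrix (Fin r) (Fin r) K) (d : Fin r → K), P * Q = 1 ∧ U = P * Matrix.diagonal d * Q := by
  classical
  have hcard : U.charpoly.roots.toFinset.card = r := by
    rw [Multiset.toFinset_card_of_nodup (Polynomial.nodup_roots hsep), IsAlgClosed.card_roots_eq_natDegree,
      Matrix.charpoly_natDegree_eq_dim, Fintype.card_fin]
  let e := (U.charpoly.roots.toFinset.equivFinOfCardEq hcard).symm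
  let d : Fin r → K := fun i => (e i : K)
  have hd : Function.Injective d := fun i j h => e.injective (Subtype.ext h)
  have hev : ∀ i, Module.End.HasEigenvalue (Matrix.toLin' U) (d i) := fun i => by
    rw [Module.End.hasEigenvalue_iff_isRoot_charpoly, Matrix.charpoly_toLin']
    exact Polynomial.isRoot_of_mem_roots (Multiset.mem_toFinset.1 (e i).2)
  choose v hv using fun i => (hev i).exists_hasEigenvector
  have hli := Module.End.eigenvectors_linearIndependent' (Matrix.toLin' U) d hd v hv
  let P : Matrix (Fin r) (Fin r) K := Matrix.of fun i j => v j i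
  have hP : IsUnit P := Matrix.linearIndependent_cols_iff_isUnit.1 hli
  obtain ⟨Q, hQ⟩ := hP.exists_right_inv
  refine ⟨P, Q, d, hQ, ?_⟩
  have h : U * P = P * Matrix.diagonal d := by
    ext i j
    rw [Matrix.mul_diagonal]
    have h1 := congrFun (hv j).apply_eq_smul i
    rw [Matrix.toLin'_apply] at h1
    show ∑ l, U i l * v j l = v j i * d j
    rw [mul_comm]
    exact h1
  rw [← h, mul_assoc, hQ, mul_one]

private theorem deg_aux (r : ℕ) {F : Type*} [Field F] [CharZero F] (φ : MvPolynomial (Fin r × Fin r) ℤ →+* F) :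
    ((Matrix.charpoly.univ ℤ (Fin r)).map φ).natDegree = r ∧
      (((Matrix.charpoly.univ ℤ (Fin r)).map φ).derivative).natDegree = r - 1 := by
  have h1 : ((Matrix.charpoly.univ ℤ (Fin r)).map φ).natDegree = r := by
    rw [(Matrix.charpoly.univ_monic ℤ (Fin r)).natDegree_map, Matrix.charpoly.univ_natDegree, Fintype.card_fin]
  exact ⟨h1, by rw [Polynomial.natDegree_derivative, h1]⟩

private theorem separable_generic (r : ℕ) (K : Type*) [Field K] [CharZero K]
    (ι : MvPolynomial (Fin r × Fin r) ℤ →+* K) (hι : Function.Injective ι) :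
    (((Matrix.mvPolynomialX (Fin r) (Fin r) ℤ).map ι).charpoly).Separable := by
  classical
  let p := Matrix.charpoly.univ ℤ (Fin r)
  let e : Fin r × Fin r → ℚ := fun q => if q.1 = q.2 then ((q.1 : ℕ) : ℚ) else 0
  have hspec : p.map (eval₂Hom (Int.castRingHom ℚ) e) = ∏ l : Fin r, (Polynomial.X - Polynomial.C ((l : ℕ) : ℚ)) := by
    rw [Matrix.charpoly.univ_map_eval₂Hom,
      show Matrix.of e.curry = Matrix.diagonal fun l : Fin r => ((l : ℕ) : ℚ) by
        ext i j
        simp [e, Function.curry, Matrix.diagonal_apply],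
      Matrix.charpoly_diagonal]
  have hsep : (p.map (eval₂Hom (Int.castRingHom ℚ) e)).Separable := by
    rw [hspec, Polynomial.separable_prod_X_sub_C_iff]
    exact fun a b h => Fin.ext (Nat.cast_injective (R := ℚ) h)
  have hres : Polynomial.resultant p p.derivative r (r - 1) ≠ 0 := fun h0 => by
    obtain ⟨h1, h2⟩ := deg_aux r (eval₂Hom (Int.castRingHom ℚ) e)
    have h3 : Polynomial.resultant (p.map (eval₂Hom (Int.castRingHom ℚ) e))
        (p.map (eval₂Hom (Int.castRingHom ℚ) e)).derivative = 0 := by
      rw [h1, h2, Polynomial.derivative_map, Polynomial.resultant_map_map, h0, map_zero]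
    exact (Polynomial.resultant_eq_zero_iff.1 h3).2 ((Polynomial.separable_def _).1 hsep)
  have hchar : ((Matrix.mvPolynomialX (Fin r) (Fin r) ℤ).map ι).charpoly = p.map ι := Matrix.charpoly_map _ _
  rw [hchar, Polynomial.separable_def]
  by_contra hnc
  obtain ⟨h1, h2⟩ := deg_aux r ι
  have hne : p.map ι ≠ 0 := ((Matrix.charpoly.univ_monic ℤ (Fin r)).map ι).ne_zero
  have h3 := Polynomial.resultant_eq_zero_iff.2 ⟨Or.inl hne, hnc⟩
  rw [h1, h2, Polynomial.derivative_map, Polynomial.resultant_map_map] at h3
  exact hres (hι (h3.trans (map_zero ι).symm))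

private theorem rev_mul_series (U : Matrix (Fin r) (Fin r) A) :
    (U.charpolyRev : PowerSeries A) * series U = 1 := by
  classical
  let P₀ := MvPolynomial (Fin r × Fin r) ℤ
  let K := AlgebraicClosure (FractionRing P₀)
  haveI : CharZero (FractionRing P₀) :=
    charZero_of_injective_algebraMap (IsFractionRing.injective P₀ (FractionRing P₀))
  haveI : CharZero K := charZero_of_injective_algebraMap (algebraMap (FractionRing P₀) K).injective
  let ι : P₀ →+* K := (algebraMap (FractionRing P₀) K).comp (algebraMap P₀ (FractionRing P₀))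
  have hι : Function.Injective ι :=
    (algebraMap (FractionRing P₀) K).injective.comp (IsFractionRing.injective P₀ (FractionRing P₀))
  obtain ⟨P, Q, d, hPQ, hU⟩ := exists_conj_diagonal _ (separable_generic r K ι hι)
  have hK := rev_mul_series_conj P Q hPQ d
  rw [← hU, map_series, map_rev, coe_map, ← map_mul, ← map_one (PowerSeries.map ι)] at hK
  have hG := PowerSeries.map_injective ι hι hK
  let ev : P₀ →+* A := eval₂Hom (Int.castRingHom A) fun q => U q.1 q.2
  have hev : (Matrix.mvPolynomialX (Fin r) (Fin r) ℤ).map ev = U :=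
    Matrix.mvPolynomialX_map_eval₂ (Int.castRingHom A) U
  rw [← hev, map_series, map_rev, coe_map, ← map_mul, hG, map_one]

/-- The content of a word. -/
private noncomputable def cnt {n : ℕ} (f : Fin n → Fin r) : Fin r →₀ ℕ := ∑ i, Finsupp.single (f i) 1

private theorem cnt_mem {n : ℕ} (f : Fin n → Fin r) : cnt f ∈ Finset.univ.finsuppAntidiag n := by
  rw [mem_ex]
  simp only [cnt, Finsupp.finsetSum_apply]
  rw [Finset.sum_comm]
  simp

private theorem cnt_comp {n : ℕ} (f : Fin n → Fin r) (σ : Equiv.Perm (Fin n)) : cnt (f ∘ σ) = cnt f :=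
  Equiv.sum_comp σ fun i => Finsupp.single (f i) 1

private theorem exists_word {n : ℕ} (a : Fin r →₀ ℕ) (ha : ∑ l, a l = n) : ∃ f : Fin n → Fin r, cnt f = a := by
  let L := (Finsupp.toMultiset a).toList
  have hL : L.length = n := by
    rw [Multiset.length_toList, Finsupp.card_toMultiset, Finsupp.sum_fintype _ _ fun _ => rfl]
    exact ha
  refine ⟨fun i => L.get (Fin.cast hL.symm i), ?_⟩
  show ∑ i, Finsupp.single (L.get (finCongr hL.symm i)) 1 = a
  rw [Equiv.sum_comp (finCongr hL.symm) fun i => Finsupp.single (L.get i) 1]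
  refine Finsupp.orderIsoMultiset.injective ?_
  show Finsupp.toMultiset _ = Finsupp.toMultiset a
  simp only [map_sum, Finsupp.toMultiset_single, one_smul]
  rw [Finset.sum_eq_multiset_sum, show (Finset.univ.val.map fun x : Fin L.length => ({L.get x} : Multiset (Fin r))) =
      ((Finset.univ.val.map fun x => L.get x).map fun x => ({x} : Multiset (Fin r))) from (Multiset.map_map _ _ _).symm,
    Multiset.sum_map_singleton]
  show (Finset.univ.val.map fun i => L.get i) = _
  rw [Fin.univ_val_map, List.ofFn_get, Multiset.coe_toList]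

private theorem exists_perm {n : ℕ} (f g : Fin n → Fin r) (h : cnt f = cnt g) :
    ∃ σ : Equiv.Perm (Fin n), f ∘ σ = g := by
  classical
  have hcard : ∀ (f : Fin n → Fin r) (l : Fin r), Fintype.card {i // f i = l} = cnt f l := fun f l => by
    simp [cnt, Finsupp.finsetSum_apply, Finsupp.single_apply, Fintype.card_subtype]
  refine ⟨Equiv.ofFiberEquiv (f := g) (g := f) fun l => Fintype.equivOfCardEq (by rw [hcard, hcard, h]), ?_⟩
  funext i
  exact Equiv.ofFiberEquiv_map _ i

end Helpers


open TensorProduct PiTensorProduct Polynomial in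
/-- The case of a module placed in degree 0: let A be a commutative ring, M a finite free A-module and u
an endomorphism of M. For each n let Γ^n M be the submodule of the n-fold tensor power of M fixed by
all permutations of the factors (symmetric tensors) and γ_n the endomorphism of Γ^n M induced by the
n-fold tensor power of u. Then the power series Σ_n Tr(γ_n) t^n is the inverse of the polynomial
det(1 - u t, M): their product is 1 in A[[t]]. (The published statement allows M projective of
finite type; this row takes M free, where the trace of Γ^n M is the usual one.) -/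
theorem result {A : Type u} [CommRing A] (M : Type u) [AddCommGroup M]
    [Module A M] [Module.Free A M] [Module.Finite A M] (u : M →ₗ[A] M)
    (γ : ∀ n : ℕ, ↥(⨅ σ : Equiv.Perm (Fin n),
        LinearMap.eqLocus ((PiTensorProduct.reindex A (fun _ : Fin n => M) σ).toLinearMap) LinearMap.id) →ₗ[A]
      ↥(⨅ σ : Equiv.Perm (Fin n),
        LinearMap.eqLocus ((PiTensorProduct.reindex A (fun _ : Fin n => M) σ).toLinearMap) LinearMap.id))
    (hγ : ∀ (n : ℕ) (x : ↥(⨅ σ : Equiv.Perm (Fin n),
        LinearMap.eqLocus ((PiTensorProduct.reindex A (fun _ : Fin n => M) σ).toLinearMap) LinearMap.id)),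
      (↑(γ n x) : ⨂[A] _i : Fin n, M) = PiTensorProduct.map (fun _ : Fin n => u) (↑x : ⨂[A] _i : Fin n, M)) :
    (↑(SGA4h.detOneSub (ModuleCat.of A M) (ModuleCat.ofHom u)) : PowerSeries A) *
      PowerSeries.mk (fun n => LinearMap.trace A _ (γ n)) = 1 := by
  classical
  obtain ⟨r, ⟨b⟩⟩ : ∃ r, Nonempty (Module.Basis (Fin r) A M) :=
    ⟨_, ⟨(Module.Free.chooseBasis A M).reindex (Fintype.equivFin _)⟩⟩
  let U := LinearMap.toMatrix b b u
  have hdet : SGA4h.detOneSub (ModuleCat.of A M) (ModuleCat.ofHom u) = U.charpolyRev := by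
    show LinearMap.det (LinearMap.id - (Polynomial.X : Polynomial A) • u.baseChange (Polynomial A)) = _
    rw [← LinearMap.det_toMatrix (Algebra.TensorProduct.basis (Polynomial A) b), Matrix.charpolyRev]
    congr 1
    ext i j
    by_cases h : i = j <;> simp [U, h, LinearMap.toMatrix_apply, Matrix.one_apply]
  have htr : ∀ n, LinearMap.trace A _ (γ n) = (symMat U n).trace := by
    intro n
    let B := Basis.piTensorProduct fun _ : Fin n => b
    let Γn := ↥(⨅ σ : Equiv.Perm (Fin n),
        LinearMap.eqLocus ((PiTensorProduct.reindex A (fun _ : Fin n => M) σ).toLinearMap) LinearMap.id)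
    have hre : ∀ (σ : Equiv.Perm (Fin n)) (f : Fin n → Fin r),
        PiTensorProduct.reindex A (fun _ : Fin n => M) σ (B f) = B (f ∘ σ.symm) := fun σ f => by
      simp only [B, Basis.piTensorProduct_apply, PiTensorProduct.reindex_tprod]
      rfl
    have hinv : ∀ (x : Γn) (σ : Equiv.Perm (Fin n)) (f : Fin n → Fin r),
        B.repr x.1 (f ∘ σ.symm) = B.repr x.1 f := fun x σ f => by
      have hx : PiTensorProduct.reindex A (fun _ : Fin n => M) σ x.1 = x.1 :=
        (Submodule.mem_iInf _).1 x.2 σ
      have hmap : (B.coord (f ∘ σ.symm)) ∘ₗ (PiTensorProduct.reindex A (fun _ : Fin n => M) σ).toLinearMap =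
          B.coord f := by
        refine B.ext fun g => ?_
        simp only [LinearMap.comp_apply, LinearEquiv.coe_coe, hre, Module.Basis.coord_apply,
          Module.Basis.repr_self, Finsupp.single_apply]
        have : g ∘ σ.symm = f ∘ σ.symm ↔ g = f := σ.symm.surjective.injective_comp_right.eq_iff
        simp [this]
      conv_lhs => rw [← hx]
      exact LinearMap.congr_fun hmap x.1
    choose g hg using fun a : Ex r n => exists_word a.1 ((mem_ex a.1).1 a.2)
    have hconst : ∀ (x : Γn) (f : Fin n → Fin r), B.repr x.1 f = B.repr x.1 (g ⟨cnt f, cnt_mem f⟩) := by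
      intro x f
      obtain ⟨σ, hσ⟩ := exists_perm (g ⟨cnt f, cnt_mem f⟩) f (hg _)
      have h := hinv x σ.symm (g ⟨cnt f, cnt_mem f⟩)
      rw [Equiv.symm_symm, hσ] at h
      exact h
    let toFun' : Γn →ₗ[A] (Ex r n → A) := LinearMap.pi fun a => B.coord (g a) ∘ₗ Submodule.subtype _
    let z : (Ex r n → A) → ⨂[A] _ : Fin n, M := fun c => ∑ f, c ⟨cnt f, cnt_mem f⟩ • B f
    have hz : ∀ c, z c ∈ ⨅ σ : Equiv.Perm (Fin n),
        LinearMap.eqLocus ((PiTensorProduct.reindex A (fun _ : Fin n => M) σ).toLinearMap) LinearMap.id := by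
      intro c
      refine (Submodule.mem_iInf _).2 fun σ => ?_
      show PiTensorProduct.reindex A (fun _ : Fin n => M) σ (z c) = z c
      simp only [z, map_sum, map_smul, hre]
      refine Fintype.sum_equiv (Equiv.arrowCongr σ (Equiv.refl _)) _ _ fun f => ?_
      show _ = c ⟨cnt (f ∘ σ.symm), _⟩ • B (f ∘ σ.symm)
      simp only [cnt_comp]
    have hrepr : ∀ c f, B.repr (z c) f = c ⟨cnt f, cnt_mem f⟩ := fun c f => by
      simp only [z]; rw [B.repr_sum_self]
    have hbij : Function.Bijective toFun' := by
      refine ⟨fun x y h => Subtype.ext (B.ext_elem fun f => ?_), fun c => ⟨⟨z c, hz c⟩, funext fun a => ?_⟩⟩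
      · rw [hconst x, hconst y]
        exact congrFun h _
      · show B.repr (z c) (g a) = c a
        rw [hrepr]
        exact congrArg c (Subtype.ext (hg a))
    let E := LinearEquiv.ofBijective toFun' hbij
    let BΓ : Module.Basis (Ex r n) A Γn := Module.Basis.ofEquivFun E
    rw [LinearMap.trace_eq_matrix_trace A BΓ, Matrix.trace, Matrix.trace]
    refine Finset.sum_congr rfl fun a _ => ?_
    rw [Matrix.diag_apply, Matrix.diag_apply, LinearMap.toMatrix_apply]
    have hBa : (BΓ a).1 = z (Pi.single a 1) := by
      have : BΓ a = ⟨z (Pi.single a 1), hz _⟩ := by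
        rw [Module.Basis.coe_ofEquivFun]
        refine E.injective ?_
        rw [E.apply_symm_apply]
        exact (funext fun a' => by
          show _ = B.repr (z (Pi.single a 1)) (g a')
          rw [hrepr]
          exact congrArg _ (Subtype.ext (hg a')).symm)
      rw [this]
    show B.repr (γ n (BΓ a)).1 (g a) = MvPolynomial.coeff a.1 (phi U (MvPolynomial.monomial a.1 1))
    rw [hγ, hBa]
    have hrhs : phi U (MvPolynomial.monomial a.1 1) =
        ∑ f : Fin n → Fin r, MvPolynomial.monomial (cnt f) (∏ i, U (g a i) (f i)) := by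
      rw [show MvPolynomial.monomial a.1 (1 : A) = ∏ i, MvPolynomial.X (g a i) by
        rw [← hg a, cnt, MvPolynomial.monomial_sum_one]; rfl, map_prod]
      simp only [phi, MvPolynomial.aeval_X, Fintype.prod_sum, Finset.prod_mul_distrib, ← map_prod]
      refine Finset.sum_congr rfl fun f _ => ?_
      rw [show (∏ i, MvPolynomial.X (R := A) (f i)) = MvPolynomial.monomial (cnt f) 1 by
        rw [cnt, MvPolynomial.monomial_sum_one]; rfl, MvPolynomial.C_mul_monomial, mul_one]
    rw [hrhs, MvPolynomial.coeff_sum]
    simp only [z, map_sum, map_smul, Finsupp.finsetSum_apply, Finsupp.smul_apply, smul_eq_mul]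
    refine Finset.sum_congr rfl fun f _ => ?_
    rw [show B f = PiTensorProduct.tprod A fun i => b (f i) from Basis.piTensorProduct_apply _ f,
      PiTensorProduct.map_tprod, Basis.piTensorProduct_repr_tprod_apply, MvPolynomial.coeff_monomial,
      Pi.single_apply]
    simp only [U, LinearMap.toMatrix_apply]
    split_ifs with h1 h2 h2
    · rw [one_mul]
    · exact absurd (congrArg Subtype.val h1) h2
    · exact absurd (Subtype.ext h2) h1
    · rw [zero_mul]
  rw [hdet]
  simp only [htr]
  exact rev_mul_series U

end Groth.Agent.S8609
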