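import Groth.Statements.S8611
import Mathlib.Algebra.Homology.ShortComplex.Ab
import Mathlib.Algebra.Homology.ShortComplex.ExactFunctor
-- import your own Groth.Agent.* helpers here

set_option autoImplicit false
set_option backward.isDefEq.respectTransparency.types false
universe w v u
open CategoryTheory CategoryTheory.Limits
open SGA4h

namespace Groth.Agent.S8611

/-- Let C be an abelian category, T and T' cohomological delta-functors on C in degrees ≥ 0 with values
in abelian groups, both left exact in degree 0, with T effaceable in every degree q > 0 (every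
element of T^q(A) is killed by T^q(u) for some monomorphism u : A → M, depending on the element),
and φ : T → T' a morphism of delta-functors. Let E be a class of objects such that every object
admits a monomorphism into a member of E. Then the following are equivalent: (i) φ^q(A) is bijective
for all q and all A; (ii) φ^0(M) is bijective and φ^q(M) is surjective for q > 0, for all M in E;
(iii) φ^0(A) is bijective for all A and T' is effaceable in every degree > 0 (in the same
element-wise sense). Stated as (i) ⇔ (ii) together with (i) ⇔ (iii). -/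
theorem result {C : Type u} [Category.{v} C] [Abelian C]
    (T T' : DeltaF.CohDeltaFunctor C AddCommGrpCat.{w} ℕ) (hT0 : T.ZeroMono) (hT'0 : T'.ZeroMono)
    (hT : ∀ (q : ℕ) (A : C) (α : (T.F (q + 1)).obj A),
      ∃ (M : C) (u : A ⟶ M), Mono u ∧ (T.F (q + 1)).map u α = 0)
    (φ : T ⟶ T') (E : ObjectProperty C)
    (hE : ∀ A : C, ∃ (M : C) (i : A ⟶ M), Mono i ∧ E M) :
    ((∀ (q : ℕ) (A : C), IsIso ((φ.app q).app A)) ↔
      ((∀ M : C, E M → IsIso ((φ.app 0).app M)) ∧
        ∀ (q : ℕ) (M : C), E M → Epi ((φ.app (q + 1)).app M))) ∧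
    ((∀ (q : ℕ) (A : C), IsIso ((φ.app q).app A)) ↔
      ((∀ A : C, IsIso ((φ.app 0).app A)) ∧
        ∀ (q : ℕ) (A : C) (α : (T'.F (q + 1)).obj A),
          ∃ (M : C) (u : A ⟶ M), Mono u ∧ (T'.F (q + 1)).map u α = 0)) := by
  have ex : ∀ {S : ShortComplex AddCommGrpCat.{w}}, S.Exact →
      ∀ x : S.X₂, S.g x = 0 → ∃ y : S.X₁, S.f y = x := fun hS => (ShortComplex.ab_exact_iff _).1 hS
  have mkS : ∀ {A M : C} (u : A ⟶ M) [Mono u],
      ∃ S : ShortComplex C, S.ShortExact ∧ ∃ (e₁ : S.X₁ = A) (e₂ : S.X₂ = M), S.f = eqToHom e₁ ≫ u ≫ eqToHom e₂.symm := by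
    intro A M u _
    refine ⟨ShortComplex.mk u (cokernel.π u) (cokernel.condition u), ?_, rfl, rfl, by simp⟩
    haveI : Mono (ShortComplex.mk u (cokernel.π u) (cokernel.condition u)).f := by assumption
    exact { exact := ShortComplex.exact_of_g_is_cokernel _ (cokernelIsCokernel u) }
  -- naturality on elements
  have nat : ∀ (q : ℕ) {A B : C} (f : A ⟶ B) (x : (T.F q).obj A),
      (φ.app q).app B ((T.F q).map f x) = (T'.F q).map f ((φ.app q).app A x) := fun q A B f x => by
    rw [← ConcreteCategory.comp_apply, (φ.app q).naturality, ConcreteCategory.comp_apply]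
  have comm : ∀ (S : ShortComplex C) (hS : S.ShortExact) (q : ℕ) (x : (T.F q).obj S.X₃),
      (φ.app (q + 1)).app S.X₁ (T.δ S hS q (q + 1) rfl x) =
        T'.δ S hS q (q + 1) rfl ((φ.app q).app S.X₃ x) := fun S hS q x => by
    rw [← ConcreteCategory.comp_apply, φ.comm, ConcreteCategory.comp_apply]
  have bij : ∀ {q : ℕ} {A : C}, IsIso ((φ.app q).app A) → Function.Bijective ((φ.app q).app A) :=
    fun h => ConcreteCategory.bijective_of_isIso (C := AddCommGrpCat.{w}) _
  have inj : ∀ q : ℕ, (∀ A, IsIso ((φ.app q).app A)) → ∀ A, Function.Injective ((φ.app (q + 1)).app A) := by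
    intro q hq A
    rw [injective_iff_map_eq_zero]
    intro α hα
    obtain ⟨M, u, hu, hu0⟩ := hT q A α
    obtain ⟨S, hS, e₁, e₂, hf⟩ := mkS u
    subst e₁ e₂
    obtain rfl : S.f = u := by simpa using hf
    obtain ⟨β, rfl⟩ := ex (T.exact₁ S hS q (q + 1) rfl) α hu0
    dsimp only at hα ⊢
    rw [comm] at hα
    obtain ⟨γ', hγ'⟩ := ex (T'.exact₃ S hS q (q + 1) rfl) _ hα
    dsimp only at hγ'
    obtain ⟨γ, rfl⟩ := (bij (hq S.X₂)).2 γ'
    rw [← nat] at hγ'
    rw [← (bij (hq S.X₃)).1 hγ', ← ConcreteCategory.comp_apply, T.comp_δ]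
    rfl
  have iso_of : ∀ {q : ℕ} {A : C}, Function.Bijective ((φ.app q).app A) → IsIso ((φ.app q).app A) :=
    fun h => (ConcreteCategory.isIso_iff_bijective _).2 h
  have ii_i : ((∀ M : C, E M → IsIso ((φ.app 0).app M)) ∧
      ∀ (q : ℕ) (M : C), E M → Epi ((φ.app (q + 1)).app M)) →
      ∀ (q : ℕ) (A : C), IsIso ((φ.app q).app A) := by
    rintro ⟨h0, hE'⟩ q
    induction q with
    | zero =>
      have inj0 : ∀ A, Function.Injective ((φ.app 0).app A) := by
        intro A a b hab
        obtain ⟨M, i, hi, hM⟩ := hE A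
        obtain ⟨S, hS, e₁, e₂, hf⟩ := mkS i
        subst e₁ e₂
        obtain rfl : S.f = i := by simpa using hf
        haveI := hT0 S hS
        apply (AddCommGrpCat.mono_iff_injective _).1 (inferInstance : Mono ((T.F 0).map S.f))
        apply (bij (h0 _ hM)).1
        rw [nat, nat, hab]
      intro A
      refine iso_of ⟨inj0 A, fun α' => ?_⟩
      obtain ⟨M, i, hi, hM⟩ := hE A
      obtain ⟨S, hS, e₁, e₂, hf⟩ := mkS i
      subst e₁ e₂
      obtain rfl : S.f = i := by simpa using hf
      obtain ⟨m, hm⟩ := (bij (h0 _ hM)).2 ((T'.F 0).map S.f α')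
      have hgm : (T.F 0).map S.g m = 0 := by
        apply inj0
        rw [nat, hm, map_zero, ← ConcreteCategory.comp_apply, ← Functor.map_comp, S.zero, Functor.map_zero]
        rfl
      obtain ⟨α, hα⟩ := ex (T.exact₂ S hS 0) m hgm
      dsimp only at hα
      refine ⟨α, ?_⟩
      haveI := hT'0 S hS
      apply (AddCommGrpCat.mono_iff_injective _).1 (inferInstance : Mono ((T'.F 0).map S.f))
      rw [← nat, hα, hm]
    | succ q IH =>
      intro A
      refine iso_of ⟨inj q IH A, fun α' => ?_⟩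
      obtain ⟨M, i, hi, hM⟩ := hE A
      obtain ⟨S, hS, e₁, e₂, hf⟩ := mkS i
      subst e₁ e₂
      obtain rfl : S.f = i := by simpa using hf
      obtain ⟨m, hm⟩ := (AddCommGrpCat.epi_iff_surjective _).1 (hE' q _ hM) ((T'.F (q + 1)).map S.f α')
      have hgm : (T.F (q + 1)).map S.g m = 0 := by
        apply inj q IH
        rw [nat, hm, map_zero, ← ConcreteCategory.comp_apply, ← Functor.map_comp, S.zero, Functor.map_zero]
        rfl
      obtain ⟨α, hα⟩ := ex (T.exact₂ S hS (q + 1)) m hgm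
      dsimp only at hα
      have h2 : (T'.F (q + 1)).map S.f (α' - (φ.app (q + 1)).app S.X₁ α) = 0 := by
        rw [map_sub, ← nat, hα, hm, sub_self]
      obtain ⟨β', hβ'⟩ := ex (T'.exact₁ S hS q (q + 1) rfl) _ h2
      dsimp only at hβ'
      obtain ⟨β, rfl⟩ := (bij (IH S.X₃)).2 β'
      refine ⟨α + T.δ S hS q (q + 1) rfl β, ?_⟩
      rw [map_add, comm, hβ']
      abel
  refine ⟨⟨fun h => ⟨fun M _ => h 0 M, fun q M _ => ?_⟩, ii_i⟩, ⟨fun h => ⟨h 0, fun q A α => ?_⟩, ?_⟩⟩
  · haveI := h (q + 1) M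
    infer_instance
  · obtain ⟨a, rfl⟩ := (bij (h (q + 1) A)).2 α
    obtain ⟨M, u, hu, hu0⟩ := hT q A a
    exact ⟨M, u, hu, by rw [← nat, hu0, map_zero]⟩
  · rintro ⟨h0, hT'⟩ q
    induction q with
    | zero => exact h0
    | succ q IH =>
      intro A
      refine iso_of ⟨inj q IH A, fun α' => ?_⟩
      obtain ⟨M, u, hu, hu0⟩ := hT' q A α'
      obtain ⟨S, hS, e₁, e₂, hf⟩ := mkS u
      subst e₁ e₂
      obtain rfl : S.f = u := by simpa using hf
      obtain ⟨β', rfl⟩ := ex (T'.exact₁ S hS q (q + 1) rfl) α' hu0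
      obtain ⟨β, rfl⟩ := (bij (IH S.X₃)).2 β'
      exact ⟨T.δ S hS q (q + 1) rfl β, comm S hS q β⟩

end Groth.Agent.S8611
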