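import Groth.Statements.S8612
import Groth.Agent.DescentBase.DeltaColim

set_option autoImplicit false
universe w v u
open CategoryTheory CategoryTheory.Limits
open SGA4h

namespace Groth.Agent.S8612

/-- Let C be an abelian category with filtered colimits, T and T' cohomological delta-functors on C in
degrees ≥ 0 with values in abelian groups, both left exact in degree 0 and commuting with filtered
colimits in every degree, and φ : T → T' a morphism of delta-functors. Let D and E be classes of
objects such that (a) every object of C is a filtered colimit of objects of D and (b) every object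
of D admits a monomorphism into a member of E. Then φ^q(A) is bijective for all q and all A if and
only if φ^q(M) is bijective for all q and all M in E. -/
theorem result {C : Type u} [Category.{v} C] [Abelian C]
    [HasFilteredColimitsOfSize.{v, v} C]
    (T T' : DeltaF.CohDeltaFunctor C AddCommGrpCat.{w} ℕ) (hT0 : T.ZeroMono) (hT'0 : T'.ZeroMono)
    [∀ n, PreservesFilteredColimitsOfSize.{v, v} (T.F n)] [∀ n, PreservesFilteredColimitsOfSize.{v, v} (T'.F n)]
    (φ : T ⟶ T') (D E : ObjectProperty C)
    (hD : ∀ A : C, ∃ (J : Type v) (_ : SmallCategory J) (_ : IsFiltered J) (K : J ⥤ C) (c : Cocone K)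
      (_ : IsColimit c), (∀ j, D (K.obj j)) ∧ Nonempty (c.pt ≅ A))
    (hE : ∀ A : C, D A → ∃ (M : C) (i : A ⟶ M), Mono i ∧ E M) :
    (∀ (q : ℕ) (A : C), IsIso ((φ.app q).app A)) ↔
      ∀ (q : ℕ) (M : C), E M → IsIso ((φ.app q).app M) := by
  refine ⟨fun h q M _ => h q M, fun h q A => ?_⟩
  exact (ConcreteCategory.isIso_iff_bijective _).2
    (Groth.DescentBase.DeltaColim.bijective_app_of_generators φ hT0 hT'0 D E hD hE h q A)

end Groth.Agent.S8612
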