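import Groth.Statements.S8614
import Groth.Agent.DescentBase.HpullMain

set_option autoImplicit false
universe u
open CategoryTheory CategoryTheory.Limits AlgebraicGeometry
open SGA4h

namespace Groth.Agent.S8614

/-- Let X be a Noetherian scheme and i : X₀ → X a subscheme (an immersion). Assume that for every
natural number n (n = 0 giving ℤ) and every finite morphism p : X' → X, with X'₀ = X' ×_X X₀, the
restriction map H^q(X', ℤ/n) → H^q(X'₀, ℤ/n) is bijective for q = 0 and surjective for q > 0. Then
for every torsion abelian etale sheaf F on X and every q the restriction map H^q(X, F) → H^q(X₀,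
i⁻¹F) is bijective. -/
theorem result {X X₀ : Scheme.{u}} [IsNoetherian X] (i : X₀ ⟶ X)
    [IsImmersion i]
    (h : ∀ (n : ℕ) (X' : Scheme.{u}) (p : X' ⟶ X) [IsFinite p]
      [PreservesFiniteLimits (EtCoh.pull (pullback.fst p i))],
      Function.Bijective (EtCore.Hpull (pullback.fst p i) (EtCoh.const X' (ZMod n)) 0) ∧
        ∀ q : ℕ, 0 < q → Function.Surjective (EtCore.Hpull (pullback.fst p i) (EtCoh.const X' (ZMod n)) q))
    (F : EtCoh.Ab X) (hF : EtCoh.IsTorsion F) [PreservesFiniteLimits (EtCoh.pull i)] (q : ℕ) :
    Function.Bijective (EtCore.Hpull i F q) := by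
  haveI : TopologicalSpace.NoetherianSpace ↥X₀ :=
    (IsPreimmersion.isEmbedding (f := i)).isInducing.noetherianSpace
  haveI : QuasiSeparatedSpace ↥X₀ := inferInstance
  exact Groth.DescentBase.HpullReduce.bijective_of_finite_covers i (fun n X' p _ _ => h n X' p) q F hF

end Groth.Agent.S8614
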