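import Groth.Statements.S8615
import Groth.Agent.EtPbc.PointSupp

set_option autoImplicit false
universe u
open CategoryTheory CategoryTheory.Limits AlgebraicGeometry
open SGA4h

namespace Groth.Agent.S8615

/-- Let k be an algebraically closed field and X a connected smooth proper curve over k. For the family,
indexed by the closed points x of X, of direct images i_{x*} ℤ of the constant sheaf ℤ along i_x :
Spec κ(x) → X, any coproduct (given as a colimit cofan) has vanishing etale cohomology in every
degree q > 0. -/
theorem result {k : Type u} [Field k] [IsAlgClosed k]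
    {X : Scheme.{u}} (f : X ⟶ Spec (CommRingCat.of k)) [IsProper f] [SmoothOfRelativeDimension 1 f]
    [ConnectedSpace ↥X]
    (c : Cofan fun x : {x : X // IsClosed ({x} : Set X)} =>
      (EtCoh.push (X.fromSpecResidueField x.1)).obj (EtCoh.const (Spec (X.residueField x.1)) ℤ))
    (hc : IsColimit c) (q : ℕ) (hq : 0 < q) :
    Subsingleton (EtCoh.H X c.pt q) := by
  refine Groth.EtPbc.PointSupp.subsingleton_H f c.pt (fun y hy => ?_) q hq
  suffices h : EtPBC.supp c.pt ⊆ {y : ↥X | IsClosed ({y} : Set ↥X)} from h hy
  rw [Groth.EtaleBase.supp_subset_iff]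
  intro Ω _ _ η hη
  haveI : (EtCoh.stalk η).IsLeftAdjoint := (Scheme.pointSmallEtale η).skyscraperSheafAdjunction.isLeftAdjoint
  have hc' := isColimitOfPreserves (EtCoh.stalk η) hc
  rw [IsZero.iff_id_eq_zero]
  refine hc'.hom_ext fun x => ?_
  refine IsZero.eq_of_src ?_ _ _
  haveI : IsClosedImmersion (X.fromSpecResidueField x.as.1) := isClosed_singleton_iff_isClosedImmersion.1 x.as.2
  refine Groth.EtaleBase.isZero_stalk_push _ (X.fromSpecResidueField x.as.1).isClosedEmbedding.isClosed_range η ?_ _
  rw [Scheme.range_fromSpecResidueField]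
  intro hmem
  exact hη (Set.mem_singleton_iff.1 hmem ▸ x.as.2)

end Groth.Agent.S8615
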