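import Groth.Statements.S8618
import Groth.Agent.DescentBase.PLinTrace

set_option autoImplicit false
universe u
open SGA4h

namespace Groth.Agent.S8618

open TensorProduct in
/-- Let k be a finite field with q = p^f elements, F₀ ⊂ k its prime field, K an algebraically closed
extension of k, V a finite-dimensional k-vector space and φ a p-linear endomorphism of V (φ(λx) =
λ^p φ(x)); let F = φ^f, a k-linear endomorphism, F_K its K-linear extension to K ⊗_k V and φ_K the
p-linear extension of φ (φ_K(μ ⊗ v) = μ^p ⊗ φ(v)). Then F_K preserves the F₀-subspace W = Ker(φ_K -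
1) of K ⊗_k V, W is finite-dimensional over F₀, and the trace of F_K on W (an element of F₀) equals
the trace of F on V. -/
theorem result {p : ℕ} [Fact p.Prime] (k : Type u) [Field k] [Fintype k]
    [CharP k p] (f : ℕ) (hq : Fintype.card k = p ^ f) (K : Type u) [Field K] [Algebra k K] [IsAlgClosed K]
    (V : Type u) [AddCommGroup V] [Module k V] [FiniteDimensional k V]
    (φ : V →ₛₗ[frobenius k p] V) (F : V →ₗ[k] V) (hF : ∀ x, F x = (⇑φ)^[f] x)
    (φK : K ⊗[k] V →+ K ⊗[k] V) (hφK : ∀ (μ : K) (v : V), φK (μ ⊗ₜ[k] v) = (μ ^ p) ⊗ₜ[k] φ v)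
    (W : Submodule (↥(⊥ : Subfield k)) (K ⊗[k] V)) (hW : ∀ y, y ∈ W ↔ φK y = y) :
    (∀ y, φK y = y → φK (F.baseChange K y) = F.baseChange K y) ∧
    Module.Finite (↥(⊥ : Subfield k)) ↥W ∧
    ∀ (G : ↥W →ₗ[↥(⊥ : Subfield k)] ↥W), (∀ y : ↥W, (↑(G y) : K ⊗[k] V) = F.baseChange K ↑y) →
      algebraMap k K (algebraMap (↥(⊥ : Subfield k)) k (LinearMap.trace (↥(⊥ : Subfield k)) ↥W G)) =
        algebraMap k K (LinearMap.trace k V F) := by
  classical
  haveI : CharP K p := charP_of_injective_algebraMap (algebraMap k K).injective p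
  haveI : ExpChar k p := ExpChar.prime Fact.out
  haveI : ExpChar K p := ExpChar.prime Fact.out
  have hp : 1 < p := (Fact.out : p.Prime).one_lt
  have hσ : Function.Surjective (frobenius K p) := fun x => by
    obtain ⟨z, hz⟩ := IsAlgClosed.exists_pow_nat_eq x (by omega : 0 < p)
    exact ⟨z, hz⟩
  have hf : 0 < f := by
    rcases Nat.eq_zero_or_pos f with h | h
    · have := Fintype.one_lt_card (α := k); rw [hq, h] at this; simp at this
    · exact h
  let T : K ⊗[k] V →ₛₗ[frobenius K p] K ⊗[k] V :=
    { toFun := φK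
      map_add' := map_add φK
      map_smul' := fun a y => by
        induction y using TensorProduct.induction_on with
        | zero => simp
        | tmul μ v => simp [TensorProduct.smul_tmul', hφK, frobenius_def, mul_pow]
        | add x y hx hy => simp only [smul_add, map_add, hx, hy] }
  have hT : ∀ y, T y = φK y := fun y => rfl
  have hFT : ∀ y, F.baseChange K (T y) = T (F.baseChange K y) := by
    intro y
    induction y using TensorProduct.induction_on with
    | zero => simp
    | tmul μ v =>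
      simp only [hT, hφK, LinearMap.baseChange_tmul, hF]
      rw [← Function.iterate_succ_apply, Function.iterate_succ_apply']
    | add x y hx hy => simp only [map_add, hx, hy]
  refine ⟨fun y hy => by rw [← hT, ← hFT, hT, hy], ?_⟩
  obtain ⟨N, hc, -⟩ := Groth.SigmaLinH.fitting hσ T
  obtain ⟨b, hb⟩ := Groth.SigmaLinH.exists_fixed_basis_ssPart T
    (Groth.SigmaLinH.H2_frobenius K p) (Groth.SigmaLinH.H3_frobenius K p)
  have hbW : ∀ i, (b i : K ⊗[k] V) ∈ W := fun i => (hW _).2 (hb i)
  obtain ⟨eB, heq⟩ := Groth.DescentBase.PLinTrace.exists_basis_descend W b hbW (fun y hy => by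
    refine ⟨Groth.SigmaLinH.mem_span_fixed T ((hW y).1 hy), fun i => ?_⟩
    exact Groth.DescentBase.PLinTrace.exists_bot_coord (k := k) T b hb
      ⟨y, Groth.SigmaLinH.mem_span_fixed T ((hW y).1 hy)⟩ ((hW y).1 hy) i)
  refine ⟨Module.Finite.of_basis eB, fun G hG => ?_⟩
  have hFS : ∀ z ∈ Groth.SigmaLinH.ssPart T, F.baseChange K z ∈ Groth.SigmaLinH.ssPart T := by
    intro z hz
    have hz' := congrArg Subtype.val (b.sum_repr ⟨z, hz⟩)
    simp only [AddSubmonoidClass.coe_finsetSum, SetLike.val_smul] at hz'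
    rw [← hz', map_sum]
    refine Submodule.sum_mem _ fun i _ => ?_
    rw [map_smul]
    refine Submodule.smul_mem _ _ (Groth.SigmaLinH.mem_span_fixed T ?_)
    rw [← hFT, hb]
  have hFN : ∀ z ∈ Groth.SigmaLinH.kerPow T N, F.baseChange K z ∈ Groth.SigmaLinH.kerPow T N := by
    intro z hz
    show (⇑T)^[N] (F.baseChange K z) = 0
    rw [← (Function.Commute.iterate_right (fun z => hFT z) N) z, show (⇑T)^[N] z = 0 from hz, map_zero]
  have hnil : ∀ z ∈ Groth.SigmaLinH.kerPow T N, (⇑(F.baseChange K))^[N] z = 0 := fun z hz =>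
    Groth.DescentBase.PLinTrace.iterate_baseChange_eq_zero f hq φ F hF T hφK N z
      (Groth.SigmaLinH.kerPow_mono T (Nat.le_mul_of_pos_left N hf) hz)
  have key := Groth.DescentBase.PLinTrace.trace_fixed_eq W b eB heq G
    ((F.baseChange K).restrict hFS) (fun i => by rw [hG, heq]; rfl)
  rw [← LinearMap.trace_baseChange F K,
    Groth.DescentBase.PLinTrace.trace_eq_trace_restrict hc _ hFS hFN N hnil, key]
  rfl

end Groth.Agent.S8618
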