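import Groth.Statements.S8619
import Groth.Agent.EtaleSGA5.PullTot


set_option autoImplicit false
universe u
open CategoryTheory CategoryTheory.Limits AlgebraicGeometry
open SGA4h

namespace Groth.Agent.S8619

/-- Let X be a Noetherian scheme, Λ a commutative Noetherian ring and K a cochain complex of etale
sheaves of Λ-modules on X whose cohomology sheaves are constructible and vanish in large degrees.
Then there are a cochain complex K', zero in large degrees, whose components are constructible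
sheaves of Λ-modules with flat geometric stalks, and a quasi-isomorphism K' → K. (The published
statement allows a left-Noetherian, possibly non-commutative Λ.) -/
theorem result {Λ : Type (u + 1)} [CommRing Λ]
    [IsNoetherianRing Λ] {X : Scheme.{u}} [IsNoetherian X]
    (K : CochainComplex (EtModW.Mod Λ X) ℤ)
    (hK : ∀ i : ℤ, EtModW.IsConstructible Λ (K.homology i))
    (hb : ∃ m : ℤ, ∀ i : ℤ, m ≤ i → IsZero (K.homology i)) :
    ∃ (K' : CochainComplex (EtModW.Mod Λ X) ℤ) (φ : K' ⟶ K), QuasiIso φ ∧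
      (∃ m : ℤ, ∀ i : ℤ, m ≤ i → IsZero (K'.X i)) ∧
      (∀ i : ℤ, EtModW.IsConstructible Λ (K'.X i)) ∧
      ∀ (i : ℤ) (Ω : Type u) [Field Ω] [IsSepClosed Ω] (ξ : Spec (CommRingCat.of Ω) ⟶ X),
        Module.Flat Λ ((EtModW.stalk Λ ξ).obj (K'.X i)) := by
  obtain ⟨m, hm⟩ := hb
  let K' : ObjectProperty (EtModW.Mod Λ X) := fun A => EtModW.IsConstructible Λ A
  have : K'.IsClosedUnderIsomorphisms :=
    ⟨fun e h => Groth.EtaleDeep.Cons.isConstructibleMod_of_iso e h⟩
  obtain ⟨Q, u, hQ, hQz, hu⟩ := Groth.DAlg.ClassLeftRes.exists_cochain K' (Groth.EtaleSGA5.IsEzSum Λ X)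
    Groth.EtaleSGA5.exists_ezSum_epi
    (fun _ _ v hA hB _ => Groth.EtaleDeep.Cons.isConstructibleMod_kernel v hA hB)
    (fun _ _ => Groth.EtaleSGA5.isEzSum_prod) (fun _ h => Groth.EtaleSGA5.isConstructible_of_isEzSum h) K hK m
    (fun i hi => hm i hi.le)
  have hQ' : ∀ i, Groth.EtaleSGA5.IsEzSum Λ X (Q.X i) := fun i => by
    rcases le_or_gt i m with h | h
    · exact hQ i h
    · exact Groth.EtaleSGA5.isEzSum_of_isZero (hQz i h)
  exact ⟨Q, u, hu, ⟨m + 1, fun i hi => hQz i (by omega)⟩,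
    fun i => Groth.EtaleSGA5.isConstructible_of_isEzSum (hQ' i),
    fun i Ω _ _ ξ => Groth.EtaleSGA5.hasFlatStalks_of_isEzSum (hQ' i) Ω ξ⟩

end Groth.Agent.S8619
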