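import Groth.Statements.S8625
import Mathlib.Tactic.Group
-- import your own Groth.Agent.* helpers here

set_option autoImplicit false
universe u
open SGA4h

namespace Groth.Agent.S8625

/-- Let G be a group with an endomorphism F, and assume the Lang map g ↦ F(g)g⁻¹ is surjective (for
instance the geometric points of a connected algebraic group over F_q with its Frobenius, where the
surjectivity is the classical result of Lang; the other Lang map g ↦ g⁻¹F(g) is then surjective too,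
by g ↦ g⁻¹). Let G^F be the subgroup of fixed points of F. (i) If F(g)g⁻¹ is fixed by F then so is
g⁻¹F(g). (ii), (iii) There is a bijection of the set of conjugacy classes of G^F with itself
sending, for every g with F(g)g⁻¹ ∈ G^F, the class of F(g)g⁻¹ to the class of g⁻¹F(g) (in particular
the latter class depends only on the former). -/
theorem result {G : Type u} [Group G] (F : G →* G)
    (hL : Function.Surjective fun g : G => F g * g⁻¹) :
    (∀ g : G, F (F g * g⁻¹) = F g * g⁻¹ → F (g⁻¹ * F g) = g⁻¹ * F g) ∧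
    ∃ φ : ConjClasses ↥(F.eqLocus (MonoidHom.id G)) → ConjClasses ↥(F.eqLocus (MonoidHom.id G)),
      Function.Bijective φ ∧
      ∀ (g : G) (h : F (F g * g⁻¹) = F g * g⁻¹) (h' : F (g⁻¹ * F g) = g⁻¹ * F g),
        φ (ConjClasses.mk (⟨F g * g⁻¹, h⟩ : ↥(F.eqLocus (MonoidHom.id G)))) =
          ConjClasses.mk (⟨g⁻¹ * F g, h'⟩ : ↥(F.eqLocus (MonoidHom.id G))) := by
  have key : ∀ g : G, F (F g * g⁻¹) = F g * g⁻¹ → F (g⁻¹ * F g) = g⁻¹ * F g := by
    intro g h
    have h2 : F (F g) = F g * g⁻¹ * F g := by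
      rw [map_mul, map_inv] at h
      calc F (F g) = F (F g) * (F g)⁻¹ * F g := by group
        _ = F g * g⁻¹ * F g := by rw [h]
    rw [map_mul, map_inv, h2]
    group
  have key' : ∀ g : G, F (g⁻¹ * F g) = g⁻¹ * F g → F (F g * g⁻¹) = F g * g⁻¹ := by
    intro g h
    have h2 : F (F g) = F g * (g⁻¹ * F g) := by
      rw [map_mul, map_inv] at h
      calc F (F g) = F g * ((F g)⁻¹ * F (F g)) := by group
        _ = _ := by rw [h]
    rw [map_mul, map_inv, h2]
    group
  refine ⟨key, ?_⟩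
  obtain ⟨sect, hsect⟩ := hL.hasRightInverse
  let H := F.eqLocus (MonoidHom.id G)
  have hmem : ∀ a : H, F (sect a.1) * (sect a.1)⁻¹ = a.1 := fun a => hsect a.1
  have hfix : ∀ a : H, F a.1 = a.1 := fun a => a.2
  let t : H → H := fun a => ⟨(sect a.1)⁻¹ * F (sect a.1), key _ (by rw [hmem a]; exact hfix a)⟩
  -- the class of the twist only depends on the class
  have main : ∀ g g' : G, ∀ (hg : F (F g * g⁻¹) = F g * g⁻¹) (hg' : F (F g' * g'⁻¹) = F g' * g'⁻¹),
      (ConjClasses.mk (⟨F g * g⁻¹, hg⟩ : H) = ConjClasses.mk (⟨F g' * g'⁻¹, hg'⟩ : H) ↔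
        ConjClasses.mk (⟨g⁻¹ * F g, key g hg⟩ : H) =
          ConjClasses.mk (⟨g'⁻¹ * F g', key g' hg'⟩ : H)) := by
    intro g g' hg hg'
    simp only [ConjClasses.mk_eq_mk_iff_isConj, isConj_iff]
    constructor
    · rintro ⟨⟨c, hc⟩, e⟩
      have e' : c * (F g * g⁻¹) * c⁻¹ = F g' * g'⁻¹ := congrArg Subtype.val e
      have hc' : F c = c := hc
      refine ⟨⟨g'⁻¹ * c * g, ?_⟩, Subtype.ext ?_⟩
      · change F (g'⁻¹ * c * g) = g'⁻¹ * c * g
        rw [map_mul, map_mul, map_inv, hc']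
        have : F g' = c * (F g * g⁻¹) * c⁻¹ * g' := by rw [e']; group
        rw [this]; group
      · change g'⁻¹ * c * g * (g⁻¹ * F g) * (g'⁻¹ * c * g)⁻¹ = g'⁻¹ * F g'
        have : F g' = c * (F g * g⁻¹) * c⁻¹ * g' := by rw [e']; group
        rw [this]; group
    · rintro ⟨⟨c, hc⟩, e⟩
      have e' : c * (g⁻¹ * F g) * c⁻¹ = g'⁻¹ * F g' := congrArg Subtype.val e
      have hc' : F c = c := hc
      refine ⟨⟨g' * c * g⁻¹, ?_⟩, Subtype.ext ?_⟩
      · change F (g' * c * g⁻¹) = g' * c * g⁻¹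
        rw [map_mul, map_mul, map_inv, hc']
        have : F g' = g' * (c * (g⁻¹ * F g) * c⁻¹) := by rw [e']; group
        rw [this]; group
      · change g' * c * g⁻¹ * (F g * g⁻¹) * (g' * c * g⁻¹)⁻¹ = F g' * g'⁻¹
        have : F g' = g' * (c * (g⁻¹ * F g) * c⁻¹) := by rw [e']; group
        rw [this]; group
  have hs' : ∀ x : G, F (sect x) * (sect x)⁻¹ = x := hsect
  have tval : ∀ (g : G) (hg : F (F g * g⁻¹) = F g * g⁻¹),
      ConjClasses.mk (t ⟨F g * g⁻¹, hg⟩) = ConjClasses.mk (⟨g⁻¹ * F g, key g hg⟩ : H) := by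
    intro g hg
    refine (main _ g (by rw [hs']; exact hg) hg).1 ?_
    exact congrArg ConjClasses.mk (Subtype.ext (hs' _))
  refine ⟨Quotient.lift (fun a => ConjClasses.mk (t a)) ?_, ⟨?_, ?_⟩, fun g h h' => tval g h⟩
  · intro a b hab
    refine (main _ _ (by rw [hs']; exact hfix a) (by rw [hs']; exact hfix b)).1 ?_
    simp only [hs']
    exact ConjClasses.mk_eq_mk_iff_isConj.2 hab
  · rintro ⟨a⟩ ⟨b⟩ hab
    have := (main _ _ (by rw [hs']; exact hfix a) (by rw [hs']; exact hfix b)).2 hab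
    simp only [hs'] at this
    exact this
  · rintro ⟨b⟩
    obtain ⟨g, hg⟩ := hL (b.1)
    -- write b = h⁻¹ * F h by taking h with F h * h⁻¹ the inverse twist
    obtain ⟨h, hh⟩ : ∃ h : G, h⁻¹ * F h = b.1 := by
      obtain ⟨x, hx⟩ := hL (b.1⁻¹)
      refine ⟨x⁻¹, ?_⟩
      simp only at hx
      rw [map_inv, inv_inv, show x * (F x)⁻¹ = (F x * x⁻¹)⁻¹ by group, hx, inv_inv]
    have hb : F (h⁻¹ * F h) = h⁻¹ * F h := by rw [hh]; exact hfix b
    refine ⟨ConjClasses.mk ⟨F h * h⁻¹, key' h hb⟩, (tval h (key' h hb)).trans ?_⟩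
    exact congrArg ConjClasses.mk (Subtype.ext hh)

end Groth.Agent.S8625
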