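import Groth.Statements.S8626
import Groth.Agent.Calg8.RightResolution

set_option autoImplicit false
universe v v' u u'
open CategoryTheory CategoryTheory.Limits
open SGA4h

attribute [-instance] CategoryTheory.catToReflQuiver CategoryTheory.ReflQuiver.toQuiver

namespace Groth.Agent.S8626

open Groth.Calg8.RightRes HomologicalComplex Limits in
theorem exists_retraction {A : Type u} [Category.{v} A] [Abelian A] {I : A → Prop}
    (hI : ∀ X : A, ∃ (Y : A) (ι : X ⟶ Y), I Y ∧ Mono ι) (M : CochainComplex A ℕ)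
    [∀ n, Injective (M.X n)] : ∃ r : res hI M ⟶ M, resMap hI M ≫ r = 𝟙 M := by
  let P : ∀ n, ((stages hI M n).X ⟶ M.X n) → Prop := fun n r => (stages hI M n).f ≫ r = 𝟙 _ ∧
    ∃ c : (stages hI M n).C ⟶ M.X (n + 1), r ≫ M.d n (n + 1) = (stages hI M n).q ≫ c
  have h0 : ∃ r, P 0 r := by
    have := (stages hI M 0).monoF
    exact ⟨Injective.factorThru (𝟙 _) (stages hI M 0).f, Injective.comp_factorThru _ _, _,
      (Category.id_comp _).symm⟩
  have hstep : ∀ n r, P n r → ∃ r', P (n + 1) r' ∧ (stages hI M n).d hI ≫ r' = r ≫ M.d n (n + 1) := by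
    intro n r hr
    obtain ⟨hf, c, hc⟩ := hr
    let s := stages hI M n
    have hsq : M.fromOpcycles n (n + 1) ≫ 𝟙 _ = s.g ≫ c := by
      rw [← cancel_epi (M.pOpcycles n), p_fromOpcycles_assoc, ← Category.assoc, ← s.comm, Category.assoc, ← hc,
        Category.comp_id, ← Category.assoc, hf, Category.id_comp]
    have := mono_embι hI (pushout (M.fromOpcycles n (n + 1)) s.g)
    let r' := Injective.factorThru (pushout.desc (𝟙 _) c hsq) (embι hI (pushout (M.fromOpcycles n (n + 1)) s.g))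
    have hd : s.d hI ≫ r' = r ≫ M.d n (n + 1) := by
      simp only [Stage.d, r', Category.assoc, Injective.comp_factorThru, pushout.inr_desc]
      exact hc.symm
    have hf' : (pushout.inl _ _ ≫ embι hI (pushout (M.fromOpcycles n (n + 1)) s.g)) ≫ r' = 𝟙 _ := by
      simp only [r', Category.assoc, Injective.comp_factorThru, pushout.inl_desc]
    exact ⟨r', ⟨hf', cokernel.desc (s.d hI) (r' ≫ M.d (n + 1) (n + 1 + 1)) (by
      rw [reassoc_of% hd, M.d_comp_d, comp_zero]), (cokernel.π_desc _ _ _).symm⟩, hd⟩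
  obtain ⟨r0, hr0⟩ := h0
  let R : ∀ n, {r // P n r} := fun n => Nat.recOn n ⟨r0, hr0⟩
    fun m r => ⟨(hstep m r.1 r.2).choose, (hstep m r.1 r.2).choose_spec.1⟩
  refine ⟨{ f := fun n => (R n).1, comm' := fun i j hij => ?_ }, ?_⟩
  · obtain rfl : i + 1 = j := hij
    rw [res_d]
    exact (hstep i (R i).1 (R i).2).choose_spec.2.symm
  · ext n
    exact (R n).2.1


/-- Acyclicity assertion; A with enough injectives so that R^n f is the usual right derived functor: let
f : A → B be an additive functor between abelian categories and 𝒪 a class of objects of A, stable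
under binary direct sums, such that (1) f carries every acyclic bounded-below cochain complex of
objects of 𝒪 (indexed by ℕ, exact in every degree, in degree 0 meaning the first differential is a
monomorphism) to an acyclic complex, and (2) every object of A admits a monomorphism into a member
of 𝒪. Then every member of 𝒪 is right f-acyclic: R^n f(X) = 0 for all n > 0. -/
theorem result {A : Type u} [Category.{v} A] [Abelian A] [EnoughInjectives A]
    {B : Type u'} [Category.{v'} B] [Abelian B] (f : A ⥤ B) [f.Additive] (𝒪 : ObjectProperty A)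
    (h0 : ∀ X Y : A, 𝒪 X → 𝒪 Y → 𝒪 (X ⊞ Y))
    (h1 : ∀ K : CochainComplex A ℕ, (∀ i, 𝒪 (K.X i)) → K.Acyclic →
      ((f.mapHomologicalComplex (ComplexShape.up ℕ)).obj K).Acyclic)
    (h2 : ∀ X : A, ∃ (Y : A) (i : X ⟶ Y), 𝒪 Y ∧ Mono i)
    (X : A) (hX : 𝒪 X) (n : ℕ) (hn : 0 < n) :
    IsZero ((f.rightDerived n).obj X) := by
  obtain ⟨m, rfl⟩ := Nat.exists_eq_succ_of_ne_zero hn.ne'
  let I := injectiveResolution X
  obtain ⟨r, hr⟩ := exists_retraction h2 I.cocomplex
  let J := Groth.Calg8.RightRes.res h2 I.cocomplex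
  let u : I.cocomplex ⟶ J := Groth.Calg8.RightRes.resMap h2 I.cocomplex
  haveI : QuasiIso u := Groth.Calg8.RightRes.quasiIso_resMap h2
  haveI hu : Mono (u.f 0) := Groth.Calg8.RightRes.mono_resMap h2 0
  have hι : I.ι.f 0 ≫ I.cocomplex.d 0 1 = 0 := I.ι_f_zero_comp_complex_d
  obtain ⟨j, hj, hj0, hjmono, hjex⟩ : ∃ (j : X ⟶ I.cocomplex.X 0) (_ : j ≫ I.cocomplex.d 0 1 = 0)
      (_ : ∀ (T : A) (z : T ⟶ I.cocomplex.X 0), z ≫ I.cocomplex.d 0 1 = 0 →
        ∃ (T' : A) (π : T' ⟶ T) (_ : Epi π) (w : T' ⟶ X), π ≫ z = w ≫ j) (_ : Mono j), True :=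
    ⟨I.ι.f 0, hι, fun T z hz => I.exact₀.exact_up_to_refinements z hz, (inferInstance : Mono (I.ι.f 0)), trivial⟩
  let η : X ⟶ J.X 0 := j ≫ u.f 0
  have hη : η ≫ J.d 0 1 = 0 := by
    simp only [η, Category.assoc, u.comm 0 1, reassoc_of% hj, Limits.zero_comp]
  let K : CochainComplex A ℕ := J.augment η hη
  have hK : ∀ i, 𝒪 (K.X i) := by
    rintro (_ | i)
    · exact hX
    · exact (Groth.Calg8.RightRes.stages h2 I.cocomplex i).hX
  have hrefl : ∀ (i : ℕ) (T : A) (x : T ⟶ J.X i), x ≫ J.d i (i + 1) = 0 →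
      ∃ (T' : A) (π : T' ⟶ T) (_ : Epi π) (z : T' ⟶ I.cocomplex.X i) (_ : z ≫ I.cocomplex.d i (i + 1) = 0)
        (y : T' ⟶ J.X ((ComplexShape.up ℕ).prev i)), π ≫ x = z ≫ u.f i + y ≫ J.d _ i := by
    intro i T x hx
    exact (HomologicalComplex.epi_homologyMap_iff_up_to_refinements u _ i (i + 1) rfl (by simp)).1 inferInstance x hx
  have hK0 : ∀ ⦃T : A⦄ (x : T ⟶ J.X 0), x ≫ J.d 0 1 = 0 →
      ∃ (T' : A) (π : T' ⟶ T) (_ : Epi π) (w : T' ⟶ X), π ≫ x = w ≫ η := fun T x hx => by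
    obtain ⟨T', π, hπ, z, hz, y, hy⟩ := hrefl 0 T x hx
    obtain ⟨T'', π', hπ', w, hw⟩ := hj0 T' z hz
    refine ⟨T'', π' ≫ π, inferInstance, w, ?_⟩
    have h0' : J.d ((ComplexShape.up ℕ).prev 0) 0 = 0 := J.shape _ _ (by simp)
    rw [Category.assoc, hy, h0', Limits.comp_zero, add_zero, ← Category.assoc, hw]
    simp only [η, Category.assoc]
  have hKs : ∀ (i : ℕ) ⦃T : A⦄ (x : T ⟶ J.X (i + 1)), x ≫ J.d (i + 1) (i + 1 + 1) = 0 →
      ∃ (T' : A) (π : T' ⟶ T) (_ : Epi π) (w : T' ⟶ J.X i), π ≫ x = w ≫ J.d i (i + 1) := fun i T x hx => by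
    obtain ⟨T', π, hπ, z, hz, y, hy⟩ := hrefl (i + 1) T x hx
    obtain ⟨T'', π', hπ', w, hw⟩ :=
      ((HomologicalComplex.exactAt_iff' _ i (i + 1) (i + 1 + 1) (by simp) (by simp)).1
        (I.cocomplex_exactAt_succ i)).exact_up_to_refinements z hz
    obtain ⟨y', hy'⟩ : ∃ y' : T' ⟶ J.X i, y ≫ J.d _ (i + 1) = y' ≫ J.d i (i + 1) := by
      have : (ComplexShape.up ℕ).prev (i + 1) = i := by simp
      generalize (ComplexShape.up ℕ).prev (i + 1) = p at this y
      subst this
      exact ⟨y, rfl⟩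
    obtain ⟨w', hw'⟩ : ∃ w' : T'' ⟶ I.cocomplex.X i, π' ≫ z = w' ≫ I.cocomplex.d i (i + 1) := ⟨w, hw⟩
    refine ⟨T'', π' ≫ π, inferInstance, w' ≫ u.f i + π' ≫ y', ?_⟩
    rw [Preadditive.add_comp, Category.assoc, Category.assoc, Category.assoc, u.comm, ← reassoc_of% hw', ← hy',
      ← Preadditive.comp_add, ← hy]
  have hKac : K.Acyclic := by
    intro i
    rcases i with _ | _ | i
    · rw [HomologicalComplex.exactAt_iff' _ 0 0 1 (by simp) (by simp), ShortComplex.exact_iff_mono _ (K.shape 0 0 (by simp))]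
      show Mono η
      haveI := hjmono
      exact mono_comp j (u.f 0)
    · rw [HomologicalComplex.exactAt_iff' _ 0 1 2 (by simp) (by simp), ShortComplex.exact_iff_exact_up_to_refinements]
      exact hK0
    · rw [HomologicalComplex.exactAt_iff' _ (i + 1) (i + 2) (i + 3) (by simp) (by simp),
        ShortComplex.exact_iff_exact_up_to_refinements]
      exact hKs i
  have hFK := h1 K hK hKac (m + 2)
  have hFJ : ((f.mapHomologicalComplex (ComplexShape.up ℕ)).obj J).ExactAt (m + 1) := by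
    rw [HomologicalComplex.exactAt_iff' _ m (m + 1) (m + 2) (by simp) (by simp)]
    rw [HomologicalComplex.exactAt_iff' _ (m + 1) (m + 2) (m + 3) (by simp) (by simp)] at hFK
    exact hFK
  refine IsZero.of_iso ?_ (I.isoRightDerivedObj f (m + 1))
  let F := (f.mapHomologicalComplex (ComplexShape.up ℕ)) ⋙ HomologicalComplex.homologyFunctor B _ (m + 1)
  have hF : F.map u ≫ F.map r = 𝟙 _ := by rw [← F.map_comp, hr, F.map_id]
  rw [IsZero.iff_id_eq_zero]
  show 𝟙 (F.obj I.cocomplex) = 0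
  rw [← hF]
  have hz0 : IsZero (F.obj J) := hFJ.isZero_homology
  rw [hz0.eq_of_tgt (F.map u) 0, Limits.zero_comp]

end Groth.Agent.S8626
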