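import Groth.Statements.S8630
import Mathlib.RingTheory.Polynomial.Content
import Mathlib.RingTheory.Int.Basic
import Mathlib.Algebra.Field.ZMod
import Mathlib.RingTheory.PowerSeries.Inverse
import Mathlib.RingTheory.Localization.Integral
import Mathlib.RingTheory.PowerSeries.Trunc

set_option autoImplicit false
set_option linter.style.haveILetI false
open Zeta

namespace Groth.Agent.S8630

/-- Fatou's lemma: let P, Q ∈ ℚ[T] be coprime with constant coefficient 1, and suppose the power series
P/Q has integer coefficients, i.e. P = Q·Z in ℚ⟦T⟧ for a power series Z with coefficients in ℤ. Then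
P and Q have integer coefficients. -/
theorem result (P Q : Polynomial ℚ)
    (hPQ : IsCoprime P Q) (hP : P.coeff 0 = 1) (hQ : Q.coeff 0 = 1) (Z : PowerSeries ℤ)
    (hZ : (P : PowerSeries ℚ) = (Q : PowerSeries ℚ) * PowerSeries.map (Int.castRingHom ℚ) Z) :
    (∃ P₀ : Polynomial ℤ, P₀.map (Int.castRingHom ℚ) = P) ∧
      ∃ Q₀ : Polynomial ℤ, Q₀.map (Int.castRingHom ℚ) = Q := by
  classical
  obtain ⟨A, B, hAB⟩ := hPQ
  obtain ⟨⟨a, ha⟩, hA⟩ := IsLocalization.integerNormalization_map_to_map (nonZeroDivisors ℤ) A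
  obtain ⟨⟨b, hb⟩, hB⟩ := IsLocalization.integerNormalization_map_to_map (nonZeroDivisors ℤ) B
  obtain ⟨⟨d, hd⟩, hD⟩ := IsLocalization.integerNormalization_map_to_map (nonZeroDivisors ℤ) Q
  set A₀ := IsLocalization.integerNormalization (nonZeroDivisors ℤ) A
  set B₀ := IsLocalization.integerNormalization (nonZeroDivisors ℤ) B
  set R := IsLocalization.integerNormalization (nonZeroDivisors ℤ) Q
  rw [show algebraMap ℤ ℚ = Int.castRingHom ℚ from rfl] at hA hB hD
  simp only [zsmul_eq_mul] at hA hB hD
  set Q₀ := R.primPart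
  -- `W` is an integral series with `Q W = a b`
  set W : PowerSeries ℤ := PowerSeries.C b * (A₀ : PowerSeries ℤ) * Z + PowerSeries.C a * (B₀ : PowerSeries ℤ)
  set mapQ := PowerSeries.map (Int.castRingHom ℚ)
  have hW : (Q : PowerSeries ℚ) * mapQ W = ((a * b : ℤ) : PowerSeries ℚ) := by
    have h1 := congrArg (fun p : Polynomial ℚ => (p : PowerSeries ℚ)) hAB
    simp only [Polynomial.coe_add, Polynomial.coe_mul, Polynomial.coe_one] at h1
    have hA' : mapQ (A₀ : PowerSeries ℤ) = (a : PowerSeries ℚ) * (A : PowerSeries ℚ) := by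
      rw [← Polynomial.polynomial_map_coe, hA, Polynomial.coe_mul, ← Polynomial.coeToPowerSeries.ringHom_apply,
        map_intCast]
    have hB' : mapQ (B₀ : PowerSeries ℤ) = (b : PowerSeries ℚ) * (B : PowerSeries ℚ) := by
      rw [← Polynomial.polynomial_map_coe, hB, Polynomial.coe_mul, ← Polynomial.coeToPowerSeries.ringHom_apply,
        map_intCast]
    simp only [W, map_add, map_mul, hA', hB', PowerSeries.map_C, eq_intCast, map_intCast]
    push_cast
    rw [hZ] at h1
    linear_combination ((a : PowerSeries ℚ) * (b : PowerSeries ℚ)) * h1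
  set r := Q₀.coeff 0 with hr
  have hQ₀ : Q₀.map (Int.castRingHom ℚ) = (r : Polynomial ℚ) * Q := by
    have h1 : R.map (Int.castRingHom ℚ) = (R.content : Polynomial ℚ) * Q₀.map (Int.castRingHom ℚ) := by
      conv_lhs => rw [R.eq_C_content_mul_primPart]
      rw [Polynomial.map_mul, Polynomial.map_C, eq_intCast, map_intCast]
    have h2 : (R.content : ℚ) * r = d := by
      have := congrArg (Polynomial.coeff · 0) (h1.symm.trans hD)
      simp only [← Polynomial.C_eq_intCast, Polynomial.coeff_C_mul, Polynomial.coeff_map, hQ, mul_one,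
        eq_intCast, ← hr] at this
      exact this
    have hc : (R.content : ℚ) ≠ 0 := by
      intro h0
      rw [h0, zero_mul] at h2
      exact nonZeroDivisors.ne_zero hd (by exact_mod_cast h2.symm)
    refine mul_left_cancel₀ (show (R.content : Polynomial ℚ) ≠ 0 from by exact_mod_cast hc) ?_
    rw [← h1, hD, ← mul_assoc]
    congr 1
    rw [← Polynomial.C_eq_intCast, ← Polynomial.C_eq_intCast, ← Polynomial.C_eq_intCast, ← map_mul, h2]
  have hrW : (Q₀ : PowerSeries ℤ) * W = PowerSeries.C (r * (a * b)) := by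
    apply PowerSeries.map_injective (Int.castRingHom ℚ) Int.cast_injective
    rw [map_mul, ← Polynomial.polynomial_map_coe, hQ₀, Polynomial.coe_mul, mul_assoc, hW,
      PowerSeries.map_C, eq_intCast, Int.cast_mul r, map_mul, map_intCast, map_intCast,
      ← Polynomial.coeToPowerSeries.ringHom_apply, map_intCast]
  have hab : a * b ≠ 0 := mul_ne_zero (nonZeroDivisors.ne_zero ha) (nonZeroDivisors.ne_zero hb)
  have hunit : IsUnit r := by
    by_contra hru
    obtain ⟨p, hp, hpr⟩ := Int.exists_prime_and_dvd (fun h => hru (Int.isUnit_iff_natAbs_eq.2 h))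
    haveI : Fact p.natAbs.Prime := ⟨Int.prime_iff_natAbs_prime.1 hp⟩
    let π := PowerSeries.map (Int.castRingHom (ZMod p.natAbs))
    have hπ0 : π (Q₀ : PowerSeries ℤ) ≠ 0 := by
      intro h0
      refine hp.not_unit ((Polynomial.isPrimitive_iff_isUnit_of_C_dvd.1 R.isPrimitive_primPart) p ?_)
      rw [Polynomial.C_dvd_iff_dvd_coeff]
      intro i
      have h1 := congrArg (PowerSeries.coeff i) h0
      rw [PowerSeries.coeff_map, map_zero, Polynomial.coeff_coe, eq_intCast,
        ZMod.intCast_zmod_eq_zero_iff_dvd] at h1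
      exact Int.natAbs_dvd.1 h1
    have desc : ∀ (m : ℤ) (W : PowerSeries ℤ), (Q₀ : PowerSeries ℤ) * W = PowerSeries.C (r * m) →
        ∀ j : ℕ, p ^ j ∣ m := by
      intro m W hWm j
      induction j generalizing m W with
      | zero => simp
      | succ j ih =>
        have hπW : π W = 0 := by
          have h1 := congrArg π hWm
          rw [map_mul, PowerSeries.map_C, eq_intCast,
            (ZMod.intCast_zmod_eq_zero_iff_dvd _ _).2 (Int.natAbs_dvd.2 (hpr.mul_right m)), map_zero] at h1
          exact (mul_eq_zero.1 h1).resolve_left hπ0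
        have hWd : ∀ i, p ∣ PowerSeries.coeff i W := fun i => by
          have h1 := congrArg (PowerSeries.coeff i) hπW
          rw [PowerSeries.coeff_map, map_zero, eq_intCast, ZMod.intCast_zmod_eq_zero_iff_dvd] at h1
          exact Int.natAbs_dvd.1 h1
        choose W' hW' using hWd
        have hW'' : W = PowerSeries.C p * PowerSeries.mk W' := by
          ext i
          rw [PowerSeries.coeff_C_mul, PowerSeries.coeff_mk, hW']
        have hm : m = PowerSeries.coeff 0 W := by
          have h1 := congrArg PowerSeries.constantCoeff hWm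
          rw [map_mul, PowerSeries.constantCoeff_C, Polynomial.constantCoeff_coe, ← hr] at h1
          rw [PowerSeries.coeff_zero_eq_constantCoeff_apply]
          exact (mul_left_cancel₀ (show r ≠ 0 from fun h0 => by
            have h2 := congrArg (Polynomial.coeff · 0) hQ₀
            have h3 := congrArg (PowerSeries.map (Int.castRingHom ℚ)) hWm
            rw [h0, Int.cast_zero, zero_mul] at hQ₀
            exact hπ0 (by
              rw [(Polynomial.map_eq_zero_iff Int.cast_injective).1 hQ₀]
              simp)) h1).symm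
        obtain ⟨m', rfl⟩ : p ∣ m := hm ▸ ⟨W' 0, hW' 0⟩
        rw [pow_succ']
        refine mul_dvd_mul_left p (ih m' (PowerSeries.mk W') ?_)
        refine mul_left_cancel₀ (show (PowerSeries.C p : PowerSeries ℤ) ≠ 0 from
          fun h0 => hp.ne_zero (by simpa using congrArg PowerSeries.constantCoeff h0)) ?_
        rw [mul_left_comm, ← hW'', hWm, ← map_mul]
        ring_nf
    have h1 := Nat.le_of_dvd (Int.natAbs_pos.2 hab) (Int.natAbs_dvd_natAbs.2 (desc _ W hrW (a * b).natAbs))
    rw [Int.natAbs_pow] at h1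
    exact absurd h1 (not_le.2 (Nat.lt_pow_self (Int.prime_iff_natAbs_prime.1 hp).one_lt))
  obtain ⟨u, hu⟩ := hunit
  have hQint : ((Polynomial.C (↑u⁻¹ : ℤ)) * Q₀).map (Int.castRingHom ℚ) = Q := by
    rw [Polynomial.map_mul, hQ₀, ← hu, ← Polynomial.C_eq_intCast, Polynomial.map_C, ← mul_assoc, ← map_mul,
      eq_intCast, ← Int.cast_mul, Units.inv_mul, Int.cast_one, map_one, one_mul]
  refine ⟨⟨PowerSeries.trunc (P.natDegree + 1)
    (((Polynomial.C (↑u⁻¹ : ℤ)) * Q₀ : Polynomial ℤ) * Z : PowerSeries ℤ), ?_⟩, _, hQint⟩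
  ext i
  rw [Polynomial.coeff_map, PowerSeries.coeff_trunc]
  split_ifs with hi
  · rw [← PowerSeries.coeff_map, map_mul, ← Polynomial.polynomial_map_coe, hQint, ← hZ, Polynomial.coeff_coe]
  · rw [map_zero, Polynomial.coeff_eq_zero_of_natDegree_lt (by omega)]

end Groth.Agent.S8630
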