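import Groth.Statements.S8637
import Mathlib.RingTheory.PowerSeries.Basic
-- import your own Groth.Agent.* helpers here

set_option autoImplicit false
open Zeta

namespace Groth.Agent.S8637

/-- First assertion, for a finite family: let (f_i) be finitely many formal power series with real
coefficients, each with constant term 1 and all coefficients ≥ 0, and let f be their product. Then
for every i and every n the n-th coefficient of f_i is at most the n-th coefficient of f (so the
radius of absolute convergence of f_i is at least that of f). (Stated for a finite family; for an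
infinite product whose factors f_i - 1 have orders tending to infinity each coefficient is that of a
finite sub-product, so the same inequality holds.) -/
theorem result {ι : Type} (s : Finset ι) (f : ι → PowerSeries ℝ)
    (h0 : ∀ i ∈ s, PowerSeries.constantCoeff (f i) = 1)
    (hpos : ∀ i ∈ s, ∀ n : ℕ, 0 ≤ PowerSeries.coeff n (f i)) (i : ι) (hi : i ∈ s) (n : ℕ) :
    PowerSeries.coeff n (f i) ≤ PowerSeries.coeff n (∏ j ∈ s, f j) := by
  classical
  rw [← Finset.mul_prod_erase s f hi, PowerSeries.coeff_mul]
  have key : ∀ t ⊆ s, ∀ m, 0 ≤ PowerSeries.coeff m (∏ j ∈ t, f j) := by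
    intro t ht
    refine Finset.prod_induction (fun j => f j) (fun p => ∀ m, 0 ≤ PowerSeries.coeff m p) ?_ ?_
      (fun j hj => hpos j (ht hj))
    · intro p q hp hq m
      rw [PowerSeries.coeff_mul]
      exact Finset.sum_nonneg fun x _ => mul_nonneg (hp _) (hq _)
    · intro m
      rw [PowerSeries.coeff_one]
      split_ifs <;> norm_num
  have h1 : PowerSeries.coeff 0 (∏ j ∈ s.erase i, f j) = 1 := by
    rw [PowerSeries.coeff_zero_eq_constantCoeff_apply, map_prod]
    exact Finset.prod_eq_one fun j hj => h0 j (Finset.mem_of_mem_erase hj)
  refine le_trans (le_of_eq ?_) (Finset.single_le_sum (fun x _ => mul_nonneg (hpos i hi _)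
    (key _ (Finset.erase_subset i s) _)) (a := ((n, 0) : ℕ × ℕ)) (Finset.mem_antidiagonal.2 (Nat.add_zero n)))
  show _ = _ * PowerSeries.coeff 0 _
  rw [h1, mul_one]

end Groth.Agent.S8637
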