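import Groth.Statements.S8649
import Groth.Agent.LambdaCore.Congruence
import Groth.Agent.MilnorKLambda.LamPre

set_option autoImplicit false
universe u
open Finset
open LambdaRing

open Groth.LambdaCore

namespace Groth.Agent.S8649

/-- Let K be a pre-λ-ring (λ^0 = 1, λ^1 = id, λ^n(x + y) = Σ λ^p(x) λ^q(y)) in which λ^k(1) = 0 for all
k ≥ 2, so that λ_t(1) = 1 + t. Then the γ-operations, defined as the coefficients of λ_{t/(1−t)}(x)
(γ^0 = 1 and γ^n(x) = Σ_{j=1}^{n} C(n−1, j−1) λ^j(x) for n ≥ 1), satisfy γ^n(x) = λ^n(x + n − 1) for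
all x and n. (The published statement is for a λ-ring, where λ_t also respects products and
composition; its proof uses only additivity and λ_t(1) = 1 + t, which are the hypotheses taken
here.) -/
theorem result (K : Type u) [CommRing K] [LambdaRing.LambdaOps K]
    (h1 : ∀ k : ℕ, 2 ≤ k → LambdaRing.LambdaOps.lam k (1 : K) = 0) (n : ℕ) (x : K) :
    LambdaRing.gamma n x = LambdaRing.LambdaOps.lam n (x + (n : K) - 1) := by
  cases n with
  | zero => simp [LambdaRing.gamma, LambdaRing.LambdaOps.lam_zero]
  | succ n =>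
    rw [show x + ((n + 1 : ℕ) : K) - 1 = x + (n : K) by push_cast; ring, ← coeff_lamSeries (x + (n : K)),
      lamSeries_add, Groth.MilnorKLambda.Lam.lamSeries_natCast_of h1, coeff_mul_range, LambdaRing.gamma,
      if_neg (Nat.succ_ne_zero n)]
    refine Finset.sum_congr rfl fun j hj => ?_
    rw [Finset.mem_range] at hj
    have hc : ∀ l : ℕ, PowerSeries.coeff l ((1 + PowerSeries.X : PowerSeries K) ^ n) = (n.choose l : K) := by
      intro l
      have : ((1 + PowerSeries.X : PowerSeries K) ^ n) = ((1 + Polynomial.X : Polynomial K) ^ n : Polynomial K) := by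
        simp
      rw [this, Polynomial.coeff_coe, Polynomial.coeff_one_add_X_pow]
    rw [coeff_lamSeries, hc]
    rcases eq_or_ne j 0 with rfl | hj0
    · rw [if_pos rfl, mul_zero, Nat.choose_eq_zero_of_lt (show n < n + 1 - 0 by omega), Nat.cast_zero, mul_zero]
    · rw [if_neg hj0, mul_comm, Nat.add_sub_cancel,
        Nat.choose_symm_of_eq_add (show n = (j - 1) + (n + 1 - j) by omega)]

end Groth.Agent.S8649
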