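import Groth.Statements.S8650
import Groth.Agent.LambdaCore.Congruence
import Groth.Agent.MilnorKLambda.LamPre

set_option autoImplicit false
universe u
open Finset
open LambdaRing

open Groth.LambdaCore

namespace Groth.Agent.S8650

/-- Let K be a pre-λ-ring (λ^0 = 1, λ^1 = id, additive formula) in which λ^k(1) = 0 for all k ≥ 2. Then
for every x ∈ K and every n, λ^n(x + n − 1) = (−1)^n Σ_{i=0}^{n} (−1)^i λ^i(x + n). (The published
statement is for a λ-ring; its proof uses only additivity and λ_t(1) = 1 + t, the hypotheses taken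
here.) -/
theorem result (K : Type u) [CommRing K] [LambdaRing.LambdaOps K]
    (h1 : ∀ k : ℕ, 2 ≤ k → LambdaRing.LambdaOps.lam k (1 : K) = 0) (n : ℕ) (x : K) :
    LambdaRing.LambdaOps.lam n (x + (n : K) - 1) =
      (-1 : K) ^ n * ∑ i ∈ range (n + 1), (-1 : K) ^ i * LambdaRing.LambdaOps.lam i (x + (n : K)) := by
  have hs : lamSeries (x + (n : K) - 1) * (1 + PowerSeries.X) = lamSeries (x + (n : K)) := by
    rw [← Groth.MilnorKLambda.Lam.lamSeries_one_of h1, lamSeries_sub_mul]
  suffices h : ∀ l, LambdaRing.LambdaOps.lam l (x + (n : K) - 1) =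
      (-1 : K) ^ l * ∑ i ∈ range (l + 1), (-1 : K) ^ i * LambdaRing.LambdaOps.lam i (x + (n : K)) from h n
  intro l
  induction l with
  | zero => simp [LambdaRing.LambdaOps.lam_zero]
  | succ l ih =>
    have h2 := congrArg (PowerSeries.coeff (l + 1)) hs
    simp only [mul_add, mul_one, map_add, PowerSeries.coeff_succ_mul_X, coeff_lamSeries] at h2
    rw [Finset.sum_range_succ, mul_add, pow_succ, ← mul_assoc, ← h2, ih]
    have hh : (-1 : K) ^ l * (-1 : K) ^ l = 1 := by rw [← mul_pow]; simp
    linear_combination -(LambdaRing.LambdaOps.lam (l + 1) (x + (n : K) - 1) +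
      (-1 : K) ^ l * ∑ i ∈ range (l + 1), (-1 : K) ^ i * LambdaRing.LambdaOps.lam i (x + (n : K))) * hh

end Groth.Agent.S8650
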