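import Groth.Statements.S8664
import Groth.Agent.CohBase.FibreConsequencesFP
import Groth.Agent.SiteCohomology.SchemeModules
import Groth.Agent.FlatStrata.TwistSections
import Groth.Agent.FlatStrata.FibreModels
import Groth.Agent.Inter.Twist
import Groth.Agent.Pi1FPDesc.Basic
import Groth.Agent.KTheory.RegSheaf

set_option autoImplicit false
set_option backward.isDefEq.respectTransparency.types false
universe v u
open CategoryTheory CategoryTheory.Limits AlgebraicGeometry
attribute [local instance] HasDerivedCategory.standard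
open SGA6

namespace Groth.Agent.S8664


/-- High twists have no higher cohomology on the fibres over an affine open. -/
theorem exists_bound_affine (S : Scheme.{u}) (r : ℕ) (F : (KRR.PY r S).Modules)
    (hF : CohB1.IsFP F) (hfl : FlatMod.IsFlatOver (KRR.pr r S) F) {V : S.Opens}
    (hV : IsAffineOpen V) :
    ∃ K : ℕ, ∀ k : ℕ, K ≤ k → ∀ s ∈ V, ∀ p : ℕ, 1 ≤ p →
      PerfAux.betti (KRR.pr r S) (KRR.twF r S (k : ℤ) F) s p = 0 := by
  have : F.IsQuasicoherent := by
    have := hF
    infer_instance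
  let A := CommRingCat.of Γ(S, V)
  let T := Spec A
  let σ : T ⟶ S := hV.fromSpec
  let q := FGA.projMap r σ
  have sq := Groth.FlatStrata.isPullback_projMap r σ
  let G := (Scheme.Modules.pullback q).obj F
  have hG : CohB1.IsFP G := Groth.QCohMod.isFP_pullback q F hF
  have hGfl : FlatMod.IsFlatOver (CohB1.ProjSpaceOver.toBase r T) G :=
    Groth.FlatMorOne.isFlatOver_baseChange sq F hfl
  obtain ⟨A₁, i₁, i₂, φ, G₁, hG₁, hfl₁, ⟨e₁⟩⟩ := Groth.FlatStrata.exists_flat_model r G hG hGfl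
  let S₁ := Spec (CommRingCat.of A₁)
  let P₁ := CohB1.ProjSpaceOver r S₁
  let π₁ := CohB1.ProjSpaceOver.toBase r S₁
  let : P₁.Over (Spec (CommRingCat.of A₁)) := ⟨π₁⟩
  have : IsProper π₁ := Groth.Variety2.isProper_projSpaceOver_toBase r S₁
  have : IsProper (P₁ ↘ Spec (CommRingCat.of A₁)) := ‹IsProper π₁›
  have := hG₁.1
  have := Groth.CohFin.compactSpace_of_proper (P₁ ↘ Spec (CommRingCat.of A₁))
  have := Groth.CohFin.isSeparated_of_proper (P₁ ↘ Spec (CommRingCat.of A₁))
  obtain ⟨K, hK⟩ := Groth.PnCoh.exists_subsingleton_of_isAmple (P₁ ↘ Spec (CommRingCat.of A₁))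
    (Groth.FlatStrata.isAmple_twistOne r A₁) G₁ hG₁
  refine ⟨K, fun k hk s hs p hp => ?_⟩
  have hT₁ := Groth.KTheory.RegSheaf.isInvertible_twistOver r S₁ (k : ℤ)
  let M₁ := CohB1.tensorMod G₁ (Twist.twistOver r S₁ (k : ℤ))
  have hM₁ : Coh.IsCoh M₁ :=
    Groth.RefRank.isCoh_tensorMod hG₁ (Groth.Inter.isCoh_of_isInvertible hT₁)
  have := hM₁.1
  have hv : ∀ p : ℕ, 1 ≤ p → Subsingleton (Coh.HH P₁ M₁ p) := fun p hp => by
    obtain ⟨eT⟩ := Groth.Agent.S2427.nonempty_tensorPow_twistOver r S₁ k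
    exact Groth.PnCoh.subsingleton_HH_of_iso (P₁ ↘ Spec (CommRingCat.of A₁))
      (PicGrp.tensorModIso (Iso.refl G₁) eT) (hK k hk p hp)
  have hf₁ : FlatMod.IsFlatOver (P₁ ↘ Spec (CommRingCat.of A₁)) M₁ :=
    Groth.FlatTwist.isFlatOver_tensorMod hT₁ hfl₁
  let σ₁ : T ⟶ S₁ := Spec.map (CommRingCat.ofHom φ)
  let y : T := hV.isoSpec.hom ⟨s, hs⟩
  have hy : σ y = s := hV.fromSpec_primeIdealOf ⟨s, hs⟩
  obtain ⟨cF⟩ := Groth.Inter.tensor_comm (Twist.twistOver r S (k : ℤ)) F
  obtain ⟨eT⟩ := Groth.FlatStrata.nonempty_pullback_projMap_twist r σ (k : ℤ)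
  obtain ⟨eT₁⟩ := Groth.FlatStrata.nonempty_pullback_projMap_twist r σ₁ (k : ℤ)
  have hTq := Groth.KTheory.RegSheaf.isInvertible_twistOver r S (k : ℤ)
  have hqF : (KRR.twF r S (k : ℤ) F).IsQuasicoherent :=
    Groth.KTheory.RegSheaf.isQCoh_twF _ ‹F.IsQuasicoherent›
  have : IsProper (KRR.pr r S) := Groth.Variety2.isProper_projSpaceOver_toBase r S
  have h0 : PerfAux.betti π₁ M₁ (σ₁ y) p = 0 := by
    let : Algebra A₁ (S₁.residueField (σ₁ y)) :=
      (Spec.preimage (S₁.fromSpecResidueField (σ₁ y))).hom.toAlgebra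
    let : (π₁.fiber (σ₁ y)).Over (Spec (CommRingCat.of (S₁.residueField (σ₁ y)))) :=
      ⟨π₁.fiberToSpecResidueField (σ₁ y)⟩
    have hsq : Groth.CohBase.IsBC (A := A₁) (A' := S₁.residueField (σ₁ y)) (π₁.fiberι (σ₁ y)) := by
      have h : IsPullback (π₁.fiberι (σ₁ y)) (π₁.fiberToSpecResidueField (σ₁ y)) π₁
          (S₁.fromSpecResidueField (σ₁ y)) := IsPullback.of_hasPullback _ _
      rw [← Spec.map_preimage (S₁.fromSpecResidueField (σ₁ y))] at h
      exact h
    have := Groth.FlatStrata.subsingleton_HH_bc_of_vanish M₁ hsq hf₁ hv p hp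
    exact Module.finrank_zero_of_subsingleton (R := S₁.residueField (σ₁ y))
      (M := CohIII.fiberH π₁ M₁ (σ₁ y) p)
  rw [← hy, ← Groth.CohTwo.betti_baseChange sq _ y p, ← h0,
    ← Groth.CohTwo.betti_baseChange (Groth.FlatStrata.isPullback_projMap r σ₁) M₁ y p]
  exact Groth.FlatStrata.betti_congr _ ((Scheme.Modules.pullback q).mapIso cF ≪≫
    (Groth.PicAux.exists_pullback_tensorMod q F _).choose ≪≫
    PicGrp.tensorModIso e₁.symm (eT ≪≫ eT₁.symm) ≪≫
    (Groth.PicAux.exists_pullback_tensorMod (FGA.projMap r σ₁) G₁ _).choose.symm) y p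


/-- Let S be a quasi-compact scheme, f : P = P^r_S ⟶ S the projection, and F a finitely presented
O_P-module which is flat over S (all stalks of F flat over the corresponding local rings of S). Then
there is n₀ such that for all n ≥ n₀ one has R^q f_*(F(n)) = 0 for every q ≥ 1 (higher direct images
of the underlying abelian sheaf) and f_*(F(n)) is finite locally free on S, with F(n) = O_P(n) ⊗ F.
(The published statement is for the projective bundle of any finite locally free O_S-module and also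
asserts (iii) that ⊕_{n ≥ n₀} f_*(F(n)) is a finitely presented graded module over the symmetric
algebra; this row takes the trivial bundle and states (i), (ii) only.) -/
theorem result (S : Scheme.{u}) [CompactSpace ↥S] (r : ℕ)
    (F : (KRR.PY r S).Modules) (hF : CohB1.IsFP F) (hfl : FlatMod.IsFlatOver (KRR.pr r S) F) :
    ∃ n₀ : ℕ, ∀ n : ℕ, n₀ ≤ n →
      (∀ q : ℕ, 1 ≤ q → IsZero ((Coh.RpushAb (KRR.pr r S) q).obj (Coh.toAb (KRR.twF r S (n : ℤ) F)))) ∧
      FlatMod.IsFinLocFree ((Scheme.Modules.pushforward (KRR.pr r S)).obj (KRR.twF r S (n : ℤ) F)) := by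
  have : F.IsQuasicoherent := by
    have := hF
    infer_instance
  choose V hV hxV using fun x : S => show ∃ V : S.Opens, IsAffineOpen V ∧ x ∈ V by
    obtain ⟨V, hV, hx, -⟩ := exists_isAffineOpen_mem_and_subset (x := x) (U := (⊤ : S.Opens)) trivial
    exact ⟨V, hV, hx⟩
  choose K hK using fun x : S => exists_bound_affine S r F hF hfl (hV x)
  obtain ⟨t, ht⟩ := isCompact_univ.elim_finite_subcover (fun x : S => (V x : Set S))
    (fun x => (V x).2) fun x _ => Set.mem_iUnion.2 ⟨x, hxV x⟩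
  refine ⟨t.sup K, fun n hn => ?_⟩
  let M := KRR.twF r S (n : ℤ) F
  have : M.IsQuasicoherent := Groth.KTheory.RegSheaf.isQCoh_twF _ ‹F.IsQuasicoherent›
  have : IsProper (KRR.pr r S) := Groth.Variety2.isProper_projSpaceOver_toBase r S
  have : LocallyOfFinitePresentation (KRR.pr r S) := by
    have := Groth.Variety2.isProper_projSpace_toSpec r (ULift.{u} ℤ)
    have : IsNoetherianRing (CommRingCat.of (ULift.{u} ℤ)) :=
      isNoetherianRing_of_ringEquiv ℤ ULift.ringEquiv.symm
    have : LocallyOfFinitePresentation (CohB1.ProjSpace.toSpec r (ULift.{u} ℤ)) := inferInstance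
    exact MorphismProperty.pullback_snd _ _ this
  have hT := Groth.KTheory.RegSheaf.isInvertible_twistOver r S (n : ℤ)
  obtain ⟨cF⟩ := Groth.Inter.tensor_comm (Twist.twistOver r S (n : ℤ)) F
  have hMfp : CohB1.IsFP M :=
    Groth.Pi1FPDesc.isFP_of_iso cF.symm (Groth.FlatStrata.isFP_tensorMod_of_isInvertible hF hT)
  have hMfl : FlatMod.IsFlatOver (KRR.pr r S) M :=
    fun x => (Groth.FlatMorOne.isFlatOverAt_congr _ cF.symm x).1
      (Groth.FlatTwist.isFlatOver_tensorMod hT hfl x)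
  have hz : ∀ (p : ℕ), 1 ≤ p → ∀ s : S, Subsingleton (CohIII.fiberH (KRR.pr r S) M s p) := by
    intro p hp s
    obtain ⟨x, hx, hsx⟩ := Set.mem_iUnion₂.1 (ht (Set.mem_univ s))
    have := Groth.CohBase.finite_fiberH (KRR.pr r S) hMfp hMfl p s
    exact Module.finrank_zero_iff.1 (hK x n ((Finset.le_sup hx).trans hn) s hsx p hp)
  refine ⟨fun q hq => ?_, ?_⟩
  · obtain ⟨e⟩ := Groth.CohBase.nonempty_toAb_Rpush_iso (KRR.pr r S) (M := M) q
    exact ((SheafOfModules.toSheaf S.ringCatSheaf).map_isZero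
      (Groth.CohBase.isZero_Rpush_of_fibres (KRR.pr r S) hMfp hMfl q (hz q hq))).of_iso e.symm
  · refine Groth.KTheory.LocFree.isFinLocFree_of_iso
      ((Coh.push (KRR.pr r S)).rightDerivedZeroIsoSelf.app M) ?_
    have := Groth.CohBase.isQCoh_Rpush (KRR.pr r S) (M := M) 0
    refine Groth.LocFree.isFinLocFree_of_affine_cover fun y => ?_
    obtain ⟨L, hL⟩ := Groth.CohBase.exists_isModel_fp (KRR.pr r S) M hMfp hMfl (hV y)
    exact ⟨V y, hV y, hxV y, hL.finite_projective_fp 0 hL.flat_Qc_zero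
      (by simpa using hL.flat_Qc_of_next (KRR.pr r S) (hV y) 1 fun z _ => hz 1 le_rfl z)⟩

end Groth.Agent.S8664
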