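import Groth.Statements.S8666
import Mathlib.RingTheory.Ideal.Quotient.Operations
import Mathlib.RingTheory.Localization.Module
-- import your own Groth.Agent.* helpers here

set_option autoImplicit false
universe u
open CAlg

namespace Groth.Agent.S8666

/-- Let A be a Noetherian ring, M an invertible A-module and p_1, …, p_k finitely many primes of A
(points of Spec A). Then there is a single element s ∈ M whose image generates M_{p_i} as an
A_{p_i}-module for every i, i.e. s is a basis of the stalk of M at each of the given points. -/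
theorem result (A : Type u) [CommRing A] [IsNoetherianRing A]
    (M : Type u) [AddCommGroup M] [Module A M] [Module.Invertible A M] (ι : Type) [Finite ι] (p : ι → PrimeSpectrum A) :
    ∃ s : M, ∀ i : ι, Submodule.span (Localization.AtPrime (p i).asIdeal)
      {LocalizedModule.mkLinearMap (p i).asIdeal.primeCompl M s} = ⊤ := by
  classical
  choose mI hmI hle using fun i => Ideal.exists_le_maximal (p i).asIdeal (p i).isPrime.ne_top
  let J := {m : Ideal A // m ∈ Set.range mI}
  have : Finite J := (Set.finite_range mI).to_subtype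
  have : Fintype J := Fintype.ofFinite J
  have hmax : ∀ j : J, j.1.IsMaximal := fun j => by obtain ⟨i, hi⟩ := j.2; exact hi ▸ hmI i
  have hprime : ∀ j : J, j.1.IsPrime := fun j => (hmax j).isPrime
  have key : ∀ j : J, ∃ (e : LocalizedModule j.1.primeCompl M ≃ₗ[Localization j.1.primeCompl]
      Localization j.1.primeCompl) (t : M), IsUnit (e (LocalizedModule.mkLinearMap j.1.primeCompl M t)) := by
    intro j
    have := hprime j
    have : IsLocalRing (Localization j.1.primeCompl) :=
      inferInstanceAs (IsLocalRing (Localization.AtPrime j.1))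
    obtain ⟨e⟩ := Module.Invertible.free_iff_linearEquiv.1
      (inferInstance : Module.Free (Localization j.1.primeCompl) (LocalizedModule j.1.primeCompl M))
    obtain ⟨⟨t, w⟩, htw⟩ := IsLocalizedModule.surj j.1.primeCompl
      (LocalizedModule.mkLinearMap j.1.primeCompl M) (e.symm 1)
    refine ⟨e, t, ?_⟩
    dsimp only at htw
    rw [← htw, Submonoid.smul_def, ← algebraMap_smul (Localization j.1.primeCompl) (w : A), map_smul,
      e.apply_symm_apply, smul_eq_mul, mul_one]
    exact IsLocalization.map_units _ w
  choose e t ht using key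
  have hcop : Pairwise fun i j : J => IsCoprime i.1 j.1 := fun i j hij =>
    Ideal.isCoprime_iff_sup_eq.2 ((hmax i).coprime_of_ne (hmax j) fun h => hij (Subtype.ext h))
  have hdel : ∀ j : J, ∃ c : A, c - 1 ∈ j.1 ∧ ∀ i : J, i ≠ j → c ∈ i.1 := by
    intro j
    obtain ⟨q, hq⟩ := Ideal.quotientInfToPiQuotient_surj hcop (Pi.single j 1)
    obtain ⟨c, rfl⟩ := Ideal.Quotient.mk_surjective q
    refine ⟨c, ?_, fun i hi => ?_⟩
    · have := congrFun hq j
      rw [Pi.single_eq_same, Ideal.quotientInfToPiQuotient_mk', ← map_one (Ideal.Quotient.mk j.1),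
        Ideal.Quotient.eq] at this
      exact this
    · have := congrFun hq i
      rw [Pi.single_eq_of_ne hi, Ideal.quotientInfToPiQuotient_mk', Ideal.Quotient.eq_zero_iff_mem] at this
      exact this
  choose c hc1 hc0 using hdel
  refine ⟨∑ j, c j • t j, fun i => ?_⟩
  let j : J := ⟨mI i, i, rfl⟩
  have := hprime j
  have : IsLocalRing (Localization j.1.primeCompl) :=
    inferInstanceAs (IsLocalRing (Localization.AtPrime j.1))
  have hval : ∀ (a : A) (x : M), e j (LocalizedModule.mkLinearMap j.1.primeCompl M (a • x)) =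
      algebraMap A (Localization j.1.primeCompl) a * e j (LocalizedModule.mkLinearMap j.1.primeCompl M x) := by
    intro a x
    rw [map_smul, ← algebraMap_smul (Localization j.1.primeCompl) a, map_smul, smul_eq_mul]
  have hunit : IsUnit (e j (LocalizedModule.mkLinearMap j.1.primeCompl M (∑ l, c l • t l))) := by
    have hmemm : ∀ a ∈ j.1, algebraMap A (Localization j.1.primeCompl) a ∈
        IsLocalRing.maximalIdeal (Localization j.1.primeCompl) := fun a ha =>
      (IsLocalization.AtPrime.to_map_mem_maximal_iff (Localization j.1.primeCompl) j.1 a).2 ha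
    rw [← Finset.add_sum_erase _ _ (Finset.mem_univ j), map_add, map_add, hval, map_sum, map_sum]
    rw [← IsLocalRing.notMem_maximalIdeal]
    intro hmem
    have h2 : ∑ l ∈ Finset.univ.erase j, e j (LocalizedModule.mkLinearMap j.1.primeCompl M (c l • t l)) ∈
        IsLocalRing.maximalIdeal (Localization j.1.primeCompl) :=
      Ideal.sum_mem _ fun l hl => by
        rw [hval]
        exact Ideal.mul_mem_right _ _ (hmemm _ (hc0 l j (Finset.ne_of_mem_erase hl).symm))
    have h3 := (Ideal.add_mem_iff_left _ h2).1 hmem
    have hcu : IsUnit (algebraMap A (Localization j.1.primeCompl) (c j)) :=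
      IsLocalization.map_units _ (⟨c j, fun h => (hprime j).ne_top (Ideal.eq_top_iff_one _ |>.2 (by
        simpa using sub_mem h (hc1 j)))⟩ : j.1.primeCompl)
    exact (IsLocalRing.notMem_maximalIdeal.2 (hcu.mul (ht j))) h3
  set s := ∑ l, c l • t l with hs
  rw [eq_top_iff]
  intro y _
  obtain ⟨⟨x, w⟩, hxw⟩ := IsLocalizedModule.surj (p i).asIdeal.primeCompl
    (LocalizedModule.mkLinearMap (p i).asIdeal.primeCompl M) y
  obtain ⟨u, hu⟩ := hunit
  have hfrac : ∃ a : A, ∃ q : j.1.primeCompl, (q : A) • x = a • s := by
    obtain ⟨⟨a, q⟩, haq⟩ := IsLocalization.surj j.1.primeCompl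
      (e j (LocalizedModule.mkLinearMap j.1.primeCompl M x) * (↑u⁻¹ : Localization j.1.primeCompl))
    have h1 : LocalizedModule.mkLinearMap j.1.primeCompl M ((q : A) • x) =
        LocalizedModule.mkLinearMap j.1.primeCompl M (a • s) := by
      apply (e j).injective
      rw [hval, hval]
      dsimp only at haq
      rw [← haq, ← hu, mul_comm (_ * (↑u⁻¹ : Localization j.1.primeCompl)), mul_assoc, mul_assoc,
        Units.inv_mul, mul_one]
    obtain ⟨r, hr⟩ := (IsLocalizedModule.eq_iff_exists j.1.primeCompl _).1 h1
    refine ⟨(r : A) * a, r * q, ?_⟩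
    rw [Submonoid.coe_mul, mul_smul, mul_smul]
    exact hr
  obtain ⟨a, q, hq⟩ := hfrac
  have hq' : (q : A) ∈ (p i).asIdeal.primeCompl := fun h => q.2 (hle i h)
  have h4 : algebraMap A (Localization.AtPrime (p i).asIdeal) ((w : A) * q) • y ∈
      Submodule.span (Localization.AtPrime (p i).asIdeal)
        {LocalizedModule.mkLinearMap (p i).asIdeal.primeCompl M s} := by
    dsimp only at hxw
    rw [algebraMap_smul, mul_comm, mul_smul, ← Submonoid.smul_def w y, hxw, ← map_smul, hq, map_smul,
      ← algebraMap_smul (Localization.AtPrime (p i).asIdeal) a]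
    exact Submodule.smul_mem _ _ (Submodule.mem_span_singleton_self _)
  have hu' : IsUnit (algebraMap A (Localization.AtPrime (p i).asIdeal) ((w : A) * q)) :=
    IsLocalization.map_units _ (⟨_, mul_mem w.2 hq'⟩ : (p i).asIdeal.primeCompl)
  exact (Submodule.smul_mem_iff_of_isUnit _ hu').1 h4

end Groth.Agent.S8666
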