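import Groth.Statements.S8669
import Groth.Agent.KTheory.ProjPushBasic

set_option autoImplicit false
set_option linter.style.haveILetI false
universe v u
open CategoryTheory CategoryTheory.Limits AlgebraicGeometry
attribute [local instance] HasDerivedCategory.standard
open SGA6

namespace Groth.Agent.S8669

/-- Let S be a quasi-compact scheme, f : P = P^r_S ⟶ S the projection, and F, G finite locally free
O_P-modules whose classes in K₀ of finite locally free O_P-modules coincide. Then there is n₀ such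
that for every n ≥ n₀ the modules f_*(F(n)) and f_*(G(n)) are finite locally free on S and have the
same class in K₀ of finite locally free O_S-modules, where F(n) = O_P(n) ⊗ F. (The published
statement is for the projective bundle of any finite locally free module of rank r + 1; this row
takes the trivial bundle.) -/
theorem result (S : Scheme.{u}) [CompactSpace ↥S] (r : ℕ)
    (F G : (KRR.PY r S).Modules) (hF : FlatMod.IsFinLocFree F) (hG : FlatMod.IsFinLocFree G)
    (h : KRR.cl (KRR.PY r S) F = KRR.cl (KRR.PY r S) G) :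
    ∃ n₀ : ℕ, ∀ n : ℕ, n₀ ≤ n →
      FlatMod.IsFinLocFree ((Scheme.Modules.pushforward (KRR.pr r S)).obj (KRR.twF r S (n : ℤ) F)) ∧
      FlatMod.IsFinLocFree ((Scheme.Modules.pushforward (KRR.pr r S)).obj (KRR.twF r S (n : ℤ) G)) ∧
      KRR.cl S ((Scheme.Modules.pushforward (KRR.pr r S)).obj (KRR.twF r S (n : ℤ) F)) =
        KRR.cl S ((Scheme.Modules.pushforward (KRR.pr r S)).obj (KRR.twF r S (n : ℤ) G)) := by
  obtain ⟨d, hd⟩ := Groth.KTheory.RegKoszul.exists_isRegSheaf_twF_locFree hF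
  obtain ⟨d', hd'⟩ := Groth.KTheory.RegKoszul.exists_isRegSheaf_twF_locFree hG
  obtain ⟨push, hpush⟩ := Groth.KTheory.ProjPush.exists_pushHom_pr r S
  refine ⟨max d d', fun n hn => ?_⟩
  have hreg : ∀ (M : (KRR.PY r S).Modules) (c : ℕ), c ≤ n → FlatMod.IsFinLocFree M →
      KRR.IsRegSheaf r S (KRR.twF r S (c : ℤ) M) → KRR.IsRegSheaf r S (KRR.twF r S (n : ℤ) M) := by
    intro M c hc hM h
    have hq := Groth.KTheory.LocFree.isQCoh hM
    obtain ⟨e⟩ := Groth.KTheory.RegSheaf.nonempty_twF_twF r S ((n - c : ℕ) : ℤ) (c : ℤ) (n : ℤ) (by omega) M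
    exact Groth.KTheory.RegKoszul.isRegSheaf_iso e
      (Groth.KTheory.RegSheaf.isQCoh_twF _ (Groth.KTheory.RegSheaf.isQCoh_twF _ hq))
      (Groth.KTheory.RegKoszul.isRegSheaf_twF (Groth.KTheory.RegSheaf.isQCoh_twF _ hq) h (n - c))
  have hacy : ∀ M : (KRR.PY r S).Modules, FlatMod.IsFinLocFree M → KRR.IsRegSheaf r S M →
      Groth.KTheory.RegKoszul.AcyP r S M := fun M hM h => ⟨hM, fun q hq =>
    (Groth.KTheory.RegKoszul.van_of_regular (Groth.KTheory.LocFree.isQCoh hM) h hq (r := 0) (by omega)).of_iso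
      (Groth.KTheory.RegSheaf.nonempty_twF_zero r S M).some⟩
  have hF' := Groth.KTheory.RegKoszul.isFinLocFree_twF (n := r) (T := S) (n : ℤ) hF
  have hG' := Groth.KTheory.RegKoszul.isFinLocFree_twF (n := r) (T := S) (n : ℤ) hG
  have rF := hreg F d (by omega) hF hd
  have rG := hreg G d' (by omega) hG hd'
  refine ⟨Groth.KTheory.RegKoszul.isFinLocFree_push (hacy _ hF' rF),
    Groth.KTheory.RegKoszul.isFinLocFree_push (hacy _ hG' rG), ?_⟩
  let tau : SGA6.Kvb (KRR.PY r S) →+ SGA6.Kvb (KRR.PY r S) :=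
    Groth.KTheory.liftSub (KRR.vbP (KRR.PY r S))
      (fun M => KRR.cl (KRR.PY r S) (KRR.twF r S (n : ℤ) M)) fun T hT h₁ h₂ h₃ =>
      Groth.KTheory.clSub_rel _ (Groth.KTheory.RegSheaf.shortExact_tw T hT (Groth.KTheory.LocFree.isQCoh h₁)
        (Groth.KTheory.LocFree.isQCoh h₂) (Groth.KTheory.LocFree.isQCoh h₃) (n : ℤ))
        (Groth.KTheory.RegKoszul.isFinLocFree_twF _ h₁) (Groth.KTheory.RegKoszul.isFinLocFree_twF _ h₂)
        (Groth.KTheory.RegKoszul.isFinLocFree_twF _ h₃)
  have e := congrArg (fun x => push (tau x)) h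
  change push (tau (KZero.clSub (KRR.vbP _) F)) = push (tau (KZero.clSub (KRR.vbP _) G)) at e
  rw [Groth.KTheory.liftSub_clSub _ _ hF, Groth.KTheory.liftSub_clSub _ _ hG, hpush _ hF' rF, hpush _ hG' rG] at e
  exact e

end Groth.Agent.S8669
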