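import Groth.Statements.S8673
import Groth.Agent.KTheory.AmpleNil

set_option autoImplicit false
universe v u
open CategoryTheory CategoryTheory.Limits AlgebraicGeometry
attribute [local instance] HasDerivedCategory.standard
open scoped TensorProduct
open KRR

namespace Groth.Agent.S8673

/-- Let X be a connected quasi-compact scheme with an ample invertible O_X-module, (K, P, φ) a model of
the λ-ring K(X) of finite locally free modules (augmentation ε = rank), and A a commutative ring.
Then y ∈ A ⊗_ℤ K(X) is invertible if and only if (id ⊗ ε)(y) ∈ A ⊗_ℤ ℤ is invertible; in particular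
the class of a nowhere-zero bundle is invertible in K(X) ⊗ ℚ. (The published statement allows X
disconnected, with ε valued in H^0(X, ℤ); this row takes X connected, as the model requires.) -/
theorem result (X : Scheme.{u}) [ConnectedSpace ↥X] (L : X.Modules) (hL : CohB1.IsAmple L)
    (K : Type v) [CommRing K] [LambdaRing.LambdaOps K] (P : LambdaRing.PosStructure K) (φ : SGA6.Kvb X →+ K) (hK : KRR.IsModel X K P φ)
    (A : Type v) [CommRing A] (y : A ⊗[ℤ] K) :
    IsUnit y ↔ IsUnit (Algebra.TensorProduct.map (AlgHom.id ℤ A) P.aug.toIntAlgHom y) := by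
  let εA := Algebra.TensorProduct.map (AlgHom.id ℤ A) P.aug.toIntAlgHom
  let ι : A ⊗[ℤ] ℤ →ₐ[ℤ] A ⊗[ℤ] K :=
    Algebra.TensorProduct.map (AlgHom.id ℤ A) (Algebra.ofId ℤ K)
  refine ⟨fun h => h.map _, fun h => ?_⟩
  have hnil : ∀ z : A ⊗[ℤ] K, IsNilpotent (z - ι (εA z)) := by
    intro z
    induction z using TensorProduct.induction_on with
    | zero => simp
    | tmul a x =>
      have hx : P.aug (x - (P.aug x : K)) = 0 := by simp
      obtain ⟨n, hn⟩ := Groth.KTheory.AmpleNil.isNilpotent_of_aug_eq_zero hL hK hx
      have he : a ⊗ₜ[ℤ] x - ι (εA (a ⊗ₜ x)) = a ⊗ₜ (x - (P.aug x : K)) := by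
        simp only [ι, εA, Algebra.TensorProduct.map_tmul, TensorProduct.tmul_sub]
        rfl
      exact ⟨n, by rw [he, Algebra.TensorProduct.tmul_pow, hn, TensorProduct.tmul_zero]⟩
    | add z w hz hw =>
      rw [map_add, map_add, add_sub_add_comm]
      exact (Commute.all _ _).isNilpotent_add hz hw
  have hu : IsUnit (ι (εA y)) := h.map ι
  have := (hnil y).isUnit_add_left_of_commute hu (Commute.all _ _)
  rwa [add_sub_cancel] at this

end Groth.Agent.S8673
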