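import Groth.Statements.S8675
import Groth.Agent.KoszulLCI.ConormalSplitDescent

set_option autoImplicit false
universe u
open CategoryTheory CategoryTheory.Limits AlgebraicGeometry
open RegImm

namespace Groth.Agent.S8675

/-- Let i : Y ⟶ X and j : Z ⟶ Y be closed immersions such that i and j ≫ i are Koszul-regular
immersions. Let φ₁ : j^* N_{Y/X} ⟶ N_{Z/X} and φ₂ : N_{Z/X} ⟶ N_{Z/Y} be the canonical maps between
conormal sheaves (pinned by their values on classes of local sections of the ideals). If 0 → j^*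
N_{Y/X} → N_{Z/X} → N_{Z/Y} → 0 is a short exact sequence which is locally split (locally on Z, φ₁
admits a retraction), then j is a Koszul-regular immersion. (The published statement allows
arbitrary immersions and reduces to closed ones locally; this row takes closed immersions.) -/
theorem result {X Y Z : Scheme.{u}}
    (i : Y ⟶ X) [IsClosedImmersion i] (j : Z ⟶ Y) [IsClosedImmersion j]
    (hi : RegImm.IsRegularImmersion .koszul i) (hij : RegImm.IsRegularImmersion .koszul (j ≫ i))
    (φ₁ : (Scheme.Modules.pullback j).obj (Omega.conormal i) ⟶ Omega.conormal (j ≫ i))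
    (hφ₁ : OmegaSh.IsConormalMap (j ≫ i) i (𝟙 X) j φ₁)
    (φ₂ : (Scheme.Modules.pullback (𝟙 Z)).obj (Omega.conormal (j ≫ i)) ⟶ Omega.conormal j)
    (hφ₂ : OmegaSh.IsConormalMap j (j ≫ i) i (𝟙 Z) φ₂)
    (w : φ₁ ≫ ((Scheme.Modules.pullbackId Z).inv.app (Omega.conormal (j ≫ i)) ≫ φ₂) = 0)
    (hex : (ShortComplex.mk φ₁ ((Scheme.Modules.pullbackId Z).inv.app (Omega.conormal (j ≫ i)) ≫ φ₂) w).ShortExact)
    (hsplit : ∀ z : Z, ∃ (U : Z.Opens) (ρ : (Scheme.Modules.restrictFunctor U.ι).obj (Omega.conormal (j ≫ i)) ⟶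
        (Scheme.Modules.restrictFunctor U.ι).obj ((Scheme.Modules.pullback j).obj (Omega.conormal i))),
        z ∈ U ∧ (Scheme.Modules.restrictFunctor U.ι).map φ₁ ≫ ρ = 𝟙 _) :
    RegImm.IsRegularImmersion .koszul j := by
  exact Groth.KoszulLCI.isRegularImmersion_koszul_of_split j i hφ₁ (fun z => hi.2 (j z)) hij hsplit

end Groth.Agent.S8675
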