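import Groth.Statements.S8678
import Groth.Agent.LambdaCore.Congruence
import Groth.Agent.MilnorKLambda.LamPre

set_option autoImplicit false
universe u
open Finset
open LambdaRing

open Groth.LambdaCore

namespace Groth.Agent.S8678

/-- As the identity it proves in the pre-λ-ring K(Y') of the exceptional divisor: let K be a pre-λ-ring
(λ^0 = 1, λ^1 = id, additive formula) with λ^k(1) = 0 for all k ≥ 2, let d ≥ 2, and let F, L, N' ∈ K
satisfy λ^j(L) = 0 for j ≥ 2 (L is the class of an invertible module), λ^i(N') = 0 for i ≥ d − 1 (N'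
is the class of a bundle of rank d − 2) and F + L = N' + 2 (for the blowing up of a regular
immersion of codimension d: on the exceptional divisor the pulled-back conormal class is F + L, and
N = N' + 2). Then 1 − L divides λ_{−1}(F) = Σ_{i<d} (−1)^i λ^i(F). (The published proof uses only
additivity of λ_t and λ_t(1) = 1 + t, the hypotheses taken here.) -/
theorem result (K : Type u) [CommRing K] [LambdaRing.LambdaOps K]
    (h1 : ∀ k : ℕ, 2 ≤ k → LambdaRing.LambdaOps.lam k (1 : K) = 0) (d : ℕ) (hd : 2 ≤ d) (F L N' : K)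
    (hL : ∀ j : ℕ, 2 ≤ j → LambdaRing.LambdaOps.lam j L = 0) (hN' : ∀ i : ℕ, d - 1 ≤ i → LambdaRing.LambdaOps.lam i N' = 0)
    (hrel : F + L = N' + 2) :
    (1 - L) ∣ ∑ i ∈ range d, (-1 : K) ^ i * LambdaRing.LambdaOps.lam i F := by
  rw [← Ideal.mem_span_singleton, ← Ideal.Quotient.eq_zero_iff_mem]
  set I := Ideal.span ({1 - L} : Set K) with hI
  set φ := Ideal.Quotient.mk I with hφ
  have hL1 : φ L = 1 := by
    rw [← map_one φ, eq_comm, hφ, Ideal.Quotient.mk_eq_mk_iff_sub_mem, hI]
    exact Ideal.mem_span_singleton_self _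
  -- the image of `λ_t(F)` is `λ_t(N') (1 + t)`
  have hs := congrArg (PowerSeries.map φ) (show lamSeries (F + L) = lamSeries (N' + 2) by rw [hrel])
  rw [lamSeries_add, lamSeries_add, lamSeries_of_lam_eq_zero hL, show (2 : K) = ((2 : ℕ) : K) by norm_num,
    Groth.MilnorKLambda.Lam.lamSeries_natCast_of h1, map_mul, map_mul, map_add, map_mul, map_one, PowerSeries.map_C,
    hL1, map_one, PowerSeries.map_X, one_mul, map_pow, map_add, map_one, PowerSeries.map_X, pow_two,
    ← mul_assoc] at hs
  have hu : IsUnit (1 + PowerSeries.X : PowerSeries (K ⧸ I)) := by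
    rw [PowerSeries.isUnit_iff_constantCoeff]; simp
  have hs' := hu.mul_right_cancel hs
  set P : Polynomial (K ⧸ I) := (∑ i ∈ range (d - 1), Polynomial.C (φ (LambdaRing.LambdaOps.lam i N')) * Polynomial.X ^ i) *
    (1 + Polynomial.X) with hP
  have hco : PowerSeries.map φ (lamSeries F) = (P : PowerSeries (K ⧸ I)) := by
    rw [hs', hP, Polynomial.coe_mul, Polynomial.coe_add, Polynomial.coe_one, Polynomial.coe_X]
    congr 1
    ext l
    rw [PowerSeries.coeff_map, coeff_lamSeries, Polynomial.coeff_coe]
    simp only [Polynomial.finset_sum_coeff, Polynomial.coeff_C_mul, Polynomial.coeff_X_pow, mul_ite, mul_one,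
      mul_zero, Finset.sum_ite_eq, Finset.mem_range]
    split_ifs with h
    · rfl
    · rw [hN' l (by omega), map_zero]
  have hdeg : P.natDegree < d := by
    have h3 : ((1 : Polynomial (K ⧸ I)) + Polynomial.X).natDegree ≤ 1 :=
      (Polynomial.natDegree_add_le _ _).trans (max_le (by simp) Polynomial.natDegree_X_le)
    have h4 : (∑ i ∈ range (d - 1), Polynomial.C (φ (LambdaRing.LambdaOps.lam i N')) * Polynomial.X ^ i).natDegree ≤ d - 2 := by
      refine Polynomial.natDegree_sum_le_of_forall_le _ _ fun i hi => ?_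
      rw [Finset.mem_range] at hi
      exact (Polynomial.natDegree_C_mul_X_pow_le _ _).trans (by omega)
    have := Polynomial.natDegree_mul_le (p := ∑ i ∈ range (d - 1), Polynomial.C (φ (LambdaRing.LambdaOps.lam i N')) * Polynomial.X ^ i)
      (q := (1 : Polynomial (K ⧸ I)) + Polynomial.X)
    rw [← hP] at this
    omega
  have he : P.eval (-1) = 0 := by simp [hP]
  rw [Polynomial.eval_eq_sum_range' hdeg] at he
  rw [map_sum, ← he]
  refine Finset.sum_congr rfl fun i _ => ?_
  rw [← Polynomial.coeff_coe, ← hco, PowerSeries.coeff_map, coeff_lamSeries, map_mul, map_pow, map_neg, map_one,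
    mul_comm]

end Groth.Agent.S8678
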