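import Groth.Statements.S8680
import Groth.Agent.RelPC.PnPush.KPerfPn

set_option autoImplicit false
set_option linter.style.haveILetI false
universe v u
open CategoryTheory CategoryTheory.Limits AlgebraicGeometry
attribute [local instance] HasDerivedCategory.standard
open SGA6

namespace Groth.Agent.S8680

/-- Let S be a quasi-compact scheme and f : P = P^r_S ⟶ S the projection. On K^• = K₀ of perfect
complexes let f^* be induced by Lf^* (assumed to exist with its triangulated structure and to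
preserve perfect complexes) and, for 0 ≤ i ≤ r, let ξ^i· be induced by the exact functor − ⊗ O_P(i)
extended to derived categories (exactness as instance hypotheses, preservation of perfect complexes
as hypothesis ht). Then (x_0, …, x_r) ↦ Σ_i ξ^i · f^*(x_i) is a bijection from K^•(S)^{r+1} onto
K^•(P): K^•(P) is free over K^•(S) with basis 1, ξ, …, ξ^r. (The published statement is for the
projective bundle of any locally free module of rank r + 1; this row takes the trivial bundle.) -/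
theorem result (S : Scheme.{u}) [CompactSpace ↥S] (r : ℕ)
    [DCoh.HasLpull (KRR.pr r S)] [(DCoh.Lpull (KRR.pr r S)).CommShift ℤ] [(DCoh.Lpull (KRR.pr r S)).IsTriangulated]
    (hf : ∀ K : DCoh.D S, DCoh.IsPerfect K → DCoh.IsPerfect ((DCoh.Lpull (KRR.pr r S)).obj K))
    [∀ i : ℕ, PreservesFiniteLimits ((DCoh.tensorBi (X := KRR.PY r S)).obj (Twist.twistOver r S (i : ℤ)))]
    [∀ i : ℕ, PreservesFiniteColimits ((DCoh.tensorBi (X := KRR.PY r S)).obj (Twist.twistOver r S (i : ℤ)))]
    (ht : ∀ (i : ℕ) (K : DCoh.D (KRR.PY r S)), DCoh.IsPerfect K →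
      DCoh.IsPerfect ((((DCoh.tensorBi (X := KRR.PY r S)).obj (Twist.twistOver r S (i : ℤ))).mapDerivedCategory).obj K)) :
    Function.Bijective (fun x : Fin (r + 1) → SGA6.Kperf S =>
      ∑ i : Fin (r + 1), SGA6.mapTr (((DCoh.tensorBi (X := KRR.PY r S)).obj (Twist.twistOver r S ((i : ℕ) : ℤ))).mapDerivedCategory)
          (SGA6.perfP (KRR.PY r S)) (SGA6.perfP (KRR.PY r S)) (ht i)
        (SGA6.mapTr (DCoh.Lpull (KRR.pr r S)) (SGA6.perfP S) (SGA6.perfP (KRR.PY r S)) hf (x i))) := by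
  haveI : DCoh.HasRpush (KRR.pr r S) := Groth.Misc4.PushRestrict.hasRightDerived _
  let A : Fin (r + 1) → SGA6.Kperf S →+ SGA6.Kperf (KRR.PY r S) := fun i =>
    (SGA6.mapTr (((DCoh.tensorBi (X := KRR.PY r S)).obj (Twist.twistOver r S ((i : ℕ) : ℤ))).mapDerivedCategory)
      (SGA6.perfP (KRR.PY r S)) (SGA6.perfP (KRR.PY r S)) (ht i)).comp
      (SGA6.mapTr (DCoh.Lpull (KRR.pr r S)) (SGA6.perfP S) (SGA6.perfP (KRR.PY r S)) hf)
  have hA : ∀ (i : Fin (r + 1)) (K : DCoh.D S) (hK : DCoh.IsPerfect K),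
      A i (KZero.clTr (SGA6.perfP S) K) = KZero.clTr (SGA6.perfP (KRR.PY r S))
        ((Groth.RelPC.PnPush.tD r S ((i : ℕ) : ℤ)).obj ((DCoh.Lpull (KRR.pr r S)).obj K)) := fun i K hK => by
    obtain ⟨e⟩ := Groth.RelPC.PnPush.nonempty_tensorBiD (Twist.twistOver r S ((i : ℕ) : ℤ))
      (Groth.KTheory.RegSheaf.isInvertible_twistOver r S _) ((DCoh.Lpull (KRR.pr r S)).obj K)
    refine Eq.trans ?_ (Groth.RelPC.PnPush.clTr_perf_iso e (ht i _ (hf K hK)))
    rw [Groth.KTheory.clTr_of (P := SGA6.perfP S) hK,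
      Groth.KTheory.clTr_of (P := SGA6.perfP (KRR.PY r S)) (ht i _ (hf K hK))]
    rfl
  let F : (Fin (r + 1) → SGA6.Kperf S) →+ SGA6.Kperf (KRR.PY r S) :=
    ∑ i, (A i).comp (Pi.evalAddMonoidHom _ i)
  have hF : ∀ x, F x = ∑ i, A i (x i) := fun x => by simp [F]
  show Function.Bijective fun x : Fin (r + 1) → SGA6.Kperf S => ∑ i, A i (x i)
  rw [show (fun x : Fin (r + 1) → SGA6.Kperf S => ∑ i, A i (x i)) = F from funext fun x => (hF x).symm]
  have hlt : ∀ i j : Fin (r + 1), i < j → ∀ y, Groth.RelPC.PnPush.phiK r S (j : ℕ) (A i y) = 0 := by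
    intro i j hij y
    refine DFunLike.congr_fun (Groth.KTheory.k0tr_hom_ext (f := (Groth.RelPC.PnPush.phiK r S (j : ℕ)).comp (A i))
      (g := 0) fun K hK => ?_) y
    rw [AddMonoidHom.comp_apply, hA i K hK, Groth.RelPC.PnPush.phiK_clTr r S _
      (Groth.RelPC.PnPush.isPerfect_tD r S _ (hf K hK))]
    exact Groth.RelPC.PnPush.clTr_perf_zero (Groth.RelPC.PnPush.isZero_phiObj_pull r S _ _ (by omega) (by omega) K hK)
  have heq : ∀ (j : Fin (r + 1)) y, Groth.RelPC.PnPush.phiK r S (j : ℕ) (A j y) = y := by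
    intro j y
    refine DFunLike.congr_fun (Groth.KTheory.k0tr_hom_ext (f := (Groth.RelPC.PnPush.phiK r S (j : ℕ)).comp (A j))
      (g := AddMonoidHom.id _) fun K hK => ?_) y
    rw [AddMonoidHom.comp_apply, hA j K hK, Groth.RelPC.PnPush.phiK_clTr r S _
      (Groth.RelPC.PnPush.isPerfect_tD r S _ (hf K hK))]
    exact (Groth.RelPC.PnPush.clTr_perf_iso (Groth.RelPC.PnPush.nonempty_phiObj_pull r S _ K hK).some.symm hK).symm
  refine ⟨(injective_iff_map_eq_zero F).2 fun z hz => ?_, fun y => ?_⟩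
  · suffices h : ∀ (n : ℕ) (j : Fin (r + 1)), r < (j : ℕ) + n → z j = 0 from
      funext fun j => h (r + 1) j (by omega)
    intro n
    induction n with
    | zero => exact fun j hj => absurd hj (by omega)
    | succ n ih =>
      intro j hj
      have h := congrArg (Groth.RelPC.PnPush.phiK r S (j : ℕ)) (hF z ▸ hz)
      rw [map_zero, map_sum, Finset.sum_eq_single j (fun i _ hi => ?_) (fun h => absurd (Finset.mem_univ j) h),
        heq] at h
      · exact h
      · rcases lt_or_gt_of_ne hi with hlt' | hgt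
        · exact hlt i j hlt' _
        · rw [ih i (by have : (j : ℕ) < (i : ℕ) := hgt; omega), map_zero, map_zero]
  · refine Groth.RelPC.PnPush.mem_of_twists r S F.range (fun i K hi hK => ?_) y
    refine ⟨Pi.single (⟨i, by omega⟩ : Fin (r + 1)) (KZero.clTr (SGA6.perfP S) K), ?_⟩
    rw [hF, Finset.sum_eq_single (⟨i, by omega⟩ : Fin (r + 1)), Pi.single_eq_same, hA _ K hK]
    · intro k _ hk
      rw [Pi.single_eq_of_ne hk, map_zero]
    · exact fun h => absurd (Finset.mem_univ _) h

end Groth.Agent.S8680
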