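import Groth.Statements.S8681
import Groth.Agent.Misc7.VirtualCotangent
-- import your own Groth.Agent.* helpers here

set_option autoImplicit false
universe u
open CategoryTheory CategoryTheory.Limits AlgebraicGeometry
open Synt

namespace Groth.Agent.S8681

/-- Let f : X ⟶ Y be a local complete intersection morphism in the factorisation sense (around each
point, locally of finite type and factoring as a Koszul-regular immersion followed by a smooth
morphism), with two factorisations f = i ≫ g = i' ≫ g' where g : V ⟶ Y, g' : V' ⟶ Y are smooth and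
i, i' are closed immersions, and let d : O_V → Ω, d' : O_{V'} → Ω' be universal Y-derivations. Let x
∈ X and suppose that on open neighbourhoods of x the modules i^*Ω, N_i (conormal sheaf of i), i'^*Ω'
and N_{i'} are free of ranks a, b, a', b'. Then a − b = a' − b': the integer rank(Ω_{V/Y} at i(x)) −
rank(N_i at x), the virtual relative dimension of f at x, is independent of the factorisation. (The
published statement allows factorisations defined only near x and arbitrary immersions; this row
takes global factorisations through closed immersions.) -/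
theorem result {X Y V V' : Scheme.{u}} (f : X ⟶ Y) (hf : ∀ x : X, Synt.IsKoszulAt f x)
    (g : V ⟶ Y) [Smooth g] (i : X ⟶ V) [IsClosedImmersion i] (hi : i ≫ g = f)
    (g' : V' ⟶ Y) [Smooth g'] (i' : X ⟶ V') [IsClosedImmersion i'] (hi' : i' ≫ g' = f)
    (Ω : V.Modules) (d : OmegaSh.Der g Ω) (hd : OmegaSh.IsUniversal d)
    (Ω' : V'.Modules) (d' : OmegaSh.Der g' Ω') (hd' : OmegaSh.IsUniversal d')
    (x : X) (a b a' b' : ℕ) (U₁ U₂ U₃ U₄ : X.Opens) (h₁ : x ∈ U₁) (h₂ : x ∈ U₂) (h₃ : x ∈ U₃) (h₄ : x ∈ U₄)
    (ha : FlatMod.IsFinLocFreeOfRank a ((Scheme.Modules.restrictFunctor U₁.ι).obj ((Scheme.Modules.pullback i).obj Ω)))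
    (hb : FlatMod.IsFinLocFreeOfRank b ((Scheme.Modules.restrictFunctor U₂.ι).obj (Omega.conormal i)))
    (ha' : FlatMod.IsFinLocFreeOfRank a' ((Scheme.Modules.restrictFunctor U₃.ι).obj ((Scheme.Modules.pullback i').obj Ω')))
    (hb' : FlatMod.IsFinLocFreeOfRank b' ((Scheme.Modules.restrictFunctor U₄.ι).obj (Omega.conormal i'))) :
    (a : ℤ) - b = (a' : ℤ) - b' := by
  have h := Groth.Misc7.VirtualCotangent.finrank_stalk_add_eq f g i hi g' i' hi' hd hd' hf x
  rw [Groth.Misc7.VirtualCotangent.finrank_stalk_of_rank_restrict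
        (Groth.LocFree.isFinLocFree_pullback i (Groth.Misc7.VirtualCotangent.isFinLocFree_of_isUniversal g hd)) h₁ ha,
    Groth.Misc7.VirtualCotangent.finrank_stalk_of_rank_restrict
        (Groth.Misc7.VirtualCotangent.isFinLocFree_conormal f hf g i hi) h₂ hb,
    Groth.Misc7.VirtualCotangent.finrank_stalk_of_rank_restrict
        (Groth.LocFree.isFinLocFree_pullback i' (Groth.Misc7.VirtualCotangent.isFinLocFree_of_isUniversal g' hd')) h₃ ha',
    Groth.Misc7.VirtualCotangent.finrank_stalk_of_rank_restrict
        (Groth.Misc7.VirtualCotangent.isFinLocFree_conormal f hf g' i' hi') h₄ hb'] at h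
  omega

end Groth.Agent.S8681
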