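import Groth.Statements.S8682
import Groth.Agent.Misc7.CotangentComplex
-- import your own Groth.Agent.* helpers here

set_option autoImplicit false
universe u
open CategoryTheory CategoryTheory.Limits AlgebraicGeometry
attribute [local instance] HasDerivedCategory.standard
open Synt

namespace Groth.Agent.S8682

/-- Let f : X ⟶ Y admit two factorisations f = i ≫ g = i' ≫ g' with g : V ⟶ Y, g' : V' ⟶ Y smooth and i,
i' closed immersions. Let d : O_V → Ω and d' : O_{V'} → Ω' be universal Y-derivations and let φ :
N_i ⟶ i^*Ω, φ' : N_{i'} ⟶ i'^*Ω' be the maps induced by d and d' on the conormal sheaves (pinned by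
their values on classes of local sections of the ideals). Then the cotangent complexes [N_i → i^*Ω]
and [N_{i'} → i'^*Ω'], placed in degrees −1 and 0, are isomorphic in the derived category of
O_X-modules. The published statement names a canonical isomorphism; this row asserts only that an
isomorphism exists. -/
theorem result {X Y V V' : Scheme.{u}} (f : X ⟶ Y)
    (g : V ⟶ Y) [Smooth g] (i : X ⟶ V) [IsClosedImmersion i] (hi : i ≫ g = f)
    (g' : V' ⟶ Y) [Smooth g'] (i' : X ⟶ V') [IsClosedImmersion i'] (hi' : i' ≫ g' = f)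
    (Ω : V.Modules) (d : OmegaSh.Der g Ω) (hd : OmegaSh.IsUniversal d)
    (Ω' : V'.Modules) (d' : OmegaSh.Der g' Ω') (hd' : OmegaSh.IsUniversal d')
    (φ : Omega.conormal i ⟶ (Scheme.Modules.pullback i).obj Ω) (hφ : OmegaSh.IsConormalDiff i d φ)
    (φ' : Omega.conormal i' ⟶ (Scheme.Modules.pullback i').obj Ω') (hφ' : OmegaSh.IsConormalDiff i' d' φ') :
    Nonempty (DCoh.toD X (HomologicalComplex.double φ (show (ComplexShape.up ℤ).Rel (-1 : ℤ) 0 from neg_add_cancel (1 : ℤ))) ≅
      DCoh.toD X (HomologicalComplex.double φ' (show (ComplexShape.up ℤ).Rel (-1 : ℤ) 0 from neg_add_cancel (1 : ℤ)))) := by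
  exact Groth.Misc7.CotangentComplex.nonempty_toD_iso_two f g i hi g' i' hi' hd hd' φ hφ φ' hφ'

end Groth.Agent.S8682
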