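import Groth.Statements.S8687
import Groth.Agent.MilnorKLambda.LamConseq

set_option autoImplicit false
universe u
open LambdaRing

namespace Groth.Agent.S8687

/-- Let K be a λ-ring in the strict sense (λ_t(1) = 1 + t and the identities λ^n(xy) = P_n(λ^1 x, …; λ^1
y, …), λ^j(λ^i x) = Q_{i,j}(λ^1 x, …) for the universal polynomials). Then for every k ≥ 1 the Adams
operation ψ^k is multiplicative: ψ^k(xy) = ψ^k(x) ψ^k(y). The hypothesis hP, that a universal
polynomial P_n exists for every n, is a true statement carried here so that the product identities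
of K can be used at every n. -/
theorem result (K : Type u) [CommRing K] [LambdaRing.LambdaOps K]
    (hK : LambdaRing.IsSpecial K)
    (hP : ∀ n : ℕ, ∃ P : MvPolynomial (Fin n ⊕ Fin n) ℤ, LambdaRing.IsMulPoly n P)
    (k : ℕ) (hk : 1 ≤ k) (x y : K) :
    LambdaRing.adamsOp k (x * y) = LambdaRing.adamsOp k x * LambdaRing.adamsOp k y := by
  exact Groth.MilnorKLambda.Lam.adamsOp_mul hK hk x y

end Groth.Agent.S8687
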