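import Groth.Statements.S8688
import Groth.Agent.MilnorKLambda.LamConseq

set_option autoImplicit false
universe u
open LambdaRing

namespace Groth.Agent.S8688

/-- Let K be a λ-ring in the strict sense (λ_t(1) = 1 + t and the identities with the universal
polynomials P_n, Q_{i,j}). Then the Adams operations satisfy ψ^k ∘ ψ^{k'} = ψ^{kk'} for all k, k' ≥
1. The hypotheses hP and hQ, that the universal polynomials exist for all indices, are true
statements carried here so that the identities of K can be used at every index. -/
theorem result (K : Type u) [CommRing K] [LambdaRing.LambdaOps K]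
    (hK : LambdaRing.IsSpecial K)
    (hP : ∀ n : ℕ, ∃ P : MvPolynomial (Fin n ⊕ Fin n) ℤ, LambdaRing.IsMulPoly n P)
    (hQ : ∀ i j : ℕ, ∃ Q : MvPolynomial (Fin (i * j)) ℤ, LambdaRing.IsCompPoly i j Q)
    (k k' : ℕ) (hk : 1 ≤ k) (hk' : 1 ≤ k') (x : K) :
    LambdaRing.adamsOp k (LambdaRing.adamsOp k' x) = LambdaRing.adamsOp (k * k') x := by
  exact Groth.MilnorKLambda.Lam.adamsOp_comp hK hk hk' x

end Groth.Agent.S8688
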