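import Groth.Statements.S8693
import Groth.Agent.KTheory.AmpleNil

set_option autoImplicit false
universe v u
open CategoryTheory CategoryTheory.Limits AlgebraicGeometry
attribute [local instance] HasDerivedCategory.standard
open KRR

namespace Groth.Agent.S8693

/-- Let X be a connected quasi-compact scheme with an ample invertible O_X-module L, (K, P, φ) a model
of the λ-ring K(X) of finite locally free modules with its positive structure (augmentation ε =
rank), and E_1, …, E_k finite locally free O_X-modules. Let R ⊆ K(X) be the subring generated by the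
elements λ^j[E_i] for all i and j, which is the sub-λ-ring generated by the classes [E_i]. Then the
ideal R ∩ Ker ε of R is nilpotent: there is n such that every product of n elements of R of
augmentation zero vanishes; and R is finitely generated as an abelian group. (The published
statement allows X disconnected, with R a module of finite type over R ∩ H^0(X, ℤ), and also asserts
that the λ-ring filtration of R is discrete; this row takes X connected, as the model requires, and
states the nilpotency and the finite generation over the integers.) -/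
theorem result (X : Scheme.{u}) [ConnectedSpace ↥X] (L : X.Modules) (hL : CohB1.IsAmple L)
    (K : Type v) [CommRing K] [LambdaRing.LambdaOps K] (P : LambdaRing.PosStructure K) (φ : SGA6.Kvb X →+ K)
    (hK : KRR.IsModel X K P φ)
    (k : ℕ) (E : Fin k → X.Modules) (hE : ∀ i : Fin k, FlatMod.IsFinLocFree (E i)) :
    (∃ n : ℕ, ∀ f : Fin n → K,
      (∀ t : Fin n, f t ∈ Subring.closure {y : K | ∃ (i : Fin k) (j : ℕ), y = LambdaRing.LambdaOps.lam j (φ (KRR.cl X (E i)))} ∧ P.aug (f t) = 0) →
        ∏ t, f t = 0) ∧
    (Subring.closure {y : K | ∃ (i : Fin k) (j : ℕ), y = LambdaRing.LambdaOps.lam j (φ (KRR.cl X (E i)))}).toAddSubgroup.FG := by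
  classical
  set S := {y : K | ∃ (i : Fin k) (j : ℕ), y = LambdaRing.LambdaOps.lam j (φ (KRR.cl X (E i)))}
  choose r hr using fun i => Groth.KTheory.KvbModel.exists_rank (hE i)
  have hlam : ∀ i j, LambdaRing.LambdaOps.lam j (φ (KRR.cl X (E i))) =
      φ (Groth.KTheory.LambdaVb.kcl (Groth.LocFree.extPow j (E i))) := fun i j => by
    have := Groth.KTheory.LocFree.isQCoh (hE i)
    exact hK.map_lam j (E i) _ (hE i) (Groth.LocFree.isFinLocFree_extPow (hE i) j)
      (Groth.LocFree.isExtPow_extPow j (E i))
  have hfin : S.Finite := by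
    refine ((Set.finite_singleton (0 : K)).union (Set.finite_iUnion fun i : Fin k =>
      (Set.finite_le_nat (r i)).image fun j => LambdaRing.LambdaOps.lam j (φ (KRR.cl X (E i))))).subset ?_
    rintro _ ⟨i, j, rfl⟩
    rcases le_or_gt j (r i) with hj | hj
    · exact Or.inr (Set.mem_iUnion.2 ⟨i, j, hj, rfl⟩)
    · have := Groth.KTheory.LocFree.isQCoh (hE i)
      have h0 := Groth.LocFree.isFinLocFreeOfRank_extPow (hr i) j
      rw [Nat.choose_eq_zero_of_lt hj] at h0
      refine Or.inl ?_
      rw [Set.mem_singleton_iff, hlam,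
        Groth.KTheory.KvbModel.kcl_zero (Groth.KTheory.KvbModel.isZero_of_rank_zero h0), map_zero]
  have hint : ∀ x : K, IsIntegral ℤ x := fun x => by
    obtain ⟨n, hn⟩ := Groth.KTheory.AmpleNil.isNilpotent_of_aug_eq_zero hL hK
      (show P.aug (x - (P.aug x : K)) = 0 by simp)
    exact ⟨(Polynomial.X - Polynomial.C (P.aug x)) ^ n,
      (Polynomial.monic_X_sub_C _).pow n, by
        rw [Polynomial.eval₂_pow, Polynomial.eval₂_sub, Polynomial.eval₂_X, Polynomial.eval₂_C]
        simpa using hn⟩
  have hfg : (Algebra.adjoin ℤ S).toSubmodule.FG :=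
    fg_adjoin_of_finite hfin fun x _ => hint x
  let R := Algebra.adjoin ℤ S
  have hmem : ∀ x, x ∈ Subring.closure S ↔ x ∈ R := fun x => by
    simp only [R, Algebra.adjoin_int, mem_subalgebraOfSubring]
  refine ⟨?_, ?_⟩
  · have : Module.Finite ℤ R := Module.Finite.iff_fg.2 hfg
    have : IsNoetherianRing R := isNoetherianRing_iff.2 (isNoetherian_of_tower ℤ inferInstance)
    obtain ⟨n, hn⟩ := IsNoetherianRing.isNilpotent_nilradical R
    refine ⟨n, fun f hf => ?_⟩
    let g : Fin n → R := fun t => ⟨f t, (hmem _).1 (hf t).1⟩
    have hg : ∀ t ∈ Finset.univ, g t ∈ nilradical R := fun t _ => by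
      obtain ⟨m, hm⟩ := Groth.KTheory.AmpleNil.isNilpotent_of_aug_eq_zero hL hK (hf t).2
      exact mem_nilradical.2 ⟨m, Subtype.ext (by simpa [g] using hm)⟩
    have h := Ideal.prod_mem_prod hg
    rw [Finset.prod_const, Finset.card_univ, Fintype.card_fin, hn] at h
    simpa [g] using congrArg Subtype.val (Submodule.mem_bot R |>.1 h)
  · have h := (Submodule.fg_iff_addSubgroup_fg _).1 hfg
    refine (congrArg AddSubgroup.FG ?_).mp h
    ext x
    exact (hmem x).symm

end Groth.Agent.S8693
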