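import Groth.Statements.S8697
import Groth.Agent.MilnorKLambda.LamConseq

set_option autoImplicit false
universe u v
open Finset
open LambdaRing

namespace Groth.Agent.S8697

open Groth.MilnorKLambda.Lam in

/-- Let K be a binomial ring with its binomial λ-structure and B a λ-ring in the strict sense which is
an augmented K-λ-algebra with augmentation ε. Let x ∈ B satisfy ε(x) = 0 and γ^k(x) = 0 for every k
> n, and assume that γ^1(x), …, γ^n(x) are algebraically independent over K and generate B as a
K-algebra — so B is the K-λ-algebra generated by one element subject to the relations γ^k = 0 for k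
> n, a polynomial ring K[γ^1 x, …, γ^n x]. Then for every k, the k-th ideal Fil^k B of the
γ-filtration (generated by the products of γ^{i}(z), ε(z) = 0, of total weight ≥ k) is the ideal
generated by the monomials ∏_j (γ^j x)^{e_j} with Σ_j j·e_j ≥ k: the λ-ring filtration is the
filtration by the weight in the γ^j x. (With λ in place of γ — relations λ^k x = 0 for k > n and
weights in the λ^j x — the assertion fails already for n = 1, where γ^i(x) = x for all i ≥ 1 puts x
in every Fil^k while x is not in the ideal (x²); the form with γ stated here is the one the proof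
establishes.) The hypotheses hP and hQ, existence of the universal polynomials, are true statements
carried so that the identities of B can be used at every index. -/
theorem result
    (K : Type u) [CommRing K] [LambdaRing.LambdaOps K] [BinomialRing K] (hKb : LambdaRing.IsBinomial K)
    (hK : LambdaRing.IsSpecial K)
    (B : Type v) [CommRing B] [LambdaRing.LambdaOps B] [Algebra K B] (hB : LambdaRing.IsSpecial B)
    (hP : ∀ n : ℕ, ∃ P : MvPolynomial (Fin n ⊕ Fin n) ℤ, LambdaRing.IsMulPoly n P)
    (hQ : ∀ i j : ℕ, ∃ Q : MvPolynomial (Fin (i * j)) ℤ, LambdaRing.IsCompPoly i j Q)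
    (ε : B →ₐ[K] K) (hε : LambdaRing.IsAugLambdaAlg K B ε)
    (n : ℕ) (x : B) (hx : ε x = 0) (hγ : ∀ k : ℕ, n < k → LambdaRing.gamma k x = 0)
    (hind : AlgebraicIndependent K (fun j : Fin n => LambdaRing.gamma ((j : ℕ) + 1) x))
    (hgen : Algebra.adjoin K (Set.range fun j : Fin n => LambdaRing.gamma ((j : ℕ) + 1) x) = ⊤)
    (k : ℕ) :
    LambdaRing.gammaFil (ε : B →+* K) k =
      Ideal.span {m : B | ∃ e : Fin n → ℕ, k ≤ ∑ j : Fin n, ((j : ℕ) + 1) * e j ∧
        m = ∏ j : Fin n, LambdaRing.gamma ((j : ℕ) + 1) x ^ e j} := by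
  let F : ℕ → Ideal B := fun k => Ideal.span {m : B | ∃ e : Fin n → ℕ, k ≤ ∑ j : Fin n, ((j : ℕ) + 1) * e j ∧
    m = ∏ j : Fin n, LambdaRing.gamma ((j : ℕ) + 1) x ^ e j}
  have hF : GradedFam F := by
    refine ⟨Ideal.eq_top_iff_one _ |>.2 (Ideal.subset_span ⟨0, by simp, by simp⟩),
      fun a b hab => Ideal.span_mono fun m hm => let ⟨e, h1, h2⟩ := hm; ⟨e, hab.trans h1, h2⟩,
      fun {a b p q} hp hq => ?_⟩
    have := Ideal.mul_mem_mul hp hq
    simp only [F, Ideal.span_mul_span'] at this
    refine Ideal.span_mono ?_ this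
    rintro _ ⟨_, ⟨e, h1, rfl⟩, _, ⟨e', h1', rfl⟩, rfl⟩
    refine ⟨e + e', ?_, ?_⟩
    · simp only [Pi.add_apply, mul_add, Finset.sum_add_distrib]; omega
    · simp only [Pi.add_apply, pow_add, Finset.prod_mul_distrib]
  apply le_antisymm
  · refine gammaFil_le ε hKb hB hε (fun _ : Unit => x) (fun _ => hx) ?_ hF (fun _ j => ?_) k
    · refine phiHom_surjective_of_adjoin _ ?_ hgen
      rintro _ ⟨j, rfl⟩
      exact ⟨MvPolynomial.X ((), (j : ℕ)), by simp⟩
    · by_cases hj : j < n
      · refine Ideal.subset_span ⟨Pi.single ⟨j, hj⟩ 1, ?_, ?_⟩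
        · rw [Finset.sum_eq_single (⟨j, hj⟩ : Fin n)] <;> simp +contextual
        · rw [Finset.prod_eq_single (⟨j, hj⟩ : Fin n)] <;> simp +contextual
      · rw [hγ _ (by omega)]; exact zero_mem _
  · refine Ideal.span_le.2 ?_
    rintro _ ⟨e, he, rfl⟩
    refine (gradedFam_gammaFil (ε : B →+* K)).antitone he ?_
    refine (gradedFam_gammaFil (ε : B →+* K)).prod _ _ _ fun j _ => ?_
    rw [mul_comm]
    exact (gradedFam_gammaFil (ε : B →+* K)).pow (gamma_mem_gammaFil (ε : B →+* K) hx _) _

end Groth.Agent.S8697
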