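import Groth.Statements.S8698
import Groth.Agent.MilnorKLambda.LamConseq

set_option autoImplicit false
universe u v w
open Finset
open LambdaRing

namespace Groth.Agent.S8698

open Groth.MilnorKLambda.Lam in

/-- Let K be a binomial ring with its binomial λ-structure, A a λ-ring in the strict sense which is an
augmented K-λ-algebra with augmentation ε_A, and B a λ-ring in the strict sense which is at once an
augmented K-λ-algebra with augmentation ε_B and an A-algebra compatibly with the K-structures, the
structure map A → B commuting with the λ^n and ε_B restricting to ε_A on A. Let x ∈ B with ε_B(x) =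
0, and assume that the family (γ^{j+1} x)_{j ∈ ℕ} is algebraically independent over A and generates
B as an A-algebra: B is the free λ-ring A[X, γ^2 X, γ^3 X, …] on one generator over A, augmented by
X ↦ 0. Then for every k the k-th ideal Fil^k B of the γ-filtration of B is the ideal generated by
the products a · m where m = ∏_j (γ^{j+1} x)^{e_j} is a monomial of weight i = Σ_j (j+1) e_j and a
lies in (the image of) Fil^{k−i} A, with Fil^s A = A for s ≤ 0; that is, Fil^k B = Fil^k A +
Fil^{k−1} A·M_1 + ⋯ + Fil^0 A·M_k + (monomials of weight > k), M_i denoting the monomials of weight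
i. The hypotheses hP and hQ, existence of the universal polynomials, are true statements carried so
that the identities of A and B can be used at every index. -/
theorem result
    (K : Type u) [CommRing K] [LambdaRing.LambdaOps K] [BinomialRing K] (hKb : LambdaRing.IsBinomial K)
    (hK : LambdaRing.IsSpecial K)
    (A : Type v) [CommRing A] [LambdaRing.LambdaOps A] [Algebra K A] (hA : LambdaRing.IsSpecial A)
    (εA : A →ₐ[K] K) (hεA : LambdaRing.IsAugLambdaAlg K A εA)
    (B : Type w) [CommRing B] [LambdaRing.LambdaOps B] [Algebra K B] [Algebra A B] [IsScalarTower K A B]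
    (hB : LambdaRing.IsSpecial B) (hAB : LambdaRing.IsLambdaAlg A B)
    (εB : B →ₐ[K] K) (hεB : LambdaRing.IsAugLambdaAlg K B εB) (hεAB : ∀ a : A, εB (algebraMap A B a) = εA a)
    (hP : ∀ n : ℕ, ∃ P : MvPolynomial (Fin n ⊕ Fin n) ℤ, LambdaRing.IsMulPoly n P)
    (hQ : ∀ i j : ℕ, ∃ Q : MvPolynomial (Fin (i * j)) ℤ, LambdaRing.IsCompPoly i j Q)
    (x : B) (hx : εB x = 0)
    (hind : AlgebraicIndependent A (fun j : ℕ => LambdaRing.gamma (j + 1) x))
    (hgen : Algebra.adjoin A (Set.range fun j : ℕ => LambdaRing.gamma (j + 1) x) = ⊤)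
    (k : ℕ) :
    LambdaRing.gammaFil (εB : B →+* K) k =
      Ideal.span {b : B | ∃ (e : ℕ →₀ ℕ) (a : A),
        a ∈ LambdaRing.gammaFil (εA : A →+* K) (k - e.sum fun j n => (j + 1) * n) ∧
        b = algebraMap A B a * e.prod fun j n => LambdaRing.gamma (j + 1) x ^ n} := by
  let F : ℕ → Ideal B := fun k => Ideal.span {b : B | ∃ (e : ℕ →₀ ℕ) (a : A),
    a ∈ LambdaRing.gammaFil (εA : A →+* K) (k - e.sum fun j n => (j + 1) * n) ∧
    b = algebraMap A B a * e.prod fun j n => LambdaRing.gamma (j + 1) x ^ n}
  have hGA := gradedFam_gammaFil (εA : A →+* K)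
  have hGB := gradedFam_gammaFil (εB : B →+* K)
  have hF : GradedFam F := by
    refine ⟨Ideal.eq_top_iff_one _ |>.2 (Ideal.subset_span ⟨0, 1, by simpa using hGA.one_mem, by simp⟩),
      fun a b hab => Ideal.span_mono fun m hm => let ⟨e, c, h1, h2⟩ := hm;
        ⟨e, c, hGA.antitone (Nat.sub_le_sub_right hab _) h1, h2⟩,
      fun {a b p q} hp hq => ?_⟩
    have := Ideal.mul_mem_mul hp hq
    simp only [F, Ideal.span_mul_span'] at this
    refine Ideal.span_mono ?_ this
    rintro _ ⟨_, ⟨e, c, h1, rfl⟩, _, ⟨e', c', h1', rfl⟩, rfl⟩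
    refine ⟨e + e', c * c', hGA.antitone ?_ (hGA.mul h1 h1'), ?_⟩
    · rw [Finsupp.sum_add_index' (by simp) (by intros; ring)]
      omega
    · rw [map_mul, Finsupp.prod_add_index' (by simp) (by intros; rw [pow_add])]
      ring
  let a : Option {a : A // εA a = 0} → B := fun r => Option.elim r x (fun c => algebraMap A B c.1)
  apply le_antisymm
  · refine gammaFil_le εB hKb hB hεB a ?_ ?_ hF ?_ k
    · rintro (_ | ⟨c, hc⟩)
      · exact hx
      · simp [a, hεAB, hc]
    · intro z
      have hz : z ∈ Algebra.adjoin A (Set.range fun j : ℕ => LambdaRing.gamma (j + 1) x) := hgen ▸ Algebra.mem_top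
      induction hz using Algebra.adjoin_induction with
      | mem s hs => obtain ⟨j, rfl⟩ := hs; exact ⟨MvPolynomial.X (none, j), by simp [a]⟩
      | algebraMap c =>
        refine ⟨MvPolynomial.C (εA c) + MvPolynomial.X (some ⟨c - algebraMap K A (εA c), by simp⟩, 0), ?_⟩
        simp [a, map_sub, ← IsScalarTower.algebraMap_apply]
      | add p q _ _ hp hq => obtain ⟨p', rfl⟩ := hp; obtain ⟨q', rfl⟩ := hq; exact ⟨p' + q', map_add _ _ _⟩
      | mul p q _ _ hp hq => obtain ⟨p', rfl⟩ := hp; obtain ⟨q', rfl⟩ := hq; exact ⟨p' * q', map_mul _ _ _⟩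
    · rintro (_ | ⟨c, hc⟩) j
      · exact Ideal.subset_span ⟨Finsupp.single j 1, 1, by simpa using hGA.one_mem, by simp [a]⟩
      · refine Ideal.subset_span ⟨0, LambdaRing.gamma (j + 1) c, ?_, ?_⟩
        · simpa using gamma_mem_gammaFil (εA : A →+* K) hc (j + 1)
        · simpa [a] using (map_gamma' (algebraMap A B) hAB (j + 1) c).symm
  · refine Ideal.span_le.2 ?_
    rintro _ ⟨e, c, hc, rfl⟩
    refine hGB.antitone (show k ≤ (k - e.sum fun j n => (j + 1) * n) + e.sum fun j n => (j + 1) * n by omega) ?_
    refine hGB.mul ?_ ?_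
    · have hle : LambdaRing.gammaFil (εA : A →+* K) (k - e.sum fun j n => (j + 1) * n) ≤
          (LambdaRing.gammaFil (εB : B →+* K) (k - e.sum fun j n => (j + 1) * n)).comap (algebraMap A B) := by
        refine Ideal.span_le.2 ?_
        rintro _ ⟨l, h1, h2, rfl⟩
        rw [SetLike.mem_coe, Ideal.mem_comap, map_list_prod, List.map_map]
        refine hGB.antitone h2 (hGB.list_prod _ _ l fun p hp => ?_)
        rw [Function.comp_apply, map_gamma' (algebraMap A B) hAB]
        exact gamma_mem_gammaFil (εB : B →+* K) (by have := h1 p hp; simpa [hεAB] using this) _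
      exact hle hc
    · refine hGB.prod _ _ _ fun j _ => ?_
      simp only
      rw [mul_comm]
      exact hGB.pow (gamma_mem_gammaFil (εB : B →+* K) hx _) _

end Groth.Agent.S8698
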