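import Groth.Statements.S8699
import Groth.Agent.MilnorKLambda.LamRat

set_option autoImplicit false
universe u
open LambdaRing

namespace Groth.Agent.S8699

/-- A binomial ring K (no additive torsion and all binomial coefficients C(x, n) defined) with its
binomial λ-structure λ^n(x) = C(x, n), i.e. λ_t(x) = (1 + t)^x, is a λ-ring in the strict sense:
λ_t(1) = 1 + t, λ^n(xy) = P_n(λ^1 x, …; λ^1 y, …) and λ^j(λ^i x) = Q_{i,j}(λ^1 x, …) for the
universal polynomials. In particular the integers with λ^n(m) = C(m, n) form a λ-ring. -/
theorem result (K : Type u) [CommRing K] [LambdaRing.LambdaOps K] [BinomialRing K]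
    (hKb : LambdaRing.IsBinomial K) : LambdaRing.IsSpecial K := by
  exact Groth.MilnorKLambda.Lam.isSpecial_of_binomial K hKb

end Groth.Agent.S8699
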