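import Groth.Statements.S8702
import Groth.Agent.MilnorKLambda.LamNewton

set_option autoImplicit false
universe u
open LambdaRing

open Groth.MilnorKLambda.Lam

namespace Groth.Agent.S8702

/-- Let K be a commutative ring which is an algebra over the rationals, and let ψ^k : K → K, k ≥ 1, be
additive maps with ψ^1 the identity. Then there is one and only one pre-λ-structure on K whose Adams
operations (defined through the logarithmic derivative of λ_t) are the ψ^k for every k ≥ 1, namely
λ_t(x) = exp(Σ_{k ≥ 1} (−1)^{k−1} ψ^k(x) t^k / k): in characteristic zero, pre-λ-structures and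
families of additive operations ψ^k with ψ^1 = id determine each other. (The value of the family at
k = 0 is ignored.) -/
theorem result (K : Type u) [CommRing K] [Algebra ℚ K]
    (ψ : ℕ → K →+ K) (hψ : ψ 1 = AddMonoidHom.id K) :
    ∃! L : LambdaRing.LambdaOps K, ∀ k : ℕ, 1 ≤ k → ∀ x : K, @LambdaRing.adamsOp K _ L k x = ψ k x := by
  let L : LambdaRing.LambdaOps K :=
    { lam := fun n x => eFun (fun k => ψ k x) n
      lam_zero := fun x => eFun_zero _
      lam_one := fun x => by
        show eFun (fun k => ψ k x) 1 = x
        have h := (isExp_eFun fun k => ψ k x).coeff 0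
        simpa [eFun_zero, hψ] using h
      lam_add := fun k x y => by
        show eFun (fun l => ψ l (x + y)) k = _
        simp only [map_add]
        exact eFun_add (fun l => ψ l x) (fun l => ψ l y) k }
  refine ⟨L, fun k hk x => ?_, fun L' hL' => ?_⟩
  · rw [@adamsOp_eq_nwt K _ L]
    exact nwt_eFun _ hk
  · have e : ∀ (n : ℕ) (x : K), @LambdaRing.LambdaOps.lam K _ L' n x = eFun (fun k => ψ k x) n := fun n x =>
      (@isExp_lam K _ L' x).eq_eFun _ n fun k hk _ => hL' k hk x
    obtain ⟨lam', h0', h1', ha'⟩ := L'
    obtain rfl : lam' = fun n x => eFun (fun k => ψ k x) n := funext fun n => funext fun x => e n x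
    rfl

end Groth.Agent.S8702
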