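import Groth.Statements.S8704
import Groth.Agent.MilnorKLambda.LamPos

set_option autoImplicit false
universe u v
open LambdaRing

namespace Groth.Agent.S8704

open Groth.MilnorKLambda.Lam

/-- Let K and A be λ-rings in the strict sense, A an augmented K-λ-algebra with augmentation ε : A → K,
and Fil^n A its γ-filtration, the ideal generated by the products γ^{i_1}(x_1) ⋯ γ^{i_k}(x_k) with
i_1 + ⋯ + i_k ≥ n and all ε(x_r) = 0. If a subset S generates A as an abelian group, then Fil^n A,
as a K-submodule of A, is generated over K by the products γ^{i_1}(s_1 − ε(s_1)) ⋯ γ^{i_k}(s_k −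
ε(s_k)) with s_r ∈ S and i_1 + ⋯ + i_k ≥ n. -/
theorem result
    (K : Type u) [CommRing K] [LambdaRing.LambdaOps K] (hK : LambdaRing.IsSpecial K)
    (A : Type v) [CommRing A] [LambdaRing.LambdaOps A] [Algebra K A] (hA : LambdaRing.IsSpecial A)
    (ε : A →ₐ[K] K) (hε : LambdaRing.IsAugLambdaAlg K A ε)
    (S : Set A) (hS : AddSubgroup.closure S = ⊤) (n : ℕ) :
    (LambdaRing.gammaFil (ε : A →+* K) n).restrictScalars K =
      Submodule.span K {y : A | ∃ l : List (ℕ × A), (∀ p ∈ l, p.2 ∈ S) ∧ n ≤ (l.map Prod.fst).sum ∧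
        y = (l.map fun p => LambdaRing.gamma p.1 (p.2 - algebraMap K A (ε p.2))).prod} := by
  let W : ℕ → Submodule K A := fun n => Submodule.span K {y : A | ∃ l : List (ℕ × A), (∀ p ∈ l, p.2 ∈ S) ∧
    n ≤ (l.map Prod.fst).sum ∧ y = (l.map fun p => LambdaRing.gamma p.1 (p.2 - algebraMap K A (ε p.2))).prod}
  have h0 : W 0 = ⊤ := by
    rw [eq_top_iff]
    intro a ha
    have h1 : (1 : A) ∈ W 0 := Submodule.subset_span ⟨[], by simp, by simp, by simp⟩
    have : AddSubgroup.closure S ≤ (W 0).toAddSubgroup := by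
      refine (AddSubgroup.closure_le _).2 fun s hs => ?_
      have h2 : s - algebraMap K A (ε s) ∈ W 0 :=
        Submodule.subset_span ⟨[(1, s)], by simpa using hs, by simp, by simp⟩
      have h3 : algebraMap K A (ε s) ∈ W 0 := by
        rw [Algebra.algebraMap_eq_smul_one]; exact (W 0).smul_mem _ h1
      simpa using add_mem h2 h3
    exact this (hS ▸ AddSubgroup.mem_top a)
  have hanti : Antitone W := fun a b hab => Submodule.span_mono fun y hy =>
    let ⟨l, h1, h2, h3⟩ := hy; ⟨l, h1, hab.trans h2, h3⟩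
  have hmul : ∀ {a b : ℕ} {x y : A}, x ∈ W a → y ∈ W b → x * y ∈ W (a + b) := by
    intro a b x y hx hy
    have := Submodule.mul_mem_mul hx hy
    simp only [W, Submodule.span_mul_span] at this
    refine Submodule.span_mono ?_ this
    rintro _ ⟨_, ⟨l, h1, h2, rfl⟩, _, ⟨l', h1', h2', rfl⟩, rfl⟩
    exact ⟨l ++ l', fun p hp => (List.mem_append.1 hp).elim (h1 p) (h1' p),
      by rw [List.map_append, List.sum_append]; omega, by simp⟩
  let F : ℕ → Ideal A := fun m =>
    { carrier := W m, add_mem' := fun h h' => (W m).add_mem h h', zero_mem' := (W m).zero_mem,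
      smul_mem' := fun c x hx => by
        have := hmul (a := 0) (b := m) (h0 ▸ Submodule.mem_top : c ∈ W 0) hx
        rwa [Nat.zero_add] at this }
  have hG : Groth.LambdaCore.IsGraded fun m => (W m).toAddSubgroup :=
    ⟨(by rw [h0]; trivial), fun _ _ h => hanti h, fun hx hy => hmul hx hy⟩
  let π : A →+ A := AddMonoidHom.id A - ((algebraMap K A : K →+* A).comp (ε : A →+* K)).toAddMonoidHom
  have hπ : ∀ a, π a = a - algebraMap K A (ε a) := fun a => rfl
  have hall : AddSubgroup.closure S ≤
      (Groth.LambdaCore.gammaGradedSet (RingHom.id A) (fun m => (W m).toAddSubgroup) hG).comap π := by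
    refine (AddSubgroup.closure_le _).2 fun s hs => ?_
    rw [SetLike.mem_coe, AddSubgroup.mem_comap, Groth.LambdaCore.mem_gammaGradedSet, PowerSeries.map_id, id_eq, hπ]
    exact ⟨Groth.LambdaCore.constantCoeff_gammaSeries _, fun k => by
      rw [Groth.LambdaCore.coeff_gammaSeries]
      exact Submodule.subset_span ⟨[(k, s)], by simpa using hs, by simp, by simp⟩⟩
  have hker : ∀ a, ε a = 0 → ∀ k, LambdaRing.gamma k a ∈ W k := by
    intro a ha k
    have := hall (hS ▸ AddSubgroup.mem_top a)
    rw [AddSubgroup.mem_comap, Groth.LambdaCore.mem_gammaGradedSet, PowerSeries.map_id, id_eq, hπ, ha,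
      map_zero, sub_zero] at this
    simpa using this.2 k
  have hF : GradedFam F := ⟨Ideal.eq_top_iff_one _ |>.2 (show (1 : A) ∈ W 0 by rw [h0]; trivial),
    fun _ _ h => hanti h, fun hx hy => hmul hx hy⟩
  apply le_antisymm
  · intro y hy
    have hle : LambdaRing.gammaFil (ε : A →+* K) n ≤ F n := by
      refine Ideal.span_le.2 ?_
      rintro _ ⟨l, h1, h2, rfl⟩
      exact hF.antitone h2 (hF.list_prod _ _ l fun p hp => hker p.2 (h1 p hp) p.1)
    exact hle hy
  · refine Submodule.span_le.2 ?_
    rintro _ ⟨l, _, h2, rfl⟩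
    refine (gradedFam_gammaFil (ε : A →+* K)).antitone h2 ((gradedFam_gammaFil (ε : A →+* K)).list_prod _ _ l fun p _ => ?_)
    exact gamma_mem_gammaFil (ε : A →+* K) (by simp) _

end Groth.Agent.S8704
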