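import Groth.Statements.S8705
import Mathlib.LinearAlgebra.Finsupp.LinearCombination
import Mathlib.Tactic.Abel
import Mathlib.LinearAlgebra.Quotient.Basic
import Mathlib.LinearAlgebra.Finsupp.Span

set_option autoImplicit false
universe u
open SGA7

namespace Groth.Agent.S8705

universe v

/-- A symmetric two-cocycle. -/
structure SymCocycle (P : Type u) (Q : Type v) [AddCommGroup P] [AddCommGroup Q] where
  c : P → P → Q
  symm : ∀ p q, c p q = c q p
  cocycle : ∀ p q r, c (p + q) r - c p (q + r) + c p q - c q r = 0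

variable {P : Type u} {Q : Type v} [AddCommGroup P] [AddCommGroup Q]

/-- The extension defined by a symmetric cocycle. -/
@[ext]
structure Extn (h : SymCocycle P Q) : Type (max u v) where
  fib : Q
  base : P

namespace Extn

variable (h : SymCocycle P Q)

theorem c_zero (q : P) : h.c 0 q = h.c 0 0 := by
  have := h.cocycle 0 0 q
  simp at this
  rw [eq_comm, ← sub_eq_zero]
  exact this

noncomputable instance : Add (Extn h) :=
  ⟨fun x y => ⟨x.fib + y.fib + h.c x.base y.base, x.base + y.base⟩⟩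

noncomputable instance : Zero (Extn h) := ⟨⟨-h.c 0 0, 0⟩⟩

noncomputable instance : Neg (Extn h) :=
  ⟨fun x => ⟨-x.fib - h.c (-x.base) x.base - h.c 0 0, -x.base⟩⟩

noncomputable instance : AddCommGroup (Extn h) where
  add_assoc x y z := by
    show (⟨_, _⟩ : Extn h) = ⟨_, _⟩
    ext
    · show x.fib + y.fib + h.c x.base y.base + z.fib + h.c (x.base + y.base) z.base =
        x.fib + (y.fib + z.fib + h.c y.base z.base) + h.c x.base (y.base + z.base)
      rw [← sub_eq_zero]
      refine Eq.trans ?_ (h.cocycle x.base y.base z.base)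
      abel
    · exact add_assoc _ _ _
  zero_add x := by
    show (⟨_, _⟩ : Extn h) = x
    ext
    · show -h.c 0 0 + x.fib + h.c 0 x.base = x.fib
      rw [c_zero h x.base]; abel
    · exact zero_add _
  add_zero x := by
    show (⟨_, _⟩ : Extn h) = x
    ext
    · show x.fib + -h.c 0 0 + h.c x.base 0 = x.fib
      rw [h.symm x.base 0, c_zero h x.base]; abel
    · exact add_zero _
  neg_add_cancel x := by
    show (⟨_, _⟩ : Extn h) = ⟨_, _⟩
    ext
    · show -x.fib - h.c (-x.base) x.base - h.c 0 0 + x.fib + h.c (-x.base) x.base = -h.c 0 0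
      abel
    · exact neg_add_cancel _
  add_comm x y := by
    show (⟨_, _⟩ : Extn h) = ⟨_, _⟩
    ext
    · show x.fib + y.fib + h.c x.base y.base = y.fib + x.fib + h.c y.base x.base
      rw [h.symm]; abel
    · exact add_comm _ _
  nsmul := nsmulRec
  zsmul := zsmulRec

/-- The inclusion of the fibre group. -/
noncomputable def incl : Q →+ Extn h := AddMonoidHom.mk' (fun x => ⟨x - h.c 0 0, 0⟩) fun x y => by
  show (⟨_, _⟩ : Extn h) = ⟨_, _⟩
  ext
  · show x + y - h.c 0 0 = x - h.c 0 0 + (y - h.c 0 0) + h.c 0 0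
    abel
  · exact (add_zero 0).symm

theorem incl_injective : ∀ {x : Q}, incl h x = 0 → x = 0 := fun {x} hx => by
  have : x - h.c 0 0 = -h.c 0 0 := congrArg Extn.fib hx
  simpa [sub_eq_add_neg] using this

theorem mk_sub_mk (p q : P) : (⟨0, p + q⟩ : Extn h) - ⟨0, p⟩ - ⟨0, q⟩ = -incl h (h.c p q) := by
  rw [sub_sub, eq_neg_iff_add_eq_zero, sub_add_eq_add_sub, sub_eq_zero]
  show (⟨_, _⟩ : Extn h) = ⟨_, _⟩
  ext
  · show 0 + (h.c p q - h.c 0 0) + h.c (p + q) 0 = 0 + 0 + h.c p q
    rw [h.symm (p + q) 0, c_zero h (p + q)]; abel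
  · exact add_zero _

end Extn


/-- In the case of the punctual topos (ordinary abelian groups): let P be an abelian group and consider
the complex of free abelian groups Z[P × P × P] ⊕ Z[P × P] → Z[P × P] → Z[P], augmented to P by [p]
↦ p, with d₀[p, q] = [p + q] − [p] − [q], with d₁ on the first summand given by [p, q, r] ↦ [p + q,
r] − [p, q + r] + [p, q] − [q, r] and on the second summand by [p, q] ↦ [p, q] − [q, p]. Then the
augmentation is surjective with kernel the image of d₀ (so H₀ is P), and the kernel of d₀ is the sum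
of the images of the two components of d₁ (so H₁ vanishes). (The published statement is for abelian
sheaves on an arbitrary topos; this row is its case of a one-point space.) -/
theorem result (P : Type u) [AddCommGroup P] :
    letI ε : (P →₀ ℤ) →ₗ[ℤ] P := Finsupp.linearCombination ℤ (fun p : P => p)
    letI d₀ : (P × P →₀ ℤ) →ₗ[ℤ] (P →₀ ℤ) := Finsupp.linearCombination ℤ
      (fun pq : P × P => Finsupp.single (pq.1 + pq.2) 1 - Finsupp.single pq.1 1 - Finsupp.single pq.2 1)
    letI d₁ : (P × P × P →₀ ℤ) →ₗ[ℤ] (P × P →₀ ℤ) := Finsupp.linearCombination ℤ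
      (fun t : P × P × P => Finsupp.single (t.1 + t.2.1, t.2.2) 1 - Finsupp.single (t.1, t.2.1 + t.2.2) 1
        + Finsupp.single (t.1, t.2.1) 1 - Finsupp.single (t.2.1, t.2.2) 1)
    letI d₁' : (P × P →₀ ℤ) →ₗ[ℤ] (P × P →₀ ℤ) := Finsupp.linearCombination ℤ
      (fun pq : P × P => Finsupp.single pq 1 - Finsupp.single (pq.2, pq.1) 1)
    Function.Surjective ε ∧ LinearMap.ker ε = LinearMap.range d₀ ∧
      LinearMap.ker d₀ = LinearMap.range d₁ ⊔ LinearMap.range d₁' := by
  classical
  let ε : (P →₀ ℤ) →ₗ[ℤ] P := Finsupp.linearCombination ℤ (fun p : P => p)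
  let d₀ : (P × P →₀ ℤ) →ₗ[ℤ] (P →₀ ℤ) := Finsupp.linearCombination ℤ
      (fun pq : P × P => Finsupp.single (pq.1 + pq.2) 1 - Finsupp.single pq.1 1 - Finsupp.single pq.2 1)
  let d₁ : (P × P × P →₀ ℤ) →ₗ[ℤ] (P × P →₀ ℤ) := Finsupp.linearCombination ℤ
      (fun t : P × P × P => Finsupp.single (t.1 + t.2.1, t.2.2) 1 - Finsupp.single (t.1, t.2.1 + t.2.2) 1
        + Finsupp.single (t.1, t.2.1) 1 - Finsupp.single (t.2.1, t.2.2) 1)
  let d₁' : (P × P →₀ ℤ) →ₗ[ℤ] (P × P →₀ ℤ) := Finsupp.linearCombination ℤ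
      (fun pq : P × P => Finsupp.single pq 1 - Finsupp.single (pq.2, pq.1) 1)
  change Function.Surjective ε ∧ LinearMap.ker ε = LinearMap.range d₀ ∧
      LinearMap.ker d₀ = LinearMap.range d₁ ⊔ LinearMap.range d₁'
  have hεd : ε ∘ₗ d₀ = 0 := by
    apply Finsupp.lhom_ext'
    intro pq
    apply LinearMap.ext_ring
    simp [ε, d₀, sub_eq_add_neg]
  have hd1 : d₀ ∘ₗ d₁ = 0 := by
    apply Finsupp.lhom_ext'
    intro t
    apply LinearMap.ext_ring
    simp [d₀, d₁, add_assoc, map_sub, map_add]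
    abel
  have hd1' : d₀ ∘ₗ d₁' = 0 := by
    apply Finsupp.lhom_ext'
    intro t
    apply LinearMap.ext_ring
    simp [d₀, d₁', add_comm, map_sub]
    try abel
  refine ⟨fun p => ⟨Finsupp.single p 1, by simp [ε]⟩, le_antisymm ?_ ?_, le_antisymm ?_ ?_⟩
  · let qP := (LinearMap.range d₀).mkQ
    let ψ : P →+ ((P →₀ ℤ) ⧸ LinearMap.range d₀) := AddMonoidHom.mk' (fun p => qP (Finsupp.single p 1)) (fun p q => by
      have h : qP (d₀ (Finsupp.single (p, q) 1)) = 0 := by
        simp [qP]
      simp [d₀, map_sub] at h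
      rw [sub_sub, sub_eq_zero] at h
      exact h)
    have key : ψ.toIntLinearMap ∘ₗ ε = qP := by
      apply Finsupp.lhom_ext'
      intro p
      apply LinearMap.ext_ring
      simp [ε, ψ]
    intro x hx
    rw [← Submodule.ker_mkQ (LinearMap.range d₀), LinearMap.mem_ker]
    show qP x = 0
    rw [← key, LinearMap.comp_apply, LinearMap.mem_ker.mp hx, map_zero]
  · exact LinearMap.range_le_ker_iff.mpr hεd
  · set N := LinearMap.range d₁ ⊔ LinearMap.range d₁' with hN
    let c : P → P → ((P × P →₀ ℤ) ⧸ N) := fun p q => N.mkQ (Finsupp.single (p, q) 1)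
    have hsym : ∀ p q, c p q = c q p := fun p q => by
      have h : N.mkQ (d₁' (Finsupp.single (p, q) 1)) = 0 :=
        (Submodule.Quotient.mk_eq_zero N).mpr (Submodule.mem_sup_right ⟨_, rfl⟩)
      simp [d₁', map_sub, sub_eq_zero] at h
      exact h
    have hco : ∀ p q r, c (p + q) r - c p (q + r) + c p q - c q r = 0 := fun p q r => by
      have h : N.mkQ (d₁ (Finsupp.single (p, q, r) 1)) = 0 :=
        (Submodule.Quotient.mk_eq_zero N).mpr (Submodule.mem_sup_left ⟨_, rfl⟩)
      simpa [c, d₁, map_sub, map_add] using h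
    let h : SymCocycle P ((P × P →₀ ℤ) ⧸ N) := ⟨c, hsym, hco⟩
    let L : (P →₀ ℤ) →ₗ[ℤ] Extn h := Finsupp.linearCombination ℤ fun p => ⟨0, p⟩
    have key : L ∘ₗ d₀ = - ((Extn.incl h).toIntLinearMap ∘ₗ N.mkQ) := by
      apply Finsupp.lhom_ext'
      intro pq
      apply LinearMap.ext_ring
      simp [L, d₀, map_sub]
      exact Extn.mk_sub_mk h pq.1 pq.2
    intro z hz
    rw [← Submodule.ker_mkQ N, LinearMap.mem_ker]
    have h2 := LinearMap.congr_fun key z
    rw [LinearMap.comp_apply, LinearMap.mem_ker.mp hz, map_zero] at h2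
    exact Extn.incl_injective h (by simpa using h2.symm)
  · exact sup_le (LinearMap.range_le_ker_iff.mpr hd1) (LinearMap.range_le_ker_iff.mpr hd1')

end Groth.Agent.S8705
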