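import Groth.Statements.S8708
import Groth.Agent.SGA7.ExtLFT
import Groth.Agent.SGA7.ConstPoints
import Groth.Agent.SGA7.IdComponent

set_option autoImplicit false
universe u
open CategoryTheory CategoryTheory.Limits MonoidalCategory CartesianMonoidalCategory MonObj AlgebraicGeometry
open SGA7 Groth.SGA7 Groth.SGA7.Ext TopologicalSpace

namespace Groth.Agent.S8708
theorem exists_residue_factor {X : Scheme.{u}} {x : X} {K : Type u} [Field K] (f : Spec (CommRingCat.of K) ⟶ X)
    (h : f.base (IsLocalRing.closedPoint K) = x) : ∃ j, j ≫ X.fromSpecResidueField x = f := by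
  subst h
  exact ⟨_, Scheme.descResidueField_stalkClosedPointTo_fromSpecResidueField K X f⟩



/-- Let k be a field, Z a group without non-trivial elements of finite order, P a connected k-group
scheme locally of finite type, G the constant k-group scheme Z_k (through the isomorphism eG), and u
: G → E, v : E → P homomorphisms of k-group schemes forming a sequence 1 → G → E → P → 1 which is
exact for the fppf topology. Then the extension is rigid and trivial: every automorphism of the
k-group scheme E compatible with u and v is the identity, and there is a homomorphism of k-group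
schemes s : P → E with s followed by v equal to the identity of P. (For P not connected the
published statement reduces extensions of P to extensions of its group of connected components; that
part is not stated.) -/
theorem result (k : Type u) [Field k]
    (Z : Type u) [Group Z] (hZ : ∀ z : Z, IsOfFinOrder z → z = 1)
    (P E G : Over (Spec (CommRingCat.of k))) [GrpObj P] [GrpObj E] [GrpObj G]
    [LocallyOfFiniteType P.hom] [ConnectedSpace ↥P.left]
    (eG : G ≅ TwC.const (Spec (CommRingCat.of k)) Z) (hG : TwC.IsConstGrp Z G eG)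
    (u : G ⟶ E) (v : E ⟶ P) (hex : NonAbH1.IsExactSeq Scheme.fppfPrecoverage u v) :
    (∀ φ : E ≅ E, IsMonHom φ.hom → u ≫ φ.hom = u → φ.hom ≫ v = v → φ.hom = 𝟙 E) ∧
      ∃ s : P ⟶ E, IsMonHom s ∧ s ≫ v = 𝟙 P := by
  classical
  have hu := hex.1
  have hv := hex.2.1
  -- finiteness properties
  have : LocallyOfFiniteType (TwC.const (Spec (CommRingCat.of k)) Z).hom := locallyOfFiniteType_const Z
  have : LocallyOfFiniteType G.hom := by
    rw [← Over.w eG.hom]
    haveI : IsIso eG.hom.left := inferInstanceAs (IsIso ((Over.forget _).map eG.hom))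
    infer_instance
  have : LocallyOfFiniteType v.left := locallyOfFiniteType_quot hex
  have : UniversallyOpen v.left := universallyOpen_quot hex
  have : Surjective v.left := surjective_quot hex
  have : LocallyOfFiniteType E.hom := by rw [← Over.w v]; infer_instance
  have := LocallyOfFiniteType.isLocallyNoetherian E.hom
  have := IdComponent.locallyConnectedSpace (X := E.left)
  have : IrreducibleSpace P.left := IdComponent.irreducibleSpace P
  have := Groth.AlgGrp1.isSeparated_grpObj P
  -- right translations by the points of `G`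
  let pz : ∀ (T : Over (Spec (CommRingCat.of k))) (z : Z), T ⟶ G := fun T z =>
    toUnit T ≫ TwC.pt (Spec (CommRingCat.of k)) Z z ≫ eG.inv
  let R : Z → (E ⟶ E) := fun z => 𝟙 E * (pz E z ≫ u)
  have hR : ∀ {T : Over (Spec (CommRingCat.of k))} (x : T ⟶ E) (z : Z), x ≫ R z = x * (pz T z ≫ u) := fun {T} x z => by
    simp only [R, pz, MonObj.comp_mul, Category.comp_id]
    rw [← Category.assoc x, ← Category.assoc x, toUnit_unique (x ≫ toUnit E) (toUnit T)]
  have hpz : ∀ (T : Over (Spec (CommRingCat.of k))) (z w : Z), pz T z * pz T w = pz T (z * w) := fun T z w => by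
    refine ConstPoints.ix_ext (e := eG) (funext fun t => ?_)
    rw [ConstPoints.ix_mul hG, ConstPoints.ix_pt, ConstPoints.ix_pt, ConstPoints.ix_pt]
  have hpz1 : ∀ T : Over (Spec (CommRingCat.of k)), pz T 1 = 1 := fun T => by
    refine ConstPoints.ix_ext (e := eG) (funext fun t => ?_)
    rw [ConstPoints.ix_one hG, ConstPoints.ix_pt]
  let ρ : Z → E.left → E.left := fun z => (R z).left.base
  have hρmul : ∀ z w x, ρ w (ρ z x) = ρ (z * w) x := fun z w x => by
    have h : R z ≫ R w = R (z * w) := by
      rw [hR, show R z = 𝟙 E * (pz E z ≫ u) from rfl, _root_.mul_assoc, ← MonObj.mul_comp, hpz]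
    exact congrArg (fun q : E ⟶ E => q.left.base x) h
  have hρ1 : ∀ x, ρ 1 x = x := fun x => by
    have h : R 1 = 𝟙 E := by simp only [R]; rw [hpz1, MonObj.one_comp, _root_.mul_one]
    exact congrArg (fun q : E ⟶ E => q.left.base x) h
  have hRv : ∀ z, R z ≫ v = v := fun z => by
    simp only [R]; rw [MonObj.mul_comp, comp_eq_one hex, _root_.mul_one, Category.id_comp]
  have hρc : ∀ z, Continuous (ρ z) := fun z => (R z).left.continuous
  have hpt : ∀ {T : Over (Spec (CommRingCat.of k))} (a : T ⟶ E) (g : T ⟶ G) (t : T.left),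
      (a * (g ≫ u)).left.base t = ρ (ConstPoints.ix eG g t) (a.left.base t) := by
    intro T a g t
    let U : T.left.Opens := ⟨ConstPoints.ix eG g ⁻¹' {ConstPoints.ix eG g t}, ConstPoints.isLocallyConstant_ix g _⟩
    have h : ConstPoints.pieceι T U ≫ (a * (g ≫ u)) = (ConstPoints.pieceι T U ≫ a) ≫ R (ConstPoints.ix eG g t) := by
      rw [hR, MonObj.comp_mul, ← Category.assoc _ g u, ConstPoints.eq_pt' (ConstPoints.pieceι T U ≫ g) _ fun z => z.2]
    exact congrArg (fun q : ConstPoints.piece T U ⟶ E => q.left.base ⟨t, rfl⟩) h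
  have hfib : ∀ x y : E.left, v.left.base x = v.left.base y → ∃ z, ρ z x = y := by
    intro x y hxy
    obtain ⟨r, hr1, hr2⟩ := Scheme.Pullback.exists_preimage_pullback (f := v.left) (g := v.left) x y hxy
    have hsq := hex.2.2.2.1.map (Over.forget (Spec (CommRingCat.of k)))
    let r' : (E ⊗ G).left := hsq.isoPullback.inv.base r
    have h1 : (fst E G).left.base r' = x := by
      rw [← hr1]; exact congrArg (fun q => q.base r) hsq.isoPullback_inv_fst
    have h2 : ((E ◁ u) ≫ μ[E]).left.base r' = y := by
      rw [← hr2]; exact congrArg (fun q => q.base r) hsq.isoPullback_inv_snd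
    have e : (E ◁ u) ≫ μ[E] = fst E G * (snd E G ≫ u) := by
      rw [Hom.mul_def]; congr 1
    refine ⟨ConstPoints.ix eG (snd E G) r', ?_⟩
    rw [← h1, ← hpt, ← e, h2]
  -- the unit component
  let C : Z → Set E.left := fun z => connectedComponent (ρ z (IdComponent.one E))
  have hρC : ∀ z w x, x ∈ C z → ρ w x ∈ C (z * w) := fun z w x hx => by
    have := (hρc w).image_connectedComponent_subset _ ⟨x, hx, rfl⟩
    simpa only [C, hρmul] using this
  have hC1 : C 1 = connectedComponent (IdComponent.one E) := by simp only [C, hρ1]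
  have hirr : IsIrreducible (C 1) := hC1 ▸ IdComponent.isIrreducible_connectedComponent_one E
  obtain ⟨η₀, hη₀⟩ : ∃ η₀, IsGenericPoint η₀ (C 1) := QuasiSober.sober hirr (isClosed_connectedComponent)
  have hstab : ∀ z, ρ z η₀ = η₀ → z = 1 := by
    intro z hz
    let T : Over (Spec (CommRingCat.of k)) := Over.mk (E.left.fromSpecResidueField η₀ ≫ E.hom)
    let a : T ⟶ E := Over.homMk (E.left.fromSpecResidueField η₀) rfl
    let W : Over (Spec (CommRingCat.of k)) := Over.mk (pullback.fst (a ≫ v).left (a ≫ v).left ≫ T.hom)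
    let p1 : W ⟶ T := Over.homMk (pullback.fst (a ≫ v).left (a ≫ v).left) rfl
    let p2 : W ⟶ T := Over.homMk (pullback.snd (a ≫ v).left (a ≫ v).left) (by
      show pullback.snd _ _ ≫ T.hom = pullback.fst _ _ ≫ T.hom
      rw [← Over.w (a ≫ v), pullback.condition_assoc])
    obtain ⟨g, hg⟩ := exists_translate hex (p1 ≫ a) (p2 ≫ a) (by
      rw [Category.assoc, Category.assoc]; exact Over.OverMorphism.ext pullback.condition)
    have : CompactSpace W.left := by
      haveI : QuasiCompact (a ≫ v).left := by
        haveI : QuasiCompact ((a ≫ v).left ≫ P.hom) := by rw [Over.w (a ≫ v)]; infer_instance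
        exact QuasiCompact.of_comp (a ≫ v).left P.hom
      haveI : CompactSpace T.left := inferInstanceAs (CompactSpace ↥(Spec (E.left.residueField η₀)))
      exact QuasiCompact.compactSpace_of_compactSpace (pullback.fst (a ≫ v).left (a ≫ v).left)
    refine hZ z (not_not.mp fun hinf => ?_)
    have hmem : ∀ n : ℕ, z ^ n ∈ Set.range (ConstPoints.ix eG g) := by
      intro n
      have hzn : ρ (z ^ n) η₀ = η₀ := by
        induction n with
        | zero => rw [pow_zero, hρ1]
        | succ n ih => rw [pow_succ, ← hρmul, ih, hz]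
      let b : T ⟶ E := a ≫ R (z ^ n)
      have hb : b.left.base (IsLocalRing.closedPoint (E.left.residueField η₀)) = η₀ := by
        show ρ (z ^ n) ((E.left.fromSpecResidueField η₀).base _) = η₀
        exact (congrArg _ (Scheme.fromSpecResidueField_apply η₀ _)).trans hzn
      obtain ⟨j', hj'⟩ := exists_residue_factor (K := E.left.residueField η₀) b.left hb
      let j : T ⟶ T := Over.homMk j' (by
        show j' ≫ E.left.fromSpecResidueField η₀ ≫ E.hom = T.hom
        rw [← Category.assoc, hj']
        exact Over.w b)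
      have hj : j ≫ a = b := Over.OverMorphism.ext hj'
      let m : T ⟶ W := Over.homMk (pullback.lift (𝟙 _) j.left (by
          rw [Category.id_comp, ← Over.comp_left, ← Category.assoc, hj]
          simp only [b, Category.assoc, hRv]))
        (by
          show _ ≫ pullback.fst _ _ ≫ T.hom = T.hom
          rw [pullback.lift_fst_assoc, Category.id_comp])
      have hm1 : m ≫ p1 = 𝟙 T := Over.OverMorphism.ext (pullback.lift_fst _ _ _)
      have hm2 : m ≫ p2 = j := Over.OverMorphism.ext (pullback.lift_snd _ _ _)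
      have h := congrArg (m ≫ ·) hg
      simp only [MonObj.comp_mul, ← Category.assoc, hm1, hm2, Category.id_comp, hj] at h
      rw [show b = a * (pz T (z ^ n) ≫ u) from hR a _] at h
      have h' := u_injective hex (mul_left_cancel h)
      refine ⟨m.left.base (IsLocalRing.closedPoint (E.left.residueField η₀)), ?_⟩
      exact (ConstPoints.ix_comp _ _ _).symm.trans ((congrArg (fun q => ConstPoints.ix eG q _) h'.symm).trans (ConstPoints.ix_pt _ _))
    exact ((Set.infinite_range_of_injective (injective_pow_iff_not_isOfFinOrder.mpr hinf)).mono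
      (Set.range_subset_iff.mpr hmem)) (ConstPoints.isLocallyConstant_ix g).range_finite
  have hsep : ∀ z x, x ∈ C 1 → ρ z x ∈ C 1 → z = 1 := by
    intro z x hx hzx
    have e1 : C z = C 1 := by
      have h1 := hρC 1 z x hx
      rw [_root_.one_mul] at h1
      exact (connectedComponent_eq h1).trans (connectedComponent_eq hzx).symm
    have himg : ρ z '' C 1 = C 1 := by
      refine Set.Subset.antisymm ?_ fun y hy => ?_
      · rintro _ ⟨y, hy, rfl⟩
        have := hρC 1 z y hy
        rwa [_root_.one_mul, e1] at this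
      · have hy' : y ∈ C z := e1.symm ▸ hy
        have := hρC z z⁻¹ y hy'
        rw [mul_inv_cancel] at this
        exact ⟨_, this, by rw [hρmul, inv_mul_cancel, hρ1]⟩
    refine hstab z (IsGenericPoint.eq ?_ hη₀)
    have := hη₀.image (hρc z)
    rwa [himg, isClosed_connectedComponent.closure_eq] at this
  have hcover : ∀ x : E.left, ∃ z, x ∈ C z := by
    intro x
    obtain ⟨p, ⟨c, hc, hcp⟩, ⟨d, hd, hdp⟩⟩ := nonempty_preirreducible_inter
      (v.left.isOpenMap _ (isOpen_connectedComponent (x := x)))
      (v.left.isOpenMap _ (isOpen_connectedComponent (x := IdComponent.one E)))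
      (Set.Nonempty.image _ ⟨x, mem_connectedComponent⟩)
      (Set.Nonempty.image _ ⟨IdComponent.one E, mem_connectedComponent⟩)
    obtain ⟨z, hz⟩ := hfib d c (hdp.trans hcp.symm)
    refine ⟨z, ?_⟩
    have h1 := hρC 1 z d (hC1.symm ▸ hd)
    rw [_root_.one_mul, hz] at h1
    rw [show C z = connectedComponent c from connectedComponent_eq h1, ← connectedComponent_eq hc]
    exact mem_connectedComponent
  choose h hh using hcover
  have huniq : ∀ z x, x ∈ C z → h x = z := by
    intro z x hx
    have h1 := hρC z z⁻¹ x hx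
    rw [mul_inv_cancel] at h1
    have h2 := hρC (h x) (h x)⁻¹ x (hh x)
    rw [mul_inv_cancel] at h2
    have h3 := hsep (z * (h x)⁻¹) _ h1 (by rw [hρmul, inv_mul_cancel_left]; exact h2)
    exact (mul_inv_eq_one.mp h3).symm
  have hlc : IsLocallyConstant h := by
    refine IsLocallyConstant.iff_isOpen_fiber.mpr fun z => ?_
    have : h ⁻¹' {z} = C z := Set.ext fun x => ⟨fun hx => hx ▸ hh x, huniq z x⟩
    rw [this]
    exact isOpen_connectedComponent
  obtain ⟨ε₀, hε₀⟩ := ConstPoints.exists_of_isLocallyConstant E h hlc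
  let ε : E ⟶ G := ε₀ ≫ eG.inv
  have hε : ∀ x, ConstPoints.ix eG ε x = h x := fun x => by
    simp only [ε, ConstPoints.ix, Category.assoc, eG.inv_hom_id, Category.comp_id, hε₀]
  -- the retraction to the unit component
  let r : E ⟶ E := 𝟙 E * (ε⁻¹ ≫ u)
  have hrC : ∀ x, r.left.base x ∈ C 1 := fun x => by
    show (𝟙 E * (ε⁻¹ ≫ u)).left.base x ∈ C 1
    rw [hpt, ConstPoints.ix_inv hG, hε]
    have := hρC (h x) (h x)⁻¹ x (hh x)
    rwa [mul_inv_cancel] at this
  have hrv : r ≫ v = v := by
    simp only [r]; rw [MonObj.mul_comp, comp_eq_one hex, _root_.mul_one, Category.id_comp]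
  have hr1 : (1 : 𝟙_ (Over (Spec (CommRingCat.of k))) ⟶ E) ≫ r = 1 := by
    have he : (1 : 𝟙_ (Over (Spec (CommRingCat.of k))) ⟶ E) ≫ ε = 1 := by
      refine ConstPoints.ix_ext (e := eG) (funext fun t => ?_)
      rw [ConstPoints.ix_comp, hε, ConstPoints.ix_one hG]
      refine huniq 1 _ (hC1.symm ▸ ?_)
      rw [show (1 : 𝟙_ (Over (Spec (CommRingCat.of k))) ⟶ E).left.base t = IdComponent.one E from
        congrArg₂ (fun q (s : ↥(Spec (CommRingCat.of k))) => q.left.base s) (MonObj.one_eq_one E).symm
          (Subsingleton.elim (α := ↥(Spec (CommRingCat.of k))) _ _)]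
      exact mem_connectedComponent
    simp only [r]
    rw [MonObj.comp_mul, Category.comp_id, GrpObj.inv_comp, GrpObj.comp_inv, ← Category.assoc, he,
      MonObj.one_comp, inv_one, _root_.mul_one]
  obtain ⟨s, hs⟩ := (locSurj hex).desc r fun T x y hxy => by
    obtain ⟨g, hg⟩ := exists_translate hex (x ≫ r) (y ≫ r) (by rw [Category.assoc, Category.assoc, hrv, hxy])
    have : g = 1 := ConstPoints.ix_ext (e := eG) (funext fun t => by
      rw [ConstPoints.ix_one hG]
      refine hsep _ ((x ≫ r).left.base t) (hrC _) ?_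
      rw [← hpt, ← hg]
      exact hrC _)
    rw [hg, this, MonObj.one_comp, _root_.mul_one]
  have hsv : s ≫ v = 𝟙 P := (locSurj hex).cancel (by rw [← Category.assoc, hs, hrv, Category.comp_id])
  have hs1 : (1 : 𝟙_ (Over (Spec (CommRingCat.of k))) ⟶ P) ≫ s = 1 := by
    rw [← MonObj.one_comp v, Category.assoc, hs, hr1]
  have hgc : GeometricallyConnected P.hom :=
    Groth.AlgGrp1.geometricallyConnected_of_point P.hom η[P].left (Over.w η[P])
  have : ConnectedSpace (P ⊗ P).left := inferInstanceAs (ConnectedSpace ↥(pullback P.hom P.hom))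
  have hconst : ∀ {T : Over (Spec (CommRingCat.of k))} [ConnectedSpace T.left] (d : T ⟶ G)
      (o : 𝟙_ (Over (Spec (CommRingCat.of k))) ⟶ T), o ≫ d = 1 → d = 1 := by
    intro T _ d o ho
    refine ConstPoints.ix_ext (e := eG) (funext fun t => ?_)
    rw [ConstPoints.ix_one hG, (ConstPoints.isLocallyConstant_ix d).apply_eq_of_preconnectedSpace t
      (o.left.base (IsLocalRing.closedPoint k))]
    exact (ConstPoints.ix_comp _ _ _).symm.trans ((congrArg (fun q => ConstPoints.ix eG q _) ho).trans (ConstPoints.ix_one hG _))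
  have hsmul : (fst P P * snd P P) ≫ s = (fst P P ≫ s) * (snd P P ≫ s) := by
    obtain ⟨d, hd⟩ := exists_translate hex ((fst P P ≫ s) * (snd P P ≫ s)) ((fst P P * snd P P) ≫ s)
      (by rw [MonObj.mul_comp, Category.assoc, Category.assoc, Category.assoc, hsv, Category.comp_id, Category.comp_id,
        Category.comp_id])
    have h1 := congrArg (fun q => lift (1 : 𝟙_ (Over (Spec (CommRingCat.of k))) ⟶ P) 1 ≫ q) hd
    simp only [MonObj.comp_mul, ← Category.assoc, lift_fst, lift_snd, _root_.mul_one, hs1, _root_.one_mul] at h1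
    rw [hd, hconst d _ (u_injective hex (h1.symm.trans (MonObj.one_comp u).symm)), MonObj.one_comp, _root_.mul_one]
  have hsMon : IsMonHom s := Groth.AlgGrp1.isMonHom_of_points s fun T a b => by
    have := congrArg (lift a b ≫ ·) hsmul
    simpa only [← Category.assoc, MonObj.comp_mul, lift_fst, lift_snd] using this
  refine ⟨fun φ hφ hφu hφv => ?_, s, hsMon, hsv⟩
  obtain ⟨δ, hδ⟩ := exists_translate hex s (s ≫ φ.hom) (by rw [Category.assoc, hφv])
  have hδ1 : δ = 1 := hconst δ 1 (u_injective hex (by
    have h1 := congrArg (fun q => (1 : 𝟙_ (Over (Spec (CommRingCat.of k))) ⟶ P) ≫ q) hδ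
    simp only [MonObj.comp_mul, ← Category.assoc, hs1, _root_.one_mul, MonObj.one_comp] at h1 ⊢
    exact h1.symm))
  rw [hδ1, MonObj.one_comp, _root_.mul_one] at hδ
  have hdec : 𝟙 E = r * (ε ≫ u) := by
    simp only [r]; rw [GrpObj.inv_comp, inv_mul_cancel_right]
  calc φ.hom = 𝟙 E ≫ φ.hom := (Category.id_comp _).symm
    _ = (r * (ε ≫ u)) ≫ φ.hom := by rw [hdec]
    _ = r * (ε ≫ u) := by rw [MonObj.mul_comp, Category.assoc, hφu, ← hs, Category.assoc, hδ]
    _ = 𝟙 E := hdec.symm

end Groth.Agent.S8708
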