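import Groth.Statements.S8709
import Groth.Agent.SGA7.UnitOnProduct

set_option autoImplicit false
universe u
open CategoryTheory CategoryTheory.Limits MonoidalCategory CartesianMonoidalCategory MonObj AlgebraicGeometry
open SGA7

namespace Groth.Agent.S8709

/-- Let k be a field and X, Y two k-schemes of finite type which are geometrically reduced and
geometrically connected, with rational points e_X and e_Y. Then every k-morphism u from X ×_k Y to
the multiplicative group whose restrictions to X × e_Y and to e_X × Y are trivial is trivial.
(Morphisms to the multiplicative group over k form a group; trivial means equal to its unit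
element.) -/
theorem result (k : Type u) [Field k]
    (X Y : Over (Spec (CommRingCat.of k)))
    [LocallyOfFiniteType X.hom] [QuasiCompact X.hom] [GeometricallyReduced X.hom] [GeometricallyConnected X.hom]
    [LocallyOfFiniteType Y.hom] [QuasiCompact Y.hom] [GeometricallyReduced Y.hom] [GeometricallyConnected Y.hom]
    (eX : 𝟙_ (Over (Spec (CommRingCat.of k))) ⟶ X) (eY : 𝟙_ (Over (Spec (CommRingCat.of k))) ⟶ Y)
    (u : X ⊗ Y ⟶ Red.Gm (Spec (CommRingCat.of k)))
    (huX : lift (𝟙 X) (toUnit X ≫ eY) ≫ u = 1) (huY : lift (toUnit Y ≫ eX) (𝟙 Y) ≫ u = 1) :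
    u = 1 := by
  exact Groth.SGA7.UnitOnProduct.unit_eq_one X Y eX eY u huX huY

end Groth.Agent.S8709
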