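import Groth.Statements.S8710
import Groth.Agent.SGA7.TorSeq

set_option autoImplicit false
universe u
open CategoryTheory CategoryTheory.Limits
open SGA7

namespace Groth.Agent.S8710

/-- Let f : B' → B be a surjective map of R-algebras with B' flat over R, g : C → B a map of R-algebras,
P = B' ×_B C their fibre product (the equalizer of f ∘ pr₁ and g ∘ pr₂ in B' × C), S an R-algebra
and n a natural number. If Tor_i^R(C, S) = 0 for 0 < i < n and Tor_i^R(B, S) = 0 for 0 < i ≤ n, then
Tor_i^R(P, S) = 0 for 0 < i < n. Here Tor_i^R(M, S) is the i-th left derived functor of M ⊗_R − on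
R-modules, evaluated at S. (The published statement asks the vanishing for B only in degrees 0 < i <
n; the published proof and the corollary following it use it in degrees 0 < i ≤ n, which this row
assumes.) -/
theorem result (R B' B C S : Type u) [CommRing R] [CommRing B'] [CommRing B]
    [CommRing C] [CommRing S] [Algebra R B'] [Algebra R B] [Algebra R C] [Algebra R S]
    (f : B' →ₐ[R] B) (hf : Function.Surjective f) (g : C →ₐ[R] B) [Module.Flat R B'] (n : ℕ)
    (hC : ∀ i : ℕ, 0 < i → i < n →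
      IsZero (((Tor (ModuleCat.{u} R) i).obj (ModuleCat.of R C)).obj (ModuleCat.of R S)))
    (hB : ∀ i : ℕ, 0 < i → i ≤ n →
      IsZero (((Tor (ModuleCat.{u} R) i).obj (ModuleCat.of R B)).obj (ModuleCat.of R S))) :
    letI P := AlgHom.equalizer (f.comp (AlgHom.fst R B' C)) (g.comp (AlgHom.snd R B' C))
    ∀ i : ℕ, 0 < i → i < n →
      IsZero (((Tor (ModuleCat.{u} R) i).obj (ModuleCat.of R ↥P)).obj (ModuleCat.of R S)) := by
  intro i hi hin
  let P := AlgHom.equalizer (f.comp (AlgHom.fst R B' C)) (g.comp (AlgHom.snd R B' C))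
  let φ : (B' × C) →ₗ[R] B := f.toLinearMap ∘ₗ LinearMap.fst R B' C - g.toLinearMap ∘ₗ LinearMap.snd R B' C
  have hφ : Function.Surjective φ := fun b => by
    obtain ⟨x, hx⟩ := hf b
    exact ⟨(x, 0), by simp [φ, hx]⟩
  let S₁ : ShortComplex (ModuleCat.{u} R) := ShortComplex.mk
    (ModuleCat.ofHom (LinearMap.inl R B' C)) (ModuleCat.ofHom (LinearMap.snd R B' C))
    (ModuleCat.hom_ext (LinearMap.ext fun x => rfl))
  have hS₁ : S₁.ShortExact :=
    { exact := (ShortComplex.ShortExact.moduleCat_exact_iff_function_exact S₁).mpr (by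
        rintro ⟨x, y⟩
        change y = 0 ↔ _
        exact ⟨fun h => ⟨x, by subst h; rfl⟩, by rintro ⟨x', hx'⟩; exact (congrArg Prod.snd hx').symm⟩)
      mono_f := (ModuleCat.mono_iff_injective _).mpr (LinearMap.inl_injective (R := R) (M := B') (M₂ := C))
      epi_g := (ModuleCat.epi_iff_surjective _).mpr (LinearMap.snd_surjective (R := R) (M := B') (M₂ := C)) }
  let S₂ : ShortComplex (ModuleCat.{u} R) := ShortComplex.mk
    (ModuleCat.ofHom P.val.toLinearMap) (ModuleCat.ofHom φ)
    (ModuleCat.hom_ext (LinearMap.ext fun x => sub_eq_zero.mpr ((AlgHom.mem_equalizer _ _ _).mp x.2)))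
  have hS₂ : S₂.ShortExact :=
    { exact := (ShortComplex.ShortExact.moduleCat_exact_iff_function_exact S₂).mpr (by
        intro x
        change φ x = 0 ↔ _
        refine ⟨fun h => ⟨⟨x, (AlgHom.mem_equalizer _ _ _).mpr (sub_eq_zero.mp h)⟩, rfl⟩, ?_⟩
        rintro ⟨y, rfl⟩
        exact sub_eq_zero.mpr ((AlgHom.mem_equalizer _ _ _).mp y.2))
      mono_f := (ModuleCat.mono_iff_injective _).mpr Subtype.val_injective
      epi_g := (ModuleCat.epi_iff_surjective _).mpr hφ }
  refine Groth.SGA7.TorSeq.isZero_tor_X₁ hS₂ (ModuleCat.of R S) i (hB (i + 1) i.succ_pos hin) ?_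
  haveI : Module.Flat R (ModuleCat.of R B') := inferInstanceAs (Module.Flat R B')
  exact Groth.SGA7.TorSeq.isZero_tor_X₂ hS₁ (ModuleCat.of R S) i
    (Groth.SGA7.TorSeq.isZero_tor_of_flat (ModuleCat.of R B') _ i hi) (hC i hi hin)

end Groth.Agent.S8710
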