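import Groth.Statements.S8712
import Groth.Agent.ConstTorsor.Twisted.Main

set_option autoImplicit false
universe u
open CategoryTheory CategoryTheory.Limits MonoidalCategory CartesianMonoidalCategory MonObj AlgebraicGeometry
open SGA7

namespace Groth.Agent.S8712

/-- A constant group indexed by a small type is one indexed by a type in the universe of the schemes. -/
theorem exists_ulift {S' : Scheme.{u}} {M : Type} [Group M] {G : Over S'} [GrpObj G] {e : G ≅ TwC.const S' M}
    (he : TwC.IsConstGrp M G e) : ∃ e' : G ≅ TwC.const S' (ULift.{u} M), TwC.IsConstGrp (ULift.{u} M) G e' := by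
  let u' : TwC.const S' M ≅ TwC.const S' (ULift.{u} M) :=
    ⟨TwC.constMap S' ULift.up, TwC.constMap S' ULift.down,
      Over.OverMorphism.ext (Sigma.hom_ext _ _ fun m => by simp [TwC.constMap]),
      Over.OverMorphism.ext (Sigma.hom_ext _ _ fun m => by simp [TwC.constMap])⟩
  have hpt : ∀ m : ULift.{u} M, TwC.pt S' (ULift.{u} M) m ≫ (e ≪≫ u').inv = TwC.pt S' M m.down ≫ e.inv := fun m => by
    rw [Iso.trans_inv, ← Category.assoc]
    congr 1
    exact Over.OverMorphism.ext (by simp [TwC.pt, TwC.constMap, u'])
  exact ⟨e ≪≫ u', fun m n => by rw [hpt, hpt, hpt]; exact he m.down n.down⟩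

/-- The vanishing of Ext¹(P, M) proved there: let S be a scheme, P a commutative S-group scheme which is
smooth and of finite presentation over S (smooth, quasi-compact, quasi-separated) with geometrically
connected fibres, M a commutative S-group scheme which is a twisted constant group with fibres Z^r:
after a flat surjective base change S' → S which is an fpqc covering, Zariski-locally on S', M
becomes the constant group scheme of Z^r for some r (allowed to vary), and u : M → E, v : E → P
homomorphisms of commutative S-group schemes forming a sequence 1 → M → E → P → 1 exact for the fppf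
topology. Then every homomorphism P → M is trivial, and the extension E of P by M is trivial: there
is a homomorphism s : P → E with s followed by v equal to the identity of P. -/
theorem result (S : Scheme.{u})
    (P E M : Over S) [GrpObj P] [GrpObj E] [GrpObj M] [IsCommMonObj P] [IsCommMonObj E] [IsCommMonObj M]
    [Smooth P.hom] [QuasiCompact P.hom] [QuasiSeparated P.hom] [GeometricallyConnected P.hom]
    (hM : TwC.Locally S TwC.Topology.fpqc (fun S' f =>
      ∃ (r : ℕ) (e : Red.bc f M ≅ TwC.const S' (Multiplicative (Fin r → ℤ))),
        TwC.IsConstGrp (Multiplicative (Fin r → ℤ)) (Red.bc f M) e))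
    (u : M ⟶ E) (v : E ⟶ P) (hex : NonAbH1.IsExactSeq Scheme.fppfPrecoverage u v) :
    (∀ φ : P ⟶ M, IsMonHom φ → φ = 1) ∧ ∃ s : P ⟶ E, IsMonHom s ∧ s ≫ v = 𝟙 P := by
  obtain ⟨J, C, hC, hloc⟩ := Groth.ConstTorsor.Twisted.exists_isCover _ hM
  choose r e he using hloc
  choose e' he' using fun i => exists_ulift (he i)
  refine ⟨fun φ hφ => Groth.ConstTorsor.Twisted.hom_eq_one hC e' he' φ hφ.one_hom,
    Groth.ConstTorsor.Twisted.exists_splitting hC e' he' (fun i z hz => ?_) hex⟩
  have h := (MulEquiv.ulift (α := Multiplicative (Fin (r i) → ℤ))).toMonoidHom.isOfFinOrder hz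
  obtain ⟨n, hn, hpow⟩ := isOfFinOrder_iff_pow_eq_one.mp h
  refine MulEquiv.ulift.injective (Eq.trans ?_ (map_one _).symm)
  change z.down ^ n = 1 at hpow
  show z.down = 1
  refine Multiplicative.toAdd.injective (funext fun k => ?_)
  have hk : n • (Multiplicative.toAdd z.down k) = 0 := congrFun (congrArg Multiplicative.toAdd hpow) k
  exact (smul_eq_zero.mp hk).resolve_left hn.ne'

end Groth.Agent.S8712
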