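import Groth.Statements.S8716
import Groth.Agent.SGA7.Ext
import Groth.Agent.SGA7.ConstPoints

set_option autoImplicit false
universe u
open CategoryTheory CategoryTheory.Limits MonoidalCategory CartesianMonoidalCategory MonObj AlgebraicGeometry
open SGA7 Groth.SGA7 Groth.SGA7.Ext

namespace Groth.Agent.S8716

/-- Let k be a field, Z a commutative group without non-trivial elements of finite order, P a
commutative k-group scheme of finite type (so that its group of connected components is a finite,
hence torsion, group), G the constant k-group scheme Z_k (through the isomorphism eG), and u : G →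
E, v : E → P homomorphisms of commutative k-group schemes forming a sequence 1 → G → E → P → 1 exact
for the fppf topology. Then the extension is rigid: every automorphism of the k-group scheme E
compatible with u and v is the identity. (The published statement assumes only P locally of finite
type with torsion component group; this row takes P of finite type, the case it names.) -/
theorem result (k : Type u) [Field k]
    (Z : Type u) [CommGroup Z] (hZ : ∀ z : Z, IsOfFinOrder z → z = 1)
    (P E G : Over (Spec (CommRingCat.of k))) [GrpObj P] [GrpObj E] [GrpObj G]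
    [IsCommMonObj P] [IsCommMonObj E]
    [LocallyOfFiniteType P.hom] [QuasiCompact P.hom]
    (eG : G ≅ TwC.const (Spec (CommRingCat.of k)) Z) (hG : TwC.IsConstGrp Z G eG)
    (u : G ⟶ E) (v : E ⟶ P) (hex : NonAbH1.IsExactSeq Scheme.fppfPrecoverage u v)
    (φ : E ≅ E) [IsMonHom φ.hom] (hφu : u ≫ φ.hom = u) (hφv : φ.hom ≫ v = v) :
    φ.hom = 𝟙 E := by
  classical
  have := hex.1
  have := hex.2.1
  -- the difference of `φ` and the identity
  obtain ⟨d, hd⟩ := exists_translate hex (𝟙 E) φ.hom (by rw [hφv, Category.id_comp])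
  have hd' : ∀ {T : Over (Spec (CommRingCat.of k))} (x : T ⟶ E), x ≫ φ.hom = x * ((x ≫ d) ≫ u) := fun x => by
    rw [hd, MonObj.comp_mul, Category.comp_id, Category.assoc]
  have hdc : ∀ (T : Over (Spec (CommRingCat.of k))) (x y : T ⟶ E), x ≫ v = y ≫ v → x ≫ d = y ≫ d := by
    intro T x y hxy
    obtain ⟨g, rfl⟩ := exists_translate hex x y hxy
    refine u_injective hex ?_
    have h1 := hd' (x * (g ≫ u))
    rw [MonObj.mul_comp, hd', Category.assoc g u, hφu, mul_right_comm] at h1
    exact mul_left_cancel h1
  obtain ⟨c, hc⟩ := (locSurj hex).desc d hdc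
  have hdmul : ∀ {T : Over (Spec (CommRingCat.of k))} (x y : T ⟶ E), (x * y) ≫ d = (x ≫ d) * (y ≫ d) := by
    intro T x y
    refine u_injective hex ?_
    have h1 := hd' (x * y)
    rw [MonObj.mul_comp, hd', hd', _root_.mul_mul_mul_comm] at h1
    rw [MonObj.mul_comp (x ≫ d) (y ≫ d) u]
    exact (mul_left_cancel h1).symm
  have hcmul : (fst P P * snd P P) ≫ c = (fst P P ≫ c) * (snd P P ≫ c) := by
    refine ((locSurj hex).tensor (locSurj hex)).cancel ?_
    have e1 : (v ⊗ₘ v) ≫ (fst P P * snd P P) = (fst E E * snd E E) ≫ v := by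
      rw [MonObj.comp_mul, tensorHom_fst, tensorHom_snd, MonObj.mul_comp]
    rw [← Category.assoc, e1, Category.assoc, hc, hdmul, MonObj.comp_mul, tensorHom_fst_assoc,
      tensorHom_snd_assoc, hc]
  -- its values form a finite submonoid, hence are trivial
  have : CompactSpace P.left := (quasiCompact_iff_compactSpace P.hom).mp inferInstance
  have hfin : (Set.range (ConstPoints.ix eG c)).Finite := (ConstPoints.isLocallyConstant_ix c).range_finite
  have hclosed : ∀ z ∈ Set.range (ConstPoints.ix eG c), ∀ w ∈ Set.range (ConstPoints.ix eG c),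
      z * w ∈ Set.range (ConstPoints.ix eG c) := by
    rintro _ ⟨p, rfl⟩ _ ⟨q, rfl⟩
    obtain ⟨r, hr1, hr2⟩ := Scheme.Pullback.exists_preimage_pullback (f := P.hom) (g := P.hom) p q (Subsingleton.elim _ _)
    refine ⟨(fst P P * snd P P).left.base r, ?_⟩
    rw [← ConstPoints.ix_comp, hcmul, ConstPoints.ix_mul hG, ConstPoints.ix_comp, ConstPoints.ix_comp]
    exact congrArg₂ (· * ·) (congrArg _ hr1) (congrArg _ hr2)
  have hone : ∀ p, ConstPoints.ix eG c p = 1 := by
    intro p
    refine hZ _ ?_
    have hpow : ∀ n : ℕ, ConstPoints.ix eG c p ^ (n + 1) ∈ Set.range (ConstPoints.ix eG c) := fun n => by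
      induction n with
      | zero => exact ⟨p, by simp⟩
      | succ n ih => rw [pow_succ]; exact hclosed _ ih _ ⟨p, rfl⟩
    obtain ⟨i, -, j, -, hij, he⟩ := Set.infinite_univ.exists_ne_map_eq_of_mapsTo
      (f := fun n : ℕ => ConstPoints.ix eG c p ^ (n + 1)) (fun n _ => hpow n) hfin
    by_contra h
    exact hij (Nat.succ_injective ((injective_pow_iff_not_isOfFinOrder.mpr h) he))
  have hc1 : c = 1 := ConstPoints.ix_ext (e := eG) (funext fun p => by rw [hone, ConstPoints.ix_one hG])
  rw [hd, ← hc, hc1, MonObj.comp_one, MonObj.one_comp, _root_.mul_one]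

end Groth.Agent.S8716
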