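import Groth.Statements.S8718
import Groth.Agent.SGA7.Ext

set_option autoImplicit false
universe u
open CategoryTheory CategoryTheory.Limits MonoidalCategory CartesianMonoidalCategory MonObj AlgebraicGeometry
open SGA7

namespace Groth.Agent.S8718
open Groth.SGA7


/-- For group schemes over a base scheme S (the representable case on the fppf site): let P and G be
S-group schemes with G commutative, and u : G → E, v : E → P homomorphisms of S-group schemes
forming a sequence 1 → G → E → P → 1 exact for the fppf topology. Suppose every morphism of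
S-schemes P ×_S G → G whose restrictions to P × e_G and to e_P × G are trivial is trivial. Then u(G)
is central in E: for all points g of G and x of E with values in any S-scheme, u(g) x = x u(g). If
moreover P is commutative and every morphism of S-schemes P ×_S P → G trivial on P × e_P and on e_P
× P is trivial, then E is commutative. (The published statement is for sheaves of groups on an
arbitrary topos; this row is its case of representable sheaves on the fppf site of S. Morphisms to G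
form a group; trivial means equal to its unit.) -/
theorem result (S : Scheme.{u})
    (P G E : Over S) [GrpObj P] [GrpObj G] [GrpObj E] [IsCommMonObj G]
    (u : G ⟶ E) (v : E ⟶ P) (hex : NonAbH1.IsExactSeq Scheme.fppfPrecoverage u v)
    (hPG : ∀ f : P ⊗ G ⟶ G, lift (𝟙 P) (toUnit P ≫ η[G]) ≫ f = 1 → lift (toUnit G ≫ η[P]) (𝟙 G) ≫ f = 1 → f = 1) :
    (∀ (T : Over S) (g : T ⟶ G) (x : T ⟶ E), (g ≫ u) * x = x * (g ≫ u)) ∧
      (IsCommMonObj P →
        (∀ f : P ⊗ P ⟶ G, lift (𝟙 P) (toUnit P ≫ η[P]) ≫ f = 1 → lift (toUnit P ≫ η[P]) (𝟙 P) ≫ f = 1 → f = 1) →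
          IsCommMonObj E) := by
  have := hex.1
  have := hex.2.1
  set δ : E ⊗ G ⟶ E := (snd E G ≫ u) * fst E G * (snd E G ≫ u)⁻¹ * (fst E G)⁻¹ with hδ
  have hδv : δ ≫ v = 1 := by
    simp only [hδ, MonObj.mul_comp, GrpObj.inv_comp, Ext.comp_eq_one hex, _root_.one_mul, inv_one, _root_.mul_one,
      mul_inv_cancel]
  obtain ⟨d, hd⟩ := Ext.exists_kernel hex δ hδv
  have hpt : ∀ (T : Over S) (x : T ⟶ E) (g : T ⟶ G),
      (lift x g ≫ d) ≫ u = (g ≫ u) * x * (g ≫ u)⁻¹ * x⁻¹ := by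
    intro T x g
    rw [Category.assoc, ← hd, hδ]
    simp only [MonObj.comp_mul, GrpObj.comp_inv, ← Category.assoc, lift_fst, lift_snd]
  have hGcomm : ∀ (T : Over S) (g h : T ⟶ G), (g ≫ u) * (h ≫ u) = (h ≫ u) * (g ≫ u) := fun T g h => by
    rw [← MonObj.mul_comp, ← MonObj.mul_comp, mul_comm g h]
  obtain ⟨c, hc⟩ := ((Ext.locSurj hex).tensor (Ext.LocSurj.id G)).desc d (by
    intro T p p' hpp'
    have hp : p ≫ fst E G ≫ v = p' ≫ fst E G ≫ v := by
      simpa [Category.assoc] using congrArg (fun z => z ≫ fst P G) hpp'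
    have hp' : p' ≫ snd E G = p ≫ snd E G := by
      simpa [Category.assoc] using congrArg (fun z => z ≫ snd P G) hpp'.symm
    obtain ⟨h, hh⟩ := Ext.exists_translate hex (p ≫ fst E G) (p' ≫ fst E G) (by simpa [Category.assoc] using hp)
    rw [show p = lift (p ≫ fst E G) (p ≫ snd E G) by simp, show p' = lift (p' ≫ fst E G) (p' ≫ snd E G) by simp]
    apply Ext.u_injective hex
    rw [hpt, hpt, hh, hp']
    generalize p ≫ fst E G = x
    generalize p ≫ snd E G = g
    have e : (g ≫ u) * (x * (h ≫ u)) * (g ≫ u)⁻¹ * (x * (h ≫ u))⁻¹ =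
        (g ≫ u) * x * ((h ≫ u) * (g ≫ u)⁻¹ * (h ≫ u)⁻¹) * x⁻¹ := by group
    have e' : (h ≫ u) * (g ≫ u)⁻¹ * (h ≫ u)⁻¹ = (g ≫ u)⁻¹ := by
      rw [← GrpObj.inv_comp, hGcomm T h g⁻¹, mul_inv_cancel_right]
    rw [e, e'])
  have hc1 : c = 1 := by
    refine hPG c ?_ ?_
    · apply (Ext.locSurj hex).cancel
      have : v ≫ lift (𝟙 P) (toUnit P ≫ η[G]) = lift (𝟙 E) (1 : E ⟶ G) ≫ (v ⊗ₘ 𝟙 G) := by
        rw [← Hom.one_def, comp_lift, lift_map, Category.comp_id, Category.id_comp, MonObj.comp_one, Category.comp_id]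
      rw [← Category.assoc, this, Category.assoc, hc, MonObj.comp_one]
      apply Ext.u_injective hex
      rw [hpt, MonObj.one_comp, _root_.one_mul, inv_one, _root_.mul_one, mul_inv_cancel]
    · have : lift (toUnit G ≫ η[P]) (𝟙 G) = lift (1 : G ⟶ E) (𝟙 G) ≫ (v ⊗ₘ 𝟙 G) := by
        rw [← Hom.one_def, lift_map, MonObj.one_comp, Category.comp_id]
      rw [this, Category.assoc, hc]
      apply Ext.u_injective hex
      rw [hpt, MonObj.one_comp, _root_.mul_one, mul_inv_cancel, _root_.one_mul, inv_one]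
  rw [hc1, MonObj.comp_one] at hc
  have hcentral : ∀ (T : Over S) (g : T ⟶ G) (x : T ⟶ E), (g ≫ u) * x = x * (g ≫ u) := by
    intro T g x
    have := hpt T x g
    rw [← hc, MonObj.comp_one, MonObj.one_comp, eq_comm, mul_inv_eq_one, mul_inv_eq_iff_eq_mul] at this
    exact this
  refine ⟨hcentral, fun hP hPP => ?_⟩
  set δ' : E ⊗ E ⟶ E := fst E E * snd E E * (fst E E)⁻¹ * (snd E E)⁻¹ with hδ'
  have hδ'v : δ' ≫ v = 1 := by
    simp only [hδ', MonObj.mul_comp, GrpObj.inv_comp]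
    rw [mul_comm (fst E E ≫ v) (snd E E ≫ v)]
    group
  obtain ⟨d', hd'⟩ := Ext.exists_kernel hex δ' hδ'v
  have hpt' : ∀ (T : Over S) (x y : T ⟶ E), (lift x y ≫ d') ≫ u = x * y * x⁻¹ * y⁻¹ := by
    intro T x y
    rw [Category.assoc, ← hd', hδ']
    simp only [MonObj.comp_mul, GrpObj.comp_inv, lift_fst, lift_snd]
  obtain ⟨c', hc'⟩ := ((Ext.locSurj hex).tensor (Ext.locSurj hex)).desc d' (by
    intro T p p' hpp'
    have hp : p ≫ fst E E ≫ v = p' ≫ fst E E ≫ v := by
      simpa [Category.assoc] using congrArg (fun z => z ≫ fst P P) hpp'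
    have hp' : p ≫ snd E E ≫ v = p' ≫ snd E E ≫ v := by
      simpa [Category.assoc] using congrArg (fun z => z ≫ snd P P) hpp'
    obtain ⟨g, hg⟩ := Ext.exists_translate hex (p ≫ fst E E) (p' ≫ fst E E) (by simpa [Category.assoc] using hp)
    obtain ⟨h, hh⟩ := Ext.exists_translate hex (p ≫ snd E E) (p' ≫ snd E E) (by simpa [Category.assoc] using hp')
    rw [show p = lift (p ≫ fst E E) (p ≫ snd E E) by simp, show p' = lift (p' ≫ fst E E) (p' ≫ snd E E) by simp]
    apply Ext.u_injective hex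
    rw [hpt', hpt', hg, hh]
    generalize p ≫ fst E E = x
    generalize p ≫ snd E E = y
    have cg : ∀ z : T ⟶ E, Commute (g ≫ u) z := fun z => hcentral T g z
    have ch : ∀ z : T ⟶ E, Commute (h ≫ u) z := fun z => hcentral T h z
    have e : x * (g ≫ u) * (y * (h ≫ u)) * (x * (g ≫ u))⁻¹ * (y * (h ≫ u))⁻¹ =
        x * y * x⁻¹ * y⁻¹ * ((g ≫ u) * (g ≫ u)⁻¹) * ((h ≫ u) * (h ≫ u)⁻¹) := by
      have a1 : x * (g ≫ u) * (y * (h ≫ u)) * (x * (g ≫ u))⁻¹ * (y * (h ≫ u))⁻¹ =
          x * ((g ≫ u) * (y * (h ≫ u))) * (g ≫ u)⁻¹ * x⁻¹ * (h ≫ u)⁻¹ * y⁻¹ := by group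
      rw [a1, (cg _).eq]
      have a2 : x * (y * (h ≫ u) * (g ≫ u)) * (g ≫ u)⁻¹ * x⁻¹ * (h ≫ u)⁻¹ * y⁻¹ =
          x * y * ((h ≫ u) * x⁻¹) * (h ≫ u)⁻¹ * y⁻¹ := by group
      rw [a2, (ch _).eq]
      group
    rw [e, mul_inv_cancel, mul_inv_cancel, _root_.mul_one, _root_.mul_one])
  have hc'1 : c' = 1 := by
    refine hPP c' ?_ ?_
    · apply (Ext.locSurj hex).cancel
      have : v ≫ lift (𝟙 P) (toUnit P ≫ η[P]) = lift (𝟙 E) (1 : E ⟶ E) ≫ (v ⊗ₘ v) := by
        rw [← Hom.one_def, comp_lift, lift_map, Category.comp_id, Category.id_comp, MonObj.comp_one, MonObj.one_comp]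
      rw [← Category.assoc, this, Category.assoc, hc', MonObj.comp_one]
      apply Ext.u_injective hex
      rw [hpt', MonObj.one_comp, _root_.mul_one, mul_inv_cancel, _root_.one_mul, inv_one]
    · apply (Ext.locSurj hex).cancel
      have : v ≫ lift (toUnit P ≫ η[P]) (𝟙 P) = lift (1 : E ⟶ E) (𝟙 E) ≫ (v ⊗ₘ v) := by
        rw [← Hom.one_def, comp_lift, lift_map, Category.comp_id, Category.id_comp, MonObj.comp_one, MonObj.one_comp]
      rw [← Category.assoc, this, Category.assoc, hc', MonObj.comp_one]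
      apply Ext.u_injective hex
      rw [hpt', MonObj.one_comp, _root_.one_mul, inv_one, _root_.mul_one, mul_inv_cancel]
  rw [hc'1, MonObj.comp_one] at hc'
  rw [← hc', MonObj.one_comp, hδ', mul_inv_eq_one, mul_inv_eq_iff_eq_mul] at hd'
  refine ⟨?_⟩
  rw [MonObj.mul_eq_mul (M := E), MonObj.comp_mul, braiding_hom_fst, braiding_hom_snd]
  exact hd'.symm

end Groth.Agent.S8718
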