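import Groth.Statements.S8719
import Groth.Agent.SGA7.PowerSeries

set_option autoImplicit false
universe u
open VanCyc

namespace Groth.Agent.S8719

/-- The formal computation carried out in its proof: let k be a field and f a power series in k[[x_0,
..., x_n]] with vanishing constant and linear terms whose degree-two part is a non-degenerate
quadratic form (the Gram determinant of its polar bilinear form is a unit). Then the partial
derivatives of f generate the maximal ideal of k[[x_0, ..., x_n]] (so f together with its partial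
derivatives cut out the origin with multiplicity one). -/
theorem result (k : Type u) [Field k] (n : ℕ)
    (f : MvPowerSeries (Fin (n + 1)) k) (hf : VanCyc.NondegQuadSeries f) :
    Ideal.span (Set.range fun i : Fin (n + 1) => MvPowerSeries.pderiv k i f) =
      IsLocalRing.maximalIdeal (MvPowerSeries (Fin (n + 1)) k) := by
  classical
  obtain ⟨⟨h0, h1⟩, hdet⟩ := hf
  set a := VanCyc.quadPart f with ha
  set I := Ideal.span (Set.range fun i : Fin (n + 1) => MvPowerSeries.pderiv k i f)
  have hlin : ∀ i j, MvPowerSeries.coeff (Finsupp.single j 1) (MvPowerSeries.pderiv k i f) = VanCyc.polarMatrix a i j := by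
    intro i j
    rw [MvPowerSeries.coeff_pderiv]
    unfold VanCyc.polarMatrix
    simp only [ha, VanCyc.quadPart]
    rcases lt_trichotomy i j with h | h | h
    · simp [h.ne, h, Finsupp.single_eq_of_ne h.ne, add_comm (Finsupp.single j 1)]
    · subst h
      simp [← Finsupp.single_add, one_add_one_eq_two, mul_comm]
    · simp [h.ne', h.not_gt, h, h.ne, Finsupp.single_eq_of_ne h.ne']
  have hc0 : ∀ i, MvPowerSeries.constantCoeff (MvPowerSeries.pderiv k i f) = 0 := fun i => by
    rw [Groth.SGA7.PS.coeff_add_single_eq]; exact h1 i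
  rw [Groth.SGA7.PS.maximalIdeal_eq]
  refine le_antisymm (Ideal.span_le.mpr ?_) (Groth.SGA7.PS.le_of_le_sup_mul fun g hg => ?_)
  · rintro _ ⟨i, rfl⟩
    exact (Groth.SGA7.PS.mem_varIdeal_iff _).mpr (hc0 i)
  · rw [Groth.SGA7.PS.mem_varIdeal_iff] at hg
    let c : Fin (n + 1) → k := fun j => MvPowerSeries.coeff (Finsupp.single j 1) g
    let b : Fin (n + 1) → k := Matrix.vecMul c (VanCyc.polarMatrix a)⁻¹
    have hb : Matrix.vecMul b (VanCyc.polarMatrix a) = c := by
      rw [Matrix.vecMul_vecMul, Matrix.nonsing_inv_mul _ hdet, Matrix.vecMul_one]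
    set s := ∑ i, MvPowerSeries.C (b i) * MvPowerSeries.pderiv k i f with hs
    have hsI : s ∈ I := Ideal.sum_mem _ fun i _ => Ideal.mul_mem_left _ _ (Ideal.subset_span ⟨i, rfl⟩)
    rw [← add_sub_cancel s g]
    refine Submodule.add_mem_sup hsI ?_
    rw [← pow_two]
    refine Groth.SGA7.PS.mem_varIdeal_sq _ ?_ fun j => ?_
    · simp [hs, hg, hc0]
    · rw [map_sub, sub_eq_zero, hs, map_sum]
      simp only [MvPowerSeries.coeff_C_mul, hlin]
      exact (congrFun hb j).symm

end Groth.Agent.S8719
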