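import Groth.Statements.S8720
import Groth.Agent.SGA7.PowerSeries
import Mathlib.Algebra.CharP.Two

set_option autoImplicit false
universe u
open VanCyc

namespace Groth.Agent.S8720

/-- The formal computation carried out in its proof: let k be a field of characteristic 2, m a natural
number, and f a power series over k in the variables x_0 and x_i, x_i' (i = 1, ..., m) whose terms
of degree less than 3 are exactly those of x_0^2 + x_1 x_1' + ... + x_m x_m'. Then the ideal
generated by f and all its partial derivatives is the ideal generated by x_0^2 and the x_i, x_i',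
and the quotient of the power series ring by this ideal is two-dimensional over k. (Characteristic 2
is what makes the derivative in x_0 lose its linear term.) -/
theorem result (k : Type u) [Field k] [CharP k 2] (m : ℕ)
    (f : MvPowerSeries (Option (Fin m ⊕ Fin m)) k)
    (hf : ∀ d : Option (Fin m ⊕ Fin m) →₀ ℕ, d.degree < 3 →
      MvPowerSeries.coeff d f = MvPowerSeries.coeff d
        (MvPowerSeries.X none ^ 2 +
          ∑ i : Fin m, MvPowerSeries.X (some (Sum.inl i)) * MvPowerSeries.X (some (Sum.inr i)))) :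
    Ideal.span ({f} ∪ Set.range fun i : Option (Fin m ⊕ Fin m) => MvPowerSeries.pderiv k i f) =
      Ideal.span ({MvPowerSeries.X none ^ 2} ∪
        Set.range fun j : Fin m ⊕ Fin m => (MvPowerSeries.X (some j) : MvPowerSeries (Option (Fin m ⊕ Fin m)) k)) ∧
    Module.finrank k (MvPowerSeries (Option (Fin m ⊕ Fin m)) k ⧸
      Ideal.span ({MvPowerSeries.X none ^ 2} ∪
        Set.range fun j : Fin m ⊕ Fin m => (MvPowerSeries.X (some j) : MvPowerSeries (Option (Fin m ⊕ Fin m)) k))) = 2 := by
  classical
  set q : MvPowerSeries (Option (Fin m ⊕ Fin m)) k := MvPowerSeries.X none ^ 2 +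
          ∑ i : Fin m, MvPowerSeries.X (some (Sum.inl i)) * MvPowerSeries.X (some (Sum.inr i)) with hq
  let sw : Fin m ⊕ Fin m → Fin m ⊕ Fin m := Sum.swap
  set I := Ideal.span ({f} ∪ Set.range fun i : Option (Fin m ⊕ Fin m) => MvPowerSeries.pderiv k i f) with hI
  set J := Ideal.span ({MvPowerSeries.X none ^ 2} ∪
        Set.range fun j : Fin m ⊕ Fin m => (MvPowerSeries.X (some j) : MvPowerSeries (Option (Fin m ⊕ Fin m)) k)) with hJ
  let V := Groth.SGA7.PS.varIdeal (Option (Fin m ⊕ Fin m)) k
  have hJX : ∀ j, MvPowerSeries.X (some j) ∈ J := fun j => Ideal.subset_span (Or.inr ⟨j, rfl⟩)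
  have hJ0 : MvPowerSeries.X none ^ 2 ∈ J := Ideal.subset_span (Or.inl rfl)
  have hV2 : ∀ P : Ideal _, MvPowerSeries.X none ^ 2 ∈ P → V * J ≤ P → V ^ 2 ≤ P := by
    intro P h0 hP
    rw [pow_two, show V * V = Ideal.span (Set.range MvPowerSeries.X) * Ideal.span (Set.range MvPowerSeries.X) from rfl,
      Ideal.span_mul_span, Ideal.span_le]
    rintro _ hx
    obtain ⟨_, ⟨a, rfl⟩, _, ⟨b, rfl⟩, rfl⟩ := Set.mem_mul.mp hx
    rcases b with _ | b
    · rcases a with _ | a
      · simpa [pow_two] using h0
      · rw [mul_comm]; exact hP (Ideal.mul_mem_mul (Groth.SGA7.PS.X_mem _) (hJX _))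
    · exact hP (Ideal.mul_mem_mul (Groth.SGA7.PS.X_mem _) (hJX _))
  have hV2J : V ^ 2 ≤ J := hV2 J hJ0 Ideal.mul_le_right
  have hd3 : f - q ∈ V ^ 3 := Groth.SGA7.PS.mem_varIdeal_pow 3 _ fun d hd => by rw [map_sub, hf d hd, sub_self]
  have hd2 : ∀ i, MvPowerSeries.pderiv k i f - MvPowerSeries.pderiv k i q ∈ V ^ 2 := fun i => by
    refine Groth.SGA7.PS.mem_varIdeal_pow 2 _ fun d hd => ?_
    rw [← map_sub, MvPowerSeries.coeff_pderiv, map_sub, hf _ (by simp; omega), sub_self, zero_mul]
  have hpq : ∀ j, MvPowerSeries.pderiv k (some (sw j)) q = MvPowerSeries.X (some j) := by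
    intro j
    rcases j with j | j <;>
      simp [hq, sw, MvPowerSeries.pderiv_pow, MvPowerSeries.pderiv_X, Derivation.leibniz, Pi.single_apply]
  have hpq0 : MvPowerSeries.pderiv k none q = 0 := by
    have h2 : (2 : MvPowerSeries (Option (Fin m ⊕ Fin m)) k) = 0 := by
      rw [← map_ofNat MvPowerSeries.C 2, CharTwo.two_eq_zero, map_zero]
    simp [hq, MvPowerSeries.pderiv_pow, Derivation.leibniz, h2]
  have hqJ : q - MvPowerSeries.X none ^ 2 ∈ V * J := by
    rw [hq, add_sub_cancel_left]
    exact Ideal.sum_mem _ fun i _ => Ideal.mul_mem_mul (Groth.SGA7.PS.X_mem _) (hJX _)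
  have hIJ : I ≤ J := by
    rw [hI, Ideal.span_le]
    rintro g (rfl | ⟨i, rfl⟩)
    · have := J.add_mem (J.add_mem (hV2J (Ideal.pow_le_pow_right (by norm_num) hd3)) (Ideal.mul_le_right hqJ)) hJ0
      simpa using this
    · suffices MvPowerSeries.pderiv k i q ∈ J by
        simpa using J.add_mem (hV2J (hd2 i)) this
      rcases i with _ | j
      · rw [hpq0]; exact J.zero_mem
      · have := hpq (sw j)
        simp only [sw, Sum.swap_swap] at this
        rw [this]; exact hJX _
  have hJI : J ≤ I := by
    apply Groth.SGA7.PS.le_of_le_sup_mul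
    set P := I ⊔ Groth.SGA7.PS.varIdeal (Option (Fin m ⊕ Fin m)) k * J
    have hP : V * J ≤ P := le_sup_right
    have hV3 : V ^ 3 ≤ P := by
      rw [pow_succ']
      exact (Ideal.mul_mono_right hV2J).trans hP
    have h0 : MvPowerSeries.X none ^ 2 ∈ P := by
      have := P.sub_mem (P.sub_mem (Ideal.mem_sup_left (Ideal.subset_span (Or.inl rfl)) : f ∈ P) (hV3 hd3)) (hP hqJ)
      simpa using this
    rw [hJ, Ideal.span_le]
    rintro g (rfl | ⟨j, rfl⟩)
    · exact h0
    · have := P.sub_mem (Ideal.mem_sup_left (Ideal.subset_span (Or.inr ⟨some (sw j), rfl⟩)) :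
        MvPowerSeries.pderiv k (some (sw j)) f ∈ P) (hV2 P h0 hP (hd2 (some (sw j))))
      rw [sub_sub_cancel, hpq] at this
      exact this
  refine ⟨le_antisymm hIJ hJI, ?_⟩
  let L : MvPowerSeries (Option (Fin m ⊕ Fin m)) k →ₗ[k] k × k :=
    (MvPowerSeries.coeff 0).prod (MvPowerSeries.coeff (Finsupp.single none 1))
  have hL : Function.Surjective L := fun ⟨a, b⟩ =>
    ⟨MvPowerSeries.C a + MvPowerSeries.C b * MvPowerSeries.X none, by
      simp [L, MvPowerSeries.coeff_C, MvPowerSeries.coeff_X, MvPowerSeries.coeff_C_mul]⟩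
  have hker : LinearMap.ker L = J.restrictScalars k := by
    ext g
    constructor
    · intro hg
      simp only [LinearMap.mem_ker, L, LinearMap.prod_apply, Function.prod_apply, Prod.mk_eq_zero] at hg
      set s := ∑ j : Fin m ⊕ Fin m, MvPowerSeries.C (MvPowerSeries.coeff (Finsupp.single (some j) 1) g) * MvPowerSeries.X (some j) with hs
      have hsJ : s ∈ J := Ideal.sum_mem _ fun j _ => Ideal.mul_mem_left _ _ (hJX j)
      have : g - s ∈ V ^ 2 := by
        refine Groth.SGA7.PS.mem_varIdeal_sq _ ?_ fun i => ?_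
        · rw [map_sub, ← MvPowerSeries.coeff_zero_eq_constantCoeff_apply g, hg.1, hs]; simp
        · rcases i with _ | j
          · rw [map_sub, hg.2, hs]; simp [MvPowerSeries.coeff_X, MvPowerSeries.coeff_C_mul, Finsupp.single_left_inj]
          · rw [map_sub, hs, map_sum, sub_eq_zero]
            simp [MvPowerSeries.coeff_X, MvPowerSeries.coeff_C_mul, Finsupp.single_left_inj]
      simpa using J.add_mem (hV2J this) hsJ
    · intro hg
      replace hg : g ∈ J := hg
      have : MvPowerSeries.constantCoeff g = 0 ∧ MvPowerSeries.constantCoeff (MvPowerSeries.pderiv k none g) = 0 := by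
        induction hg using Submodule.span_induction with
        | mem x hx =>
          rcases hx with rfl | ⟨j, rfl⟩
          · simp [MvPowerSeries.pderiv_pow]
          · simp
        | zero => simp
        | add x y _ _ hx hy => simp [hx, hy]
        | smul r x _ hx => simp [Derivation.leibniz, hx]
      simp only [LinearMap.mem_ker, L, LinearMap.prod_apply, Function.prod_apply, Prod.mk_eq_zero]
      rw [MvPowerSeries.coeff_zero_eq_constantCoeff_apply, ← Groth.SGA7.PS.coeff_add_single_eq]
      exact this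
  have e := (Submodule.quotEquivOfEq _ _ hker.symm).trans (L.quotKerEquivOfSurjective hL)
  have e' := ((Submodule.Quotient.restrictScalarsEquiv k J).symm.trans e).finrank_eq
  rw [e', Module.finrank_prod, Module.finrank_self]

end Groth.Agent.S8720
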