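import Groth.Statements.S8721
import Groth.Agent.SGA7.QLinear

set_option autoImplicit false
universe u v
open SGA7II

namespace Groth.Agent.S8721

/-- Let k be a separably closed field of characteristic p > 0, q = p^r with r >= 1, V a
finite-dimensional k-vector space and phi : V -> V additive with phi(c v) = c^q phi(v). Let V_ss be
the intersection, over n >= 1, of the k-subspaces spanned by the images of the iterates phi^n (the
semisimple part of V). Then V_ss has a k-basis consisting of phi-fixed vectors, and every phi-fixed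
vector of V is a linear combination of this basis with coefficients c satisfying c^q = c; that is,
V_ss is obtained from the F_q-space of fixed vectors by extension of scalars. -/
theorem result (k : Type u) [Field k] [IsSepClosed k] (p : ℕ)
    [Fact p.Prime] [CharP k p] (r : ℕ) (hr : 0 < r) (V : Type v) [AddCommGroup V] [Module k V]
    [FiniteDimensional k V] (φ : V →+ V) (hφ : ∀ (c : k) (v : V), φ (c • v) = c ^ (p ^ r) • φ v) :
    let Vss : Submodule k V := ⨅ n : ℕ, Submodule.span k (Set.range (φ^[n + 1]))
    ∃ b : Module.Basis (Fin (Module.finrank k ↥Vss)) k ↥Vss, (∀ i, φ (b i : V) = (b i : V)) ∧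
      ∀ v : V, φ v = v → ∃ c : Fin (Module.finrank k ↥Vss) → k,
        (∀ i, c i ^ (p ^ r) = c i) ∧ v = ∑ i, c i • (b i : V) := by
  have hq1 : 1 < p ^ r := Nat.one_lt_pow hr.ne' (Fact.out : p.Prime).one_lt
  have hqk : ((p ^ r : ℕ) : k) = 0 := by rw [Nat.cast_pow, CharP.cast_eq_zero k p, zero_pow hr.ne']
  intro Vss
  obtain ⟨W, N, hW, hVss, hN, hlin, hss⟩ := Groth.SGA7.QLin.exists_ss_restrict (k := k) hφ
  have hVW : Vss = W := hVss
  subst hVW
  obtain ⟨b, hb⟩ := Groth.SGA7.QLin.exists_basis_fixed hq1 hqk hlin hss
  refine ⟨b, fun i => congrArg Subtype.val (hb i), fun v hv => ?_⟩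
  have hmem : v ∈ Vss := by simpa [Function.iterate_fixed hv N] using hN v
  refine ⟨fun i => b.repr ⟨v, hmem⟩ i, fun i => ?_, ?_⟩
  · rw [← Groth.SGA7.QLin.repr_pow_eq hlin b hb]
    congr 2
    exact Subtype.ext hv
  · have := congrArg Subtype.val (b.sum_repr ⟨v, hmem⟩)
    rw [Submodule.coe_sum] at this
    exact this.symm

end Groth.Agent.S8721
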