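import Groth.Statements.S8722
import Groth.Agent.SGA7.QLinear

set_option autoImplicit false
universe u v
open SGA7II

namespace Groth.Agent.S8722

/-- Let k be a separably closed field of characteristic p > 0, q = p^r with r >= 1, V a
finite-dimensional k-vector space and phi : V -> V additive with phi(c v) = c^q phi(v), semisimple
in the sense that its image spans V. Then for n >= 1 the fixed vectors of the n-th iterate of phi
are exactly the finite linear combinations of phi-fixed vectors with coefficients c satisfying
c^(q^n) = c; that is, the fixed space of phi^n is obtained from the F_q-space of phi-fixed vectors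
by extending scalars to F_{q^n}. -/
theorem result (k : Type u) [Field k] [IsSepClosed k] (p : ℕ)
    [Fact p.Prime] [CharP k p] (r : ℕ) (hr : 0 < r) (V : Type v) [AddCommGroup V] [Module k V]
    [FiniteDimensional k V] (φ : V →+ V) (hφ : ∀ (c : k) (v : V), φ (c • v) = c ^ (p ^ r) • φ v)
    (hss : Submodule.span k (Set.range φ) = ⊤) (n : ℕ) (hn : 0 < n) (v : V) :
    φ^[n] v = v ↔ ∃ (s : Finset V) (c : V → k), (∀ w ∈ s, φ w = w) ∧
      (∀ w ∈ s, c w ^ ((p ^ r) ^ n) = c w) ∧ v = ∑ w ∈ s, c w • w := by
  have hq1 : 1 < p ^ r := Nat.one_lt_pow hr.ne' (Fact.out : p.Prime).one_lt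
  have hqk : ((p ^ r : ℕ) : k) = 0 := by rw [Nat.cast_pow, CharP.cast_eq_zero k p, zero_pow hr.ne']
  classical
  obtain ⟨b, hb⟩ := Groth.SGA7.QLin.exists_basis_fixed hq1 hqk hφ hss
  constructor
  · intro hv
    refine ⟨Finset.univ.image b, fun w => if h : ∃ i, b i = w then b.repr v h.choose else 0, ?_, ?_, ?_⟩
    · intro w hw
      obtain ⟨i, -, rfl⟩ := Finset.mem_image.mp hw
      exact hb i
    · intro w hw
      obtain ⟨i, -, rfl⟩ := Finset.mem_image.mp hw
      have h : ∃ j, b j = b i := ⟨i, rfl⟩
      simp only [dif_pos h]
      conv_rhs => rw [← hv, Groth.SGA7.QLin.repr_iterate_eq hφ b hb]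
    · rw [Finset.sum_image fun i _ j _ h => b.injective h]
      conv_lhs => rw [← b.sum_repr v]
      refine Finset.sum_congr rfl fun i _ => ?_
      have h : ∃ j, b j = b i := ⟨i, rfl⟩
      simp only [dif_pos h]
      congr 2
      exact (b.injective h.choose_spec).symm
  · rintro ⟨s, c, hw, hc, rfl⟩
    clear hn
    induction s using Finset.induction_on with
    | empty => simp [iterate_map_zero]
    | insert a t ha ih =>
      rw [Finset.sum_insert ha, iterate_map_add,
        ih (fun w h => hw w (Finset.mem_insert_of_mem h)) (fun w h => hc w (Finset.mem_insert_of_mem h)),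
        Groth.SGA7.QLin.iterate_smul hφ, hc a (Finset.mem_insert_self a t),
        Function.iterate_fixed (hw a (Finset.mem_insert_self a t))]

end Groth.Agent.S8722
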