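import Groth.Statements.S8723
import Groth.Agent.ArSurfBasics.FieldConn
import Groth.Agent.ArSurfBasics.CohFlatSurj
import Groth.Agent.ArSurfBasics.CompList
import Groth.Agent.ArSurfBasics.GeomLength
import Groth.Agent.PicAux.Powers
import Groth.Agent.ModelsGraphs.InterLattice

set_option autoImplicit false
universe u
open CategoryTheory CategoryTheory.Limits AlgebraicGeometry
open ArSurf

namespace Groth.Agent.S8723

/-- Let R be a discrete valuation ring with residue field k and X an integral regular scheme of Krull
dimension 2, proper and flat over Spec R by f (a regular proper flat model whose fibres are curves).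
Write X_s for the special fibre and X_sbar for its base change to an algebraic closure of k. Assume
that X_s is geometrically connected (its base change to every field extension of k is connected) and
that the multiplicities of the irreducible components of X_sbar, i.e. the lengths of the local rings
of X_sbar at its maximal points, have greatest common divisor 1 (no prime divides all of them). Then
the canonical map k -> H^0(X_s, O_{X_s}) is bijective (X is cohomologically flat over R in degree
0). -/
theorem result (R : Type u) [CommRing R] [IsDomain R]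
    [IsDiscreteValuationRing R] {X : Scheme.{u}} (f : X ⟶ Spec (CommRingCat.of R)) [IsProper f] [Flat f]
    [IsIntegral X] (hreg : ∀ x : X, IsRegularLocalRing (X.presheaf.stalk x))
    (hdim : topologicalKrullDim X = 2)
    (hconn : ∀ (K : Type u) [Field K] [Algebra (IsLocalRing.ResidueField R) K],
      ConnectedSpace ↥(pullback f (Spec.map (CommRingCat.ofHom
        ((algebraMap (IsLocalRing.ResidueField R) K).comp (IsLocalRing.residue R))))))
    (hd : letI Xb := pullback f (Spec.map (CommRingCat.ofHom
        ((algebraMap (IsLocalRing.ResidueField R) (AlgebraicClosure (IsLocalRing.ResidueField R))).comp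
          (IsLocalRing.residue R))))
      ∀ ℓ : ℕ, ℓ.Prime → ∃ x : ↥Xb, (∀ y : ↥Xb, y ⤳ x → y = x) ∧
        ¬ (ℓ ∣ (Module.length (Xb.presheaf.stalk x) (Xb.presheaf.stalk x)).toNat)) :
    Function.Bijective
      (pullback.snd f (Spec.map (CommRingCat.ofHom (IsLocalRing.residue R)))).appTop.hom := by
  let X' : Over (Spec (CommRingCat.of R)) := Over.mk f
  haveI : IsProper X'.hom := ‹IsProper f›
  haveI : Flat X'.hom := ‹Flat f›
  haveI : IsLocallyNoetherian X'.left := LocallyOfFiniteType.isLocallyNoetherian f
  let k := IsLocalRing.ResidueField R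
  let res := Spec.map (CommRingCat.ofHom (IsLocalRing.residue R))
  haveI : IsClosedImmersion res := IsClosedImmersion.spec_of_surjective _ Ideal.Quotient.mk_surjective
  -- the closed fibre
  let Y : Scheme.{u} := pullback f res
  let i : Y ⟶ X := pullback.fst f res
  let p : Y ⟶ Spec (CommRingCat.of k) := pullback.snd f res
  have hker : i.ker = Models.specialFibreIdeal R X' := by
    rw [Models.specialFibreIdeal, Groth.ArSurfBasics.CohFlatSurj.idealSheaf_max]
    exact Scheme.IdealSheafData.ker_fst_of_isClosedImmersion res f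
  have hrange : Set.range i = Models.specialFibreSet R X' := by
    rw [← Groth.ArSurfBasics.CohFlatSurj.support_specialFibreIdeal, ← hker, Scheme.Hom.support_ker]
    exact i.isClosedEmbedding.isClosed_range.closure_eq.symm
  haveI : ConnectedSpace Y := hconn k
  have hpre : _root_.IsPreconnected (Models.specialFibreSet R X') :=
    hrange ▸ isPreconnected_range i.continuous
  obtain ⟨n, Γ, hΓ⟩ := Groth.ArSurfBasics.CompList.exists_componentList (X := X') hdim hpre
  -- base change to an algebraic closure
  let E := AlgebraicClosure k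
  let sE : Spec (CommRingCat.of E) ⟶ Spec (CommRingCat.of k) :=
    Spec.map (CommRingCat.ofHom (algebraMap k E))
  have hsq : IsPullback (pullback.fst p sE ≫ i) (pullback.snd p sE) f
      (Spec.map (CommRingCat.ofHom ((algebraMap k E).comp (IsLocalRing.residue R)))) := by
    have h := (IsPullback.of_hasPullback p sE).paste_horiz (IsPullback.of_hasPullback f res)
    rw [← Spec.map_comp] at h
    exact h
  haveI : ConnectedSpace (pullback f (Spec.map (CommRingCat.ofHom
      ((algebraMap k E).comp (IsLocalRing.residue R)))) : Scheme.{u}) := hconn E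
  -- the multiplicities are coprime
  have hgcd : Models.multGcd R X' Γ = 1 := by
    by_contra hne
    obtain ⟨ℓ, hℓ, hdvd⟩ := Nat.exists_prime_and_dvd hne
    obtain ⟨x, hx, hx'⟩ := hd ℓ hℓ
    obtain ⟨hmax, hlen⟩ :=
      Groth.ArSurfBasics.GeomLength.maximal_and_length_of_iso hsq.isoPullback.symm x hx
    refine hx' ?_
    rw [hlen]
    set y := hsq.isoPullback.symm.hom x
    let π := pullback.fst p sE
    haveI : Flat sE := (HasRingHomProperty.Spec_iff (P := @Flat)).mpr
      (RingHom.flat_algebraMap_iff.mpr inferInstance)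
    have hymax : ∀ w, w ⤳ π y → w = π y := Groth.FBaseGeom.maximal_apply_of_flat π hmax
    have hS : i (π y) ∈ Models.specialFibreSet R X' := hrange ▸ Set.mem_range_self _
    haveI : CompactSpace X'.left := QuasiCompact.compactSpace_of_compactSpace X'.hom
    obtain ⟨j, hj⟩ := Groth.ModelsGraphs.Inter.exists_specializes hΓ hS
    obtain ⟨w, hw⟩ : Models.genPtOf R X' (Γ j) ∈ Set.range i :=
      hrange ▸ Groth.ModelsGraphs.Inter.genPtOf_mem (Groth.ModelsGraphs.Inter.range_mem hΓ j)
    have hwy : w = π y := hymax w (i.isClosedEmbedding.isInducing.specializes_iff.1 (hw ▸ hj))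
    have hy : i (π y) = Models.genPtOf R X' (Γ j) := hwy ▸ hw
    obtain ⟨y₁, hy₁⟩ : π y ∈ Set.range Y.nilradical.subschemeι := by
      rw [Scheme.IdealSheafData.range_subschemeι, Scheme.nilradical, Scheme.IdealSheafData.support_radical,
        Scheme.IdealSheafData.support_bot]
      exact Set.mem_univ _
    obtain ⟨z, hz, -⟩ := Scheme.Pullback.exists_preimage_pullback
      (f := π) (g := Y.nilradical.subschemeι) y y₁ hy₁.symm
    rw [Groth.FBaseGeom.length_stalk_eq_mul π _ _ (IsPullback.of_hasPullback _ _) y hmax z hz,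
      ENat.toNat_mul,
      Groth.ArSurfBasics.CompList.length_stalk_eq_mult i hker (Γ j) (π y) hy]
    exact (hdvd.trans (Finset.gcd_dvd (Finset.mem_univ j))).trans (dvd_mul_right _ _)
  -- the functions form a field
  choose M _ hM using fun l => Groth.PicAux.exists_isInverseOf (Groth.PicAux.isInvertible_idealMod
    (Groth.ModelsGraphs.Inter.isEffCartier (X := X') hreg (Groth.ModelsGraphs.Inter.range_mem hΓ l)))
  have hF := Groth.ArSurfBasics.FieldConn.isFieldSub_specialFibre (X := X') hreg hΓ
    (fun l => Groth.PicAux.isInverseOf_symm (hM l)) hpre hgcd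
  obtain ⟨w₀, hw₀⟩ := Groth.ArSurfBasics.CohFlatSurj.exists_toResidue (X := X')
  have hFY : IsPullback (Models.specialFibreIdeal R X').subschemeι w₀ f res :=
    isPullback_of_isClosedImmersion _ _ _ _ hw₀.symm (by
      rw [Scheme.IdealSheafData.ker_subschemeι, Models.specialFibreIdeal,
        Groth.ArSurfBasics.CohFlatSurj.idealSheaf_max]
      rfl)
  haveI : IsIso hFY.isoPullback.hom.appTop :=
    inferInstanceAs (IsIso (hFY.isoPullback.hom.app ⊤))
  have hK : IsField Γ(Y, ⊤) :=
    (asIso hFY.isoPullback.hom.appTop).commRingCatIsoToRingEquiv.toMulEquiv.isField hF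
  letI := hK.toField
  letI : Algebra k Γ(Y, ⊤) := ((Scheme.ΓSpecIso (CommRingCat.of k)).inv ≫ p.appTop).hom.toAlgebra
  haveI : Module.Finite k Γ(Y, ⊤) := by
    have h := (Groth.ModelsGraphs.FieldChain.finite_toGlobal (Models.specialFibreIdeal R X'))
    have e : (CommRingCat.ofHom (IsLocalRing.residue R) ≫ (Scheme.ΓSpecIso (CommRingCat.of k)).inv ≫
        p.appTop) ≫ hFY.isoPullback.hom.appTop =
        CommRingCat.ofHom (show R →+* Γ((Models.specialFibreIdeal R X').subscheme, ⊤) from
          Coh.toGlobal ((Models.specialFibreIdeal R X').subschemeι ≫ X'.hom)) := by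
      change _ = (Scheme.ΓSpecIso (CommRingCat.of R)).inv ≫
        ((Models.specialFibreIdeal R X').subschemeι ≫ f).appTop
      rw [Category.assoc, Category.assoc, ← Scheme.Hom.comp_appTop, IsPullback.isoPullback_hom_snd,
        hFY.w, Scheme.Hom.comp_appTop, Scheme.ΓSpecIso_inv_naturality_assoc]
    let eΓ := (asIso hFY.isoPullback.hom.appTop).commRingCatIsoToRingEquiv
    have h2 : ((algebraMap k Γ(Y, ⊤)).comp (IsLocalRing.residue R)).Finite := by
      have h3 := (RingHom.Finite.of_surjective eΓ.symm.toRingHom eΓ.symm.surjective).comp h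
      convert h3 using 1
      refine RingHom.ext fun r => eΓ.injective ?_
      change _ = eΓ (eΓ.symm _)
      rw [RingEquiv.apply_symm_apply]
      exact congr($e r)
    exact h2.of_comp_finite
  let q : Y ⟶ Spec (CommRingCat.of Γ(Y, ⊤)) := Y.toSpecΓ
  have hq : q ≫ Spec.map (CommRingCat.ofHom (algebraMap k Γ(Y, ⊤))) = p := by
    change Y.toSpecΓ ≫ Spec.map ((Scheme.ΓSpecIso (CommRingCat.of k)).inv ≫ p.appTop) = p
    rw [Spec.map_comp, ← Scheme.toSpecΓ_naturality_assoc, toSpecΓ_SpecMap_ΓSpecIso_inv,
      Category.comp_id]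
  have hsq' : IsPullback (pullback.fst (q ≫ Spec.map (CommRingCat.ofHom (algebraMap k Γ(Y, ⊤)))) sE ≫ i)
      (pullback.snd _ sE) f
      (Spec.map (CommRingCat.ofHom ((algebraMap k E).comp (IsLocalRing.residue R)))) := by
    have h := (IsPullback.of_hasPullback (q ≫ Spec.map (CommRingCat.ofHom (algebraMap k Γ(Y, ⊤)))) sE)
    have h' : IsPullback i (q ≫ Spec.map (CommRingCat.ofHom (algebraMap k Γ(Y, ⊤)))) f res :=
      hq.symm ▸ IsPullback.of_hasPullback f res
    have h'' := h.paste_horiz h'
    rw [← Spec.map_comp] at h''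
    exact h''
  haveI : PreconnectedSpace (pullback (q ≫ Spec.map (CommRingCat.ofHom (algebraMap k Γ(Y, ⊤)))) sE :
      Scheme.{u}) :=
    hsq'.isoPullback.symm.hom.homeomorph.surjective.denseRange.preconnectedSpace
      hsq'.isoPullback.symm.hom.homeomorph.continuous
  have hone : Module.finrank k Γ(Y, ⊤) = 1 := by
    by_contra hne
    obtain ⟨ℓ, hℓ, hdvd⟩ := Nat.exists_prime_and_dvd hne
    obtain ⟨x, hx, hx'⟩ := hd ℓ hℓ
    obtain ⟨hmax, hlen⟩ :=
      Groth.ArSurfBasics.GeomLength.maximal_and_length_of_iso hsq'.isoPullback.symm x hx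
    exact hx' (hlen ▸ hdvd.trans
      (Groth.ArSurfBasics.GeomLength.finrank_dvd_length (k := k) (E := E) q _ hmax))
  have hbij : Function.Bijective (algebraMap k Γ(Y, ⊤)) :=
    (Algebra.bijective_algebraMap_iff (A := Γ(Y, ⊤))).2 (Subalgebra.bot_eq_top_of_finrank_eq_one hone).symm
  have : Function.Bijective
      (p.appTop.hom ∘ (Scheme.ΓSpecIso (CommRingCat.of k)).inv.hom) := hbij
  exact (Function.Bijective.of_comp_iff _
    (Scheme.ΓSpecIso (CommRingCat.of k)).symm.commRingCatIsoToRingEquiv.bijective).1 this

end Groth.Agent.S8723
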