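import Groth.Statements.S8724
import Mathlib.Algebra.BigOperators.Intervals
import Mathlib.Data.Nat.Choose.Sum
import Mathlib.Algebra.Ring.GeomSum
import Mathlib.Tactic

set_option autoImplicit false
open LefPen

namespace Groth.Agent.S8724

private theorem aux {R : Type*} [CommRing R] (y z : R) (c : ℕ → R) (N M : ℕ) (h : N ≤ M) :
    (y - z) * (∑ i ∈ Finset.range M, ∑ j ∈ Finset.range M, if i + j < N then c (i + j) * y ^ i * z ^ j else 0) =
      ∑ k ∈ Finset.range N, c k * (y ^ (k + 1) - z ^ (k + 1)) := by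
  have h1 : (∑ i ∈ Finset.range M, ∑ j ∈ Finset.range M, if i + j < N then c (i + j) * y ^ i * z ^ j else 0)
      = ∑ i ∈ Finset.range N, ∑ j ∈ Finset.range (N - i), c (i + j) * y ^ i * z ^ j := by
    rw [← Finset.sum_subset (Finset.range_mono h) (fun i _ hi => Finset.sum_eq_zero fun j _ =>
      if_neg (by simp at hi; omega))]
    refine Finset.sum_congr rfl fun i hi => ?_
    rw [← Finset.sum_filter]
    refine Finset.sum_congr ?_ fun _ _ => rfl
    ext j; simp at hi ⊢; omega
  rw [h1, ← Finset.sum_range_diag_flip N (fun i j => c (i + j) * y ^ i * z ^ j), Finset.mul_sum]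
  refine Finset.sum_congr rfl fun k _ => ?_
  have h2 : (∑ i ∈ Finset.range (k + 1), c (i + (k - i)) * y ^ i * z ^ (k - i)) = c k * ∑ i ∈ Finset.range (k + 1), y ^ i * z ^ (k + 1 - 1 - i) := by
    rw [Finset.mul_sum]
    refine Finset.sum_congr rfl fun i hi => ?_
    simp at hi
    rw [show i + (k - i) = k by omega, show k + 1 - 1 - i = k - i by omega]; ring
  rw [h2, ← geom_sum₂_mul]; ring


/-- The algebraic identity established in its proof: let a >= 1 and work in Z[y, z]. Then (1+y)^(a-1) -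
(1+z)^(a-1) = (y - z) * (sum over i, j >= 0 with i + j + 1 <= a - 1 of C(a-1, i+j+1) y^i z^j), and
(1+y)^a z - (1+z)^a y = (y - z) * (-1 + sum over i, j >= 1 with i + j <= a of C(a, i+j) y^i z^j).
Consequently the rational function -((1+y)^(a-1) - (1+z)^(a-1)) / ((1+y)^a z - (1+z)^a y), the
generating series of the primitive middle Hodge numbers of smooth hypersurfaces of degree a, equals
(sum_{i,j >= 0} C(a-1, i+j+1) y^i z^j) / (1 - sum_{i,j >= 1} C(a, i+j) y^i z^j). -/
theorem result (a : ℕ) (ha : 1 ≤ a) :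
    let y : MvPolynomial (Fin 2) ℤ := MvPolynomial.X 0
    let z : MvPolynomial (Fin 2) ℤ := MvPolynomial.X 1
    ((1 + y) ^ (a - 1) - (1 + z) ^ (a - 1) =
      (y - z) * ∑ i ∈ Finset.range a, ∑ j ∈ Finset.range a,
        if i + j + 1 ≤ a - 1 then ((a - 1).choose (i + j + 1) : MvPolynomial (Fin 2) ℤ) * y ^ i * z ^ j else 0) ∧
    ((1 + y) ^ a * z - (1 + z) ^ a * y =
      (y - z) * (-1 + ∑ i ∈ Finset.range (a + 1), ∑ j ∈ Finset.range (a + 1),
        if 1 ≤ i ∧ 1 ≤ j ∧ i + j ≤ a then (a.choose (i + j) : MvPolynomial (Fin 2) ℤ) * y ^ i * z ^ j else 0)) := by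
  intro y z
  obtain ⟨n, rfl⟩ : ∃ n, a = n + 1 := ⟨a - 1, by omega⟩
  constructor
  · simp only [Nat.add_sub_cancel]
    rw [add_comm 1 y, add_comm 1 z, add_pow, add_pow, ← Finset.sum_sub_distrib]
    simp only [one_pow, mul_one]
    rw [Finset.sum_range_succ']
    simp only [pow_zero, sub_self, add_zero]
    have key := aux y z (fun k => ((n.choose (k + 1) : ℕ) : MvPolynomial (Fin 2) ℤ)) n (n + 1) (by omega)
    simp only [← Nat.lt_iff_add_one_le] at key ⊢
    rw [key]
    refine Finset.sum_congr rfl fun k _ => ?_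
    ring
  · rw [add_comm 1 y, add_comm 1 z, add_pow, add_pow, Finset.sum_mul, Finset.sum_mul, ← Finset.sum_sub_distrib]
    simp only [one_pow, mul_one]
    rw [Finset.sum_range_succ', Finset.sum_range_succ']
    simp only [zero_add, pow_zero, pow_one, Nat.choose_zero_right, Nat.cast_one, one_mul]
    have key := aux y z (fun k => (((n + 1).choose (k + 2) : ℕ) : MvPolynomial (Fin 2) ℤ)) n (n + 1) (by omega)
    have hS : (∑ i ∈ Finset.range (n + 1 + 1), ∑ j ∈ Finset.range (n + 1 + 1),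
        if 1 ≤ i ∧ 1 ≤ j ∧ i + j ≤ n + 1 then ((n + 1).choose (i + j) : MvPolynomial (Fin 2) ℤ) * y ^ i * z ^ j else 0)
        = y * z * ∑ i ∈ Finset.range (n + 1), ∑ j ∈ Finset.range (n + 1),
        if i + j < n then ((n + 1).choose (i + j + 2) : MvPolynomial (Fin 2) ℤ) * y ^ i * z ^ j else 0 := by
      rw [Finset.sum_range_succ', Finset.mul_sum]
      simp only [Finset.mul_sum]
      rw [show (∑ j ∈ Finset.range (n + 1 + 1), if 1 ≤ 0 ∧ 1 ≤ j ∧ 0 + j ≤ n + 1 then ((n + 1).choose (0 + j) : MvPolynomial (Fin 2) ℤ) * y ^ 0 * z ^ j else 0) = 0 from Finset.sum_eq_zero fun j _ => if_neg (by omega), add_zero]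
      refine Finset.sum_congr rfl fun i _ => ?_
      rw [Finset.sum_range_succ', if_neg (by omega : ¬ (1 ≤ i + 1 ∧ 1 ≤ 0 ∧ i + 1 + 0 ≤ n + 1)), add_zero]
      refine Finset.sum_congr rfl fun j _ => ?_
      by_cases h : i + j < n
      · rw [if_pos h, if_pos (by omega), show i + 1 + (j + 1) = i + j + 2 by omega]; ring
      · rw [if_neg h, if_neg (by omega)]; ring
    rw [hS]
    linear_combination (-y * z) * key + (Finset.sum_congr rfl fun k (_ : k ∈ Finset.range n) => (by ring :
      (y ^ (k + 1 + 1) * ↑((n + 1).choose (k + 1 + 1)) * z - z ^ (k + 1 + 1) * ↑((n + 1).choose (k + 1 + 1)) * y) =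
        y * z * (((n + 1).choose (k + 2) : MvPolynomial (Fin 2) ℤ) * (y ^ (k + 1) - z ^ (k + 1))))).trans (Finset.mul_sum _ _ _).symm

end Groth.Agent.S8724
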