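import Groth.Statements.S8731
import Groth.Agent.PnCI.Top
import Groth.Agent.Duality.SmoothDual
import Groth.Agent.S14334
import Groth.Agent.ModelsGraphs.GlobalFunctions

set_option autoImplicit false
universe u
open CategoryTheory CategoryTheory.Limits AlgebraicGeometry
open LefPen

namespace Groth.Agent.S8731

theorem good_of_height_le {k : Type u} [Field k] {N r d : ℕ} (G : ∀ _ : Fin r, LefPen.Form N k 2)
    (hr : r ≤ N) (hle : topologicalKrullDim ↥(LefPen.ciIdeal G).subscheme ≤ (d : WithBot ℕ∞))
    (hd : d + r ≤ N) : Groth.PnCI.Good G := by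
  refine ⟨hr, fun y hy => ?_⟩
  have hy' := (Groth.PnCI.mem_ci_support_iff (fun _ => two_pos) G).2 hy
  rw [← SetLike.mem_coe, ← Scheme.IdealSheafData.range_subschemeι] at hy'
  obtain ⟨z, hz⟩ := hy'
  have h1 := Groth.Variety2.Dim.height_eq_of_isPreimmersion
    ((LefPen.ciIdeal G).subschemeι ≫ CohB1.ProjSpace.toSpec N k) (CohB1.ProjSpace.toSpec N k)
    (LefPen.ciIdeal G).subschemeι rfl z
  have h2 : Order.height z ≤ (d : ℕ∞) :=
    WithBot.coe_le_coe.1 (((le_iSup (fun x => ((Order.height x : ℕ∞) : WithBot ℕ∞)) z).trans_eq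
      (Groth.Variety2.Dim.dim_eq_iSup_height _).symm).trans hle)
  have h3 : Groth.Variety2.PSpace.ht y ≤ (d : ℕ∞) := by
    refine le_of_eq_of_le ?_ h2
    rw [← hz]
    exact h1
  refine (add_le_add h3 le_rfl).trans ?_
  exact_mod_cast hd

theorem facts {k : Type u} [Field k] [IsAlgClosed k] (n : ℕ) (hn : 1 ≤ n)
    (G : ∀ _ : Fin 1, LefPen.Form (n + 1) k 2) (I : (CohB1.ProjSpace (n + 1) k).IdealSheafData)
    (e : LefPen.ciIdeal G = I)
    [hsm : SmoothOfRelativeDimension n (I.subschemeι ≫ CohB1.ProjSpace.toSpec (n + 1) k)] :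
    (∀ i : ℕ, 1 ≤ i → Subsingleton (Coh.HH I.subscheme (Coh.structureModule I.subscheme) i)) ∧
      Function.Bijective (I.subschemeι ≫ CohB1.ProjSpace.toSpec (n + 1) k).appTop.hom := by
  subst e
  have ha : ∀ _ : Fin 1, 0 < 2 := fun _ => two_pos
  have hle := Groth.Duality.SmoothDual.topologicalKrullDim_le
    ((LefPen.ciIdeal G).subschemeι ≫ CohB1.ProjSpace.toSpec (n + 1) k) n
  have hG : Groth.PnCI.Good G := good_of_height_le G (Nat.le_add_left 1 n) hle le_rfl
  have hdim : topologicalKrullDim ↥(LefPen.ciIdeal G).subscheme = ((n + 1 - 1 : ℕ) : WithBot ℕ∞) := by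
    refine le_antisymm (Groth.PnCI.dim_le_of_good ha G hG) ?_
    haveI hY : Nonempty (LefPen.ciIdeal G).subscheme := by
      obtain ⟨x, -, hx⟩ := Groth.Variety2.PSpace.exists_mem_of_card_le
        (Groth.Variety2.PSpace.eta (n + 1) k) {(G 0).1} (fun f hf => by
          rw [Finset.mem_singleton] at hf
          exact ⟨2, two_pos, hf ▸ (G 0).2⟩) (by
          rw [Groth.Variety2.PSpace.ht_eta, Finset.card_singleton]
          exact_mod_cast Nat.le_add_left 1 n)
      have hx' := (Groth.PnCI.mem_ci_support_iff ha G).2 fun j => by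
        rw [Fin.fin_one_eq_zero j]
        exact hx _ (Finset.mem_singleton_self _)
      rw [← SetLike.mem_coe, ← Scheme.IdealSheafData.range_subschemeι] at hx'
      exact ⟨hx'.choose⟩
    obtain ⟨η, -, hη⟩ := Groth.FibreDim.exists_genericPoint_specializes
      (Classical.arbitrary (LefPen.ciIdeal G).subscheme)
    have hh := Groth.Duality.SmoothDual.height_eq
      ((LefPen.ciIdeal G).subschemeι ≫ CohB1.ProjSpace.toSpec (n + 1) k) n η
      (Groth.FibreDim.isMax_of_mem_genericPoints hη)
    rw [Groth.Variety2.Dim.dim_eq_iSup_height]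
    refine le_iSup_of_le η ?_
    rw [hh]
    exact le_of_eq (by norm_num)
  refine ⟨fun i hi => ?_, ?_⟩
  · rcases lt_or_ge (n + 1 - 1) i with h | h
    · exact Groth.Duality.Closed.subsingleton_HH_of_lt (LefPen.ciIdeal G).subschemeι hdim.le _ h
    · obtain ⟨e0⟩ := Groth.PnCoh.nonempty_twist_zero_iso (CohB1.polyGrading (n + 1) k)
      obtain ⟨u⟩ := Groth.PicAux.pullback_structure_iso (LefPen.ciIdeal G).subschemeι
      refine Groth.PnCI.subsingleton_congr (((Scheme.Modules.pullback _).mapIso
        (show Twist.twistProjSpace (n + 1) k 0 ≅ Coh.structureModule _ from e0) ≪≫ u).symm) i ?_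
      rw [← Groth.PnCI.subsingleton_rest_iff]
      rcases h.eq_or_lt with rfl | h
      · refine (Groth.PnCI.top_iff 1 _ ha G hG (by omega) 0).2 ?_
        simp
        omega
      · exact (Groth.PnCI.main 1 _ ha G hG).1 0 i hi h
  · haveI : GeometricallyConnected ((LefPen.ciIdeal G).subschemeι ≫ CohB1.ProjSpace.toSpec (n + 1) k) :=
      Groth.Agent.S14334.result k (n + 1) 1 (Nat.le_add_left 1 n) _ ha G hdim (by omega)
    haveI := Groth.Variety2.isProper_projSpace_toSpec (n + 1) k
    haveI : Smooth ((LefPen.ciIdeal G).subschemeι ≫ CohB1.ProjSpace.toSpec (n + 1) k) :=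
      SmoothOfRelativeDimension.smooth n _
    exact Groth.ModelsGraphs.GlobalFun.appTop_bijective_of_geometricallyConnected _

/-- (iv), the assertions on the structure sheaf: let k be an algebraically closed field, n >= 1, and Q a
quadratic form in n + 2 variables whose zero scheme X = V(Q) ⊂ P^{n+1}_k is smooth over k of
relative dimension n (a smooth quadric of dimension n). Then H^i(X, O_X) = 0 for every i >= 1, and
the structure map identifies k with H^0(X, O_X). (The published item also computes H^1(X, O_X(1)),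
the canonical sheaf and the Picard group, not stated here.) -/
theorem result (k : Type u) [Field k] [IsAlgClosed k] (n : ℕ) (hn : 1 ≤ n)
    (Q : LefPen.Form (n + 1) k 2)
    [SmoothOfRelativeDimension n ((LefPen.hypIdeal Q).subschemeι ≫ CohB1.ProjSpace.toSpec (n + 1) k)] :
    (∀ i : ℕ, 1 ≤ i → Subsingleton (Coh.HH (LefPen.hypIdeal Q).subscheme
        (Coh.structureModule (LefPen.hypIdeal Q).subscheme) i)) ∧
      Function.Bijective ((LefPen.hypIdeal Q).subschemeι ≫ CohB1.ProjSpace.toSpec (n + 1) k).appTop.hom := by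
  exact facts n hn (fun _ : Fin 1 => Q) (LefPen.hypIdeal Q) iSup_const

end Groth.Agent.S8731
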