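import Groth.Statements.S8737
import Mathlib
import Groth.Agent.Calg7.EvenCliffAzumaya
-- import your own Groth.Agent.* helpers here

set_option autoImplicit false
universe u v
open SGA7II

namespace Groth.Agent.S8737

/-- Let A be a commutative ring, V a free A-module of rank 2m with m >= 1, and Q a quadratic form on V
which is non-degenerate in the sense that its polar bilinear form induces a bijection V -> Hom_A(V,
A). Let Z be the centre of the even Clifford algebra C^+(Q), and regard C^+(Q) as a Z-algebra
through the inclusion of the centre. Then Z is an etale A-algebra which is finitely generated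
projective of rank 2 at every prime of A, and C^+(Q) is an Azumaya algebra over Z. (The published
statement allows V locally free of rank 2m; this row takes V free.) -/
theorem result (A : Type u) [CommRing A] (V : Type v) [AddCommGroup V] [Module A V]
    [Module.Free A V] [Module.Finite A V] (m : ℕ) (hm : 1 ≤ m) (hV : Module.finrank A V = 2 * m)
    (Q : QuadraticForm A V) (hQ : Function.Bijective (QuadraticMap.polarBilin Q)) :
    letI : Algebra ↥(Subalgebra.center A ↥(CliffordAlgebra.even Q)) ↥(CliffordAlgebra.even Q) :=
      (Subalgebra.center A ↥(CliffordAlgebra.even Q)).val.toRingHom.toAlgebra'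
        (fun c x => (Subalgebra.mem_center_iff.mp c.2 x).symm)
    Algebra.Etale A ↥(Subalgebra.center A ↥(CliffordAlgebra.even Q)) ∧
      Module.Finite A ↥(Subalgebra.center A ↥(CliffordAlgebra.even Q)) ∧
      Module.Projective A ↥(Subalgebra.center A ↥(CliffordAlgebra.even Q)) ∧
      (∀ p : PrimeSpectrum A, Module.rankAtStalk ↥(Subalgebra.center A ↥(CliffordAlgebra.even Q)) p = 2) ∧
      IsAzumaya ↥(Subalgebra.center A ↥(CliffordAlgebra.even Q)) ↥(CliffordAlgebra.even Q) := by
  have h : Groth.Calg7.EvenCliff.Hyp Q m := ⟨hm, hV, hQ⟩
  exact ⟨h.etale, h.finite_projective.1, h.finite_projective.2, h.rankAtStalk_eq_two, h.isAzumaya⟩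

end Groth.Agent.S8737
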