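import Groth.Statements.S8738
import Mathlib

set_option autoImplicit false
universe u
open SGA7II

namespace Groth.Agent.S8738
variable {k A K : Type*} [CommRing k] [CommRing A] [CommRing K] [Algebra k A] [Algebra A K] [Algebra k K]
  [IsScalarTower k A K]

theorem exists_extend [IsLocalization (nonZeroDivisors A) K] (D : Derivation k A A) :
    ∃ DF : Derivation k K K, ∀ a, DF (algebraMap A K a) = algebraMap A K (D a) := by
  let φ : A →+* TrivSqZeroExt K K :=
    { toFun := fun a => TrivSqZeroExt.inl (algebraMap A K a) + TrivSqZeroExt.inr (algebraMap A K (D a))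
      map_one' := by simp
      map_zero' := by simp
      map_add' := fun a b => by ext <;> simp [Algebra.smul_def, TrivSqZeroExt.algebraMap_eq_inl]
      map_mul' := fun a b => by
        ext
        · simp
        · simp [Algebra.smul_def, TrivSqZeroExt.algebraMap_eq_inl]; ring }
  have hφ : ∀ s : nonZeroDivisors A, IsUnit (φ s) := fun s =>
    TrivSqZeroExt.isUnit_iff_isUnit_fst.mpr (by simpa [φ] using IsLocalization.map_units K s)
  let ψ : K →+* TrivSqZeroExt K K := IsLocalization.lift hφ
  have hfst : ∀ x, (ψ x).fst = x := by
    have : (TrivSqZeroExt.fstHom K K K).toRingHom.comp ψ = RingHom.id K :=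
      IsLocalization.ringHom_ext (nonZeroDivisors A) (RingHom.ext fun a => by simp [ψ, φ])
    exact fun x => RingHom.congr_fun this x
  let f : K →+ K := { toFun := fun x => (ψ x).snd, map_zero' := by simp, map_add' := fun x y => by simp }
  have hmul : ∀ x y, f (x * y) = x * f y + y * f x := fun x y => by
    show (ψ (x * y)).snd = _
    rw [map_mul, TrivSqZeroExt.snd_mul, hfst, hfst]
    simp [f, mul_comm]
  have hA : ∀ a, f (algebraMap A K a) = algebraMap A K (D a) := fun a => by simp [f, ψ, φ, Algebra.smul_def, TrivSqZeroExt.algebraMap_eq_inl]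
  have h1 : f 1 = 0 := by simpa using hA 1
  refine ⟨{ toFun := f, map_add' := map_add f, map_smul' := fun c x => ?_, map_one_eq_zero' := h1,
            leibniz' := fun x y => hmul x y }, hA⟩
  rw [Algebra.smul_def, hmul, IsScalarTower.algebraMap_apply k A K, hA, D.map_algebraMap]
  simp [Algebra.smul_def, IsScalarTower.algebraMap_apply k A K]

/-- `Σ_j (m choose j) (-x)^(m-j) D^n (y x^j)`. -/
noncomputable def expand (DF : Derivation k K K) (x : K) (n : ℕ) : ℕ → K → K
  | 0, y => (DF : K → K)^[n] y
  | m + 1, y => expand DF x n m (y * x) - x * expand DF x n m y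

theorem expand_add (DF : Derivation k K K) (x : K) (n : ℕ) : ∀ (m : ℕ) (y z : K),
    expand DF x n m (y + z) = expand DF x n m y + expand DF x n m z
  | 0, y, z => by
    simp only [expand]
    exact iterate_map_add DF n y z
  | m + 1, y, z => by
    simp only [expand, add_mul, expand_add DF x n m]
    ring

theorem expand_succ (DF : Derivation k K K) (x : K) (n : ℕ) : ∀ (m : ℕ) (y : K),
    expand DF x (n + 1) (m + 1) y = expand DF x n (m + 1) (DF y) + (m + 1) * expand DF x n m (y * DF x)
  | 0, y => by
    simp only [expand, Function.iterate_succ_apply, Derivation.leibniz, smul_eq_mul]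
    rw [iterate_map_add DF n]
    push_cast
    rw [mul_comm x (DF y)]
    ring
  | m + 1, y => by
    have e1 : expand DF x (n + 1) (m + 2) y = expand DF x (n + 1) (m + 1) (y * x) - x * expand DF x (n + 1) (m + 1) y := rfl
    have e2 : expand DF x n (m + 2) (DF y) = expand DF x n (m + 1) (DF y * x) - x * expand DF x n (m + 1) (DF y) := rfl
    have e3 : expand DF x n (m + 1) (y * DF x) = expand DF x n m (y * DF x * x) - x * expand DF x n m (y * DF x) := rfl
    rw [e1, e2, expand_succ DF x n m, expand_succ DF x n m, Derivation.leibniz, smul_eq_mul, smul_eq_mul, expand_add,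
      mul_comm x (DF y), mul_right_comm y x]
    push_cast
    linear_combination -(m + 1 : K) * e3

theorem expand_zero (DF : Derivation k K K) (x : K) : ∀ (m : ℕ) (y : K), expand DF x 0 (m + 1) y = 0
  | 0, y => by simp [expand, mul_comm]
  | m + 1, y => by
    have e1 : expand DF x 0 (m + 2) y = expand DF x 0 (m + 1) (y * x) - x * expand DF x 0 (m + 1) y := rfl
    rw [e1, expand_zero DF x m, expand_zero DF x m, mul_zero, sub_zero]

theorem expand_lt (DF : Derivation k K K) (x : K) : ∀ (n m : ℕ) (y : K), n < m → expand DF x n m y = 0
  | 0, m, y, h => by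
    obtain ⟨m, rfl⟩ := Nat.exists_eq_succ_of_ne_zero h.ne'
    exact expand_zero DF x m y
  | n + 1, m, y, h => by
    obtain ⟨m, rfl⟩ := Nat.exists_eq_succ_of_ne_zero (show m ≠ 0 by omega)
    rw [expand_succ, expand_lt DF x n _ _ (by omega), expand_lt DF x n m _ (by omega), mul_zero, add_zero]

theorem expand_diag (DF : Derivation k K K) (x : K) : ∀ (n : ℕ) (y : K),
    expand DF x n n y = (n.factorial : K) * ((DF x) ^ n * y)
  | 0, y => by simp [expand]
  | n + 1, y => by
    rw [expand_succ, expand_lt DF x n (n + 1) _ (Nat.lt_succ_self n), expand_diag DF x n, zero_add, Nat.factorial_succ]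
    push_cast
    ring

omit [Algebra A K] [IsScalarTower k A K] in
theorem expand_mem (DF : Derivation k K K) (x : K) (S : Subring K) (hS : ∀ z ∈ S, DF z ∈ S) {d : K}
    (hd : ∀ j, d * x ^ j ∈ S) (n : ℕ) : ∀ (m : ℕ) (y : K), (∀ j, y * x ^ j ∈ S) → ∀ a, d * x ^ a * expand DF x n m y ∈ S
  | 0, y, hy, a => by
    refine S.mul_mem (hd a) ?_
    have h0 : y ∈ S := by simpa using hy 0
    simp only [expand]
    clear hy
    induction n generalizing y with
    | zero => exact h0
    | succ n ih => rw [Function.iterate_succ_apply]; exact ih _ (hS y h0)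
  | m + 1, y, hy, a => by
    have h1 := expand_mem DF x S hS hd n m (y * x) (fun j => by rw [mul_assoc, ← pow_succ']; exact hy (j + 1)) a
    have h2 := expand_mem DF x S hS hd n m y hy (a + 1)
    have := S.sub_mem h1 h2
    simp only [expand]
    convert this using 1
    ring

/-- Seidenberg: an extended derivation preserves integrality over a Noetherian ring. -/
theorem derivation_integral [IsLocalization (nonZeroDivisors A) K] [IsNoetherianRing A] {k₀ : Type*} [Field k₀]
    [CharZero k₀] [Algebra k₀ A] (D : Derivation k A A) (DF : Derivation k K K)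
    (hDF : ∀ a, DF (algebraMap A K a) = algebraMap A K (D a)) (x : K) (hx : x ∈ integralClosure A K) :
    DF x ∈ integralClosure A K := by
  classical
  obtain ⟨s, hs⟩ := (IsIntegral.fg_adjoin_singleton hx : (Algebra.adjoin A {x}).toSubmodule.FG)
  obtain ⟨b, hb⟩ := IsLocalization.exist_integer_multiples_of_finset (nonZeroDivisors A) s
  set d := algebraMap A K b with hd_def
  set S : Subring K := (algebraMap A K).range
  have hd : ∀ j, d * x ^ j ∈ S := by
    intro j
    have hmem : x ^ j ∈ Submodule.span A (s : Set K) := by
      rw [hs]; exact Subalgebra.pow_mem _ (Algebra.self_mem_adjoin_singleton A x) j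
    generalize x ^ j = w at hmem ⊢
    induction hmem using Submodule.span_induction with
    | mem z hz =>
      obtain ⟨a, ha⟩ := hb z hz
      exact ⟨a, by rw [ha, Algebra.smul_def]⟩
    | zero => rw [mul_zero]; exact S.zero_mem
    | add u v _ _ hu hv => rw [mul_add]; exact S.add_mem hu hv
    | smul c u _ hu =>
      rw [Algebra.smul_def, mul_left_comm]
      exact S.mul_mem ⟨c, rfl⟩ hu
  have hS : ∀ z ∈ S, DF z ∈ S := by
    rintro _ ⟨a, rfl⟩; exact ⟨D a, (hDF a).symm⟩
  have hpow : ∀ n, d * d * (DF x) ^ n ∈ S := by
    intro n
    have h := expand_mem DF x S hS hd n n d hd 0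
    rw [expand_diag] at h
    obtain ⟨c, hc⟩ := h
    have hu : IsUnit (n.factorial : A) := by
      rw [← map_natCast (algebraMap k₀ A)]
      exact (isUnit_iff_ne_zero.mpr (Nat.cast_ne_zero.mpr n.factorial_ne_zero)).map _
    refine ⟨↑hu.unit⁻¹ * c, ?_⟩
    rw [map_mul, hc, pow_zero, mul_one, show (n.factorial : K) = algebraMap A K (n.factorial : A) by simp]
    have := congrArg (algebraMap A K) hu.val_inv_mul
    rw [map_mul, map_one] at this
    linear_combination (d * d * (DF x) ^ n) * this
  obtain ⟨dinv, hdinv⟩ := ((IsLocalization.map_units K b).mul (IsLocalization.map_units K b)).exists_left_inv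
  have hle : (Algebra.adjoin A {DF x}).toSubmodule ≤ Submodule.span A {dinv} := by
    rw [Algebra.adjoin_eq_span, Submodule.span_le]
    rintro z hz
    obtain ⟨n, rfl⟩ := Submonoid.mem_closure_singleton.mp hz
    obtain ⟨c, hc⟩ := hpow n
    refine Submodule.mem_span_singleton.mpr ⟨c, ?_⟩
    rw [Algebra.smul_def, hc]
    linear_combination (DF x) ^ n * hdinv
  have hfg : (Algebra.adjoin A {DF x}).toSubmodule.FG := by
    haveI : IsNoetherian A (Submodule.span A ({dinv} : Set K)) :=
      isNoetherian_span_of_finite A (Set.finite_singleton _)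
    exact (isNoetherian_submodule.mp this) _ hle
  exact IsIntegral.of_mem_of_fg _ hfg _ (Algebra.self_mem_adjoin_singleton A (DF x))



/-- Let k be a field of characteristic zero and A a reduced Noetherian local k-algebra of Krull
dimension one, essentially of finite type over k (the local ring of a reduced curve over k at one of
its points), and let A' be the integral closure of A in its total ring of fractions (the
normalization). Then every k-derivation D of A extends to a k-derivation D' of A', i.e. D' agrees
with D on the image of A. -/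
theorem result (k : Type u) [Field k] [CharZero k] (A : Type u) [CommRing A]
    [Algebra k A] [IsReduced A] [IsNoetherianRing A] [IsLocalRing A] [Algebra.EssFiniteType k A]
    (hdim : ringKrullDim A = 1) (D : Derivation k A A) :
    ∃ D' : Derivation k ↥(integralClosure A (FractionRing A)) ↥(integralClosure A (FractionRing A)),
      ∀ a : A, (D' (algebraMap A ↥(integralClosure A (FractionRing A)) a) : FractionRing A) =
        algebraMap A (FractionRing A) (D a) := by
  classical
  obtain ⟨DF, hDF⟩ := exists_extend (k := k) (K := FractionRing A) D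
  have key : ∀ x ∈ integralClosure A (FractionRing A), DF x ∈ integralClosure A (FractionRing A) := fun x hx =>
    derivation_integral (k₀ := k) D DF hDF x hx
  refine ⟨{ toFun := fun x => ⟨DF x.1, key x.1 x.2⟩
            map_add' := fun x y => Subtype.ext (map_add DF x.1 y.1)
            map_smul' := fun c x => Subtype.ext (DF.map_smul c x.1)
            map_one_eq_zero' := Subtype.ext DF.map_one_eq_zero
            leibniz' := fun x y => Subtype.ext ?_ }, fun a => hDF a⟩
  exact DF.leibniz x.1 y.1

end Groth.Agent.S8738
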