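import Groth.Statements.S8741
import Groth.Agent.MiscGeom.AdeqLin
import Groth.Agent.MiscGeom.AdeqSum

set_option autoImplicit false
universe u
open CategoryTheory Limits
open Adeq

namespace Groth.Agent.S8741

/-- An adequate functor `F` on `A`-algebras admits a surjection `L → F` from a direct sum `L` of
linearly adequate functors: there are linearly adequate `L_i`, a coproduct cocone of the family
which is a colimit, and an epimorphism from its point onto `F`. -/
theorem result (A : Type u) [CommRing A] (F : Adeq.MVF A) (hF : Adeq.adequate A F) :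
    ∃ (ι : Type (u + 1)) (L : ι → Adeq.MVF A), (∀ i, Adeq.linAdequate A (L i)) ∧
      ∃ (c : Cofan L) (_ : IsColimit c) (π : c.pt ⟶ F), Epi π := by
  classical
  obtain ⟨P⟩ := Groth.MiscGeom.Adq.nonempty_pres hF
  choose L f hL hmem using fun i : (Σ B : Adeq.Alg A, F.obj (Adeq.pt B)) => P.exists_lin i.1 i.2
  refine ⟨_, L, hL, Cofan.mk (∐ L) (Sigma.ι L), coproductIsCoproduct L, Sigma.desc f, ?_⟩
  refine Groth.MiscGeom.Adq.epi_of_surj _ fun B x => ?_
  obtain ⟨y, hy⟩ := hmem ⟨B, x⟩
  refine ⟨Groth.MiscGeom.Adq.ap (Sigma.ι L ⟨B, x⟩) B y, ?_⟩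
  rw [← Groth.MiscGeom.Adq.ap_comp, Sigma.ι_desc]
  exact hy

end Groth.Agent.S8741
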