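import Groth.Statements.S8745
import Groth.Agent.MiscGeom.AdeqSum

set_option autoImplicit false
universe u
open CategoryTheory Limits
open Adeq

namespace Groth.Agent.S8745

/-- A colimit (in particular an arbitrary direct sum) of adequate functors on `A`-algebras, computed in
the category of all module-valued functors, is adequate. -/
theorem result (A : Type u) [CommRing A] {J : Type (u + 1)} [SmallCategory J]
    (D : J ⥤ Adeq.MVF A) (hD : ∀ j, Adeq.adequate A (D.obj j)) :
    Adeq.adequate A (colimit D) := by
  exact Groth.MiscGeom.Adq.adequate_colimit' D hD

end Groth.Agent.S8745
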