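import Groth.Statements.S8757
import Groth.Agent.MiscGeom.AdeqPull
import Groth.Agent.MiscGeom.AdeqAmitsur

set_option autoImplicit false
universe u
open CategoryTheory Limits AlgebraicGeometry
open Adeq

namespace Groth.Agent.S8757

/-- The pullback `f^* M` of an adequate `O`-module `M` on the big fppf site of `S` along a morphism of
schemes `f : T → S` is an adequate `O`-module on the big fppf site of `T`. -/
theorem result {S T : Scheme.{u}} (f : T ⟶ S) (M : BigSite.Mod Scheme.fppfPrecoverage S)
    (hM : Adeq.adequateMod Scheme.fppfPrecoverage S M) :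
    Adeq.adequateMod Scheme.fppfPrecoverage T ((BigSite.pullMod Scheme.fppfPrecoverage f).obj M) := by
  haveI : BigSite.OSh (Scheme.precoverage (@Flat ⊓ @LocallyOfFinitePresentation : MorphismProperty Scheme.{u})) :=
    inferInstanceAs (BigSite.OSh Scheme.fppfPrecoverage.{u})
  exact Groth.MiscGeom.Adq.adequateMod_pull (P := @Flat ⊓ @LocallyOfFinitePresentation) Groth.MiscGeom.Adq.goodProp_fppf f M hM

end Groth.Agent.S8757
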