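import Groth.Statements.S8768
import Groth.Agent.MiscGeom.AdeqPull
import Groth.Agent.MiscGeom.AdeqAmitsur

set_option autoImplicit false
universe u
open CategoryTheory Limits AlgebraicGeometry
open scoped TensorProduct
open Adeq

namespace Groth.Agent.S8768

/-- For an adequate `O`-module `M` on the big fppf site of `S` and a faithfully flat map of affine
schemes `Spec B → Spec R` over `S`, the sequence `0 → M(Spec R) → M(Spec B) → M(Spec (B ⊗_R B))` is
exact: the first map is injective and its image is the equalizer of the two maps induced by `b ↦ b ⊗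
1` and `b ↦ 1 ⊗ b`. (The published statement asserts exactness of the whole extended Cech complex
and the fpqc sheaf property; this row covers the first two degrees.) -/
theorem result (S : Scheme.{u}) (M : BigSite.Mod Scheme.fppfPrecoverage S)
    (hM : Adeq.adequateMod Scheme.fppfPrecoverage S M) (R : CommRingCat.{u}) (a : Spec R ⟶ S)
    (B : Type u) [CommRing B] [Algebra R B] [Module.FaithfullyFlat R B] :
    Function.Injective (((Adeq.toMVF Scheme.fppfPrecoverage a).obj M).map
        (Adeq.ptHom (CommAlgCat.ofHom (Algebra.ofId R B) : Adeq.algOf R R ⟶ Adeq.algOf R B))) ∧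
      ∀ y : ((Adeq.toMVF Scheme.fppfPrecoverage a).obj M).obj (Adeq.pt (Adeq.algOf R B)),
        ((Adeq.toMVF Scheme.fppfPrecoverage a).obj M).map (Adeq.ptHom (CommAlgCat.ofHom
            (Algebra.TensorProduct.includeLeft : B →ₐ[R] B ⊗[R] B) : Adeq.algOf R B ⟶ Adeq.algOf R (B ⊗[R] B))) y =
          ((Adeq.toMVF Scheme.fppfPrecoverage a).obj M).map (Adeq.ptHom (CommAlgCat.ofHom
            (Algebra.TensorProduct.includeRight : B →ₐ[R] B ⊗[R] B) : Adeq.algOf R B ⟶ Adeq.algOf R (B ⊗[R] B))) y →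
        y ∈ Set.range (((Adeq.toMVF Scheme.fppfPrecoverage a).obj M).map
          (Adeq.ptHom (CommAlgCat.ofHom (Algebra.ofId R B) : Adeq.algOf R R ⟶ Adeq.algOf R B))) := by
  haveI : BigSite.OSh (Scheme.precoverage (@Flat ⊓ @LocallyOfFinitePresentation : MorphismProperty Scheme.{u})) :=
    inferInstanceAs (BigSite.OSh Scheme.fppfPrecoverage.{u})
  have hF := Groth.MiscGeom.Adq.adequate_toMVF (P := @Flat ⊓ @LocallyOfFinitePresentation) Groth.MiscGeom.Adq.goodProp_fppf a M hM
  let F := (Adeq.toMVF Scheme.fppfPrecoverage a).obj M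
  let f₀ : Adeq.algOf R R ⟶ Adeq.algOf R B := CommAlgCat.ofHom (Algebra.ofId R B)
  have hf : f₀.hom.toRingHom.FaithfullyFlat := RingHom.faithfullyFlat_algebraMap_iff.2 inferInstance
  refine ⟨(injective_iff_map_eq_zero (Groth.MiscGeom.Adq.tr F f₀)).2 fun x hx =>
    Groth.MiscGeom.Adq.sep_single hF f₀ hf x hx, fun y hy => ?_⟩
  obtain ⟨x, hx⟩ := Groth.MiscGeom.Adq.glue_single hF f₀ hf y fun C p q _ => by
    let φ : Adeq.algOf R (B ⊗[R] B) ⟶ C :=
      CommAlgCat.ofHom (Algebra.TensorProduct.lift p.hom q.hom fun _ _ => mul_comm _ _)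
    let iL : Adeq.algOf R B ⟶ Adeq.algOf R (B ⊗[R] B) := CommAlgCat.ofHom Algebra.TensorProduct.includeLeft
    let iR : Adeq.algOf R B ⟶ Adeq.algOf R (B ⊗[R] B) := CommAlgCat.ofHom Algebra.TensorProduct.includeRight
    have hp : iL ≫ φ = p := CommAlgCat.hom_ext (Algebra.TensorProduct.lift_comp_includeLeft p.hom q.hom fun _ _ => mul_comm _ _)
    have hq : iR ≫ φ = q := CommAlgCat.hom_ext (Algebra.TensorProduct.lift_comp_includeRight p.hom q.hom fun _ _ => mul_comm _ _)
    show Groth.MiscGeom.Adq.tr F p y = Groth.MiscGeom.Adq.tr F q y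
    rw [← Groth.MiscGeom.Adq.tr_congr F hp, ← Groth.MiscGeom.Adq.tr_congr F hq, ← Groth.MiscGeom.Adq.tr_comp,
      ← Groth.MiscGeom.Adq.tr_comp]
    exact congrArg (Groth.MiscGeom.Adq.tr F φ) hy
  exact ⟨x, hx⟩

end Groth.Agent.S8768
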