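import Groth.Statements.S8773
import Groth.Agent.Misc3Pure.Basic

set_option autoImplicit false
universe u
open PureExt

namespace Groth.Agent.S8773

/-- If `L → M → N` is a universally exact sequence of `R`-modules (exact after tensoring with any
module) then the inclusion of the image of `M → N` into `N` is universally injective. -/
theorem result (R : Type u) [CommRing R]
    {L M N : Type u} [AddCommGroup L] [Module R L] [AddCommGroup M] [Module R M] [AddCommGroup N] [Module R N]
    (f : L →ₗ[R] M) (g : M →ₗ[R] N)
    (h : ∀ (Q : Type u) [AddCommGroup Q] [Module R Q], Function.Exact (f.rTensor Q) (g.rTensor Q)) :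
    CAlgX.UniversallyInjective R (LinearMap.range g).subtype := by
  exact Groth.Misc3Pure.univInj_range f g h

end Groth.Agent.S8773
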