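import Groth.Statements.S8780
import Groth.Agent.MiscGeom.AdeqInj

set_option autoImplicit false
universe u
open CategoryTheory Limits
open AdeqTF

namespace Groth.Agent.S8780

open Groth.MiscGeom.Adq Adeq

/-- An injective module-valued functor sends surjections of algebras to surjections. -/
theorem surjective_tr {A : Type u} [CommRing A] (I : Adeq.MVF A) [Injective I] {B₁ B₂ : Adeq.Alg A}
    (g : B₁ ⟶ B₂) (hg : Function.Surjective g.hom) : Function.Surjective (tr I g) := by
  classical
  intro y
  let J : ∀ B : Adeq.Alg A, ModuleCat.{u + 1} (B : Type u) := fun B => Injective.under (I.obj (pt B))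
  obtain ⟨ψ, hψ⟩ := exists_coind_hom J fun B => (Injective.ι (I.obj (pt B))).hom
  haveI : Mono ψ := mono_of_inj ψ fun B x z h => by
    have h' := congrArg (fun φ => cget J φ (𝟙 B)) h
    simp only [hψ, tr_id] at h'
    exact (ModuleCat.mono_iff_injective (Injective.ι (I.obj (pt B)))).1 inferInstance h'
  let r := Injective.factorThru (𝟙 I) ψ
  let φ' : (coind J).obj (pt B₁) := cmk J B₁ fun B h =>
    if e : ∃ a : B₂ ⟶ B, g ≫ a = h then cget J (ap ψ B₂ y) e.choose else 0
  have h1 : tr (coind J) g φ' = ap ψ B₂ y := by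
    apply cget_ext
    intro B a
    rw [cget_tr]
    simp only [φ', cget_cmk]
    have e : ∃ b : B₂ ⟶ B, g ≫ b = g ≫ a := ⟨a, rfl⟩
    rw [dif_pos e]
    have hb : e.choose = a := by
      apply CommAlgCat.hom_ext
      apply AlgHom.ext
      intro z
      obtain ⟨w, rfl⟩ := hg z
      exact congrArg (fun k => k.hom w) e.choose_spec
    rw [hb]
  refine ⟨ap r B₁ φ', ?_⟩
  rw [← ap_tr, h1, ← ap_comp, Injective.comp_factorThru]
  rfl


/-- Take `I` injective in the category of module-valued functors on `A`-algebras. For every `A`-algebra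
`B` and every short exact sequence `0 → N₁ → N → N₂ → 0` of `B`-modules, the induced map of tangent
modules `TI(B, N) → TI(B, N₂)` is surjective (`TI(B, N)` is the kernel of `I(B[N]) → I(B)`, `B[N]`
the trivial square-zero extension). (The published statement asserts that `TI(B, N₁) → TI(B, N) →
TI(B, N₂) → 0` is exact; exactness at the middle term is false: for `A = B = ℚ`, the split sequence
`0 → ℚ → ℚ² → ℚ → 0` and the injective functor `D ↦ Map(Hom(D, ℚ[ε]/(ε²)), E)` with `E` an injective
hull of `ℚ[ε]/(ε²)`, the indicator function of the first coordinate form lies in the kernel of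
`TI(B, ℚ²) → TI(B, ℚ)` and not in the image of `TI(B, ℚ) → TI(B, ℚ²)`. This row keeps the
surjectivity, which the published argument does establish.) -/
theorem result (A : Type u) [CommRing A] (I : Adeq.MVF A) [Injective I]
    (B : Adeq.Alg A) (S : ShortComplex (ModuleCat.{u} B)) (hS : S.ShortExact) :
    Function.Surjective (AdeqTF.tangentMap B I S.g) := by
  intro y
  obtain ⟨y, hy⟩ := y
  have hs : Function.Surjective S.g.hom := (ModuleCat.epi_iff_surjective _).mp hS.epi_g
  have hq : Function.Surjective (AdeqTF.map B S.g).hom := by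
    intro z
    obtain ⟨n, hn⟩ := hs z.snd
    refine ⟨TrivSqZeroExt.inl z.fst + TrivSqZeroExt.inr n, ?_⟩
    show TrivSqZeroExt.map S.g.hom _ = z
    apply TrivSqZeroExt.ext <;> simp [hn]
  obtain ⟨x, hx⟩ := surjective_tr I _ hq y
  refine ⟨⟨x, ?_⟩, Subtype.ext hx⟩
  change tr I (AdeqTF.fst B S.X₂) x = 0
  rw [← tr_congr I (AdeqTF.map_fst B S.g), ← tr_comp, hx]
  exact hy

end Groth.Agent.S8780
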