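import Groth.Statements.S8781
import Groth.Agent.Misc3Adeq.Tangent
-- import your own Groth.Agent.* helpers here

set_option autoImplicit false
universe u
open CategoryTheory Limits
open AdeqTF

namespace Groth.Agent.S8781

open Groth.Misc3Adeq

/-- Say a module-valued functor `F` on `A`-algebras has right exact tangent functors if for every
`A`-algebra `B` and every short exact sequence `0 → N₁ → N → N₂ → 0` of `B`-modules the sequence
`TF(B, N₁) → TF(B, N) → TF(B, N₂) → 0` is exact. If `0 → F → G → H → 0` is a short exact sequence of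
module-valued functors and `F`, `G` have right exact tangent functors, so does `H`. -/
theorem result (A : Type u) [CommRing A] (C : ShortComplex (Adeq.MVF A))
    (hC : C.ShortExact)
    (h₁ : (∀ (B : Adeq.Alg A) (S : ShortComplex (ModuleCat.{u} B)), S.ShortExact →
        Function.Surjective (AdeqTF.tangentMap B C.X₁ S.g) ∧
          (AdeqTF.tangentMap B C.X₁ S.g).ker = (AdeqTF.tangentMap B C.X₁ S.f).range))
    (h₂ : (∀ (B : Adeq.Alg A) (S : ShortComplex (ModuleCat.{u} B)), S.ShortExact →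
        Function.Surjective (AdeqTF.tangentMap B C.X₂ S.g) ∧
          (AdeqTF.tangentMap B C.X₂ S.g).ker = (AdeqTF.tangentMap B C.X₂ S.f).range)) :
    (∀ (B : Adeq.Alg A) (S : ShortComplex (ModuleCat.{u} B)), S.ShortExact →
        Function.Surjective (AdeqTF.tangentMap B C.X₃ S.g) ∧
          (AdeqTF.tangentMap B C.X₃ S.g).ker = (AdeqTF.tangentMap B C.X₃ S.f).range) := by
  intro B S hS
  obtain ⟨s₂, e₂⟩ := h₂ B S hS
  obtain ⟨s₁, -⟩ := h₁ B S hS
  refine ⟨fun y => ?_, le_antisymm (fun y hy => ?_) ?_⟩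
  · obtain ⟨x, rfl⟩ := tm_surjective hC S.X₃ y
    obtain ⟨x', rfl⟩ := s₂ x
    exact ⟨tm C.g _ x', (tm_tangentMap _ _ _).symm⟩
  · obtain ⟨x, rfl⟩ := tm_surjective hC S.X₂ y
    obtain ⟨w, hw⟩ := tm_exact hC S.X₃ (AdeqTF.tangentMap B C.X₂ S.g x)
      ((tm_tangentMap _ _ _).trans hy)
    obtain ⟨w', rfl⟩ := s₁ w
    have hker : x - tm C.f _ w' ∈ (AdeqTF.tangentMap B C.X₂ S.g).ker := by
      rw [AddMonoidHom.mem_ker, map_sub, ← tm_tangentMap, hw, sub_self]
    rw [e₂] at hker
    obtain ⟨z, hz⟩ := hker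
    refine ⟨tm C.g _ z, ?_⟩
    rw [← tm_tangentMap, hz, map_sub, tm_comp hC, sub_zero]
  · rintro _ ⟨z, rfl⟩
    exact tangentMap_zero' _ S z

end Groth.Agent.S8781
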