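import Groth.Statements.S8782
import Groth.Agent.Misc3Adeq.Tangent
-- import your own Groth.Agent.* helpers here

set_option autoImplicit false
universe u
open CategoryTheory Limits
open AdeqTF

namespace Groth.Agent.S8782

open Groth.Misc3Adeq

/-- If `0 → F → G → H → 0` is a short exact sequence of module-valued functors on `A`-algebras and `F`,
`H` have right exact tangent functors (for every `A`-algebra `B` and short exact `0 → N₁ → N → N₂ →
0` of `B`-modules, `T(B, N₁) → T(B, N) → T(B, N₂) → 0` is exact), so does `G`. -/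
theorem result (A : Type u) [CommRing A] (C : ShortComplex (Adeq.MVF A))
    (hC : C.ShortExact)
    (h₁ : (∀ (B : Adeq.Alg A) (S : ShortComplex (ModuleCat.{u} B)), S.ShortExact →
        Function.Surjective (AdeqTF.tangentMap B C.X₁ S.g) ∧
          (AdeqTF.tangentMap B C.X₁ S.g).ker = (AdeqTF.tangentMap B C.X₁ S.f).range))
    (h₃ : (∀ (B : Adeq.Alg A) (S : ShortComplex (ModuleCat.{u} B)), S.ShortExact →
        Function.Surjective (AdeqTF.tangentMap B C.X₃ S.g) ∧
          (AdeqTF.tangentMap B C.X₃ S.g).ker = (AdeqTF.tangentMap B C.X₃ S.f).range)) :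
    (∀ (B : Adeq.Alg A) (S : ShortComplex (ModuleCat.{u} B)), S.ShortExact →
        Function.Surjective (AdeqTF.tangentMap B C.X₂ S.g) ∧
          (AdeqTF.tangentMap B C.X₂ S.g).ker = (AdeqTF.tangentMap B C.X₂ S.f).range) := by
  intro B S hS
  obtain ⟨s₁, e₁⟩ := h₁ B S hS
  obtain ⟨s₃, e₃⟩ := h₃ B S hS
  refine ⟨fun y => ?_, le_antisymm (fun x hx => ?_) ?_⟩
  · obtain ⟨z, hz⟩ := s₃ (tm C.g _ y)
    obtain ⟨x, rfl⟩ := tm_surjective hC S.X₂ z
    obtain ⟨w, hw⟩ := tm_exact hC S.X₃ (y - AdeqTF.tangentMap B C.X₂ S.g x)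
      (by rw [map_sub, tm_tangentMap, hz, sub_self])
    obtain ⟨w', rfl⟩ := s₁ w
    refine ⟨x + tm C.f _ w', ?_⟩
    rw [map_add, ← tm_tangentMap, hw, add_sub_cancel]
  · have hgx : tm C.g _ x ∈ (AdeqTF.tangentMap B C.X₃ S.g).ker := by
      rw [AddMonoidHom.mem_ker, ← tm_tangentMap, show AdeqTF.tangentMap B C.X₂ S.g x = 0 from hx, map_zero]
    rw [e₃] at hgx
    obtain ⟨z, hz⟩ := hgx
    obtain ⟨x₁, rfl⟩ := tm_surjective hC S.X₁ z
    obtain ⟨w, hw⟩ := tm_exact hC S.X₂ (x - AdeqTF.tangentMap B C.X₂ S.f x₁)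
      (by rw [map_sub, tm_tangentMap, hz, sub_self])
    have hwk : w ∈ (AdeqTF.tangentMap B C.X₁ S.g).ker := by
      rw [AddMonoidHom.mem_ker]
      refine tm_injective hC _ ?_
      rw [tm_tangentMap, hw, map_sub, show AdeqTF.tangentMap B C.X₂ S.g x = 0 from hx, tangentMap_zero',
        map_zero, sub_zero]
    rw [e₁] at hwk
    obtain ⟨w₁, rfl⟩ := hwk
    refine ⟨x₁ + tm C.f _ w₁, ?_⟩
    rw [map_add, ← tm_tangentMap, hw, add_sub_cancel]
  · rintro _ ⟨z, rfl⟩
    exact tangentMap_zero' _ S z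

end Groth.Agent.S8782
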