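import Groth.Statements.S8783
import Groth.Agent.Misc3Adeq.Tangent
-- import your own Groth.Agent.* helpers here

set_option autoImplicit false
universe u
open CategoryTheory Limits
open AdeqTF

namespace Groth.Agent.S8783

open Groth.Misc3Adeq

/-- Let `F` be a module-valued functor on `A`-algebras with right exact tangent functors (for every
`A`-algebra `B` and short exact `0 → N₁ → N → N₂ → 0` of `B`-modules, `TF(B, N₁) → TF(B, N) → TF(B,
N₂) → 0` is exact). Then `TF(B, N₁ ⊕ N₂) = TF(B, N₁) ⊕ TF(B, N₂)`: the map from the product induced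
by the two inclusions is bijective. -/
theorem result (A : Type u) [CommRing A] (F : Adeq.MVF A)
    (hF : (∀ (B : Adeq.Alg A) (S : ShortComplex (ModuleCat.{u} B)), S.ShortExact →
        Function.Surjective (AdeqTF.tangentMap B F S.g) ∧
          (AdeqTF.tangentMap B F S.g).ker = (AdeqTF.tangentMap B F S.f).range))
    (B : Adeq.Alg A) (N₁ N₂ : ModuleCat.{u} B) :
    Function.Bijective ((AdeqTF.tangentMap B F (biprod.inl : N₁ ⟶ N₁ ⊞ N₂)).coprod
      (AdeqTF.tangentMap B F (biprod.inr : N₂ ⟶ N₁ ⊞ N₂))) := by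
  let S : ShortComplex (ModuleCat.{u} B) :=
    ShortComplex.mk (biprod.inl : N₁ ⟶ N₁ ⊞ N₂) biprod.snd biprod.inl_snd
  have hs : S.ShortExact := (ShortComplex.Splitting.ofHasBinaryBiproduct N₁ N₂).shortExact
  obtain ⟨s, e⟩ := hF B S hs
  have h2 : ∀ y, AdeqTF.tangentMap B F (biprod.snd : N₁ ⊞ N₂ ⟶ N₂) (AdeqTF.tangentMap B F biprod.inr y) = y :=
    fun y => by rw [tangentMap_comp, biprod.inr_snd, tangentMap_id]
  have h1 : ∀ y, AdeqTF.tangentMap B F (biprod.fst : N₁ ⊞ N₂ ⟶ N₁) (AdeqTF.tangentMap B F biprod.inl y) = y :=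
    fun y => by rw [tangentMap_comp, biprod.inl_fst, tangentMap_id]
  constructor
  · rw [injective_iff_map_eq_zero]
    rintro ⟨a, b⟩ hab
    simp only [AddMonoidHom.coprod_apply] at hab
    have ha := congrArg (AdeqTF.tangentMap B F (biprod.fst : N₁ ⊞ N₂ ⟶ N₁)) hab
    have hb := congrArg (AdeqTF.tangentMap B F (biprod.snd : N₁ ⊞ N₂ ⟶ N₂)) hab
    rw [map_add, h1, tangentMap_comp, biprod.inr_fst, tangentMap_zero, add_zero, map_zero] at ha
    rw [map_add, h2, tangentMap_comp, biprod.inl_snd, tangentMap_zero, zero_add, map_zero] at hb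
    rw [ha, hb]; rfl
  · intro x
    have hk : x - AdeqTF.tangentMap B F biprod.inr (AdeqTF.tangentMap B F biprod.snd x) ∈
        (AdeqTF.tangentMap B F S.g).ker := by
      rw [AddMonoidHom.mem_ker, map_sub]
      exact sub_eq_zero.2 (h2 _).symm
    rw [e] at hk
    obtain ⟨a, ha⟩ := hk
    refine ⟨(a, AdeqTF.tangentMap B F biprod.snd x), ?_⟩
    simp only [AddMonoidHom.coprod_apply]
    exact eq_sub_iff_add_eq.1 ha

end Groth.Agent.S8783
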