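import Groth.Statements.S8785
import Groth.Agent.MiscGeom.ZarCompare

set_option autoImplicit false
universe u
open CategoryTheory Limits AlgebraicGeometry
open Adeq

namespace Groth.Agent.S8785

/-- For an adequate `O`-module `M` on the big fppf site of a scheme `S` and every `q`, the Zariski
cohomology `H^q(S, M|_{S_Zar})` of the restriction of (the abelian sheaf underlying) `M` to the
opens of `S` is isomorphic to the cohomology `H^q` of `M` on the big fppf site of `S`. (The
published statement gives a canonical isomorphism; this row asserts the existence of an isomorphism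
of abelian groups only.) -/
theorem result (S : Scheme.{u}) [BigSite.ZarCont Scheme.fppfPrecoverage S]
    (M : BigSite.Mod Scheme.fppfPrecoverage S) (hM : Adeq.adequateMod Scheme.fppfPrecoverage S M) (q : ℕ) :
    Nonempty (EtZar.H ((BigSite.resZar Scheme.fppfPrecoverage S).obj ((BigSite.toAbMod Scheme.fppfPrecoverage S).obj M)) q ≃+
      BigSite.HMod Scheme.fppfPrecoverage S M q) := by
  haveI : BigSite.OSh (Scheme.precoverage (@Flat ⊓ @LocallyOfFinitePresentation : MorphismProperty Scheme.{u})) :=
    inferInstanceAs (BigSite.OSh Scheme.fppfPrecoverage.{u})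
  haveI : BigSite.ZarCont (Scheme.precoverage (@Flat ⊓ @LocallyOfFinitePresentation : MorphismProperty Scheme.{u})) S :=
    inferInstanceAs (BigSite.ZarCont Scheme.fppfPrecoverage S)
  exact Groth.MiscGeom.Adq.Cech.nonempty_resZar_equiv (P := @Flat ⊓ @LocallyOfFinitePresentation) Groth.MiscGeom.Adq.goodProp_fppf
    Groth.MiscGeom.Adq.Cech.stableProd_fppf ((BigSite.toAbMod Scheme.fppfPrecoverage S).obj M)
    (Groth.MiscGeom.Adq.Cech.cechAcyclic_adequate (P := @Flat ⊓ @LocallyOfFinitePresentation) Groth.MiscGeom.Adq.goodProp_fppf M hM) q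

end Groth.Agent.S8785
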