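import Groth.Statements.S8786
import Groth.Agent.MiscGeom.AdeqFpqc

set_option autoImplicit false
universe u
open CategoryTheory Limits AlgebraicGeometry
open Adeq

namespace Groth.Agent.S8786

/-- An adequate `O`-module `M` on the big Zariski site of a scheme `S` is a sheaf for the fpqc topology:
the presheaf of abelian groups underlying `M`, on schemes over `S`, satisfies the sheaf property for
every fpqc covering. (The published statement also asserts the exactness of the whole extended Cech
complex of every faithfully flat map of affine objects; that clause is not part of this row.) -/
theorem result (S : Scheme.{u}) (M : BigSite.Mod Scheme.zariskiPrecoverage S)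
    (hM : Adeq.adequateMod Scheme.zariskiPrecoverage S M) :
    Presheaf.IsSheaf (QuotSh.J Scheme.fpqcPrecoverage S) ((BigSite.toAbMod Scheme.zariskiPrecoverage S).obj M).obj := by
  haveI : BigSite.OSh (Scheme.precoverage (@IsOpenImmersion : MorphismProperty Scheme.{u})) :=
    inferInstanceAs (BigSite.OSh Scheme.zariskiPrecoverage.{u})
  exact Groth.MiscGeom.Adq.isSheaf_fpqc (P := @IsOpenImmersion) Groth.MiscGeom.Adq.goodProp_zariski M hM

end Groth.Agent.S8786
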