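import Groth.Statements.S8791
import Groth.Agent.LocCohTransform.DualKillColimit
import Groth.Agent.S0329

set_option autoImplicit false
universe u
open CategoryTheory
attribute [local instance] HasDerivedCategory.standard
open LocCoh

namespace Groth.Agent.S8791

/-- Let A be a Noetherian ring with a dualizing complex, I and J ideals, M a finite A-module, s and d
naturals, and T the set of primes p with V(p) ∩ V(I) ⊆ V(J). Assume: (2') every prime p ∈ V(I) with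
p ∉ V(J) has depth(M_p) + dim((A/p)_q) > s for all q ∈ V(p) ∩ V(J) ∩ V(I); (3) every prime p ∉ V(I)
lying in T admits some q ∈ V(p) ∩ V(J) ∩ V(I) with dim((A/p)_q) ≤ d; (4) every prime p ∉ V(I) not in
T has depth(M_p) ≥ s or depth(M_p) + dim((A/p)_q) > d + s for all q ∈ V(p) ∩ V(J) ∩ V(I). Then there
is an ideal J₀ ⊆ J with V(J₀) ∩ V(I) = V(J) ∩ V(I) such that for every J' ⊆ J₀ with V(J') ∩ V(I) =
V(J) ∩ V(I) and every i ≤ s the comparison map H^i_{J₀}(M) → H^i_{J'}(M) is bijective, H^i_{J₀}(M)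
is annihilated by a power of J₀I for i ≤ s, and in addition H^i_{J₀}(M) is a finite A-module for i ≤
s. -/
theorem result (A : Type u) [CommRing A] [IsNoetherianRing A] (hdc : ∃ ω : Dual.D A, Dual.IsDualizing A ω) (I J : Ideal A) (M : Type u) [AddCommGroup M] [Module A M] [Module.Finite A M] (s d : ℕ) (T : Set (PrimeSpectrum A)) (hT : ∀ p : PrimeSpectrum A, p ∈ T ↔ ∀ q : PrimeSpectrum A, p ≤ q → I ≤ q.asIdeal → J ≤ q.asIdeal) (h2 : ∀ p : PrimeSpectrum A, I ≤ p.asIdeal → ¬ J ≤ p.asIdeal → ∀ q : PrimeSpectrum A, p ≤ q → J ≤ q.asIdeal → I ≤ q.asIdeal → ((s : ℕ∞) : WithBot ℕ∞) < ((LocCoh.depth (Localization.AtPrime p.asIdeal) (LocalizedModule p.asIdeal.primeCompl M) : ℕ∞) : WithBot ℕ∞) + Formal2.dimBetween A p.asIdeal q.asIdeal) (h3 : ∀ p : PrimeSpectrum A, ¬ I ≤ p.asIdeal → p ∈ T → ∃ q : PrimeSpectrum A, p ≤ q ∧ J ≤ q.asIdeal ∧ I ≤ q.asIdeal ∧ Formal2.dimBetween A p.asIdeal q.asIdeal ≤ ((d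 : ℕ∞) : WithBot ℕ∞)) (h4 : ∀ p : PrimeSpectrum A, ¬ I ≤ p.asIdeal → p ∉ T → ∀ q : PrimeSpectrum A, p ≤ q → J ≤ q.asIdeal → I ≤ q.asIdeal → (s : ℕ∞) ≤ LocCoh.depth (Localization.AtPrime p.asIdeal) (LocalizedModule p.asIdeal.primeCompl M) ∨ (((d + s : ℕ) : ℕ∞) : WithBot ℕ∞) < ((LocCoh.depth (Localization.AtPrime p.asIdeal) (LocalizedModule p.asIdeal.primeCompl M) : ℕ∞) : WithBot ℕ∞) + Formal2.dimBetween A p.asIdeal q.asIdeal) : ∃ J₀ : Ideal A, (J₀ ≤ J ∧ PrimeSpectrum.zeroLocus ((J₀ : Ideal A) : Set A) ∩ PrimeSpectrum.zeroLocus ((I : Ideal A) : Set A) = PrimeSpectrum.zeroLocus ((J : Ideal A) : Set A) ∩ PrimeSpectrum.zeroLocus ((I : Ideal A) : Set A) ∧ (∀ (J' : Ideal A) (hJ' : J' ≤ J₀), PrimeSpectrum.zeroLocus ((J' : Ideal A) : Set A) ∩ PrimeSpectrum.zeroLocus ((I : Ideal A) : Set A) = PrimeSpectrum.zeroLocus ((J : Ideal A) : Set A) ∩ PrimeSpectrum.zeroLocus ((I : Ideal A) : Set A) → ∀ i :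 ℕ, i ≤ s → Function.Bijective ((Dual2.HmapOfLE hJ' i).app (ModuleCat.of A M)).hom) ∧ (∃ n : ℕ, ∀ a ∈ (J₀ * I) ^ n, ∀ i : ℕ, i ≤ s → ∀ x : LocCoh.H J₀ i M, a • x = 0)) ∧ ∀ i : ℕ, i ≤ s → Module.Finite A (LocCoh.H J₀ i M) := by
  obtain ⟨ω, hω⟩ := hdc
  have h3' : Groth.LocCohTransform.DualKillColimit.Cond3 I J d := fun p hI hp => h3 p hI ((hT p).2 hp)
  have h4' : Groth.LocCohTransform.DualKillColimit.Cond4 M I J s d := fun p hI hp => h4 p hI fun hpT => hp ((hT p).1 hpT)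
  obtain ⟨J₀, hJJ, hsub, hrel⟩ := Groth.LocCohTransform.DualKillColimit.exists_J₀ hω M I J
  have hbase : J₀ ≤ J ∧ PrimeSpectrum.zeroLocus ((J₀ : Ideal A) : Set A) ∩ PrimeSpectrum.zeroLocus ((I : Ideal A) : Set A) =
      PrimeSpectrum.zeroLocus ((J : Ideal A) : Set A) ∩ PrimeSpectrum.zeroLocus ((I : Ideal A) : Set A) ∧
      (∀ (J' : Ideal A) (hJ' : J' ≤ J₀), PrimeSpectrum.zeroLocus ((J' : Ideal A) : Set A) ∩ PrimeSpectrum.zeroLocus ((I : Ideal A) : Set A) =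
        PrimeSpectrum.zeroLocus ((J : Ideal A) : Set A) ∩ PrimeSpectrum.zeroLocus ((I : Ideal A) : Set A) →
        ∀ i : ℕ, i ≤ s → Function.Bijective ((Dual2.HmapOfLE hJ' i).app (ModuleCat.of A M)).hom) ∧
      ∃ n : ℕ, ∀ a ∈ (J₀ * I) ^ n, ∀ i : ℕ, i ≤ s → ∀ x : LocCoh.H J₀ i M, a • x = 0 :=
    ⟨hJJ, Groth.LocCohTransform.DualKillColimit.zeroLocus_inter I J hJJ hsub,
      Groth.LocCohTransform.DualKillColimit.bijective_hmap hω M I J s d h3' h4' hJJ hsub hrel,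
      Groth.LocCohTransform.DualKillColimit.exists_pow_mul_killing hω M I J s d h3' h4' hsub hrel⟩
  refine ⟨J₀, hbase, (Groth.Agent.S0329.result A J₀ M s).2 ?_⟩
  obtain ⟨n, hn⟩ := Groth.LocCohTransform.DualKillColimit.exists_pow_killing hω M s J₀ J₀
    fun q P hL hnt Q hPQ hKQ => by
      obtain ⟨P₀, hP₀, ⟨δ, hq, hδ⟩, hT₀⟩ := hrel q P hnt
      have hnJ : ¬ J₀ ≤ P₀.asIdeal := fun h => hL (h.trans hP₀)
      have hQ := hsub Q hKQ
      by_cases hI : I ≤ P₀.asIdeal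
      · have hPR : P₀ ≤ Q := hP₀.trans hPQ
        have hIQ : I ≤ Q.asIdeal := hI.trans hPR
        obtain ⟨m, hm⟩ := Groth.LocCohTransform.DualDegree.exists_degree_eq hω hPR
        have h := h2 P₀ hI (fun h => hnJ (hJJ.trans h)) Q hPR (hQ Q le_rfl hIQ) hIQ
        rw [Groth.LocCohTransform.DualDegree.dimBetween hω hPR hm] at h
        have h' := lt_of_lt_of_le h (add_le_add (WithBot.coe_le_coe.2 hδ) le_rfl)
        have h'' : s < δ + m := by exact_mod_cast h'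
        omega
      · have := Groth.LocCohTransform.DualKillColimit.good hω M I J s d h3' h4'
          (fun h => hnJ (hT₀ h)) hI (hP₀.trans hPQ) hQ hδ
        omega
  exact ⟨J₀ ^ n, fun x hx => ⟨n, Ideal.pow_mem_pow hx n⟩, fun i hi a ha x => hn a ha i hi x⟩

end Groth.Agent.S8791
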