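import Groth.Statements.S8792
import Groth.Agent.LocCohTransform.DualKillColimit

set_option autoImplicit false
universe u
open CategoryTheory
attribute [local instance] HasDerivedCategory.standard
open LocCoh

namespace Groth.Agent.S8792

/-- Let A be a Noetherian ring with a dualizing complex, I and J ideals, M a finite A-module, s and d
naturals, and T the set of primes p with V(p) ∩ V(I) ⊆ V(J). Assume: (3) every prime p ∉ V(I) lying
in T admits some q ∈ V(p) ∩ V(J) ∩ V(I) with dim((A/p)_q) ≤ d; (4) every prime p ∉ V(I) not in T has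
depth(M_p) ≥ s or depth(M_p) + dim((A/p)_q) > d + s for all q ∈ V(p) ∩ V(J) ∩ V(I); (6) every prime
p ∉ V(I) lying in T has depth(M_p) > s. Then there is an ideal J₀ ⊆ J with V(J₀) ∩ V(I) = V(J) ∩
V(I) such that for every J' ⊆ J₀ with V(J') ∩ V(I) = V(J) ∩ V(I) and every i ≤ s the comparison map
H^i_{J₀}(M) → H^i_{J'}(M) is bijective and H^i_{J₀}(M) is annihilated by a power of J₀I for i ≤ s;
moreover for i ≤ s the comparison maps H^i_J(M) → H^i_{J₀}(M) and H^i_{J+I}(M) → H^i_J(M) are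
bijective and H^i_J(M) is annihilated by a power of I. -/
theorem result (A : Type u) [CommRing A] [IsNoetherianRing A] (hdc : ∃ ω : Dual.D A, Dual.IsDualizing A ω) (I J : Ideal A) (M : Type u) [AddCommGroup M] [Module A M] [Module.Finite A M] (s d : ℕ) (T : Set (PrimeSpectrum A)) (hT : ∀ p : PrimeSpectrum A, p ∈ T ↔ ∀ q : PrimeSpectrum A, p ≤ q → I ≤ q.asIdeal → J ≤ q.asIdeal) (h3 : ∀ p : PrimeSpectrum A, ¬ I ≤ p.asIdeal → p ∈ T → ∃ q : PrimeSpectrum A, p ≤ q ∧ J ≤ q.asIdeal ∧ I ≤ q.asIdeal ∧ Formal2.dimBetween A p.asIdeal q.asIdeal ≤ ((d : ℕ∞) : WithBot ℕ∞)) (h4 : ∀ p : PrimeSpectrum A, ¬ I ≤ p.asIdeal → p ∉ T → ∀ q : PrimeSpectrum A, p ≤ q → J ≤ q.asIdeal → I ≤ q.asIdeal → (s : ℕ∞) ≤ LocCoh.depth (Localization.AtPrime p.asIdeal) (LocalizedModule p.asIdeal.primeCompl M) ∨ (((d + s : ℕ) : ℕ∞) : WithBot ℕ∞) < ((LocCoh.depth (Localization.AtPrime p.asIdeal) (LocalizedModule p.asIdeal.primeCompl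 M) : ℕ∞) : WithBot ℕ∞) + Formal2.dimBetween A p.asIdeal q.asIdeal) (h6 : ∀ p : PrimeSpectrum A, ¬ I ≤ p.asIdeal → p ∈ T → (s : ℕ∞) < LocCoh.depth (Localization.AtPrime p.asIdeal) (LocalizedModule p.asIdeal.primeCompl M)) : ∃ (J₀ : Ideal A) (hJ₀ : J₀ ≤ J), (J₀ ≤ J ∧ PrimeSpectrum.zeroLocus ((J₀ : Ideal A) : Set A) ∩ PrimeSpectrum.zeroLocus ((I : Ideal A) : Set A) = PrimeSpectrum.zeroLocus ((J : Ideal A) : Set A) ∩ PrimeSpectrum.zeroLocus ((I : Ideal A) : Set A) ∧ (∀ (J' : Ideal A) (hJ' : J' ≤ J₀), PrimeSpectrum.zeroLocus ((J' : Ideal A) : Set A) ∩ PrimeSpectrum.zeroLocus ((I : Ideal A) : Set A) = PrimeSpectrum.zeroLocus ((J : Ideal A) : Set A) ∩ PrimeSpectrum.zeroLocus ((I : Ideal A) : Set A) → ∀ i : ℕ, i ≤ s → Function.Bijective ((Dual2.HmapOfLE hJ' i).app (ModuleCat.of A M)).hom) ∧ (∃ n : ℕ, ∀ a ∈ (J₀ * I) ^ n, ∀ i : ℕ, i ≤ s → ∀ x : LocCoh.H J₀ i M, a • x = 0)) ∧ (∀ i : ℕ, i ≤ s → Function.Bijective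 ((Dual2.HmapOfLE hJ₀ i).app (ModuleCat.of A M)).hom ∧ Function.Bijective ((Dual2.HmapOfLE (le_sup_left : J ≤ J ⊔ I) i).app (ModuleCat.of A M)).hom) ∧ ∃ n : ℕ, ∀ a ∈ I ^ n, ∀ i : ℕ, i ≤ s → ∀ x : LocCoh.H J i M, a • x = 0 := by
  obtain ⟨ω, hω⟩ := hdc
  have h3' : Groth.LocCohTransform.DualKillColimit.Cond3 I J d := fun p hI hp => h3 p hI ((hT p).2 hp)
  have h4' : Groth.LocCohTransform.DualKillColimit.Cond4 M I J s d := fun p hI hp => h4 p hI fun hpT => hp ((hT p).1 hpT)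
  obtain ⟨J₀, hJJ, hsub, hrel⟩ := Groth.LocCohTransform.DualKillColimit.exists_J₀ hω M I J
  have hbase : J₀ ≤ J ∧ PrimeSpectrum.zeroLocus ((J₀ : Ideal A) : Set A) ∩ PrimeSpectrum.zeroLocus ((I : Ideal A) : Set A) =
      PrimeSpectrum.zeroLocus ((J : Ideal A) : Set A) ∩ PrimeSpectrum.zeroLocus ((I : Ideal A) : Set A) ∧
      (∀ (J' : Ideal A) (hJ' : J' ≤ J₀), PrimeSpectrum.zeroLocus ((J' : Ideal A) : Set A) ∩ PrimeSpectrum.zeroLocus ((I : Ideal A) : Set A) =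
        PrimeSpectrum.zeroLocus ((J : Ideal A) : Set A) ∩ PrimeSpectrum.zeroLocus ((I : Ideal A) : Set A) →
        ∀ i : ℕ, i ≤ s → Function.Bijective ((Dual2.HmapOfLE hJ' i).app (ModuleCat.of A M)).hom) ∧
      ∃ n : ℕ, ∀ a ∈ (J₀ * I) ^ n, ∀ i : ℕ, i ≤ s → ∀ x : LocCoh.H J₀ i M, a • x = 0 :=
    ⟨hJJ, Groth.LocCohTransform.DualKillColimit.zeroLocus_inter I J hJJ hsub,
      Groth.LocCohTransform.DualKillColimit.bijective_hmap hω M I J s d h3' h4' hJJ hsub hrel,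
      Groth.LocCohTransform.DualKillColimit.exists_pow_mul_killing hω M I J s d h3' h4' hsub hrel⟩
  have hdep : ∀ p : PrimeSpectrum A, J₀ ≤ p.asIdeal → ¬ I ≤ p.asIdeal →
      (s : ℕ∞) < Groth.LocCohTransform.DualKillColimit.dep M p := fun p hp hI => h6 p hI ((hT p).2 (hsub p hp))
  refine ⟨J₀, hJJ, hbase, fun i hi =>
    ⟨Groth.LocCohTransform.DualKillColimit.hmap_bijective_of_depth M s hJJ (fun p hp hp' =>
        hdep p hp fun hI => hp' (hsub p hp p le_rfl hI)) i hi,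
      Groth.LocCohTransform.DualKillColimit.hmap_bijective_of_depth M s (le_sup_left : J ≤ J ⊔ I) (fun p hp hp' =>
        hdep p (hJJ.trans hp) fun hI => hp' (sup_le hp hI)) i hi⟩, ?_⟩
  exact Groth.LocCohTransform.DualKillColimit.exists_pow_killing hω M s J I fun q P hL hnt Q hPQ hKQ => by
    obtain ⟨P₀, hP₀, ⟨δ, hq, hδ⟩, hT₀⟩ := hrel q P hnt
    have hnI : ¬ I ≤ P₀.asIdeal := fun h => hL (h.trans hP₀)
    have hPR : P₀ ≤ Q := hP₀.trans hPQ
    by_cases hPT : Groth.LocCohTransform.DualKillColimit.InT I J P₀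
    · have h := (h6 P₀ hnI ((hT P₀).2 hPT)).trans_le hδ
      have h' : s < δ := by exact_mod_cast h
      have := Groth.LocCohTransform.DualDegree.degree_mono hω hPR
      omega
    · have := Groth.LocCohTransform.DualKillColimit.good hω M I J s d h3' h4' hPT hnI hPR
        (fun r hr _ => hKQ.trans hr) hδ
      omega

end Groth.Agent.S8792
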