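import Groth.Statements.S8795
import Groth.Agent.LocCohTransform.AlgebraizeApply

set_option autoImplicit false
universe u
open CategoryTheory
attribute [local instance] HasDerivedCategory.standard
open LocCoh

namespace Groth.Agent.S8795

/-- Let (A, m) be a Noetherian local ring which is I-adically complete for an ideal I and has a
dualizing complex; let d be a natural with cd(A, I) ≤ d, M a finite A-module and s a natural. Assume
that every prime p ∉ V(I) with V(p) ∩ V(I) ≠ {m} satisfies depth(M_p) ≥ s or depth(M_p) + dim(A/p) >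
d + s, and that derived I-adic completion (left adjoint to the inclusion of derived complete
objects) exists on D(A). Then there is an ideal J₀ with V(J₀) ∩ V(I) = {m} such that for every ideal
J ⊆ J₀ with V(J) ∩ V(I) = {m} whose total right derived functor RΓ_J exists, the canonical map from
RΓ_J(M) to its derived I-adic completion induces a bijection on cohomology in every degree i ≤ s.
(The identification of that completion with the completion of RΓ_m(M) is not part of this
statement.) -/
theorem result (A : Type u) [CommRing A] [IsNoetherianRing A] [IsLocalRing A] (I : Ideal A) [IsAdicComplete I A] (hdc : ∃ ω : Dual.D A, Dual.IsDualizing A ω) [DRing.HasDerivedCompletion I] (d : ℕ) (hcd : LocCoh.CdLE A I d) (M : Type u) [AddCommGroup M] [Module A M] [Module.Finite A M] (s : ℕ) (h4 : ∀ p : PrimeSpectrum A, ¬ I ≤ p.asIdeal → (∃ r : PrimeSpectrum A, p ≤ r ∧ I ≤ r.asIdeal ∧ r.asIdeal ≠ IsLocalRing.maximalIdeal A) → (s : ℕ∞) ≤ LocCoh.depth (Localization.AtPrime p.asIdeal) (LocalizedModule p.asIdeal.primeCompl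 M) ∨ (((d + s : ℕ) : ℕ∞) : WithBot ℕ∞) < ((LocCoh.depth (Localization.AtPrime p.asIdeal) (LocalizedModule p.asIdeal.primeCompl M) : ℕ∞) : WithBot ℕ∞) + ringKrullDim (A ⧸ p.asIdeal)) : ∃ J₀ : Ideal A, PrimeSpectrum.zeroLocus ((J₀ : Ideal A) : Set A) ∩ PrimeSpectrum.zeroLocus ((I : Ideal A) : Set A) = {IsLocalRing.closedPoint A} ∧ ∀ (J : Ideal A) [DRing.HasRgammaI J], J ≤ J₀ → PrimeSpectrum.zeroLocus ((J : Ideal A) : Set A) ∩ PrimeSpectrum.zeroLocus ((I : Ideal A) : Set A) = {IsLocalRing.closedPoint A} → ∀ i : ℤ, i ≤ s → Function.Bijective ((DerivedCategory.homologyFunctor (ModuleCat.{u} A) i).map (DRing.toDerivedCompletion I ((DRing.RgammaI J).obj (Dual.inD A M)))).hom := by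
  obtain ⟨ω, hω⟩ := hdc
  have hIm : I ≤ IsLocalRing.maximalIdeal A := by
    refine IsLocalRing.le_maximalIdeal fun htop => ?_
    have h1 : (1 : A) ∈ Ideal.jacobson (⊥ : Ideal A) := IsAdicComplete.le_jacobson_bot I (htop ▸ Submodule.mem_top)
    rw [IsLocalRing.jacobson_eq_maximalIdeal ⊥ bot_ne_top] at h1
    exact (IsLocalRing.maximalIdeal.isMaximal A).ne_top ((Ideal.eq_top_iff_one _).2 h1)
  have hcp : ∀ p : PrimeSpectrum A, IsLocalRing.maximalIdeal A ≤ p.asIdeal ↔ p = IsLocalRing.closedPoint A := fun p =>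
    ⟨fun h => PrimeSpectrum.ext ((IsLocalRing.maximalIdeal.isMaximal A).eq_of_le p.2.ne_top h).symm, fun h => h ▸ le_rfl⟩
  have hVm : PrimeSpectrum.zeroLocus ((IsLocalRing.maximalIdeal A : Ideal A) : Set A) ∩
      PrimeSpectrum.zeroLocus ((I : Ideal A) : Set A) = {IsLocalRing.closedPoint A} := by
    ext p
    simp only [Set.mem_inter_iff, PrimeSpectrum.mem_zeroLocus, SetLike.coe_subset_coe, Set.mem_singleton_iff]
    exact ⟨fun h => (hcp p).1 h.1, fun h => ⟨(hcp p).2 h, hIm.trans ((hcp p).2 h)⟩⟩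
  obtain ⟨J₀, -, hV, h⟩ := Groth.LocCohTransform.AlgebraizeApply.exists_algebraization I (IsLocalRing.maximalIdeal A) M hω s d hcd
    (fun p hI hp q _ hmq _ => by
      obtain rfl := (hcp q).1 hmq
      rw [Groth.LocCohTransform.AlgebraizeApply.dimBetween_closedPoint hω]
      refine h4 p hI ?_
      simp only [not_forall, exists_prop] at hp
      obtain ⟨r, hpr, hIr, hr⟩ := hp
      exact ⟨r, hpr, hIr, fun heq => hr heq.ge⟩)
  exact ⟨J₀, hV.trans hVm, fun J _ hJ hVJ i hi => h J hJ (hVJ.trans hVm.symm) i hi⟩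

end Groth.Agent.S8795
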