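import Groth.Statements.S8796
import Groth.Agent.SuppCx.CompletionDepth

set_option autoImplicit false
set_option linter.style.haveILetI false
universe u
open CategoryTheory
open Dual2

open Groth.DualCore
attribute [local instance] HasDerivedCategory.standard

namespace Groth.Agent.S8796

/-- Let A be a Noetherian ring with a dualizing complex, I an ideal with cd(A, I) ≤ d, M a finite
A-module, T ⊆ V(I) a subset stable under specialization and s a natural, satisfying: (4) for primes
p ⊆ r ⊆ q with p ∉ V(I), r ∈ V(I) ∖ T and q ∈ T, either depth(M_p) ≥ s or depth(M_p) + dim((A/p)_q)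
> d + s; (6) for q ∈ T, writing A', I', M' for the I-adic completions of A_q, IA_q, M_q, one has
depth(M'_{p'}) > s for every prime p' of A' not containing I' such that the only primes containing
both p' and I' are maximal. Let p ⊆ q be primes with p ∉ V(I) and q ∈ T such that no prime r with p
⊆ r ⊆ q lies in V(I) ∖ T. Then depth(M_p) > s. -/
theorem result (A : Type u) [CommRing A] [IsNoetherianRing A] (hdc : ∃ ω : Dual.D A, Dual.IsDualizing A ω) (I : Ideal A) (d : ℕ) (hcd : LocCoh.CdLE A I d) (M : Type u) [AddCommGroup M] [Module A M] [Module.Finite A M] (T : Set (PrimeSpectrum A)) (hTI : T ⊆ PrimeSpectrum.zeroLocus (I : Set A)) (hT : StableUnderSpecialization T) (s : ℕ) (h4 : ∀ p r q : PrimeSpectrum A, p ≤ r → r ≤ q → ¬ I ≤ p.asIdeal → I ≤ r.asIdeal → r ∉ T → q ∈ T → (s : ℕ∞) ≤ LocCoh.depth (Localization.AtPrime p.asIdeal) (LocalizedModule p.asIdeal.primeCompl M) ∨ ((d + s : ℕ) : WithBot ℕ∞) < (LocCoh.depth (Localization.AtPrime p.asIdeal) (LocalizedModule p.asIdeal.primeCompl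 M) : WithBot ℕ∞) + Formal2.dimBetween A p.asIdeal q.asIdeal) (h6 : ∀ q : PrimeSpectrum A, q ∈ T → ∀ p' : PrimeSpectrum (AdicCompletion (I.map (algebraMap A (Localization.AtPrime q.asIdeal))) (Localization.AtPrime q.asIdeal)), ¬ (I.map (algebraMap A (AdicCompletion (I.map (algebraMap A (Localization.AtPrime q.asIdeal))) (Localization.AtPrime q.asIdeal)))) ≤ p'.asIdeal → (∀ q' : PrimeSpectrum (AdicCompletion (I.map (algebraMap A (Localization.AtPrime q.asIdeal))) (Localization.AtPrime q.asIdeal)), p' ≤ q' → (I.map (algebraMap A (AdicCompletion (I.map (algebraMap A (Localization.AtPrime q.asIdeal))) (Localization.AtPrime q.asIdeal)))) ≤ q'.asIdeal → q'.asIdeal.IsMaximal) → (s : ℕ∞) < LocCoh.depth (Localization.AtPrime p'.asIdeal) (LocalizedModule p'.asIdeal.primeCompl (AdicCompletion (I.map (algebraMap A (Localization.AtPrime q.asIdeal))) (LocalizedModule q.asIdeal.primeCompl M)))) (p q : PrimeSpectrum A) (hpq : p ≤ q) (hp : ¬ I ≤ p.asIdeal) (hq : q ∈ T) (hr : ∀ r : PrimeSpectrum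 A, p ≤ r → r ≤ q → I ≤ r.asIdeal → r ∈ T) : (s : ℕ∞) < LocCoh.depth (Localization.AtPrime p.asIdeal) (LocalizedModule p.asIdeal.primeCompl M) := by
  obtain ⟨ω, hω⟩ := hdc
  have hpI : p.asIdeal ⊔ I ≤ q.asIdeal := sup_le hpq (hTI hq)
  obtain ⟨q₀, hq₀, hq₀q⟩ := Ideal.exists_minimalPrimes_le hpI
  obtain ⟨r₀, rfl⟩ : ∃ r : PrimeSpectrum A, r.asIdeal = q₀ := ⟨⟨q₀, hq₀.1.1⟩, rfl⟩
  have hr₀ : r₀ ∈ T := hr r₀ (le_sup_left.trans hq₀.1.2) hq₀q (le_sup_right.trans hq₀.1.2)
  let B := Localization.AtPrime r₀.asIdeal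
  haveI : IsNoetherianRing B := IsLocalization.isNoetherianRing r₀.asIdeal.primeCompl _ inferInstance
  let J : Ideal B := I.map (algebraMap A B)
  let C := AdicCompletion J B
  haveI : IsNoetherianRing C := Groth.SuppCx.CompletionDepth.isNoetherianRing_completion J
  have hωB := isDualizing_atPrime r₀.asIdeal hω
  let N := LocalizedModule r₀.asIdeal.primeCompl M
  haveI : Module.Finite B N :=
    Module.Finite.of_isLocalizedModule r₀.asIdeal.primeCompl (LocalizedModule.mkLinearMap r₀.asIdeal.primeCompl M)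
  have hdisj : Disjoint (r₀.asIdeal.primeCompl : Set A) p.asIdeal :=
    Set.disjoint_left.2 fun a ha hap => ha ((le_sup_left.trans hq₀.1.2) hap)
  let P : Ideal B := p.asIdeal.map (algebraMap A B)
  haveI hP : P.IsPrime := IsLocalization.isPrime_of_isPrime_disjoint r₀.asIdeal.primeCompl B _ p.2 hdisj
  have hPc : P.comap (algebraMap A B) = p.asIdeal :=
    IsLocalization.under_map_of_isPrime_disjoint r₀.asIdeal.primeCompl B p.2 hdisj
  haveI : Nontrivial C := by
    obtain ⟨Q, hQ⟩ := Ideal.exists_maximal B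
    have hJ : J ≤ IsLocalRing.maximalIdeal B := by
      rw [← Localization.AtPrime.map_eq_maximalIdeal]
      exact Ideal.map_mono (le_sup_right.trans hq₀.1.2)
    have : Nontrivial (B ⧸ J ^ 1) := Ideal.Quotient.nontrivial_iff.2 (by
      rw [pow_one]
      exact fun h => (IsLocalRing.maximalIdeal.isMaximal B).ne_top (top_le_iff.1 (h ▸ hJ)))
    exact (AdicCompletion.evalₐ J 1).toRingHom.domain_nontrivial
  obtain ⟨Q, hQ⟩ := Ideal.exists_maximal C
  have hQm := Groth.SuppCx.CompletionDepth.isMaximal_comap J Q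
  have hPQ : P ≤ Q.comap (algebraMap B C) := by
    rw [IsLocalRing.eq_maximalIdeal hQm]
    exact IsLocalRing.le_maximalIdeal hP.ne_top
  haveI : Module.Flat B C := inferInstance
  haveI : Q.LiesOver (Q.comap (algebraMap B C)) := ⟨rfl⟩
  obtain ⟨p₁, hp₁Q, hp₁, hp₁P⟩ :=
    Ideal.exists_ideal_le_liesOver_of_le (p := P) (q := Q.comap (algebraMap B C)) Q hPQ
  haveI := hp₁
  have hp₁c : p₁.comap (algebraMap B C) = P := hp₁P.over.symm
  obtain ⟨p₂, hp₂, hp₂p₁⟩ := Ideal.exists_minimalPrimes_le (J := p₁) (I := P.map (algebraMap B C))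
    (Ideal.map_le_iff_le_comap.2 hp₁c.ge)
  let p' : PrimeSpectrum C := ⟨p₂, hp₂.1.1⟩
  have hp'c : p'.asIdeal.comap (algebraMap B C) = P :=
    le_antisymm ((Ideal.comap_mono hp₂p₁).trans hp₁c.le) (Ideal.map_le_iff_le_comap.1 hp₂.1.2)
  have hmin : p'.asIdeal ∈ ((p'.asIdeal.comap (algebraMap B C)).map (algebraMap B C)).minimalPrimes := by
    rw [hp'c]; exact hp₂
  have hmap : I.map (algebraMap A C) = J.map (algebraMap B C) := by
    rw [Ideal.map_map, ← IsScalarTower.algebraMap_eq]
  have h := h6 r₀ hr₀ p' (fun h => hp ?_) (fun q' hq' hIq' => ?_)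
  · have hle := h.trans_le (Groth.SuppCx.CompletionDepth.depth_completion_le hωB J N p' hmin)
    rwa [Groth.LocCohTransform.depth_localization_localized r₀.asIdeal.primeCompl _ p.asIdeal (by
      show p.asIdeal = (p'.asIdeal.comap (algebraMap B C)).comap (algebraMap A B)
      rw [hp'c, hPc]) M] at hle
  · rw [hmap, Ideal.map_le_iff_le_comap, hp'c, Ideal.map_le_iff_le_comap, hPc] at h
    exact h
  · rw [hmap] at hIq'
    let y := q'.asIdeal.comap (algebraMap B C)
    have h1 : P ≤ y := hp'c.ge.trans (Ideal.comap_mono hq')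
    have h2 : J ≤ y := Ideal.map_le_iff_le_comap.1 hIq'
    have h3 : p.asIdeal ⊔ I ≤ y.comap (algebraMap A B) :=
      sup_le (hPc.ge.trans (Ideal.comap_mono h1)) (Ideal.map_le_iff_le_comap.1 h2)
    have h4 : y.comap (algebraMap A B) ≤ r₀.asIdeal :=
      (Ideal.comap_mono (IsLocalRing.le_maximalIdeal (Ideal.IsPrime.ne_top inferInstance))).trans_eq
        (IsLocalization.AtPrime.under_maximalIdeal B r₀.asIdeal)
    have h5 : y.comap (algebraMap A B) = r₀.asIdeal := le_antisymm h4 (hq₀.2 ⟨inferInstance, h3⟩ h4)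
    haveI : y.IsMaximal := by
      have : y = IsLocalRing.maximalIdeal B := le_antisymm
        (IsLocalRing.le_maximalIdeal (Ideal.IsPrime.ne_top inferInstance)) (by
          rw [← Localization.AtPrime.map_eq_maximalIdeal]
          exact Ideal.map_le_iff_le_comap.2 h5.ge)
      rw [this]; exact IsLocalRing.maximalIdeal.isMaximal B
    exact Groth.SuppCx.CompletionDepth.eq_map_of_le J q'.asIdeal hIq'

end Groth.Agent.S8796
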