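import Groth.Statements.S8797
import Groth.Agent.SuppCx.CompletionDepth

set_option autoImplicit false
set_option linter.style.haveILetI false
universe u
open CategoryTheory
open Dual2

open Groth.DualCore
attribute [local instance] HasDerivedCategory.standard

namespace Groth.Agent.S8797

/-- Let I ⊆ 𝔞 be ideals of a Noetherian ring A with a dualizing complex, d a natural with cd(A, I) ≤ d,
M a finite A-module and s a natural. Assume (c): for every prime p ∉ V(I) and every prime q ∈ V(p) ∩
V(𝔞), either depth(M_p) > s or depth(M_p) + dim((A/p)_q) > d + s. Then for every q ∈ V(𝔞), writing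
A', I', M' for the I-adic completions of A_q, IA_q, M_q, one has depth(M'_{p'}) > s for every prime
p' of A' not containing I' such that the only primes containing both p' and I' are maximal. (The
published statement concludes that all standing conditions of the setting hold; the others follow at
once from the hypotheses, and this row states only this depth condition on completions.) -/
theorem result (A : Type u) [CommRing A] [IsNoetherianRing A] (hdc : ∃ ω : Dual.D A, Dual.IsDualizing A ω) (I 𝔞 : Ideal A) (hI𝔞 : I ≤ 𝔞) (d : ℕ) (hcd : LocCoh.CdLE A I d) (M : Type u) [AddCommGroup M] [Module A M] [Module.Finite A M] (s : ℕ) (hc : ∀ p q : PrimeSpectrum A, p ≤ q → ¬ I ≤ p.asIdeal → 𝔞 ≤ q.asIdeal → (s : ℕ∞) < LocCoh.depth (Localization.AtPrime p.asIdeal) (LocalizedModule p.asIdeal.primeCompl M) ∨ (((d + s : ℕ) : ℕ∞) : WithBot ℕ∞) < ((LocCoh.depth (Localization.AtPrime p.asIdeal) (LocalizedModule p.asIdeal.primeCompl M) : ℕ∞) : WithBot ℕ∞) + Formal2.dimBetween A p.asIdeal q.asIdeal) (T : Set (PrimeSpectrum A)) (hT : T = PrimeSpectrum.zeroLocus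 ((𝔞 : Ideal A) : Set A)) : ∀ q : PrimeSpectrum A, q ∈ T → ∀ p' : PrimeSpectrum (AdicCompletion (I.map (algebraMap A (Localization.AtPrime q.asIdeal))) (Localization.AtPrime q.asIdeal)), ¬ (I.map (algebraMap A (AdicCompletion (I.map (algebraMap A (Localization.AtPrime q.asIdeal))) (Localization.AtPrime q.asIdeal)))) ≤ p'.asIdeal → (∀ q' : PrimeSpectrum (AdicCompletion (I.map (algebraMap A (Localization.AtPrime q.asIdeal))) (Localization.AtPrime q.asIdeal)), p' ≤ q' → (I.map (algebraMap A (AdicCompletion (I.map (algebraMap A (Localization.AtPrime q.asIdeal))) (Localization.AtPrime q.asIdeal)))) ≤ q'.asIdeal → q'.asIdeal.IsMaximal) → (s : ℕ∞) < LocCoh.depth (Localization.AtPrime p'.asIdeal) (LocalizedModule p'.asIdeal.primeCompl (AdicCompletion (I.map (algebraMap A (Localization.AtPrime q.asIdeal))) (LocalizedModule q.asIdeal.primeCompl M))) := by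
  intro q hq p' hp' hmax
  obtain ⟨ω, hω⟩ := hdc
  have hqa : 𝔞 ≤ q.asIdeal := by rw [hT] at hq; exact hq
  let B := Localization.AtPrime q.asIdeal
  haveI : IsNoetherianRing B := IsLocalization.isNoetherianRing q.asIdeal.primeCompl _ inferInstance
  let J : Ideal B := I.map (algebraMap A B)
  let C := AdicCompletion J B
  haveI : IsNoetherianRing C := Groth.SuppCx.CompletionDepth.isNoetherianRing_completion J
  have hωB := isDualizing_atPrime q.asIdeal hω
  let N := LocalizedModule q.asIdeal.primeCompl M
  haveI : Module.Finite B N :=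
    Module.Finite.of_isLocalizedModule q.asIdeal.primeCompl (LocalizedModule.mkLinearMap q.asIdeal.primeCompl M)
  have hmap : I.map (algebraMap A C) = J.map (algebraMap B C) := by
    rw [Ideal.map_map, ← IsScalarTower.algebraMap_eq]
  rw [hmap] at hp' hmax
  obtain ⟨Q, hQ, hle⟩ := Ideal.exists_le_maximal p'.asIdeal p'.2.ne_top
  let q' : PrimeSpectrum C := ⟨Q, hQ.isPrime⟩
  have hQI : J.map (algebraMap B C) ≤ Q := Groth.SuppCx.CompletionDepth.map_le_of_isMaximal J Q
  obtain ⟨c, D, D', hcD, hdep, hD', hD⟩ :=
    Groth.SuppCx.CompletionDepth.exists_depth_formula hωB J N p' q' hle hQI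
  have hbd := Groth.SuppCx.CompletionDepth.dimBetween_completion_le J d
    (Groth.LocCohBase.cdLE_map B hcd) p' q' hle hQI hmax
  rw [hD'] at hbd
  have hD'd : D' ≤ d := by exact_mod_cast hbd
  let P := PrimeSpectrum.comap (algebraMap B C) p'
  let p := PrimeSpectrum.comap (algebraMap A B) P
  have hpq : p ≤ q := (Ideal.comap_mono (IsLocalRing.le_maximalIdeal P.2.ne_top)).trans_eq
    (IsLocalization.AtPrime.under_maximalIdeal B q.asIdeal)
  have hp : ¬ I ≤ p.asIdeal := fun h => hp' (Ideal.map_le_iff_le_comap.2 (Ideal.map_le_iff_le_comap.2 h))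
  have hdeq : LocCoh.depth (Localization.AtPrime P.asIdeal) (LocalizedModule P.asIdeal.primeCompl N) =
      LocCoh.depth (Localization.AtPrime p.asIdeal) (LocalizedModule p.asIdeal.primeCompl M) :=
    Groth.LocCohTransform.depth_localization_localized q.asIdeal.primeCompl _ p.asIdeal rfl M
  have hdep' := hdep.trans (congrArg (· + (c : ℕ∞)) hdeq)
  have hmQ : Q.comap (algebraMap B C) = IsLocalRing.maximalIdeal B :=
    IsLocalRing.eq_maximalIdeal (Groth.SuppCx.CompletionDepth.isMaximal_comap J Q)
  have hdim : Formal2.dimBetween A p.asIdeal q.asIdeal =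
      Formal2.dimBetween B P.asIdeal (PrimeSpectrum.comap (algebraMap B C) q').asIdeal := by
    have hu : (PrimeSpectrum.comap (algebraMap B C) q').asIdeal.primeCompl ≤ IsUnit.submonoid B :=
      fun x hx => by
        have hx' : x ∉ IsLocalRing.maximalIdeal B := hmQ ▸ hx
        exact not_not.1 hx'
    let e := IsLocalization.atUnits B (PrimeSpectrum.comap (algebraMap B C) q').asIdeal.primeCompl hu
      (S := Localization.AtPrime (PrimeSpectrum.comap (algebraMap B C) q').asIdeal)
    show ringKrullDim (B ⧸ p.asIdeal.map (algebraMap A B)) = ringKrullDim _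
    refine ringKrullDim_eq_of_ringEquiv (Ideal.quotientEquiv _ _ e.toRingEquiv ?_)
    have hPm : p.asIdeal.map (algebraMap A B) = P.asIdeal :=
      IsLocalization.map_under q.asIdeal.primeCompl B P.asIdeal
    rw [hPm]
    congr 1
  rw [hD] at hdim
  refine lt_of_lt_of_eq ?_ hdep'.symm
  rcases hc p q hpq hp hqa with h | h
  · exact h.trans_le le_self_add
  · rw [hdim] at h
    generalize hx : LocCoh.depth (Localization.AtPrime p.asIdeal) (LocalizedModule p.asIdeal.primeCompl M) = x at h ⊢
    rw [← WithBot.coe_add, WithBot.coe_lt_coe] at h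
    cases x with
    | top => simp
    | coe x =>
      norm_cast at h ⊢
      omega

end Groth.Agent.S8797
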