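import Groth.Statements.S8802
import Groth.Agent.MiscGeom.AlgzStalk
import Groth.Agent.MiscGeom.AlgzQR

set_option autoImplicit false
universe u
open CategoryTheory AlgebraicGeometry Opposite
open Algz
open Groth.MiscGeom Groth.CohC3

namespace Groth.Agent.S8802

/-- Let A be a Noetherian ring, I ⊆ 𝔞 ideals, U the complement of V(𝔞) in Spec A, and (F_n) an object of
Coh(U, IO_U), indexed here from 0. Assume: (1) there are f_1, …, f_d ∈ I such that for every point y
of U lying in V(I) the ideal IO_{U,y} is generated by the images of f_1, …, f_d and f_1, …, f_d form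
a regular sequence on the completed stalk F^∧_y over the completed local ring; (2) writing F_0 for
the first term of the system, both cohomology groups H^1(U, F_0) and H^0(U, F_0) are finitely
generated over A. Under these hypotheses the system (F_n) admits a canonical extension to all of
Spec A. -/
theorem result (A : Type u) [CommRing A] [IsNoetherianRing A] (I 𝔞 : Ideal A) (hI𝔞 : I ≤ 𝔞) (G : ℕᵒᵖ ⥤ (↑(LocCoh.puncturedOpen A 𝔞) : Scheme.{u}).Modules) (hG : Formal.IsCohFormal I G) (d : ℕ) (f : Fin d → A) (hfI : ∀ j, f j ∈ I) (h1 : ∀ (y : (↑(LocCoh.puncturedOpen A 𝔞) : Scheme.{u})), (LocCoh.puncturedOpen A 𝔞).ι.base y ∈ PrimeSpectrum.zeroLocus (R := A) I → Algz.stalkIdeal I y = Ideal.span (Set.range (fun j => Algz.toStalk A (↑(LocCoh.puncturedOpen A 𝔞) : Scheme.{u}) y (f j))) ∧ RingTheory.Sequence.IsRegular ↥(Algz.hatStalk I G y) (List.ofFn (fun j => algebraMap ((↑(LocCoh.puncturedOpen A 𝔞) : Scheme.{u}).presheaf.stalk y) (Algz.hatRing I y) (Algz.toStalk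 A (↑(LocCoh.puncturedOpen A 𝔞) : Scheme.{u}) y (f j))))) (h2 : Module.Finite A (Coh.HH (↑(LocCoh.puncturedOpen A 𝔞) : Scheme.{u}) (G.obj (op 0)) 0) ∧ Module.Finite A (Coh.HH (↑(LocCoh.puncturedOpen A 𝔞) : Scheme.{u}) (G.obj (op 0)) 1)) : Algz.CanonicallyExtends A I (LocCoh.puncturedOpen A 𝔞) G := by
  have hq : ∀ n, (G.obj (op n)).IsQuasicoherent := fun n => (hG.1 n).1
  refine AlgzGr.canonicallyExtends hI𝔞 hG
    (AlgzStalk.isFree_of_stalk_open (isSys_of_isCohFormal hG) hq fun n => ?_) h2.1 h2.2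
  refine ⟨AlgzQR.Mon d (n + 1), inferInstance, AlgzQR.val f (n + 1), fun j => ?_, fun y hy => ?_⟩
  · exact Ideal.pow_right_mono (Ideal.span_le.2 (by rintro _ ⟨i, rfl⟩; exact hfI i)) _ (AlgzQR.val_mem f _ j)
  obtain ⟨hspan, hreg⟩ := h1 y hy
  let g := Algz.toStalk A (↑(LocCoh.puncturedOpen A 𝔞) : Scheme.{u}) y
  let c := algebraMap ((↑(LocCoh.puncturedOpen A 𝔞) : Scheme.{u}).presheaf.stalk y) (Algz.hatRing I y)
  refine ⟨?_, fun Z hZ a => ?_⟩
  · refine le_trans ?_ le_sup_left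
    rw [hspan]
    refine (AlgzQR.pow_le_span _ _).trans (Ideal.span_mono ?_)
    rintro _ ⟨j, rfl⟩
    exact ⟨j, (AlgzQR.map_val g f (n + 1) j).trans rfl⟩
  obtain ⟨π, _, hπ2, hπ⟩ := AlgzStalk.exists_proj' (isSys_of_isCohFormal hG) hq y (IsNoetherian.noetherian I)
  choose X hX using fun b => (hπ (n + 1)).1 (Z b)
  have hu : (∑ b, g (AlgzQR.val f (n + 1) b) • X b) ∈ LinearMap.ker (π (n + 1)) := by
    rw [LinearMap.mem_ker, map_sum]
    simp only [map_smul, hX]
    exact hZ
  rw [(hπ (n + 1)).2] at hu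
  have hu' := AlgzStalk.mem_map_smul_top (S := Algz.hatRing I y) _ hu
  have hJ : Ideal.map c (Algz.stalkIdeal I y) = Ideal.span (Set.range (c ∘ g ∘ f)) :=
    (congrArg (Ideal.map c) hspan).trans (by rw [Ideal.map_span, ← Set.range_comp]; rfl)
  rw [Ideal.map_pow, hJ] at hu'
  have he : ∀ b, g (AlgzQR.val f (n + 1) b) • X b =
      AlgzQR.val (c ∘ g ∘ f) (n + 1) b • X b := fun b => by
    rw [← AlgzQR.map_val c, ← AlgzQR.map_val g]
    exact (algebraMap_smul _ _ _).symm
  simp only [he] at hu'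
  have hQ := AlgzQR.qr_of_isWeaklyRegular (c ∘ g ∘ f) hreg.toIsWeaklyRegular (n + 1) X hu' a
  rw [← hX a, AlgzStalk.str_proj y (fun n => π n) hπ2]
  refine Submodule.smul_induction_on hQ (fun k hk w _ => ?_)
    fun p q hp hq => by rw [map_add, hp, hq, add_zero]
  obtain ⟨r, rfl⟩ := (Submodule.mem_span_range_iff_exists_fun _).1 hk
  rw [Finset.sum_smul, map_sum]
  refine Finset.sum_eq_zero fun i _ => ?_
  rw [smul_eq_mul, mul_comm, mul_smul, Function.comp_apply, algebraMap_smul, map_smul]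
  refine AlgzStalk.smul_eq_zero (isSys_of_isCohFormal hG) y ?_ _
  rw [zero_add, pow_one]
  exact Ideal.mem_map_of_mem _ (hfI i)

end Groth.Agent.S8802
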