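import Groth.Statements.S8803
import Groth.Agent.LocCohBase.Nonvanishing
import Groth.Agent.EtaleDeep.AR.Images

set_option autoImplicit false
universe u
open CategoryTheory
open LocCoh

namespace Groth.Agent.S8803

/-- Let (A, m) be a Noetherian local ring and (M_n) an inverse system of finite A-modules. Then for
every i the inverse system H^i_m(M_n) of local cohomology modules satisfies the Mittag-Leffler
condition. -/
theorem result (A : Type u) [CommRing A] [IsNoetherianRing A] [IsLocalRing A] (Msys : ℕᵒᵖ ⥤ ModuleCat.{u} A) (hfin : ∀ n : ℕᵒᵖ, Module.Finite A (Msys.obj n)) (i : ℕ) : ARSys.IsML (Msys ⋙ localCohomology (IsLocalRing.maximalIdeal A) i) := by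
  intro n
  let m := IsLocalRing.maximalIdeal A
  let X : ARSys.PS (ModuleCat.{u} A) := Msys ⋙ localCohomology m i
  have hart : IsArtinian A (X.obj (Opposite.op n)) :=
    @Groth.LocCohBase.isArtinian_H A _ _ _ (Msys.obj (Opposite.op n)) _ _ (hfin (Opposite.op n)) i
  let F : ℕ →o (Submodule A (X.obj (Opposite.op n)))ᵒᵈ :=
    ⟨fun s => OrderDual.toDual (LinearMap.range (ARSys.shiftMap X s n).hom), fun a b hab => by
      intro y hy
      obtain ⟨z, rfl⟩ := hy
      have e : ARSys.shiftMap X b n =
          ARSys.tr X (Nat.add_le_add_left hab n) ≫ ARSys.shiftMap X a n := by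
        show X.map _ = X.map _ ≫ X.map _
        exact X.map_comp (homOfLE (Nat.add_le_add_left hab n)).op (homOfLE (Nat.le_add_right n a)).op
      exact ⟨(ARSys.tr X (Nat.add_le_add_left hab n)).hom z, by rw [e]; rfl⟩⟩
  obtain ⟨r, hr⟩ := IsArtinian.monotone_stabilizes F
  refine ⟨r, fun s hs => (Groth.EtaleDeep.AR.imageSubobject_eq_iff _ _).2 fun W p => ?_⟩
  have he : LinearMap.range (ARSys.shiftMap X r n).hom = LinearMap.range (ARSys.shiftMap X s n).hom :=
    hr s hs
  have key : ∀ {a b : ℕ}, LinearMap.range (ARSys.shiftMap X a n).hom =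
      LinearMap.range (ARSys.shiftMap X b n).hom → ARSys.shiftMap X a n ≫ p = 0 →
      ARSys.shiftMap X b n ≫ p = 0 := fun {a b} hab h => by
    ext z
    obtain ⟨w, hw⟩ := hab.ge ⟨z, rfl⟩
    show p.hom ((ARSys.shiftMap X b n).hom z) = 0
    rw [← hw]
    exact LinearMap.congr_fun (congrArg ModuleCat.Hom.hom h) w
  exact ⟨key he.symm, key he⟩

end Groth.Agent.S8803
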