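import Groth.Statements.S8806
import Groth.Agent.FlatmorThree.NLComplex
import Mathlib.Algebra.Homology.DerivedCategory.Ext.EnoughProjectives
import Mathlib.RingTheory.Extension.Cotangent.Basis

set_option autoImplicit false
set_option linter.style.haveILetI false
universe u
open CategoryTheory
attribute [local instance] HasDerivedCategory.standard
open LCI

namespace Groth.Agent.S8806

open HomologicalComplex Groth.FlatmorThree.NL

section Double

variable {B : Type u} [CommRing B] {X₀ X₁ : ModuleCat.{u} B} (d : X₀ ⟶ X₁) (g : B) (s : X₁ ⟶ X₀)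

/-- projection of a two-term complex to its degree `0` term, by `g - s ≫ d` -/
noncomputable def toDeg0 (h : d ≫ s = g • 𝟙 X₀) :
    double d rel_neg_one ⟶ (HomologicalComplex.single (ModuleCat.{u} B) (ComplexShape.up ℤ) 0).obj X₁ :=
  mkHomToSingle ((iX₁ d).hom ≫ (g • 𝟙 X₁ - s ≫ d)) (by
    intro i hi
    obtain rfl : i = -1 := by simp at hi; omega
    have hz : d ≫ (g • 𝟙 X₁ - s ≫ d) = 0 := by
      rw [Preadditive.comp_sub, ← Category.assoc, h, Linear.comp_smul, Linear.smul_comp, Category.comp_id,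
        Category.id_comp, sub_self]
    rw [double_d d rel_neg_one (by decide)]
    show ((iX₀ d).hom ≫ d ≫ (iX₁ d).inv) ≫ (iX₁ d).hom ≫ (g • 𝟙 X₁ - s ≫ d) = 0
    simp only [Category.assoc, Iso.inv_hom_id_assoc, hz, Limits.comp_zero])

/-- inclusion of the degree `0` term -/
noncomputable def fromDeg0 :
    (HomologicalComplex.single (ModuleCat.{u} B) (ComplexShape.up ℤ) 0).obj X₁ ⟶ double d rel_neg_one :=
  mkHomFromSingle (iX₁ d).inv (fun k hk => by
    refine (isZero_double_X d rel_neg_one k ?_ ?_).eq_of_tgt _ _ <;> simp at hk <;> omega)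

theorem exists_homotopy (h : d ≫ s = g • 𝟙 X₀) :
    Nonempty (Homotopy (g • 𝟙 (double d rel_neg_one)) (toDeg0 d g s h ≫ fromDeg0 d)) := by
  refine ⟨homotopyOfMap d d _ _ s ?_ ?_⟩
  · have h0 : (toDeg0 d g s h ≫ fromDeg0 d).f (-1) = 0 := by
      rw [HomologicalComplex.comp_f]
      exact Limits.IsZero.eq_zero_of_src (isZero_single_obj_X _ _ _ _ (by decide)) ((fromDeg0 d).f (-1)) ▸ Limits.comp_zero
    rw [h0, h]
    simp
  · rw [HomologicalComplex.comp_f, toDeg0, fromDeg0, mkHomToSingle_f, mkHomFromSingle_f]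
    simp

theorem toDeg0_eq_zero (h : d ≫ s = g • 𝟙 X₀) (h' : s ≫ d = g • 𝟙 X₁) : toDeg0 d g s h = 0 := by
  refine from_double_hom_ext ((isZero_single_obj_X (ComplexShape.up ℤ) 0 X₁ (-1) (by decide)).eq_of_tgt _ _) ?_
  rw [toDeg0, mkHomToSingle_f, h', sub_self, Limits.comp_zero, Limits.zero_comp]
  rfl

theorem smul_id_Q (h : d ≫ s = g • 𝟙 X₀) :
    g • 𝟙 (DerivedCategory.Q.obj (double d rel_neg_one)) =
      DerivedCategory.Q.map (toDeg0 d g s h) ≫ DerivedCategory.Q.map (fromDeg0 d) := by
  obtain ⟨K⟩ := exists_homotopy d g s h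
  rw [← Functor.map_comp, ← DerivedCategory.Q_map_eq_of_homotopy _ K, ← DerivedCategory.Q.map_id]
  exact (Functor.Linear.map_smul (F := DerivedCategory.Q) (R := B) (𝟙 (double d rel_neg_one)) g).symm

variable (C : CochainComplex (ModuleCat.{u} B) ℤ) (u : C ⟶ double d rel_neg_one) (v : double d rel_neg_one ⟶ C)

theorem smul_id_retract (hH : Homotopy (u ≫ v) (𝟙 C)) (h : d ≫ s = g • 𝟙 X₀) :
    g • 𝟙 (DerivedCategory.Q.obj C) = DerivedCategory.Q.map u ≫ DerivedCategory.Q.map (toDeg0 d g s h) ≫
      DerivedCategory.Q.map (fromDeg0 d) ≫ DerivedCategory.Q.map v := by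
  rw [← Category.assoc (DerivedCategory.Q.map (toDeg0 d g s h)), ← smul_id_Q d g s h, Linear.smul_comp,
    Linear.comp_smul, Category.id_comp, ← Functor.map_comp, DerivedCategory.Q_map_eq_of_homotopy _ hH,
    DerivedCategory.Q.map_id]

theorem smul_eq_zero_of_retract (hH : Homotopy (u ≫ v) (𝟙 C)) (h : d ≫ s = g • 𝟙 X₀)
    (T : DerivedCategory (ModuleCat.{u} B))
    (hT : Subsingleton ((DerivedCategory.singleFunctor (ModuleCat.{u} B) 0).obj X₁ ⟶ T))
    (φ : DerivedCategory.Q.obj C ⟶ T) : g • φ = 0 := by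
  have h0 : DerivedCategory.Q.map (fromDeg0 d) ≫ DerivedCategory.Q.map v ≫ φ = 0 := by
    haveI : Subsingleton (DerivedCategory.Q.obj ((HomologicalComplex.single (ModuleCat.{u} B) (ComplexShape.up ℤ) 0).obj X₁) ⟶ T) :=
      (((DerivedCategory.singleFunctorIsoCompQ (ModuleCat.{u} B) 0).app X₁).homCongr (Iso.refl T)).symm.subsingleton
    exact Subsingleton.elim _ _
  rw [← Category.id_comp φ, ← Linear.smul_comp, smul_id_retract d g s C u v hH h, Category.assoc,
    Category.assoc, Category.assoc, h0, Limits.comp_zero, Limits.comp_zero]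

theorem smul_id_eq_zero_of_retract (hH : Homotopy (u ≫ v) (𝟙 C)) (h : d ≫ s = g • 𝟙 X₀)
    (h' : s ≫ d = g • 𝟙 X₁) : g • 𝟙 (DerivedCategory.Q.obj C) = 0 := by
  rw [smul_id_retract d g s C u v hH h, toDeg0_eq_zero d g s h h', Functor.map_zero, Limits.zero_comp,
    Limits.comp_zero]

end Double

theorem subsingleton_from_free {B : Type u} [CommRing B] (F : Type u) [AddCommGroup F] [Module B F] [Module.Free B F]
    (N : Type u) [AddCommGroup N] [Module B N] :
    Subsingleton (Dual.inD B F ⟶ (Dual.inD B N)⟦(1 : ℤ)⟧) := by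
  haveI : Projective (ModuleCat.of B F) :=
    ModuleCat.projective_of_free (Module.Free.chooseBasis B F)
  have h := Abelian.Ext.subsingleton_of_projective.{u} (ModuleCat.of B F) (ModuleCat.of B N) 0
  exact (Abelian.Ext.homEquiv (C := ModuleCat.{u} B) (X := ModuleCat.of B F) (Y := ModuleCat.of B N)
    (n := 1)).symm.subsingleton

open Algebra Algebra.Extension MvPolynomial

theorem cotangent_ext {R S : Type u} [CommRing R] [CommRing S] [Algebra R S] (P : Extension.{u} R S)
    {m : ℕ} (F : Fin m → P.Ring) (hF : ∀ i, F i ∈ P.ker) (hspan : P.ker ≤ Ideal.span (Set.range F))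
    {W : Type u} [AddCommGroup W] [Module S W] (L L' : P.Cotangent →ₗ[S] W)
    (h : ∀ i, L (Cotangent.mk ⟨F i, hF i⟩) = L' (Cotangent.mk ⟨F i, hF i⟩)) : L = L' := by
  apply LinearMap.ext
  intro z
  obtain ⟨⟨x, hx⟩, rfl⟩ := Cotangent.mk_surjective z
  obtain ⟨a, rfl⟩ := Ideal.mem_span_range_iff_exists_fun.1 (hspan hx)
  have e : (⟨∑ i, a i * F i, hx⟩ : P.ker) = ∑ i, a i • (⟨F i, hF i⟩ : P.ker) := by
    apply Subtype.ext
    simp
  rw [e, map_sum, map_sum, map_sum]
  refine Finset.sum_congr rfl fun i _ => ?_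
  rw [map_smul, ← algebraMap_smul (A := S) (a i), map_smul, map_smul, h]

theorem exists_s (A : Type u) [CommRing A] (n m : ℕ) (hmn : m ≤ n) (f : Fin m → MvPolynomial (Fin n) A)
    (G : Generators A (MvPolynomial (Fin n) A ⧸ Ideal.span (Set.range f)) (Fin n))
    (hG : G = Generators.naive) :
    ∃ s : G.toExtension.CotangentSpace →ₗ[MvPolynomial (Fin n) A ⧸ Ideal.span (Set.range f)] G.toExtension.Cotangent,
      (∀ x, s (G.toExtension.cotangentComplex x) =
        (Ideal.Quotient.mk (Ideal.span (Set.range f))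
          (Matrix.det (Matrix.of fun i j : Fin m => pderiv (Fin.castLE hmn i) (f j)))) • x) ∧
      (n = m → ∀ x, G.toExtension.cotangentComplex (s x) =
        (Ideal.Quotient.mk (Ideal.span (Set.range f))
          (Matrix.det (Matrix.of fun i j : Fin m => pderiv (Fin.castLE hmn i) (f j)))) • x) := by
  classical
  subst hG
  set I := Ideal.span (Set.range f)
  set M : Matrix (Fin m) (Fin m) (MvPolynomial (Fin n) A ⧸ I) :=
    Matrix.of fun i j : Fin m => Ideal.Quotient.mk I (pderiv (Fin.castLE hmn i) (f j)) with hM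
  have hg : Ideal.Quotient.mk I (Matrix.det (Matrix.of fun i j : Fin m => pderiv (Fin.castLE hmn i) (f j))) = M.det := by
    rw [RingHom.map_det]; rfl
  rw [hg]
  let G : Generators A (MvPolynomial (Fin n) A ⧸ I) (Fin n) := Generators.naive
  have hker : ∀ j, f j ∈ G.toExtension.ker := fun j =>
    (Generators.ker_naive (I := I) _ (Function.surjInv_eq Ideal.Quotient.mk_surjective)).ge
      (Ideal.subset_span ⟨j, rfl⟩)
  let c : Fin m → G.toExtension.Cotangent := fun j => Cotangent.mk ⟨f j, hker j⟩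
  have hd : ∀ j k, G.cotangentSpaceBasis.repr (G.toExtension.cotangentComplex (c j)) k =
      Ideal.Quotient.mk I (pderiv k (f j)) := fun j k => by
    rw [cotangentComplex_mk]
    refine (G.cotangentSpaceBasis_repr_one_tmul (f j) k).trans ?_
    exact congrFun (congrArg DFunLike.coe (MvPolynomial.algHom_ext (f := aeval G.val) (g := Ideal.Quotient.mkₐ A I)
      (fun i => (aeval_X _ i).trans rfl))) _
  let s : G.toExtension.CotangentSpace →ₗ[MvPolynomial (Fin n) A ⧸ I] G.toExtension.Cotangent :=
    G.cotangentSpaceBasis.constr (MvPolynomial (Fin n) A ⧸ I) fun k : Fin n =>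
      if h : (k : ℕ) < m then ∑ j, M.adjugate j ⟨k, h⟩ • c j else 0
  have hs : ∀ i : Fin m, s (G.cotangentSpaceBasis (Fin.castLE hmn i)) = ∑ j, M.adjugate j i • c j := fun i => by
    refine (G.cotangentSpaceBasis.constr_basis (MvPolynomial (Fin n) A ⧸ I) _ _).trans ?_
    rw [dif_pos (show ((Fin.castLE hmn i : Fin n) : ℕ) < m from i.isLt)]
    rfl
  have hsc : ∀ l, s (G.toExtension.cotangentComplex (c l)) = M.det • c l := fun l => by
    simp only [s, Module.Basis.constr_apply_fintype, Module.Basis.equivFun_apply, hd]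
    calc _ = ∑ i : Fin m, M i l • ∑ j, M.adjugate j i • c j := by
          symm
          refine Finset.sum_bij_ne_zero (fun i _ _ => Fin.castLE hmn i) (fun _ _ _ => Finset.mem_univ _)
            (fun a _ _ b _ _ h => Fin.castLE_injective hmn h) (fun k _ hk => ?_) (fun i _ _ => ?_)
          · by_cases h : (k : ℕ) < m
            · refine ⟨⟨k, h⟩, Finset.mem_univ _, ?_, rfl⟩
              simpa [hM, h] using hk
            · simp [h] at hk
          · simp [hM]
      _ = ∑ j, (M.adjugate * M) j l • c j := by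
          simp only [Finset.smul_sum, smul_smul, Matrix.mul_apply, Finset.sum_smul]
          rw [Finset.sum_comm]
          simp only [mul_comm]
      _ = _ := by simp [Matrix.adjugate_mul, Matrix.smul_apply, Matrix.one_apply]
  refine ⟨s, fun x => ?_, fun hnm x => ?_⟩
  · have h := cotangent_ext G.toExtension f hker
      (Generators.ker_naive (I := I) _ (Function.surjInv_eq Ideal.Quotient.mk_surjective)).le
      (s.comp G.toExtension.cotangentComplex) (M.det • LinearMap.id) hsc
    exact LinearMap.congr_fun h x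
  · subst hnm
    suffices h : G.toExtension.cotangentComplex ∘ₗ s = M.det • LinearMap.id from LinearMap.congr_fun h x
    refine G.cotangentSpaceBasis.ext fun k => G.cotangentSpaceBasis.repr.injective (Finsupp.ext fun l => ?_)
    rw [LinearMap.comp_apply, show k = Fin.castLE hmn k from rfl, hs, map_sum]
    simp only [map_sum, map_smul, Finsupp.coe_finsetSum, Finset.sum_apply, Finsupp.smul_apply, hd,
      LinearMap.smul_apply, LinearMap.id_apply, Module.Basis.repr_self, smul_eq_mul]
    have h := congrFun (congrFun (Matrix.mul_adjugate M) l) k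
    rw [Matrix.mul_apply] at h
    simp only [Matrix.smul_apply, Matrix.one_apply, smul_eq_mul] at h
    rw [Finsupp.single_apply]
    simp only [eq_comm (a := Fin.castLE hmn k)]
    simp only [show Fin.castLE hmn k = k from rfl]
    convert h using 1
    refine Finset.sum_congr rfl fun j _ => ?_
    rw [mul_comm]
    rfl

/-- Let A be a ring, m ≤ n, f_1, …, f_m ∈ A[x_1, …, x_n], B = A[x_1, …, x_n]/(f_1, …, f_m), and g ∈ B
the image of the determinant of the m × m matrix of partial derivatives ∂f_j/∂x_i with i, j ≤ m (the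
first m variables). Then: (1) for every B-module N, g annihilates Ext^1_B(NL_{B/A}, N), i.e. every
morphism NL_{B/A} → N[1] in D(B) is killed by g; (2) if n = m then multiplication by g on NL_{B/A}
is the zero endomorphism in D(B). -/
theorem result (A : Type u) [CommRing A] (n m : ℕ) (hmn : m ≤ n) (f : Fin m → MvPolynomial (Fin n) A) : (∀ (N : Type u) [AddCommGroup N] [Module (MvPolynomial (Fin n) A ⧸ Ideal.span (Set.range f)) N] (φ : LCI.NL A (MvPolynomial (Fin n) A ⧸ Ideal.span (Set.range f)) ⟶ (Dual.inD (MvPolynomial (Fin n) A ⧸ Ideal.span (Set.range f)) N)⟦(1 : ℤ)⟧), (Ideal.Quotient.mk (Ideal.span (Set.range f)) (Matrix.det (Matrix.of (fun i j : Fin m => MvPolynomial.pderiv (Fin.castLE hmn i) (f j))))) • φ = 0) ∧ (n = m → (Ideal.Quotient.mk (Ideal.span (Set.range f)) (Matrix.det (Matrix.of (fun i j : Fin m => MvPolynomial.pderiv (Fin.castLE hmn i) (f j))))) • 𝟙 (LCI.NL A (MvPolynomial (Fin n) A ⧸ Ideal.span (Set.range f))) = 0) := by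
  set I := Ideal.span (Set.range f)
  set g := Ideal.Quotient.mk I (Matrix.det (Matrix.of (fun i j : Fin m => MvPolynomial.pderiv (Fin.castLE hmn i) (f j))))
  let B := MvPolynomial (Fin n) A ⧸ I
  let G : Generators A B (Fin n) := Generators.naive
  let P := (Generators.self A B).toExtension
  let u : P.Hom G.toExtension := ((Generators.self A B).defaultHom G).toExtensionHom
  let v : G.toExtension.Hom P := (G.defaultHom (Generators.self A B)).toExtensionHom
  have H : Homotopy (NLCx.map u ≫ NLCx.map v) (𝟙 (NLCx.cx P)) :=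
    ((Homotopy.ofEq (map_comp _ _)).trans (mapHomotopy _ (Extension.Hom.id _))).trans (Homotopy.ofEq map_id)
  obtain ⟨s, hs, hs'⟩ := exists_s A n m hmn f G rfl
  let dG := ModuleCat.ofHom G.toExtension.cotangentComplex
  have h1 : dG ≫ ModuleCat.ofHom s = g • 𝟙 _ := by
    apply ModuleCat.hom_ext
    exact LinearMap.ext hs
  refine ⟨fun N _ _ φ => ?_, fun hnm => ?_⟩
  · exact smul_eq_zero_of_retract dG g (ModuleCat.ofHom s) (NLCx.cx P) (NLCx.map u) (NLCx.map v) H h1 _
      (subsingleton_from_free G.toExtension.CotangentSpace N) φ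
  · have h2 : ModuleCat.ofHom s ≫ dG = g • 𝟙 _ := by
      apply ModuleCat.hom_ext
      exact LinearMap.ext (hs' hnm)
    exact smul_id_eq_zero_of_retract dG g (ModuleCat.ofHom s) (NLCx.cx P) (NLCx.map u) (NLCx.map v) H h1 h2

end Groth.Agent.S8806
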