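import Groth.Statements.S8813
import Groth.Agent.MiscGeom.DimFunDelta
import Mathlib.RingTheory.KrullDimension.NonZeroDivisors
-- import your own Groth.Agent.* helpers here

set_option autoImplicit false
universe u
open CategoryTheory AlgebraicGeometry
open Algz

namespace Groth.Agent.S8813

/-- Let Y be a Noetherian scheme, Z ⊆ Y a closed subset, y a point of Y and z a point of Z lying in the
closure of y. Then δ_Z(y) is at most the dimension of the local ring at z of the closure of y with
its reduced structure, that is, the Krull dimension of O_{Y,z}/𝔭 where 𝔭 is the prime ideal of the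
local ring O_{Y,z} given by the point of Spec O_{Y,z} that maps to y. -/
theorem result (Y : Scheme.{u}) [IsNoetherian Y] (Z : Set Y) (hZ : IsClosed Z) (y z : Y) (h : y ⤳ z) (hz : z ∈ Z) (P : PrimeSpectrum (Y.presheaf.stalk z)) (hP : (Y.fromSpecStalk z).base P = y) : ((Algz.deltaZ Z y : ℕ∞) : WithBot ℕ∞) ≤ ringKrullDim (↥(Y.presheaf.stalk z) ⧸ P.asIdeal) := by
  refine (WithBot.coe_le_coe.mpr (Groth.MiscGeom.Delta.deltaZ_le_codimPt h hz)).trans ?_
  rw [ringKrullDim_quotient]
  have hemb := (Y.fromSpecStalk z).isEmbedding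
  have key : ∀ p : LTSeries (Set.Ici (Specialization.toEquiv z)),
      p.last = ⟨Specialization.toEquiv y, Specialization.toEquiv_le_toEquiv.mpr h⟩ →
      ∃ q : LTSeries (PrimeSpectrum.zeroLocus (P.asIdeal : Set (Y.presheaf.stalk z))), q.length = p.length := by
    intro p hp
    have hex : ∀ i, ∃ Q : PrimeSpectrum (Y.presheaf.stalk z), (Y.fromSpecStalk z).base Q = Specialization.ofEquiv (p i).1 := fun i => by
      have : Specialization.ofEquiv (p i).1 ∈ Set.range (Y.fromSpecStalk z).base := by
        rw [Scheme.range_fromSpecStalk]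
        exact Specialization.toEquiv_le_toEquiv.mp (p i).2
      exact this
    choose Q hQ using hex
    have hle : ∀ {i j}, (p i).1 ≤ (p j).1 → (Q j : PrimeSpectrum (Y.presheaf.stalk z)) ≤ Q i := fun {i j} hij => by
      refine (PrimeSpectrum.le_iff_specializes _ _).2 (hemb.isInducing.specializes_iff.1 ?_)
      show (Y.fromSpecStalk z).base (Q j) ⤳ (Y.fromSpecStalk z).base (Q i)
      rw [hQ, hQ]
      exact Specialization.toEquiv_le_toEquiv.mp hij
    have hP' : ∀ i, P ≤ Q i := fun i => by
      refine (PrimeSpectrum.le_iff_specializes _ _).2 (hemb.isInducing.specializes_iff.1 ?_)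
      show (Y.fromSpecStalk z).base P ⤳ (Y.fromSpecStalk z).base (Q i)
      rw [hP, hQ]
      have h2 : p i ≤ ⟨Specialization.toEquiv y, Specialization.toEquiv_le_toEquiv.mpr h⟩ :=
        hp ▸ LTSeries.monotone p (Fin.le_last i)
      exact Specialization.toEquiv_le_toEquiv.mp h2
    refine ⟨⟨p.length, fun i => ⟨Q i.rev, hP' _⟩, fun i => ?_⟩, rfl⟩
    have hlt : p i.succ.rev < p i.castSucc.rev := p.strictMono (by simp [Fin.rev_lt_rev, Fin.castSucc_lt_succ])
    refine lt_of_le_of_ne (hle hlt.le) fun e => hlt.ne (Subtype.ext ?_)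
    have e' : (Y.fromSpecStalk z).base (Q i.castSucc.rev) = (Y.fromSpecStalk z).base (Q i.succ.rev) :=
      congrArg _ e
    rw [hQ, hQ] at e'
    exact (Specialization.ofEquiv.injective e').symm
  rcases isEmpty_or_nonempty (PrimeSpectrum.zeroLocus (P.asIdeal : Set (Y.presheaf.stalk z))) with he | he
  · exact absurd (show P ∈ PrimeSpectrum.zeroLocus (P.asIdeal : Set (Y.presheaf.stalk z)) from fun _ h => h)
      fun hmem => he.elim ⟨P, hmem⟩
  rw [Order.krullDim_eq_iSup_length, WithBot.coe_le_coe]
  refine Order.height_le fun p hp => ?_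
  obtain ⟨q, hq⟩ := key p hp
  exact hq ▸ le_iSup (fun q : LTSeries _ => (q.length : ℕ∞)) q

end Groth.Agent.S8813
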