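import Groth.Statements.S8815
import Groth.Agent.MiscGeom.DimFunDelta
import Groth.Agent.PropsBasic.Catenary
import Mathlib.RingTheory.KrullDimension.NonZeroDivisors
-- import your own Groth.Agent.* helpers here

set_option autoImplicit false
universe u
open CategoryTheory AlgebraicGeometry
open Algz

namespace Groth.Agent.S8815

/-- Let A be a catenary Noetherian local ring, Y = Spec A and Z the closed point. Then δ_Z(y) equals the
dimension of the closure of y, i.e. dim(A/p_y), for every point y. -/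
theorem result (A : Type u) [CommRing A] [IsNoetherianRing A] [IsLocalRing A] (hA : CAlg.IsCatenary A) (y : Spec (CommRingCat.of A)) : ((Algz.deltaZ ({IsLocalRing.closedPoint A} : Set (Spec (CommRingCat.of A))) y : ℕ∞) : WithBot ℕ∞) = ringKrullDim (A ⧸ y.asIdeal) := by
  obtain ⟨y, rfl⟩ : ∃ y' : PrimeSpectrum A, y' = y := ⟨y, rfl⟩
  obtain ⟨hfin, hadd⟩ := Groth.SitesTopoi.catenary_iff_additive.1 (Groth.PropsBasic.Cat.catAt_iff_catOrd.2 hA)
  let m : PrimeSpectrum A := IsLocalRing.closedPoint A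
  have hm : ∀ q : PrimeSpectrum A, q ≤ m := fun q => IsLocalRing.le_maximalIdeal q.isPrime.ne_top
  let dd : Spec (CommRingCat.of A) → ℤ := fun q => (Groth.SitesTopoi.chainCodim (P := PrimeSpectrum A) q m).toNat
  have hdd : ∀ q : PrimeSpectrum A, (((Groth.SitesTopoi.chainCodim q m).toNat : ℕ) : ℕ∞) = Groth.SitesTopoi.chainCodim q m :=
    fun q => ENat.coe_toNat (hfin q m (hm q))
  have hδ : Cyc.IsDimFun (Spec (CommRingCat.of A)) dd := by
    intro a₀ b₀ hab hne
    obtain ⟨a, rfl⟩ : ∃ a : PrimeSpectrum A, a = a₀ := ⟨a₀, rfl⟩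
    obtain ⟨b, rfl⟩ : ∃ b : PrimeSpectrum A, b = b₀ := ⟨b₀, rfl⟩
    have hle : a ≤ b := (PrimeSpectrum.le_iff_specializes _ _).2 hab
    have hlt : a < b := lt_of_le_of_ne hle hne
    have e := hadd a b m hle (hm b)
    rw [← hdd a, ← hdd b, ← ENat.coe_toNat (hfin a b hle), ← Nat.cast_add, Nat.cast_inj] at e
    have h1 := Groth.SitesTopoi.one_le_chainCodim hlt
    rw [← ENat.coe_toNat (hfin a b hle), ← Nat.cast_one, Nat.cast_le] at h1
    refine ⟨by show ((_ : ℕ) : ℤ) < (_ : ℕ); omega, fun himm => ?_⟩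
    have hcov : (a : PrimeSpectrum A) ⋖ b := ⟨hlt, fun c hac hcb => by
      rcases himm c ((PrimeSpectrum.le_iff_specializes _ _).1 hac.le) ((PrimeSpectrum.le_iff_specializes _ _).1 hcb.le) with rfl | rfl
      · exact hac.false
      · exact hcb.false⟩
    rw [Groth.SitesTopoi.chainCodim_eq_one hcov] at e
    simp only [ENat.toNat_one] at e
    show ((_ : ℕ) : ℤ) = (_ : ℕ) + 1
    omega
  have hym : @Specializes (Spec (CommRingCat.of A)) _ y (IsLocalRing.closedPoint A) := (PrimeSpectrum.le_iff_specializes _ _).1 (hm y)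
  have hdm : dd (IsLocalRing.closedPoint A) = 0 := by
    show ((Groth.SitesTopoi.chainCodim m m).toNat : ℤ) = 0
    rw [Groth.SitesTopoi.chainCodim_self]; rfl
  have hu := Groth.MiscGeom.Delta.deltaZ_le_codimPt hym (Set.mem_singleton _)
  rw [Groth.MiscGeom.Delta.codimPt_eq_sub hδ hym, hdm, sub_zero] at hu
  have hu' : deltaZ ({IsLocalRing.closedPoint A} : Set (Spec (CommRingCat.of A))) y ≤ Groth.SitesTopoi.chainCodim (P := PrimeSpectrum A) y m := by
    refine hu.trans_eq ?_
    show (((((Groth.SitesTopoi.chainCodim (P := PrimeSpectrum A) y m).toNat : ℕ) : ℤ).toNat : ℕ) : ℕ∞) = _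
    rw [Int.toNat_natCast]
    exact hdd y
  have heq : deltaZ ({IsLocalRing.closedPoint A} : Set (Spec (CommRingCat.of A))) y = Groth.SitesTopoi.chainCodim (P := PrimeSpectrum A) y m := by
    refine le_antisymm hu' ?_
    obtain ⟨n, hn⟩ := ENat.ne_top_iff_exists.1 (ne_top_of_le_ne_top (hfin y m (hm y)) hu')
    obtain ⟨z, hz, hle⟩ := Groth.MiscGeom.Delta.exists_le_add hδ _ y n hn.symm
    obtain rfl : z = IsLocalRing.closedPoint A := Set.eq_of_mem_singleton hz
    rw [hdm, add_zero] at hle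
    have hle' : (Groth.SitesTopoi.chainCodim (P := PrimeSpectrum A) y m).toNat ≤ n := Int.ofNat_le.1 hle
    rw [← hn, ← hdd y]
    exact Nat.cast_le.2 hle'
  rw [heq, ringKrullDim_quotient,
    show PrimeSpectrum.zeroLocus (y.asIdeal : Set A) = Set.Ici (y : PrimeSpectrum A) from Set.ext fun q => ⟨fun h => h, fun h => h⟩,
    ← Order.coheight_eq_krullDim_Ici, WithBot.coe_inj]
  exact le_antisymm (Groth.SitesTopoi.chainCodim_le fun s h1 _ => h1 ▸ Order.length_le_coheight_head)
    (Order.coheight_le fun s h1 => Groth.SitesTopoi.length_le_chainCodim s h1 (hm _))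

end Groth.Agent.S8815
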