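import Groth.Statements.S8816
import Groth.Agent.MiscGeom.DimFunDelta
-- import your own Groth.Agent.* helpers here

set_option autoImplicit false
universe u
open CategoryTheory AlgebraicGeometry
open Algz

namespace Groth.Agent.S8816

/-- Let Y be a Noetherian scheme and Z ⊆ Y closed. Given points y_0, …, y_k and y'_0, …, y'_{k-1} of Y
with y_0 ∈ Z such that each y'_i specializes to y_{i+1} with y'_i ≠ y_{i+1}, and each y'_i ⤳ y_i is
an immediate specialization (y'_i ≠ y_i and no point strictly between), one has δ_Z(y_k) ≤ k. (The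
published statement also allows y'_i = y_{i+1}. In that generality the bound needs catenarity: for a
Noetherian local domain of dimension 3 having a saturated chain of primes (0) ⊂ 𝔭 ⊂ 𝔪 of length 2,
with Z the closed point and the pattern y_0 = 𝔪, y'_0 = y_1 = 𝔭, y'_1 = y_2 = (0), one has k = 2 but
δ_Z((0)) = 3. The published proof handles nontrivial specializations y'_i ⤳ y_{i+1}, for which the
closures of the y_i and y'_i form a system of value k, and reduces to that case by shortening the
chain, which does not preserve immediacy; this row states the case the proof establishes.) -/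
theorem result (Y : Scheme.{u}) [IsNoetherian Y] (Z : Set Y) (hZ : IsClosed Z) (k : ℕ) (y : Fin (k + 1) → Y) (y' : Fin k → Y) (h0 : y 0 ∈ Z) (hdown : ∀ i : Fin k, y' i ⤳ y i.castSucc ∧ y' i ≠ y i.castSucc ∧ ∀ z : Y, y' i ⤳ z → z ⤳ y i.castSucc → z = y' i ∨ z = y i.castSucc) (hup : ∀ i : Fin k, y' i ⤳ y i.succ ∧ y' i ≠ y i.succ) : Algz.deltaZ Z (y (Fin.last k)) ≤ k := by
  classical
  let w : Fin (k + 1) → Y := Fin.snoc y' (y (Fin.last k))
  have hwc : ∀ i : Fin k, w i.castSucc = y' i := fun i => Fin.snoc_castSucc ..
  have hwl : w (Fin.last k) = y (Fin.last k) := Fin.snoc_last ..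
  let S : DSystem Z (y (Fin.last k)) k :=
    { v := y
      w := w
      spec := fun i => by
        induction i using Fin.lastCases with
        | last => rw [hwl]
        | cast i => rw [hwc]; exact (hdown i).1
      spec_succ := fun i => by rw [hwc]; exact (hup i).1
      start_mem := h0
      last_eq := hwl }
  refine (iInf₂_le k S).trans ?_
  have hdc : ∀ (a b : Y) (hab : a ⤳ b),
      (∀ z : Y, a ⤳ z → z ⤳ b → z = a ∨ z = b) → codimPt a b hab ≤ 1 := by
    intro a b hab himm
    refine Order.height_le fun p hp => ?_
    by_contra hlen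
    have hl : 2 ≤ p.length := by
      rw [not_le] at hlen
      exact_mod_cast Order.add_one_le_of_lt hlen
    have h01 : p.head < p ⟨1, by omega⟩ := p.strictMono (by simp [Fin.lt_def])
    have h1l : p ⟨1, by omega⟩ < p.last := p.strictMono (by simp [Fin.lt_def]; omega)
    rw [hp] at h1l
    rcases himm (Specialization.ofEquiv (p ⟨1, by omega⟩).1)
        (Specialization.toEquiv_le_toEquiv.mp h1l.le) (Specialization.toEquiv_le_toEquiv.mp (p ⟨1, by omega⟩).2) with e | e
    · exact h1l.ne (Subtype.ext (congrArg Specialization.toEquiv e))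
    · refine h01.not_ge ?_
      show (p ⟨1, by omega⟩).1 ≤ p.head.1
      exact le_trans (le_of_eq (congrArg Specialization.toEquiv e)) p.head.2
  have hpos : ∀ (a b : Y) (hab : a ⤳ b), a ≠ b → 1 ≤ codimPt a b hab := by
    intro a b hab hne
    have hlt : (⟨Specialization.toEquiv b, Set.self_mem_Ici⟩ : Set.Ici (Specialization.toEquiv b)) <
        ⟨Specialization.toEquiv a, Specialization.toEquiv_le_toEquiv.mpr hab⟩ :=
      lt_of_le_of_ne (Specialization.toEquiv_le_toEquiv.mpr hab)
        fun e => hne (Specialization.toEquiv.injective (congrArg Subtype.val e)).symm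
    let pp : LTSeries (Set.Ici (Specialization.toEquiv b)) := (RelSeries.singleton _ _).cons _ hlt
    refine le_trans ?_ (Order.length_le_height (p := pp) (le_of_eq (by simp [pp])))
    simp [pp]
  have hc : ∀ i : Fin k, S.c i.castSucc ≤ 1 := fun i => by
    refine hdc _ _ _ fun z hz1 hz2 => ?_
    show z = w i.castSucc ∨ _
    rw [hwc]
    exact (hdown i).2.2 z ((hwc i) ▸ hz1) hz2
  have hcl : S.c (Fin.last k) = 0 := by
    refine le_bot_iff.1 (Order.height_le fun p hp => ?_)
    by_contra hlen
    have hl : 0 < p.length := by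
      refine Nat.pos_of_ne_zero fun h0 => hlen ?_
      rw [h0]; simp
    have h0l : p.head < p.last := p.strictMono (by simp [Fin.lt_def]; omega)
    rw [hp] at h0l
    refine h0l.not_ge ?_
    show Specialization.toEquiv (w (Fin.last k)) ≤ p.head.1
    rw [hwl]
    exact p.head.2
  have hb : ∀ i : Fin k, 1 ≤ S.b i := fun i => hpos _ _ _ (by show w i.castSucc ≠ _; rw [hwc]; exact (hup i).2)
  refine (add_le_add le_rfl (Finset.sup_le (a := 0) fun i _ => ?_)).trans (add_zero _).le
  refine le_of_eq (tsub_eq_zero_of_le ?_)
  rw [Finset.sum_filter, Finset.sum_filter, Fin.sum_univ_castSucc, hcl, ite_self, add_zero]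
  refine Finset.sum_le_sum fun j _ => ?_
  have hiff : i ≤ j.castSucc ↔ i.val ≤ j.val := Iff.rfl
  simp only [hiff]
  split
  · exact (hc j).trans (hb j)
  · exact le_rfl

end Groth.Agent.S8816
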