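import Groth.Statements.S8820
import Groth.Agent.FibreDim.DimFormulaCor
import Groth.Agent.Cycles.DimFunLft
import Groth.Agent.S9126
-- import your own Groth.Agent.* helpers here

set_option autoImplicit false
universe u
open CategoryTheory AlgebraicGeometry Limits
open Algz

namespace Groth.Agent.S8820

/-- The codimension of points of a closed subscheme is the dimension of its local ring. -/
theorem codimPt_eq_ringKrullDim {X W : Scheme.{u}} [IrreducibleSpace W] (i : W ⟶ X) [IsClosedImmersion i]
    (z : W) (h : i (genericPoint W) ⤳ i z) :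
    ((codimPt (i (genericPoint W)) (i z) h : ℕ∞) : WithBot ℕ∞) = ringKrullDim (W.presheaf.stalk z) := by
  rw [ringKrullDim_stalk_eq_coheight, Order.coheight_eq_krullDim_Ici, codimPt,
    Order.height_eq_krullDim_Iic]
  let a : Set.Ici (Specialization.toEquiv (i z)) :=
    ⟨Specialization.toEquiv (i (genericPoint W)), Specialization.toEquiv_le_toEquiv.mpr h⟩
  have hle : ∀ a b : W, i b ⤳ i a ↔ a ≤ b := fun a b => by
    rw [Scheme.le_iff_specializes]
    exact i.isEmbedding.toIsInducing.specializes_iff
  let F : Set.Ici z → Set.Iic a := fun u =>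
    ⟨⟨Specialization.toEquiv (i u.1), Specialization.toEquiv_le_toEquiv.mpr ((hle _ _).mpr u.2)⟩,
      Specialization.toEquiv_le_toEquiv.mpr ((genericPoint_specializes u.1).map i.continuous)⟩
  have hbij : Function.Bijective F := by
    refine ⟨fun p q e => Subtype.ext (i.isEmbedding.injective ?_), fun u => ?_⟩
    · exact Specialization.toEquiv.injective (congrArg (fun w => w.1.1) e)
    · have h1 : i (genericPoint W) ⤳ Specialization.ofEquiv u.1.1 :=
        Specialization.toEquiv_le_toEquiv.mp u.2
      obtain ⟨v, hv⟩ : Specialization.ofEquiv u.1.1 ∈ Set.range i :=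
        i.isClosedEmbedding.isClosed_range.stableUnderSpecialization h1 (Set.mem_range_self _)
      refine ⟨⟨v, (hle _ _).mp (hv ▸ Specialization.toEquiv_le_toEquiv.mp u.1.2)⟩, ?_⟩
      exact Subtype.ext (Subtype.ext (congrArg Specialization.toEquiv hv))
  exact (Order.krullDim_eq_of_orderIso
    { Equiv.ofBijective F hbij with map_rel_iff' := fun {p q} =>
        (Specialization.toEquiv_le_toEquiv (a := i p.1) (b := i q.1)).trans (hle _ _) }).symm

/-- The dimension formula along a specialization. -/
theorem exists_codim_formula {X Y : Scheme.{u}} [IsLocallyNoetherian Y]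
    (hY : ∀ y : Y, CAlg.IsUniversallyCatenary (Y.presheaf.stalk y))
    (f : X ⟶ Y) [LocallyOfFiniteType f] {ξ x : X} (h : ξ ⤳ x) :
    ∃ c c' tx tξ : ℕ, codimPt (f ξ) (f x) (h.map f.continuous) = c ∧ codimPt ξ x h = c' ∧
      Groth.Variety2.Dim.relTrdeg f x = tx ∧ Groth.Variety2.Dim.relTrdeg f ξ = tξ ∧
      c' + tx = c + tξ := by
  obtain ⟨W, i, _, _, _, hir, hiξ⟩ := Groth.Cycles.closure_scheme ξ
  obtain ⟨V, j, _, _, _, hjr, hjη⟩ := Groth.Cycles.closure_scheme (f ξ)
  have : IsLocallyNoetherian V := LocallyOfFiniteType.isLocallyNoetherian j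
  obtain ⟨f', hf'⟩ := Groth.PropsBasic2.exists_lift_of_isReduced (i ≫ f) j (by
    rw [hjr]
    rintro _ ⟨z, rfl⟩
    rw [← specializes_iff_mem_closure, ← hiξ, Scheme.Hom.comp_apply]
    exact ((genericPoint_specializes z).map i.continuous).map f.continuous)
  have hw : ∀ z, j (f' z) = f (i z) := fun z => by
    rw [← Scheme.Hom.comp_apply, hf', Scheme.Hom.comp_apply]
  have hgen : f' (genericPoint W) = genericPoint V :=
    j.isEmbedding.injective (by rw [hw, hiξ, hjη])
  have : IsDominant f' := ⟨dense_iff_closure_eq.mpr (Set.eq_univ_of_univ_subset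
    ((genericPoint_spec V).def.symm.subset.trans
      (closure_mono (Set.singleton_subset_iff.mpr ⟨_, hgen⟩))))⟩
  have : LocallyOfFiniteType f' := by
    have : LocallyOfFiniteType (f' ≫ j) := hf' ▸ inferInstance
    exact locallyOfFiniteType_of_comp f' j
  obtain ⟨z, hz⟩ : x ∈ Set.range i := hir.ge (specializes_iff_mem_closure.mp h)
  obtain ⟨t, t₀, ht, -, ht₀, -, -, heq⟩ := Groth.FibreDim.exists_dim_formula f' z
  have huc : CAlg.IsUniversallyCatenary (V.presheaf.stalk (f' z)) := by
    let := (j.stalkMap (f' z)).hom.toAlgebra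
    have : Algebra.FiniteType (Y.presheaf.stalk (j (f' z))) (V.presheaf.stalk (f' z)) :=
      RingHom.finiteType_algebraMap.mp (RingHom.FiniteType.of_surjective _ (j.stalkMap_surjective _))
    exact Groth.Agent.S9126.result _ _ (hY (j (f' z)))
  have htr : ∀ w : W, Groth.Variety2.Dim.relTrdeg f' w = Groth.Variety2.Dim.relTrdeg f (i w) := fun w => by
    rw [← Groth.Cycles.relTrdeg_preimmersion_comp f' j w, hf',
      Groth.Misc6.Equidim.relTrdeg_comp_preimmersion]
  have : IsLocallyNoetherian W := LocallyOfFiniteType.isLocallyNoetherian f'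
  obtain ⟨a, ha⟩ := Groth.FibreDim.exists_ringKrullDim_eq_natCast (W.presheaf.stalk z)
  obtain ⟨b, hb⟩ := Groth.FibreDim.exists_ringKrullDim_eq_natCast (V.presheaf.stalk (f' z))
  have e := heq huc
  change _ = ringKrullDim (V.presheaf.stalk (f' z)) + _ at e
  rw [ha, hb] at e
  subst hiξ hz
  refine ⟨b, a, t, t₀, ?_, ?_, ?_, ?_, by exact_mod_cast e⟩
  · have h1 := codimPt_eq_ringKrullDim j (f' z) ((genericPoint_specializes _).map j.continuous)
    rw [hb] at h1
    have key : ∀ (p q : Y) (hpq : p ⤳ q), p = f (i (genericPoint W)) → q = f (i z) →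
        codimPt p q hpq = codimPt (f (i (genericPoint W))) (f (i z)) (h.map f.continuous) := by
      rintro p q hpq rfl rfl; rfl
    rw [← key _ _ ((genericPoint_specializes _).map j.continuous) hjη (hw z)]
    exact WithBot.coe_injective h1
  · have h1 := codimPt_eq_ringKrullDim i z h
    rw [ha] at h1
    exact WithBot.coe_injective h1
  · rw [← htr]; exact ht
  · rw [← htr]; exact ht₀

/-- The combinatorics: the sums telescope. -/
theorem telescope {k : ℕ} (C C' : Fin (k + 1) → ℕ) (B B' : Fin k → ℕ) (p q : Fin (k + 1) → ℕ)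
    (hc : ∀ j, C' j + p j = C j + q j) (hb : ∀ j : Fin k, B' j + p j.succ = B j + q j.castSucc)
    (i : Fin (k + 1)) :
    ∑ j ∈ Finset.univ.filter (fun j : Fin (k + 1) => i ≤ j), C j + q (Fin.last k) +
        ∑ j ∈ Finset.univ.filter (fun j : Fin k => i.val ≤ j.val), B' j =
      ∑ j ∈ Finset.univ.filter (fun j : Fin (k + 1) => i ≤ j), C' j + p i +
        ∑ j ∈ Finset.univ.filter (fun j : Fin k => i.val ≤ j.val), B j := by
  induction i using Fin.reverseInduction with
  | last =>
    have e1 : Finset.univ.filter (fun j : Fin (k + 1) => Fin.last k ≤ j) = {Fin.last k} := by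
      ext j; simp [Fin.last_le_iff]
    have e2 : Finset.univ.filter (fun j : Fin k => (Fin.last k).val ≤ j.val) = ∅ := by
      ext j; simp
    rw [e1, e2, Finset.sum_singleton, Finset.sum_singleton, Finset.sum_empty, Finset.sum_empty]
    have := hc (Fin.last k)
    omega
  | cast i ih =>
    have e1 : Finset.univ.filter (fun j : Fin (k + 1) => i.castSucc ≤ j) =
        insert i.castSucc (Finset.univ.filter (fun j : Fin (k + 1) => i.succ ≤ j)) := by
      ext j; simp [Fin.le_def, Fin.ext_iff]; omega
    have e2 : Finset.univ.filter (fun j : Fin k => i.castSucc.val ≤ j.val) =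
        insert i (Finset.univ.filter (fun j : Fin k => i.succ.val ≤ j.val)) := by
      ext j; simp [Fin.ext_iff]; omega
    rw [e1, e2, Finset.sum_insert (by simp [Fin.le_def]), Finset.sum_insert (by simp [Fin.le_def]),
      Finset.sum_insert (by simp), Finset.sum_insert (by simp)]
    have := hc i.castSucc
    have := hb i
    omega


/-- Let Y be a universally catenary Noetherian scheme (every local ring universally catenary), Z ⊆ Y a
closed subset, f : Y' → Y a morphism of finite type from a Noetherian scheme all of whose fibres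
have dimension at most e, and Z' = f⁻¹(Z). Then for every point y' of Y' with image y, if the
residue field extension κ(y')/κ(y) has transcendence degree t, one has δ_Z(y) + t ≤ δ_{Z'}(y') + e
(equivalently δ_Z(y) ≤ δ_{Z'}(y') + e − t; written without subtraction). -/
theorem result (Y Y' : Scheme.{u}) [IsNoetherian Y] [IsNoetherian Y'] (hY : ∀ y : Y, CAlg.IsUniversallyCatenary (Y.presheaf.stalk y)) (Z : Set Y) (hZ : IsClosed Z) (f : Y' ⟶ Y) [LocallyOfFiniteType f] (e : ℕ) (hfib : ∀ y : Y, topologicalKrullDim ↑(pullback f (Y.fromSpecResidueField y)) ≤ (e : WithBot ℕ∞)) (y' : Y') (t : ℕ) (ht : @Algebra.trdeg (Y.residueField (f.base y')) (Y'.residueField y') _ _ (f.residueFieldMap y').hom.toAlgebra = t) : Algz.deltaZ Z (f.base y') + t ≤ Algz.deltaZ (f.base ⁻¹' Z) y' + e := by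
  classical
  let T : Y' → ℕ := fun x => Cardinal.toNat (Groth.Variety2.Dim.relTrdeg f x)
  have hT : ∀ (x : Y') (n : ℕ), Groth.Variety2.Dim.relTrdeg f x = n → T x = n := fun x n hn => by
    simp only [T, hn, Cardinal.toNat_natCast]
  have hTe : ∀ x : Y', T x ≤ e := fun x => by
    obtain ⟨n, hn, hh⟩ := Groth.FibreDim.exists_relTrdeg_eq_height f x
    rw [hT x n hn]
    have h1 : ((n : ℕ∞) : WithBot ℕ∞) ≤ (e : WithBot ℕ∞) := by
      refine le_trans ?_ (hfib (f.base x))
      rw [← hh, Groth.Variety2.Dim.dim_eq_iSup_height]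
      exact le_iSup (fun z : f.fiber (f.base x) => ((Order.height z : ℕ∞) : WithBot ℕ∞)) (f.asFiber x)
    exact_mod_cast h1
  have hTy : T y' = t := hT y' t ht
  rw [show deltaZ (f.base ⁻¹' Z) y' + (e : ℕ∞) =
      ⨅ (k : ℕ) (S : DSystem (f.base ⁻¹' Z) y' k), S.delta + (e : ℕ∞) from ENat.iInf₂_add _]
  refine le_iInf₂ fun k S => ?_
  let S' : DSystem Z (f.base y') k :=
    { v := fun i => f (S.v i)
      w := fun i => f (S.w i)
      spec := fun i => (S.spec i).map f.continuous
      spec_succ := fun i => (S.spec_succ i).map f.continuous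
      start_mem := S.start_mem
      last_eq := congrArg f S.last_eq }
  refine (add_le_add (iInf₂_le (f := fun k (S : DSystem Z (f.base y') k) => S.delta) k S') le_rfl).trans ?_
  choose C C' p q hC hC' hp hq hcq using fun i => exists_codim_formula hY f (S.spec i)
  choose B B' r s hB hB' hr hs hbs using fun i => exists_codim_formula hY f (S.spec_succ i)
  have hc : ∀ j, C' j + T (S.v j) = C j + T (S.w j) := fun j => by
    rw [hT _ _ (hp j), hT _ _ (hq j)]; exact hcq j
  have hb : ∀ j : Fin k, B' j + T (S.v j.succ) = B j + T (S.w j.castSucc) := fun j => by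
    rw [hT _ _ (hr j), hT _ _ (hs j)]; exact hbs j
  have hlast : T (S.w (Fin.last k)) = t := by rw [S.last_eq]; exact hTy
  have hte : t ≤ e := hTy ▸ hTe y'
  obtain ⟨i, -, hi⟩ := Finset.exists_mem_eq_sup (Finset.univ (α := Fin (k + 1))) Finset.univ_nonempty
    fun i : Fin (k + 1) => (∑ j ∈ Finset.univ.filter (fun j : Fin (k + 1) => i ≤ j), S'.c j) -
      ∑ j ∈ Finset.univ.filter (fun j : Fin k => i.val ≤ j.val), S'.b j
  unfold DSystem.delta
  rw [hi, add_assoc, add_assoc]
  refine add_le_add le_rfl (le_trans ?_ (add_le_add (Finset.le_sup (Finset.mem_univ i)) le_rfl))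
  have eC : ∀ j, S'.c j = (C j : ℕ∞) := hC
  have eC' : ∀ j, S.c j = (C' j : ℕ∞) := hC'
  have eB : ∀ j, S'.b j = (B j : ℕ∞) := hB
  have eB' : ∀ j, S.b j = (B' j : ℕ∞) := hB'
  simp only [eC, eC', eB, eB']
  have := telescope C C' B B' (fun j => T (S.v j)) (fun j => T (S.w j)) hc hb i
  have := hTe (S.v i)
  simp only [hlast] at *
  norm_cast
  simp only [Finset.sum_filter] at *
  omega

end Groth.Agent.S8820
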