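import Groth.Statements.S8823
import Groth.Agent.Misc12.ArtinApx.Nbhd
import Groth.Agent.S0595
import Groth.Agent.S0599
import Groth.Agent.S0600

set_option autoImplicit false
universe u
open AdicRing

namespace Groth.Agent.S8823

/-- Let A be a Noetherian G-ring and I an ideal of A. Let B and C be A-algebras of finite type, φ an
A-algebra map from the IB-adic completion of B to the IC-adic completion of C, and N ≥ 1. Then one
can find an etale C-algebra C' for which the induced map C/IC → C'/IC' is a bijection, together with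
a homomorphism of A-algebras ψ : B → C' that approximates φ to order N: given any b ∈ B, some c ∈ C
satisfies ψ(b) − c ∈ I^N C', while the image of φ(b) in C/I^N C (the N-th truncation of the
completion) coincides with the class of c. -/
theorem result (A : Type u) [CommRing A] (hA : CAlg.IsGRing A) (I : Ideal A) (B C : Type u) [CommRing B] [Algebra A B] [Algebra.FiniteType A B] [CommRing C] [Algebra A C] [Algebra.FiniteType A C] (φ : (AdicCompletion (I.map (algebraMap A B)) B) →ₐ[A] (AdicCompletion (I.map (algebraMap A C)) C)) (N : ℕ) (hN : 1 ≤ N) : ∃ (C' : Type u) (_ : CommRing C') (_ : Algebra C C') (_ : Algebra A C') (_ : IsScalarTower A C C') (_ : Algebra.Etale C C') (ψ : B →ₐ[A] C'), ((∀ c' : C', ∃ c : C, algebraMap C C' c - c' ∈ I.map (algebraMap A C')) ∧ ∀ c : C, algebraMap C C' c ∈ I.map (algebraMap A C') → c ∈ I.map (algebraMap A C)) ∧ ∀ b : B, ∃ c : C, ψ b - algebraMap C C' c ∈ (I.map (algebraMap A C')) ^ N ∧ AdicCompletion.eval (I.map (algebraMap A C)) C N (φ (AdicCompletion.of (I.map (algebraMap A B)) B b)) = Submodule.Quotient.mk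 c := by
  have := hA.1
  have hC : CAlg.IsGRing C := Groth.Agent.S0599.result A hA C
  have := hC.1
  have : Algebra.FinitePresentation A B := Algebra.FinitePresentation.of_finiteType.1 inferInstance
  let J := I.map (algebraMap A C)
  let ι : B →ₐ[A] AdicCompletion (I.map (algebraMap A B)) B :=
    IsScalarTower.toAlgHom A B (AdicCompletion (I.map (algebraMap A B)) B)
  obtain ⟨C', iC', algC', algA', _, g, hN', hg⟩ :=
    Groth.Agent.Misc12.ArtinApx.exists_nbhd_algHom (fun R _ _ Λ _ _ _ => Groth.Agent.S0595.result R Λ)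
      J (Groth.Agent.S0600.result C hC J) (φ.comp ι) hN
  have := hN'.etale
  have hJ : J.map (algebraMap C C') = I.map (algebraMap A C') := by
    rw [Ideal.map_map, ← IsScalarTower.algebraMap_eq]
  refine ⟨C', iC', algC', algA', inferInstance, inferInstance, g, ⟨fun c' => ?_, fun c hc => ?_⟩,
    fun b => ?_⟩
  · obtain ⟨c, hc⟩ := hN'.surj c'
    exact ⟨c, by rw [← neg_sub, ← hJ]; exact neg_mem hc⟩
  · rw [← hJ] at hc
    obtain ⟨σ⟩ := hN'.exists_hom
    have h1 := Groth.HensPair.algHom_quotient_eq_zero σ hc
    rwa [σ.commutes, Ideal.Quotient.algebraMap_eq, Ideal.Quotient.eq_zero_iff_mem] at h1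
  · obtain ⟨c, hc⟩ := Ideal.Quotient.mk_surjective
      (AdicCompletion.evalₐ J N (φ (ι b)))
    refine ⟨c, by rw [← hJ]; exact hg b c hc.symm, ?_⟩
    obtain ⟨d, hd⟩ := Submodule.Quotient.mk_surjective _ (AdicCompletion.eval J C N
      (φ (AdicCompletion.of (I.map (algebraMap A B)) B b)))
    refine hd.symm.trans ?_
    have h1 : AdicCompletion.evalₐ J N (φ (ι b)) = Ideal.Quotient.mk (J ^ N) d := by
      have h2 : ι b = AdicCompletion.of (I.map (algebraMap A B)) B b := rfl
      rw [h2]
      show Ideal.Quotient.factor (le_of_eq (show J ^ N • (⊤ : Ideal C) = J ^ N by rw [smul_eq_mul, Ideal.mul_top]))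
        (AdicCompletion.eval J C N _) = _
      rw [← hd]
      rfl
    rw [← hc] at h1
    refine (Submodule.Quotient.eq _).2 ?_
    rw [Ideal.Quotient.eq] at h1
    rw [smul_eq_mul, Ideal.mul_top]
    simpa using neg_mem h1

end Groth.Agent.S8823
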