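import Groth.Statements.S8825
import Groth.Agent.S8804
import Groth.Agent.S0599
import Groth.Agent.S0600
import Groth.Agent.S0543
import Groth.Agent.Calg4.RegularHom
import Groth.Agent.Calg4.RegularHomSmooth
import Groth.Agent.Ega4Algebra2.GRingComplete

set_option autoImplicit false
universe u
open AdicRing

namespace Groth.Agent.S8825

/-- Let A be a Noetherian ring which is complete for the adic topology of an ideal I, let p be a
rig-closed prime of A (I ⊄ p and p is maximal among the primes not containing I), and let n ≥ 1.
Then the ring map from A/p to the restricted power series ring (A/p){x_1, …, x_n}, i.e. the I-adic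
completion of the polynomial ring (A/p)[x_1, …, x_n], is a regular ring map (flat, with Noetherian
and geometrically regular fibres). (The consequence for the fibre over the fraction field is not
stated.) -/
theorem result (A : Type u) [CommRing A] [IsNoetherianRing A] (I : Ideal A) [IsAdicComplete I A] (p : PrimeSpectrum A) (hp : ¬ I ≤ p.asIdeal ∧ ∀ q : PrimeSpectrum A, p ≤ q → ¬ I ≤ q.asIdeal → q = p) (n : ℕ) (hn : 1 ≤ n) : CAlg.IsRegularHom (A ⧸ p.asIdeal) (AdicCompletion (I.map (algebraMap A (MvPolynomial (Fin n) (A ⧸ p.asIdeal)))) (MvPolynomial (Fin n) (A ⧸ p.asIdeal))) := by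
  obtain ⟨-, hmax, hcompl⟩ := ((Groth.Agent.S8804.result A I p).out 0 2 rfl rfl).mp hp
  let D := A ⧸ p.asIdeal
  have : IsLocalRing D := by
    obtain ⟨M, hM⟩ := Ideal.exists_maximal D
    exact IsLocalRing.of_unique_max_ideal ⟨M, hM, fun N hN => (hmax N hN).trans (hmax M hM).symm⟩
  have hm : (I.map (Ideal.Quotient.mk p.asIdeal)).radical = IsLocalRing.maximalIdeal D :=
    (hmax _ (IsLocalRing.maximalIdeal.isMaximal D)).symm
  have : IsAdicComplete (IsLocalRing.maximalIdeal D) D := hm ▸ hcompl
  have hG : CAlg.IsGRing D := Groth.Ega4b.isGRing_of_isAdicComplete D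
  let P := MvPolynomial (Fin n) D
  have hP : CAlg.IsGRing P := Groth.Agent.S0599.result D hG P
  let J : Ideal P := I.map (algebraMap A P)
  have : IsNoetherianRing (AdicCompletion J P) := Groth.Agent.S0543.result P J
  have : Algebra.Smooth D P := { }
  have h1 : CAlg.IsRegularHom D P := Groth.Calg4.isRegularHom_of_smooth D P
  have h2 : CAlg.IsRegularHom P (AdicCompletion J P) := Groth.Agent.S0600.result P hP J
  exact Groth.Calg4.IsRegularHom.trans h1 h2 fun q _ => by
    have : IsNoetherianRing (TensorProduct D (AdicCompletion J P) q.ResidueField) :=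
      Algebra.EssFiniteType.isNoetherianRing (AdicCompletion J P) (TensorProduct D (AdicCompletion J P) q.ResidueField)
    exact isNoetherianRing_of_ringEquiv _
      (Algebra.TensorProduct.comm D (AdicCompletion J P) q.ResidueField).toRingEquiv

end Groth.Agent.S8825
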