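import Groth.Statements.S8828
import Groth.Agent.SuppCx.CompletionLocalIso

set_option autoImplicit false
set_option linter.style.haveILetI false
universe u
open CategoryTheory
open Dual2

open Groth.DualCore
open scoped TensorProduct
attribute [local instance] HasDerivedCategory.standard

namespace Groth.Agent.S8828

/-- Let A be a Noetherian ring with a dualizing complex, I an ideal with cd(A, I) ≤ d, M a finite
A-module, T ⊆ V(I) stable under specialization and s a natural, satisfying: (4) for primes p ⊆ r ⊆ q
with p ∉ V(I), r ∈ V(I) ∖ T and q ∈ T, either depth(M_p) ≥ s or depth(M_p) + dim((A/p)_q) > d + s;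
(6) for q ∈ T, writing A_q', I_q', M_q' for the I-adic completions of A_q, IA_q, M_q, one has
depth((M_q')_{p'}) > s for every prime p' of A_q' not containing I_q' such that the only primes
containing both p' and I_q' are maximal. Let A', I', M' be the I-adic completions of A, I, M and T'
⊆ Spec A' the inverse image of T. Then A' has a dualizing complex, cd(A', I') ≤ d, and conditions
(4) and (6) hold for A', I', T', M' (so the completed data are again in the same situation). -/
theorem result (A : Type u) [CommRing A] [IsNoetherianRing A] (hdc : ∃ ω : Dual.D A, Dual.IsDualizing A ω) (I : Ideal A) (d : ℕ) (hcd : LocCoh.CdLE A I d) (M : Type u) [AddCommGroup M] [Module A M] [Module.Finite A M] (T : Set (PrimeSpectrum A)) (hTI : T ⊆ PrimeSpectrum.zeroLocus (I : Set A)) (hT : StableUnderSpecialization T) (s : ℕ) (h4 : ∀ p r q : PrimeSpectrum A, p ≤ r → r ≤ q → ¬ I ≤ p.asIdeal → I ≤ r.asIdeal → r ∉ T → q ∈ T → (s : ℕ∞) ≤ LocCoh.depth (Localization.AtPrime p.asIdeal) (LocalizedModule p.asIdeal.primeCompl M) ∨ ((d + s : ℕ) : WithBot ℕ∞) < (LocCoh.depth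 (Localization.AtPrime p.asIdeal) (LocalizedModule p.asIdeal.primeCompl M) : WithBot ℕ∞) + Formal2.dimBetween A p.asIdeal q.asIdeal) (h6 : ∀ q : PrimeSpectrum A, q ∈ T → ∀ p' : PrimeSpectrum (AdicCompletion (I.map (algebraMap A (Localization.AtPrime q.asIdeal))) (Localization.AtPrime q.asIdeal)), ¬ (I.map (algebraMap A (AdicCompletion (I.map (algebraMap A (Localization.AtPrime q.asIdeal))) (Localization.AtPrime q.asIdeal)))) ≤ p'.asIdeal → (∀ q' : PrimeSpectrum (AdicCompletion (I.map (algebraMap A (Localization.AtPrime q.asIdeal))) (Localization.AtPrime q.asIdeal)), p' ≤ q' → (I.map (algebraMap A (AdicCompletion (I.map (algebraMap A (Localization.AtPrime q.asIdeal))) (Localization.AtPrime q.asIdeal)))) ≤ q'.asIdeal → q'.asIdeal.IsMaximal) → (s : ℕ∞) < LocCoh.depth (Localization.AtPrime p'.asIdeal) (LocalizedModule p'.asIdeal.primeCompl (AdicCompletion (I.map (algebraMap A (Localization.AtPrime q.asIdeal))) (LocalizedModule q.asIdeal.primeCompl M)))) : (∃ ω' : Dual.D (AdicCompletion I A), Dual.IsDualizing (AdicCompletion I A) ω') ∧ LocCoh.CdLE (AdicCompletion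 I A) (I.map (algebraMap A (AdicCompletion I A))) d ∧ (∀ p r q : PrimeSpectrum (AdicCompletion I A), p ≤ r → r ≤ q → ¬ (I.map (algebraMap A (AdicCompletion I A))) ≤ p.asIdeal → (I.map (algebraMap A (AdicCompletion I A))) ≤ r.asIdeal → r ∉ ((PrimeSpectrum.comap (algebraMap A (AdicCompletion I A))) ⁻¹' T) → q ∈ ((PrimeSpectrum.comap (algebraMap A (AdicCompletion I A))) ⁻¹' T) → (s : ℕ∞) ≤ LocCoh.depth (Localization.AtPrime p.asIdeal) (LocalizedModule p.asIdeal.primeCompl (AdicCompletion I M)) ∨ ((d + s : ℕ) : WithBot ℕ∞) < (LocCoh.depth (Localization.AtPrime p.asIdeal) (LocalizedModule p.asIdeal.primeCompl (AdicCompletion I M)) : WithBot ℕ∞) + Formal2.dimBetween (AdicCompletion I A) p.asIdeal q.asIdeal) ∧ (∀ q : PrimeSpectrum (AdicCompletion I A), q ∈ ((PrimeSpectrum.comap (algebraMap A (AdicCompletion I A))) ⁻¹' T) → ∀ p' : PrimeSpectrum (AdicCompletion ((I.map (algebraMap A (AdicCompletion I A))).map (algebraMap (AdicCompletion I A) (Localization.AtPrime q.asIdeal))) (Localization.AtPrime q.asIdeal)), ¬ ((I.map (algebraMap A (AdicCompletion I A))).map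 (algebraMap (AdicCompletion I A) (AdicCompletion ((I.map (algebraMap A (AdicCompletion I A))).map (algebraMap (AdicCompletion I A) (Localization.AtPrime q.asIdeal))) (Localization.AtPrime q.asIdeal)))) ≤ p'.asIdeal → (∀ q' : PrimeSpectrum (AdicCompletion ((I.map (algebraMap A (AdicCompletion I A))).map (algebraMap (AdicCompletion I A) (Localization.AtPrime q.asIdeal))) (Localization.AtPrime q.asIdeal)), p' ≤ q' → ((I.map (algebraMap A (AdicCompletion I A))).map (algebraMap (AdicCompletion I A) (AdicCompletion ((I.map (algebraMap A (AdicCompletion I A))).map (algebraMap (AdicCompletion I A) (Localization.AtPrime q.asIdeal))) (Localization.AtPrime q.asIdeal)))) ≤ q'.asIdeal → q'.asIdeal.IsMaximal) → (s : ℕ∞) < LocCoh.depth (Localization.AtPrime p'.asIdeal) (LocalizedModule p'.asIdeal.primeCompl (AdicCompletion ((I.map (algebraMap A (AdicCompletion I A))).map (algebraMap (AdicCompletion I A) (Localization.AtPrime q.asIdeal))) (LocalizedModule q.asIdeal.primeCompl (AdicCompletion I M))))) := by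
  obtain ⟨ω, hω⟩ := hdc
  haveI := Groth.SuppCx.CompletionDepth.isNoetherianRing_completion I
  refine ⟨⟨_, Groth.SuppCx.CompletionDepth.isDualizing_completion I hω⟩, Groth.LocCohBase.cdLE_map _ hcd,
    fun p r q hpr hrq hp hr hrT hqT => ?_, fun q hqT p' hp' hmax => ?_⟩
  · obtain ⟨c, D, D', hcD, hdep, hD', hD⟩ :=
      Groth.SuppCx.CompletionDepth.exists_depth_formula hω I M p q (hpr.trans hrq) (hr.trans hrq)
    have hpr' : PrimeSpectrum.comap (algebraMap A (AdicCompletion I A)) p ≤
        PrimeSpectrum.comap (algebraMap A (AdicCompletion I A)) r := Ideal.comap_mono hpr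
    have hrq' : PrimeSpectrum.comap (algebraMap A (AdicCompletion I A)) r ≤
        PrimeSpectrum.comap (algebraMap A (AdicCompletion I A)) q := Ideal.comap_mono hrq
    have h := h4 _ _ _ hpr' hrq' (fun h => hp (Ideal.map_le_iff_le_comap.2 h))
      (Ideal.map_le_iff_le_comap.1 hr) hrT hqT
    rw [hD] at h
    rw [hdep, hD']
    generalize LocCoh.depth (Localization.AtPrime (PrimeSpectrum.comap (algebraMap A (AdicCompletion I A)) p).asIdeal)
      (LocalizedModule (PrimeSpectrum.comap (algebraMap A (AdicCompletion I A)) p).asIdeal.primeCompl M) = x at h ⊢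
    rcases h with h | h
    · exact Or.inl (h.trans le_self_add)
    · refine Or.inr (h.trans_eq ?_)
      rw [← hcD, ← WithBot.coe_add, ← WithBot.coe_add, WithBot.coe_inj, Nat.cast_add, add_assoc]
  · have hq : I.map (algebraMap A (AdicCompletion I A)) ≤ q.asIdeal := Ideal.map_le_iff_le_comap.2 (hTI hqT)
    let A' := AdicCompletion I A
    obtain ⟨q₀, hq₀⟩ : ∃ x, PrimeSpectrum.comap (algebraMap A A') q = x := ⟨_, rfl⟩
    subst hq₀
    obtain ⟨e⟩ := Groth.SuppCx.CompletionLocalIso.exists_equiv I q hq
    let B := Localization.AtPrime (PrimeSpectrum.comap (algebraMap A A') q).asIdeal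
    let B' := Localization.AtPrime q.asIdeal
    haveI : IsNoetherianRing B := IsLocalization.isNoetherianRing
      (PrimeSpectrum.comap (algebraMap A A') q).asIdeal.primeCompl _ inferInstance
    haveI : IsNoetherianRing B' := IsLocalization.isNoetherianRing q.asIdeal.primeCompl _ inferInstance
    let J : Ideal B := I.map (algebraMap A B)
    let J' : Ideal B' := (I.map (algebraMap A A')).map (algebraMap A' B')
    let C := AdicCompletion J B
    let C' := AdicCompletion J' B'
    let N := LocalizedModule (PrimeSpectrum.comap (algebraMap A A') q).asIdeal.primeCompl M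
    let N' := LocalizedModule q.asIdeal.primeCompl (AdicCompletion I M)
    haveI : Module.Finite B N := Module.Finite.of_isLocalizedModule
      (PrimeSpectrum.comap (algebraMap A A') q).asIdeal.primeCompl
      (LocalizedModule.mkLinearMap (PrimeSpectrum.comap (algebraMap A A') q).asIdeal.primeCompl M)
    haveI : Module.Finite A' (AdicCompletion I M) :=
      Module.Finite.equiv (AdicCompletion.ofTensorProductEquivOfFiniteNoetherian I M)
    haveI : Module.Finite B' N' := Module.Finite.of_isLocalizedModule q.asIdeal.primeCompl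
      (LocalizedModule.mkLinearMap q.asIdeal.primeCompl (AdicCompletion I M))
    have hmap' : (I.map (algebraMap A A')).map (algebraMap A' C') = I.map (algebraMap A C') := by
      rw [Ideal.map_map, ← IsScalarTower.algebraMap_eq]
    have hmapC : (I.map (algebraMap A C)).map e.toRingEquiv.toRingHom = I.map (algebraMap A C') := by
      refine (Ideal.map_map _ _).trans ?_
      congr 1
      exact RingHom.ext fun a => e.commutes a
    rw [hmap'] at hp' hmax
    let p'' := PrimeSpectrum.comap e.toRingEquiv.toRingHom p'
    have hp'' : ¬ I.map (algebraMap A C) ≤ p''.asIdeal := fun h => hp' (by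
      rw [← hmapC]; exact Ideal.map_le_iff_le_comap.2 h)
    have hmax'' : ∀ q'' : PrimeSpectrum C, p'' ≤ q'' → I.map (algebraMap A C) ≤ q''.asIdeal →
        q''.asIdeal.IsMaximal := fun q'' h1 h2 => by
      let q' := PrimeSpectrum.comap e.toRingEquiv.symm.toRingHom q''
      have hback : ∀ x : C, e.toRingEquiv.symm (e.toRingEquiv x) = x := e.toRingEquiv.symm_apply_apply
      have h1' : p' ≤ q' := fun x hx => h1 (by
        show e.toRingEquiv (e.toRingEquiv.symm x) ∈ p'.asIdeal
        rwa [e.toRingEquiv.apply_symm_apply])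
      have h2' : I.map (algebraMap A C') ≤ q'.asIdeal := by
        rw [← hmapC, Ideal.map_le_iff_le_comap]
        intro x hx
        show e.toRingEquiv.symm (e.toRingEquiv x) ∈ q''.asIdeal
        rw [hback]
        exact h2 hx
      haveI := hmax q' h1' h2'
      exact Groth.SuppCx.CompletionDepth.isMaximal_of_comap e.toRingEquiv.symm.surjective this
    have h := h6 _ hqT p'' hp'' hmax''
    let θ : AdicCompletion J N ≃ₗ[C] C ⊗[A] M :=
      (AdicCompletion.ofTensorProductEquivOfFiniteNoetherian J N).symm.trans
        ((TensorProduct.AlgebraTensorModule.congr (LinearEquiv.refl C C)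
          (LocalizedModule.equivTensorProduct (PrimeSpectrum.comap (algebraMap A A') q).asIdeal.primeCompl M)).trans
          (TensorProduct.AlgebraTensorModule.cancelBaseChange A B C C M))
    let θ' : AdicCompletion J' N' ≃ₗ[C'] C' ⊗[A] M :=
      (AdicCompletion.ofTensorProductEquivOfFiniteNoetherian J' N').symm.trans
        ((TensorProduct.AlgebraTensorModule.congr (LinearEquiv.refl C' C')
          (LocalizedModule.equivTensorProduct q.asIdeal.primeCompl (AdicCompletion I M))).trans
          ((TensorProduct.AlgebraTensorModule.cancelBaseChange A' B' C' C' (AdicCompletion I M)).trans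
            ((TensorProduct.AlgebraTensorModule.congr (LinearEquiv.refl C' C')
              (AdicCompletion.ofTensorProductEquivOfFiniteNoetherian I M).symm).trans
              (TensorProduct.AlgebraTensorModule.cancelBaseChange A A' C' C' M))))
    let μ : C ⊗[A] M ≃ₗ[A] C' ⊗[A] M := TensorProduct.congr e.toLinearEquiv (LinearEquiv.refl A M)
    have hμ : ∀ (c : C) (z : C ⊗[A] M), μ (c • z) = e c • μ z := fun c z => by
      induction z using TensorProduct.induction_on with
      | zero => simp
      | tmul x m =>
        show e (c • x) ⊗ₜ[A] m = e c • (e x ⊗ₜ[A] m)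
        rw [smul_eq_mul, map_mul, TensorProduct.smul_tmul', smul_eq_mul]
      | add a b ha hb => rw [smul_add, map_add, ha, hb, map_add, smul_add]
    let f : AdicCompletion J N ≃+ AdicCompletion J' N' :=
      θ.toAddEquiv.trans (μ.toAddEquiv.trans θ'.symm.toAddEquiv)
    refine h.trans_eq (Groth.SuppCx.CompletionLocalIso.depth_localized_ringEquiv e.toRingEquiv f
      (fun c z => ?_) p')
    show θ'.symm (μ (θ (c • z))) = e c • θ'.symm (μ (θ z))
    rw [map_smul, hμ, map_smul]

end Groth.Agent.S8828
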