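import Groth.Statements.S8829
import Mathlib
import Groth.Agent.S8804
import Groth.Agent.Calg1.Completion
import Groth.Agent.AdicLinTop.Adic
-- import your own Groth.Agent.* helpers here

set_option autoImplicit false
universe u
open AdicRing

namespace Groth.Agent.S8829

/-- In the case of adic Noetherian topological rings: let A be a Noetherian ring complete for the adic
topology of an ideal I, and B a Noetherian A-algebra complete for the IB-adic topology with B/IB of
finite type over A (so A → B is an adic morphism, topologically of finite type). Let q be a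
rig-closed prime of B (IB ⊄ q and q maximal among the primes not containing IB) and p its inverse
image in A. Three conditions turn out to be equivalent: (1) whenever m is a maximal ideal of B with
m ⊇ q, the quotient B/m is finite as an A-module (that is, residue fields of B/q are finite over A);
(2) p is rig-closed in A (I ⊄ p and p maximal among the primes not containing I); (3) B/q is a
finite A-module, i.e. A/p ⊆ B/q is a finite extension of rings. -/
theorem result (A : Type u) [CommRing A] [IsNoetherianRing A] (I : Ideal A) [IsAdicComplete I A] (B : Type u) [CommRing B] [Algebra A B] [IsNoetherianRing B] [IsAdicComplete (I.map (algebraMap A B)) B] (hft : Algebra.FiniteType A (B ⧸ (I.map (algebraMap A B)))) (q : PrimeSpectrum B) (hq : (¬ (I.map (algebraMap A B)) ≤ q.asIdeal ∧ ∀ y : PrimeSpectrum B, q ≤ y → ¬ (I.map (algebraMap A B)) ≤ y.asIdeal → y = q)) : List.TFAE [∀ m : Ideal B, m.IsMaximal → q.asIdeal ≤ m → Module.Finite A (B ⧸ m), (¬ I ≤ (PrimeSpectrum.comap (algebraMap A B) q).asIdeal ∧ ∀ y : PrimeSpectrum A,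 (PrimeSpectrum.comap (algebraMap A B) q) ≤ y → ¬ I ≤ y.asIdeal → y = (PrimeSpectrum.comap (algebraMap A B) q)), Module.Finite A (B ⧸ q.asIdeal)] := by
  obtain ⟨hqI, hqmax⟩ := hq
  set IB := I.map (algebraMap A B) with hIB
  obtain ⟨hdim, hmax, -⟩ := ((Groth.Agent.S8804.result B IB q).out 0 2 rfl rfl).mp ⟨hqI, hqmax⟩
  let D := B ⧸ q.asIdeal
  set JD := IB.map (Ideal.Quotient.mk q.asIdeal) with hJD
  haveI : Ring.KrullDimLE 1 D := Ring.krullDimLE_iff.mpr hdim.le
  obtain ⟨M, hM⟩ := Ideal.exists_maximal D
  have hMeq : M = JD.radical := hmax M hM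
  have hmapI : I.map (algebraMap A D) = JD := by
    rw [hJD, hIB, Ideal.map_map]
    rfl
  have hJM : JD ≤ M := hMeq ▸ Ideal.le_radical
  have hmaxB : ∀ m : Ideal B, m.IsMaximal → q.asIdeal ≤ m → IB ≤ m := fun m hm hqm => by
    have hmm : (m.map (Ideal.Quotient.mk q.asIdeal)).IsMaximal :=
      Ideal.IsMaximal.map_of_surjective_of_ker_le Ideal.Quotient.mk_surjective (by rwa [Ideal.mk_ker])
    intro b hb
    have h1 : Ideal.Quotient.mk q.asIdeal b ∈ m.map (Ideal.Quotient.mk q.asIdeal) :=
      hmax _ hmm ▸ Ideal.le_radical (Ideal.mem_map_of_mem _ hb)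
    exact (Ideal.mem_map_iff_of_surjective _ Ideal.Quotient.mk_surjective).1 h1 |>.elim
      fun c ⟨hc, hce⟩ => by simpa using sub_mem hc (hqm (Ideal.Quotient.eq.1 hce))
  tfae_have 1 → 3 := by
    intro h1
    have hk : Algebra.IsIntegral A (D ⧸ M) := by
      haveI : (M.comap (Ideal.Quotient.mk q.asIdeal)).IsMaximal :=
        Ideal.comap_isMaximal_of_surjective _ Ideal.Quotient.mk_surjective
      haveI := h1 (M.comap (Ideal.Quotient.mk q.asIdeal)) inferInstance fun b hb => by
        rw [Ideal.mem_comap, Ideal.Quotient.eq_zero_iff_mem.2 hb]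
        exact zero_mem _
      haveI : Module.Finite A (D ⧸ M) := Module.Finite.of_surjective
        (Ideal.Quotient.liftₐ (M.comap (Ideal.Quotient.mk q.asIdeal))
          ((Ideal.Quotient.mkₐ A M).comp (Ideal.Quotient.mkₐ A q.asIdeal))
          fun b hb => Ideal.Quotient.eq_zero_iff_mem.2 hb).toLinearMap (fun z => by
          obtain ⟨d, rfl⟩ := Ideal.Quotient.mk_surjective z
          obtain ⟨b, rfl⟩ := Ideal.Quotient.mk_surjective d
          exact ⟨Ideal.Quotient.mk _ b, rfl⟩)
      infer_instance
    -- D / J is finite over A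
    let E := D ⧸ JD
    haveI : Algebra.FiniteType A E := by
      refine Algebra.FiniteType.of_surjective (Ideal.Quotient.liftₐ IB
        ((Ideal.Quotient.mkₐ A JD).comp (Ideal.Quotient.mkₐ A q.asIdeal)) (fun b hb => ?_)) ?_
      · exact Ideal.Quotient.eq_zero_iff_mem.mpr (Ideal.mem_map_of_mem _ hb)
      · intro z
        obtain ⟨d, rfl⟩ := Ideal.Quotient.mk_surjective z
        obtain ⟨b, rfl⟩ := Ideal.Quotient.mk_surjective d
        exact ⟨Ideal.Quotient.mk IB b, rfl⟩
    haveI : Algebra.IsIntegral A E := ⟨fun x => by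
      obtain ⟨d, rfl⟩ := Ideal.Quotient.mk_surjective x
      obtain ⟨f, hf, hf0⟩ := hk.isIntegral (Ideal.Quotient.mk M d)
      have h1 : Polynomial.aeval d f ∈ M := by
        rw [← Ideal.Quotient.eq_zero_iff_mem]
        show Ideal.Quotient.mkₐ A M (Polynomial.aeval d f) = 0
        rw [← Polynomial.aeval_algHom_apply]
        exact hf0
      rw [hMeq] at h1
      obtain ⟨N, hN⟩ := h1
      refine ⟨f ^ N, hf.pow N, ?_⟩
      show Polynomial.aeval (Ideal.Quotient.mkₐ A JD d) (f ^ N) = 0
      rw [Polynomial.aeval_algHom_apply, map_pow]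
      exact Ideal.Quotient.eq_zero_iff_mem.mpr hN⟩
    haveI : Module.Finite A E := Algebra.IsIntegral.finite
    haveI : IsHausdorff I D := by
      haveI := Groth.AdicLinTop.Adic.isAdicComplete_of_finite (I := IB) (A := B) (M := D)
      exact (IsHausdorff.map_algebraMap_iff (S := B) (I := I) (M := D)).mp inferInstance
    haveI : Module.Finite A D := by
      refine Groth.Calg1.module_finite_of_isHausdorff I D ?_
      have he : (I • ⊤ : Submodule A D) = JD.restrictScalars A := by
        rw [Ideal.smul_top_eq_map, hmapI]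
      exact Groth.AdicLinTop.RigClosed.finite_quotient_of_eq he.symm
    exact inferInstanceAs (Module.Finite A D)
  tfae_have 3 → 2 := by
    intro h3
    haveI : Module.Finite A D := h3
    refine ⟨fun hle => hqI (Ideal.map_le_iff_le_comap.mpr hle), fun y hpy hIy => ?_⟩
    set p := q.asIdeal.comap (algebraMap A B) with hp
    have hpy' : p ≤ y.asIdeal := hpy
    haveI := y.isPrime
    obtain ⟨Q, hQp, hQc⟩ := Ideal.exists_ideal_over_prime_of_isIntegral_of_isDomain (S := D) y.asIdeal
      (fun a ha => hpy' (show algebraMap A B a ∈ q.asIdeal from Ideal.Quotient.eq_zero_iff_mem.mp ha))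
    have hQ0 : Q = ⊥ := by
      by_contra h0
      apply hIy
      have hQm : Q.IsMaximal := hQp.isMaximal_of_ne_bot h0
      rw [← hQc, ← Ideal.map_le_iff_le_comap, hmapI, hmax Q hQm]
      exact Ideal.le_radical
    refine PrimeSpectrum.ext ?_
    show y.asIdeal = p
    rw [← hQc, hQ0]
    ext a
    exact Ideal.Quotient.eq_zero_iff_mem

  tfae_have 2 → 1 := by
    rintro ⟨hpI, hpmax⟩ m hm hqm
    obtain ⟨-, hmaxA, -⟩ := ((Groth.Agent.S8804.result A I (PrimeSpectrum.comap (algebraMap A B) q)).out
      0 2 rfl rfl).mp ⟨hpI, hpmax⟩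
    have hIm : IB ≤ m := hmaxB m hm hqm
    haveI : (m.comap (algebraMap A B)).IsMaximal := by
      set n := m.comap (algebraMap A B)
      obtain ⟨N, hN, hnN⟩ := Ideal.exists_le_maximal n ((hm.isPrime.comap (algebraMap A B)).ne_top)
      set p := q.asIdeal.comap (algebraMap A B)
      have hpn : p ≤ n := Ideal.comap_mono hqm
      have hNm : (N.map (Ideal.Quotient.mk p)).IsMaximal :=
        Ideal.IsMaximal.map_of_surjective_of_ker_le Ideal.Quotient.mk_surjective
          (by rw [Ideal.mk_ker]; exact hpn.trans hnN)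
      have hNn : N ≤ n := by
        intro a ha
        have h1 : Ideal.Quotient.mk p a ∈ (I.map (Ideal.Quotient.mk p)).radical :=
          (hmaxA _ hNm) ▸ Ideal.mem_map_of_mem _ ha
        obtain ⟨l, hl⟩ := h1
        rw [← map_pow] at hl
        obtain ⟨c, hc, hce⟩ := (Ideal.mem_map_iff_of_surjective _ Ideal.Quotient.mk_surjective).1 hl
        refine (hm.isPrime.comap (algebraMap A B)).mem_of_pow_mem l ?_
        have hcn : c ∈ n := hIm (Ideal.mem_map_of_mem _ hc)
        have h2 := sub_mem hcn (hpn (Ideal.Quotient.eq.1 hce))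
        rwa [sub_sub_cancel] at h2
      exact (le_antisymm hnN hNn) ▸ hN
    letI : Field (A ⧸ m.comap (algebraMap A B)) := Ideal.Quotient.field _
    letI : Field (B ⧸ m) := Ideal.Quotient.field _
    haveI : Algebra.FiniteType A (B ⧸ m) :=
      Algebra.FiniteType.of_surjective (Ideal.Quotient.factorₐ A hIm) (Ideal.Quotient.factor_surjective hIm)
    letI : Algebra (A ⧸ m.comap (algebraMap A B)) (B ⧸ m) :=
      (Ideal.quotientMap m (algebraMap A B) le_rfl).toAlgebra
    haveI : IsScalarTower A (A ⧸ m.comap (algebraMap A B)) (B ⧸ m) :=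
      IsScalarTower.of_algebraMap_eq fun _ => rfl
    haveI : Algebra.FiniteType (A ⧸ m.comap (algebraMap A B)) (B ⧸ m) :=
      Algebra.FiniteType.of_restrictScalars_finiteType A _ _
    haveI : Module.Finite (A ⧸ m.comap (algebraMap A B)) (B ⧸ m) :=
      finite_of_finite_type_of_isJacobsonRing _ _
    exact Module.Finite.trans (A ⧸ m.comap (algebraMap A B)) _
  tfae_finish

end Groth.Agent.S8829
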