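import Groth.Statements.S8831
import Groth.Agent.LocCohTransform.PuncturedCoherent

set_option autoImplicit false
universe u
open CategoryTheory AlgebraicGeometry Opposite
open LocCoh

namespace Groth.Agent.S8831

/-- Let (A, m) be a Noetherian local ring and U = Spec A ∖ {m} the punctured spectrum. Suppose we are
given a system (F_n), indexed inversely by n, of coherent modules on U. In each positive degree i,
the cohomology groups H^i(U, F_n) then form a Mittag-Leffler system; concretely, given any n one can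
find r ≥ n such that for all s ≥ r the image of H^i(U, F_s) → H^i(U, F_n) equals the image of H^i(U,
F_r) → H^i(U, F_n). -/
theorem result (A : Type u) [CommRing A] [IsNoetherianRing A] [IsLocalRing A] (G : ℕᵒᵖ ⥤ (↑(LocCoh.puncturedOpen A (IsLocalRing.maximalIdeal A)) : Scheme.{u}).Modules) (hG : ∀ n : ℕᵒᵖ, Coh.IsCoh (G.obj n)) (i : ℕ) (hi : 0 < i) (n : ℕ) : ∃ (r : ℕ) (hnr : n ≤ r), ∀ (s : ℕ) (hrs : r ≤ s), Set.range (Sheaf.H.map ((SheafOfModules.toSheaf _).map (G.map (homOfLE (hnr.trans hrs : n ≤ s)).op)) i) = Set.range (Sheaf.H.map ((SheafOfModules.toSheaf _).map (G.map (homOfLE (hnr : n ≤ r)).op)) i) := by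
  let H := fun k : ℕ => Coh.HH
    (↑(LocCoh.puncturedOpen A (IsLocalRing.maximalIdeal A)) : Scheme.{u}) (G.obj (op k)) i
  have hA : IsArtinian A (H n) :=
    Groth.LocCohTransform.Punct.isArtinian_HH_of_isCoh (G.obj (op n)) (hG _) i hi
  let f : ∀ k : ℕ, H (n + k) →ₗ[A] H n := fun k =>
    Groth.EulerDeg.hMap A (G.map (homOfLE (Nat.le_add_right n k)).op) i
  have hanti : ∀ j k, j ≤ k → LinearMap.range (f k) ≤ LinearMap.range (f j) := by
    rintro j k hjk _ ⟨x, rfl⟩
    refine ⟨Groth.EulerDeg.hMap A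
      (G.map (homOfLE (Nat.add_le_add_left hjk n)).op) i x, ?_⟩
    rw [show f k = (f j).comp (Groth.EulerDeg.hMap A
      (G.map (homOfLE (Nat.add_le_add_left hjk n)).op) i) from by
        rw [← Groth.EulerDeg.hMap_comp, ← Functor.map_comp]; rfl]
    rfl
  obtain ⟨k, hk⟩ := monotone_stabilizes_iff_artinian.2 hA
    ⟨fun k => OrderDual.toDual (LinearMap.range (f k)), fun j k h => hanti j k h⟩
  refine ⟨n + k, Nat.le_add_right n k, fun s hrs => ?_⟩
  obtain ⟨l, rfl⟩ : ∃ l, s = n + l := ⟨s - n, by omega⟩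
  exact congrArg (fun p : Submodule A (H n) => (p : Set (H n))) (hk l (by omega)).symm

end Groth.Agent.S8831
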