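import Groth.Statements.S8833
import Groth.Agent.LocCohTransform.GradedMap
import Mathlib.RingTheory.MvPolynomial.Tower

set_option autoImplicit false
universe u
open scoped BigOperators TensorProduct
open LocCoh

namespace Groth.Agent.S8833

/-- Let A be a Noetherian ring, f_1, …, f_r ∈ A and I = (f_1, …, f_r) with cd(A, I) = 1; let c ≥ 1 and
φ_j : I^c → A be A-linear maps with x = Σ_j f_j φ_j(x) for all x ∈ I^c. Let B be a Noetherian
A-algebra and N a finite B-module. Then there is c' ≥ c with the following property. Write φ_j again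
for the restrictions of the φ_j to I^{c'} and let Φ be a graded A-algebra homomorphism from ⊕_{n ≥
0} I^{nc'} to A[T_1, …, T_r] with Φ(g) = Σ_j φ_j(g) T_j for g ∈ I^{c'} (there is exactly one; it is
encoded by functions Φ_n : A → A[T_1, …, T_r] whose values on I^{nc'} are additive, A-homogeneous,
homogeneous of degree n and multiplicative across degrees, with Φ_0 the structure map and Φ_1 as
prescribed). Then for every n there is a unique B-linear map Ψ_n from the submodule I^{nc'}N of N to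
N[T_1, …, T_r] = B[T_1, …, T_r] ⊗_B N with Ψ_n(g x) = Φ_n(g) ⊗ x for g ∈ I^{nc'} and x ∈ N; that is,
the Ψ_n form the unique graded B-module map from ⊕_n I^{nc'}N to N[T_1, …, T_r] with this property.
Moreover substituting T_j ↦ f_j after Ψ_n gives back the inclusion of I^{nc'}N into N. -/
theorem result (A : Type u) [CommRing A] [IsNoetherianRing A] (r : ℕ) (f : Fin r → A) (I : Ideal A) (hI : I = Ideal.span (Set.range f)) (h1 : LocCoh.CdLE A I 1) (h0 : ¬ LocCoh.CdLE A I 0) (c : ℕ) (hc : 1 ≤ c) (φ : Fin r → (↥(I ^ c) →ₗ[A] A)) (hφ : ∀ x : ↥(I ^ c), (x : A) = ∑ j, f j * φ j x) (B : Type u) [CommRing B] [Algebra A B] [IsNoetherianRing B] (N : Type u) [AddCommGroup N] [Module B N] [Module.Finite B N] : ∃ c' : ℕ, ∃ hcc' : c ≤ c', ∀ Φ : ℕ → A → MvPolynomial (Fin r) A, ((∀ n : ℕ, ∀ g ∈ I ^ (n * c'), ∀ h ∈ I ^ (n * c'), Φ n (g + h) = Φ n g + Φ n h) ∧ (∀ (n : ℕ) (a : A), ∀ g ∈ I ^ (n * c'), Φ n (a * g) = a • Φ n g) ∧ (∀ n : ℕ, ∀ g ∈ I ^ (n * c'), (Φ n g).IsHomogeneous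 n) ∧ (∀ n m : ℕ, ∀ g ∈ I ^ (n * c'), ∀ h ∈ I ^ (m * c'), Φ (n + m) (g * h) = Φ n g * Φ m h) ∧ (∀ a : A, Φ 0 a = MvPolynomial.C a) ∧ (∀ (g : A) (hg : g ∈ I ^ c'), Φ 1 g = ∑ j, MvPolynomial.C (φ j ⟨g, Ideal.pow_le_pow_right hcc' hg⟩) * MvPolynomial.X j)) → ∀ n : ℕ, ∃ Ψ : ↥(Submodule.span B {y : N | ∃ g ∈ I ^ (n * c'), ∃ x : N, y = algebraMap A B g • x}) →ₗ[B] (MvPolynomial (Fin r) B ⊗[B] N), (∀ (g : A) (hg : g ∈ I ^ (n * c')) (x : N), Ψ ⟨algebraMap A B g • x, Submodule.subset_span ⟨g, hg, x, rfl⟩⟩ = MvPolynomial.map (algebraMap A B) (Φ n g) ⊗ₜ[B] x) ∧ (∀ y : ↥(Submodule.span B {y : N | ∃ g ∈ I ^ (n * c'), ∃ x : N, y = algebraMap A B g • x}), TensorProduct.lift ((LinearMap.lsmul B N).comp (MvPolynomial.aeval (fun j ↦ algebraMap A B (f j))).toLinearMap) (Ψ y) = (y : N)) ∧ (∀ Ψ' : ↥(Submodule.span B {y : N | ∃ g ∈ I ^ (n * c'), ∃ x : N, y = algebraMap A B g • x}) →ₗ[B] (MvPolynomial (Fin r) B ⊗[B] N), (∀ (g : A) (hg : g ∈ I ^ (n * c')) (x : N), Ψ' ⟨algebraMap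 A B g • x, Submodule.subset_span ⟨g, hg, x, rfl⟩⟩ = MvPolynomial.map (algebraMap A B) (Φ n g) ⊗ₜ[B] x) → Ψ' = Ψ) := by
  classical
  obtain ⟨a, ha⟩ := Groth.LocCohTransform.GradedMap.exists_pow_inf_torsion N (I.map (algebraMap A B))
  refine ⟨c + a, Nat.le_add_right c a, ?_⟩
  rintro Φ ⟨hadd, hsmul, hhom, hmul, hzero, hone⟩ n
  let ψ : Fin r → (↥(I ^ (c + a)) →ₗ[A] A) := fun j =>
    (φ j).comp (Submodule.inclusion (Ideal.pow_le_pow_right (Nat.le_add_right c a)))
  have hψ : ∀ x : ↥(I ^ (c + a)), (x : A) = ∑ j, f j * ψ j x := fun x => hφ ⟨x, _⟩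
  have hψmem : ∀ j x, ψ j x ∈ I ^ a := fun j x =>
    Groth.LocCohTransform.GradedMap.phi_mem φ j (m := a) (g := (x : A))
      (by rw [← pow_add, add_comm]; exact x.2)
  let P := MvPolynomial.map (σ := Fin r) (algebraMap A B)
  have hP : ∀ (h : A) (p : MvPolynomial (Fin r) A), P (h • p) = algebraMap A B h • P p := fun h p => by
    simp only [P, MvPolynomial.smul_eq_C_mul, map_mul, MvPolynomial.map_C]
  let α : (↥(I ^ (n * (c + a))) × N →₀ B) →ₗ[B] N :=
    Finsupp.linearCombination B fun q => algebraMap A B (q.1 : A) • q.2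
  let β : (↥(I ^ (n * (c + a))) × N →₀ B) →ₗ[B] MvPolynomial (Fin r) B ⊗[B] N :=
    Finsupp.linearCombination B fun q => P (Φ n (q.1 : A)) ⊗ₜ[B] q.2
  have hswap : ∀ h ∈ I ^ (n * (c + a)), algebraMap A B h • β =
      (TensorProduct.mk B (MvPolynomial (Fin r) B) N (P (Φ n h))).comp α := by
    intro h hh
    refine Finsupp.lhom_ext fun q b => ?_
    have e : algebraMap A B h • P (Φ n (q.1 : A)) = algebraMap A B (q.1 : A) • P (Φ n h) := by
      rw [← hP, ← hP, ← hsmul n h _ q.1.2, ← hsmul n _ h hh, mul_comm]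
    simp only [α, β, LinearMap.smul_apply, LinearMap.comp_apply, Finsupp.linearCombination_single,
      TensorProduct.mk_apply, TensorProduct.tmul_smul]
    rw [smul_comm, TensorProduct.smul_tmul' (algebraMap A B h), e, ← TensorProduct.smul_tmul']
  let comp : (Fin r →₀ ℕ) → (MvPolynomial (Fin r) B ⊗[B] N →ₗ[B] N) := fun d =>
    (Finsupp.lapply d).comp
      (TensorProduct.equivFinsuppOfBasisLeft (MvPolynomial.basisMonomials (Fin r) B)).toLinearMap
  have hcomp : ∀ d q x, comp d (q ⊗ₜ[B] x) = MvPolynomial.coeff d q • x := by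
    intro d q x
    change (TensorProduct.equivFinsuppOfBasisLeft (MvPolynomial.basisMonomials (Fin r) B) (q ⊗ₜ[B] x)) d = _
    rw [TensorProduct.equivFinsuppOfBasisLeft_apply_tmul_apply]
    rfl
  have hker : LinearMap.ker α ≤ LinearMap.ker β := by
    intro p hp
    rw [LinearMap.mem_ker] at hp ⊢
    have hz : ∀ h ∈ I ^ (n * (c + a)), algebraMap A B h • β p = 0 := by
      intro h hh
      rw [← LinearMap.smul_apply, hswap h hh, LinearMap.comp_apply, hp, map_zero]
    rcases n with _ | k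
    · have := hz 1 (by simp)
      rwa [map_one, one_smul] at this
    apply (TensorProduct.equivFinsuppOfBasisLeft (MvPolynomial.basisMonomials (Fin r) B)).injective
    rw [map_zero]
    ext d
    change comp d (β p) = 0
    refine ha ((k + 1) * (c + a)) _ ?_ ?_
    · suffices h : LinearMap.range ((comp d).comp β) ≤
          ((I.map (algebraMap A B)) ^ a • ⊤ : Submodule B N) from h ⟨p, rfl⟩
      rw [LinearMap.range_comp, Finsupp.range_linearCombination, Submodule.map_span, Submodule.span_le]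
      rintro _ ⟨_, ⟨q, rfl⟩, rfl⟩
      simp only [SetLike.mem_coe, hcomp]
      refine Submodule.smul_mem_smul ?_ Submodule.mem_top
      rw [← Ideal.map_pow, MvPolynomial.coeff_map]
      exact Ideal.mem_map_of_mem _ (Groth.LocCohTransform.GradedMap.coeff_mem hadd hmul hzero
        (ψ := ψ) hone hψmem k _ q.1.2 d)
    · intro b hb
      have hle : (I ^ ((k + 1) * (c + a))).map (algebraMap A B) ≤
          LinearMap.ker (LinearMap.toSpanSingleton B N (comp d (β p))) :=
        Ideal.map_le_iff_le_comap.2 fun h hh => by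
          change algebraMap A B h • comp d (β p) = 0
          rw [← map_smul, hz h hh, map_zero]
      rw [Ideal.map_pow] at hle
      exact hle hb
  have hS : Submodule.span B {y : N | ∃ g ∈ I ^ (n * (c + a)), ∃ x : N, y = algebraMap A B g • x} ≤
      LinearMap.range α := by
    rw [Submodule.span_le]
    rintro _ ⟨g, hg, x, rfl⟩
    exact ⟨Finsupp.single (⟨g, hg⟩, x) 1, by simp [α]⟩
  let Ψ := ((LinearMap.ker α).liftQ β hker).comp
    (α.quotKerEquivRange.symm.toLinearMap.comp (Submodule.inclusion hS))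
  have hΨ : ∀ (g : A) (hg : g ∈ I ^ (n * (c + a))) (x : N),
      Ψ ⟨algebraMap A B g • x, Submodule.subset_span ⟨g, hg, x, rfl⟩⟩ = P (Φ n g) ⊗ₜ[B] x := by
    intro g hg x
    have e : α (Finsupp.single (⟨g, hg⟩, x) 1) = algebraMap A B g • x := by simp [α]
    have e2 : (Submodule.inclusion hS ⟨algebraMap A B g • x, Submodule.subset_span ⟨g, hg, x, rfl⟩⟩) =
        ⟨α (Finsupp.single (⟨g, hg⟩, x) 1), LinearMap.mem_range_self _ _⟩ := Subtype.ext e.symm
    simp only [Ψ, LinearMap.comp_apply, LinearEquiv.coe_coe, e2,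
      LinearMap.quotKerEquivRange_symm_apply_image, Submodule.mkQ_apply, Submodule.liftQ_apply]
    simp [β]
  refine ⟨Ψ, hΨ, ?_, ?_⟩
  · intro y
    have : (TensorProduct.lift ((LinearMap.lsmul B N).comp
        (MvPolynomial.aeval (fun j ↦ algebraMap A B (f j))).toLinearMap)).comp Ψ = Submodule.subtype _ := by
      refine LinearMap.ext_on Submodule.span_span_coe_preimage ?_
      rintro ⟨_, hy⟩ ⟨g, hg, x, rfl⟩
      rw [LinearMap.comp_apply, hΨ g hg x, TensorProduct.lift.tmul]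
      change MvPolynomial.aeval (fun j ↦ algebraMap A B (f j)) (P (Φ n g)) • x = algebraMap A B g • x
      congr 1
      rw [MvPolynomial.aeval_def, MvPolynomial.eval₂_map, show (algebraMap B B).comp (algebraMap A B) = algebraMap A B from rfl, ← MvPolynomial.aeval_def,
        show (fun j ↦ algebraMap A B (f j)) = algebraMap A B ∘ f from rfl,
        MvPolynomial.aeval_algebraMap_apply]
      exact congrArg _ (Groth.LocCohTransform.GradedMap.aeval_eq hadd hmul hzero (ψ := ψ) hone hψ n g hg)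
    exact LinearMap.congr_fun this y
  · intro Ψ' h'
    refine LinearMap.ext_on Submodule.span_span_coe_preimage ?_
    rintro ⟨_, hy⟩ ⟨g, hg, x, rfl⟩
    exact (h' g hg x).trans (hΨ g hg x).symm

end Groth.Agent.S8833
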