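import Groth.Statements.S8834
import Mathlib.RingTheory.FiniteType
import Mathlib.RingTheory.Finiteness.Ideal
import Mathlib.RingTheory.Noetherian.Basic
import Mathlib.Tactic.Ring

set_option autoImplicit false
universe u
open AdicRing

namespace Groth.Agent.S8834

/-- Let A be a Noetherian ring complete for the adic topology of an ideal I and B a Noetherian ring
complete for the adic topology of an ideal J, with an algebra map A → B sending I into the radical
of J (a continuous homomorphism of adic Noetherian topological rings; the radicals of I and J are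
the ideals of topologically nilpotent elements). Assume B/√J is of finite type over A, equivalently
over A/√I. Then B is topologically of finite type over A: there are b_1, …, b_s ∈ B such that the
A-algebra map A[x_1, …, x_s] → B with x_i ↦ b_i has dense image for the J-adic topology, that is,
for every y ∈ B and every n there is a polynomial whose value at b differs from y by an element of
J^n. -/
theorem result (A : Type u) [CommRing A] [IsNoetherianRing A] (I : Ideal A) [IsAdicComplete I A] (B : Type u) [CommRing B] [Algebra A B] [IsNoetherianRing B] (J : Ideal B) [IsAdicComplete J B] (hIJ : I.map (algebraMap A B) ≤ J.radical) (hft : Algebra.FiniteType A (B ⧸ J.radical)) : ∃ s : ℕ, ∃ b : Fin s → B, ∀ (y : B) (n : ℕ), ∃ p : MvPolynomial (Fin s) A, y - MvPolynomial.aeval b p ∈ J ^ n := by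
  classical
  obtain ⟨G, hG⟩ := hft.out
  obtain ⟨H, hH⟩ := IsNoetherian.noetherian J.radical
  choose g hg using Ideal.Quotient.mk_surjective (I := J.radical)
  let T : Finset B := G.image g ∪ H
  let b : Fin T.card → B := fun i => (T.equivFin.symm i : B)
  refine ⟨T.card, b, fun y n => ?_⟩
  let φ : MvPolynomial (Fin T.card) A →ₐ[A] B := MvPolynomial.aeval b
  have hmem : ∀ t ∈ T, t ∈ φ.range := fun t ht =>
    ⟨MvPolynomial.X (T.equivFin ⟨t, ht⟩), by simp [φ, b]⟩
  have h0 : ∀ x : B, ∃ s ∈ φ.range, x - s ∈ J.radical := by
    intro x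
    have hle : Algebra.adjoin A (G : Set (B ⧸ J.radical)) ≤
        φ.range.map (Ideal.Quotient.mkₐ A J.radical) := Algebra.adjoin_le fun z hz =>
      ⟨g z, hmem _ (Finset.mem_union_left _ (Finset.mem_image_of_mem g hz)), hg z⟩
    rw [hG] at hle
    obtain ⟨s, hs, hsx⟩ := hle (Algebra.mem_top (x := Ideal.Quotient.mk J.radical x))
    exact ⟨s, hs, Ideal.Quotient.eq.mp hsx.symm⟩
  have hk : ∀ k : ℕ, ∀ x ∈ J.radical ^ k, ∃ s ∈ φ.range, x - s ∈ J.radical ^ (k + 1) := by
    intro k
    induction k with
    | zero => intro x _; simpa using h0 x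
    | succ k ih =>
      intro x hx
      rw [pow_succ] at hx
      refine Submodule.mul_induction_on hx (fun c hc e he => ?_) ?_
      · obtain ⟨s, hs, hcs⟩ := ih c hc
        rw [← hH] at he
        obtain ⟨a, rfl⟩ := Submodule.mem_span_finset'.mp he
        choose u hu hau using fun z : H => h0 (a z)
        refine ⟨s * ∑ z : H, u z * z.1,
          mul_mem hs (sum_mem fun z _ => mul_mem (hu z) (hmem _ (Finset.mem_union_right _ z.2))), ?_⟩
        have h1 : (c - s) * ∑ z : H, a z • z.1 + s * ∑ z : H, (a z - u z) * z.1 =
            c * ∑ z : H, a z • z.1 - s * ∑ z : H, u z * z.1 := by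
          simp only [smul_eq_mul, sub_mul, Finset.sum_sub_distrib]
          ring
        rw [← h1]
        refine add_mem ?_ ?_
        · rw [pow_succ (J.radical) (k + 1)]
          refine Ideal.mul_mem_mul hcs (sum_mem fun z _ => ?_)
          exact Ideal.mul_mem_left _ _ (hH ▸ Submodule.subset_span z.2)
        · have hsk : s ∈ J.radical ^ k := by
            have := sub_mem hc (Ideal.pow_le_pow_right k.le_succ hcs)
            rwa [sub_sub_cancel] at this
          rw [pow_succ (J.radical) (k + 1), pow_succ (J.radical) k, mul_assoc]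
          refine Ideal.mul_mem_mul hsk (sum_mem fun z _ => ?_)
          exact Ideal.mul_mem_mul (hau z) (hH ▸ Submodule.subset_span z.2)
      · rintro p q ⟨s, hs, hps⟩ ⟨t, ht, hqt⟩
        exact ⟨s + t, add_mem hs ht, by rw [add_sub_add_comm]; exact add_mem hps hqt⟩
  obtain ⟨N, hN⟩ := Ideal.exists_radical_pow_le_of_fg J (IsNoetherian.noetherian _)
  have happrox : ∀ k : ℕ, ∃ s ∈ φ.range, y - s ∈ J.radical ^ k := by
    intro k
    induction k with
    | zero => exact ⟨0, zero_mem _, by simp⟩
    | succ k ih =>
      obtain ⟨s, hs, hys⟩ := ih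
      obtain ⟨t, ht, hyt⟩ := hk k _ hys
      exact ⟨s + t, add_mem hs ht, by rwa [← sub_sub]⟩
  obtain ⟨_, ⟨p, rfl⟩, hp⟩ := happrox (N * n)
  refine ⟨p, ?_⟩
  rw [pow_mul] at hp
  exact Ideal.pow_right_mono hN n hp

end Groth.Agent.S8834
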