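import Groth.Statements.S8835
import Groth.Agent.S8804
import Groth.Agent.Calg1.Completion
import Groth.Agent.AdicLinTop.Adic
import Mathlib.RingTheory.Jacobson.Ring
import Mathlib.RingTheory.Ideal.GoingUp

set_option autoImplicit false
universe u
open AdicRing

namespace Groth.Agent.S8835

/-- Let A be a Noetherian ring complete for the adic topology of an ideal I, and B a Noetherian
A-algebra complete for the IB-adic topology with B/IB of finite type over A (an adic morphism,
topologically of finite type, of adic Noetherian topological rings). Let q be a prime of B which is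
rig-closed (IB ⊄ q and q maximal among the primes not containing IB). If A/I is a Jacobson ring,
then the inverse image p of q in A is rig-closed: I ⊄ p and p is maximal among the primes of A not
containing I. -/
theorem result (A : Type u) [CommRing A] [IsNoetherianRing A] (I : Ideal A) [IsAdicComplete I A] (B : Type u) [CommRing B] [Algebra A B] [IsNoetherianRing B] [IsAdicComplete (I.map (algebraMap A B)) B] (hft : Algebra.FiniteType A (B ⧸ (I.map (algebraMap A B)))) (q : PrimeSpectrum B) (hq : (¬ (I.map (algebraMap A B)) ≤ q.asIdeal ∧ ∀ y : PrimeSpectrum B, q ≤ y → ¬ (I.map (algebraMap A B)) ≤ y.asIdeal → y = q)) (hJ : IsJacobsonRing (A ⧸ I)) : (¬ I ≤ (PrimeSpectrum.comap (algebraMap A B) q).asIdeal ∧ ∀ y : PrimeSpectrum A, (PrimeSpectrum.comap (algebraMap A B) q) ≤ y → ¬ I ≤ y.asIdeal → y = (PrimeSpectrum.comap (algebraMap A B) q)) := by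
  obtain ⟨hqI, hqmax⟩ := hq
  set IB := I.map (algebraMap A B) with hIB
  obtain ⟨hdim, hmax, -⟩ := ((Groth.Agent.S8804.result B IB q).out 0 2 rfl rfl).mp ⟨hqI, hqmax⟩
  let D := B ⧸ q.asIdeal
  set JD := IB.map (Ideal.Quotient.mk q.asIdeal) with hJD
  haveI : Ring.KrullDimLE 1 D := Ring.krullDimLE_iff.mpr hdim.le
  obtain ⟨M, hM⟩ := Ideal.exists_maximal D
  have hMeq : M = JD.radical := hmax M hM
  have hmapI : I.map (algebraMap A D) = JD := by
    rw [hJD, hIB, Ideal.map_map]
    rfl
  have hJM : JD ≤ M := hMeq ▸ Ideal.le_radical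
  -- the residue field is integral over A
  haveI := hM
  letI : Field (D ⧸ M) := Ideal.Quotient.field M
  have hk : Algebra.IsIntegral A (D ⧸ M) := by
    haveI : Algebra.FiniteType A (D ⧸ M) := by
      refine Algebra.FiniteType.of_surjective (Ideal.Quotient.liftₐ IB
        ((Ideal.Quotient.mkₐ A M).comp (Ideal.Quotient.mkₐ A q.asIdeal)) (fun b hb => ?_)) ?_
      · exact Ideal.Quotient.eq_zero_iff_mem.mpr (hJM (Ideal.mem_map_of_mem _ hb))
      · intro z
        obtain ⟨d, rfl⟩ := Ideal.Quotient.mk_surjective z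
        obtain ⟨b, rfl⟩ := Ideal.Quotient.mk_surjective d
        exact ⟨Ideal.Quotient.mk IB b, rfl⟩
    have hle : ∀ a ∈ I, algebraMap A (D ⧸ M) a = 0 := fun a ha => by
      rw [IsScalarTower.algebraMap_apply A D (D ⧸ M)]
      exact Ideal.Quotient.eq_zero_iff_mem.mpr (hJM (hmapI ▸ Ideal.mem_map_of_mem _ ha))
    letI : Algebra (A ⧸ I) (D ⧸ M) := (Ideal.Quotient.lift I (algebraMap A (D ⧸ M)) hle).toAlgebra
    haveI : IsScalarTower A (A ⧸ I) (D ⧸ M) := IsScalarTower.of_algebraMap_eq fun a => rfl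
    haveI : Algebra.FiniteType (A ⧸ I) (D ⧸ M) :=
      Algebra.FiniteType.of_restrictScalars_finiteType A _ _
    haveI : Module.Finite (A ⧸ I) (D ⧸ M) := finite_of_finite_type_of_isJacobsonRing (A ⧸ I) (D ⧸ M)
    haveI : Module.Finite A (D ⧸ M) := Module.Finite.trans (A ⧸ I) _
    infer_instance
  -- D / J is finite over A
  let E := D ⧸ JD
  haveI : Algebra.FiniteType A E := by
    refine Algebra.FiniteType.of_surjective (Ideal.Quotient.liftₐ IB
      ((Ideal.Quotient.mkₐ A JD).comp (Ideal.Quotient.mkₐ A q.asIdeal)) (fun b hb => ?_)) ?_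
    · exact Ideal.Quotient.eq_zero_iff_mem.mpr (Ideal.mem_map_of_mem _ hb)
    · intro z
      obtain ⟨d, rfl⟩ := Ideal.Quotient.mk_surjective z
      obtain ⟨b, rfl⟩ := Ideal.Quotient.mk_surjective d
      exact ⟨Ideal.Quotient.mk IB b, rfl⟩
  haveI : Algebra.IsIntegral A E := ⟨fun x => by
    obtain ⟨d, rfl⟩ := Ideal.Quotient.mk_surjective x
    obtain ⟨f, hf, hf0⟩ := hk.isIntegral (Ideal.Quotient.mk M d)
    have h1 : Polynomial.aeval d f ∈ M := by
      rw [← Ideal.Quotient.eq_zero_iff_mem]
      show Ideal.Quotient.mkₐ A M (Polynomial.aeval d f) = 0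
      rw [← Polynomial.aeval_algHom_apply]
      exact hf0
    rw [hMeq] at h1
    obtain ⟨N, hN⟩ := h1
    refine ⟨f ^ N, hf.pow N, ?_⟩
    show Polynomial.aeval (Ideal.Quotient.mkₐ A JD d) (f ^ N) = 0
    rw [Polynomial.aeval_algHom_apply, map_pow]
    exact Ideal.Quotient.eq_zero_iff_mem.mpr hN⟩
  haveI : Module.Finite A E := Algebra.IsIntegral.finite
  haveI : IsHausdorff I D := by
    haveI := Groth.AdicLinTop.Adic.isAdicComplete_of_finite (I := IB) (A := B) (M := D)
    exact (IsHausdorff.map_algebraMap_iff (S := B) (I := I) (M := D)).mp inferInstance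
  haveI : Module.Finite A D := by
    refine Groth.Calg1.module_finite_of_isHausdorff I D ?_
    have he : (I • ⊤ : Submodule A D) = JD.restrictScalars A := by
      rw [Ideal.smul_top_eq_map, hmapI]
    exact Groth.AdicLinTop.RigClosed.finite_quotient_of_eq he.symm
  refine ⟨fun hle => hqI (Ideal.map_le_iff_le_comap.mpr hle), fun y hpy hIy => ?_⟩
  set p := q.asIdeal.comap (algebraMap A B) with hp
  have hpy' : p ≤ y.asIdeal := hpy
  haveI := y.isPrime
  obtain ⟨Q, hQp, hQc⟩ := Ideal.exists_ideal_over_prime_of_isIntegral_of_isDomain (S := D) y.asIdeal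
    (fun a ha => hpy' (show algebraMap A B a ∈ q.asIdeal from Ideal.Quotient.eq_zero_iff_mem.mp ha))
  have hQ0 : Q = ⊥ := by
    by_contra h0
    apply hIy
    have hQm : Q.IsMaximal := hQp.isMaximal_of_ne_bot h0
    rw [← hQc, ← Ideal.map_le_iff_le_comap, hmapI, hmax Q hQm]
    exact Ideal.le_radical
  refine PrimeSpectrum.ext ?_
  show y.asIdeal = p
  rw [← hQc, hQ0]
  ext a
  exact Ideal.Quotient.eq_zero_iff_mem

end Groth.Agent.S8835
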