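import Groth.Statements.S8836
import Mathlib
import Groth.Agent.S8804
-- import your own Groth.Agent.* helpers here

set_option autoImplicit false
universe u
open AdicRing

namespace Groth.Agent.S8836

/-- Let A be a Noetherian ring complete for the adic topology of an ideal I, and B a Noetherian
A-algebra complete for the IB-adic topology, flat over A, with B/IB of finite type over A (a flat
adic morphism, topologically of finite type, of adic Noetherian topological rings). Let p be a prime
of A which is rig-closed (I ⊄ p and p maximal among the primes not containing I). The following are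
equivalent: (1) the maximal ideal of the local ring A/p lies in the image of Spec(B/√(IB)) →
Spec(A/√I), stated as: some prime Q of B containing IB lies over a maximal ideal of A containing p;
(2) there is a rig-closed prime q of B (IB ⊄ q, q maximal among the primes not containing IB) whose
inverse image in A is p. (The published statement adds that, when these hold, A/p ⊆ B/q is a finite
extension of rings and the residue field of the local ring B/q is finite over A/√I; this is not
restated here.) -/
theorem result (A : Type u) [CommRing A] [IsNoetherianRing A] (I : Ideal A) [IsAdicComplete I A] (B : Type u) [CommRing B] [Algebra A B] [IsNoetherianRing B] [IsAdicComplete (I.map (algebraMap A B)) B] (hft : Algebra.FiniteType A (B ⧸ (I.map (algebraMap A B)))) [Module.Flat A B] (p : PrimeSpectrum A) (hp : (¬ I ≤ p.asIdeal ∧ ∀ y : PrimeSpectrum A, p ≤ y → ¬ I ≤ y.asIdeal → y = p)) : (∃ Q : PrimeSpectrum B, (I.map (algebraMap A B)) ≤ Q.asIdeal ∧ p.asIdeal ≤ (PrimeSpectrum.comap (algebraMap A B) Q).asIdeal ∧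 (PrimeSpectrum.comap (algebraMap A B) Q).asIdeal.IsMaximal) ↔ (∃ q : PrimeSpectrum B, (¬ (I.map (algebraMap A B)) ≤ q.asIdeal ∧ ∀ y : PrimeSpectrum B, q ≤ y → ¬ (I.map (algebraMap A B)) ≤ y.asIdeal → y = q) ∧ PrimeSpectrum.comap (algebraMap A B) q = p) := by
  constructor
  · rintro ⟨Q, hQI, hpQ, hQmax⟩
    haveI := Q.isPrime
    haveI := p.isPrime
    haveI : Q.asIdeal.LiesOver (Q.asIdeal.comap (algebraMap A B)) := ⟨rfl⟩
    obtain ⟨q₀, hq₀Q, hq₀, hq₀p⟩ := Q.asIdeal.exists_ideal_le_liesOver_of_le
      (p := p.asIdeal) (q := Q.asIdeal.comap (algebraMap A B)) hpQ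
    have hne : ¬ I.map (algebraMap A B) ≤ q₀ := by
      rw [Ideal.map_le_iff_le_comap]
      intro hle
      exact hp.1 (hq₀p.over ▸ hle)
    obtain ⟨q, ⟨hqI, hqp⟩, hqmax⟩ := set_has_maximal_iff_noetherian.2
      (inferInstance : IsNoetherian B B)
      {J : Ideal B | ¬ I.map (algebraMap A B) ≤ J ∧ J.IsPrime ∧ q₀ ≤ J}
      ⟨q₀, hne, hq₀, le_rfl⟩
    refine ⟨⟨q, hqp.1⟩, ⟨hqI, fun y hy hyI => ?_⟩, ?_⟩
    · refine PrimeSpectrum.ext (le_antisymm ?_ hy)
      by_contra hlt
      exact hqmax y.asIdeal ⟨hyI, y.isPrime, hqp.2.trans hy⟩ (lt_of_le_not_ge hy hlt)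
    · refine hp.2 _ ?_ ?_
      · show p.asIdeal ≤ Ideal.comap (algebraMap A B) q
        rw [hq₀p.over]
        exact Ideal.comap_mono hqp.2
      · intro hle
        exact hqI (Ideal.map_le_iff_le_comap.2 hle)
  · rintro ⟨q, hq, hqp⟩
    haveI := q.isPrime
    obtain ⟨-, hmax, -⟩ := ((Groth.Agent.S8804.result B (I.map (algebraMap A B)) q).out
      0 2 rfl rfl).mp hq
    obtain ⟨-, hmaxA, -⟩ := ((Groth.Agent.S8804.result A I p).out 0 2 rfl rfl).mp hp
    obtain ⟨m, hm, hqm⟩ := Ideal.exists_le_maximal q.asIdeal q.isPrime.ne_top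
    have hmm : (m.map (Ideal.Quotient.mk q.asIdeal)).IsMaximal :=
      Ideal.IsMaximal.map_of_surjective_of_ker_le Ideal.Quotient.mk_surjective
        (by rwa [Ideal.mk_ker])
    have hIm : I.map (algebraMap A B) ≤ m := by
      intro b hb
      have h1 : Ideal.Quotient.mk q.asIdeal b ∈ m.map (Ideal.Quotient.mk q.asIdeal) :=
        hmax _ hmm ▸ Ideal.le_radical (Ideal.mem_map_of_mem _ hb)
      obtain ⟨c, hc, hce⟩ := (Ideal.mem_map_iff_of_surjective _ Ideal.Quotient.mk_surjective).1 h1
      have h2 := sub_mem hc (hqm (Ideal.Quotient.eq.1 hce))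
      rwa [sub_sub_cancel] at h2
    have hpm : p.asIdeal ≤ m.comap (algebraMap A B) := by
      rw [← hqp]
      exact Ideal.comap_mono hqm
    refine ⟨⟨m, hm.isPrime⟩, hIm, hpm, ?_⟩
    set n := m.comap (algebraMap A B)
    obtain ⟨N, hN, hnN⟩ := Ideal.exists_le_maximal n ((hm.isPrime.comap (algebraMap A B)).ne_top)
    have hNm : (N.map (Ideal.Quotient.mk p.asIdeal)).IsMaximal :=
      Ideal.IsMaximal.map_of_surjective_of_ker_le Ideal.Quotient.mk_surjective
        (by rw [Ideal.mk_ker]; exact hpm.trans hnN)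
    have hNn : N ≤ n := by
      intro a ha
      obtain ⟨l, hl⟩ := (hmaxA _ hNm) ▸ Ideal.mem_map_of_mem (Ideal.Quotient.mk p.asIdeal) ha
      rw [← map_pow] at hl
      obtain ⟨c, hc, hce⟩ := (Ideal.mem_map_iff_of_surjective _ Ideal.Quotient.mk_surjective).1 hl
      refine (hm.isPrime.comap (algebraMap A B)).mem_of_pow_mem l ?_
      have hcn : c ∈ n := hIm (Ideal.mem_map_of_mem _ hc)
      have h2 := sub_mem hcn (hpm (Ideal.Quotient.eq.1 hce))
      rwa [sub_sub_cancel] at h2
    show n.IsMaximal
    rw [le_antisymm hnN hNn]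
    exact hN

end Groth.Agent.S8836
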