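import Groth.Statements.S8837
import Groth.Agent.AdicLinTop.CompletionQuot
import Groth.Agent.AdicLinTop.Adic
import Groth.Agent.Calg1.Completion

set_option autoImplicit false
universe u
open AdicRing

namespace Groth.Agent.S8837

/-- Let A be a Noetherian ring complete for the adic topology of an ideal I (an adic Noetherian
topological ring), p a prime ideal of A, and f ∈ A an element mapping to a unit in A/p. Let A_{f}
denote the completed principal localization, i.e. the I-adic completion of A_f = A[1/f]. Then the
ideal p A_{f} generated by p is prime, and the canonical map A/p → A_{f}/p A_{f} is bijective (so p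
A_{f} = p ⊗_A A_{f} is the completion of p_f, with quotient A/p). -/
theorem result (A : Type u) [CommRing A] [IsNoetherianRing A] (I : Ideal A) [IsAdicComplete I A] (p : Ideal A) [p.IsPrime] (f : A) (hf : IsUnit (Ideal.Quotient.mk p f)) : (p.map (algebraMap A (AdicCompletion (I.map (algebraMap A (Localization.Away f))) (Localization.Away f)))).IsPrime ∧ Function.Bijective (Ideal.quotientMap (p.map (algebraMap A (AdicCompletion (I.map (algebraMap A (Localization.Away f))) (Localization.Away f)))) (algebraMap A (AdicCompletion (I.map (algebraMap A (Localization.Away f))) (Localization.Away f))) Ideal.le_comap_map) := by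
  set L := Localization.Away f
  set J := I.map (algebraMap A L) with hJ
  haveI : IsNoetherianRing L := IsLocalization.isNoetherianRing (Submonoid.powers f) _ inferInstance
  have hJfg : J.FG := IsNoetherian.noetherian J
  haveI := Groth.Calg1.isNoetherianRing_adicCompletion J hJfg
  set T := AdicCompletion J L
  haveI hJc := Groth.AdicLinTop.CompletionQuot.isAdicComplete_map J hJfg
  set Ibar := I.map (Ideal.Quotient.mk p) with hIbar
  haveI : IsAdicComplete Ibar (A ⧸ p) := by
    have := Groth.AdicLinTop.Adic.isAdicComplete_of_finite (I := I) (A := A) (M := A ⧸ p)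
    exact (IsAdicComplete.map_algebraMap_iff (S := A ⧸ p) (I := I) (A ⧸ p)).mpr this
  have hlc : (IsLocalization.Away.lift f hf : L →+* A ⧸ p).comp (algebraMap A L) = Ideal.Quotient.mk p :=
    RingHom.ext fun a => IsLocalization.Away.lift_eq f hf a
  set θ₀ : L →+* A ⧸ p := IsLocalization.Away.lift f hf with hθ₀
  have hJθ : J.map θ₀ = Ibar := by rw [hJ, Ideal.map_map, hlc]
  obtain ⟨θ, hθ⟩ := Groth.AdicLinTop.CompletionQuot.exists_lift J Ibar θ₀ hJθ.le
  have hθA : θ.comp (algebraMap A T) = Ideal.Quotient.mk p := by
    rw [IsScalarTower.algebraMap_eq A L T, ← RingHom.comp_assoc, hθ, hlc]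
  set P := p.map (algebraMap A T) with hP
  have hPle : P ≤ RingHom.ker θ := by
    rw [hP, Ideal.map_le_iff_le_comap]
    intro a ha
    show θ (algebraMap A T a) = 0
    rw [← RingHom.comp_apply, hθA]
    exact Ideal.Quotient.eq_zero_iff_mem.mpr ha
  have hker0 : ∀ z : L, θ₀ z = 0 → z ∈ p.map (algebraMap A L) := fun z hz => by
    obtain ⟨k, a, hka⟩ := IsLocalization.Away.surj f z
    have ha : a ∈ p := by
      rw [← Ideal.Quotient.eq_zero_iff_mem, ← hlc, RingHom.comp_apply, ← hka, map_mul, hz, zero_mul]
    have hu : IsUnit (algebraMap A L f ^ k) := (IsLocalization.Away.algebraMap_isUnit f).pow k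
    exact (Ideal.mul_unit_mem_iff_mem _ hu).mp (hka ▸ Ideal.mem_map_of_mem _ ha)
  have hker : RingHom.ker θ ≤ P := by
    intro x hx
    replace hx : θ x = 0 := hx
    have key : ∀ n, Submodule.Quotient.mk x ∈
        (J.map (algebraMap L T)) ^ n • (⊤ : Submodule T (T ⧸ P)) := fun n => by
      obtain ⟨z, hz⟩ := Groth.AdicLinTop.CompletionQuot.exists_sub_mem J hJfg n x
      have h2 : θ₀ z ∈ (J ^ n).map θ₀ := by
        have h3 : θ (x - algebraMap L T z) ∈ ((J.map (algebraMap L T)) ^ n).map θ :=
          Ideal.mem_map_of_mem θ hz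
        rw [map_sub, hx, zero_sub, neg_mem_iff, ← RingHom.comp_apply, hθ, Ideal.map_pow,
          Ideal.map_map, hθ, ← Ideal.map_pow] at h3
        exact h3
      have hsurj : Function.Surjective θ₀ := fun q => by
        obtain ⟨a, rfl⟩ := Ideal.Quotient.mk_surjective q
        exact ⟨algebraMap A L a, IsLocalization.Away.lift_eq f hf a⟩
      obtain ⟨w, hw, hwz⟩ := (Ideal.mem_map_iff_of_surjective θ₀ hsurj).mp h2
      have h4 : algebraMap L T (z - w) ∈ P := by
        rw [hP, IsScalarTower.algebraMap_eq A L T, ← Ideal.map_map]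
        exact Ideal.mem_map_of_mem _ (hker0 _ (by rw [map_sub, hwz, sub_self]))
      have h5 : x - algebraMap L T (z - w) ∈ (J.map (algebraMap L T)) ^ n := by
        rw [map_sub, sub_sub_eq_add_sub, ← Ideal.map_pow, add_sub_right_comm, Ideal.map_pow]
        exact add_mem hz (Ideal.map_pow (algebraMap L T) J n ▸ Ideal.mem_map_of_mem _ hw)
      rw [show (Submodule.Quotient.mk x : T ⧸ P) = (x - algebraMap L T (z - w)) • Submodule.Quotient.mk 1 from ?_]
      · exact Submodule.smul_mem_smul h5 Submodule.mem_top
      · rw [← Submodule.Quotient.mk_smul, smul_eq_mul, mul_one, Submodule.Quotient.eq, sub_sub_cancel]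
        exact h4
    have hjac : J.map (algebraMap L T) ≤ Ideal.jacobson ⊥ := IsAdicComplete.le_jacobson_bot _
    rw [← Submodule.Quotient.mk_eq_zero P]
    have h0 := Ideal.iInf_pow_smul_eq_bot_of_le_jacobson (M := T ⧸ P) _ hjac
    exact (Submodule.eq_bot_iff _).mp h0 _ ((Submodule.mem_iInf _).mpr key)
  have hbij : Function.Bijective (Ideal.quotientMap P (algebraMap A T) Ideal.le_comap_map) := by
    constructor
    · refine (injective_iff_map_eq_zero _).mpr fun q hq => ?_
      obtain ⟨a, rfl⟩ := Ideal.Quotient.mk_surjective q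
      rw [Ideal.quotientMap_mk, Ideal.Quotient.eq_zero_iff_mem] at hq
      have := hPle hq
      rw [RingHom.mem_ker, ← RingHom.comp_apply, hθA] at this
      exact this
    · intro q
      obtain ⟨x, rfl⟩ := Ideal.Quotient.mk_surjective q
      obtain ⟨a, ha⟩ := Ideal.Quotient.mk_surjective (θ x)
      refine ⟨Ideal.Quotient.mk p a, ?_⟩
      rw [Ideal.quotientMap_mk, Ideal.Quotient.eq]
      refine hker ?_
      rw [RingHom.mem_ker, map_sub, ← RingHom.comp_apply, hθA, ha, sub_self]
  refine ⟨?_, hbij⟩
  rw [← Ideal.Quotient.isDomain_iff_prime]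
  exact (RingEquiv.ofBijective _ hbij).symm.toMulEquiv.isDomain (A ⧸ p)

end Groth.Agent.S8837
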