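import Groth.Statements.S8838
import Mathlib
import Groth.Agent.S8804
import Groth.Agent.Calg1.Completion
import Groth.Agent.AdicLinTop.Adic
-- import your own Groth.Agent.* helpers here

set_option autoImplicit false
universe u
open AdicRing

namespace Groth.Agent.S8838

private theorem isArtinianRing_of_rigClosed {A : Type u} [CommRing A] [IsNoetherianRing A] (I p : Ideal A)
    (hmax : ∀ m : Ideal (A ⧸ p), m.IsMaximal → m = (I.map (Ideal.Quotient.mk p)).radical) :
    IsArtinianRing (A ⧸ (I ⊔ p)) := by
  rw [isArtinianRing_iff_krullDimLE_zero, Ring.krullDimLE_zero_iff]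
  intro P hP
  haveI := hP
  set f := Ideal.Quotient.mk (I ⊔ p)
  obtain ⟨N, hN, hPN⟩ := Ideal.exists_le_maximal P hP.ne_top
  have hNA : (N.comap f).IsMaximal := Ideal.comap_isMaximal_of_surjective _ Ideal.Quotient.mk_surjective
  have hpN : ∀ (Q : Ideal (A ⧸ (I ⊔ p))), I ⊔ p ≤ Q.comap f := fun Q a ha => by
    rw [Ideal.mem_comap, Ideal.Quotient.eq_zero_iff_mem.2 ha]
    exact zero_mem _
  have hN' : ((N.comap f).map (Ideal.Quotient.mk p)).IsMaximal :=
    Ideal.IsMaximal.map_of_surjective_of_ker_le Ideal.Quotient.mk_surjective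
      (by rw [Ideal.mk_ker]; exact le_sup_right.trans (hpN N))
  have hle : N ≤ P := by
    intro x hx
    obtain ⟨a, rfl⟩ := Ideal.Quotient.mk_surjective x
    have h1 := hmax _ hN' ▸ Ideal.mem_map_of_mem (Ideal.Quotient.mk p) (show a ∈ N.comap f from hx)
    obtain ⟨l, hl⟩ := h1
    rw [← map_pow] at hl
    obtain ⟨c, hc, hce⟩ := (Ideal.mem_map_iff_of_surjective _ Ideal.Quotient.mk_surjective).1 hl
    refine hP.mem_of_pow_mem l ?_
    have hal : a ^ l ∈ I ⊔ p := by
      have := sub_mem (Ideal.mem_sup_left hc) (Ideal.mem_sup_right (S := I) (Ideal.Quotient.eq.1 hce))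
      rwa [sub_sub_cancel] at this
    rw [← map_pow, Ideal.Quotient.eq_zero_iff_mem.2 hal]
    exact zero_mem _
  exact (le_antisymm hPN hle) ▸ hN

/-- an algebra with formally unramified reduction modulo an ideal of the base in the Jacobson
radical, and finite differentials, is formally unramified -/
private theorem formallyUnramified_of_reduction {A C : Type u} [CommRing A] [CommRing C] [Algebra A C]
    [Module.Finite C (Ω[C⁄A])] (I : Ideal A) (hJ : I.map (algebraMap A C) ≤ Ideal.jacobson ⊥)
    [Algebra.FormallyUnramified A (C ⧸ I.map (algebraMap A C))] : Algebra.FormallyUnramified A C := by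
  rw [Algebra.formallyUnramified_iff]
  set J := I.map (algebraMap A C)
  let M := (Ω[C⁄A]) ⧸ (J • (⊤ : Submodule C (Ω[C⁄A])))
  letI : Module (C ⧸ J) M := inferInstance
  haveI : IsScalarTower A (C ⧸ J) M := IsScalarTower.of_algebraMap_smul fun a m => by
    induction m using Submodule.Quotient.induction_on with
    | _ m =>
      rw [IsScalarTower.algebraMap_apply A C (C ⧸ J)]
      show (Submodule.Quotient.mk (algebraMap A C a • m) : M) = Submodule.Quotient.mk (a • m)
      rw [algebraMap_smul]
  let π : (Ω[C⁄A]) →ₗ[A] M := (J • (⊤ : Submodule C (Ω[C⁄A]))).mkQ.restrictScalars A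
  have hker : J.restrictScalars A ≤ LinearMap.ker (π ∘ₗ (KaehlerDifferential.D A C).toLinearMap) := by
    intro x hx
    show π (KaehlerDifferential.D A C x) = 0
    change x ∈ I.map (algebraMap A C) at hx
    induction hx using Submodule.span_induction with
    | mem x hx =>
      obtain ⟨a, -, rfl⟩ := hx
      rw [Derivation.map_algebraMap, map_zero]
    | zero => simp
    | add x y _ _ hx hy => rw [map_add, map_add, hx, hy, add_zero]
    | smul c x hxJ hx =>
      rw [smul_eq_mul, Derivation.leibniz, map_add]
      show (Submodule.Quotient.mk (c • KaehlerDifferential.D A C x) : M) +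
        Submodule.Quotient.mk (x • KaehlerDifferential.D A C c) = 0
      rw [Submodule.Quotient.mk_smul, (show (Submodule.Quotient.mk (KaehlerDifferential.D A C x) : M) = 0 from hx),
        smul_zero, zero_add, Submodule.Quotient.mk_eq_zero]
      exact Submodule.smul_mem_smul hxJ Submodule.mem_top
  let d : (C ⧸ J) →ₗ[A] M := Submodule.liftQ (J.restrictScalars A)
    (π ∘ₗ (KaehlerDifferential.D A C).toLinearMap) hker
  have hd : ∀ c, d (Ideal.Quotient.mk J c) = Submodule.Quotient.mk (KaehlerDifferential.D A C c) :=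
    fun c => rfl
  let D : Derivation A (C ⧸ J) M := Derivation.mk' d fun a b => by
    obtain ⟨a, rfl⟩ := Ideal.Quotient.mk_surjective a
    obtain ⟨b, rfl⟩ := Ideal.Quotient.mk_surjective b
    rw [← map_mul, hd, hd, hd, Derivation.leibniz]
    rfl
  have hD : ∀ x, D x = 0 := fun x => by
    have h := D.liftKaehlerDifferential_comp_D x
    rw [← h, Subsingleton.elim (KaehlerDifferential.D A (C ⧸ J) x) 0, map_zero]
  have htop : (⊤ : Submodule C (Ω[C⁄A])) ≤ J • ⊤ := by
    rw [← KaehlerDifferential.span_range_derivation, Submodule.span_le]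
    rintro _ ⟨c, rfl⟩
    rw [KaehlerDifferential.span_range_derivation, SetLike.mem_coe,
      ← Submodule.Quotient.mk_eq_zero, ← hd]
    exact hD _
  exact Submodule.subsingleton_iff C |>.1 (subsingleton_of_bot_eq_top
    (Submodule.eq_bot_of_le_smul_of_le_jacobson_bot J ⊤ Module.Finite.fg_top htop hJ).symm)


/-- Suppose A is a Noetherian ring that is I-adically complete for an ideal I, and B is a Noetherian
A-algebra that is complete with respect to the IB-adic topology, with B/IB of finite type over A (so
A → B is an adic morphism of adic Noetherian topological rings that is topologically of finite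
type). Assume further that A → B is flat and that the induced map A/I → B/IB is étale (with I as the
chosen ideal of definition). Consider a prime q of B that is rig-closed (q does not contain IB, and
q is maximal among primes of B not containing IB), and suppose its preimage p in A is rig-closed as
well (p does not contain I, and p is maximal among primes of A not containing I). Then the extension
of p to the localization B_q equals its maximal ideal, that is, p B_q = q B_q. -/
theorem result (A : Type u) [CommRing A] [IsNoetherianRing A] (I : Ideal A) [IsAdicComplete I A] (B : Type u) [CommRing B] [Algebra A B] [IsNoetherianRing B] [IsAdicComplete (I.map (algebraMap A B)) B] (hft : Algebra.FiniteType A (B ⧸ (I.map (algebraMap A B)))) [Module.Flat A B] [Algebra.Etale (A ⧸ I) (B ⧸ (I.map (algebraMap A B)))] (q : PrimeSpectrum B) (hq : (¬ (I.map (algebraMap A B)) ≤ q.asIdeal ∧ ∀ y : PrimeSpectrum B, q ≤ y → ¬ (I.map (algebraMap A B)) ≤ y.asIdeal → y = q)) (hp : (¬ I ≤ (PrimeSpectrum.comap (algebraMap A B) q).asIdeal ∧ ∀ y : PrimeSpectrum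 A, (PrimeSpectrum.comap (algebraMap A B) q) ≤ y → ¬ I ≤ y.asIdeal → y = (PrimeSpectrum.comap (algebraMap A B) q))) : ((PrimeSpectrum.comap (algebraMap A B) q).asIdeal.map (algebraMap A B)).map (algebraMap B (Localization.AtPrime q.asIdeal)) = IsLocalRing.maximalIdeal (Localization.AtPrime q.asIdeal) := by
  classical
  haveI := q.isPrime
  set p := (PrimeSpectrum.comap (algebraMap A B) q).asIdeal with hpdef
  haveI hpp : p.IsPrime := (PrimeSpectrum.comap (algebraMap A B) q).isPrime
  obtain ⟨-, hmaxA, -⟩ := ((Groth.Agent.S8804.result A I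
    (PrimeSpectrum.comap (algebraMap A B) q)).out 0 2 rfl rfl).mp hp
  haveI : IsArtinianRing (A ⧸ (I ⊔ p)) := isArtinianRing_of_rigClosed I p hmaxA
  set IB := I.map (algebraMap A B) with hIB
  haveI : Algebra.FiniteType A (B ⧸ IB) := hft
  haveI : Algebra.FormallyUnramified A (B ⧸ IB) := Algebra.FormallyUnramified.comp A (A ⧸ I) (B ⧸ IB)
  set pB := p.map (algebraMap A B) with hpB
  let E := B ⧸ (IB ⊔ pB)
  let f : (B ⧸ IB) →ₐ[A] E := Ideal.Quotient.factorₐ A le_sup_left
  have hf : Function.Surjective f := Ideal.Quotient.factor_surjective le_sup_left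
  haveI : Algebra.FormallyUnramified A E := Algebra.FormallyUnramified.of_surjective f hf
  haveI : Algebra.FiniteType A E := Algebra.FiniteType.of_surjective f hf
  have hle : ∀ a ∈ I ⊔ p, algebraMap A E a = 0 := fun a ha => by
    rw [IsScalarTower.algebraMap_apply A B E]
    refine Ideal.Quotient.eq_zero_iff_mem.2 ?_
    rw [hIB, hpB, ← Ideal.map_sup]
    exact Ideal.mem_map_of_mem _ ha
  letI : Algebra (A ⧸ (I ⊔ p)) E := (Ideal.Quotient.lift (I ⊔ p) (algebraMap A E) hle).toAlgebra
  haveI : IsScalarTower A (A ⧸ (I ⊔ p)) E := IsScalarTower.of_algebraMap_eq fun a => rfl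
  haveI : Algebra.FiniteType (A ⧸ (I ⊔ p)) E := Algebra.FiniteType.of_restrictScalars_finiteType A _ _
  haveI : Algebra.FormallyUnramified (A ⧸ (I ⊔ p)) E := Algebra.FormallyUnramified.of_restrictScalars A _ _
  haveI : Algebra.QuasiFinite (A ⧸ (I ⊔ p)) E := ⟨fun P _ =>
    Algebra.FormallyUnramified.finite_of_free P.ResidueField (P.Fiber E)⟩
  haveI : Module.Finite (A ⧸ (I ⊔ p)) E := Module.Finite.of_quasiFinite
  haveI : Module.Finite A E := Module.Finite.trans (A ⧸ (I ⊔ p)) E
  let C := B ⧸ pB
  set JC := IB.map (Ideal.Quotient.mk pB) with hJC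
  have hmapI : I.map (algebraMap A C) = JC := by
    rw [hJC, hIB, Ideal.map_map]
    rfl
  let g : E →ₐ[A] C ⧸ I.map (algebraMap A C) := Ideal.Quotient.liftₐ (IB ⊔ pB)
    ((Ideal.Quotient.mkₐ A (I.map (algebraMap A C))).comp (Ideal.Quotient.mkₐ A pB)) fun b hb => by
      refine Ideal.Quotient.eq_zero_iff_mem.2 ?_
      rw [hmapI, hJC]
      have := Ideal.mem_map_of_mem (Ideal.Quotient.mk pB) hb
      rwa [Ideal.map_sup, Ideal.map_quotient_self, sup_bot_eq] at this
  have hg : Function.Surjective g := fun z => by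
    obtain ⟨c, rfl⟩ := Ideal.Quotient.mk_surjective z
    obtain ⟨b, rfl⟩ := Ideal.Quotient.mk_surjective c
    exact ⟨Ideal.Quotient.mk _ b, rfl⟩
  haveI : Algebra.FormallyUnramified A (C ⧸ I.map (algebraMap A C)) :=
    Algebra.FormallyUnramified.of_surjective g hg
  haveI : Module.Finite A (C ⧸ I.map (algebraMap A C)) := Module.Finite.of_surjective g.toLinearMap hg
  haveI : IsHausdorff I C := by
    haveI := Groth.AdicLinTop.Adic.isAdicComplete_of_finite (I := IB) (A := B) (M := C)
    exact (IsHausdorff.map_algebraMap_iff (S := B) (I := I) (M := C)).mp inferInstance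
  haveI : Module.Finite A C := by
    refine Groth.Calg1.module_finite_of_isHausdorff I C ?_
    have he : (I • ⊤ : Submodule A C) = (I.map (algebraMap A C)).restrictScalars A :=
      Ideal.smul_top_eq_map _
    exact Groth.AdicLinTop.RigClosed.finite_quotient_of_eq he.symm
  have hjac : I.map (algebraMap A C) ≤ Ideal.jacobson ⊥ := by
    have h1 : IB ≤ Ideal.jacobson ⊥ := IsAdicComplete.le_jacobson_bot IB
    rw [hmapI, hJC, Ideal.map_le_iff_le_comap]
    intro b hb
    rw [Ideal.mem_comap, Ideal.mem_jacobson_bot]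
    intro c
    obtain ⟨c, rfl⟩ := Ideal.Quotient.mk_surjective c
    rw [← map_mul, ← map_one (Ideal.Quotient.mk pB), ← map_add]
    exact (Ideal.mem_jacobson_bot.1 (h1 hb) c).map _
  haveI : Module.Finite C (Ω[C⁄A]) := inferInstance
  haveI : Algebra.FormallyUnramified A C := formallyUnramified_of_reduction I hjac
  have hpq : pB ≤ q.asIdeal := Ideal.map_le_iff_le_comap.2 le_rfl
  let qC : Ideal C := q.asIdeal.map (Ideal.Quotient.mk pB)
  haveI : qC.IsPrime := Ideal.map_isPrime_of_surjective Ideal.Quotient.mk_surjective (by rwa [Ideal.mk_ker])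
  have hqC : qC.comap (Ideal.Quotient.mk pB) = q.asIdeal := by
    rw [Ideal.comap_map_of_surjective' _ Ideal.Quotient.mk_surjective, Ideal.mk_ker, sup_eq_left.2 hpq]
  haveI : qC.LiesOver p := ⟨by
    show p = qC.comap (algebraMap A C)
    rw [IsScalarTower.algebraMap_eq A B C, ← Ideal.comap_comap]
    show p = (qC.comap (Ideal.Quotient.mk pB)).comap (algebraMap A B)
    rw [hqC]
    rfl⟩
  haveI : Algebra.IsUnramifiedAt A qC :=
    inferInstanceAs (Algebra.FormallyUnramified A (Localization qC.primeCompl))
  letI := Localization.AtPrime.algebraOfLiesOver p qC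
  have hmax := ((Algebra.isUnramifiedAt_iff_map_eq (R := A) (q := qC) p).1 inferInstance).2
  have hbot : IsLocalRing.maximalIdeal (Localization.AtPrime qC) = ⊥ := by
    rw [← hmax, IsScalarTower.algebraMap_eq A C, ← Ideal.map_map,
      show p.map (algebraMap A C) = ⊥ by
        rw [IsScalarTower.algebraMap_eq A B C, ← Ideal.map_map]
        exact Ideal.map_quotient_self pB,
      Ideal.map_bot]
  refine le_antisymm ?_ ?_
  · refine (Ideal.map_mono hpq).trans ?_
    rw [Localization.AtPrime.map_eq_maximalIdeal]
  · rw [← Localization.AtPrime.map_eq_maximalIdeal, Ideal.map_le_iff_le_comap]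
    intro x hx
    have h0 : algebraMap C (Localization.AtPrime qC) (Ideal.Quotient.mk pB x) = 0 := by
      rw [← Submodule.mem_bot (Localization.AtPrime qC), ← hbot, ← Localization.AtPrime.map_eq_maximalIdeal]
      exact Ideal.mem_map_of_mem _ (Ideal.mem_map_of_mem _ hx)
    obtain ⟨⟨s, hs⟩, hsx⟩ := (IsLocalization.map_eq_zero_iff qC.primeCompl _ _).1 h0
    obtain ⟨s, rfl⟩ := Ideal.Quotient.mk_surjective s
    rw [← map_mul, Ideal.Quotient.eq_zero_iff_mem] at hsx
    have hsq : s ∈ q.asIdeal.primeCompl := fun h => hs (Ideal.mem_map_of_mem _ h)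
    show algebraMap B _ x ∈ pB.map _
    have h1 := Ideal.mem_map_of_mem (algebraMap B (Localization.AtPrime q.asIdeal)) hsx
    rwa [map_mul, Ideal.unit_mul_mem_iff_mem _ (IsLocalization.map_units _ ⟨s, hsq⟩)] at h1

end Groth.Agent.S8838
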