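import Groth.Statements.S8839
import Mathlib
import Groth.Agent.RigFlat65.Flat
import Groth.Agent.RigFlat65.Hom
import Groth.Agent.RigFlat65.Congr
import Groth.Agent.RigFlat65.Restricted


set_option autoImplicit false
universe u
open AdicRing

namespace Groth.Agent.S8839

/-- Let A be a Noetherian ring complete for the adic topology of an ideal I, n a natural number, and
A{x_1, …, x_n} the restricted power series ring, i.e. the I-adic completion of the polynomial ring
A[x_1, …, x_n]. Let q be a prime ideal of A{x_1, …, x_n}, q' its inverse image in A[x_1, …, x_n] and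
p its inverse image in A. Assume q is rig-closed (the extension of I is not contained in q and q is
maximal among such primes) and p is rig-closed in A (I ⊄ p, p maximal among the primes not
containing I). Then the local homomorphism A[x_1, …, x_n]_{q'} → A{x_1, …, x_n}_q induces an
isomorphism on completions with respect to the maximal ideals; stated as: for every m ≥ 1 the
induced map on quotients by the m-th powers of the maximal ideals is injective and surjective. -/
theorem result (A : Type u) [CommRing A] [IsNoetherianRing A] (I : Ideal A) [IsAdicComplete I A] (n : ℕ) (q : PrimeSpectrum (AdicCompletion (I.map (algebraMap A (MvPolynomial (Fin n) A))) (MvPolynomial (Fin n) A))) (hq : (¬ (I.map (algebraMap A (AdicCompletion (I.map (algebraMap A (MvPolynomial (Fin n) A))) (MvPolynomial (Fin n) A)))) ≤ q.asIdeal ∧ ∀ y : PrimeSpectrum (AdicCompletion (I.map (algebraMap A (MvPolynomial (Fin n) A))) (MvPolynomial (Fin n) A)), q ≤ y → ¬ (I.map (algebraMap A (AdicCompletion (I.map (algebraMap A (MvPolynomial (Fin n) A))) (MvPolynomial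 (Fin n) A)))) ≤ y.asIdeal → y = q)) (hp : (¬ I ≤ (PrimeSpectrum.comap (algebraMap A (AdicCompletion (I.map (algebraMap A (MvPolynomial (Fin n) A))) (MvPolynomial (Fin n) A))) q).asIdeal ∧ ∀ y : PrimeSpectrum A, (PrimeSpectrum.comap (algebraMap A (AdicCompletion (I.map (algebraMap A (MvPolynomial (Fin n) A))) (MvPolynomial (Fin n) A))) q) ≤ y → ¬ I ≤ y.asIdeal → y = (PrimeSpectrum.comap (algebraMap A (AdicCompletion (I.map (algebraMap A (MvPolynomial (Fin n) A))) (MvPolynomial (Fin n) A))) q))) (m : ℕ) (hm : 1 ≤ m) : (∀ x : (Localization.AtPrime (PrimeSpectrum.comap (algebraMap (MvPolynomial (Fin n) A) (AdicCompletion (I.map (algebraMap A (MvPolynomial (Fin n) A))) (MvPolynomial (Fin n) A))) q).asIdeal), (Localization.localRingHom (PrimeSpectrum.comap (algebraMap (MvPolynomial (Fin n) A) (AdicCompletion (I.map (algebraMap A (MvPolynomial (Fin n) A))) (MvPolynomial (Fin n) A))) q).asIdeal q.asIdeal (algebraMap (MvPolynomial (Fin n) A) (AdicCompletion (I.map (algebraMap A (MvPolynomial (Fin n) A))) (MvPolynomial (Fin n) A)))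 rfl) x ∈ (IsLocalRing.maximalIdeal (Localization.AtPrime q.asIdeal)) ^ m → x ∈ (IsLocalRing.maximalIdeal (Localization.AtPrime (PrimeSpectrum.comap (algebraMap (MvPolynomial (Fin n) A) (AdicCompletion (I.map (algebraMap A (MvPolynomial (Fin n) A))) (MvPolynomial (Fin n) A))) q).asIdeal)) ^ m) ∧ (∀ y : (Localization.AtPrime q.asIdeal), ∃ x : (Localization.AtPrime (PrimeSpectrum.comap (algebraMap (MvPolynomial (Fin n) A) (AdicCompletion (I.map (algebraMap A (MvPolynomial (Fin n) A))) (MvPolynomial (Fin n) A))) q).asIdeal), y - (Localization.localRingHom (PrimeSpectrum.comap (algebraMap (MvPolynomial (Fin n) A) (AdicCompletion (I.map (algebraMap A (MvPolynomial (Fin n) A))) (MvPolynomial (Fin n) A))) q).asIdeal q.asIdeal (algebraMap (MvPolynomial (Fin n) A) (AdicCompletion (I.map (algebraMap A (MvPolynomial (Fin n) A))) (MvPolynomial (Fin n) A))) rfl) x ∈ (IsLocalRing.maximalIdeal (Localization.AtPrime q.asIdeal)) ^ m) := by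
  let P := MvPolynomial (Fin n) A
  let J := I.map (algebraMap A P)
  let S := AdicCompletion J P
  have hfg : J.FG := IsNoetherian.noetherian _
  haveI : IsNoetherianRing S := Groth.Calg1.isNoetherianRing_adicCompletion J hfg
  have hIS := Groth.RigFlat65.map_tower P S I
  haveI : IsAdicComplete (I.map (algebraMap A S)) S :=
    Groth.RigFlat65.complete_congr hIS (Groth.AdicLinTop.CompletionQuot.isAdicComplete_map J hfg)
  have hft : Algebra.FiniteType A (S ⧸ I.map (algebraMap A S)) := by
    refine Algebra.FiniteType.of_surjective ((Ideal.Quotient.mkₐ A (I.map (algebraMap A S))).comp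
      (IsScalarTower.toAlgHom A P S)) fun y => ?_
    obtain ⟨x, rfl⟩ := Ideal.Quotient.mk_surjective y
    obtain ⟨a, ha⟩ := Groth.AdicLinTop.CompletionQuot.exists_sub_mem J hfg 1 x
    refine ⟨a, (Ideal.Quotient.eq.mpr ?_).symm⟩
    show x - algebraMap P S a ∈ I.map (algebraMap A S)
    rw [pow_one] at ha
    exact hIS ▸ ha
  haveI : Module.Finite A (S ⧸ q.asIdeal) := Groth.RigFlat65.finite_of_rig hft hq hp
  let φ := algebraMap P S
  let q₀ := q.asIdeal.comap φ
  haveI : Algebra.IsIntegral A (P ⧸ q₀) :=
    Algebra.IsIntegral.of_injective (Ideal.quotientMapₐ q.asIdeal (IsScalarTower.toAlgHom A P S) le_rfl)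
      Ideal.quotientMap_injective
  haveI := Groth.RigFlat65.finite_quotient_pow (A := A) q₀ m
  haveI : Module.Finite A (P ⧸ q₀) := Algebra.IsIntegral.finite
  obtain ⟨F₁, hF₁, hk₁⟩ := Groth.RigFlat65.exists_eq_ker (A := A) (P := P) I q₀
  obtain ⟨F, hF, hk⟩ := Groth.RigFlat65.exists_eq_ker (A := A) (P := P) I (q₀ ^ m)
  have hle : q₀.map φ ≤ q.asIdeal := Ideal.map_comap_le
  have hq0 : q.asIdeal = q₀.map φ := by
    refine le_antisymm (fun x hx => ?_) hle
    obtain ⟨a, ha⟩ := Ideal.Quotient.mk_surjective (F₁ x)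
    have h1 : x - φ a ∈ q₀.map φ := by
      rw [← hk₁, RingHom.mem_ker, map_sub, hF₁, ha, sub_self]
    have h2 : a ∈ q₀ := by
      show φ a ∈ q.asIdeal
      have h3 := sub_mem hx (hle h1)
      rwa [sub_sub_cancel] at h3
    have h4 := add_mem h1 (Ideal.mem_map_of_mem φ h2)
    rwa [sub_add_cancel] at h4
  have hqm : q.asIdeal ^ m = RingHom.ker F := by rw [hk, hq0, Ideal.map_pow]
  exact Groth.RigFlat65.localRingHom_truncation φ q.asIdeal m hm
    (fun x => by
      obtain ⟨a, ha⟩ := Ideal.Quotient.mk_surjective (F x)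
      exact ⟨a, by rw [hqm, RingHom.mem_ker, map_sub, hF, ha, sub_self]⟩)
    (fun a ha => by
      rw [hqm, RingHom.mem_ker, hF] at ha
      exact Ideal.Quotient.eq_zero_iff_mem.mp ha)

end Groth.Agent.S8839
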