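import Groth.Statements.S8840
import Mathlib
import Groth.Agent.RigFlat65.Flat
import Groth.Agent.RigFlat65.Hom


set_option autoImplicit false
universe u
open AdicRing

namespace Groth.Agent.S8840

/-- Let A be a Noetherian ring complete for the adic topology of an ideal I, and B a Noetherian
A-algebra complete for the IB-adic topology with B/IB of finite type over A (an adic morphism,
topologically of finite type, of adic Noetherian topological rings). Let q be a prime of B which is
rig-closed (IB ⊄ q and q maximal among the primes not containing IB). Then there exists f ∈ A which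
maps to a unit in B/q such that the following holds. Let A_{f} and B_{f} be the completed principal
localizations (the I-adic completions of A_f and B_f) and ψ : A_{f} → B_{f} the canonical map,
characterised here as any ring map compatible with A_f → B_f (there is exactly one). Then the
inverse image p' under ψ of the ideal q' = q B_{f} is a rig-closed prime of A_{f}: p' is prime, I
A_{f} ⊄ p', and p' is maximal among the primes of A_{f} not containing I A_{f}. (That q B_{f} is
itself prime with quotient B/q holds because f is a unit modulo q; it is not restated.) -/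
theorem result (A : Type u) [CommRing A] [IsNoetherianRing A] (I : Ideal A) [IsAdicComplete I A] (B : Type u) [CommRing B] [Algebra A B] [IsNoetherianRing B] [IsAdicComplete (I.map (algebraMap A B)) B] (hft : Algebra.FiniteType A (B ⧸ (I.map (algebraMap A B)))) (q : PrimeSpectrum B) (hq : (¬ (I.map (algebraMap A B)) ≤ q.asIdeal ∧ ∀ y : PrimeSpectrum B, q ≤ y → ¬ (I.map (algebraMap A B)) ≤ y.asIdeal → y = q)) : ∃ f : A, IsUnit (Ideal.Quotient.mk q.asIdeal (algebraMap A B f)) ∧ ∀ ψ : (AdicCompletion (I.map (algebraMap A (Localization.Away f))) (Localization.Away f)) →+* (AdicCompletion ((I.map (algebraMap A B)).map (algebraMap B (Localization.Away (algebraMap A B f)))) (Localization.Away (algebraMap A B f))), ψ.comp (algebraMap (Localization.Away f) (AdicCompletion (I.map (algebraMap A (Localization.Away f))) (Localization.Away f))) = (algebraMap (Localization.Away (algebraMap A B f)) (AdicCompletion ((I.map (algebraMap A B)).map (algebraMap B (Localization.Away (algebraMap A B f)))) (Localization.Away (algebraMap A B f)))).comp (Localization.awayMap (algebraMap A B) f) → (((q.asIdeal.map (algebraMap B (AdicCompletion ((I.map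 (algebraMap A B)).map (algebraMap B (Localization.Away (algebraMap A B f)))) (Localization.Away (algebraMap A B f))))).comap ψ).IsPrime ∧ ¬ (I.map (algebraMap A (AdicCompletion (I.map (algebraMap A (Localization.Away f))) (Localization.Away f)))) ≤ ((q.asIdeal.map (algebraMap B (AdicCompletion ((I.map (algebraMap A B)).map (algebraMap B (Localization.Away (algebraMap A B f)))) (Localization.Away (algebraMap A B f))))).comap ψ) ∧ ∀ y : PrimeSpectrum (AdicCompletion (I.map (algebraMap A (Localization.Away f))) (Localization.Away f)), ((q.asIdeal.map (algebraMap B (AdicCompletion ((I.map (algebraMap A B)).map (algebraMap B (Localization.Away (algebraMap A B f)))) (Localization.Away (algebraMap A B f))))).comap ψ) ≤ y.asIdeal → ¬ (I.map (algebraMap A (AdicCompletion (I.map (algebraMap A (Localization.Away f))) (Localization.Away f)))) ≤ y.asIdeal → y.asIdeal = ((q.asIdeal.map (algebraMap B (AdicCompletion ((I.map (algebraMap A B)).map (algebraMap B (Localization.Away (algebraMap A B f)))) (Localization.Away (algebraMap A B f))))).comap ψ)) := by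
  obtain ⟨f, hf, href⟩ := Groth.RigFlat65.refine_point (A := A) (S := B) I rfl hft hq
  refine ⟨f, hf, fun ψ hψ => ?_⟩
  have hclA := Groth.RigFlat65.isCL_completion I f
  have hclB := Groth.RigFlat65.isCL_completion (I.map (algebraMap A B)) (algebraMap A B f)
  let A1 := Groth.RigFlat65.CL I f
  let B1 := Groth.RigFlat65.CL (I.map (algebraMap A B)) (algebraMap A B f)
  have hc := Groth.RigFlat65.CL.tower_of_comp (I := I) (J := (I.map (algebraMap A B))) (f := f) rfl
    (fun a => IsLocalization.map_eq _ a) hψ
  letI : Algebra A1 B1 := ψ.toAlgebra
  haveI : IsScalarTower A B B1 := IsScalarTower.of_algebraMap_eq fun a => rfl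
  haveI : IsScalarTower A A1 B1 := IsScalarTower.of_algebraMap_eq fun a => by
    rw [IsScalarTower.algebraMap_apply A B B1]; exact (hc a).symm
  haveI := hclA.noeth
  haveI := hclA.complete
  obtain ⟨q', hq', -, -, hrig⟩ := href A1 B1 hclA.unit hclB
  have heq : (PrimeSpectrum.comap (algebraMap A1 B1) q').asIdeal = (q.asIdeal.map (algebraMap B B1)).comap ψ := by
    rw [← hq']; rfl
  refine ⟨?_, ?_, ?_⟩
  · rw [← heq]; exact (PrimeSpectrum.comap (algebraMap A1 B1) q').isPrime
  · rw [← heq]; exact hrig.1
  · intro y hy hIy
    rw [← heq] at hy ⊢
    exact congrArg PrimeSpectrum.asIdeal (hrig.2 y hy hIy)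

end Groth.Agent.S8840
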