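import Groth.Statements.S8841
import Mathlib
import Groth.Agent.RigFlat65.Flat
import Groth.Agent.RigFlat65.Hom
import Groth.Agent.RigFlat65.Congr
import Groth.Agent.S8835


set_option autoImplicit false
universe u
open AdicRing

namespace Groth.Agent.S8841

/-- Let A be a Noetherian ring complete for the adic topology of an ideal I, and B a Noetherian
A-algebra complete for the IB-adic topology with B/IB of finite type over A (an adic morphism,
topologically of finite type, of adic Noetherian topological rings), and assume A/I is a Jacobson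
ring. Suppose A → B is naively rig-flat: whenever q is a rig-closed prime of B (IB ⊄ q and q maximal
among the primes not containing IB), the localization B_q is an A-flat ring. Then A → B is rig-flat:
for every f ∈ A, letting A_{f} and B_{f} be the completed principal localizations (the I-adic
completions of A_f and B_f) and ψ : A_{f} → B_{f} the canonical map, characterised here as any ring
map compatible with A_f → B_f (there is exactly one), the local ring (B_{f})_{q'} is flat over A_{f}
via ψ for every rig-closed prime q' of B_{f} (I B_{f} ⊄ q' and q' maximal among the primes not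
containing I B_{f}). (That A_{f} → B_{f} is again adic and topologically of finite type is not
restated.) -/
theorem result (A : Type u) [CommRing A] [IsNoetherianRing A] (I : Ideal A) [IsAdicComplete I A] (B : Type u) [CommRing B] [Algebra A B] [IsNoetherianRing B] [IsAdicComplete (I.map (algebraMap A B)) B] (hft : Algebra.FiniteType A (B ⧸ (I.map (algebraMap A B)))) (hJ : IsJacobsonRing (A ⧸ I)) (hnaive : ∀ q : PrimeSpectrum B, (¬ (I.map (algebraMap A B)) ≤ q.asIdeal ∧ ∀ y : PrimeSpectrum B, q ≤ y → ¬ (I.map (algebraMap A B)) ≤ y.asIdeal → y = q) → (algebraMap A (Localization.AtPrime q.asIdeal)).Flat) (f : A) (ψ : (AdicCompletion (I.map (algebraMap A (Localization.Away f))) (Localization.Away f)) →+* (AdicCompletion ((I.map (algebraMap A B)).map (algebraMap B (Localization.Away (algebraMap A B f)))) (Localization.Away (algebraMap A B f)))) (hψ : ψ.comp (algebraMap (Localization.Away f) (AdicCompletion (I.map (algebraMap A (Localization.Away f))) (Localization.Away f))) = (algebraMap (Localization.Away (algebraMap A B f)) (AdicCompletion ((I.map (algebraMap A B)).map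 (algebraMap B (Localization.Away (algebraMap A B f)))) (Localization.Away (algebraMap A B f)))).comp (Localization.awayMap (algebraMap A B) f)) (q' : PrimeSpectrum (AdicCompletion ((I.map (algebraMap A B)).map (algebraMap B (Localization.Away (algebraMap A B f)))) (Localization.Away (algebraMap A B f)))) (hq' : (¬ ((((I.map (algebraMap A B))).map (algebraMap B (Localization.Away (algebraMap A B f)))).map (algebraMap (Localization.Away (algebraMap A B f)) (AdicCompletion ((I.map (algebraMap A B)).map (algebraMap B (Localization.Away (algebraMap A B f)))) (Localization.Away (algebraMap A B f))))) ≤ q'.asIdeal ∧ ∀ y : PrimeSpectrum (AdicCompletion ((I.map (algebraMap A B)).map (algebraMap B (Localization.Away (algebraMap A B f)))) (Localization.Away (algebraMap A B f))), q' ≤ y → ¬ ((((I.map (algebraMap A B))).map (algebraMap B (Localization.Away (algebraMap A B f)))).map (algebraMap (Localization.Away (algebraMap A B f)) (AdicCompletion ((I.map (algebraMap A B)).map (algebraMap B (Localization.Away (algebraMap A B f)))) (Localization.Away (algebraMap A B f))))) ≤ y.asIdeal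 → y = q')) : ((algebraMap (AdicCompletion ((I.map (algebraMap A B)).map (algebraMap B (Localization.Away (algebraMap A B f)))) (Localization.Away (algebraMap A B f))) (Localization.AtPrime q'.asIdeal)).comp ψ).Flat := by
  let A1 := Groth.RigFlat65.CL I f
  let B1 := Groth.RigFlat65.CL (I.map (algebraMap A B)) (algebraMap A B f)
  have hclA := Groth.RigFlat65.isCL_completion I f
  have hclB := Groth.RigFlat65.isCL_completion (I.map (algebraMap A B)) (algebraMap A B f)
  have hc := Groth.RigFlat65.CL.tower_of_comp (I := I) (J := I.map (algebraMap A B)) (f := f) rfl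
    (fun a => IsLocalization.map_eq _ a) hψ
  letI : Algebra A1 B1 := ψ.toAlgebra
  haveI : IsScalarTower A B B1 := IsScalarTower.of_algebraMap_eq fun a => rfl
  haveI : IsScalarTower A A1 B1 := IsScalarTower.of_algebraMap_eq fun a => by
    rw [IsScalarTower.algebraMap_apply A B B1]; exact (hc a).symm
  haveI : IsNoetherianRing A1 := hclA.noeth
  haveI : IsAdicComplete (I.map (algebraMap A A1)) A1 := hclA.complete
  haveI : IsNoetherianRing B1 := hclB.noeth
  have hIB := Groth.RigFlat65.map_tower B B1 I
  have hIA1 := Groth.RigFlat65.map_tower A1 B1 I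
  haveI : IsAdicComplete ((I.map (algebraMap A B)).map (algebraMap B B1)) B1 := hclB.complete
  haveI : IsAdicComplete (I.map (algebraMap A B1)) B1 := Groth.RigFlat65.complete_congr hIB hclB.complete
  haveI : IsAdicComplete ((I.map (algebraMap A A1)).map (algebraMap A1 B1)) B1 :=
    Groth.RigFlat65.complete_congr hIA1.symm inferInstance
  have hq'' : Groth.RigFlat65.IsRig (I.map (algebraMap A B1)) q' :=
    Groth.RigFlat65.rig_congr ((Groth.RigFlat65.CL.map_map _ _).trans hIB) hq'
  haveI := hft
  have hftA : Algebra.FiniteType A (B1 ⧸ I.map (algebraMap A B1)) :=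
    Groth.RigFlat65.finiteType_congr hIB hclB.finiteType
  have hftB1B : Algebra.FiniteType B (B1 ⧸ (I.map (algebraMap A B)).map (algebraMap B B1)) :=
    Groth.RigFlat65.finiteType_congr hIB.symm (Groth.RigFlat65.finiteType_up B hftA)
  have hftA1 : Algebra.FiniteType A1 (B1 ⧸ (I.map (algebraMap A A1)).map (algebraMap A1 B1)) :=
    Groth.RigFlat65.finiteType_congr hIA1.symm (Groth.RigFlat65.finiteType_up A1 hftA)
  haveI : IsJacobsonRing (A ⧸ I) := hJ
  have hJA1 : IsJacobsonRing (A1 ⧸ I.map (algebraMap A A1)) :=
    Groth.RigFlat65.jacobson_of_finiteType I hclA.finiteType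
  have hJB : IsJacobsonRing (B ⧸ I.map (algebraMap A B)) := Groth.RigFlat65.jacobson_of_finiteType I hft
  -- the contractions are rig-closed
  have hp : Groth.RigFlat65.IsRig I (PrimeSpectrum.comap (algebraMap A B1) q') :=
    Groth.Agent.S8835.result A I B1 hftA q' hq'' hJ
  have hp' : Groth.RigFlat65.IsRig (I.map (algebraMap A A1)) (PrimeSpectrum.comap (algebraMap A1 B1) q') :=
    Groth.Agent.S8835.result A1 (I.map (algebraMap A A1)) B1 hftA1 q' (Groth.RigFlat65.rig_congr hIA1.symm hq'') hJA1
  have hq : Groth.RigFlat65.IsRig (I.map (algebraMap A B)) (PrimeSpectrum.comap (algebraMap B B1) q') :=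
    Groth.Agent.S8835.result B (I.map (algebraMap A B)) B1 hftB1B q' (Groth.RigFlat65.rig_congr hIB.symm hq'') hJB
  set p' := PrimeSpectrum.comap (algebraMap A1 B1) q' with hp'def
  let p := PrimeSpectrum.comap (algebraMap A A1) p'
  have hcomap : PrimeSpectrum.comap (algebraMap A B1) q' = p := by
    rw [IsScalarTower.algebraMap_eq A A1 B1, PrimeSpectrum.comap_comp_apply]
  rw [hcomap] at hp
  haveI hfA1 : Algebra.FiniteType A (A1 ⧸ I.map (algebraMap A A1)) := hclA.finiteType
  haveI : Module.Finite A (A1 ⧸ p'.asIdeal) := Groth.RigFlat65.finite_of_rig hfA1 hp' hp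
  have hfp : IsUnit (Ideal.Quotient.mk p.asIdeal f) :=
    Groth.RigFlat65.isUnit_mk_comap p'.asIdeal (hclA.unit.map _)
  haveI := hclA.isPrime_map p.asIdeal hfp
  let P : PrimeSpectrum A1 := ⟨p.asIdeal.map (algebraMap A A1), inferInstance⟩
  have hPc : P.asIdeal.comap (algebraMap A A1) = p.asIdeal := hclA.comap_map p.asIdeal hfp
  haveI : Algebra.IsIntegral A (A1 ⧸ P.asIdeal) := ⟨fun y => by
    obtain ⟨x, rfl⟩ := (hclA.quotientMap_bijective p.asIdeal hfp).2 y
    obtain ⟨x, rfl⟩ := Ideal.Quotient.mk_surjective x
    exact isIntegral_algebraMap⟩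
  have hP : Groth.RigFlat65.IsRig (I.map (algebraMap A A1)) P := Groth.RigFlat65.rig_of_integral hp hPc
  have hPeq : p' = P := hP.2 p' (Ideal.map_le_iff_le_comap.mpr le_rfl) hp'.1
  -- flatness over the smaller base
  have h1 : Groth.RigFlat65.FlatAt A q' := Groth.RigFlat65.FlatAt.comp (B := B)
    (RingHom.flat_algebraMap_iff.mp (hnaive _ hq))
    (haveI := hclB.flat; Groth.RigFlat65.flatAt_of_flat B q')
  refine (Groth.RigFlat65.FlatAt.up (T := A) (T' := A1) (p' := p') rfl p.asIdeal ?_ h1).ringHom
  show P.asIdeal.map (algebraMap A1 (Localization.AtPrime p'.asIdeal)) = _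
  rw [← Localization.AtPrime.map_eq_maximalIdeal, hPeq]

end Groth.Agent.S8841
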