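import Groth.Statements.S8842
import Groth.Agent.CohDev.CdOneGraded
-- import your own Groth.Agent.* helpers here

set_option autoImplicit false
universe u
open scoped BigOperators
attribute [local instance] CategoryTheory.Abelian.hasFiniteBiproducts
open Formal2

namespace Groth.Agent.S8842

open CategoryTheory CategoryTheory.Limits AlgebraicGeometry Opposite in
/-- Let A be a Noetherian ring, f_1, …, f_r ∈ A and I = (f_1, …, f_r) with cd(A, I) = 1; let c ≥ 1 and
φ_j : I^c → A be A-linear with x = Σ_j f_j φ_j(x) for x ∈ I^c. Let X be a Noetherian scheme over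
Spec A, (F_n) a coherent formal module for I on X (coherent O_X-modules with F_n = F_{n+1}/I^n
F_{n+1}; indices shifted by one) and F = lim F_n, the limit in O_X-modules. Then there is c' ≥ c
with the following property. Write φ_j again for the restrictions to I^{c'} and let Φ be a graded
A-algebra homomorphism from ⊕_{n ≥ 0} I^{nc'} to A[T_1, …, T_r] with Φ(g) = Σ_j φ_j(g) T_j on I^{c'}
(there is exactly one; encoded by functions Φ_n : A → A[T_1, …, T_r] additive and A-homogeneous on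
I^{nc'}, with values homogeneous of degree n, multiplicative across degrees, Φ_0 the structure map,
Φ_1 as prescribed). Then for every n there is a unique map of O_X-modules Φ_{F,n} from the submodule
I^{nc'}F to F[T_1, …, T_r]_n = ⊕_{|e| = n} F (one copy of F for each exponent tuple e of total
degree n) such that Φ_{F,n}(g s) = Φ_n(g) s for g ∈ I^{nc'} and local sections s of F, i.e.
precomposed with multiplication by g, F → I^{nc'}F, it is the map whose component at T^e is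
multiplication by the coefficient of T^e in Φ_n(g); moreover composing Φ_{F,n} with the map
⊕_{|e|=n} F → F which is multiplication by f^e = ∏ f_j^{e_j} on the copy at T^e gives the inclusion
I^{nc'}F → F. -/
theorem result (A : Type u) [CommRing A] [IsNoetherianRing A] (r : ℕ) (f : Fin r → A) (I : Ideal A) (hI : I = Ideal.span (Set.range f)) (h1 : LocCoh.CdLE A I 1) (h0 : ¬ LocCoh.CdLE A I 0) (c : ℕ) (hc : 1 ≤ c) (φ : Fin r → (↥(I ^ c) →ₗ[A] A)) (hφ : ∀ x : ↥(I ^ c), (x : A) = ∑ j, f j * φ j x) (X : Scheme.{u}) [X.Over (Spec (CommRingCat.of A))] [IsNoetherian X] (G : ℕᵒᵖ ⥤ X.Modules) (hG : Formal.IsCohFormal I G) : ∃ c' : ℕ, ∃ hcc' : c ≤ c', ∀ Φ : ℕ → A → MvPolynomial (Fin r) A, ((∀ n : ℕ, ∀ g ∈ I ^ (n * c'), ∀ h ∈ I ^ (n * c'), Φ n (g + h) = Φ n g + Φ n h) ∧ (∀ (n : ℕ) (a : A), ∀ g ∈ I ^ (n * c'), Φ n (a * g) = a • Φ n g) ∧ (∀ n : ℕ, ∀ g ∈ I ^ (n * c'), (Φ n g).IsHomogeneous n) ∧ (∀ n m : ℕ, ∀ g ∈ I ^ (n * c'), ∀ h ∈ I ^ (m * c'), Φ (n + m) (g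 * h) = Φ n g * Φ m h) ∧ (∀ a : A, Φ 0 a = MvPolynomial.C a) ∧ (∀ (g : A) (hg : g ∈ I ^ c'), Φ 1 g = ∑ j, MvPolynomial.C (φ j ⟨g, Ideal.pow_le_pow_right hcc' hg⟩) * MvPolynomial.X j)) → ∀ n : ℕ, ∃ ΦF : (Formal2.idealPowMod I (n * c') (limit G)) ⟶ ⨁ (fun _ : ↥(Finset.Nat.antidiagonalTuple r n) ↦ (limit G)), (∀ g ∈ I ^ (n * c'), ∀ γ : (limit G) ⟶ (Formal2.idealPowMod I (n * c') (limit G)), γ ≫ Formal2.idealPowModι I (n * c') (limit G) = Formal.smulMod A (limit G) g → γ ≫ ΦF = biproduct.lift (fun e : ↥(Finset.Nat.antidiagonalTuple r n) ↦ Formal.smulMod A (limit G) (MvPolynomial.coeff (Finsupp.equivFunOnFinite.symm e.1) (Φ n g)))) ∧ ΦF ≫ biproduct.desc (fun e : ↥(Finset.Nat.antidiagonalTuple r n) ↦ Formal.smulMod A (limit G) (∏ j, f j ^ (e.1 j))) = Formal2.idealPowModι I (n * c') (limit G) ∧ (∀ ΦF' : (Formal2.idealPowMod I (n * c') (limit G)) ⟶ ⨁ (fun _ : ↥(Finset.Nat.antidiagonalTuple r n) ↦ (limit G)), (∀ g ∈ I ^ (n * c'), ∀ γ : (limit G) ⟶ (Formal2.idealPowMod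 I (n * c') (limit G)), γ ≫ Formal2.idealPowModι I (n * c') (limit G) = Formal.smulMod A (limit G) g → γ ≫ ΦF' = biproduct.lift (fun e : ↥(Finset.Nat.antidiagonalTuple r n) ↦ Formal.smulMod A (limit G) (MvPolynomial.coeff (Finsupp.equivFunOnFinite.symm e.1) (Φ n g)))) → ΦF' = ΦF) := by
  classical
  obtain ⟨e, he⟩ := Groth.CohDev.CdOne.exists_limit_bound hG
  refine ⟨c + e, Nat.le_add_right c e, ?_⟩
  rintro Φ ⟨hadd, hsmul, hhom, hmul, hzero, hone⟩ n
  let ψ : Fin r → (↥(I ^ (c + e)) →ₗ[A] A) := fun j =>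
    (φ j).comp (Submodule.inclusion (Ideal.pow_le_pow_right (Nat.le_add_right c e)))
  have hψ : ∀ x : ↥(I ^ (c + e)), (x : A) = ∑ j, f j * ψ j x := fun x => hφ ⟨x, _⟩
  have hψmem : ∀ j x, ψ j x ∈ I ^ e := fun j x => Groth.CohDev.CdOne.phi_mem (φ j) x.2
  let χ : ↥(Finset.Nat.antidiagonalTuple r n) → ↥(I ^ (n * (c + e))) →ₗ[A] A := fun d =>
    { toFun := fun g => MvPolynomial.coeff (Finsupp.equivFunOnFinite.symm d.1) (Φ n (g : A))
      map_add' := fun g h => by
        rw [Submodule.coe_add, hadd n _ g.2 _ h.2, MvPolynomial.coeff_add]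
      map_smul' := fun a g => by
        rw [SetLike.val_smul, smul_eq_mul, hsmul n a _ g.2, MvPolynomial.coeff_smul, RingHom.id_apply] }
  obtain ⟨Ψ, hΨ₁, hΨ₂, hΨ₃⟩ := Groth.CohDev.CdOne.exists_pairing (limit G) (n * (c + e)) χ
    (fun d N a ha => by
      rcases n with _ | k
      · have hd : biproduct.desc (fun l => Formal.smulMod A (limit G) (χ d ⟨a l, ha l⟩)) =
            biproduct.desc (fun l => Formal.smulMod A (limit G) (a l)) ≫ Formal.smulMod A (limit G)
              (MvPolynomial.coeff (Finsupp.equivFunOnFinite.symm d.1) (1 : MvPolynomial (Fin r) A)) := by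
          refine biproduct.hom_ext' _ _ fun l => ?_
          rw [biproduct.ι_desc, biproduct.ι_desc_assoc, ← Groth.CohC3.smulMod_mul]
          refine congrArg (Formal.smulMod A (limit G)) ?_
          change MvPolynomial.coeff (Finsupp.equivFunOnFinite.symm d.1) (Φ 0 (a l)) = _
          rw [hzero, ← mul_one (MvPolynomial.C (a l)), MvPolynomial.coeff_C_mul, mul_comm]
        rw [hd, kernel.condition_assoc, zero_comp]
      · exact he _ (χ d) N a ha fun l => Groth.LocCohTransform.GradedMap.coeff_mem hadd hmul hzero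
          (ψ := ψ) hone hψmem k (a l) (ha l) _)
  refine ⟨Ψ, hΨ₁, hΨ₂ _ fun g => ?_, hΨ₃⟩
  have h1 := Groth.LocCohTransform.GradedMap.aeval_eq hadd hmul hzero (ψ := ψ) hone hψ n g g.2
  rw [Groth.CohDev.CdOne.aeval_eq_sum_tuple f _ (hhom n g g.2)] at h1
  exact h1

end Groth.Agent.S8842
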