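import Groth.Statements.S8843
import Mathlib
import Groth.Agent.RigFlat65.Flat
import Groth.Agent.RigFlat65.Hom
import Groth.Agent.RigFlat65.Congr


set_option autoImplicit false
universe u
open AdicRing

namespace Groth.Agent.S8843

/-- Let A be a Noetherian ring complete for the adic topology of an ideal I, B a Noetherian A-algebra
complete for the IB-adic topology with B/IB of finite type over A, and C a Noetherian B-algebra,
compatibly an A-algebra, complete for the IC-adic topology with C/IC of finite type over B (so A → B
→ C are adic morphisms of adic Noetherian topological rings, topologically of finite type). Assume A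
→ B and B → C are rig-flat, in the following form: for every f ∈ A and the canonical map ψ : A_{f} →
B_{f} of completed principal localizations (the I-adic completions of A_f → B_f; ψ is characterised
as any ring map compatible with A_f → B_f, and there is exactly one), the local ring (B_{f})_q is
flat over A_{f} via ψ for every rig-closed prime q of B_{f} (I B_{f} ⊄ q and q maximal among the
primes not containing I B_{f}); and likewise for B → C with g ∈ B and rig-closed primes of C_{g}.
Then A → C is rig-flat in the same form: for every f ∈ A, every ring map A_{f} → C_{f} compatible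
with A_f → C_f, and every rig-closed prime q of C_{f}, the local ring (C_{f})_q is flat over A_{f}.
(That A → C is again adic and topologically of finite type is not restated.) -/
theorem result (A : Type u) [CommRing A] [IsNoetherianRing A] (I : Ideal A) [IsAdicComplete I A] (B : Type u) [CommRing B] [Algebra A B] [IsNoetherianRing B] [IsAdicComplete (I.map (algebraMap A B)) B] (hftB : Algebra.FiniteType A (B ⧸ (I.map (algebraMap A B)))) (C : Type u) [CommRing C] [Algebra A C] [Algebra B C] [IsScalarTower A B C] [IsNoetherianRing C] [IsAdicComplete (I.map (algebraMap A C)) C] (hftC : Algebra.FiniteType B (C ⧸ (I.map (algebraMap A C)))) (hAB : (∀ f : A, ∀ ψf : (AdicCompletion (I.map (algebraMap A (Localization.Away f))) (Localization.Away f)) →+* (AdicCompletion ((I.map (algebraMap A B)).map (algebraMap B (Localization.Away (algebraMap A B f)))) (Localization.Away (algebraMap A B f))), ψf.comp (algebraMap (Localization.Away f) (AdicCompletion (I.map (algebraMap A (Localization.Away f))) (Localization.Away f))) = (algebraMap (Localization.Away (algebraMap A B f)) (AdicCompletion ((I.map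 (algebraMap A B)).map (algebraMap B (Localization.Away (algebraMap A B f)))) (Localization.Away (algebraMap A B f)))).comp (Localization.awayMap (algebraMap A B) f) → ∀ qf : PrimeSpectrum (AdicCompletion ((I.map (algebraMap A B)).map (algebraMap B (Localization.Away (algebraMap A B f)))) (Localization.Away (algebraMap A B f))), (¬ (((I.map (algebraMap A B)).map (algebraMap B (Localization.Away (algebraMap A B f)))).map (algebraMap (Localization.Away (algebraMap A B f)) (AdicCompletion ((I.map (algebraMap A B)).map (algebraMap B (Localization.Away (algebraMap A B f)))) (Localization.Away (algebraMap A B f))))) ≤ qf.asIdeal ∧ ∀ y : PrimeSpectrum (AdicCompletion ((I.map (algebraMap A B)).map (algebraMap B (Localization.Away (algebraMap A B f)))) (Localization.Away (algebraMap A B f))), qf ≤ y → ¬ (((I.map (algebraMap A B)).map (algebraMap B (Localization.Away (algebraMap A B f)))).map (algebraMap (Localization.Away (algebraMap A B f)) (AdicCompletion ((I.map (algebraMap A B)).map (algebraMap B (Localization.Away (algebraMap A B f)))) (Localization.Away (algebraMap A B f))))) ≤ y.asIdeal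 → y = qf) → ((algebraMap (AdicCompletion ((I.map (algebraMap A B)).map (algebraMap B (Localization.Away (algebraMap A B f)))) (Localization.Away (algebraMap A B f))) (Localization.AtPrime qf.asIdeal)).comp ψf).Flat)) (hBC : (∀ g : B, ∀ ψg : (AdicCompletion ((I.map (algebraMap A B)).map (algebraMap B (Localization.Away g))) (Localization.Away g)) →+* (AdicCompletion (((I.map (algebraMap A B)).map (algebraMap B C)).map (algebraMap C (Localization.Away (algebraMap B C g)))) (Localization.Away (algebraMap B C g))), ψg.comp (algebraMap (Localization.Away g) (AdicCompletion ((I.map (algebraMap A B)).map (algebraMap B (Localization.Away g))) (Localization.Away g))) = (algebraMap (Localization.Away (algebraMap B C g)) (AdicCompletion (((I.map (algebraMap A B)).map (algebraMap B C)).map (algebraMap C (Localization.Away (algebraMap B C g)))) (Localization.Away (algebraMap B C g)))).comp (Localization.awayMap (algebraMap B C) g) → ∀ qg : PrimeSpectrum (AdicCompletion (((I.map (algebraMap A B)).map (algebraMap B C)).map (algebraMap C (Localization.Away (algebraMap B C g)))) (Localization.Away (algebraMap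 B C g))), (¬ ((((I.map (algebraMap A B)).map (algebraMap B C)).map (algebraMap C (Localization.Away (algebraMap B C g)))).map (algebraMap (Localization.Away (algebraMap B C g)) (AdicCompletion (((I.map (algebraMap A B)).map (algebraMap B C)).map (algebraMap C (Localization.Away (algebraMap B C g)))) (Localization.Away (algebraMap B C g))))) ≤ qg.asIdeal ∧ ∀ y : PrimeSpectrum (AdicCompletion (((I.map (algebraMap A B)).map (algebraMap B C)).map (algebraMap C (Localization.Away (algebraMap B C g)))) (Localization.Away (algebraMap B C g))), qg ≤ y → ¬ ((((I.map (algebraMap A B)).map (algebraMap B C)).map (algebraMap C (Localization.Away (algebraMap B C g)))).map (algebraMap (Localization.Away (algebraMap B C g)) (AdicCompletion (((I.map (algebraMap A B)).map (algebraMap B C)).map (algebraMap C (Localization.Away (algebraMap B C g)))) (Localization.Away (algebraMap B C g))))) ≤ y.asIdeal → y = qg) → ((algebraMap (AdicCompletion (((I.map (algebraMap A B)).map (algebraMap B C)).map (algebraMap C (Localization.Away (algebraMap B C g)))) (Localization.Away (algebraMap B C g))) (Localization.AtPrime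 qg.asIdeal)).comp ψg).Flat)) : (∀ e : A, ∀ ψe : (AdicCompletion (I.map (algebraMap A (Localization.Away e))) (Localization.Away e)) →+* (AdicCompletion ((I.map (algebraMap A C)).map (algebraMap C (Localization.Away (algebraMap A C e)))) (Localization.Away (algebraMap A C e))), ψe.comp (algebraMap (Localization.Away e) (AdicCompletion (I.map (algebraMap A (Localization.Away e))) (Localization.Away e))) = (algebraMap (Localization.Away (algebraMap A C e)) (AdicCompletion ((I.map (algebraMap A C)).map (algebraMap C (Localization.Away (algebraMap A C e)))) (Localization.Away (algebraMap A C e)))).comp (Localization.awayMap (algebraMap A C) e) → ∀ qe : PrimeSpectrum (AdicCompletion ((I.map (algebraMap A C)).map (algebraMap C (Localization.Away (algebraMap A C e)))) (Localization.Away (algebraMap A C e))), (¬ (((I.map (algebraMap A C)).map (algebraMap C (Localization.Away (algebraMap A C e)))).map (algebraMap (Localization.Away (algebraMap A C e)) (AdicCompletion ((I.map (algebraMap A C)).map (algebraMap C (Localization.Away (algebraMap A C e)))) (Localization.Away (algebraMap A C e)))))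 ≤ qe.asIdeal ∧ ∀ y : PrimeSpectrum (AdicCompletion ((I.map (algebraMap A C)).map (algebraMap C (Localization.Away (algebraMap A C e)))) (Localization.Away (algebraMap A C e))), qe ≤ y → ¬ (((I.map (algebraMap A C)).map (algebraMap C (Localization.Away (algebraMap A C e)))).map (algebraMap (Localization.Away (algebraMap A C e)) (AdicCompletion ((I.map (algebraMap A C)).map (algebraMap C (Localization.Away (algebraMap A C e)))) (Localization.Away (algebraMap A C e))))) ≤ y.asIdeal → y = qe) → ((algebraMap (AdicCompletion ((I.map (algebraMap A C)).map (algebraMap C (Localization.Away (algebraMap A C e)))) (Localization.Away (algebraMap A C e))) (Localization.AtPrime qe.asIdeal)).comp ψe).Flat) := by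
  intro e ψe hψe qe hqe
  let A1 := Groth.RigFlat65.CL I e
  let C1 := Groth.RigFlat65.CL (I.map (algebraMap A C)) (algebraMap A C e)
  have hclA1 := Groth.RigFlat65.isCL_completion I e
  have hclC1 := Groth.RigFlat65.isCL_completion (I.map (algebraMap A C)) (algebraMap A C e)
  haveI : IsScalarTower A C C1 := IsScalarTower.of_algebraMap_eq fun a => rfl
  haveI : IsNoetherianRing C1 := hclC1.noeth
  have hJ1 := Groth.RigFlat65.map_tower C C1 I
  haveI hC1c : IsAdicComplete (I.map (algebraMap A C1)) C1 := Groth.RigFlat65.complete_congr hJ1 hclC1.complete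
  have hftAC : Algebra.FiniteType A (C ⧸ I.map (algebraMap A C)) := Groth.RigFlat65.finiteType_trans I hftB hftC
  haveI := hftAC
  have hftC1 : Algebra.FiniteType A (C1 ⧸ I.map (algebraMap A C1)) :=
    Groth.RigFlat65.finiteType_congr hJ1 hclC1.finiteType
  have hqe' : Groth.RigFlat65.IsRig (I.map (algebraMap A C1)) qe :=
    Groth.RigFlat65.rig_congr ((Groth.RigFlat65.CL.map_map _ _).trans hJ1) hqe
  obtain ⟨g, hg, href⟩ := Groth.RigFlat65.refine_point (A := A) (S := C1) I rfl hftC1 hqe'
  -- the refined completed localizations
  let A2 := Groth.RigFlat65.CL I (e * g)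
  let B2 := Groth.RigFlat65.CL (I.map (algebraMap A B)) (algebraMap A B (e * g))
  let C2 := Groth.RigFlat65.CL ((I.map (algebraMap A B)).map (algebraMap B C)) (algebraMap B C (algebraMap A B (e * g)))
  have hclA2 := Groth.RigFlat65.isCL_completion I (e * g)
  have hclB2 := Groth.RigFlat65.isCL_completion (I.map (algebraMap A B)) (algebraMap A B (e * g))
  have hclC2 : Groth.RigFlat65.IsCL (I.map (algebraMap A C)) (algebraMap A C e * algebraMap A C g) C2 :=
    Groth.RigFlat65.cl_congr (Groth.RigFlat65.map_tower B C I)
      (by rw [← IsScalarTower.algebraMap_apply, map_mul])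
      (Groth.RigFlat65.isCL_completion ((I.map (algebraMap A B)).map (algebraMap B C))
        (algebraMap B C (algebraMap A B (e * g))))
  haveI : IsScalarTower A B B2 := IsScalarTower.of_algebraMap_eq fun a => rfl
  haveI : IsScalarTower A C C2 := IsScalarTower.of_algebraMap_eq fun a => rfl
  haveI : IsScalarTower B C C2 := IsScalarTower.of_algebraMap_eq fun a => rfl
  haveI : IsScalarTower A B C2 := IsScalarTower.of_algebraMap_eq fun a => by
    rw [IsScalarTower.algebraMap_apply A C C2, IsScalarTower.algebraMap_apply A B C,
      ← IsScalarTower.algebraMap_apply B C C2]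
  haveI : IsNoetherianRing A2 := hclA2.noeth
  haveI : IsNoetherianRing B2 := hclB2.noeth
  haveI : IsNoetherianRing C2 := hclC2.noeth
  haveI : IsNoetherianRing A1 := hclA1.noeth
  have hB2c : IsAdicComplete (I.map (algebraMap A B2)) B2 :=
    Groth.RigFlat65.complete_congr (Groth.RigFlat65.map_tower B B2 I) hclB2.complete
  have hC2c : IsAdicComplete (I.map (algebraMap A C2)) C2 :=
    Groth.RigFlat65.complete_congr (Groth.RigFlat65.map_tower C C2 I) hclC2.complete
  have huC : IsUnit (algebraMap A C2 (e * g)) :=
    Groth.RigFlat65.isUnit_down (B := C) ((map_mul (algebraMap A C) e g).symm ▸ hclC2.unit)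
  have huB : IsUnit (algebraMap A B2 (e * g)) := Groth.RigFlat65.isUnit_down (B := B) hclB2.unit
  haveI hA2c : IsAdicComplete (I.map (algebraMap A A2)) A2 := hclA2.complete
  obtain ⟨φAB, hAB2⟩ := Groth.RigFlat65.CL.exists_hom (J := I) (f := e * g) (K := I.map (algebraMap A B2))
    (algebraMap A B2) huB le_rfl
  obtain ⟨φBC, hBC2⟩ := Groth.RigFlat65.CL.exists_hom (J := I.map (algebraMap A B)) (f := algebraMap A B (e * g))
    (K := I.map (algebraMap A C2)) (algebraMap B C2)
    (Groth.RigFlat65.isUnit_up huC) (Groth.RigFlat65.map_tower B C2 I).le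
  obtain ⟨φA, hA12⟩ := Groth.RigFlat65.CL.exists_hom (J := I) (f := e) (K := I.map (algebraMap A A2))
    (algebraMap A A2) (Groth.RigFlat65.isUnit_left _ hclA2.unit) le_rfl
  obtain ⟨φC, hC12⟩ := Groth.RigFlat65.CL.exists_hom (J := I.map (algebraMap A C)) (f := algebraMap A C e)
    (K := I.map (algebraMap A C2)) (algebraMap C C2) (Groth.RigFlat65.isUnit_left _ hclC2.unit) (Groth.RigFlat65.map_tower C C2 I).le
  letI : Algebra A2 B2 := φAB.toAlgebra
  letI : Algebra B2 C2 := φBC.toAlgebra
  letI : Algebra A2 C2 := (φBC.comp φAB).toAlgebra
  letI : Algebra A1 A2 := φA.toAlgebra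
  letI : Algebra C1 C2 := φC.toAlgebra
  letI : Algebra A1 C1 := ψe.toAlgebra
  haveI : IsScalarTower A A2 B2 := IsScalarTower.of_algebraMap_eq fun a => (hAB2 a).symm
  haveI : IsScalarTower B B2 C2 := IsScalarTower.of_algebraMap_eq fun b => (hBC2 b).symm
  haveI : IsScalarTower A2 B2 C2 := IsScalarTower.of_algebraMap_eq fun a => rfl
  haveI : IsScalarTower A A2 C2 := IsScalarTower.of_algebraMap_eq fun a => by
    show _ = φBC (φAB (algebraMap A A2 a))
    rw [hAB2, IsScalarTower.algebraMap_apply A B B2, hBC2, ← IsScalarTower.algebraMap_apply A B C2]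
  haveI : IsScalarTower A A1 A2 := IsScalarTower.of_algebraMap_eq fun a => (hA12 a).symm
  haveI : IsScalarTower C C1 C2 := IsScalarTower.of_algebraMap_eq fun c => (hC12 c).symm
  haveI : IsScalarTower A C1 C2 := IsScalarTower.of_algebraMap_eq fun a => by
    rw [IsScalarTower.algebraMap_apply A C C1, ← IsScalarTower.algebraMap_apply C C1 C2,
      ← IsScalarTower.algebraMap_apply A C C2]
  haveI : IsScalarTower A A1 C1 := IsScalarTower.of_algebraMap_eq fun a =>
    ((Groth.RigFlat65.CL.tower_of_comp (I := I) (J := I.map (algebraMap A C)) (f := e) rfl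
      (fun a => IsLocalization.map_eq _ a) hψe a).trans (IsScalarTower.algebraMap_apply A C C1 a).symm).symm
  letI : Algebra A1 C2 := ((algebraMap A2 C2).comp (algebraMap A1 A2)).toAlgebra
  haveI : IsScalarTower A1 A2 C2 := IsScalarTower.of_algebraMap_eq fun a => rfl
  haveI : IsScalarTower A A1 C2 := IsScalarTower.of_algebraMap_eq fun a => by
    rw [IsScalarTower.algebraMap_apply A1 A2 C2, ← IsScalarTower.algebraMap_apply A A1 A2,
      ← IsScalarTower.algebraMap_apply A A2 C2]
  haveI : IsScalarTower A1 C1 C2 := hclA1.tower
  have hclC12 : Groth.RigFlat65.IsCL (I.map (algebraMap A C1)) (algebraMap A C1 g) C2 :=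
    Groth.RigFlat65.cl_congr hJ1 (IsScalarTower.algebraMap_apply A C C1 g).symm (hclC1.of_mul hclC2)
  have hugA2 : IsUnit (algebraMap A A2 g) := Groth.RigFlat65.isUnit_right _ hclA2.unit
  obtain ⟨q2, -, hq2c, hq2, hp2⟩ := href A2 C2 hugA2 hclC12
  have hq2' : Groth.RigFlat65.IsRig (I.map (algebraMap A C2)) q2 :=
    Groth.RigFlat65.rig_congr (Groth.RigFlat65.map_tower C1 C2 I) hq2
  -- the point in the middle
  haveI : IsAdicComplete ((I.map (algebraMap A A2)).map (algebraMap A2 C2)) C2 :=
    Groth.RigFlat65.complete_congr (Groth.RigFlat65.map_tower A2 C2 I).symm hC2c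
  have hft2 : Algebra.FiniteType A2 (C2 ⧸ (I.map (algebraMap A A2)).map (algebraMap A2 C2)) :=
    Groth.RigFlat65.finiteType_congr (Groth.RigFlat65.map_tower A2 C2 I).symm
      (Groth.RigFlat65.finiteType_up A2
        (Groth.RigFlat65.finiteType_congr (Groth.RigFlat65.map_tower C C2 I) (hclC2.finiteType (A := A))))
  obtain ⟨hqB, -⟩ := Groth.RigFlat65.rig_intermediate (T := A2) (U := B2) (S := C2) hft2
    (Groth.RigFlat65.rig_congr (Groth.RigFlat65.map_tower A2 C2 I).symm hq2') hp2
  have h1 := Groth.RigFlat65.flatAt_of_ringHom (T := A2) (S := B2) (hAB (e * g) φAB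
    (Groth.RigFlat65.CL.comp_of_tower (I := I) (J := I.map (algebraMap A B)) (f := e * g)
      (fun a => IsLocalization.map_eq _ a)
      (fun a => (hAB2 a).trans (IsScalarTower.algebraMap_apply A B B2 a)))
    (PrimeSpectrum.comap (algebraMap B2 C2) q2)
    (Groth.RigFlat65.rig_congr (((Groth.RigFlat65.map_tower A2 B2 I).trans
      (Groth.RigFlat65.map_tower B B2 I).symm).trans (Groth.RigFlat65.CL.map_map _ _).symm) hqB))
  have h2 := Groth.RigFlat65.flatAt_of_ringHom (T := B2) (S := C2) (hBC (algebraMap A B (e * g)) φBC
    (Groth.RigFlat65.CL.comp_of_tower (I := I.map (algebraMap A B)) (J := (I.map (algebraMap A B)).map (algebraMap B C))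
      (fun a => IsLocalization.map_eq _ a)
      (fun a => (hBC2 a).trans (IsScalarTower.algebraMap_apply B C C2 a)))
    q2 (Groth.RigFlat65.rig_congr (((Groth.RigFlat65.map_tower C C2 I).symm.trans
      (congrArg (Ideal.map (algebraMap C C2)) (Groth.RigFlat65.map_tower B C I).symm)).trans
        (Groth.RigFlat65.CL.map_map _ _).symm) hq2'))
  have h3 : Groth.RigFlat65.FlatAt A2 q2 := h1.comp h2
  haveI : Module.Flat A1 A2 := (hclA1.of_mul hclA2).flat
  haveI : Module.Flat C1 C2 := hclC12.flat
  exact (Groth.RigFlat65.FlatAt.descend (T := A1) (T' := A2) (S := C1) (S' := C2) hq2c h3).ringHom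

end Groth.Agent.S8843
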