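import Groth.Statements.S8844
import Mathlib
import Groth.Agent.RigFlat65.Flat
import Groth.Agent.RigFlat65.Hom
import Groth.Agent.RigFlat65.Congr
import Groth.Agent.S8836


set_option autoImplicit false
universe u
open AdicRing

namespace Groth.Agent.S8844

/-- Consider a commutative square of adic Noetherian topological rings with all maps adic and
topologically of finite type: A a Noetherian ring complete for the adic topology of an ideal I; B,
A' and B' Noetherian algebras complete for the IB-, IA'- and IB'-adic topologies, B' an algebra over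
B and over A' compatibly with A, with B/IB and A'/IA' of finite type over A and B'/IB' of finite
type over B and over A'. Assume A → A' is flat and B → B' is faithfully flat. If A' → B' is rig-flat
— for every f' ∈ A', every ring map A'_{f'} → B'_{f'} of completed principal localizations
compatible with the map of ordinary localizations A'[1/f'] → B'[1/f'] (there is exactly one), and
every rig-closed prime q of B'_{f'} (I B'_{f'} ⊄ q and q maximal among the primes not containing I
B'_{f'}), the local ring (B'_{f'})_q is flat over A'_{f'} — then A → B is rig-flat in the same form: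
for every f ∈ A, every ring map A_{f} → B_{f} of completed principal localizations compatible with
the map of ordinary localizations A[1/f] → B[1/f], and every rig-closed prime q of B_{f}, the local
ring (B_{f})_q is flat over A_{f}. -/
theorem result (A : Type u) [CommRing A] [IsNoetherianRing A] (I : Ideal A) [IsAdicComplete I A] (B : Type u) [CommRing B] [Algebra A B] [IsNoetherianRing B] [IsAdicComplete (I.map (algebraMap A B)) B] (hftB : Algebra.FiniteType A (B ⧸ (I.map (algebraMap A B)))) (A' : Type u) [CommRing A'] [Algebra A A'] [IsNoetherianRing A'] [IsAdicComplete (I.map (algebraMap A A')) A'] (hftA' : Algebra.FiniteType A (A' ⧸ (I.map (algebraMap A A')))) (B' : Type u) [CommRing B'] [Algebra A B'] [Algebra B B'] [Algebra A' B'] [IsScalarTower A B B'] [IsScalarTower A A' B'] [IsNoetherianRing B'] [IsAdicComplete (I.map (algebraMap A B')) B'] (hftB'B : Algebra.FiniteType B (B' ⧸ (I.map (algebraMap A B')))) (hftB'A' : Algebra.FiniteType A' (B' ⧸ (I.map (algebraMap A B')))) [Module.Flat A A'] [Module.FaithfullyFlat B B'] (hA'B' : (∀ f' : A', ∀ ψf' : (AdicCompletion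 ((I.map (algebraMap A A')).map (algebraMap A' (Localization.Away f'))) (Localization.Away f')) →+* (AdicCompletion (((I.map (algebraMap A A')).map (algebraMap A' B')).map (algebraMap B' (Localization.Away (algebraMap A' B' f')))) (Localization.Away (algebraMap A' B' f'))), ψf'.comp (algebraMap (Localization.Away f') (AdicCompletion ((I.map (algebraMap A A')).map (algebraMap A' (Localization.Away f'))) (Localization.Away f'))) = (algebraMap (Localization.Away (algebraMap A' B' f')) (AdicCompletion (((I.map (algebraMap A A')).map (algebraMap A' B')).map (algebraMap B' (Localization.Away (algebraMap A' B' f')))) (Localization.Away (algebraMap A' B' f')))).comp (Localization.awayMap (algebraMap A' B') f') → ∀ qf' : PrimeSpectrum (AdicCompletion (((I.map (algebraMap A A')).map (algebraMap A' B')).map (algebraMap B' (Localization.Away (algebraMap A' B' f')))) (Localization.Away (algebraMap A' B' f'))), (¬ ((((I.map (algebraMap A A')).map (algebraMap A' B')).map (algebraMap B' (Localization.Away (algebraMap A' B' f')))).map (algebraMap (Localization.Away (algebraMap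 A' B' f')) (AdicCompletion (((I.map (algebraMap A A')).map (algebraMap A' B')).map (algebraMap B' (Localization.Away (algebraMap A' B' f')))) (Localization.Away (algebraMap A' B' f'))))) ≤ qf'.asIdeal ∧ ∀ y : PrimeSpectrum (AdicCompletion (((I.map (algebraMap A A')).map (algebraMap A' B')).map (algebraMap B' (Localization.Away (algebraMap A' B' f')))) (Localization.Away (algebraMap A' B' f'))), qf' ≤ y → ¬ ((((I.map (algebraMap A A')).map (algebraMap A' B')).map (algebraMap B' (Localization.Away (algebraMap A' B' f')))).map (algebraMap (Localization.Away (algebraMap A' B' f')) (AdicCompletion (((I.map (algebraMap A A')).map (algebraMap A' B')).map (algebraMap B' (Localization.Away (algebraMap A' B' f')))) (Localization.Away (algebraMap A' B' f'))))) ≤ y.asIdeal → y = qf') → ((algebraMap (AdicCompletion (((I.map (algebraMap A A')).map (algebraMap A' B')).map (algebraMap B' (Localization.Away (algebraMap A' B' f')))) (Localization.Away (algebraMap A' B' f'))) (Localization.AtPrime qf'.asIdeal)).comp ψf').Flat)) : (∀ f : A, ∀ ψf : (AdicCompletion (I.map (algebraMap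 A (Localization.Away f))) (Localization.Away f)) →+* (AdicCompletion ((I.map (algebraMap A B)).map (algebraMap B (Localization.Away (algebraMap A B f)))) (Localization.Away (algebraMap A B f))), ψf.comp (algebraMap (Localization.Away f) (AdicCompletion (I.map (algebraMap A (Localization.Away f))) (Localization.Away f))) = (algebraMap (Localization.Away (algebraMap A B f)) (AdicCompletion ((I.map (algebraMap A B)).map (algebraMap B (Localization.Away (algebraMap A B f)))) (Localization.Away (algebraMap A B f)))).comp (Localization.awayMap (algebraMap A B) f) → ∀ qf : PrimeSpectrum (AdicCompletion ((I.map (algebraMap A B)).map (algebraMap B (Localization.Away (algebraMap A B f)))) (Localization.Away (algebraMap A B f))), (¬ (((I.map (algebraMap A B)).map (algebraMap B (Localization.Away (algebraMap A B f)))).map (algebraMap (Localization.Away (algebraMap A B f)) (AdicCompletion ((I.map (algebraMap A B)).map (algebraMap B (Localization.Away (algebraMap A B f)))) (Localization.Away (algebraMap A B f))))) ≤ qf.asIdeal ∧ ∀ y : PrimeSpectrum (AdicCompletion ((I.map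 (algebraMap A B)).map (algebraMap B (Localization.Away (algebraMap A B f)))) (Localization.Away (algebraMap A B f))), qf ≤ y → ¬ (((I.map (algebraMap A B)).map (algebraMap B (Localization.Away (algebraMap A B f)))).map (algebraMap (Localization.Away (algebraMap A B f)) (AdicCompletion ((I.map (algebraMap A B)).map (algebraMap B (Localization.Away (algebraMap A B f)))) (Localization.Away (algebraMap A B f))))) ≤ y.asIdeal → y = qf) → ((algebraMap (AdicCompletion ((I.map (algebraMap A B)).map (algebraMap B (Localization.Away (algebraMap A B f)))) (Localization.Away (algebraMap A B f))) (Localization.AtPrime qf.asIdeal)).comp ψf).Flat) := by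
  intro f ψf hψf qf hqf
  let A1 := Groth.RigFlat65.CL I f
  let B1 := Groth.RigFlat65.CL (I.map (algebraMap A B)) (algebraMap A B f)
  let A'1 := Groth.RigFlat65.CL (I.map (algebraMap A A')) (algebraMap A A' f)
  let B'1 := Groth.RigFlat65.CL ((I.map (algebraMap A A')).map (algebraMap A' B')) (algebraMap A' B' (algebraMap A A' f))
  have hclA1 := Groth.RigFlat65.isCL_completion I f
  have hclB1 := Groth.RigFlat65.isCL_completion (I.map (algebraMap A B)) (algebraMap A B f)
  have hclA'1 := Groth.RigFlat65.isCL_completion (I.map (algebraMap A A')) (algebraMap A A' f)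
  have hclB'1 : Groth.RigFlat65.IsCL (I.map (algebraMap A B')) (algebraMap A B' f) B'1 :=
    Groth.RigFlat65.cl_congr (Groth.RigFlat65.map_tower A' B' I) (IsScalarTower.algebraMap_apply A A' B' f).symm
      (Groth.RigFlat65.isCL_completion ((I.map (algebraMap A A')).map (algebraMap A' B')) (algebraMap A' B' (algebraMap A A' f)))
  haveI : IsScalarTower A B B1 := IsScalarTower.of_algebraMap_eq fun a => rfl
  haveI : IsScalarTower A A' A'1 := IsScalarTower.of_algebraMap_eq fun a => rfl
  haveI : IsScalarTower A B' B'1 := IsScalarTower.of_algebraMap_eq fun a => rfl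
  haveI : IsScalarTower A' B' B'1 := IsScalarTower.of_algebraMap_eq fun a => rfl
  haveI : IsScalarTower B B' B'1 := IsScalarTower.of_algebraMap_eq fun a => rfl
  haveI : IsScalarTower A A' B'1 := IsScalarTower.of_algebraMap_eq fun a => by
    rw [IsScalarTower.algebraMap_apply A B' B'1, IsScalarTower.algebraMap_apply A A' B',
      ← IsScalarTower.algebraMap_apply A' B' B'1]
  haveI : IsScalarTower A B B'1 := IsScalarTower.of_algebraMap_eq fun a => by
    rw [IsScalarTower.algebraMap_apply A B' B'1, IsScalarTower.algebraMap_apply A B B',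
      ← IsScalarTower.algebraMap_apply B B' B'1]
  haveI : IsNoetherianRing A1 := hclA1.noeth
  haveI : IsNoetherianRing B1 := hclB1.noeth
  haveI : IsNoetherianRing A'1 := hclA'1.noeth
  haveI : IsNoetherianRing B'1 := hclB'1.noeth
  have hIB := Groth.RigFlat65.map_tower B B1 I
  have hB'c : IsAdicComplete (I.map (algebraMap A B'1)) B'1 :=
    Groth.RigFlat65.complete_congr (Groth.RigFlat65.map_tower B' B'1 I) hclB'1.complete
  haveI : IsAdicComplete ((I.map (algebraMap A B)).map (algebraMap B B1)) B1 := hclB1.complete
  haveI hB1c : IsAdicComplete (I.map (algebraMap A B1)) B1 := Groth.RigFlat65.complete_congr hIB hclB1.complete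
  haveI hA'1c : IsAdicComplete ((I.map (algebraMap A A')).map (algebraMap A' A'1)) A'1 := hclA'1.complete
  haveI : IsAdicComplete (I.map (algebraMap A A'1)) A'1 :=
    Groth.RigFlat65.complete_congr (Groth.RigFlat65.map_tower A' A'1 I) hclA'1.complete
  obtain ⟨φB, hB⟩ := Groth.RigFlat65.CL.exists_hom (J := I.map (algebraMap A B)) (f := algebraMap A B f)
    (K := I.map (algebraMap A B'1)) (algebraMap B B'1)
    (Groth.RigFlat65.isUnit_up (Groth.RigFlat65.isUnit_down (B := B') hclB'1.unit))
    (Groth.RigFlat65.map_tower B B'1 I).le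
  obtain ⟨φA', hA'⟩ := Groth.RigFlat65.CL.exists_hom (J := I.map (algebraMap A A')) (f := algebraMap A A' f)
    (K := I.map (algebraMap A B'1)) (algebraMap A' B'1)
    (Groth.RigFlat65.isUnit_up (Groth.RigFlat65.isUnit_down (B := B') hclB'1.unit))
    (Groth.RigFlat65.map_tower A' B'1 I).le
  obtain ⟨φA, hA⟩ := Groth.RigFlat65.CL.exists_hom (J := I) (f := f)
    (K := I.map (algebraMap A A'1)) (algebraMap A A'1)
    (Groth.RigFlat65.isUnit_down (B := A') hclA'1.unit) le_rfl
  letI : Algebra B1 B'1 := φB.toAlgebra
  letI : Algebra A'1 B'1 := φA'.toAlgebra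
  letI : Algebra A1 A'1 := φA.toAlgebra
  letI : Algebra A1 B1 := ψf.toAlgebra
  letI : Algebra A1 B'1 := (φA'.comp φA).toAlgebra
  haveI : IsScalarTower B B1 B'1 := IsScalarTower.of_algebraMap_eq fun b => (hB b).symm
  haveI : IsScalarTower A' A'1 B'1 := IsScalarTower.of_algebraMap_eq fun b => (hA' b).symm
  haveI : IsScalarTower A A1 A'1 := IsScalarTower.of_algebraMap_eq fun b => (hA b).symm
  haveI : IsScalarTower A1 A'1 B'1 := IsScalarTower.of_algebraMap_eq fun a => rfl
  haveI : IsScalarTower A A1 B1 := IsScalarTower.of_algebraMap_eq fun a =>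
    ((Groth.RigFlat65.CL.tower_of_comp (I := I) (J := I.map (algebraMap A B)) (f := f) rfl
      (fun a => IsLocalization.map_eq _ a) hψf a).trans (IsScalarTower.algebraMap_apply A B B1 a).symm).symm
  haveI : IsScalarTower A B1 B'1 := IsScalarTower.of_algebraMap_eq fun a => by
    rw [IsScalarTower.algebraMap_apply A B B1, ← IsScalarTower.algebraMap_apply B B1 B'1,
      ← IsScalarTower.algebraMap_apply A B B'1]
  haveI : IsScalarTower A A1 B'1 := IsScalarTower.of_algebraMap_eq fun a => by
    show _ = φA' (φA (algebraMap A A1 a))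
    rw [hA, IsScalarTower.algebraMap_apply A A' A'1, hA', ← IsScalarTower.algebraMap_apply A A' B'1]
  haveI : IsScalarTower A1 B1 B'1 := hclA1.tower
  -- flatness of the horizontal maps
  haveI : Module.Flat B' B'1 := hclB'1.flat
  haveI : Module.Flat B B'1 := Module.Flat.trans B B' B'1
  haveI hBB' : IsAdicComplete ((I.map (algebraMap A B)).map (algebraMap B B'1)) B'1 :=
    Groth.RigFlat65.complete_congr (Groth.RigFlat65.map_tower B B'1 I).symm hB'c
  haveI : Module.Flat B1 B'1 := hclB1.flat_of_flat_base
  haveI : Module.Flat A' A'1 := hclA'1.flat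
  haveI : Module.Flat A A'1 := Module.Flat.trans A A' A'1
  haveI : Module.Flat A1 A'1 := hclA1.flat_of_flat_base
  -- a point upstairs
  have hqf' : Groth.RigFlat65.IsRig (I.map (algebraMap A B1)) qf :=
    Groth.RigFlat65.rig_congr ((Groth.RigFlat65.CL.map_map _ _).trans hIB) hqf
  obtain ⟨M, hM, hqM⟩ := Ideal.exists_le_maximal qf.asIdeal qf.isPrime.ne_top
  haveI := hM
  have hJM : (I.map (algebraMap A B)).map (algebraMap B B1) ≤ M :=
    (IsAdicComplete.le_jacobson_bot _).trans (sInf_le ⟨bot_le, hM⟩)
  have hfP : algebraMap A B f ∉ M.comap (algebraMap B B1) := fun h =>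
    hM.ne_top (Ideal.eq_top_of_isUnit_mem M h hclB1.unit)
  obtain ⟨Q0, hQ0, hQ0c⟩ := Ideal.exists_isPrime_liesOver_of_faithfullyFlat (B := B') (M.comap (algebraMap B B1))
  haveI := hQ0
  have hQ0c' : Q0.comap (algebraMap B B') = M.comap (algebraMap B B1) := hQ0c.over.symm
  obtain ⟨Q, hQI, hQc⟩ := hclB'1.exists_prime_over Q0
    (by rw [← Groth.RigFlat65.map_tower B B' I, Ideal.map_le_iff_le_comap, hQ0c']; exact Ideal.map_le_iff_le_comap.mp hJM)
    (fun h => hfP (by
      rw [← hQ0c', Ideal.mem_comap, ← IsScalarTower.algebraMap_apply A B B']; exact h))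
  have hJQ : (I.map (algebraMap A B1)).map (algebraMap B1 B'1) ≤ Q.asIdeal := by
    rw [Groth.RigFlat65.map_tower B1 B'1 I, ← Groth.RigFlat65.map_tower B' B'1 I]; exact hQI
  have hQB : (Q.asIdeal.comap (algebraMap B1 B'1)).comap (algebraMap B B1) = M.comap (algebraMap B B1) := by
    rw [← hQ0c', ← hQc, Ideal.comap_comap, Ideal.comap_comap, ← IsScalarTower.algebraMap_eq,
      ← IsScalarTower.algebraMap_eq]
  have hJQ1 : (I.map (algebraMap A B)).map (algebraMap B B1) ≤ Q.asIdeal.comap (algebraMap B1 B'1) := by
    rw [← Ideal.map_le_iff_le_comap, hIB]; exact hJQ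
  have hQM : Q.asIdeal.comap (algebraMap B1 B'1) = M := le_antisymm
    (hclB1.le_of_comap_le hJQ1 hJM hQB.le) (hclB1.le_of_comap_le hJM hJQ1 hQB.ge)
  haveI hB1B' : IsAdicComplete ((I.map (algebraMap A B1)).map (algebraMap B1 B'1)) B'1 :=
    Groth.RigFlat65.complete_congr (Groth.RigFlat65.map_tower B1 B'1 I).symm hB'c
  haveI := hftB'B
  have hft1 : Algebra.FiniteType B1 (B'1 ⧸ (I.map (algebraMap A B1)).map (algebraMap B1 B'1)) :=
    Groth.RigFlat65.finiteType_congr (Groth.RigFlat65.map_tower B1 B'1 I).symm
      (Groth.RigFlat65.finiteType_up B1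
        (Groth.RigFlat65.finiteType_congr (Groth.RigFlat65.map_tower B' B'1 I) (hclB'1.finiteType (A := B))))
  obtain ⟨q', hq', hq'c⟩ := (Groth.Agent.S8836.result B1 (I.map (algebraMap A B1)) B'1 hft1 qf hqf').mp
    ⟨Q, hJQ, by rw [PrimeSpectrum.comap_asIdeal, hQM]; exact hqM, by rw [PrimeSpectrum.comap_asIdeal, hQM]; exact hM⟩
  have h1 := Groth.RigFlat65.flatAt_of_ringHom (T := A'1) (S := B'1) (hA'B' (algebraMap A A' f) φA'
    (Groth.RigFlat65.CL.comp_of_tower (I := I.map (algebraMap A A')) (J := (I.map (algebraMap A A')).map (algebraMap A' B'))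
      (fun a => IsLocalization.map_eq _ a)
      (fun a => (hA' a).trans (IsScalarTower.algebraMap_apply A' B' B'1 a)))
    q' (Groth.RigFlat65.rig_congr ((((Groth.RigFlat65.map_tower B1 B'1 I).trans
      (Groth.RigFlat65.map_tower B' B'1 I).symm).trans
        (congrArg (Ideal.map (algebraMap B' B'1)) (Groth.RigFlat65.map_tower A' B' I).symm)).trans
          (Groth.RigFlat65.CL.map_map _ _).symm) hq'))
  exact (Groth.RigFlat65.FlatAt.descend (T := A1) (T' := A'1) (S := B1) (S' := B'1)
    (congrArg PrimeSpectrum.asIdeal hq'c) h1).ringHom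

end Groth.Agent.S8844
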