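import Groth.Statements.S8845
import Mathlib
import Groth.Agent.RigFlat65.Flat
import Groth.Agent.RigFlat65.Hom
import Groth.Agent.RigFlat65.Congr
import Groth.Agent.RigFlat65.Etale
import Groth.Agent.S8838


set_option autoImplicit false
universe u
open AdicRing

namespace Groth.Agent.S8845

/-- Consider a commutative square of adic Noetherian topological rings with all maps adic and
topologically of finite type: A a Noetherian ring complete for the adic topology of an ideal I (the
ideal of definition used below); B, A' and B' Noetherian algebras complete for the IB-, IA'- and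
IB'-adic topologies, B' an algebra over B and over A' compatibly with A, with B/IB and A'/IA' of
finite type over A and B'/IB' of finite type over B and over A'. Assume A → A' and B → B' are flat
and A/I → A'/IA' is étale. If A → B is rig-flat — for every f ∈ A, every ring map ψ : A_{f} → B_{f}
of completed principal localizations compatible with the map of ordinary localizations A[1/f] →
B[1/f] (there is exactly one), and every rig-closed prime q of B_{f} (I B_{f} ⊄ q and q maximal
among the primes not containing I B_{f}), the local ring (B_{f})_q is flat over A_{f} via ψ — then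
A' → B' is rig-flat in the same form: for every f' ∈ A', every ring map A'_{f'} → B'_{f'} of
completed principal localizations compatible with the map of ordinary localizations A'[1/f'] →
B'[1/f'], and every rig-closed prime q' of B'_{f'}, the local ring (B'_{f'})_{q'} is flat over
A'_{f'}. -/
theorem result (A : Type u) [CommRing A] [IsNoetherianRing A] (I : Ideal A) [IsAdicComplete I A] (B : Type u) [CommRing B] [Algebra A B] [IsNoetherianRing B] [IsAdicComplete (I.map (algebraMap A B)) B] (hftB : Algebra.FiniteType A (B ⧸ (I.map (algebraMap A B)))) (A' : Type u) [CommRing A'] [Algebra A A'] [IsNoetherianRing A'] [IsAdicComplete (I.map (algebraMap A A')) A'] (hftA' : Algebra.FiniteType A (A' ⧸ (I.map (algebraMap A A')))) (B' : Type u) [CommRing B'] [Algebra A B'] [Algebra B B'] [Algebra A' B'] [IsScalarTower A B B'] [IsScalarTower A A' B'] [IsNoetherianRing B'] [IsAdicComplete (I.map (algebraMap A B')) B'] (hftB'B : Algebra.FiniteType B (B' ⧸ (I.map (algebraMap A B')))) (hftB'A' : Algebra.FiniteType A' (B' ⧸ (I.map (algebraMap A B')))) [Module.Flat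 A A'] [Module.Flat B B'] [Algebra.Etale (A ⧸ I) (A' ⧸ (I.map (algebraMap A A')))] (hAB : (∀ f : A, ∀ ψf : (AdicCompletion (I.map (algebraMap A (Localization.Away f))) (Localization.Away f)) →+* (AdicCompletion ((I.map (algebraMap A B)).map (algebraMap B (Localization.Away (algebraMap A B f)))) (Localization.Away (algebraMap A B f))), ψf.comp (algebraMap (Localization.Away f) (AdicCompletion (I.map (algebraMap A (Localization.Away f))) (Localization.Away f))) = (algebraMap (Localization.Away (algebraMap A B f)) (AdicCompletion ((I.map (algebraMap A B)).map (algebraMap B (Localization.Away (algebraMap A B f)))) (Localization.Away (algebraMap A B f)))).comp (Localization.awayMap (algebraMap A B) f) → ∀ qf : PrimeSpectrum (AdicCompletion ((I.map (algebraMap A B)).map (algebraMap B (Localization.Away (algebraMap A B f)))) (Localization.Away (algebraMap A B f))), (¬ (((I.map (algebraMap A B)).map (algebraMap B (Localization.Away (algebraMap A B f)))).map (algebraMap (Localization.Away (algebraMap A B f)) (AdicCompletion ((I.map (algebraMap A B)).map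 (algebraMap B (Localization.Away (algebraMap A B f)))) (Localization.Away (algebraMap A B f))))) ≤ qf.asIdeal ∧ ∀ y : PrimeSpectrum (AdicCompletion ((I.map (algebraMap A B)).map (algebraMap B (Localization.Away (algebraMap A B f)))) (Localization.Away (algebraMap A B f))), qf ≤ y → ¬ (((I.map (algebraMap A B)).map (algebraMap B (Localization.Away (algebraMap A B f)))).map (algebraMap (Localization.Away (algebraMap A B f)) (AdicCompletion ((I.map (algebraMap A B)).map (algebraMap B (Localization.Away (algebraMap A B f)))) (Localization.Away (algebraMap A B f))))) ≤ y.asIdeal → y = qf) → ((algebraMap (AdicCompletion ((I.map (algebraMap A B)).map (algebraMap B (Localization.Away (algebraMap A B f)))) (Localization.Away (algebraMap A B f))) (Localization.AtPrime qf.asIdeal)).comp ψf).Flat)) : (∀ f' : A', ∀ ψf' : (AdicCompletion ((I.map (algebraMap A A')).map (algebraMap A' (Localization.Away f'))) (Localization.Away f')) →+* (AdicCompletion (((I.map (algebraMap A A')).map (algebraMap A' B')).map (algebraMap B' (Localization.Away (algebraMap A'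 B' f')))) (Localization.Away (algebraMap A' B' f'))), ψf'.comp (algebraMap (Localization.Away f') (AdicCompletion ((I.map (algebraMap A A')).map (algebraMap A' (Localization.Away f'))) (Localization.Away f'))) = (algebraMap (Localization.Away (algebraMap A' B' f')) (AdicCompletion (((I.map (algebraMap A A')).map (algebraMap A' B')).map (algebraMap B' (Localization.Away (algebraMap A' B' f')))) (Localization.Away (algebraMap A' B' f')))).comp (Localization.awayMap (algebraMap A' B') f') → ∀ qf' : PrimeSpectrum (AdicCompletion (((I.map (algebraMap A A')).map (algebraMap A' B')).map (algebraMap B' (Localization.Away (algebraMap A' B' f')))) (Localization.Away (algebraMap A' B' f'))), (¬ ((((I.map (algebraMap A A')).map (algebraMap A' B')).map (algebraMap B' (Localization.Away (algebraMap A' B' f')))).map (algebraMap (Localization.Away (algebraMap A' B' f')) (AdicCompletion (((I.map (algebraMap A A')).map (algebraMap A' B')).map (algebraMap B' (Localization.Away (algebraMap A' B' f')))) (Localization.Away (algebraMap A' B' f'))))) ≤ qf'.asIdeal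 ∧ ∀ y : PrimeSpectrum (AdicCompletion (((I.map (algebraMap A A')).map (algebraMap A' B')).map (algebraMap B' (Localization.Away (algebraMap A' B' f')))) (Localization.Away (algebraMap A' B' f'))), qf' ≤ y → ¬ ((((I.map (algebraMap A A')).map (algebraMap A' B')).map (algebraMap B' (Localization.Away (algebraMap A' B' f')))).map (algebraMap (Localization.Away (algebraMap A' B' f')) (AdicCompletion (((I.map (algebraMap A A')).map (algebraMap A' B')).map (algebraMap B' (Localization.Away (algebraMap A' B' f')))) (Localization.Away (algebraMap A' B' f'))))) ≤ y.asIdeal → y = qf') → ((algebraMap (AdicCompletion (((I.map (algebraMap A A')).map (algebraMap A' B')).map (algebraMap B' (Localization.Away (algebraMap A' B' f')))) (Localization.Away (algebraMap A' B' f'))) (Localization.AtPrime qf'.asIdeal)).comp ψf').Flat) := by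
  intro f' ψf' hψf' q' hq'
  let A'1 := Groth.RigFlat65.CL (I.map (algebraMap A A')) f'
  let B'1 := Groth.RigFlat65.CL ((I.map (algebraMap A A')).map (algebraMap A' B')) (algebraMap A' B' f')
  have hclA'1 := Groth.RigFlat65.isCL_completion (I.map (algebraMap A A')) f'
  have hclB'1 : Groth.RigFlat65.IsCL (I.map (algebraMap A B')) (algebraMap A' B' f') B'1 :=
    Groth.RigFlat65.cl_congr (Groth.RigFlat65.map_tower A' B' I) rfl
      (Groth.RigFlat65.isCL_completion ((I.map (algebraMap A A')).map (algebraMap A' B')) (algebraMap A' B' f'))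
  haveI : IsScalarTower A A' A'1 := IsScalarTower.of_algebraMap_eq fun a => rfl
  haveI : IsScalarTower A B' B'1 := IsScalarTower.of_algebraMap_eq fun a => rfl
  haveI : IsScalarTower A' B' B'1 := IsScalarTower.of_algebraMap_eq fun a => rfl
  haveI : IsNoetherianRing A'1 := hclA'1.noeth
  haveI : IsNoetherianRing B'1 := hclB'1.noeth
  have hJ1 := Groth.RigFlat65.map_tower B' B'1 I
  haveI hB'1c : IsAdicComplete (I.map (algebraMap A B'1)) B'1 := Groth.RigFlat65.complete_congr hJ1 hclB'1.complete
  haveI hftAB' : Algebra.FiniteType A (B' ⧸ I.map (algebraMap A B')) := Groth.RigFlat65.finiteType_trans I hftB hftB'B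
  have hftB'1 : Algebra.FiniteType A (B'1 ⧸ I.map (algebraMap A B'1)) :=
    Groth.RigFlat65.finiteType_congr hJ1 hclB'1.finiteType
  have hq'1 : Groth.RigFlat65.IsRig (I.map (algebraMap A B'1)) q' :=
    Groth.RigFlat65.rig_congr (((Groth.RigFlat65.CL.map_map _ _).trans
      (congrArg (Ideal.map (algebraMap B' B'1)) (Groth.RigFlat65.map_tower A' B' I))).trans hJ1) hq'
  obtain ⟨g, hg, href⟩ := Groth.RigFlat65.refine_point (A := A) (S := B'1) I rfl hftB'1 hq'1
  -- the refined completed localizations
  let A2 := Groth.RigFlat65.CL I g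
  let B2 := Groth.RigFlat65.CL (I.map (algebraMap A B)) (algebraMap A B g)
  let A'2 := Groth.RigFlat65.CL (I.map (algebraMap A A')) (f' * algebraMap A A' g)
  let B'2 := Groth.RigFlat65.CL ((I.map (algebraMap A A')).map (algebraMap A' B'))
    (algebraMap A' B' (f' * algebraMap A A' g))
  have hclA2 := Groth.RigFlat65.isCL_completion I g
  have hclB2 := Groth.RigFlat65.isCL_completion (I.map (algebraMap A B)) (algebraMap A B g)
  have hclA'2 := Groth.RigFlat65.isCL_completion (I.map (algebraMap A A')) (f' * algebraMap A A' g)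
  have hclB'2 : Groth.RigFlat65.IsCL (I.map (algebraMap A B')) (algebraMap A' B' f' * algebraMap A B' g) B'2 :=
    Groth.RigFlat65.cl_congr (Groth.RigFlat65.map_tower A' B' I)
      (by rw [map_mul, ← IsScalarTower.algebraMap_apply])
      (Groth.RigFlat65.isCL_completion ((I.map (algebraMap A A')).map (algebraMap A' B'))
        (algebraMap A' B' (f' * algebraMap A A' g)))
  haveI : IsScalarTower A B B2 := IsScalarTower.of_algebraMap_eq fun a => rfl
  haveI : IsScalarTower A A' A'2 := IsScalarTower.of_algebraMap_eq fun a => rfl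
  haveI : IsScalarTower A B' B'2 := IsScalarTower.of_algebraMap_eq fun a => rfl
  haveI : IsScalarTower A' B' B'2 := IsScalarTower.of_algebraMap_eq fun a => rfl
  haveI : IsScalarTower B B' B'2 := IsScalarTower.of_algebraMap_eq fun a => rfl
  haveI : IsScalarTower A A' B'2 := IsScalarTower.of_algebraMap_eq fun a => by
    rw [IsScalarTower.algebraMap_apply A B' B'2, IsScalarTower.algebraMap_apply A A' B',
      ← IsScalarTower.algebraMap_apply A' B' B'2]
  haveI : IsScalarTower A B B'2 := IsScalarTower.of_algebraMap_eq fun a => by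
    rw [IsScalarTower.algebraMap_apply A B' B'2, IsScalarTower.algebraMap_apply A B B',
      ← IsScalarTower.algebraMap_apply B B' B'2]
  haveI : IsNoetherianRing A2 := hclA2.noeth
  haveI : IsNoetherianRing B2 := hclB2.noeth
  haveI : IsNoetherianRing A'2 := hclA'2.noeth
  haveI : IsNoetherianRing B'2 := hclB'2.noeth
  haveI hA2c : IsAdicComplete (I.map (algebraMap A A2)) A2 := hclA2.complete
  have hB2c : IsAdicComplete (I.map (algebraMap A B2)) B2 :=
    Groth.RigFlat65.complete_congr (Groth.RigFlat65.map_tower B B2 I) hclB2.complete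
  haveI hA'2c : IsAdicComplete (I.map (algebraMap A A'2)) A'2 :=
    Groth.RigFlat65.complete_congr (Groth.RigFlat65.map_tower A' A'2 I) hclA'2.complete
  haveI hB'2c : IsAdicComplete (I.map (algebraMap A B'2)) B'2 :=
    Groth.RigFlat65.complete_congr (Groth.RigFlat65.map_tower B' B'2 I) hclB'2.complete
  have huA' : IsUnit (algebraMap A A'2 g) :=
    Groth.RigFlat65.isUnit_down (B := A') (Groth.RigFlat65.isUnit_right _ hclA'2.unit)
  have huB' : IsUnit (algebraMap A B'2 g) :=
    Groth.RigFlat65.isUnit_down (B := B') (Groth.RigFlat65.isUnit_right _ hclB'2.unit)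
  have huA'B' : IsUnit (algebraMap A' B'2 (f' * algebraMap A A' g)) :=
    Groth.RigFlat65.isUnit_down (B := B') (Groth.RigFlat65.isCL_completion
      ((I.map (algebraMap A A')).map (algebraMap A' B')) (algebraMap A' B' (f' * algebraMap A A' g))).unit
  obtain ⟨φAB, hAB2⟩ := Groth.RigFlat65.CL.exists_hom (J := I) (f := g) (K := I.map (algebraMap A B2))
    (algebraMap A B2) (Groth.RigFlat65.isUnit_down (B := B) hclB2.unit) le_rfl
  obtain ⟨φA, hA2⟩ := Groth.RigFlat65.CL.exists_hom (J := I) (f := g) (K := I.map (algebraMap A A'2))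
    (algebraMap A A'2) huA' le_rfl
  obtain ⟨φB, hB2⟩ := Groth.RigFlat65.CL.exists_hom (J := I.map (algebraMap A B)) (f := algebraMap A B g)
    (K := I.map (algebraMap A B'2)) (algebraMap B B'2) (Groth.RigFlat65.isUnit_up huB')
    (Groth.RigFlat65.map_tower B B'2 I).le
  obtain ⟨φA', hA'2⟩ := Groth.RigFlat65.CL.exists_hom (J := I.map (algebraMap A A')) (f := f' * algebraMap A A' g)
    (K := I.map (algebraMap A B'2)) (algebraMap A' B'2) huA'B' (Groth.RigFlat65.map_tower A' B'2 I).le
  obtain ⟨θA', hθA'⟩ := Groth.RigFlat65.CL.exists_hom (J := I.map (algebraMap A A')) (f := f')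
    (K := I.map (algebraMap A A'2)) (algebraMap A' A'2) (Groth.RigFlat65.isUnit_left _ hclA'2.unit)
    (Groth.RigFlat65.map_tower A' A'2 I).le
  obtain ⟨θB', hθB'⟩ := Groth.RigFlat65.CL.exists_hom (J := (I.map (algebraMap A A')).map (algebraMap A' B'))
    (f := algebraMap A' B' f') (K := I.map (algebraMap A B'2)) (algebraMap B' B'2)
    (Groth.RigFlat65.isUnit_left _ hclB'2.unit)
    ((congrArg (Ideal.map (algebraMap B' B'2)) (Groth.RigFlat65.map_tower A' B' I)).trans
      (Groth.RigFlat65.map_tower B' B'2 I)).le
  letI : Algebra A2 B2 := φAB.toAlgebra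
  letI : Algebra A2 A'2 := φA.toAlgebra
  letI : Algebra B2 B'2 := φB.toAlgebra
  letI : Algebra A'2 B'2 := φA'.toAlgebra
  letI : Algebra A2 B'2 := (φB.comp φAB).toAlgebra
  letI : Algebra A'1 A'2 := θA'.toAlgebra
  letI : Algebra B'1 B'2 := θB'.toAlgebra
  letI : Algebra A'1 B'1 := ψf'.toAlgebra
  letI : Algebra A'1 B'2 := (φA'.comp θA').toAlgebra
  haveI : IsScalarTower A A2 B2 := IsScalarTower.of_algebraMap_eq fun a => (hAB2 a).symm
  haveI : IsScalarTower A A2 A'2 := IsScalarTower.of_algebraMap_eq fun a => (hA2 a).symm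
  haveI : IsScalarTower B B2 B'2 := IsScalarTower.of_algebraMap_eq fun a => (hB2 a).symm
  haveI : IsScalarTower A' A'2 B'2 := IsScalarTower.of_algebraMap_eq fun a => (hA'2 a).symm
  haveI : IsScalarTower A' A'1 A'2 := IsScalarTower.of_algebraMap_eq fun a => (hθA' a).symm
  haveI : IsScalarTower B' B'1 B'2 := IsScalarTower.of_algebraMap_eq fun a => (hθB' a).symm
  haveI : IsScalarTower A2 B2 B'2 := IsScalarTower.of_algebraMap_eq fun a => rfl
  haveI : IsScalarTower A'1 A'2 B'2 := IsScalarTower.of_algebraMap_eq fun a => rfl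
  haveI : IsScalarTower A A'2 B'2 := IsScalarTower.of_algebraMap_eq fun a => by
    rw [IsScalarTower.algebraMap_apply A A' A'2, ← IsScalarTower.algebraMap_apply A' A'2 B'2,
      ← IsScalarTower.algebraMap_apply A A' B'2]
  haveI : IsScalarTower A A2 B'2 := IsScalarTower.of_algebraMap_eq fun a => by
    show _ = φB (φAB (algebraMap A A2 a))
    rw [hAB2, IsScalarTower.algebraMap_apply A B B2, hB2, ← IsScalarTower.algebraMap_apply A B B'2]
  haveI : IsScalarTower A2 A'2 B'2 := hclA2.tower
  haveI : IsScalarTower A B'1 B'2 := IsScalarTower.of_algebraMap_eq fun a => by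
    rw [IsScalarTower.algebraMap_apply A B' B'1, ← IsScalarTower.algebraMap_apply B' B'1 B'2,
      ← IsScalarTower.algebraMap_apply A B' B'2]
  haveI : IsScalarTower A' A'1 B'1 := IsScalarTower.of_algebraMap_eq fun a =>
    ((Groth.RigFlat65.CL.tower_of_comp (I := I.map (algebraMap A A'))
      (J := (I.map (algebraMap A A')).map (algebraMap A' B')) (f := f') rfl
      (fun a => IsLocalization.map_eq _ a) hψf' a).trans (IsScalarTower.algebraMap_apply A' B' B'1 a).symm).symm
  haveI : IsScalarTower A' B'1 B'2 := IsScalarTower.of_algebraMap_eq fun a => by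
    rw [IsScalarTower.algebraMap_apply A' B' B'1, ← IsScalarTower.algebraMap_apply B' B'1 B'2,
      ← IsScalarTower.algebraMap_apply A' B' B'2]
  haveI : IsScalarTower A' A'1 B'2 := IsScalarTower.of_algebraMap_eq fun a => by
    show _ = φA' (θA' (algebraMap A' A'1 a))
    rw [hθA', hA'2]
  haveI hB'2cA' : IsAdicComplete ((I.map (algebraMap A A')).map (algebraMap A' B'2)) B'2 :=
    Groth.RigFlat65.complete_congr (Groth.RigFlat65.map_tower A' B'2 I).symm hB'2c
  haveI : IsScalarTower A'1 B'1 B'2 := hclA'1.tower
  -- the points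
  have hclB'12 : Groth.RigFlat65.IsCL (I.map (algebraMap A B'1)) (algebraMap A B'1 g) B'2 :=
    Groth.RigFlat65.cl_congr hJ1 (IsScalarTower.algebraMap_apply A B' B'1 g).symm (hclB'1.of_mul hclB'2)
  obtain ⟨q2, -, hq2c, hq2, hp2⟩ := href A2 B'2 hclA2.unit hclB'12
  have hq2' : Groth.RigFlat65.IsRig (I.map (algebraMap A B'2)) q2 :=
    Groth.RigFlat65.rig_congr (Groth.RigFlat65.map_tower B'1 B'2 I) hq2
  have hq2'' : Groth.RigFlat65.IsRig ((I.map (algebraMap A A2)).map (algebraMap A2 B'2)) q2 :=
    Groth.RigFlat65.rig_congr (Groth.RigFlat65.map_tower A2 B'2 I).symm hq2'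
  haveI : IsAdicComplete ((I.map (algebraMap A A2)).map (algebraMap A2 B'2)) B'2 :=
    Groth.RigFlat65.complete_congr (Groth.RigFlat65.map_tower A2 B'2 I).symm hB'2c
  have hft2 : Algebra.FiniteType A2 (B'2 ⧸ (I.map (algebraMap A A2)).map (algebraMap A2 B'2)) :=
    Groth.RigFlat65.finiteType_congr (Groth.RigFlat65.map_tower A2 B'2 I).symm
      (Groth.RigFlat65.finiteType_up A2
        (Groth.RigFlat65.finiteType_congr (Groth.RigFlat65.map_tower B' B'2 I) (hclB'2.finiteType (A := A))))
  obtain ⟨hqB, -⟩ := Groth.RigFlat65.rig_intermediate (T := A2) (U := B2) (S := B'2) hft2 hq2'' hp2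
  obtain ⟨hqA', -⟩ := Groth.RigFlat65.rig_intermediate (T := A2) (U := A'2) (S := B'2) hft2 hq2'' hp2
  set p' := PrimeSpectrum.comap (algebraMap A'2 B'2) q2 with hp'def
  have hpp : PrimeSpectrum.comap (algebraMap A2 A'2) p' = PrimeSpectrum.comap (algebraMap A2 B'2) q2 := by
    rw [IsScalarTower.algebraMap_eq A2 A'2 B'2, PrimeSpectrum.comap_comp_apply]
  -- flatness
  haveI : Module.Flat A' A'2 := hclA'2.flat
  haveI : Module.Flat A A'2 := Module.Flat.trans A A' A'2
  haveI : Module.Flat A2 A'2 := hclA2.flat_of_flat_base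
  haveI : Module.Flat B' B'2 := hclB'2.flat
  haveI : Module.Flat B B'2 := Module.Flat.trans B B' B'2
  haveI : IsAdicComplete ((I.map (algebraMap A B)).map (algebraMap B B'2)) B'2 :=
    Groth.RigFlat65.complete_congr (Groth.RigFlat65.map_tower B B'2 I).symm hB'2c
  haveI : Module.Flat B2 B'2 := hclB2.flat_of_flat_base
  haveI : Module.Flat A'1 A'2 := (hclA'1.of_mul hclA'2).flat
  haveI : Module.Flat B'1 B'2 := hclB'12.flat
  have h1 := Groth.RigFlat65.flatAt_of_ringHom (T := A2) (S := B2) (hAB g φAB
    (Groth.RigFlat65.CL.comp_of_tower (I := I) (J := I.map (algebraMap A B)) (f := g)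
      (fun a => IsLocalization.map_eq _ a)
      (fun a => (hAB2 a).trans (IsScalarTower.algebraMap_apply A B B2 a)))
    (PrimeSpectrum.comap (algebraMap B2 B'2) q2)
    (Groth.RigFlat65.rig_congr (((Groth.RigFlat65.map_tower A2 B2 I).trans
      (Groth.RigFlat65.map_tower B B2 I).symm).trans (Groth.RigFlat65.CL.map_map _ _).symm) hqB))
  have h2 : Groth.RigFlat65.FlatAt A2 q2 := h1.comp (Groth.RigFlat65.flatAt_of_flat B2 q2)
  haveI : Algebra.Etale (A2 ⧸ I.map (algebraMap A A2)) (A'2 ⧸ (I.map (algebraMap A A2)).map (algebraMap A2 A'2)) :=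
    Groth.RigFlat65.etale_cl I hclA2 hclA'2
  haveI : IsAdicComplete ((I.map (algebraMap A A2)).map (algebraMap A2 A'2)) A'2 :=
    Groth.RigFlat65.complete_congr (Groth.RigFlat65.map_tower A2 A'2 I).symm hA'2c
  haveI := hftA'
  have hftA'2 : Algebra.FiniteType A2 (A'2 ⧸ (I.map (algebraMap A A2)).map (algebraMap A2 A'2)) :=
    Groth.RigFlat65.finiteType_congr (Groth.RigFlat65.map_tower A2 A'2 I).symm
      (Groth.RigFlat65.finiteType_up A2
        (Groth.RigFlat65.finiteType_congr (Groth.RigFlat65.map_tower A' A'2 I) (hclA'2.finiteType (A := A))))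
  have hmax := Groth.Agent.S8838.result A2 (I.map (algebraMap A A2)) A'2 hftA'2 p' hqA' (hpp.symm ▸ hp2)
  have h3 := Groth.RigFlat65.FlatAt.up (T := A2) (T' := A'2) (p' := p') hp'def.symm
    (PrimeSpectrum.comap (algebraMap A2 A'2) p').asIdeal hmax h2
  exact (Groth.RigFlat65.FlatAt.descend (T := A'1) (T' := A'2) (S := B'1) (S' := B'2) hq2c h3).ringHom

end Groth.Agent.S8845
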