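import Groth.Statements.S8846
import Mathlib
import Groth.Agent.RigFlat65.Flat
import Groth.Agent.RigFlat65.Hom
import Groth.Agent.RigFlat65.Congr
import Groth.Agent.RigFlat65.TensorCL
import Groth.Agent.RigFlat65.BaseChangeCore
import Groth.Agent.Calg1.Completion


set_option autoImplicit false
universe u
open scoped TensorProduct
open AdicRing

namespace Groth.Agent.S8846

/-- Let A be a Noetherian ring complete for the adic topology of an ideal I, and B a Noetherian
A-algebra complete for the IB-adic topology with B/IB of finite type over A (an adic morphism,
topologically of finite type, of adic Noetherian topological rings), and assume A → B is rig-flat in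
the following form: for every f ∈ A, every ring map ψ : A_{f} → B_{f} of completed principal
localizations compatible with A_f → B_f (there is exactly one), and every rig-closed prime q of
B_{f} (I B_{f} ⊄ q and q maximal among the primes not containing I B_{f}), the local ring (B_{f})_q
is flat over A_{f} via ψ. Let C be a Noetherian A-algebra complete for the IC-adic topology with
C/IC of finite type over A (A → C adic and topologically of finite type), and let D be the completed
tensor product B ⊗̂_A C, i.e. the I-adic completion of C ⊗_A B, viewed as a C-algebra. Then C → D is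
rig-flat in the same form: for every h ∈ C, every ring map C_{h} → D_{h} compatible with C_h → D_h,
and every rig-closed prime q of D_{h}, the local ring (D_{h})_q is flat over C_{h}. (That D is
Noetherian and C → D adic and topologically of finite type is not restated.) -/
theorem result (A : Type u) [CommRing A] [IsNoetherianRing A] (I : Ideal A) [IsAdicComplete I A] (B : Type u) [CommRing B] [Algebra A B] [IsNoetherianRing B] [IsAdicComplete (I.map (algebraMap A B)) B] (hft : Algebra.FiniteType A (B ⧸ (I.map (algebraMap A B)))) (hAB : (∀ f : A, ∀ ψf : (AdicCompletion (I.map (algebraMap A (Localization.Away f))) (Localization.Away f)) →+* (AdicCompletion ((I.map (algebraMap A B)).map (algebraMap B (Localization.Away (algebraMap A B f)))) (Localization.Away (algebraMap A B f))), ψf.comp (algebraMap (Localization.Away f) (AdicCompletion (I.map (algebraMap A (Localization.Away f))) (Localization.Away f))) = (algebraMap (Localization.Away (algebraMap A B f)) (AdicCompletion ((I.map (algebraMap A B)).map (algebraMap B (Localization.Away (algebraMap A B f)))) (Localization.Away (algebraMap A B f)))).comp (Localization.awayMap (algebraMap A B) f) → ∀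 qf : PrimeSpectrum (AdicCompletion ((I.map (algebraMap A B)).map (algebraMap B (Localization.Away (algebraMap A B f)))) (Localization.Away (algebraMap A B f))), (¬ (((I.map (algebraMap A B)).map (algebraMap B (Localization.Away (algebraMap A B f)))).map (algebraMap (Localization.Away (algebraMap A B f)) (AdicCompletion ((I.map (algebraMap A B)).map (algebraMap B (Localization.Away (algebraMap A B f)))) (Localization.Away (algebraMap A B f))))) ≤ qf.asIdeal ∧ ∀ y : PrimeSpectrum (AdicCompletion ((I.map (algebraMap A B)).map (algebraMap B (Localization.Away (algebraMap A B f)))) (Localization.Away (algebraMap A B f))), qf ≤ y → ¬ (((I.map (algebraMap A B)).map (algebraMap B (Localization.Away (algebraMap A B f)))).map (algebraMap (Localization.Away (algebraMap A B f)) (AdicCompletion ((I.map (algebraMap A B)).map (algebraMap B (Localization.Away (algebraMap A B f)))) (Localization.Away (algebraMap A B f))))) ≤ y.asIdeal → y = qf) → ((algebraMap (AdicCompletion ((I.map (algebraMap A B)).map (algebraMap B (Localization.Away (algebraMap A B f)))) (Localization.Away (algebraMap A B f))) (Localization.AtPrime qf.asIdeal)).comp ψf).Flat)) (C : Type u) [CommRing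 C] [Algebra A C] [IsNoetherianRing C] [IsAdicComplete (I.map (algebraMap A C)) C] (hftC : Algebra.FiniteType A (C ⧸ (I.map (algebraMap A C)))) : (∀ h : C, ∀ ψh : (AdicCompletion ((I.map (algebraMap A C)).map (algebraMap C (Localization.Away h))) (Localization.Away h)) →+* (AdicCompletion (((I.map (algebraMap A C)).map (algebraMap C (AdicCompletion ((I.map (algebraMap A C)).map (algebraMap C (TensorProduct A C B))) (TensorProduct A C B)))).map (algebraMap (AdicCompletion ((I.map (algebraMap A C)).map (algebraMap C (TensorProduct A C B))) (TensorProduct A C B)) (Localization.Away (algebraMap C (AdicCompletion ((I.map (algebraMap A C)).map (algebraMap C (TensorProduct A C B))) (TensorProduct A C B)) h)))) (Localization.Away (algebraMap C (AdicCompletion ((I.map (algebraMap A C)).map (algebraMap C (TensorProduct A C B))) (TensorProduct A C B)) h))), ψh.comp (algebraMap (Localization.Away h) (AdicCompletion ((I.map (algebraMap A C)).map (algebraMap C (Localization.Away h))) (Localization.Away h))) = (algebraMap (Localization.Away (algebraMap C (AdicCompletion ((I.map (algebraMap A C)).map (algebraMap C (TensorProduct A C B))) (TensorProduct A C B)) h))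 (AdicCompletion (((I.map (algebraMap A C)).map (algebraMap C (AdicCompletion ((I.map (algebraMap A C)).map (algebraMap C (TensorProduct A C B))) (TensorProduct A C B)))).map (algebraMap (AdicCompletion ((I.map (algebraMap A C)).map (algebraMap C (TensorProduct A C B))) (TensorProduct A C B)) (Localization.Away (algebraMap C (AdicCompletion ((I.map (algebraMap A C)).map (algebraMap C (TensorProduct A C B))) (TensorProduct A C B)) h)))) (Localization.Away (algebraMap C (AdicCompletion ((I.map (algebraMap A C)).map (algebraMap C (TensorProduct A C B))) (TensorProduct A C B)) h)))).comp (Localization.awayMap (algebraMap C (AdicCompletion ((I.map (algebraMap A C)).map (algebraMap C (TensorProduct A C B))) (TensorProduct A C B))) h) → ∀ qh : PrimeSpectrum (AdicCompletion (((I.map (algebraMap A C)).map (algebraMap C (AdicCompletion ((I.map (algebraMap A C)).map (algebraMap C (TensorProduct A C B))) (TensorProduct A C B)))).map (algebraMap (AdicCompletion ((I.map (algebraMap A C)).map (algebraMap C (TensorProduct A C B))) (TensorProduct A C B)) (Localization.Away (algebraMap C (AdicCompletion ((I.map (algebraMap A C)).map (algebraMap C (TensorProduct A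 C B))) (TensorProduct A C B)) h)))) (Localization.Away (algebraMap C (AdicCompletion ((I.map (algebraMap A C)).map (algebraMap C (TensorProduct A C B))) (TensorProduct A C B)) h))), (¬ ((((I.map (algebraMap A C)).map (algebraMap C (AdicCompletion ((I.map (algebraMap A C)).map (algebraMap C (TensorProduct A C B))) (TensorProduct A C B)))).map (algebraMap (AdicCompletion ((I.map (algebraMap A C)).map (algebraMap C (TensorProduct A C B))) (TensorProduct A C B)) (Localization.Away (algebraMap C (AdicCompletion ((I.map (algebraMap A C)).map (algebraMap C (TensorProduct A C B))) (TensorProduct A C B)) h)))).map (algebraMap (Localization.Away (algebraMap C (AdicCompletion ((I.map (algebraMap A C)).map (algebraMap C (TensorProduct A C B))) (TensorProduct A C B)) h)) (AdicCompletion (((I.map (algebraMap A C)).map (algebraMap C (AdicCompletion ((I.map (algebraMap A C)).map (algebraMap C (TensorProduct A C B))) (TensorProduct A C B)))).map (algebraMap (AdicCompletion ((I.map (algebraMap A C)).map (algebraMap C (TensorProduct A C B))) (TensorProduct A C B)) (Localization.Away (algebraMap C (AdicCompletion ((I.map (algebraMap A C)).map (algebraMap C (TensorProduct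 A C B))) (TensorProduct A C B)) h)))) (Localization.Away (algebraMap C (AdicCompletion ((I.map (algebraMap A C)).map (algebraMap C (TensorProduct A C B))) (TensorProduct A C B)) h))))) ≤ qh.asIdeal ∧ ∀ y : PrimeSpectrum (AdicCompletion (((I.map (algebraMap A C)).map (algebraMap C (AdicCompletion ((I.map (algebraMap A C)).map (algebraMap C (TensorProduct A C B))) (TensorProduct A C B)))).map (algebraMap (AdicCompletion ((I.map (algebraMap A C)).map (algebraMap C (TensorProduct A C B))) (TensorProduct A C B)) (Localization.Away (algebraMap C (AdicCompletion ((I.map (algebraMap A C)).map (algebraMap C (TensorProduct A C B))) (TensorProduct A C B)) h)))) (Localization.Away (algebraMap C (AdicCompletion ((I.map (algebraMap A C)).map (algebraMap C (TensorProduct A C B))) (TensorProduct A C B)) h))), qh ≤ y → ¬ ((((I.map (algebraMap A C)).map (algebraMap C (AdicCompletion ((I.map (algebraMap A C)).map (algebraMap C (TensorProduct A C B))) (TensorProduct A C B)))).map (algebraMap (AdicCompletion ((I.map (algebraMap A C)).map (algebraMap C (TensorProduct A C B))) (TensorProduct A C B)) (Localization.Away (algebraMap C (AdicCompletion ((I.map (algebraMap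 A C)).map (algebraMap C (TensorProduct A C B))) (TensorProduct A C B)) h)))).map (algebraMap (Localization.Away (algebraMap C (AdicCompletion ((I.map (algebraMap A C)).map (algebraMap C (TensorProduct A C B))) (TensorProduct A C B)) h)) (AdicCompletion (((I.map (algebraMap A C)).map (algebraMap C (AdicCompletion ((I.map (algebraMap A C)).map (algebraMap C (TensorProduct A C B))) (TensorProduct A C B)))).map (algebraMap (AdicCompletion ((I.map (algebraMap A C)).map (algebraMap C (TensorProduct A C B))) (TensorProduct A C B)) (Localization.Away (algebraMap C (AdicCompletion ((I.map (algebraMap A C)).map (algebraMap C (TensorProduct A C B))) (TensorProduct A C B)) h)))) (Localization.Away (algebraMap C (AdicCompletion ((I.map (algebraMap A C)).map (algebraMap C (TensorProduct A C B))) (TensorProduct A C B)) h))))) ≤ y.asIdeal → y = qh) → ((algebraMap (AdicCompletion (((I.map (algebraMap A C)).map (algebraMap C (AdicCompletion ((I.map (algebraMap A C)).map (algebraMap C (TensorProduct A C B))) (TensorProduct A C B)))).map (algebraMap (AdicCompletion ((I.map (algebraMap A C)).map (algebraMap C (TensorProduct A C B))) (TensorProduct A C B)) (Localization.Away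 (algebraMap C (AdicCompletion ((I.map (algebraMap A C)).map (algebraMap C (TensorProduct A C B))) (TensorProduct A C B)) h)))) (Localization.Away (algebraMap C (AdicCompletion ((I.map (algebraMap A C)).map (algebraMap C (TensorProduct A C B))) (TensorProduct A C B)) h))) (Localization.AtPrime qh.asIdeal)).comp ψh).Flat) := by
  let JC := I.map (algebraMap A C)
  letI : AddCommGroup (C ⊗[A] B) := Ring.toAddCommGroup
  let P := C ⊗[A] B
  let J := JC.map (algebraMap C P)
  let D := AdicCompletion J P
  have hfg : J.FG := Ideal.FG.map (Ideal.FG.map (IsNoetherian.noetherian I) _) _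
  have hftP : Algebra.FiniteType A (P ⧸ J) := Groth.RigFlat65.finiteType_tensor_quot I hft hftC
  haveI : IsNoetherianRing (P ⧸ J) := by haveI := hftP; exact Algebra.FiniteType.isNoetherianRing A _
  haveI : IsNoetherianRing D := Groth.Calg1.isNoetherianRing_adicCompletion J hfg
  let incR : B →ₐ[A] P := Algebra.TensorProduct.includeRight
  letI : Algebra B D := ((algebraMap P D).comp incR.toRingHom).toAlgebra
  haveI : IsScalarTower A C D := IsScalarTower.of_algebraMap_eq fun a => rfl
  haveI : IsScalarTower A B D := IsScalarTower.of_algebraMap_eq fun a => by
    show _ = algebraMap P D (incR (algebraMap A B a))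
    rw [AlgHom.commutes, ← IsScalarTower.algebraMap_apply A P D]
  have hJD : JC.map (algebraMap C D) = J.map (algebraMap P D) := (Groth.RigFlat65.map_tower P D JC).symm
  have hJD' : JC.map (algebraMap C D) = I.map (algebraMap A D) := Groth.RigFlat65.map_tower C D I
  haveI : IsAdicComplete (JC.map (algebraMap C D)) D :=
    Groth.RigFlat65.complete_congr hJD.symm (Groth.AdicLinTop.CompletionQuot.isAdicComplete_map J hfg)
  have hftD : Algebra.FiniteType A (D ⧸ JC.map (algebraMap C D)) := by
    haveI := hftP
    refine Algebra.FiniteType.of_surjective (Ideal.Quotient.liftₐ J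
      ((Ideal.Quotient.mkₐ A (JC.map (algebraMap C D))).comp (IsScalarTower.toAlgHom A P D))
      (fun x hx => Ideal.Quotient.eq_zero_iff_mem.mpr (hJD ▸ Ideal.mem_map_of_mem (algebraMap P D) hx))) fun y => ?_
    obtain ⟨x, rfl⟩ := Ideal.Quotient.mk_surjective y
    obtain ⟨a, ha⟩ := Groth.AdicLinTop.CompletionQuot.exists_sub_mem J hfg 1 x
    rw [pow_one] at ha
    refine ⟨Ideal.Quotient.mk J a, (Ideal.Quotient.eq.mpr ?_).symm⟩
    rw [hJD]
    exact ha
  intro h ψh hψh qh hqh
  refine Groth.RigFlat65.rigFlat_baseChange_point A I B hft hAB C hftC D hftD
    (Groth.RigFlat65.CT.isCT I C B fun b => rfl) h _ ψh qh ?_ ?_ hqh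
  · exact Groth.RigFlat65.isCL_completion _ _
  · exact Groth.RigFlat65.CL.tower_of_comp rfl (fun a => IsLocalization.map_eq _ a) hψh

end Groth.Agent.S8846
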