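import Groth.Statements.S8849
import Groth.Agent.RefRank.RelDiv

set_option autoImplicit false
universe u
open CategoryTheory CategoryTheory.Limits AlgebraicGeometry TopologicalSpace
open SDiv

namespace Groth.Agent.S8849

/-- Let f : X ⟶ S be a morphism of schemes and 𝓘 the ideal sheaf of an effective Cartier divisor D ⊆ X
with D flat over S (a relative effective Cartier divisor). If f is flat at every point of X not in
D, then f is flat. -/
theorem result {X S : Scheme.{u}} (f : X ⟶ S) (𝓘 : X.IdealSheafData)
    (hD : BlowUp.IsEffCartierIdeal 𝓘 ∧ Flat (𝓘.subschemeι ≫ f))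
    (hflat : ∀ x : ↥X, x ∉ 𝓘.support → (f.stalkMap x).hom.Flat) : Flat f := by
  exact Flat.of_stalkMap f (Groth.RefRank.RelDiv.flat_stalkMap_of_flat_off_divisor f hD.1 hD.2 hflat)

end Groth.Agent.S8849
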