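import Groth.Statements.S8850
-- import your own Groth.Agent.* helpers here

set_option autoImplicit false
universe u
open CategoryTheory CategoryTheory.Limits AlgebraicGeometry TopologicalSpace
open SDiv

namespace Groth.Agent.S8850

/-- Let S be a scheme, X a Noetherian S-scheme, Y a proper S-scheme, U ⊆ X an open subscheme and f : U ⟶
Y a morphism compatible with the structure morphisms to S. Then there are a proper morphism p : X' ⟶
X restricting to an isomorphism over U and an S-morphism f' : X' ⟶ Y whose restriction to p⁻¹(U) is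
f composed with p. The published statement takes U dense, so that f is an S-rational map; this row
allows any open U, which its proof does not need. -/
theorem result {X Y S : Scheme.{u}} [IsNoetherian X] (a : X ⟶ S) (b : Y ⟶ S)
    [IsProper b] (U : X.Opens) (f : (U : Scheme.{u}) ⟶ Y) (hf : f ≫ b = U.ι ≫ a) :
    ∃ (X' : Scheme.{u}) (p : X' ⟶ X) (f' : X' ⟶ Y), IsProper p ∧ IsIso (p ∣_ U) ∧ f' ≫ b = p ≫ a ∧
      (p ⁻¹ᵁ U).ι ≫ f' = (p ∣_ U) ≫ f := by
  let g : (U : Scheme.{u}) ⟶ Limits.pullback a b := Limits.pullback.lift U.ι f hf.symm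
  let V : (Limits.pullback a b).Opens := Limits.pullback.fst a b ⁻¹ᵁ U
  have hg1 : g ≫ Limits.pullback.fst a b = U.ι := Limits.pullback.lift_fst _ _ _
  have : IsImmersion (g ≫ Limits.pullback.fst a b) := by rw [hg1]; infer_instance
  have : IsImmersion g := IsImmersion.of_comp g (Limits.pullback.fst a b)
  have : QuasiCompact (g ≫ Limits.pullback.fst a b) := by rw [hg1]; infer_instance
  have : QuasiCompact g := QuasiCompact.of_comp g (Limits.pullback.fst a b)
  let X' := g.image
  let p : X' ⟶ X := g.imageι ≫ Limits.pullback.fst a b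
  let f' : X' ⟶ Y := g.imageι ≫ Limits.pullback.snd a b
  have hUp : g.toImage ≫ p = U.ι := by rw [← Category.assoc, Scheme.Hom.toImage_imageι, hg1]
  have hUf : g.toImage ≫ f' = f := by
    rw [← Category.assoc, Scheme.Hom.toImage_imageι]
    exact Limits.pullback.lift_snd _ _ _
  -- the graph is closed in the part of the product lying over `U`
  have hclosed : ∀ z ∈ closure (Set.range g), z ∈ V → z ∈ Set.range g := by
    have hgV : Set.range g ⊆ V := by
      rintro _ ⟨u, rfl⟩
      change (g ≫ Limits.pullback.fst a b) u ∈ U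
      rw [hg1]; exact u.2
    let s : (U : Scheme.{u}) ⟶ V := IsOpenImmersion.lift V.ι g (by simpa using hgV)
    have hs : s ≫ (Limits.pullback.fst a b ∣_ U) = 𝟙 _ := by
      rw [← cancel_mono U.ι, Category.assoc, morphismRestrict_ι, ← Category.assoc,
        IsOpenImmersion.lift_fac, hg1, Category.id_comp]
    have : IsClosedImmersion (s ≫ (Limits.pullback.fst a b ∣_ U)) := by rw [hs]; infer_instance
    have : IsClosedImmersion s := IsClosedImmersion.of_comp s (Limits.pullback.fst a b ∣_ U)
    intro z hz hzV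
    have hrange : Set.range g = V.ι '' Set.range s := by
      rw [← Set.range_comp]
      refine congrArg Set.range (funext fun u => ?_)
      rw [Function.comp_apply, ← Scheme.Hom.comp_apply, IsOpenImmersion.lift_fac]
    have hpre : (⟨z, hzV⟩ : V) ∈ closure (Set.range s) := by
      rw [V.ι.isOpenEmbedding.isInducing.closure_eq_preimage_closure_image, ← hrange]
      exact hz
    rw [s.isClosedEmbedding.isClosed_range.closure_eq] at hpre
    rw [hrange]
    exact ⟨⟨z, hzV⟩, hpre, rfl⟩
  have hrange : g.toImage.opensRange = p ⁻¹ᵁ U := by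
    refine le_antisymm ?_ fun x hx => ?_
    · rintro _ ⟨u, rfl⟩
      change (g.toImage ≫ p) u ∈ U
      rw [hUp]; exact u.2
    · have h1 : g.imageι x ∈ closure (Set.range g) := by
        have hd : x ∈ closure (Set.range g.toImage) := by
          rw [g.toImage.denseRange.closure_eq]; trivial
        have := image_closure_subset_closure_image g.imageι.continuous ⟨x, hd, rfl⟩
        refine closure_mono ?_ this
        rintro _ ⟨_, ⟨u, rfl⟩, rfl⟩
        exact ⟨u, by rw [← Scheme.Hom.comp_apply, Scheme.Hom.toImage_imageι]⟩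
      obtain ⟨u, hu⟩ := hclosed _ h1 (show g.imageι x ∈ V from hx)
      refine ⟨u, g.imageι.isClosedEmbedding.injective ?_⟩
      rw [← Scheme.Hom.comp_apply, Scheme.Hom.toImage_imageι, hu]
  let t : (U : Scheme.{u}) ⟶ (p ⁻¹ᵁ U : X'.Opens) := IsOpenImmersion.lift (p ⁻¹ᵁ U).ι g.toImage
    (by simpa [← hrange] using subset_rfl)
  have ht : t ≫ (p ⁻¹ᵁ U).ι = g.toImage := IsOpenImmersion.lift_fac _ _ _
  have : IsOpenImmersion (t ≫ (p ⁻¹ᵁ U).ι) := by rw [ht]; infer_instance
  have : IsOpenImmersion t := IsOpenImmersion.of_comp t (p ⁻¹ᵁ U).ι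
  have : Surjective t := ⟨fun x => by
    have hx : x.1 ∈ g.toImage.opensRange := by rw [hrange]; exact x.2
    obtain ⟨u, hu⟩ := hx
    refine ⟨u, (p ⁻¹ᵁ U).ι.isOpenEmbedding.injective ?_⟩
    rw [← Scheme.Hom.comp_apply, ht, hu]
    rfl⟩
  have : IsIso t := (isIso_iff_isOpenImmersion_and_epi_base t).2
    ⟨inferInstance, (TopCat.epi_iff_surjective _).2 t.surjective⟩
  have htp : t ≫ (p ∣_ U) = 𝟙 _ := by
    rw [← cancel_mono U.ι, Category.assoc, morphismRestrict_ι, ← Category.assoc, ht, hUp,
      Category.id_comp]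
  have hp : p ∣_ U = inv t := by
    rw [← cancel_epi t, htp, IsIso.hom_inv_id]
  refine ⟨X', p, f', inferInstance, ?_, ?_, ?_⟩
  · rw [hp]; infer_instance
  · simp only [f', p, Category.assoc, ← Limits.pullback.condition]
  · rw [← cancel_epi t, ← Category.assoc, ht, hUf, ← Category.assoc, htp, Category.id_comp]

end Groth.Agent.S8850
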