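import Groth.Statements.S8853
import Groth.Agent.Divisors.EffCartierMore

set_option autoImplicit false
universe u
open CategoryTheory CategoryTheory.Limits AlgebraicGeometry TopologicalSpace
open SDiv

namespace Groth.Agent.S8853

/-- Let Z be a locally principal closed subscheme of a scheme S, with ideal sheaf 𝓘 generated by a
single section on some affine open neighbourhood of each point of its support, and let U be the open
complement of Z. Then the inclusion U ⟶ S is an affine morphism. -/
theorem result {S : Scheme.{u}} (𝓘 : S.IdealSheafData) (h : Curv2.IsLocPrincipal 𝓘) :
    IsAffineHom (Scheme.Opens.ι 𝓘.support.compl) := by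
  exact Groth.Divisors.isAffineHom_compl h

end Groth.Agent.S8853
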