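import Groth.Statements.S8860
import Groth.Agent.RefRank.Norm.FinLocFree
import Groth.Agent.RefRank.Norm.Normal
import Groth.Agent.RefRank.Norm.Component
-- import your own Groth.Agent.* helpers here

set_option autoImplicit false
universe u
open CategoryTheory CategoryTheory.Limits AlgebraicGeometry TopologicalSpace
open SDiv

namespace Groth.Agent.S8860

/-- Let π : X ⟶ Y be a finite surjective morphism of schemes with X quasi-affine. If either π is finite
locally free (finite, flat and locally of finite presentation), or Y is integral with all local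
rings integrally closed domains (normal), then Y is quasi-affine. -/
theorem result {X Y : Scheme.{u}} (π : X ⟶ Y) [IsFinite π] [Surjective π]
    (hX : X.IsQuasiAffine) (h : Mor2.IsFinLocFree π ∨ (IsIntegral Y ∧ Pi1.IsNormalScheme Y)) :
    Y.IsQuasiAffine := by
  haveI := hX
  obtain ⟨h1, h2, h3⟩ | ⟨hint, hnorm⟩ := h
  · exact Groth.RefRank.isQuasiAffine_of_preNorm (Groth.RefRank.flfPreNorm π)
  · obtain ⟨X', i, hi, hX', hs⟩ := Groth.RefRank.exists_integral_closed_surjective π
    haveI : X'.IsQuasiAffine := Scheme.IsQuasiAffine.of_isAffineHom i
    exact Groth.RefRank.isQuasiAffine_of_preNorm (Groth.RefRank.normalPreNorm (i ≫ π) hnorm)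

end Groth.Agent.S8860
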