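import Groth.Statements.S8861
import Groth.Agent.Divisors.AssocNzd

set_option autoImplicit false
universe u
open CategoryTheory CategoryTheory.Limits AlgebraicGeometry TopologicalSpace
open SDiv

namespace Groth.Agent.S8861

/-- Let f : X ⟶ Y be a morphism of schemes and 𝓘 the ideal sheaf of an effective Cartier divisor D ⊆ Y.
If f x ∉ D for every weakly associated point x of X (weakly associated point of the structure
sheaf), then the inverse image ideal sheaf of 𝓘 on X is the ideal of an effective Cartier divisor,
i.e. the pullback of D by f is defined. -/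
theorem result {X Y : Scheme.{u}} (f : X ⟶ Y) (𝓘 : Y.IdealSheafData)
    (hD : BlowUp.IsEffCartierIdeal 𝓘)
    (h : ∀ x : ↥X, Curv2.IsWeakAssPoint (Coh.structureModule X) x → f x ∉ 𝓘.support) :
    BlowUp.IsEffCartierIdeal (𝓘.comap f) := by
  exact Groth.Divisors.isEffCartierIdeal_comap_weakAss hD f h

end Groth.Agent.S8861
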