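import Groth.Statements.S8870
import Groth.Agent.Divisors.AssocPush

set_option autoImplicit false
universe u
open CategoryTheory CategoryTheory.Limits AlgebraicGeometry TopologicalSpace
open SDiv

namespace Groth.Agent.S8870

/-- Let X be a scheme and 0 → F₁ → F₂ → F₃ → 0 a short exact sequence of quasi-coherent O_X-modules.
Then WeakAss(F₂) ⊆ WeakAss(F₁) ∪ WeakAss(F₃) and WeakAss(F₁) ⊆ WeakAss(F₂). -/
theorem result (X : Scheme.{u}) (S : ShortComplex X.Modules) (hS : S.ShortExact)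
    (h₁ : Coh.IsQCoh S.X₁) (h₂ : Coh.IsQCoh S.X₂) (h₃ : Coh.IsQCoh S.X₃) :
    (∀ x : ↥X, Curv2.IsWeakAssPoint S.X₂ x → Curv2.IsWeakAssPoint S.X₁ x ∨ Curv2.IsWeakAssPoint S.X₃ x) ∧
      (∀ x : ↥X, Curv2.IsWeakAssPoint S.X₁ x → Curv2.IsWeakAssPoint S.X₂ x) := by
    exact ⟨fun x => (Groth.Divisors.weakAss_subset_of_shortExact S hS h₁ h₂ h₃ x).1,
      fun x => (Groth.Divisors.weakAss_subset_of_shortExact S hS h₁ h₂ h₃ x).2⟩

end Groth.Agent.S8870
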