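import Groth.Statements.S8877
import Groth.Agent.RefRank.FittSheaf

set_option autoImplicit false
universe u
open CategoryTheory CategoryTheory.Limits AlgebraicGeometry TopologicalSpace
open SDiv

namespace Groth.Agent.S8877

/-- Let S be a scheme and F a quasi-coherent O_S-module of finite type, and let Z_r ⊆ S be the closed
subset cut out by the r-th Fitting ideal of F. Then the intersection of all the Z_r is empty. -/
theorem result (S : Scheme.{u}) (F : S.Modules) (hF : Coh.IsQCoh F) (hft : CohB1.IsFT F)
    (s : ↥S) : ∃ r : ℕ, s ∉ (Fitt.sheafIdeal F r).support := by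
  haveI : F.IsQuasicoherent := hF
  haveI := Groth.QCohMod.finite_stalk F hft s
  obtain ⟨n, g, hg⟩ := Module.Finite.exists_fin (R := S.presheaf.stalk s) (M := F.presheaf.stalk s)
  exact ⟨n, (Groth.RefRank.FittSheaf.notMem_support_iff_spans F hft n s).2 ⟨g, hg⟩⟩

end Groth.Agent.S8877
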