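import Groth.Statements.S8881
import Groth.Agent.RefRank.Norm.Normal
-- import your own Groth.Agent.* helpers here

set_option autoImplicit false
universe u
open CategoryTheory CategoryTheory.Limits AlgebraicGeometry TopologicalSpace
open SDiv

namespace Groth.Agent.S8881

/-- If π : X ⟶ Y is finite and surjective, X and Y are integral, and Y is normal, then π carries a norm
of some degree d ≥ 1. The published statement takes d to be the degree of the function field of X
over that of Y; this row asserts only that a norm of some degree exists. -/
theorem result {X Y : Scheme.{u}} (π : X ⟶ Y) [IsFinite π] [Surjective π]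
    [IsIntegral X] [IsIntegral Y] (hY : Pi1.IsNormalScheme Y) : ∃ d : ℕ, Nrm.HasNorm π d := by
  exact ⟨_, Groth.RefRank.hasNorm_of_normal π hY⟩

end Groth.Agent.S8881
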