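import Groth.Statements.S8883
import Groth.Agent.RefRank.VertDivDescend

set_option autoImplicit false
universe u
open CategoryTheory CategoryTheory.Limits AlgebraicGeometry TopologicalSpace
open SDiv

namespace Groth.Agent.S8883

/-- Let φ : X ⟶ Y be flat, and quasi-compact or else locally of finite type, with every fibre an
integral scheme, where X is locally Noetherian and Y is locally Noetherian, integral and normal. If
an invertible O_X-module L becomes trivial on the scheme-theoretic fibre over the generic point of
Y, then L is isomorphic to φ^*N with N an invertible O_Y-module. -/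
theorem result {X Y : Scheme.{u}} (φ : X ⟶ Y) [IsLocallyNoetherian X]
    [IsLocallyNoetherian Y] [IsIntegral Y] (hY : Pi1.IsNormalScheme Y) [Flat φ]
    (hfib : ∀ y : ↥Y, IsIntegral (φ.fiber y)) (hφ : QuasiCompact φ ∨ LocallyOfFiniteType φ)
    (L : X.Modules) (hL : PicF.IsInvertible L)
    (hgen : Nonempty ((Scheme.Modules.pullback (φ.fiberι (genericPoint ↥Y))).obj L ≅
      Coh.structureModule (φ.fiber (genericPoint ↥Y)))) :
    ∃ N : Y.Modules, PicF.IsInvertible N ∧ Nonempty (L ≅ (Scheme.Modules.pullback φ).obj N) := by
  exact Groth.RefRank.VertDiv.exists_iso_pullback φ hY hfib hφ L hL hgen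

end Groth.Agent.S8883
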