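import Groth.Statements.S8885
import Groth.Agent.Flatmor4.FibreAss
import Groth.Agent.FBaseGeom.AssTensor
import Groth.Agent.FBaseGeom.AssBC
import Groth.Agent.FlatMor2.Weighting.Pieces

set_option autoImplicit false
set_option linter.style.haveILetI false
set_option backward.isDefEq.respectTransparency.types false
universe u
open CategoryTheory CategoryTheory.Limits AlgebraicGeometry TopologicalSpace
open SDiv

namespace Groth.Agent.S8885

open IsLocalRing in
/-- An associated point of the pullback to a base change of the field is maximal above its image. -/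
theorem maximal_of_mem_ass_bc {k K : Type u} [Field k] [Field K] [Algebra k K] {Z : Scheme.{u}}
    (q : Z ⟶ Spec (CommRingCat.of k)) [LocallyOfFiniteType q] (G : Z.Modules) (z : ↥(FBase.bc q K))
    (hz : z ∈ AssSch.Ass ((Scheme.Modules.pullback (FBase.bcπ q K)).obj G)) (w : ↥(FBase.bc q K))
    (hw : FBase.bcπ q K w = FBase.bcπ q K z) (hwz : w ⤳ z) : w = z := by
  let π := FBase.bcπ q K
  haveI : Flat π := MorphismProperty.pullback_fst _ _ inferInstance
  haveI : IsLocallyNoetherian Z := LocallyOfFiniteType.isLocallyNoetherian q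
  haveI : LocallyOfFiniteType (FBase.bcStr q K) := MorphismProperty.pullback_snd _ _ inferInstance
  haveI : IsLocallyNoetherian (FBase.bc q K) := LocallyOfFiniteType.isLocallyNoetherian (FBase.bcStr q K)
  obtain ⟨-, hz'⟩ := (Groth.FBaseGeom.mem_ass_pullback_iff π G z).1 hz
  have key : ∀ (y : Z) (v w' : π.fiber y), π.fiberι y v ∈ MoreMor.relAss π (Coh.structureModule _) →
      π.fiberι y w' ⤳ π.fiberι y v → w' = v := by
    intro y v w' hv hsp
    replace hv := (Groth.FBaseGeom.mem_relAss_structure_iff_fibre
      (IsPullback.of_hasPullback π (Z.fromSpecResidueField y)) v).1 hv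
    have hN : IsNoetherianRing ((π.fiber y).presheaf.stalk v) := by
      obtain ⟨hs, -⟩ := Groth.FBaseGeom.stalkMap_of_fibre (IsPullback.of_hasPullback π (Z.fromSpecResidueField y)) v
      exact isNoetherianRing_of_surjective _ _ _ hs
    have hd : LocCoh.depth ((π.fiber y).presheaf.stalk v) ((π.fiber y).presheaf.stalk v) = 0 := by
      rw [Groth.Agent.S5752.result]
      exact (Groth.FBaseGeom.ass_iff_of_linearEquiv (Groth.RefRank.oneEquiv v).symm).1 hv
    exact Groth.FBaseGeom.eq_of_depth_fibre_eq_zero q y v hN hd w'
      ((π.fiberι y).isEmbedding.isInducing.specializes_iff.mp hsp)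
  obtain ⟨v, hv⟩ : z ∈ Set.range (π.fiberι (π z)) := (π.range_fiberι _).ge rfl
  obtain ⟨w', hw'⟩ : w ∈ Set.range (π.fiberι (π z)) := (π.range_fiberι _).ge hw
  rw [← hw', key (π z) v w' (hv.symm ▸ hz') (by rw [hv, hw']; exact hwz), hv]

/-- Let f : X ⟶ S be locally of finite type, g : S' ⟶ S a morphism, X' = X ×_S S' with projections g' :
X' ⟶ X and f' : X' ⟶ S', F a quasi-coherent O_X-module and F' = g'^*F. For a point x' of X' with
images x in X and s' in S': x' lies in the relative assassin Ass_{X'/S'}(F') (x' is an associated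
point of the pullback of F' to the fibre X'_{s'}) if and only if x lies in Ass_{X/S}(F) and x' is
maximal under generization among the points of X' mapping to x and to s' (that is, x' is the generic
point of some irreducible component of Spec(κ(s') ⊗_{κ(s)} κ(x))). -/
theorem result {X S S' : Scheme.{u}} (f : X ⟶ S) [LocallyOfFiniteType f] (g : S' ⟶ S)
    (F : X.Modules) (hF : Coh.IsQCoh F) (x' : ↥(pullback f g)) :
    Curv2.IsAssPoint
        ((Scheme.Modules.pullback ((pullback.snd f g).fiberι ((pullback.snd f g) x'))).obj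
          ((Scheme.Modules.pullback (pullback.fst f g)).obj F))
        ((pullback.snd f g).asFiber x') ↔
      Curv2.IsAssPoint ((Scheme.Modules.pullback (f.fiberι (f ((pullback.fst f g) x')))).obj F)
          (f.asFiber ((pullback.fst f g) x')) ∧
        ∀ x'' : ↥(pullback f g), (pullback.snd f g) x'' = (pullback.snd f g) x' →
          (pullback.fst f g) x'' = (pullback.fst f g) x' → x'' ⤳ x' → x'' = x' := by
  let f' := pullback.snd f g
  let g' := pullback.fst f g
  have hH : IsPullback g' f' f g := IsPullback.of_hasPullback f g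
  refine Iff.trans (Groth.FBaseGeom.mem_relAss_iff_asFiber f' _ x').symm ?_
  refine Iff.trans ?_ (and_congr_left' (Groth.FBaseGeom.mem_relAss_iff_asFiber f F (g' x')))
  constructor
  · intro hx
    refine ⟨(Groth.Flatmor4.relAss_baseChange hH x').1 hx, fun x'' h1 h2 h3 => ?_⟩
    let s' := f' x'
    let k := S.residueField (g s')
    let K := S'.residueField s'
    letI : Algebra k K := (g.residueFieldMap s').hom.toAlgebra
    let q : f.fiber (g s') ⟶ Spec (CommRingCat.of k) := f.fiberToSpecResidueField (g s')
    haveI : LocallyOfFiniteType q := inferInstanceAs (LocallyOfFiniteType (pullback.snd f _))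
    let d := Spec.map (CommRingCat.ofHom (algebraMap k K))
    have hcd : S'.fromSpecResidueField s' ≫ g = d ≫ S.fromSpecResidueField (g s') :=
      (g.SpecMap_residueFieldMap_fromSpecResidueField s').symm
    have hP : IsPullback (FBase.bcπ q K ≫ f.fiberι (g s')) (FBase.bcStr q K) f
        (S'.fromSpecResidueField s' ≫ g) := by
      rw [hcd]
      exact (IsPullback.of_hasPullback q d).paste_horiz (IsPullback.of_hasPullback f (S.fromSpecResidueField (g s')))
    let i : FBase.bc q K ⟶ pullback f g := pullback.lift (FBase.bcπ q K ≫ f.fiberι (g s'))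
      (FBase.bcStr q K ≫ S'.fromSpecResidueField s') (by rw [Category.assoc (FBase.bcStr q K)]; exact hP.w)
    have hi1 : i ≫ g' = FBase.bcπ q K ≫ f.fiberι (g s') := pullback.lift_fst _ _ _
    have hi2 : i ≫ f' = FBase.bcStr q K ≫ S'.fromSpecResidueField s' := pullback.lift_snd _ _ _
    have hI : IsPullback i (FBase.bcStr q K) f' (S'.fromSpecResidueField s') :=
      IsPullback.of_right (hi1 ▸ hP) hi2 hH
    have hrange : ∀ a, f' a = s' → ∃ z, i z = a := fun a ha => by
      obtain ⟨z, hz, -⟩ := Groth.FlatMor2.exists_preimage_of_isPullback hI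
        (x := a) (y := IsLocalRing.closedPoint K) (ha.trans (Scheme.fromSpecResidueField_apply _ _).symm)
      exact ⟨z, hz⟩
    obtain ⟨z, hz⟩ := hrange x' rfl
    obtain ⟨w, hw⟩ := hrange x'' h1
    have hemb : Topology.IsEmbedding i := by
      haveI : IsPreimmersion i := MorphismProperty.of_isPullback hI.flip inferInstance
      exact i.isEmbedding
    have hza : z ∈ AssSch.Ass ((Scheme.Modules.pullback (FBase.bcπ q K)).obj
        ((Scheme.Modules.pullback (f.fiberι (g s'))).obj F)) := by
      have h := (Groth.FBaseGeom.mem_relAss_iff_fibre hI _ z).1 (hz.symm ▸ hx)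
      exact (Set.ext_iff.1 (Groth.FBaseGeom.ass_congr ((Scheme.Modules.pullbackComp (FBase.bcπ q K) (f.fiberι (g s'))).app F ≪≫
        (Scheme.Modules.pullbackCongr hi1.symm).app F ≪≫
        ((Scheme.Modules.pullbackComp i g').app F).symm)) z).2 h
    have hπ : FBase.bcπ q K w = FBase.bcπ q K z := by
      refine (f.fiberι (g s')).isEmbedding.injective ?_
      have hc : ∀ a, f.fiberι (g s') (FBase.bcπ q K a) = g' (i a) := fun a =>
        (congr($(hi1) a)).symm
      rw [hc, hc, hz, hw]
      exact h2
    have hzw : w = z := maximal_of_mem_ass_bc q _ z hza w hπ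
      (hemb.isInducing.specializes_iff.mp (by rw [hw, hz]; exact h3))
    rw [← hw, hzw, hz]
  · rintro ⟨hx, hmax⟩
    refine (Groth.Flatmor4.relAss_baseChange hH x').2 (fun P hP1 hP2 => ?_) hx
    have h := hmax ((pullback f g).fromSpecStalk x' P)
      ((Groth.Flatmor4.apply_fromSpecStalk_eq_iff f' x' P).mpr hP2)
      ((Groth.Flatmor4.apply_fromSpecStalk_eq_iff g' x' P).mpr hP1)
      ((pullback f g).range_fromSpecStalk.le ⟨P, rfl⟩)
    exact ((pullback f g).fromSpecStalk x').isEmbedding.injective
      (h.trans (pullback f g).fromSpecStalk_closedPoint.symm)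

end Groth.Agent.S8885
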