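import Groth.Statements.S8886
import Groth.Agent.Divisors.EffCartierDim

set_option autoImplicit false
universe u
open CategoryTheory CategoryTheory.Limits AlgebraicGeometry TopologicalSpace
open SDiv

namespace Groth.Agent.S8886

/-- Let f : X ⟶ Y be a flat morphism of schemes with Y integral. If the scheme-theoretic fibre of f over
the generic point of Y is integral, then X is integral. -/
theorem result {X Y : Scheme.{u}} (f : X ⟶ Y) [Flat f] [IsIntegral Y]
    (h : IsIntegral (f.fiber (genericPoint ↥Y))) : IsIntegral X := by
    exact Groth.Divisors.isIntegral_of_flat_fiber f h

end Groth.Agent.S8886
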