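import Groth.Statements.S8887
import Groth.Agent.PropsBasic.LocFree
-- import your own Groth.Agent.* helpers here

set_option autoImplicit false
universe u
open CategoryTheory CategoryTheory.Limits AlgebraicGeometry TopologicalSpace
open SDiv

namespace Groth.Agent.S8887

/-- Let X be an integral scheme and F a quasi-coherent O_X-module of finite type, of rank r (r being the
finite dimension of the generic stalk of F as a vector space over the function field of X). Then one
can find an open subset U of X, not empty, on which the restriction of F is isomorphic to the free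
module of rank r. -/
theorem result (X : Scheme.{u}) [IsIntegral X] (F : X.Modules) (hF : Coh.IsQCoh F)
    (hft : CohB1.IsFT F) :
    ∃ U : X.Opens, (U : Set ↥X).Nonempty ∧
      Nonempty (F.restrict U.ι ≅ FlatMod.freeMod (↑U)
        (Module.finrank ↑(X.presheaf.stalk (genericPoint ↥X)) ↑(F.presheaf.stalk (genericPoint ↥X)))) := by
  let η := genericPoint X
  haveI : F.IsQuasicoherent := hF
  obtain ⟨U, hU, hηU, -⟩ := TopologicalSpace.Opens.isBasis_iff_nbhd.mp X.isBasis_affineOpens
    (TopologicalSpace.Opens.mem_top η)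
  haveI := Groth.QCohMod.finite_sections F hft hU
  let S := (hU.primeIdealOf ⟨η, hηU⟩).asIdeal.primeCompl
  letI := Groth.QCohMod.stalkModule F η hηU
  letI : Algebra Γ(X, U) (X.presheaf.stalk η) :=
    TopCat.Presheaf.algebra_section_stalk X.presheaf ⟨η, hηU⟩
  haveI : IsLocalization S (X.presheaf.stalk η) := hU.isLocalization_stalk ⟨η, hηU⟩
  haveI : IsScalarTower Γ(X, U) (X.presheaf.stalk η) (F.presheaf.stalk η) := ⟨fun r a m => by
    change (X.presheaf.germ U η hηU r * a) • m = _
    rw [mul_smul]; rfl⟩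
  haveI := Groth.QCohMod.isLocalizedModule_germ F hU η hηU
  let ℓ := Groth.QCohMod.germₗ F η hηU
  letI : Field (X.presheaf.stalk η) := inferInstanceAs (Field X.functionField)
  haveI : Module.Finite (X.presheaf.stalk η) (F.presheaf.stalk η) :=
    Module.Finite.of_isLocalizedModule S ℓ
  set r := Module.finrank (X.presheaf.stalk η) (F.presheaf.stalk η) with hrdef
  let b := Module.finBasis (X.presheaf.stalk η) (F.presheaf.stalk η)
  choose p hp using fun i : Fin r => IsLocalizedModule.surj S ℓ (b i)
  let e : Fin r → Γ(F, U) := fun i => (p i).1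
  let w : Fin r → (X.presheaf.stalk η)ˣ := fun i =>
    (IsLocalization.map_units (X.presheaf.stalk η) (p i).2).unit
  have hw : ∀ i, (w • ⇑b) i = ℓ (e i) := fun i => by
    rw [Pi.smul_apply', Units.smul_def]
    exact (algebraMap_smul (X.presheaf.stalk η) ((p i).2 : Γ(X, U)) (b i)).trans (hp i)
  let b' := b.unitsSMul w
  have hb' : ∀ i, b' i = ℓ (e i) := fun i => by
    rw [Module.Basis.unitsSMul_apply]; exact hw i
  let N := Submodule.span Γ(X, U) (Set.range e)
  have hspan : ∀ y : F.presheaf.stalk η, ∃ n ∈ N, ∃ s : S, (s : Γ(X, U)) • y = ℓ n := by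
    intro y
    have hy : y ∈ Submodule.span (X.presheaf.stalk η) (Set.range b') := b'.span_eq.ge trivial
    induction hy using Submodule.span_induction with
    | mem y hy =>
      obtain ⟨i, rfl⟩ := hy
      exact ⟨e i, Submodule.subset_span ⟨i, rfl⟩, 1, by rw [hb']; exact one_smul _ _⟩
    | zero => exact ⟨0, N.zero_mem, 1, by simp⟩
    | add y z _ _ hy hz =>
      obtain ⟨n, hn, s, hs⟩ := hy
      obtain ⟨n', hn', t, ht⟩ := hz
      refine ⟨(t : Γ(X, U)) • n + (s : Γ(X, U)) • n', N.add_mem (N.smul_mem _ hn)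
        (N.smul_mem _ hn'), s * t, ?_⟩
      rw [map_add, map_smul, map_smul, ← hs, ← ht, smul_smul, smul_smul, Submonoid.coe_mul,
        smul_add, mul_comm]
    | smul a y _ hy =>
      obtain ⟨n, hn, s, hs⟩ := hy
      obtain ⟨⟨c, t⟩, hct⟩ := IsLocalization.surj S a
      refine ⟨c • n, N.smul_mem _ hn, t * s, ?_⟩
      rw [map_smul, ← hs, ← algebraMap_smul (X.presheaf.stalk η) c,
        ← algebraMap_smul (X.presheaf.stalk η) (s : Γ(X, U)),
        ← algebraMap_smul (X.presheaf.stalk η) ((t * s : S) : Γ(X, U)),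
        smul_smul, smul_smul, Submonoid.coe_mul, map_mul, ← hct]
      congr 1
      ring
  have hm : ∀ m : Γ(F, U), ∃ s : S, (s : Γ(X, U)) • m ∈ N := fun m => by
    obtain ⟨n, hn, s, hs⟩ := hspan (ℓ m)
    rw [← map_smul] at hs
    obtain ⟨t, ht⟩ := (IsLocalizedModule.eq_iff_exists S ℓ).1 hs
    refine ⟨t * s, ?_⟩
    rw [Submonoid.coe_mul, mul_smul]
    have : (t : Γ(X, U)) • (s : Γ(X, U)) • m = (t : Γ(X, U)) • n := ht
    rw [this]
    exact N.smul_mem _ hn
  choose σ hσ using hm
  obtain ⟨G, hG⟩ := Module.Finite.fg_top (R := Γ(X, U)) (M := Γ(F, U))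
  let g : S := ∏ m ∈ G, σ m
  have hg : ∀ m : Γ(F, U), (g : Γ(X, U)) • m ∈ N := fun m => by
    have hmem : m ∈ Submodule.span Γ(X, U) (G : Set Γ(F, U)) := hG.ge trivial
    refine (Submodule.span_le (p := N.comap ((g : Γ(X, U)) • LinearMap.id))).2 ?_ hmem
    intro y hy
    obtain ⟨c, hc⟩ : σ y ∣ g := Finset.dvd_prod_of_mem σ hy
    change (g : Γ(X, U)) • y ∈ N
    rw [hc, mul_comm, Submonoid.coe_mul, mul_smul]
    exact N.smul_mem _ (hσ y)
  have hηg : η ∈ X.basicOpen (g : Γ(X, U)) :=
    (Groth.QCohMod.mem_basicOpen_iff_notMem_primeIdealOf hU (g : Γ(X, U)) η hηU).2 g.2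
  let D := X.basicOpen (g : Γ(X, U))
  let t : Fin r → Γ(F, D) := fun i => Groth.QCohMod.res F (X.basicOpen_le _) (e i)
  have hinj : Function.Injective (X.presheaf.germ D η hηg) :=
    germ_injective_of_isIntegral X η hηg
  have hli : LinearIndependent Γ(X, D) t := by
    rw [Fintype.linearIndependent_iff]
    intro a ha i
    apply hinj
    rw [map_zero]
    refine Fintype.linearIndependent_iff.1 b'.linearIndependent
      (fun i => X.presheaf.germ D η hηg (a i)) ?_ i
    have := congrArg (Groth.QCohMod.germ F η hηg) ha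
    rw [map_sum, map_zero] at this
    refine Eq.trans (Finset.sum_congr rfl fun i _ => ?_) this
    rw [Groth.QCohMod.germ_smul, Groth.QCohMod.germ_res, hb']
    rfl
  have hsp : ⊤ ≤ Submodule.span Γ(X, D) (Set.range t) := by
    rintro y -
    obtain ⟨n, m, hm⟩ := Groth.QCohMod.exists_pow_smul_eq_res F hU (g : Γ(X, U)) y
    have hgu : IsUnit (Groth.QCohMod.resFun X (X.basicOpen_le (g : Γ(X, U))) (g : Γ(X, U))) :=
      RingedSpace.isUnit_res_basicOpen X.toRingedSpace _
    have hNres : ∀ z ∈ N, Groth.QCohMod.res F (X.basicOpen_le (g : Γ(X, U))) z ∈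
        Submodule.span Γ(X, D) (Set.range t) := by
      intro z hz
      induction hz using Submodule.span_induction with
      | mem z hz => obtain ⟨i, rfl⟩ := hz; exact Submodule.subset_span ⟨i, rfl⟩
      | zero => rw [map_zero]; exact Submodule.zero_mem _
      | add a c _ _ ha hc => rw [map_add]; exact Submodule.add_mem _ ha hc
      | smul a z _ hz => rw [Groth.QCohMod.res_smul]; exact Submodule.smul_mem _ _ hz
    have h2 := hNres _ (hg m)
    rw [Groth.QCohMod.res_smul, hm, smul_smul] at h2
    exact (Submodule.smul_mem_iff_of_isUnit _ (hgu.mul (hgu.pow n))).1 h2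
  exact ⟨D, ⟨η, hηg⟩, Groth.PropsBasic.LocFree.nonempty_iso_free_of_basis F (hU.basicOpen _)
    ((Module.Basis.mk hli hsp).reindex Equiv.ulift.symm)⟩

end Groth.Agent.S8887
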