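import Groth.Statements.S8888
import Groth.Agent.QCohMod.Pullback
-- import your own Groth.Agent.* helpers here

set_option autoImplicit false
universe u
open CategoryTheory CategoryTheory.Limits AlgebraicGeometry TopologicalSpace
open SDiv

namespace Groth.Agent.S8888

/-- Let f : X ⟶ Y be a dominant morphism of integral schemes and G a quasi-coherent O_Y-module. Then the
rank of f^*G on X, the dimension of its stalk at the generic point of X over the function field of
X, equals the rank of G on Y. -/
theorem result {X Y : Scheme.{u}} [IsIntegral X] [IsIntegral Y] (f : X ⟶ Y) [IsDominant f]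
    (G : Y.Modules) (hG : Coh.IsQCoh G) :
    Module.rank ↑(X.presheaf.stalk (genericPoint ↥X)) ↑(((Scheme.Modules.pullback f).obj G).presheaf.stalk (genericPoint ↥X)) =
      Module.rank ↑(Y.presheaf.stalk (genericPoint ↥Y)) ↑(G.presheaf.stalk (genericPoint ↥Y)) := by
  have h : f (genericPoint X) = genericPoint Y := by
    refine IsGenericPoint.eq ?_ (genericPoint_spec Y)
    have h1 := (genericPoint_spec X).image f.continuous
    rwa [Set.image_univ, f.denseRange.closure_range] at h1
  have key : ∀ p q : Y, p = q → Module.rank (Y.presheaf.stalk p) (G.presheaf.stalk p) =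
      Module.rank (Y.presheaf.stalk q) (G.presheaf.stalk q) := by
    rintro p _ rfl; rfl
  let x := genericPoint X
  have hfld : IsField (Y.presheaf.stalk (f x)) := by
    rw [h]
    exact @Field.toIsField Y.functionField _
  letI := hfld.toField
  letI := Groth.QCohMod.stalkAlg f x
  haveI : Nontrivial (X.presheaf.stalk x) := inferInstanceAs (Nontrivial X.functionField)
  calc Module.rank ↑(X.presheaf.stalk x) ↑(((Scheme.Modules.pullback f).obj G).presheaf.stalk x)
      = Module.rank (X.presheaf.stalk x)
          (TensorProduct (Y.presheaf.stalk (f x)) (X.presheaf.stalk x) (G.presheaf.stalk (f x))) :=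
        (Groth.QCohMod.pullStalkEquiv f G x).rank_eq.symm
    _ = Module.rank (Y.presheaf.stalk (f x)) (G.presheaf.stalk (f x)) :=
        Module.rank_baseChange.trans (Cardinal.lift_id _)
    _ = _ := key _ _ h

end Groth.Agent.S8888
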