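import Groth.Statements.S8893
import Groth.Agent.KoszulLCI.FlatQuasi

set_option autoImplicit false
universe u
open CategoryTheory CategoryTheory.Limits AlgebraicGeometry TopologicalSpace
open SDiv

namespace Groth.Agent.S8893

/-- Let f : X ⟶ S be a morphism of schemes and i : Z ⟶ X a relative quasi-regular immersion (a
quasi-regular immersion with Z flat over S). If z is a point of Z such that O_{X, i z} is
Noetherian, then f is flat at i z. -/
theorem result {Z X S : Scheme.{u}} (f : X ⟶ S) (i : Z ⟶ X)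
    (hi : RegImm.IsRelRegularImmersion RegImm.Kind.quasi f i) (z : ↥Z) [IsNoetherianRing ↑(X.presheaf.stalk (i z))] :
    (f.stalkMap (i z)).hom.Flat := by
  obtain ⟨⟨himm, h⟩, hflat⟩ := hi
  obtain ⟨U, hzU, hci, rs, hrs, hker⟩ := h z
  haveI := himm
  haveI := hci
  let L := X.presheaf.stalk (i z)
  let θ : Γ(X, U.1) →+* L := (X.presheaf.germ U.1 (i z) hzU).hom
  have hθ : θ.Flat := by
    letI := TopCat.Presheaf.algebra_section_stalk X.presheaf (⟨i z, hzU⟩ : U.1)
    haveI : IsLocalization.AtPrime L (U.2.primeIdealOf ⟨i z, hzU⟩).asIdeal := U.2.isLocalization_stalk ⟨i z, hzU⟩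
    exact IsLocalization.flat L (U.2.primeIdealOf ⟨i z, hzU⟩).asIdeal.primeCompl
  let π : L →+* Z.presheaf.stalk z := (i.stalkMap z).hom
  have hk : RingHom.ker π = Ideal.ofList (rs.map θ) := by
    rw [← Ideal.map_ofList, ← hker]
    exact Groth.KoszulLCI.ker_stalkMap_eq_map_of_restrict i U z hzU
  have hne : Ideal.ofList (rs.map θ) ≠ ⊤ := hk ▸ RingHom.ker_ne_top π
  have hq : CAlgX.IsQuasiRegular (rs.map θ).get := Groth.KoszulLCI.seq_map RegImm.Kind.quasi θ hθ hrs hne
  have := hflat
  have h1 : ((i ≫ f).stalkMap z).hom.Flat := Flat.stalkMap (i ≫ f) z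
  rw [Scheme.Hom.stalkMap_comp] at h1
  exact Groth.KoszulLCI.flat_of_quasi_of_surjective (f.stalkMap (i z)).hom π (i.stalkMap_surjective z) h1
    (rs.map θ) hk (RingHom.ker_ne_top π) hq

end Groth.Agent.S8893
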