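import Groth.Statements.S8896
import Groth.Agent.KoszulLCI.FibrewiseImmersion

set_option autoImplicit false
universe u
open CategoryTheory CategoryTheory.Limits AlgebraicGeometry TopologicalSpace
open SDiv

namespace Groth.Agent.S8896

/-- Let φ : X ⟶ S be flat and locally of finite presentation and 𝓘 a quasi-coherent ideal sheaf on X
whose closed subscheme T is flat and locally of finite presentation over S. If for every point s of
S the fibre T_s ⟶ X_s (base change of T ⟶ X to the scheme-theoretic fibre) is a quasi-regular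
immersion, then T ⟶ X is a relative quasi-regular immersion. -/
theorem result {X S : Scheme.{u}} (φ : X ⟶ S) [Flat φ] [LocallyOfFinitePresentation φ]
    (𝓘 : X.IdealSheafData) [Flat (𝓘.subschemeι ≫ φ)] [LocallyOfFinitePresentation (𝓘.subschemeι ≫ φ)]
    (hfib : ∀ s : ↥S, RegImm.IsRegularImmersion RegImm.Kind.quasi (pullback.snd 𝓘.subschemeι (φ.fiberι s))) :
    RegImm.IsRelRegularImmersion RegImm.Kind.quasi φ 𝓘.subschemeι := by
  refine ⟨?_, inferInstance⟩
  have h : Groth.KoszulLCI.MorLCI 𝓘.subschemeι := by
    refine Groth.KoszulLCI.morLCI_of_forall_fiber 𝓘.subschemeι φ fun s => ?_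
    have := Groth.KoszulLCI.isLocallyNoetherian_fiber φ s
    exact Groth.KoszulLCI.morLCI_of_isRegularImmersion _
      (Groth.KoszulLCI.isRegularImmersion_of_isRegularImmersion_regular .koszul _
        ((Groth.KoszulLCI.isRegularImmersion_kind_iff .quasi _).mp (hfib s)))
  obtain ⟨hi, hz⟩ := Groth.KoszulLCI.isRegularImmersion_of_morLCI _ h
  exact ⟨hi, fun z => by
    obtain ⟨U, hzU, hci, rs, hrs, hker⟩ := hz z
    exact ⟨U, hzU, hci, rs, Groth.KoszulLCI.seq_quasi .koszul hrs, hker⟩⟩

end Groth.Agent.S8896
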