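import Groth.Statements.S8899
import Groth.Agent.QCohMod.Pullback

set_option autoImplicit false
universe u
open CategoryTheory CategoryTheory.Limits AlgebraicGeometry TopologicalSpace
open SDiv
open scoped TensorProduct

namespace Groth.Agent.S8899

/-- Let f : X ⟶ S be a morphism of schemes, G a quasi-coherent O_S-module and x a point of X over s = f
x such that f is flat at x, no point of f⁻¹(s) other than x specialises to x (x is the generic point
of some irreducible component of the fibre X_s), and s is weakly associated to G. Then x is weakly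
associated to f^*G. -/
theorem result {X S : Scheme.{u}} (f : X ⟶ S) (G : S.Modules) (hG : Coh.IsQCoh G)
    (x : ↥X) (hfl : (f.stalkMap x).hom.Flat) (hgen : ∀ y : ↥X, f y = f x → y ⤳ x → y = x)
    (hs : Curv2.IsWeakAssPoint G (f x)) : Curv2.IsWeakAssPoint ((Scheme.Modules.pullback f).obj G) x := by
  haveI : G.IsQuasicoherent := hG
  letI : Algebra (S.presheaf.stalk (f x)) (X.presheaf.stalk x) := (f.stalkMap x).hom.toAlgebra
  haveI : Module.Flat (S.presheaf.stalk (f x)) (X.presheaf.stalk x) := hfl
  haveI : IsLocalHom (algebraMap (S.presheaf.stalk (f x)) (X.presheaf.stalk x)) :=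
    inferInstanceAs (IsLocalHom (f.stalkMap x).hom)
  haveI : Module.FaithfullyFlat (S.presheaf.stalk (f x)) (X.presheaf.stalk x) :=
    Module.FaithfullyFlat.of_flat_of_isLocalHom
  obtain ⟨m, hm⟩ := hs
  have hrad : ((IsLocalRing.maximalIdeal (S.presheaf.stalk (f x))).map (algebraMap _ (X.presheaf.stalk x))).radical =
      IsLocalRing.maximalIdeal (X.presheaf.stalk x) := by
    refine le_antisymm ?_ ?_
    · exact (IsLocalRing.maximalIdeal.isMaximal _).isPrime.radical_le_iff.2
        (((IsLocalRing.local_hom_TFAE (algebraMap (S.presheaf.stalk (f x)) (X.presheaf.stalk x))).out 0 2 :).1 inferInstance)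
    · rw [Ideal.radical_eq_sInf]
      refine le_sInf fun P hP => ?_
      haveI := hP.2
      let p : Spec (X.presheaf.stalk x) := ⟨P, hP.2⟩
      have hc : (Spec.map (f.stalkMap x)) p = IsLocalRing.closedPoint (S.presheaf.stalk (f x)) :=
        PrimeSpectrum.ext (((IsLocalRing.maximalIdeal.isMaximal _).eq_of_le
          (hP.2.comap (f.stalkMap x).hom).ne_top (Ideal.map_le_iff_le_comap.1 hP.1)).symm)
      have hfy : f (X.fromSpecStalk x p) = f x := by
        rw [← Scheme.Hom.comp_apply, ← Scheme.SpecMap_stalkMap_fromSpecStalk f (x := x),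
          Scheme.Hom.comp_apply, hc, Scheme.fromSpecStalk_closedPoint]
      have hy : X.fromSpecStalk x p ⤳ x := (Set.ext_iff.1 Scheme.range_fromSpecStalk _).1 ⟨p, rfl⟩
      have hp : p = IsLocalRing.closedPoint (X.presheaf.stalk x) :=
        (X.fromSpecStalk x).isEmbedding.injective
          ((hgen _ hfy hy).trans Scheme.fromSpecStalk_closedPoint.symm)
      exact (congrArg PrimeSpectrum.asIdeal hp).ge
  let e := Groth.QCohMod.pullStalkEquiv f G x
  refine ⟨e (1 ⊗ₜ[S.presheaf.stalk (f x)] m), le_antisymm ?_ ?_⟩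
  · refine (IsLocalRing.maximalIdeal.isMaximal _).isPrime.radical_le_iff.2 (IsLocalRing.le_maximalIdeal ?_)
    intro ht
    have h1 : (1 : X.presheaf.stalk x) ∈ LinearMap.ker
        (LinearMap.toSpanSingleton _ _ (e (1 ⊗ₜ[S.presheaf.stalk (f x)] m))) := ht ▸ Submodule.mem_top
    rw [LinearMap.mem_ker, LinearMap.toSpanSingleton_apply, one_smul, map_eq_zero_iff _ e.injective] at h1
    have hm0 : m = 0 := Module.FaithfullyFlat.tensorProduct_mk_injective (A := S.presheaf.stalk (f x)) (B := X.presheaf.stalk x) (G.presheaf.stalk (f x))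
      (h1.trans (TensorProduct.tmul_zero _ (1 : X.presheaf.stalk x)).symm)
    subst hm0
    refine (IsLocalRing.maximalIdeal.isMaximal (S.presheaf.stalk (f x))).ne_top ?_
    rw [← hm, LinearMap.toSpanSingleton_zero, LinearMap.ker_zero, Ideal.radical_top]
  · rw [← hrad]
    refine Ideal.radical_le_radical_iff.2 (Ideal.map_le_iff_le_comap.2 fun a ha => ?_)
    rw [← hm] at ha
    obtain ⟨n, hn⟩ := ha
    rw [LinearMap.mem_ker, LinearMap.toSpanSingleton_apply] at hn
    refine ⟨n, ?_⟩
    rw [LinearMap.mem_ker, LinearMap.toSpanSingleton_apply, ← map_pow, ← map_smul, algebraMap_smul,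
      TensorProduct.smul_tmul', TensorProduct.smul_tmul, hn, TensorProduct.tmul_zero, map_zero]

end Groth.Agent.S8899
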