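import Groth.Statements.S8908
import Groth.Agent.RefRank.EmbeddedPoints
-- import your own Groth.Agent.* helpers here

set_option autoImplicit false
universe u
open CategoryTheory CategoryTheory.Limits AlgebraicGeometry TopologicalSpace
open SDiv

namespace Groth.Agent.S8908

/-- Let X be a locally Noetherian scheme and F a coherent O_X-module. The coherent subsheaves K ⊆ F
whose support is nowhere dense in Supp(F) have a largest element K. Setting F' = F/K: (1) Supp(F') =
Supp(F); (2) F' has no embedded associated points; (3) there is a dense open U ⊆ X with U ∩ Supp(F)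
dense in Supp(F) over which the quotient map F → F' restricts to an isomorphism. -/
theorem result (X : Scheme.{u}) [IsLocallyNoetherian X] (F : X.Modules)
    (hF : Coh.IsCoh F) :
    ∃ K : Subobject F, Coh.IsCoh (K : X.Modules) ∧
      (∀ U : X.Opens, (U : Set ↥X) ∩ CohB1.support F ⊆ CohB1.support (K : X.Modules) → (U : Set ↥X) ∩ CohB1.support F = ∅) ∧
      (∀ K' : Subobject F, Coh.IsCoh (K' : X.Modules) →
        (∀ U : X.Opens, (U : Set ↥X) ∩ CohB1.support F ⊆ CohB1.support (K' : X.Modules) → (U : Set ↥X) ∩ CohB1.support F = ∅) →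
        K' ≤ K) ∧
      CohB1.support (cokernel K.arrow) = CohB1.support F ∧
      (∀ x : ↥X, Curv2.IsAssPoint (cokernel K.arrow) x → ∀ y : ↥X, Curv2.IsAssPoint (cokernel K.arrow) y → y ⤳ x → y = x) ∧
      ∃ U : X.Opens, Dense (U : Set ↥X) ∧ CohB1.support F ⊆ closure ((U : Set ↥X) ∩ CohB1.support F) ∧
        IsIso ((Scheme.Modules.restrictFunctor U.ι).map (cokernel.π K.arrow)) := by
  have := hF.1
  let P := Groth.RefRank.Embedded.kerMax F
  have hP := Groth.RefRank.Embedded.isCoh_kerMax hF
  have := hP.1
  let K : Subobject F := Subobject.mk P.ι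
  let u := Subobject.underlyingIso P.ι
  let e : cokernel K.arrow ≅ cokernel P.ι :=
    cokernel.mapIso K.arrow P.ι u (Iso.refl F) (by simp [K, u])
  have supp_iso : ∀ {A B : X.Modules}, (A ≅ B) → CohB1.support A = CohB1.support B := by
    intro A B φ
    ext x
    exact not_congr ((Groth.QCohMod.stalk x).mapIso φ).addCommGroupIsoToAddEquiv.toEquiv.subsingleton_congr
  have hno : ∀ η ∈ Groth.RefRank.Embedded.maxSupp F, η ∉ CohB1.support (K : X.Modules) := by
    intro η hη
    rw [supp_iso u]
    exact Groth.RefRank.Embedded.notMem_support_kerMax hη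
  have hsupp : CohB1.support (cokernel K.arrow) = CohB1.support F :=
    (supp_iso e).trans (Groth.RefRank.Embedded.support_cokernel_kerMax hF)
  have hclK : IsClosed (CohB1.support (K : X.Modules)) :=
    Groth.CohTwo.isClosed_support _ (Groth.QCohMod.isCoh_of_iso u.symm hP)
  refine ⟨K, Groth.QCohMod.isCoh_of_iso u.symm hP, fun U hU => ?_, fun K' hK' hK'' => ?_, hsupp, ?_, ?_⟩
  · refine Set.eq_empty_iff_forall_notMem.2 fun y ⟨hyU, hy⟩ => ?_
    obtain ⟨η, hη, hsp⟩ := Groth.RefRank.Embedded.exists_maxSupp_specializes hF hy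
    exact hno η hη (hU ⟨hsp.mem_open U.isOpen hyU, hη.1⟩)
  · refine (Subobject.mk_arrow K').symm.le.trans ?_
    obtain ⟨g, hg⟩ := Groth.RefRank.Embedded.exists_factor K'.arrow P fun W s η hη hηW => by
      rw [Submodule.mem_bot]
      have hη' : η ∉ CohB1.support (K' : X.Modules) := by
        intro h
        obtain ⟨V, hηV, hV⟩ := Groth.RefRank.Embedded.exists_open_nhd hF hη
        have hcl := Groth.CohTwo.isClosed_support _ hK'
        have h0 := hK'' V fun y hy =>
          closure_minimal (Set.singleton_subset_iff.2 h) hcl (hV hy)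
        exact Set.eq_empty_iff_forall_notMem.1 h0 η ⟨hηV, hη.1⟩
      have hsub : Subsingleton ((K' : X.Modules).presheaf.stalk η) := not_not.1 hη'
      have h1 := TopCat.Presheaf.stalkFunctor_map_germ_apply W η hηW
        ((Scheme.Modules.toPresheaf X).map K'.arrow) s
      refine h1.symm.trans ?_
      have h2 : (K' : X.Modules).presheaf.germ W η hηW s = 0 := @Subsingleton.elim _ hsub _ _
      exact (congrArg _ h2).trans (map_zero _)
    exact Subobject.mk_le_mk_of_comm g hg
  · intro x hx y hy hyx
    have hq := (Groth.QCohMod.isCoh_cokernel P.ι hF).1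
    have hass := Groth.SchemeMorphisms.ass_eq_of_iso e hq
    have hx' := Groth.RefRank.Embedded.ass_subset_maxSupp hF
      (show x ∈ AssSch.Ass (cokernel P.ι) from hass ▸ hx)
    have hy' := Groth.RefRank.Embedded.ass_subset_maxSupp hF
      (show y ∈ AssSch.Ass (cokernel P.ι) from hass ▸ hy)
    exact hx'.2 y hy'.1 hyx
  · let U : X.Opens := ⟨(CohB1.support (K : X.Modules))ᶜ, hclK.isOpen_compl⟩
    have hKF : CohB1.support (K : X.Modules) ⊆ CohB1.support F := fun y hy hsub => hy
      (@Function.Injective.subsingleton _ _ _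
        ((Groth.QCohMod.mono_iff_stalk K.arrow).1 inferInstance y) hsub)
    refine ⟨U, dense_iff_inter_open.2 fun O hO hne => ?_, fun y hy => ?_, ?_⟩
    · by_contra hempty
      rw [Set.not_nonempty_iff_eq_empty] at hempty
      have hsub : O ⊆ CohB1.support (K : X.Modules) := fun y hy => by
        by_contra h
        exact Set.eq_empty_iff_forall_notMem.1 hempty y ⟨hy, h⟩
      obtain ⟨y, hy⟩ := hne
      obtain ⟨η, hη, hsp⟩ := Groth.RefRank.Embedded.exists_maxSupp_specializes hF (hKF (hsub hy))
      exact hno η hη (hsub (hsp.mem_open hO hy))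
    · obtain ⟨η, hη, hsp⟩ := Groth.RefRank.Embedded.exists_maxSupp_specializes hF hy
      exact closure_mono (Set.singleton_subset_iff.2 (show η ∈ _ ∩ _ from ⟨hno η hη, hη.1⟩)) hsp.mem_closure
    · have hd : Disjoint (U : Set X) (CohB1.support P.toMod) := by
        rw [← supp_iso u]
        exact disjoint_compl_left
      have := Groth.RefRank.Embedded.isIso_restrict_π hF U hd
      have he : cokernel.π K.arrow = cokernel.π P.ι ≫ e.inv := by
        rw [Iso.eq_comp_inv]
        simp [e]
      rw [he, Functor.map_comp]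
      infer_instance

end Groth.Agent.S8908
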