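import Groth.Statements.S8909
import Groth.Agent.DivisorLength.Main

set_option autoImplicit false
universe u
open CategoryTheory CategoryTheory.Limits AlgebraicGeometry TopologicalSpace
open SDiv

namespace Groth.Agent.S8909

/-- Let X be a Noetherian scheme and Z ⊆ X a closed subscheme with ideal sheaf 𝓩. Suppose given a family
of integral effective Cartier divisors D_i ⊆ X (ideal sheaves 𝓓_i, i ∈ I) and a closed subset Z' ⊆ X
whose irreducible components all have codimension at least 2 in X (the local ring of X at each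
maximal point of Z' has dimension ≥ 2), such that Z ⊆ Z' ∪ ⋃ D_i set-theoretically. Then there are
integers a_i ≥ 0, almost all zero, such that the effective Cartier divisor D = Σ a_i D_i (with ideal
sheaf the product of the 𝓓_i^{a_i}) is contained in Z as a closed subscheme and the inclusion D → Z
is an isomorphism outside codimension 2: for some open U ⊆ X the ideal sheaves of D and Z agree on U
and every irreducible component of Z ∖ U has codimension ≥ 2 in X. The published statement also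
asserts that such D_i and Z' exist when Z is nowhere dense in X and either every local ring of X at
a point of Z is factorial or X is regular; this row does not. -/
theorem result (X : Scheme.{u}) [IsNoetherian X] (𝓩 : X.IdealSheafData)
    {I : Type u} (𝓓 : I → X.IdealSheafData) (hD : ∀ i, BlowUp.IsEffCartierIdeal (𝓓 i)) (hDint : ∀ i, IsIntegral (𝓓 i).subscheme)
    (Z' : Set ↥X) (hZ' : IsClosed Z')
    (hcodim : ∀ z ∈ Z', (∀ y ∈ Z', y ⤳ z → y = z) → (2 : WithBot ℕ∞) ≤ ringKrullDim ↑(X.presheaf.stalk z))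
    (hcover : (𝓩.support : Set ↥X) ⊆ Z' ∪ ⋃ i, ((𝓓 i).support : Set ↥X)) :
    ∃ a : I →₀ ℕ, 𝓩 ≤ a.prod (fun i n => 𝓓 i ^ n) ∧
      ∃ U : X.Opens, (a.prod (fun i n => 𝓓 i ^ n)).comap U.ι = 𝓩.comap U.ι ∧
        ∀ z ∈ (𝓩.support : Set ↥X) \ (U : Set ↥X), (∀ y ∈ (𝓩.support : Set ↥X) \ (U : Set ↥X), y ⤳ z → y = z) →
          (2 : WithBot ℕ∞) ≤ ringKrullDim ↑(X.presheaf.stalk z) := by
  classical
  haveI : ∀ i, IsIntegral (𝓓 i).subscheme := hDint
  let η : I → X := fun i => Groth.DivisorLength.eta (𝓓 i)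
  have hgeneric : ∀ ζ : ↥X, (∀ y : ↥X, y ⤳ ζ → y = ζ) → ζ ∉ 𝓩.support := by
    intro ζ hζ hζZ
    rcases hcover hζZ with hζ' | hζ'
    · have h2 := hcodim ζ hζ' fun y _ hy => hζ y hy
      obtain ⟨W, hW, -⟩ := Groth.Divisors.exists_affine_le ζ ⊤ trivial
      rw [Groth.DivisorLength.dim_stalk hW] at h2
      have h0 : (W.2.primeIdealOf ⟨ζ, hW⟩).asIdeal.height = 0 := by
        rw [Ideal.height_eq_zero_iff]
        refine ⟨⟨inferInstance, bot_le⟩, fun q hq hqp => ?_⟩
        haveI := hq.1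
        let y := W.2.fromSpec ⟨q, inferInstance⟩
        have hy : y ∈ W.1 := by
          rw [← SetLike.mem_coe, ← W.2.range_fromSpec]; exact Set.mem_range_self _
        have hpy : W.2.primeIdealOf ⟨y, hy⟩ = ⟨q, inferInstance⟩ :=
          W.2.fromSpec.isOpenEmbedding.injective (W.2.fromSpec_primeIdealOf ⟨y, hy⟩)
        have hyz : y ⤳ ζ := by
          rw [Groth.DivisorLength.specializes_iff hy hW, hpy]
          exact hqp
        have := (Groth.DivisorLength.specializes_iff hW hy).1 (hζ y hyz ▸ specializes_rfl)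
        rwa [hpy] at this
      rw [h0] at h2
      exact absurd (WithBot.coe_le_coe.1 h2) (by simp)
    · obtain ⟨k, hk⟩ := Set.mem_iUnion.1 hζ'
      exact Groth.Divisors.not_mem_support_of_maximal (hD k) hζ hk
  choose Wi hWi ti ni htI hdivi hmemi using fun i =>
    Groth.DivisorLength.exists_order 𝓩 (𝓓 i) (hD i) hgeneric
  have hmaxη : ∀ i, η i ∈ 𝓩.support → ∀ y ∈ (𝓩.support : Set ↥X), y ⤳ η i → y = η i := by
    intro i _ y hy hyi
    have hyW : y ∈ (Wi i).1 := hyi.mem_open (Wi i).1.2 (hWi i)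
    have h1 := (Groth.DivisorLength.specializes_iff hyW (hWi i)).1 hyi
    rw [Groth.DivisorLength.primeIdealOf_eta (𝓓 i) (hWi i), htI] at h1
    obtain ⟨s, hs, hsZ⟩ := hmemi i
    have h2 := (Groth.DivisorLength.mem_support_iff_le hyW).1 hy hsZ
    have h3 : ti i ∈ ((Wi i).2.primeIdealOf ⟨y, hyW⟩).asIdeal :=
      ((Wi i).2.primeIdealOf ⟨y, hyW⟩).2.mem_of_pow_mem _
        ((((Wi i).2.primeIdealOf ⟨y, hyW⟩).2.mem_or_mem h2).resolve_left fun h => hs (h1 h))
    refine (hyi.antisymm ((Groth.DivisorLength.specializes_iff (hWi i) hyW).2 ?_)).eq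
    rw [Groth.DivisorLength.primeIdealOf_eta (𝓓 i) (hWi i), htI, Ideal.span_singleton_le_iff_mem]
    exact h3
  have hF : {y | ∃ i, η i = y ∧ η i ∈ 𝓩.support}.Finite := by
    refine (Groth.DivisorLength.finite_maximal_points 𝓩.support.2).subset ?_
    rintro _ ⟨i, rfl, hi⟩
    exact ⟨hi, hmaxη i hi⟩
  let S : Finset I := hF.toFinset.attach.image fun y => ((hF.mem_toFinset.1 y.2).choose)
  have hSsupp : ∀ i ∈ S, η i ∈ 𝓩.support := by
    intro i hi
    obtain ⟨y, -, rfl⟩ := Finset.mem_image.1 hi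
    exact ((hF.mem_toFinset.1 y.2).choose_spec).2
  have hSinj : ∀ i ∈ S, ∀ j ∈ S, η i = η j → i = j := by
    intro i hi j hj hij
    obtain ⟨y, -, rfl⟩ := Finset.mem_image.1 hi
    obtain ⟨y', -, rfl⟩ := Finset.mem_image.1 hj
    obtain rfl : y = y' := Subtype.ext (by
      rw [← ((hF.mem_toFinset.1 y.2).choose_spec).1, ← ((hF.mem_toFinset.1 y'.2).choose_spec).1, hij])
    rfl
  have hScov : ∀ i, η i ∈ 𝓩.support → ∃ j ∈ S, η j = η i := by
    intro i hi
    have hm : η i ∈ hF.toFinset := hF.mem_toFinset.2 ⟨i, rfl, hi⟩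
    exact ⟨_, Finset.mem_image.2 ⟨⟨η i, hm⟩, Finset.mem_attach _ _, rfl⟩,
      ((hF.mem_toFinset.1 hm).choose_spec).1⟩
  let a : I →₀ ℕ := Finsupp.onFinset S (fun i => if i ∈ S then ni i else 0) (fun i hi => by
    by_contra h; exact hi (if_neg h))
  have haprod : a.prod (fun i n => 𝓓 i ^ n) = ∏ i ∈ S, 𝓓 i ^ ni i := by
    rw [Finsupp.prod_of_support_subset a Finsupp.support_onFinset_subset _ (fun i _ => pow_zero _)]
    refine Finset.prod_congr rfl fun i hi => ?_
    simp [a, hi]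
  have hle : 𝓩 ≤ ∏ i ∈ S, 𝓓 i ^ ni i := Groth.DivisorLength.le_prod 𝓩 𝓓 hD ni S hSinj
    fun i _ => ⟨Wi i, hWi i, ti i, htI i, hdivi i⟩
  refine ⟨a, haprod.symm ▸ hle,
    ⨆ V : {V : X.affineOpens // (∏ i ∈ S, 𝓓 i ^ ni i).ideal V = 𝓩.ideal V}, V.1.1, ?_, ?_⟩
  · rw [haprod]
    refine Groth.Divisors.ext_of_cover fun y => ?_
    obtain ⟨⟨V, hV⟩, hyV⟩ := Opens.mem_iSup.1 y.2
    let U : X.Opens :=
      ⨆ V : {V : X.affineOpens // (∏ i ∈ S, 𝓓 i ^ ni i).ideal V = 𝓩.ideal V}, V.1.1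
    obtain ⟨W', hyW', hW'⟩ := Groth.Divisors.exists_affine_le y (U.ι ⁻¹ᵁ V.1) hyV
    exact ⟨W', hyW', by
      rw [Groth.Divisors.ideal_comap_of_openImm _ _ V W' hW',
        Groth.Divisors.ideal_comap_of_openImm 𝓩 _ V W' hW', hV]⟩
  · intro z hz _
    by_contra hdim
    rw [not_le] at hdim
    obtain ⟨hzZ, hzU⟩ := hz
    rcases hcover hzZ with hz' | hz'
    · obtain ⟨y, hyZ', hyz, hymax⟩ := Groth.DivisorLength.exists_maximal_generization hZ' hz'
      exact absurd ((hcodim y hyZ' fun w hw hwy => hymax w hw hwy).trans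
        (Groth.DivisorLength.dim_stalk_le_of_specializes hyz)) (not_le.2 hdim)
    · obtain ⟨i, hi⟩ := Set.mem_iUnion.1 hz'
      have hiz := (Groth.DivisorLength.mem_support_iff_eta (𝓓 i) z).1 hi
      obtain ⟨W, hzW, -, g, hg, hgI⟩ := Groth.Divisors.exists_generator (hD i) z ⊤ trivial
      have hηW : η i ∈ W.1 := hiz.mem_open W.1.2 hzW
      have hle' := (Groth.DivisorLength.specializes_iff hηW hzW).1 hiz
      have heq : η i = z := by
        by_contra hne
        have hlt : (W.2.primeIdealOf ⟨η i, hηW⟩).asIdeal < (W.2.primeIdealOf ⟨z, hzW⟩).asIdeal :=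
          lt_of_le_of_ne hle' fun h => hne (Groth.DivisorLength.eq_of_primeIdealOf_eq hηW hzW h)
        haveI := IsLocallyNoetherian.component_noetherian W
        have h1 := Ideal.height_strict_mono_of_isPrime_of_isPrime hlt
        have h0 : (W.2.primeIdealOf ⟨η i, hηW⟩).asIdeal.height ≠ 0 := fun h => by
          have hmin := Ideal.height_eq_zero_iff.1 h
          refine Set.disjoint_left.1 (Ideal.disjoint_nonZeroDivisors_of_mem_minimalPrimes hmin) ?_
            hg.mem_nonZeroDivisors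
          rw [SetLike.mem_coe, Groth.DivisorLength.primeIdealOf_eta (𝓓 i) hηW, hgI]
          exact Ideal.mem_span_singleton_self _
        rw [Groth.DivisorLength.dim_stalk hzW] at hdim
        have h2 : (W.2.primeIdealOf ⟨z, hzW⟩).asIdeal.height < (2 : ℕ∞) := WithBot.coe_lt_coe.1 hdim
        have h3 : (1 : ℕ∞) ≤ (W.2.primeIdealOf ⟨η i, hηW⟩).asIdeal.height :=
          ENat.one_le_iff_ne_zero.2 h0
        exact absurd (lt_of_le_of_lt (Order.add_one_le_of_lt (lt_of_le_of_lt h3 h1)) h2)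
          (by norm_num)
      obtain ⟨j, hjS, hjη⟩ := hScov i (heq ▸ hzZ : η i ∈ 𝓩.support)
      have hjz : η j = z := hjη.trans heq
      have hoff : ∀ k ∈ S, k ≠ j → η j ∉ (𝓓 k).support := fun k hk hkj hmem => hkj <|
        hSinj k hk j hjS (hmaxη j (hSsupp j hjS) _ (hSsupp k hk)
          ((Groth.DivisorLength.mem_support_iff_eta (𝓓 k) _).1 hmem))
      obtain ⟨V, hV, hVeq⟩ := Groth.DivisorLength.exists_eq_near 𝓩 𝓓 hD ni S hle hjS hoff
        (Wi j) (hWi j) (ti j) (htI j) (hmemi j)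
      exact hzU (Opens.mem_iSup.2 ⟨⟨V, hVeq⟩, hjz ▸ hV⟩)

end Groth.Agent.S8909
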