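import Groth.Statements.S8911
import Groth.Agent.RefRank.StrictSheaf

set_option autoImplicit false
universe u
open CategoryTheory CategoryTheory.Limits AlgebraicGeometry TopologicalSpace
open SDiv

namespace Groth.Agent.S8911

/-- Let S be a scheme, F a quasi-coherent O_S-module of finite type, k ≥ 0, b : S' ⟶ S a blowing up of S
in the closed subscheme Z_k cut out by Fit_k(F), and π : b^*F ⟶ G the strict transform of F along b.
Then G can locally be generated by at most k sections. -/
theorem result (S : Scheme.{u}) (F : S.Modules) (hF : Coh.IsQCoh F) (hft : CohB1.IsFT F)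
    (k : ℕ) {S' : Scheme.{u}} (b : S' ⟶ S) (hb : BlowUp.IsBlowUp b (Fitt.sheafIdeal F k)) (G : S'.Modules)
    (π : (Scheme.Modules.pullback b).obj F ⟶ G) (hG : BlowUp.IsStrictTransform b (Fitt.sheafIdeal F k) F G π) (s' : ↥S') :
    ∃ U : S'.Opens, s' ∈ U ∧ ∃ q : FlatMod.freeMod (↑U) k ⟶ G.restrict U.ι, Epi q := by
  haveI : F.IsQuasicoherent := hF
  haveI := Groth.RefRank.StrictSheaf.isQCoh_of_isStrictTransform hb.1 hG
  have hftG := Groth.RefRank.StrictSheaf.isFT_of_isStrictTransform hft hb.1 hG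
  obtain ⟨V, hxV, -⟩ := Groth.Divisors.exists_affine_le (b s') ⊤ trivial
  obtain ⟨W, hxW, hWV, t, ht, hI⟩ := Groth.Divisors.exists_generator hb.1 s' (b ⁻¹ᵁ V.1) hxV
  have h1 := (Groth.RefRank.StrictSheaf.fitt_sections hft hb.1 hG hWV ht hI k).1
    (Groth.RefRank.FittSheaf.sheafIdeal_ideal F hft k V)
  refine Groth.RefRank.FittSheaf.exists_nhd_epi G hftG k ?_
  rw [Groth.RefRank.EffCartierLocal.mem_support_iff_map_germ_ne_top _ hxW, not_not,
    Groth.RefRank.FittSheaf.sheafIdeal_ideal G hftG, h1, Ideal.map_top]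

end Groth.Agent.S8911
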