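import Groth.Statements.S8912
import Groth.Agent.RefRank.StrictSheaf

set_option autoImplicit false
universe u
open CategoryTheory CategoryTheory.Limits AlgebraicGeometry TopologicalSpace
open SDiv

namespace Groth.Agent.S8912

/-- Let S be a scheme, F a quasi-coherent O_S-module of finite type and k ≥ 0 such that F is locally
free of rank k on the complement of the closed subscheme Z_k cut out by Fit_k(F). Let b : S' ⟶ S be
a blowing up of S in Z_k and π : b^*F ⟶ G the strict transform of F. Then G is finite locally free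
of rank k. -/
theorem result (S : Scheme.{u}) (F : S.Modules) (hF : Coh.IsQCoh F) (hft : CohB1.IsFT F)
    (k : ℕ) (hfree : FlatMod.IsFinLocFreeOfRank k (F.restrict (Scheme.Opens.ι (Fitt.sheafIdeal F k).support.compl)))
    {S' : Scheme.{u}} (b : S' ⟶ S) (hb : BlowUp.IsBlowUp b (Fitt.sheafIdeal F k)) (G : S'.Modules)
    (π : (Scheme.Modules.pullback b).obj F ⟶ G) (hG : BlowUp.IsStrictTransform b (Fitt.sheafIdeal F k) F G π) :
    FlatMod.IsFinLocFreeOfRank k G := by
  haveI : F.IsQuasicoherent := hF
  refine Groth.RefRank.StrictSheaf.isFinLocFreeOfRank hft k hb.1 hG fun j hj V a ha z hz hns => ?_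
  have h := (Groth.RefRank.StrictSheaf.fitt_stalk_of_free F hft
    (Fitt.sheafIdeal F k).support.compl hfree j (z := z) hns hz).1 hj
  rw [Groth.RefRank.FittSheaf.sheafIdeal_ideal F hft] at h
  exact (Ideal.mem_bot).1 (h ▸ Ideal.mem_map_of_mem _ ha)

end Groth.Agent.S8912
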