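import Groth.Statements.S8913
import Groth.Agent.RefRank.StrictSheaf

set_option autoImplicit false
universe u
open CategoryTheory CategoryTheory.Limits AlgebraicGeometry TopologicalSpace
open SDiv

namespace Groth.Agent.S8913

/-- Let X be a scheme, F a finitely presented O_X-module and U ⊆ X an open subscheme which is
scheme-theoretically dense and over which F is locally free of constant finite rank r. Then: (1)
Fit_r(F) is of finite type with support disjoint from U, so a blowing up b : X' ⟶ X of X in Fit_r(F)
is U-admissible; (2) the strict transform G of F along such b is locally free of rank r; (3) the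
kernel of the surjection b^*F ⟶ G is finitely presented and restricts to zero over b⁻¹U. This row
does not assert that b^*F and the kernel are perfect of tor dimension at most one. -/
theorem result (X : Scheme.{u}) (F : X.Modules) (hF : CohB1.IsFP F)
    (U : X.Opens) (hU : CInt.IsSchematicallyDense U) (r : ℕ) (hfree : FlatMod.IsFinLocFreeOfRank r (F.restrict U.ι)) :
    BlowUp.IsAdmissibleFor U (Fitt.sheafIdeal F r) ∧
      ∀ (X' : Scheme.{u}) (b : X' ⟶ X), BlowUp.IsBlowUp b (Fitt.sheafIdeal F r) →
        ∀ (G : X'.Modules) (π : (Scheme.Modules.pullback b).obj F ⟶ G), BlowUp.IsStrictTransform b (Fitt.sheafIdeal F r) F G π →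
          FlatMod.IsFinLocFreeOfRank r G ∧ CohB1.IsFP (kernel π) ∧ IsZero ((kernel π).restrict (b ⁻¹ᵁ U).ι) := by
  haveI : SheafOfModules.IsFinitePresentation (R := X.ringCatSheaf) F := hF
  haveI : F.IsQuasicoherent := inferInstance
  have hft := Groth.PropsBasic.LocFree.isFT_of_isFP F hF
  have hns : ∀ z ∈ U, z ∉ (Fitt.sheafIdeal F r).support := fun z hz => by
    obtain ⟨V, hzV, -⟩ := Groth.Divisors.exists_affine_le z ⊤ trivial
    rw [Groth.RefRank.EffCartierLocal.mem_support_iff_map_germ_ne_top _ hzV, not_not]
    exact (Groth.RefRank.StrictSheaf.fitt_stalk_of_free F hft U hfree r hz hzV).2 le_rfl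
  refine ⟨⟨fun V => ?_, Set.disjoint_left.2 fun z h1 h2 => hns z h2 h1⟩, fun X' b hb G π hG => ?_⟩
  · haveI := Groth.PropsBasic.FPSections.finitePresentation_sections F hF V.2
    rw [Groth.RefRank.FittSheaf.sheafIdeal_ideal F hft]
    exact Groth.Misc3Fitt.ideal_fg r
  have hG' : FlatMod.IsFinLocFreeOfRank r G := by
    refine Groth.RefRank.StrictSheaf.isFinLocFreeOfRank hft r hb.1 hG fun j hj V a ha z hz _ => ?_
    have ha0 : a = 0 := by
      apply hU V.1
      rw [map_zero]
      refine Groth.Divisors.section_ext fun w hw => ?_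
      rw [map_zero]
      erw [TopCat.Presheaf.germ_res_apply]
      have h := (Groth.RefRank.StrictSheaf.fitt_stalk_of_free F hft U hfree j hw.2 (V := V) hw.1).1 hj
      rw [Groth.RefRank.FittSheaf.sheafIdeal_ideal F hft] at h
      exact (Ideal.mem_bot).1 (h ▸ Ideal.mem_map_of_mem _ ha)
    rw [ha0, map_zero]
  exact ⟨hG', Groth.RefRank.StrictSheaf.isFP_kernel hF hb.1 hG hG',
    Groth.RefRank.StrictSheaf.isZero_restrict_kernel hG U hns⟩

end Groth.Agent.S8913
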