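import Groth.Statements.S8920
import Groth.Agent.KoszulLCI.KindSplitDescent
import Groth.Agent.KoszulLCI.ConormalSplitDescent

set_option autoImplicit false
universe u
open CategoryTheory CategoryTheory.Limits AlgebraicGeometry TopologicalSpace
open SDiv

namespace Groth.Agent.S8920

/-- A section of the last map of a short exact sequence over an open gives retractions on sections. -/
theorem exists_retraction_of_section {Z : Scheme.{u}} (S : ShortComplex Z.Modules) (hS : S.ShortExact)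
    [S.X₁.IsQuasicoherent] [S.X₂.IsQuasicoherent] [S.X₃.IsQuasicoherent] (U : Z.Opens)
    (s : (Scheme.Modules.restrictFunctor U.ι).obj S.X₃ ⟶ (Scheme.Modules.restrictFunctor U.ι).obj S.X₂)
    (hs : s ≫ (Scheme.Modules.restrictFunctor U.ι).map S.g = 𝟙 _) (V : Z.Opens) (hV : IsAffineOpen V) (hVU : V ≤ U) :
    ∃ r : Γ(S.X₂, V) →+ Γ(S.X₁, V), (∀ (a : Γ(Z, V)) x, r (a • x) = a • r x) ∧ ∀ y, r (S.f.app V y) = y := by
  obtain ⟨V', rfl⟩ : ∃ V' : (U : Scheme.{u}).Opens, U.ι ''ᵁ V' = V :=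
    ⟨U.ι ⁻¹ᵁ V, by rw [Scheme.Hom.image_preimage_eq_opensRange_inf, Scheme.Opens.opensRange_ι, inf_eq_right.mpr hVU]⟩
  let σ : Γ(S.X₃, U.ι ''ᵁ V') →+ Γ(S.X₂, U.ι ''ᵁ V') := Groth.PicAux.restrictApp (j := U.ι) s V'
  have hgσ : ∀ y, S.g.app (U.ι ''ᵁ V') (σ y) = y := fun y => congr((Scheme.Modules.Hom.app $hs V') y)
  have := hS.mono_f
  have hinj := Groth.QCohMod.app_injective_of_mono S.f (U.ι ''ᵁ V')
  have hgf : ∀ y, S.g.app (U.ι ''ᵁ V') (S.f.app (U.ι ''ᵁ V') y) = 0 := fun y => by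
    rw [← CategoryTheory.comp_apply, ← Scheme.Modules.Hom.comp_app, S.zero]
    rfl
  have hex : ∀ x, ∃ y, S.f.app (U.ι ''ᵁ V') y = x - σ (S.g.app (U.ι ''ᵁ V') x) := fun x =>
    Groth.QCohMod.exists_app_eq_of_exact hS.exact hV _ (by rw [map_sub, hgσ, sub_self])
  choose r hr using hex
  refine ⟨AddMonoidHom.mk' r fun x y => hinj ?_, fun a x => hinj ?_, fun y => hinj ?_⟩
  · rw [map_add, hr, hr, hr, map_add, map_add]
    abel
  · show S.f.app _ (r (a • x)) = S.f.app _ (a • r x)
    rw [Scheme.Modules.Hom.app_smul, hr, hr, Scheme.Modules.Hom.app_smul, smul_sub]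
    exact congrArg _ (Groth.PicAux.restrictApp_smul s V' a _)
  · show S.f.app _ (r (S.f.app _ y)) = S.f.app _ y
    rw [hr, hgf, map_zero, sub_zero]

/-- Let i : Z ⟶ Y and j : Y ⟶ X be quasi-compact immersions of schemes with j locally of finite
presentation, and let a : i^*C_{Y/X} ⟶ C_{Z/X}, b : C_{Z/X} ⟶ C_{Z/Y} be the canonical maps of
conormal sheaves. Assume the sequence 0 → i^*C_{Y/X} → C_{Z/X} → C_{Z/Y} → 0 is exact and locally
split (every point of Z has an open neighbourhood over which b admits a section). Then: (1)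
quasi-regularity of j ∘ i passes to i; (2) likewise for H_1-regularity; (3) if both j and j ∘ i are
Koszul-regular then i is Koszul-regular too. The published statement allows arbitrary immersions;
this row takes both immersions quasi-compact, the case in which the conormal sheaves used here are
those of the immersions. -/
theorem result {Z Y X : Scheme.{u}} (i : Z ⟶ Y) (j : Y ⟶ X) [IsImmersion i] [IsImmersion j]
    [QuasiCompact i] [QuasiCompact j]
    (a : (Scheme.Modules.pullback i).obj (Omega.conormal j) ⟶ Omega.conormal (i ≫ j))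
    (ha : OmegaSh.IsConormalMap (i ≫ j) j (𝟙 X) i a)
    (b : (Scheme.Modules.pullback (𝟙 Z)).obj (Omega.conormal (i ≫ j)) ⟶ Omega.conormal i)
    (hb : OmegaSh.IsConormalMap i (i ≫ j) j (𝟙 Z) b)
    [LocallyOfFinitePresentation j]
    (w : a ≫ ((Scheme.Modules.pullbackId Z).inv.app (Omega.conormal (i ≫ j)) ≫ b) = 0) (hex : (ShortComplex.mk a ((Scheme.Modules.pullbackId Z).inv.app (Omega.conormal (i ≫ j)) ≫ b) w).ShortExact)
    (hsplit : ∀ z : ↥Z, ∃ U : Z.Opens, z ∈ U ∧
      ∃ r : (Scheme.Modules.restrictFunctor U.ι).obj (Omega.conormal i) ⟶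
          (Scheme.Modules.restrictFunctor U.ι).obj (Omega.conormal (i ≫ j)),
        r ≫ (Scheme.Modules.restrictFunctor U.ι).map ((Scheme.Modules.pullbackId Z).inv.app (Omega.conormal (i ≫ j)) ≫ b) = 𝟙 _) :
    (RegImm.IsRegularImmersion RegImm.Kind.quasi (i ≫ j) → RegImm.IsRegularImmersion RegImm.Kind.quasi i) ∧
      (RegImm.IsRegularImmersion RegImm.Kind.h1 (i ≫ j) → RegImm.IsRegularImmersion RegImm.Kind.h1 i) ∧
      (RegImm.IsRegularImmersion RegImm.Kind.koszul j → RegImm.IsRegularImmersion RegImm.Kind.koszul (i ≫ j) →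
        RegImm.IsRegularImmersion RegImm.Kind.koszul i) := by
  have hret : ∀ z : ↥Z, ∃ U : Z.Opens, z ∈ U ∧ ∀ V : Z.Opens, IsAffineOpen V → V ≤ U →
      ∃ r : Γ(Omega.conormal (i ≫ j), V) →+ Γ((Scheme.Modules.pullback i).obj (Omega.conormal j), V),
        (∀ (c : Γ(Z, V)) x, r (c • x) = c • r x) ∧ ∀ y, r (a.app V y) = y := fun z => by
    obtain ⟨U, hzU, s, hs⟩ := hsplit z
    exact ⟨U, hzU, fun V hV hVU => exists_retraction_of_section _ hex U s hs V hV hVU⟩
  exact ⟨fun h => Groth.KoszulLCI.isRegularImmersion_of_retraction i j _ (Or.inr rfl) ha h hret,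
    fun h => Groth.KoszulLCI.isRegularImmersion_of_retraction i j _ (Or.inl rfl) ha h hret,
    fun hj hij => Groth.KoszulLCI.isRegularImmersion_koszul_of_retraction i j ha (fun z => hj.2 (i z)) hij hret⟩

end Groth.Agent.S8920
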