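import Groth.Statements.S8921
import Groth.Agent.KoszulLCI.ConormalSplitMem
import Groth.Agent.KoszulLCI.RegularPairAlg
import Groth.Agent.KoszulLCI.RegularStalk

set_option autoImplicit false
universe u
open CategoryTheory CategoryTheory.Limits AlgebraicGeometry TopologicalSpace
open SDiv

namespace Groth.Agent.S8921

open Groth.KoszulLCI Groth.OmegaSheaf

theorem inf_map_le {C : Type u} [CommRing C] (S : Type u) [CommRing S] [IsLocalRing S] [Algebra C S]
    (p : Ideal C) [p.IsPrime] [IsLocalization.AtPrime S p] (N J : Ideal C) (h : N ⊓ p * J ≤ p * N) :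
    N.map (algebraMap C S) ⊓ IsLocalRing.maximalIdeal S * J.map (algebraMap C S) ≤
      IsLocalRing.maximalIdeal S * N.map (algebraMap C S) := by
  rw [← IsLocalization.AtPrime.map_eq_maximalIdeal p S, ← Ideal.map_mul, ← Ideal.map_mul]
  rintro x ⟨hxN, hxJ⟩
  obtain ⟨a, d, rfl⟩ := IsLocalization.exists_mk'_eq p.primeCompl x
  rw [SetLike.mem_coe, IsLocalization.mk'_mem_map_algebraMap_iff] at hxN hxJ
  obtain ⟨s, hs, hsa⟩ := hxN
  obtain ⟨t, ht, hta⟩ := hxJ
  rw [IsLocalization.mk'_mem_map_algebraMap_iff]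
  refine ⟨s * t, mul_mem hs ht, h ⟨?_, ?_⟩⟩
  · rw [mul_assoc, mul_left_comm]
    exact Ideal.mul_mem_left _ _ hsa
  · rw [mul_assoc]
    exact Ideal.mul_mem_left _ _ hta

/-- Let i : Z ⟶ Y and j : Y ⟶ X be immersions of schemes with X locally Noetherian, z a point of Z with
images y = i z and x, and a : i^*C_{Y/X} ⟶ C_{Z/X}, b : C_{Z/X} ⟶ C_{Z/Y} the canonical maps of
conormal sheaves. The following are equivalent: (1) i is regular near z and j is regular near y; (2)
i and j ∘ i are regular near z; (3) j ∘ i is regular near z and the sequence 0 → i^*C_{Y/X} →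
C_{Z/X} → C_{Z/Y} → 0 is split short exact over some open neighbourhood of z. Both immersions are
quasi-compact automatically, X being locally Noetherian; the quasi-compactness binders only make the
conormal sheaves available. -/
theorem result {Z Y X : Scheme.{u}} (i : Z ⟶ Y) (j : Y ⟶ X) [IsImmersion i] [IsImmersion j]
    [QuasiCompact i] [QuasiCompact j]
    (a : (Scheme.Modules.pullback i).obj (Omega.conormal j) ⟶ Omega.conormal (i ≫ j))
    (ha : OmegaSh.IsConormalMap (i ≫ j) j (𝟙 X) i a)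
    (b : (Scheme.Modules.pullback (𝟙 Z)).obj (Omega.conormal (i ≫ j)) ⟶ Omega.conormal i)
    (hb : OmegaSh.IsConormalMap i (i ≫ j) j (𝟙 Z) b)
    [IsLocallyNoetherian X] (z : ↥Z) :
    ((RegImm.IsRegularImmersionAt RegImm.Kind.regular i z ∧ RegImm.IsRegularImmersionAt RegImm.Kind.regular j (i z)) ↔
      (RegImm.IsRegularImmersionAt RegImm.Kind.regular i z ∧ RegImm.IsRegularImmersionAt RegImm.Kind.regular (i ≫ j) z)) ∧
    ((RegImm.IsRegularImmersionAt RegImm.Kind.regular i z ∧ RegImm.IsRegularImmersionAt RegImm.Kind.regular (i ≫ j) z) ↔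
      (RegImm.IsRegularImmersionAt RegImm.Kind.regular (i ≫ j) z ∧
        ∃ U : Z.Opens, z ∈ U ∧
          ∀ w : (Scheme.Modules.restrictFunctor U.ι).map a ≫ (Scheme.Modules.restrictFunctor U.ι).map ((Scheme.Modules.pullbackId Z).inv.app (Omega.conormal (i ≫ j)) ≫ b) = 0,
            Nonempty (ShortComplex.mk ((Scheme.Modules.restrictFunctor U.ι).map a) ((Scheme.Modules.restrictFunctor U.ι).map ((Scheme.Modules.pullbackId Z).inv.app (Omega.conormal (i ≫ j)) ≫ b)) w).Splitting)) := by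
  have : IsLocallyNoetherian Y := LocallyOfFiniteType.isLocallyNoetherian j
  let θ := (j.stalkMap (i z)).hom
  have hθ : Function.Surjective θ := j.stalkMap_surjective (i z)
  let K := RingHom.ker (i.stalkMap z).hom
  have hJ : RingHom.ker ((i ≫ j).stalkMap z).hom = K.comap θ := ker_stalkMap_comp i j z
  rw [isRegularImmersionAt_regular_iff j (i z), isRegularImmersionAt_regular_iff (i ≫ j) z, hJ]
  have h21 : CInt.IsRegularIdeal K → CInt.IsRegularIdeal (K.comap θ) →
      CInt.IsRegularIdeal (RingHom.ker θ) := by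
    rintro ⟨f, hf, hfI⟩ h
    have hf' : CAlgX.IsH1Regular f.get := seq_h1_of_koszul (seq_koszul_of_regular hf)
    have hK : K = Ideal.span (Set.range f.get) := by
      rw [← hfI, Set.range_list_get]
    refine (isRegularIdeal_pair_of_inf_le θ hθ h ?_).1
    rw [hK]
    exact inf_mul_le_of_h1 θ hθ f.get hf' _
      (hK ▸ IsLocalRing.le_maximalIdeal (Ideal.comap_ne_top _ (RingHom.ker_ne_top _)))
  refine ⟨⟨fun ⟨hi, hj⟩ => ⟨hi, isRegularIdeal_comap_pair θ hθ hj ((isRegularImmersionAt_regular_iff i z).mp hi)⟩,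
    fun ⟨hi, hij⟩ => ⟨hi, h21 ((isRegularImmersionAt_regular_iff i z).mp hi) hij⟩⟩, ?_⟩
  let b' := (Scheme.Modules.pullbackId Z).inv.app (Omega.conormal (i ≫ j)) ≫ b
  have w₀ : a ≫ b' = 0 := transMap_comp_eq_zero ha hb (e := 𝟙 Y) (show j ≫ 𝟙 X = 𝟙 Y ≫ j by simp)
  constructor
  · rintro ⟨hi, hij⟩
    refine ⟨hij, ?_⟩
    obtain ⟨U₀, hz₀, hci, rs, hrs, hker⟩ := hi
    have hi1 : RegImm.IsRegularImmersionAt .h1 i z :=
      ⟨U₀, hz₀, hci, rs, seq_h1_of_koszul (seq_koszul_of_regular hrs), hker⟩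
    obtain ⟨W, hzW, hjW, hkW, c, f, hf, hfk⟩ := exists_h1_chart i j z hi1
    have hiW : IsConormalChart i (j ⁻¹ᵁ W) := ⟨hjW.affine_preimage, hkW.affine_preimage, fun x => by
      obtain ⟨v, hv⟩ := hkW.surjective x
      exact ⟨j.app W v, hv⟩⟩
    obtain ⟨B⟩ := nonempty_basis_conormal i hiW f hf hfk
    refine ⟨(i ≫ j) ⁻¹ᵁ W, hzW, fun w => ?_⟩
    have hch := exists_transChart_immersion i j
    have hepi : Epi b' := by
      have : Epi b := transMap_epi hb fun z' ↦ by
        obtain ⟨W, W', e, hz, hW', hV, hn, -⟩ := hch z'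
        exact ⟨W', hz, hW', hV, hn⟩
      have : Epi ((Scheme.Modules.pullbackId Z).inv.app (Omega.conormal (i ≫ j))) :=
        (inferInstance : Epi ((Scheme.Modules.pullbackId Z).app (Omega.conormal (i ≫ j))).inv)
      exact epi_comp' this ‹Epi b›
    refine exists_splitting_restrict (ShortComplex.mk a b' w₀) (transMap_exact ha hb hch w₀) hepi
      hkW.affine_preimage (conormalMap_app_injective i j ha hjW hkW ?_) (c := c) B w
    have hcomp : RingHom.ker ((i ≫ j).app W).hom = (Ideal.span (Set.range f)).comap (j.app W).hom := by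
      rw [← hfk, RingHom.comap_ker]
      rfl
    rw [hcomp]
    exact inf_sq_le_of_h1 (j.app W).hom hjW.surjective f hf
  · rintro ⟨hij, U, hzU, hsplit⟩
    refine ⟨?_, hij⟩
    obtain ⟨σ⟩ := hsplit (by rw [← Functor.map_comp, w₀, Functor.map_zero])
    obtain ⟨O, hO, hOU⟩ := (i ≫ j).isEmbedding.isOpen_iff.mp U.2
    obtain ⟨W, hkW, hzW, hWle⟩ := exists_conormalChart (i ≫ j) z (W₀ := ⟨O, hO⟩ ⊓ j.coborderRange)
      ⟨show (i ≫ j) z ∈ O from by rw [← Set.mem_preimage, hOU]; exact hzU, subset_coborder ⟨i z, rfl⟩⟩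
    have hjW : IsConormalChart j W := isConormalChart_of_le j hkW.affine fun p hp => (hWle hp).2
    have hWU : (i ≫ j) ⁻¹ᵁ W ≤ U := fun p hp => by
      have : (i ≫ j) p ∈ O := (hWle hp).1
      rwa [← Set.mem_preimage, hOU] at this
    have : IsClosedImmersion (j ∣_ j.coborderRange) := isClosedImmersion_restrict_coborder j
    have : IsClosedImmersion (j ∣_ W) := Groth.KoszulReg.isClosedImmersion_restrict j fun p hp => (hWle hp).2
    have : IsClosedImmersion ((i ≫ j) ∣_ (i ≫ j).coborderRange) := isClosedImmersion_restrict_coborder (i ≫ j)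
    obtain ⟨W', hkW', hzW', hle'⟩ := exists_conormalChart (i ≫ j) z (W₀ := W ⊓ (i ≫ j).coborderRange)
      ⟨hzW, subset_coborder ⟨z, rfl⟩⟩
    have hjW' : IsConormalChart j W' :=
      isConormalChart_of_le j hkW'.affine fun p hp => (hWle (hle' hp).1).2
    have hWU' : (i ≫ j) ⁻¹ᵁ W' ≤ U := fun p hp => hWU (hle' hp).1
    have : IsClosedImmersion (j ∣_ W') := Groth.KoszulReg.isClosedImmersion_restrict j fun p hp => (hle' hp).1
    have : IsClosedImmersion ((i ≫ j) ∣_ W') :=
      Groth.KoszulReg.isClosedImmersion_restrict (i ≫ j) fun p hp => (hle' hp).2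
    obtain ⟨r, hr, hrψ⟩ := exists_retraction_sections a U σ.r σ.f_r _ hWU'
    rw [isRegularImmersionAt_regular_iff i z]
    refine (isRegularIdeal_pair_of_inf_le θ hθ hij ?_).2
    let _ : Algebra Γ(X, W') (X.presheaf.stalk (j (i z))) := (X.presheaf.germ W' (j (i z)) hzW').hom.toAlgebra
    have hloc : IsLocalization.AtPrime (X.presheaf.stalk (j (i z))) (hkW'.affine.primeIdealOf ⟨(i ≫ j) z, hzW'⟩).asIdeal :=
      hkW'.affine.isLocalization_stalk ⟨(i ≫ j) z, hzW'⟩
    have hN : RingHom.ker θ = (RingHom.ker (j.app W').hom).map (algebraMap Γ(X, W') (X.presheaf.stalk (j (i z)))) :=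
      ker_stalkMap_eq_map_of_restrict j ⟨W', hkW'.affine⟩ (i z) hzW'
    have hJ' : K.comap θ = (RingHom.ker ((i ≫ j).app W').hom).map (algebraMap Γ(X, W') (X.presheaf.stalk (j (i z)))) :=
      hJ.symm.trans (ker_stalkMap_eq_map_of_restrict (i ≫ j) ⟨W', hkW'.affine⟩ z hzW')
    rw [hN, hJ']
    refine inf_map_le _ (hkW'.affine.primeIdealOf ⟨(i ≫ j) z, hzW'⟩).asIdeal _ _ ?_
    exact inf_mul_le_of_retraction i j ha hjW' hkW' r hr hrψ _
      (Groth.KoszulLCI.ker_app_le_primeIdealOf (i ≫ j) hkW'.affine z hzW')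

end Groth.Agent.S8921
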