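import Groth.Statements.S8922
import Groth.Agent.S12131
import Groth.Agent.RaynaudGruson.Flattening.Chart
-- import your own Groth.Agent.* helpers here

set_option autoImplicit false
universe u
open CategoryTheory CategoryTheory.Limits AlgebraicGeometry TopologicalSpace
open SDiv

set_option linter.style.haveILetI false

attribute [-instance] CategoryTheory.catToReflQuiver CategoryTheory.ReflQuiver.toQuiver

namespace Groth.Agent.S8922

/-- Let S be a scheme, 𝓘 a quasi-coherent ideal sheaf on S with closed subscheme Z, b : S' ⟶ S a blowing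
up of S in Z, g : X ⟶ Y an affine morphism of schemes over S, F a quasi-coherent O_X-module, and π :
pr_X^*F ⟶ F' a strict transform of F along b (on X ×_S S'). Write g' : X ×_S S' ⟶ Y ×_S S' for the
base change of g. Then g'_*F' is a strict transform of g_*F along b: there is an epimorphism
pr_Y^*(g_*F) ⟶ g'_*F' whose kernel consists, affine-locally, exactly of the sections annihilated by
a power of the inverse image of 𝓘. The published statement identifies g'_*F' with the strict
transform through the canonical base-change isomorphism; this row asserts only that some epimorphism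
from pr_Y^*(g_*F) onto g'_*F' has the strict-transform property. -/
theorem result {X Y S S' : Scheme.{u}} (hX : X ⟶ S) (hY : Y ⟶ S) (g : X ⟶ Y) [IsAffineHom g]
    (h : g ≫ hY = hX) (𝓘 : S.IdealSheafData) (b : S' ⟶ S) (hb : BlowUp.IsBlowUp b 𝓘) (F : X.Modules) (hF : Coh.IsQCoh F)
    (F' : (pullback hX b).Modules) (π : (Scheme.Modules.pullback (pullback.fst hX b)).obj F ⟶ F')
    (hπ : BlowUp.IsStrictTransform (pullback.fst hX b) (𝓘.comap hX) F F' π) :
    ∃ π' : (Scheme.Modules.pullback (pullback.fst hY b)).obj ((Scheme.Modules.pushforward g).obj F) ⟶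
        (Scheme.Modules.pushforward (pullback.map hX b hY b g (𝟙 S') (𝟙 S)
          ((Category.comp_id hX).trans h.symm) ((Category.comp_id b).trans (Category.id_comp b).symm))).obj F',
      BlowUp.IsStrictTransform (pullback.fst hY b) (𝓘.comap hY) ((Scheme.Modules.pushforward g).obj F)
        ((Scheme.Modules.pushforward (pullback.map hX b hY b g (𝟙 S') (𝟙 S)
          ((Category.comp_id hX).trans h.symm) ((Category.comp_id b).trans (Category.id_comp b).symm))).obj F') π' := by
  let g' := pullback.map hX b hY b g (𝟙 S') (𝟙 S)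
    ((Category.comp_id hX).trans h.symm) ((Category.comp_id b).trans (Category.id_comp b).symm)
  let qX := pullback.fst hX b
  let qY := pullback.fst hY b
  haveI : F.IsQuasicoherent := hF
  haveI : Coh.IsQCoh F := hF
  have hg'1 : g' ≫ qY = qX ≫ g := pullback.lift_fst _ _ _
  have hg'2 : g' ≫ pullback.snd hY b = pullback.snd hX b :=
    (pullback.lift_snd _ _ _).trans (Category.comp_id _)
  have hsq : IsPullback qX g' g qY := by
    refine IsPullback.of_bot ?_ hg'1.symm (IsPullback.of_hasPullback hY b)
    rw [hg'2, h]
    exact IsPullback.of_hasPullback hX b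
  haveI : IsAffineHom g' := MorphismProperty.of_isPullback hsq inferInstance
  let u := ((Scheme.Modules.pullbackPushforwardAdjunction qY).homEquiv ((Scheme.Modules.pushforward g).obj F)
      ((Scheme.Modules.pushforward g').obj ((Scheme.Modules.pullback qX).obj F))).symm
    ((Scheme.Modules.pushforward g).map ((Scheme.Modules.pullbackPushforwardAdjunction qX).unit.app F) ≫
      (Scheme.Modules.pushforwardComp qX g).hom.app ((Scheme.Modules.pullback qX).obj F) ≫
      (Scheme.Modules.pushforwardCongr hsq.w).hom.app ((Scheme.Modules.pullback qX).obj F) ≫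
      (Scheme.Modules.pushforwardComp g' qY).inv.app ((Scheme.Modules.pullback qX).obj F))
  haveI : IsIso u := Groth.Agent.S12131.result g qY qX g' hsq F
  haveI := Groth.RaynaudGruson.Flattening.isQCoh_strictTransform (IsPullback.of_hasPullback hX b) hb.1 hπ
  haveI : ((Scheme.Modules.pullback qX).obj F).IsQuasicoherent := Groth.QCohMod.isQCoh_pullback_obj qX F
  haveI := hπ.1
  have hu : ∀ W : (pullback hY b).Opens, Function.Bijective (u.app W) := fun W =>
    ConcreteCategory.bijective_of_isIso (u.app W)
  refine ⟨u ≫ (Scheme.Modules.pushforward g').map π,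
    Groth.QCohMod.epi_of_affine_surjective _ fun W hW => ?_, fun W m => ?_⟩
  · exact (Groth.QCohMod.app_surjective_of_epi π (hW.preimage g')).comp (hu W).surjective
  · have hexc : ((𝓘.comap hX).comap qX).ideal ⟨g' ⁻¹ᵁ W.1, W.2.preimage g'⟩ =
        (((𝓘.comap hY).comap qY).ideal W).map (g'.app W.1).hom := by
      rw [Scheme.Hom.app_eq_appLE,
        ← Groth.Divisors.ideal_comap_affine ((𝓘.comap hY).comap qY) g' W ⟨g' ⁻¹ᵁ W.1, W.2.preimage g'⟩ le_rfl]
      simp only [← Scheme.IdealSheafData.comap_comp]
      rw [← Category.assoc, hg'1, Category.assoc, h]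
    refine Iff.trans (hπ.2 ⟨g' ⁻¹ᵁ W.1, W.2.preimage g'⟩ (u.app W.1 m)) (exists_congr fun n => ?_)
    show (∀ a : Γ(pullback hX b, g' ⁻¹ᵁ W.1), a ∈ (((𝓘.comap hX).comap qX) ^ n).ideal
        ⟨g' ⁻¹ᵁ W.1, W.2.preimage g'⟩ → a • (show Γ((Scheme.Modules.pullback qX).obj F, g' ⁻¹ᵁ W.1) from u.app W.1 m) = 0) ↔ _
    simp only [Scheme.IdealSheafData.ideal_pow, Pi.pow_apply]
    rw [hexc, ← Ideal.map_pow]
    constructor
    · intro hk a ha
      refine (hu W.1).injective ?_
      rw [u.app_smul, map_zero]
      exact hk _ (Ideal.mem_map_of_mem _ ha)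
    · intro hk a ha
      induction ha using Submodule.span_induction with
      | mem a ha =>
        obtain ⟨c, hc, rfl⟩ := ha
        show c • u.app W.1 m = 0
        rw [← u.app_smul, hk c hc, map_zero]
      | zero => exact zero_smul _ _
      | add a a' _ _ ha ha' => rw [add_smul, ha, ha', add_zero]
      | smul c a _ ha => rw [smul_eq_mul, mul_smul, ha, smul_zero]

end Groth.Agent.S8922
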