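import Groth.Statements.S8923
import Groth.Agent.RefRank.LocFin

set_option autoImplicit false
universe u
open CategoryTheory CategoryTheory.Limits AlgebraicGeometry TopologicalSpace
open SDiv

namespace Groth.Agent.S8923

/-- Let X be an integral scheme that is locally Noetherian, L an invertible O_X-module and s a nonzero
rational (regular meromorphic) section of L, viewed as a nonzero element of the stalk of L at the
generic point. Then the collection of prime divisors Z ⊆ X with ord_{Z,L}(s) ≠ 0, i.e. the closures
of the codimension-1 points x (dim O_{X,x} = 1) along which s has nonzero order, is locally finite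
in X. -/
theorem result (X : Scheme.{u}) [IsIntegral X] [IsLocallyNoetherian X] (L : X.Modules)
    (hL : PicF.IsInvertible L) (s : Cyc.secFibre L (genericPoint ↥X)) (hs : s ≠ 0) :
    LocallyFinite (fun x : {x : ↥X // ringKrullDim ↑(X.presheaf.stalk x) = 1 ∧
        Cyc.secOrdAt L (genericPoint ↥X) x ((genericPoint_spec ↥X).specializes (Set.mem_univ x)) s ≠ 0} => closure ({x.1} : Set ↥X)) := by
    obtain ⟨w, rfl⟩ := Submodule.Quotient.mk_surjective _ s
    have hw : w ≠ 0 := fun e => hs (by rw [e]; rfl)
    have := Groth.RefRank.isQuasicoherent_of_isInvertible hL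
    obtain ⟨U, t, hU, ht⟩ := (Groth.PicAux.isInvertible_iff_exists_gen L).1 hL (genericPoint ↥X)
    obtain ⟨W, hW, h⟩ := Groth.RefRank.exists_open_ordSec_eq_zero hU ht hw
    exact Groth.RefRank.locallyFinite_codim_one_compl hW _ fun x hx =>
      ⟨(Groth.RefRank.coheight_eq_one_iff x).mpr hx.1, fun hxW => hx.2 (h x hxW hx.1.le)⟩

end Groth.Agent.S8923
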