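import Groth.Statements.S8925
import Groth.Agent.Matlis.Hull

set_option autoImplicit false
universe u
open InjHull

namespace Groth.Agent.S8925

/-- If S is a flat R-algebra and E is an injective S-module, then E, viewed as an R-module by
restriction of scalars, is an injective R-module. -/
theorem result (R S : Type u) [CommRing R] [CommRing S] [Algebra R S] [Module.Flat R S] (E : Type u) [AddCommGroup E] [Module S E] [Module R E] [IsScalarTower R S E] [Module.Injective S E] : Module.Injective R E := by
  refine Module.Baer.injective fun a g => ?_
  obtain ⟨h, hh⟩ := (Module.Baer.of_injective (R := S) (Q := E) inferInstance).extension_property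
    (LinearMap.baseChange S a.subtype)
    (Module.Flat.lTensor_preserves_injective_linearMap (M := S) a.subtype a.injective_subtype)
    (LinearMap.liftBaseChange S g)
  refine ⟨(h.restrictScalars R) ∘ₗ (TensorProduct.mk R S R 1), fun x hx => ?_⟩
  have := LinearMap.congr_fun hh (TensorProduct.tmul R 1 ⟨x, hx⟩)
  simpa using this

end Groth.Agent.S8925
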