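import Groth.Statements.S8926
import Groth.Agent.Matlis.Hull

set_option autoImplicit false
universe u
open InjHull

namespace Groth.Agent.S8926

/-- Suppose R → S is an epimorphism of rings and E is an S-module whose underlying R-module (via
restriction of scalars) is injective; then E is injective as an S-module as well. -/
theorem result (R S : Type u) [CommRing R] [CommRing S] [Algebra R S] [Algebra.IsEpi R S] (E : Type u) [AddCommGroup E] [Module S E] [Module R E] [IsScalarTower R S E] [Module.Injective R E] : Module.Injective S E := by
  have hepi := Algebra.isEpi_iff_forall_one_tmul_eq (R := R) (A := S)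
  have hlin : ∀ (X : Type u) [AddCommGroup X] [Module R X] [Module S X] [IsScalarTower R S X]
      (φ : X →ₗ[R] E) (s : S) (x : X), φ (s • x) = s • φ x := by
    intro X _ _ _ _ φ s x
    let B : TensorProduct R S S →ₗ[R] E := TensorProduct.lift (LinearMap.mk₂ R
      (fun a b => a • φ (b • x))
      (fun a a' b => add_smul _ _ _) (fun c a b => smul_assoc _ _ _)
      (fun a b b' => by rw [add_smul, map_add, smul_add])
      (fun c a b => by rw [smul_assoc, map_smul, smul_comm]))
    have h := congrArg B (hepi.1 ‹_› s)
    simpa [B] using h
  refine ⟨fun X Y _ _ _ _ f hf g => ?_⟩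
  letI : Module R X := Module.compHom X (algebraMap R S)
  letI : Module R Y := Module.compHom Y (algebraMap R S)
  haveI : IsScalarTower R S X := IsScalarTower.of_algebraMap_smul fun _ _ => rfl
  haveI : IsScalarTower R S Y := IsScalarTower.of_algebraMap_smul fun _ _ => rfl
  obtain ⟨k, hk⟩ := (inferInstance : Module.Injective R E).out (f.restrictScalars R) hf
    (g.restrictScalars R)
  exact ⟨{ k with map_smul' := fun s y => hlin Y k s y }, hk⟩

end Groth.Agent.S8926
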