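import Groth.Statements.S8929
import Groth.Agent.Misc1.FlatAss

set_option autoImplicit false
universe u
open scoped TensorProduct
open Disc

namespace Groth.Agent.S8929

/-- Let A → B be a map of Noetherian rings with the going-up property. If B_q is flat over A for every
associated prime q of B and for every prime q of B lying over an associated prime of A, then Q(A)
⊗_A B is flat over the total ring of fractions Q(A). -/
theorem result (A B : Type u) [CommRing A] [CommRing B] [IsNoetherianRing A] [IsNoetherianRing B] [Algebra A B] [Algebra.HasGoingUp A B] (h3 : ∀ (q : Ideal B) [q.IsPrime], IsAssociatedPrime q B → Module.Flat A (Localization.AtPrime q)) (h4 : ∀ (q : Ideal B) [q.IsPrime], IsAssociatedPrime (q.comap (algebraMap A B)) A → Module.Flat A (Localization.AtPrime q)) : Module.Flat (FractionRing A) (FractionRing A ⊗[A] B) := by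
  exact Groth.Misc1.FlatAss.flat_total h4

end Groth.Agent.S8929
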