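import Groth.Statements.S8930
import Mathlib.AlgebraicGeometry.Morphisms.Flat
import Mathlib.Algebra.Category.Ring.Epi
import Mathlib.AlgebraicGeometry.Pullbacks

set_option autoImplicit false
universe u
open AlgebraicGeometry
open Disc

namespace Groth.Agent.S8930

open CategoryTheory AlgebraicGeometry

open TensorProduct in
lemma exists_finite_subalgebra (A B B' B'' : Type u) [CommRing A] [CommRing B] [CommRing B'] [CommRing B'']
    [Algebra A B] [Algebra A B'] [Algebra A B''] [Algebra B' B] [Algebra B'' B]
    [IsScalarTower A B' B] [IsScalarTower A B'' B] [Module.Finite A B'] [Module.Finite A B'']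
    (h' : IsOpenImmersion (Spec.map (CommRingCat.ofHom (algebraMap B' B))))
    (_h'' : IsOpenImmersion (Spec.map (CommRingCat.ofHom (algebraMap B'' B)))) :
    ∃ C : Subalgebra A B, Module.Finite A C ∧ Set.range (algebraMap B' B) ⊆ (C : Set B) ∧
      Set.range (algebraMap B'' B) ⊆ (C : Set B) ∧
      IsOpenImmersion (Spec.map (CommRingCat.ofHom C.val.toRingHom)) := by
  let f : B' ⊗[A] B'' →ₐ[A] B := Algebra.TensorProduct.lift (IsScalarTower.toAlgHom A B' B)
    (IsScalarTower.toAlgHom A B'' B) (fun _ _ => Commute.all _ _)
  refine ⟨f.range, Module.Finite.of_surjective f.rangeRestrict.toLinearMap f.rangeRestrict_surjective,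
    ?_, ?_, ?_⟩
  · rintro _ ⟨x, rfl⟩; exact ⟨x ⊗ₜ 1, by simp [f]⟩
  · rintro _ ⟨x, rfl⟩; exact ⟨1 ⊗ₜ x, by simp [f]⟩
  let i : B' →+* f.range := (f.rangeRestrict.comp Algebra.TensorProduct.includeLeft).toRingHom
  letI : Algebra B' f.range := i.toAlgebra
  have hval : ∀ x : B', f.range.val (algebraMap B' f.range x) = algebraMap B' B x := fun x => by
    change f (x ⊗ₜ 1) = _
    simp [f]
  let val : f.range →ₐ[B'] B := { f.range.val.toRingHom with commutes' := hval }
  haveI : Module.Flat B' B := by
    have hfl : AlgebraicGeometry.Flat (Spec.map (CommRingCat.ofHom (algebraMap B' B))) := inferInstance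
    exact RingHom.flat_algebraMap_iff.mp
      (by simpa using (HasRingHomProperty.Spec_iff (P := @AlgebraicGeometry.Flat)).mp hfl)
  haveI hepi : CategoryTheory.Epi (CommRingCat.ofHom (algebraMap B' B)) := ⟨fun {T} g g' e =>
    Spec.map_injective ((CategoryTheory.cancel_mono (Spec.map (CommRingCat.ofHom (algebraMap B' B)))).mp
      (by rw [← Spec.map_comp, ← Spec.map_comp, e]))⟩
  haveI : Algebra.IsEpi B' B := CommRingCat.epi_iff_epi.mp hepi
  let m : f.range ⊗[B'] B →ₐ[B'] B := Algebra.TensorProduct.lift val (AlgHom.id B' B) (fun _ _ => Commute.all _ _)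
  have hm : Function.Bijective m := by
    refine ⟨?_, fun b => ⟨1 ⊗ₜ b, by simp [m]⟩⟩
    have h1 : Function.Injective (val.toLinearMap.rTensor B) :=
      Module.Flat.rTensor_preserves_injective_linearMap _ Subtype.val_injective
    have h2 : Function.Injective (Algebra.TensorProduct.lmul' (S := B) B') :=
      Algebra.IsEpi.injective_lift_mul (R := B') (A := B)
    have hcomp : (m : f.range ⊗[B'] B → B) =
        Algebra.TensorProduct.lmul' (S := B) B' ∘ val.toLinearMap.rTensor B := by
      funext z
      induction z using TensorProduct.induction_on with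
      | zero => simp
      | tmul x b => simp [m]
      | add a b ha hb => simp only [map_add, ha, hb, Function.comp_apply]
    rw [hcomp]
    exact h2.comp h1
  have heq : Spec.map (CommRingCat.ofHom f.range.val.toRingHom) =
      Spec.map (CommRingCat.ofHom m.toRingHom) ≫
        (pullbackSpecIso B' f.range B).inv ≫ Limits.pullback.fst _ _ := by
    rw [pullbackSpecIso_inv_fst, ← Spec.map_comp]
    congr 1
    ext x
    change (x : B) = m (x ⊗ₜ 1)
    simp [m, val]
  haveI : CategoryTheory.IsIso (Spec.map (CommRingCat.ofHom m.toRingHom)) := by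
    haveI : CategoryTheory.IsIso (CommRingCat.ofHom m.toRingHom) :=
      (RingEquiv.ofBijective m.toRingHom hm).toCommRingCatIso.isIso_hom
    infer_instance
  rw [heq]
  infer_instance

/-- Given two factorizations A → B' → B and A → B'' → B of a ring map with A → B' and A → B'' finite and
Spec(B) → Spec(B'), Spec(B) → Spec(B'') open immersions, there is an A-subalgebra C of B which is
finite over A, contains the images of B' and B'', and is such that Spec(B) → Spec(C) is an open
immersion. (Such an A → B is quasi-finite; that hypothesis of the published statement is implied by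
the factorizations and is not repeated.) -/
theorem result (A B B' B'' : Type u) [CommRing A] [CommRing B] [CommRing B'] [CommRing B''] [Algebra A B] [Algebra A B'] [Algebra A B''] [Algebra B' B] [Algebra B'' B] [IsScalarTower A B' B] [IsScalarTower A B'' B] [Module.Finite A B'] [Module.Finite A B''] (h' : IsOpenImmersion (Spec.map (CommRingCat.ofHom (algebraMap B' B)))) (h'' : IsOpenImmersion (Spec.map (CommRingCat.ofHom (algebraMap B'' B)))) : ∃ C : Subalgebra A B, Module.Finite A C ∧ Set.range (algebraMap B' B) ⊆ (C : Set B) ∧ Set.range (algebraMap B'' B) ⊆ (C : Set B) ∧ IsOpenImmersion (Spec.map (CommRingCat.ofHom C.val.toRingHom)) := by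
  exact exists_finite_subalgebra A B B' B'' h' h''


end Groth.Agent.S8930
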