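import Groth.Statements.S8932
import Groth.Agent.DualCore.FieldExt

set_option autoImplicit false
universe u
open CategoryTheory
open scoped TensorProduct
attribute [local instance] HasDerivedCategory.standard
open Dual

namespace Groth.Agent.S8932

/-- For a field extension K/k, a finite type k-algebra A and a dualizing complex ω for A, the derived
base change of ω along A → K ⊗_k A is a dualizing complex for K ⊗_k A (the derived base change
functor being assumed to exist). -/
theorem result (k K : Type u) [Field k] [Field K] [Algebra k K] (A : Type u) [CommRing A] [Algebra k A] [Algebra.FiniteType k A] [DRing.HasLBaseChange (Algebra.TensorProduct.includeRight : A →ₐ[k] K ⊗[k] A).toRingHom] (ω : Dual.D A) (hω : Dual.IsDualizing A ω) : Dual.IsDualizing (K ⊗[k] A) ((DRing.LBaseChange (Algebra.TensorProduct.includeRight : A →ₐ[k] K ⊗[k] A).toRingHom).obj ω) := by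
  letI alg : Algebra A (K ⊗[k] A) := (Algebra.TensorProduct.includeRight : A →ₐ[k] K ⊗[k] A).toRingHom.toAlgebra
  haveI : IsScalarTower k A (K ⊗[k] A) := IsScalarTower.of_algebraMap_eq fun x =>
    ((Algebra.TensorProduct.includeRight : A →ₐ[k] K ⊗[k] A).commutes x).symm
  haveI : IsNoetherianRing A := Algebra.FiniteType.isNoetherianRing k A
  haveI : IsNoetherianRing (K ⊗[k] A) := Algebra.FiniteType.isNoetherianRing K _
  let c : A ⊗[k] K ≃ₐ[A] K ⊗[k] A :=
    AlgEquiv.ofRingEquiv (f := (Algebra.TensorProduct.comm k A K).toRingEquiv) fun _ => rfl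
  haveI : Module.Flat A (K ⊗[k] A) := Module.Flat.of_linearEquiv c.symm.toLinearEquiv
  obtain ⟨n, f, hf⟩ := Algebra.FiniteType.iff_quotient_mvPolynomial''.1 ‹Algebra.FiniteType k A›
  have heq : ∀ (p : Ideal A) [p.IsPrime], Nonempty (p.Fiber (K ⊗[k] A) ≃+* p.ResidueField ⊗[k] K) := fun p _ =>
    ⟨(Algebra.TensorProduct.congr (AlgEquiv.refl : p.ResidueField ≃ₐ[p.ResidueField] p.ResidueField) c.symm).toRingEquiv.trans
      (Groth.DualCore.fibreTensorEquiv A K p).toRingEquiv⟩
  refine Groth.DualCore.isDualizing_of_iso ((Groth.DualCore.LBaseChangeIso A (K ⊗[k] A)).app ω).symm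
    (Groth.DualCore.isDualizing_extD_of_gorenstein_fibre hω n (fun p _ => ?_) fun p _ Q _ => ?_)
  · obtain ⟨e⟩ := heq p
    rw [ringKrullDim_eq_of_ringEquiv e]
    exact Groth.DualCore.ringKrullDim_tensor_residueField_le A f hf p K
  · obtain ⟨e⟩ := heq p
    obtain hs := Groth.DualCore.exists_fg_residueField (k := k) A p
    haveI := GrothGoren.isGorensteinRing_of_isRegularRing K
    haveI := GrothGoren.isGorensteinRing_tensor_fg hs K
    haveI := GrothGoren.isGorensteinRing_of_ringEquiv e.symm
    haveI := LocCoh.IsGorensteinRing.isGorensteinLocalRing_localization (A := p.Fiber (K ⊗[k] A)) Q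
    exact (GrothGoren.isGorenstein_iff _).1 inferInstance

end Groth.Agent.S8932
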