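import Groth.Statements.S8936
import Groth.Agent.Matlis.Hull

set_option autoImplicit false
universe u v
open InjHull

namespace Groth.Agent.S8936

/-- For a directed system (E_i) of R-modules over a nonempty directed preorder and a compatible family
of essential injections M → E_i, the induced map from M to the direct limit of the E_i is an
essential injection. -/
theorem result (R : Type u) [CommRing R] (ι : Type v) [Preorder ι] [IsDirectedOrder ι] [DecidableEq ι] (i₀ : ι) (E : ι → Type v) [∀ i, AddCommGroup (E i)] [∀ i, Module R (E i)] (f : ∀ i j, i ≤ j → E i →ₗ[R] E j) [DirectedSystem E fun i j h => f i j h] (M : Type v) [AddCommGroup M] [Module R M] (g : ∀ i, M →ₗ[R] E i) (hg : ∀ i j (h : i ≤ j), f i j h ∘ₗ g i = g j) (he : ∀ i, InjHull.IsEssentialInj (g i)) : InjHull.IsEssentialInj (Module.DirectLimit.of R ι E f i₀ ∘ₗ g i₀) := by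
  classical
  have : Nonempty ι := ⟨i₀⟩
  have hinj : ∀ i, Function.Injective (Module.DirectLimit.of R ι E f i ∘ₗ g i) := by
    intro i
    rw [← LinearMap.ker_eq_bot, Submodule.eq_bot_iff]
    intro x hx
    obtain ⟨j, hij, hj⟩ := Module.DirectLimit.of.zero_exact hx
    rw [← LinearMap.comp_apply, hg i j hij] at hj
    exact (he j).injective (by rw [hj, map_zero])
  have hcompat : ∀ i, Module.DirectLimit.of R ι E f i ∘ₗ g i =
      Module.DirectLimit.of R ι E f i₀ ∘ₗ g i₀ := by
    intro i
    obtain ⟨j, h1, h2⟩ := exists_ge_ge i i₀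
    ext x
    simp only [LinearMap.comp_apply]
    rw [← Module.DirectLimit.of_f (hij := h1), ← Module.DirectLimit.of_f (hij := h2),
      show f i j h1 (g i x) = g j x from LinearMap.congr_fun (hg i j h1) x,
      show f i₀ j h2 (g i₀ x) = g j x from LinearMap.congr_fun (hg i₀ j h2) x]
  refine GrothMatlis.essential_iff.2 ⟨hinj i₀, fun z hz => ?_⟩
  obtain ⟨i, e, rfl⟩ := Module.DirectLimit.exists_of z
  obtain ⟨r, ⟨x, hx⟩, hr⟩ := GrothMatlis.IsEssentialInj.exists_smul (he i) (x := e)
    (fun h => hz (by simp [h]))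
  refine ⟨r, ⟨x, ?_⟩, ?_⟩
  · rw [← hcompat i, LinearMap.comp_apply, hx, map_smul]
  · intro h0
    rw [← map_smul, ← hx, ← LinearMap.comp_apply] at h0
    have : x = 0 := hinj i (by rw [h0, map_zero])
    exact hr (by rw [← hx, this, map_zero])

end Groth.Agent.S8936
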