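import Groth.Statements.S8937
import Groth.Agent.Chow.Projective
import Groth.Agent.S0356
import Groth.Agent.S1682
import Groth.Agent.S8910
import Groth.Agent.Divisors.EffCartierMore
import Groth.Agent.Limits.FibreVanishingGeneral
-- import your own Groth.Agent.* helpers here

set_option autoImplicit false
set_option linter.style.haveILetI false
universe u
open CategoryTheory AlgebraicGeometry
attribute [local instance] HasDerivedCategory.standard
open LocCoh

namespace Groth.Agent.S8937

/-- Let A be a Noetherian ring, I an ideal and b : X → Spec A a blowing up of Spec A in I. If the fibres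
of b have dimension at most d, then cd(A, I) ≤ d + 1, i.e. H^i_I(M) = 0 for all A-modules M and all
i > d + 1. -/
theorem result (A : Type u) [CommRing A] [IsNoetherianRing A] (I : Ideal A) (X : Scheme.{u}) (b : X ⟶ Spec (CommRingCat.of A)) (hb : BlowUp.IsBlowUp b (Curv2.idealSheaf A I)) (d : ℕ) (hd : Dual3.FibreDimLE b d) : LocCoh.CdLE A I (d + 1) := by
  intro M _ _ i hi
  obtain ⟨p, rfl⟩ : ∃ p, i = p + 1 := ⟨i - 1, by omega⟩
  obtain ⟨e₀⟩ := Groth.Agent.S0356.result A I M p (by omega)
  have hft : BlowUp.IsFiniteTypeIdeal (Curv2.idealSheaf A I) := fun U =>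
    haveI := IsLocallyNoetherian.component_noetherian U
    IsNoetherian.noetherian _
  haveI : IsProper b := by
    have := Groth.Agent.S8910.result _ hft b hb
    exact Groth.Chow.isProper_of_isProjective this
  letI : X.Over (Spec (CommRingCat.of A)) := ⟨b⟩
  haveI : IsProper (X ↘ Spec (CommRingCat.of A)) := ‹IsProper b›
  haveI : CompactSpace X := Groth.CohFin.compactSpace_of_proper b
  haveI : X.IsSeparated := Groth.CohFin.isSeparated_of_proper b
  let O : (Spec (CommRingCat.of A)).Opens := (Curv2.idealSheaf A I).support.compl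
  haveI : IsIso (b ∣_ O) := Groth.Agent.S1682.result _ b hb
  have hO : O = LocCoh.puncturedOpen A I := by
    refine TopologicalSpace.Opens.ext ?_
    show ((Curv2.idealSheaf A I).support : Set ↥(Spec (CommRingCat.of A)))ᶜ = (PrimeSpectrum.zeroLocus (I : Set A))ᶜ
    rw [Curv2.idealSheaf, Scheme.IdealSheafData.coe_support_ofIdealTop, Spec_zeroLocus,
      ← Ideal.coe_comap]
    congr 2
    exact congrArg SetLike.coe (Ideal.comap_map_of_bijective _
      (ConcreteCategory.bijective_of_isIso (Scheme.ΓSpecIso (CommRingCat.of A)).inv))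
  let U := LocCoh.puncturedOpen A I
  haveI hb' : IsIso (b ∣_ U) := by
    show IsIso (b ∣_ LocCoh.puncturedOpen A I)
    rw [← hO]
    infer_instance
  have hpre : b ⁻¹ᵁ U = Groth.Divisors.complOpens ((Curv2.idealSheaf A I).comap b) := by
    show b ⁻¹ᵁ LocCoh.puncturedOpen A I = _
    rw [← hO]
    refine TopologicalSpace.Opens.ext ?_
    show b ⁻¹' ((Curv2.idealSheaf A I).support : Set ↥(Spec (CommRingCat.of A)))ᶜ = (((Curv2.idealSheaf A I).comap b).support : Set X)ᶜ
    rw [Scheme.IdealSheafData.support_comap]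
    rfl
  haveI : IsAffineHom (b ⁻¹ᵁ U).ι := by
    rw [hpre]
    exact Groth.Divisors.isAffineHom_compl (Groth.Divisors.isLocPrincipal_of_isEffCartier hb.1)
  let g : (U : Scheme.{u}) ⟶ X := inv (b ∣_ U) ≫ (b ⁻¹ᵁ U).ι
  letI : (U : Scheme.{u}).Over (Spec (CommRingCat.of A)) := ⟨U.ι⟩
  have hg : g ≫ (X ↘ Spec (CommRingCat.of A)) = (U : Scheme.{u}) ↘ Spec (CommRingCat.of A) := by
    show (inv (b ∣_ U) ≫ (b ⁻¹ᵁ U).ι) ≫ b = U.ι
    rw [Category.assoc, ← morphismRestrict_ι, IsIso.inv_hom_id_assoc]
  let F := (AlgebraicGeometry.tilde (R := CommRingCat.of A) (ModuleCat.of A M)).restrict U.ι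
  haveI : IsAffineHom g := inferInstanceAs (IsAffineHom (inv (b ∣_ U) ≫ (b ⁻¹ᵁ U).ι))
  haveI : F.IsQuasicoherent := inferInstance
  haveI := Groth.QCohMod.isQCoh_pushforward F g
  obtain ⟨e₁⟩ := Groth.Limits.FibreVanishing.exists_pushEquiv A g hg F p
  haveI := Groth.Limits.FibreVanishing.subsingleton_HH_of_dim_fiber_le (A := A) (X := X) d hd
    ((Scheme.Modules.pushforward g).obj F) p (by omega)
  haveI : Subsingleton (Coh.HH (U : Scheme.{u}) F p) := e₁.symm.toEquiv.subsingleton
  exact e₀.symm.toEquiv.subsingleton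

end Groth.Agent.S8937
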