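import Groth.Statements.S8938
import Groth.Agent.LocCohTransform.BlowupTor

set_option autoImplicit false
universe u
open CategoryTheory
attribute [local instance] HasDerivedCategory.standard
open LocCoh

namespace Groth.Agent.S8938

/-- Let A be a Noetherian ring, I an ideal generated by t + 1 listed elements a_0, …, a_t, and B =
A[I/a_0] the affine blow-up algebra. Then for some integer c the ideal I^c annihilates Tor_i^A(B, M)
for all A-modules M and all i ≥ t + 1. -/
theorem result (A : Type u) [CommRing A] [IsNoetherianRing A] (t : ℕ) (a : Fin (t + 1) → A) : ∃ c : ℕ, ∀ (M : Type u) [AddCommGroup M] [Module A M] (i : ℕ), t + 1 ≤ i → ∀ x ∈ Ideal.span (Set.range a) ^ c, ∀ y : DRing.Tor A i (BlowUp.affineAlgebra A (Ideal.span (Set.range a)) (a 0)) M, x • y = 0 := by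
  exact Groth.LocCohTransform.BlowupTor.main a

end Groth.Agent.S8938
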