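import Groth.Statements.S8939
import Groth.Agent.LocCohTransform.DerivationCech

set_option autoImplicit false
universe u
open LocCoh

namespace Groth.Agent.S8939

/-- Given a derivation θ of a Noetherian ring A and an ideal I, each local cohomology module H^i_I(A)
carries an additive operator D with D(a • ξ) = θ(a) • ξ + a • D(ξ) (existence only; the published
statement is for any ring and a finitely generated ideal with the local cohomology of the extended
alternating Čech complex, which for Noetherian A is the local cohomology used here). -/
theorem result (A : Type u) [CommRing A] [IsNoetherianRing A] (I : Ideal A) (θ : Derivation ℤ A A) (i : ℕ) : ∃ D : LocCoh.H I i A →+ LocCoh.H I i A, ∀ (a : A) (ξ : LocCoh.H I i A), D (a • ξ) = θ a • ξ + a • D ξ := by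
  obtain ⟨fs, hfs⟩ := (IsNoetherian.noetherian I : I.FG)
  have hI : Ideal.span {x | x ∈ fs.toList} = I := by simpa using hfs
  subst hI
  obtain ⟨e⟩ := Groth.LocCohTransform.nonempty_cech_equiv fs.toList i (ModuleCat.of A A)
  obtain ⟨D, hD⟩ := Groth.LocCohTransform.DerCech.exists_dOp_homology
    (Groth.LocCohTransform.DerCech.hasDOp_extCech (θ := θ) fs.toList) (i : ℤ)
  refine ⟨e.toAddMonoidHom.comp (D.comp e.symm.toAddMonoidHom), fun a x => ?_⟩
  change e (D (e.symm (a • x))) = θ a • x + a • e (D (e.symm x))
  rw [map_smul e.symm, hD a (e.symm x), map_add, map_smul, map_smul, LinearEquiv.apply_symm_apply]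

end Groth.Agent.S8939
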