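import Groth.Statements.S8940
import Groth.Agent.LocCohTransform.SupportTower

set_option autoImplicit false
universe u
open CategoryTheory
open LocCoh

namespace Groth.Agent.S8940

/-- Let A be a Noetherian ring of finite dimension, T ⊆ Spec A a specialization-stable subset whose
chains of primes have length at most e, (M_n) an inverse system of A-modules and i ≥ 0. If m′(m) ≥ m
is such that the maps H^i_{pA_p}(M_{k,p}) → H^i_{pA_p}(M_{m,p}) vanish for every p ∈ T and k ≥
m′(m), then H^i_T(M_k) → H^i_T(M_m) vanishes for all k ≥ m″(m), m″ the 2^e-fold iterate of m′. (The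
published statement uses exactly dim T; any bound e ≥ dim T gives the same conclusion since m′(m) ≥
m.) -/
theorem result (A : Type u) [CommRing A] [IsNoetherianRing A] (hA : ringKrullDim A < ⊤) (T : Set (PrimeSpectrum A)) (hT : StableUnderSpecialization T) (e : ℕ) (he : Order.krullDim ↥T ≤ (e : WithBot ℕ∞)) (M : ℕ → Type u) [∀ n, AddCommGroup (M n)] [∀ n, Module A (M n)] (φ : ∀ k m : ℕ, m ≤ k → (M k →ₗ[A] M m)) (hφ : ∀ (k l m : ℕ) (h₁ : m ≤ l) (h₂ : l ≤ k), φ k m (h₁.trans h₂) = φ l m h₁ ∘ₗ φ k l h₂) (i : ℕ) (m' : ℕ → ℕ) (hm' : ∀ m, m ≤ m' m) (hloc : ∀ (p : PrimeSpectrum A), p ∈ T → ∀ (m k : ℕ) (h : m ≤ k), m' m ≤ k → (localCohomology (IsLocalRing.maximalIdeal (Localization.AtPrime p.asIdeal)) i).map (ModuleCat.ofHom (LocalizedModule.map p.asIdeal.primeCompl (φ k m h))) = 0) (m k : ℕ) (h : m ≤ k) (hk : (m'^[2 ^ e]) m ≤ k) : (localCohomology.ofDiagram (Dual2.idealsInDiagram T) i).map (ModuleCat.ofHom (φ k m h)) = 0 := by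
  classical

  let g : ∀ {k m : ℕ}, m ≤ k → (ModuleCat.of A (M k) ⟶ ModuleCat.of A (M m)) :=
    fun {k m} h => ModuleCat.ofHom (φ k m h)
  have hg : ∀ {k l m : ℕ} (h₁ : m ≤ l) (h₂ : l ≤ k), g (h₁.trans h₂) = g h₂ ≫ g h₁ := by
    intro k l m h₁ h₂
    exact congrArg ModuleCat.ofHom (hφ k l m h₁ h₂)
  let E : ∀ j, InjectiveResolution (ModuleCat.of A (M j)) := fun j => InjectiveResolution.of _
  have hchain : ∀ s : LTSeries ↥T, s.length < e + 1 := fun s => by
    have h1 := (Order.LTSeries.length_le_krullDim s).trans he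
    have h2 : s.length ≤ e := by exact_mod_cast h1
    omega
  have hk' : m'^[e + 1] m ≤ k :=
    (Groth.LocCohTransform.SupportExt.iterate_mono_left hm' m (Nat.lt_two_pow_self)).trans hk
  ext x
  obtain ⟨z, hz, hdz, hcls⟩ := Groth.LocCohTransform.SupportExt.exists_class (E k) x
  refine (hcls (E m) (g h) (Groth.LocCohTransform.SupportExt.lift (E k) (E m) (g h))).2 ?_
  exact Groth.LocCohTransform.SupportExt.map_eq_zero_of_local (fun j => ModuleCat.of A (M j)) g hg i m' hm'
    (e + 1) T hT hchain (fun p hp m k h hmk => hloc p hp m k h hmk) E m k h hk' _ z hz hdz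

end Groth.Agent.S8940
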