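import Groth.Statements.S8941
import Groth.Agent.DualCore.QuotTriangle

set_option autoImplicit false
universe u
open CategoryTheory CategoryTheory.Pretriangulated
attribute [local instance] HasDerivedCategory.standard
open Dual

namespace Groth.Agent.S8941

/-- Let A be a Noetherian local ring with normalized dualizing complex ω, f a nonzerodivisor in the
maximal ideal and B = A/(f); with R right adjoint to restriction of scalars D(B) → D(A) (so that
R(ω) is RHom_A(B, ω), a normalized dualizing complex for B), there is a distinguished triangle in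
D(A) with vertices R(ω) viewed over A, ω, ω, whose middle morphism ω → ω is multiplication by f. -/
theorem result (A : Type u) [CommRing A] [IsLocalRing A] [IsNoetherianRing A] (ω : Dual.D A) (hω : Dual.IsDualizing A ω) (hn : Dual.IsNormalized A ω) (f : A) (hf : f ∈ IsLocalRing.maximalIdeal A) (hf' : f ∈ nonZeroDivisors A) (R : Dual.D A ⥤ Dual.D (A ⧸ Ideal.span {f})) (adj : DRing.restrictD (Ideal.Quotient.mk (Ideal.span {f})) ⊣ R) : ∃ (u : (DRing.restrictD (Ideal.Quotient.mk (Ideal.span {f}))).obj (R.obj ω) ⟶ ω) (w : ω ⟶ ((DRing.restrictD (Ideal.Quotient.mk (Ideal.span {f}))).obj (R.obj ω))⟦(1 : ℤ)⟧), Triangle.mk u (f • 𝟙 ω) w ∈ distinguishedTriangles := by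
  obtain ⟨p, q, hpq⟩ := hω.finite_injective_dimension
  obtain ⟨r⟩ := Groth.DualCore.exists_injRep ω p q hpq
  have hrep : Groth.DualCore.Represents (ω := ω) (W := R.obj ω) (algebraMap A (A ⧸ Ideal.span {f})) (adj.counit.app ω) :=
    Groth.DualCore.represents_counit R adj ω
  obtain ⟨eX⟩ := r.nonempty_res_iso hrep
  let mu : A →ₗ[A] A := f • LinearMap.id
  let π : A →ₗ[A] (A ⧸ Ideal.span {f}) := Submodule.mkQ (Ideal.span {f})
  have hinj : Function.Injective mu := fun x y h => by
    have h' : f * x = f * y := h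
    exact (mul_cancel_left_mem_nonZeroDivisors hf').1 h'
  have hex : Function.Exact mu π := fun x => by
    show (Submodule.Quotient.mk x : A ⧸ Ideal.span {f}) = 0 ↔ _
    rw [Submodule.Quotient.mk_eq_zero, Ideal.mem_span_singleton']
    exact ⟨fun ⟨a, ha⟩ => ⟨a, (mul_comm f a).trans ha⟩, fun ⟨a, ha⟩ => ⟨a, (mul_comm a f).trans ha⟩⟩
  obtain ⟨u, w, h⟩ := r.exists_triangle mu π hinj (Submodule.mkQ_surjective _) hex eX
    (DerivedCategory.Q.mapIso r.evOneIso ≪≫ r.iso)
  refine ⟨u, w, ?_⟩
  have heq : (DerivedCategory.Q.mapIso r.evOneIso ≪≫ r.iso).inv ≫ DerivedCategory.Q.map (r.Dmap mu) ≫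
      (DerivedCategory.Q.mapIso r.evOneIso ≪≫ r.iso).hom = f • 𝟙 ω := by
    rw [Groth.DualCore.InjRep.Dmap_smul, Groth.DualCore.InjRep.Dmap_id, Functor.map_smul,
      CategoryTheory.Functor.map_id, Linear.smul_comp, Category.id_comp, Linear.comp_smul,
      Iso.inv_hom_id]
  rw [heq] at h
  exact h

end Groth.Agent.S8941
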