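import Groth.Statements.S8944
import Groth.Agent.Calg5.QFLocal

set_option autoImplicit false
universe u
open AlgebraicGeometry
open scoped TensorProduct
open Disc

namespace Groth.Agent.S8944

/-- Let A → B be a flat homomorphism of Noetherian rings, and suppose it factors through a ring B′ as A
→ B′ → B, where B′ is finite over A and the induced map of spectra Spec(B) → Spec(B′) is an open
immersion, so that the relative dualizing module is ω_{B/A} = Hom_A(B′, A) ⊗_{B′} B (B′ acting on
Hom_A(B′, A) through the argument). Then ω_{B/A} is a flat A-module. -/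
theorem result (A B B' : Type u) [CommRing A] [CommRing B] [CommRing B'] [IsNoetherianRing A] [IsNoetherianRing B] [Algebra A B] [Module.Flat A B] [Algebra A B'] [Algebra B' B] [IsScalarTower A B' B] [Module.Finite A B'] (hopen : IsOpenImmersion (Spec.map (CommRingCat.ofHom (algebraMap B' B)))) : Module.Flat A (B ⊗[B'] Disc.Omega A B') := by
  refine Groth.Calg5.QFLocal.flat_of_forall_maximal (B := B) fun q _ => ?_
  obtain ⟨R, _, _, _, _, hR, -, C, _, _, _, _, hCf, hCfree, hBC, hq, hc, ⟨E⟩⟩ :=
    Groth.Calg5.QFLocal.exists_localFactor_completion A B' B ⟨inferInstance, hopen⟩ q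
  letI : Algebra A C := ((algebraMap R C).comp (algebraMap A R)).toAlgebra
  haveI : IsScalarTower A R C := IsScalarTower.of_algebraMap_eq fun _ => rfl
  haveI : IsScalarTower A B C := IsScalarTower.of_algebraMap_eq fun a => hc a
  refine ⟨C, inferInstance, inferInstance, inferInstance, inferInstance, hBC,
    ⟨IsLocalRing.maximalIdeal C, (IsLocalRing.maximalIdeal.isMaximal C).isPrime, hq⟩, ?_⟩
  let b := Module.Free.chooseBasis R C
  let ι := Module.Free.ChooseBasisIndex R C
  -- `Hom_R(C, R)` as an `A`-module is a finite power of `R`
  let G : C ⊗[B] (B ⊗[B'] Disc.Omega A B') →ₗ[A] (ι → R) :=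
    { toFun := fun t i => (E t).toLinearMap (b i)
      map_add' := fun s t => funext fun i => by rw [map_add]; rfl
      map_smul' := fun a t => funext fun i => by
        rw [RingHom.id_apply, Pi.smul_apply, ← algebraMap_smul C a t, map_smul,
          IsScalarTower.algebraMap_apply A R C, Disc.Omega.smul_toLinearMap_apply, ← Algebra.smul_def,
          map_smul, smul_eq_mul, Algebra.smul_def a] }
  have hG : Function.Bijective G := by
    refine ⟨fun s t h => E.injective (Disc.Omega.ext (b.ext fun i => congrFun h i)),
      fun w => ⟨E.symm ⟨b.constr R w⟩, funext fun i => ?_⟩⟩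
    change (E (E.symm _)).toLinearMap (b i) = w i
    rw [LinearEquiv.apply_symm_apply]
    exact b.constr_basis R w i
  haveI : Module.Free R (ι → R) := inferInstance
  haveI : Module.Flat A (ι → R) := Module.Flat.trans A R (ι → R)
  exact Module.Flat.of_linearEquiv (LinearEquiv.ofBijective G hG)

end Groth.Agent.S8944
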