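import Groth.Statements.S8946
import Groth.Agent.LocCohTransform.SupportTower

set_option autoImplicit false
universe u
open CategoryTheory
open LocCoh

namespace Groth.Agent.S8946

/-- Let A be a Noetherian ring of finite dimension, T ⊆ Spec A a specialization-stable subset, (M_n) an
inverse system of A-modules and i ≥ 0. Suppose m′(m) ≥ m is such that for every p ∈ T: the maps
H^{i-1}_{pA_p}(M_{k,p}) → H^{i-1}_{pA_p}(M_{m,p}) vanish for k ≥ m′(m) (no condition when i = 0),
and the maps H^i_{pA_p}(M_{k,p}) → H^i_{pA_p}(M_{m,p}) have the same image for all k ≥ m′(m), this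
image mapping injectively into H^i_{pA_p}(M_{0,p}). Then there is m₀ such that for every m ≥ m₀
there is m″ ≥ m such that for k ≥ m″ the image of H^i_T(M_k) → H^i_T(M_m) maps injectively into
H^i_T(M_{m₀}). -/
theorem result (A : Type u) [CommRing A] [IsNoetherianRing A] (hA : ringKrullDim A < ⊤) (T : Set (PrimeSpectrum A)) (hT : StableUnderSpecialization T) (M : ℕ → Type u) [∀ n, AddCommGroup (M n)] [∀ n, Module A (M n)] (φ : ∀ k m : ℕ, m ≤ k → (M k →ₗ[A] M m)) (hφ : ∀ (k l m : ℕ) (h₁ : m ≤ l) (h₂ : l ≤ k), φ k m (h₁.trans h₂) = φ l m h₁ ∘ₗ φ k l h₂) (i : ℕ) (m' : ℕ → ℕ) (hm' : ∀ m, m ≤ m' m) (h1 : 0 < i → ∀ (p : PrimeSpectrum A), p ∈ T → ∀ (m k : ℕ) (h : m ≤ k), m' m ≤ k → (localCohomology (IsLocalRing.maximalIdeal (Localization.AtPrime p.asIdeal)) (i - 1)).map (ModuleCat.ofHom (LocalizedModule.map p.asIdeal.primeCompl (φ k m h))) = 0) (h2 : ∀ (p : PrimeSpectrum A), p ∈ T → ∀ (m k : ℕ) (h : m ≤ k), m' m ≤ k → LinearMap.range ((localCohomology (IsLocalRing.maximalIdeal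 (Localization.AtPrime p.asIdeal)) i).map (ModuleCat.ofHom (LocalizedModule.map p.asIdeal.primeCompl (φ k m h)))).hom = LinearMap.range ((localCohomology (IsLocalRing.maximalIdeal (Localization.AtPrime p.asIdeal)) i).map (ModuleCat.ofHom (LocalizedModule.map p.asIdeal.primeCompl (φ (m' m) m (hm' m))))).hom) (h3 : ∀ (p : PrimeSpectrum A), p ∈ T → ∀ (m : ℕ) (x : ↑((localCohomology (IsLocalRing.maximalIdeal (Localization.AtPrime p.asIdeal)) i).obj (ModuleCat.of (Localization.AtPrime p.asIdeal) (LocalizedModule p.asIdeal.primeCompl (M m))))), x ∈ LinearMap.range ((localCohomology (IsLocalRing.maximalIdeal (Localization.AtPrime p.asIdeal)) i).map (ModuleCat.ofHom (LocalizedModule.map p.asIdeal.primeCompl (φ (m' m) m (hm' m))))).hom → ((localCohomology (IsLocalRing.maximalIdeal (Localization.AtPrime p.asIdeal)) i).map (ModuleCat.ofHom (LocalizedModule.map p.asIdeal.primeCompl (φ m 0 (Nat.zero_le m))))).hom x = 0 → x = 0) : ∃ m₀ : ℕ, ∀ m : ℕ, ∀ (hm : m₀ ≤ m), ∃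 m'' : ℕ, m ≤ m'' ∧ ∀ (k : ℕ) (h : m ≤ k), m'' ≤ k → ∀ x : ↑((localCohomology.ofDiagram (Dual2.idealsInDiagram T) i).obj (ModuleCat.of A (M m))), x ∈ LinearMap.range ((localCohomology.ofDiagram (Dual2.idealsInDiagram T) i).map (ModuleCat.ofHom (φ k m h))).hom → ((localCohomology.ofDiagram (Dual2.idealsInDiagram T) i).map (ModuleCat.ofHom (φ m m₀ hm))).hom x = 0 → x = 0 := by
  classical
  let g : ∀ {k m : ℕ}, m ≤ k → (ModuleCat.of A (M k) ⟶ ModuleCat.of A (M m)) :=
    fun {k m} h => ModuleCat.ofHom (φ k m h)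
  have hg : ∀ {k l m : ℕ} (h₁ : m ≤ l) (h₂ : l ≤ k), g (h₁.trans h₂) = g h₂ ≫ g h₁ := by
    intro k l m h₁ h₂
    exact congrArg ModuleCat.ofHom (hφ k l m h₁ h₂)
  let E : ∀ j, InjectiveResolution (ModuleCat.of A (M j)) := fun j => InjectiveResolution.of _
  obtain ⟨n, hn⟩ : ∃ n : ℕ, ∀ s : LTSeries ↥T, s.length < n := by
    have hle : ∀ s : LTSeries ↥T, ((s.length : ℕ) : WithBot ℕ∞) ≤ ringKrullDim A := fun s =>
      Order.LTSeries.length_le_krullDim (s.map Subtype.val fun a b hab => hab)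
    cases hd : ringKrullDim A with
    | bot =>
      refine ⟨0, fun s => ?_⟩
      have h' := hle s
      rw [hd, le_bot_iff] at h'
      exact absurd h' WithBot.coe_ne_bot
    | coe c =>
      cases c with
      | top => rw [hd] at hA; exact absurd hA (lt_irrefl _)
      | coe d =>
        refine ⟨d + 1, fun s => Nat.lt_succ_of_le ?_⟩
        have h' := hle s
        rw [hd] at h'
        exact_mod_cast (WithBot.coe_le_coe.1 h')
  obtain ⟨m₀, F, hF, hmain⟩ := Groth.LocCohTransform.SupportExt.exists_injective_of_local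
    (fun j => ModuleCat.of A (M j)) g hg i m' hm' n T hT hn (fun hi p hp m k h hmk => h1 hi p hp m k h hmk)
    (fun p hp m k h hmk x hx => by
      refine h3 p hp m _ ?_ ?_
      · rw [← h2 p hp m k h hmk]
        exact ⟨x, rfl⟩
      · refine Eq.trans ?_ hx
        rw [show g (Nat.zero_le k) = g h ≫ g (Nat.zero_le m) from hg (Nat.zero_le m) h, Functor.map_comp,
          Functor.map_comp]
        rfl) E
  refine ⟨m₀, fun m hm => ⟨F m, hF m, fun k h hk x hx hx0 => ?_⟩⟩
  obtain ⟨y, rfl⟩ := hx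
  obtain ⟨z, hz, hdz, hcls⟩ := Groth.LocCohTransform.SupportExt.exists_class (E k) y
  refine (hcls (E m) (g h) (Groth.LocCohTransform.SupportExt.lift (E k) (E m) (g h))).2 ?_
  refine hmain m k hm h hk (Groth.LocCohTransform.SupportExt.lift (E k) (E m₀) (g (hm.trans h))) _ z hz hdz
    ((hcls (E m₀) (g (hm.trans h)) _).1 ?_)
  refine Eq.trans ?_ hx0
  rw [show g (hm.trans h) = g h ≫ g hm from hg hm h, Functor.map_comp]
  rfl

end Groth.Agent.S8946
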