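import Groth.Statements.S8947
import Groth.Agent.DualCore.CMShriekTop

set_option autoImplicit false
universe u
open CategoryTheory AlgebraicGeometry
attribute [local instance] HasDerivedCategory.standard
open Dual2

namespace Groth.Agent.S8947

/-- Let R → A be a finite type map of Noetherian rings with relative dualizing complex ω_{A/R} =
φ^!(R[0]) (computed through a presentation ψ : R[x_1, …, x_n] → A as RHom_P(A, R ⊗^L_R P)[n], the
derived base change being assumed to exist and RHom_P(A, −) being a right adjoint of restriction of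
scalars). Let p be a prime of R such that R_p is Cohen–Macaulay, and r a natural number bounding the
transcendence degree of κ(q) over κ(R ∩ q) for every minimal prime q of A. Then, S denoting the
image of R ∖ p in A, the localization S⁻¹H^i(ω_{A/R}) is nonzero only if −r ≤ i, and
S⁻¹H^{−r}(ω_{A/R}) satisfies Serre's condition (S_2) as an S⁻¹A-module. -/
theorem result (R A : Type u) [CommRing R] [CommRing A] [IsNoetherianRing R] [IsNoetherianRing A] [Algebra R A] (n : ℕ) (ψ : MvPolynomial (Fin n) R →ₐ[R] A) (hψ : Function.Surjective ψ) [DRing.HasLBaseChange (algebraMap R (MvPolynomial (Fin n) R))] (Rψ : Dual.D (MvPolynomial (Fin n) R) ⥤ Dual.D A) (adj : DRing.restrictD ψ.toRingHom ⊣ Rψ) (p : Ideal R) [p.IsPrime] [LocCoh.IsCohenMacaulayLocalRing (Localization.AtPrime p)] (r : ℕ) (hr : ∀ q : PrimeSpectrum A, q.asIdeal ∈ minimalPrimes A → Dual3.resTrdeg (Spec.map (CommRingCat.ofHom (algebraMap R A))) q ≤ (r : Cardinal.{u})) : (∀ i : ℤ, Nontrivial (LocalizedModule (Algebra.algebraMapSubmonoid A p.primeCompl) (Dual.HD A (Dual2.shriekVia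 n Rψ (Dual.inD R R)) i)) → -(r : ℤ) ≤ i) ∧ LocCoh.HasSk 2 (Localization (Algebra.algebraMapSubmonoid A p.primeCompl)) (LocalizedModule (Algebra.algebraMapSubmonoid A p.primeCompl) (Dual.HD A (Dual2.shriekVia n Rψ (Dual.inD R R)) (-(r : ℤ)))) := by
  refine ⟨fun i hi => ?_, fun Q _ => ?_⟩
  · by_contra hlt
    obtain ⟨Q, hQ⟩ := Module.nonempty_support_iff (R := Localization (Algebra.algebraMapSubmonoid A p.primeCompl)).2 hi
    haveI := (Groth.DualCore.localized_shriek_vanishing_and_depth R A n ψ hψ Rψ adj p r hr Q.asIdeal).1 i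
      (not_le.1 hlt)
    exact not_nontrivial _ (Module.mem_support_iff.1 hQ)
  · exact_mod_cast (Groth.DualCore.localized_shriek_vanishing_and_depth R A n ψ hψ Rψ adj p r hr Q).2

end Groth.Agent.S8947
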