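import Groth.Statements.S8949
import Groth.Agent.Calg4.RegularHom
import Groth.Agent.Gorenstein.BaseChange

set_option autoImplicit false
universe u
open scoped TensorProduct
open Goren

namespace Groth.Agent.S8949

open TensorProduct

/-- The fibres of a regular map are regular rings. -/
theorem isRegularRing_fiber {R S : Type u} [CommRing R] [CommRing S] [Algebra R S]
    (h : CAlg.IsRegularHom R S) (p : Ideal R) [p.IsPrime] : IsRegularRing (p.Fiber S) :=
  @IsRegularRing.of_ringEquiv _ _ (p.Fiber S) _
    (Algebra.TensorProduct.lid p.ResidueField (p.Fiber S)).toRingEquiv ((h.2 p).2 p.ResidueField inferInstance)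

/-- Gorenstein fibres are preserved by composing with a regular map. For flat maps A → B → C of
Noetherian rings, if the fibres of A → B are Gorenstein rings and B → C is regular, then the fibres
of A → C are Gorenstein rings. -/
theorem result (A B C : Type u) [CommRing A] [CommRing B] [CommRing C] [IsNoetherianRing A] [IsNoetherianRing B] [IsNoetherianRing C] [Algebra A B] [Algebra B C] [Algebra A C] [IsScalarTower A B C] [Module.Flat A B] [Module.Flat B C] (hAB : ∀ (q : Ideal A) [q.IsPrime], LocCoh.IsGorensteinRing (q.Fiber B)) (hBC : CAlg.IsRegularHom B C) : ∀ (q : Ideal A) [q.IsPrime], LocCoh.IsGorensteinRing (q.Fiber C) := by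
  intro q _
  let L := q.ResidueField
  have : LocCoh.IsGorensteinRing (L ⊗[A] B) := hAB q
  have : LocCoh.IsGorensteinRing (B ⊗[A] L) :=
    GrothGoren.isGorensteinRing_of_ringEquiv (Algebra.TensorProduct.comm A L B).toRingEquiv
  let T := (B ⊗[A] L) ⊗[B] C
  have hreg : CAlg.IsRegularHom (B ⊗[A] L) T := Groth.Calg4.IsRegularHom.baseChange hBC (B ⊗[A] L)
  have := hreg.1
  have : IsNoetherianRing (C ⊗[A] L) := Algebra.EssFiniteType.isNoetherianRing C (C ⊗[A] L)
  have : IsNoetherianRing (L ⊗[A] C) :=
    isNoetherianRing_of_ringEquiv (C ⊗[A] L) (Algebra.TensorProduct.comm A C L).toRingEquiv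
  have : IsNoetherianRing T := isNoetherianRing_of_ringEquiv (L ⊗[A] C) (Groth.Calg4.fibreTower A B C L).symm
  have : LocCoh.IsGorensteinRing T := GrothGoren.isGorensteinRing_of_flat (A := B ⊗[A] L) fun p _ => by
    have := isRegularRing_fiber hreg p
    exact GrothGoren.isGorensteinRing_of_isRegularRing _
  exact GrothGoren.isGorensteinRing_of_ringEquiv (Groth.Calg4.fibreTower A B C L)

end Groth.Agent.S8949
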