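import Groth.Statements.S8950
import Groth.Agent.Calg4.CIFlat

set_option autoImplicit false
universe u
open scoped TensorProduct
open CInt

namespace Groth.Agent.S8950

open TensorProduct

/-- Base change of the local complete intersection property along finitely generated field extensions.
Suppose R is a Noetherian k-algebra, k a field, with every local ring of R a complete intersection,
and suppose K is finitely generated as a field over k; then the tensor product K ⊗_k R is again a
Noetherian ring, and every localization of it at a prime is a complete intersection. -/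
theorem result (k K R : Type u) [Field k] [Field K] [Algebra k K] (hK : ∃ s : Finset K, IntermediateField.adjoin k (s : Set K) = ⊤) [CommRing R] [Algebra k R] [IsNoetherianRing R] (hR : ∀ (p : Ideal R) [p.IsPrime], Pi1.IsCompleteIntersection (Localization.AtPrime p)) : IsNoetherianRing (K ⊗[k] R) ∧ ∀ (P : Ideal (K ⊗[k] R)) [P.IsPrime], Pi1.IsCompleteIntersection (Localization.AtPrime P) := by
  obtain ⟨s, hs⟩ := hK
  have : Algebra.EssFiniteType k K :=
    have : Algebra.EssFiniteType k (⊤ : IntermediateField k K) := IntermediateField.essFiniteType_iff.mpr ⟨s, hs⟩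
    Algebra.EssFiniteType.of_surjective (IntermediateField.topEquiv (F := k) (E := K)).toAlgHom
      (IntermediateField.topEquiv (F := k) (E := K)).surjective
  have : IsNoetherianRing (R ⊗[k] K) := Algebra.EssFiniteType.isNoetherianRing R (R ⊗[k] K)
  refine ⟨isNoetherianRing_of_ringEquiv (R ⊗[k] K) (Algebra.TensorProduct.comm k R K).toRingEquiv,
    fun P _ => Groth.Calg4.ciAtPrimes_of_ringEquiv (Algebra.TensorProduct.comm k R K).toRingEquiv ?_ P⟩
  refine fun n _ => Groth.Calg4.ciAtPrimes_of_flat (A := R) hR (fun p _ Q _ => ?_) n
  exact Groth.Calg4.ciAtPrimes_of_ringEquiv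
    ((Algebra.TensorProduct.comm k K p.ResidueField).toRingEquiv.trans
      (Algebra.TensorProduct.cancelBaseChange k R R p.ResidueField K).symm.toRingEquiv)
    (fun Q' _ => Groth.Calg4.ciAtPrimes_field_tensor Q') Q

end Groth.Agent.S8950
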