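import Groth.Statements.S8951
import Groth.Agent.Calg4.RegularHom
import Groth.Agent.Calg4.CIFlat

set_option autoImplicit false
universe u
open scoped TensorProduct
open CInt

namespace Groth.Agent.S8951

open TensorProduct

/-- The fibres of a regular map are regular rings. -/
theorem isRegularRing_fiber {R S : Type u} [CommRing R] [CommRing S] [Algebra R S]
    (h : CAlg.IsRegularHom R S) (p : Ideal R) [p.IsPrime] : IsRegularRing (p.Fiber S) :=
  @IsRegularRing.of_ringEquiv _ _ (p.Fiber S) _
    (Algebra.TensorProduct.lid p.ResidueField (p.Fiber S)).toRingEquiv ((h.2 p).2 p.ResidueField inferInstance)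

/-- Regular maps preserve locally complete intersection rings. -/
theorem ci_of_regularHom {R S : Type u} [CommRing R] [CommRing S] [Algebra R S] [IsNoetherianRing R]
    [IsNoetherianRing S] (hR : ∀ (p : Ideal R) [p.IsPrime], Pi1.IsCompleteIntersection (Localization.AtPrime p))
    (h : CAlg.IsRegularHom R S) (n : Ideal S) [n.IsPrime] :
    Pi1.IsCompleteIntersection (Localization.AtPrime n) :=
  have := h.1
  Groth.Calg4.ciAtPrimes_of_flat (A := R) hR (fun p _ Q _ =>
    have := isRegularRing_fiber h p
    Groth.Calg4.ciAtPrimes_of_isRegularRing Q) n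

/-- Complete intersection fibres are preserved by composing with a regular map. For flat maps A → B → C
of Noetherian rings, if all local rings of the fibres of A → B are complete intersections and B → C
is regular, then all local rings of the fibres of A → C are complete intersections. -/
theorem result (A B C : Type u) [CommRing A] [CommRing B] [CommRing C] [IsNoetherianRing A] [IsNoetherianRing B] [IsNoetherianRing C] [Algebra A B] [Algebra B C] [Algebra A C] [IsScalarTower A B C] [Module.Flat A B] [Module.Flat B C] (hAB : ∀ (q : Ideal A) [q.IsPrime] (P : Ideal (q.Fiber B)) [P.IsPrime], Pi1.IsCompleteIntersection (Localization.AtPrime P)) (hBC : CAlg.IsRegularHom B C) : ∀ (q : Ideal A) [q.IsPrime] (P : Ideal (q.Fiber C)) [P.IsPrime], Pi1.IsCompleteIntersection (Localization.AtPrime P) := by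
  intro q _
  let L := q.ResidueField
  have hAB' : ∀ (p : Ideal (B ⊗[A] L)) [p.IsPrime], Pi1.IsCompleteIntersection (Localization.AtPrime p) :=
    fun p _ => Groth.Calg4.ciAtPrimes_of_ringEquiv (Algebra.TensorProduct.comm A L B).toRingEquiv (hAB q) p
  let T := (B ⊗[A] L) ⊗[B] C
  have hreg : CAlg.IsRegularHom (B ⊗[A] L) T := Groth.Calg4.IsRegularHom.baseChange hBC (B ⊗[A] L)
  have := hreg.1
  have : IsNoetherianRing (B ⊗[A] L) := Algebra.EssFiniteType.isNoetherianRing B (B ⊗[A] L)
  have : IsNoetherianRing (C ⊗[A] L) := Algebra.EssFiniteType.isNoetherianRing C (C ⊗[A] L)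
  have : IsNoetherianRing (L ⊗[A] C) :=
    isNoetherianRing_of_ringEquiv (C ⊗[A] L) (Algebra.TensorProduct.comm A C L).toRingEquiv
  have : IsNoetherianRing T := isNoetherianRing_of_ringEquiv (L ⊗[A] C) (Groth.Calg4.fibreTower A B C L).symm
  intro P _
  exact @Groth.Calg4.ciAtPrimes_of_ringEquiv T (L ⊗[A] C) _ _ (Groth.Calg4.fibreTower A B C L)
    (fun n _ => ci_of_regularHom (R := B ⊗[A] L) (S := T) hAB' hreg n) P _

end Groth.Agent.S8951
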