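import Groth.Statements.S8952
import Groth.Agent.Dual3BC.Field
import Groth.Agent.S0998
import Groth.Agent.DerivedCoh.PushPull.FinitePush
import Groth.Agent.DerivedCoh.PerfPush.OpenSupp

set_option autoImplicit false
universe u
open CategoryTheory CategoryTheory.Limits AlgebraicGeometry
attribute [local instance] HasDerivedCategory.standard
open Dual3

namespace Groth.Agent.S8952

/-- Let X be proper over a field k with structure morphism f factoring as f′ : X → Spec(k′) followed by
Spec(k′) → Spec(k) for a field extension k′ of k. With a and a′ right adjoints of Rf_* and Rf′_* on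
D_QCoh (assumed to exist and to preserve quasi-coherent cohomology) and O, O′ the structure sheaves
of Spec(k), Spec(k′) placed in degree 0, the objects a(O) and a′(O′) of D(O_X) are isomorphic: the
dualizing complex of X computed over k agrees with the one computed over k′. -/
theorem result (k k' : Type u) [Field k] [Field k'] [Algebra k k'] (X : Scheme.{u}) (f : X ⟶ Spec (CommRingCat.of k)) [IsProper f] (f' : X ⟶ Spec (CommRingCat.of k')) (hff' : f' ≫ Spec.map (CommRingCat.ofHom (algebraMap k k')) = f) [DCoh.HasRpush f] (hf : DCoh.RpushPreservesQCoh f) (a : DCoh.DQCoh (Spec (CommRingCat.of k)) ⥤ DCoh.DQCoh X) (adj : DCoh.RpushQ f hf ⊣ a) [DCoh.HasRpush f'] (hf' : DCoh.RpushPreservesQCoh f') (a' : DCoh.DQCoh (Spec (CommRingCat.of k')) ⥤ DCoh.DQCoh X) (adj' : DCoh.RpushQ f' hf' ⊣ a') (O : DCoh.DQCoh (Spec (CommRingCat.of k))) (hO : Nonempty (O.obj ≅ DCoh.inD (Spec (CommRingCat.of k)) (Coh.structureModule (Spec (CommRingCat.of k))))) (O' : DCoh.DQCoh (Spec (CommRingCat.of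 k'))) (hO' : Nonempty (O'.obj ≅ DCoh.inD (Spec (CommRingCat.of k')) (Coh.structureModule (Spec (CommRingCat.of k'))))) : Nonempty ((a.obj O).obj ≅ (a'.obj O').obj) := by
  rcases isEmpty_or_nonempty X with hX | hX
  · have h0 : ∀ M : DCoh.DQCoh X, IsZero M.obj := fun M =>
      Groth.DerivedCoh.PerfPush.isZero_of_HD fun i => Groth.KTheory.Perf.isZero_of_local fun x => isEmptyElim x
    exact ⟨(h0 _).iso (h0 _)⟩
  haveI := Groth.Dual3BC.finite_of_point k k' f f' hff'
  let g := Spec.map (CommRingCat.ofHom (algebraMap k k'))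
  haveI := Groth.DerivedCoh.PushPull.hasRpush g
  have hg : DCoh.RpushPreservesQCoh g := fun K hK => Groth.Agent.S0998.result g K hK
  haveI : DCoh.HasRpush (f' ≫ g) := Groth.DerivedCoh.PushPull.hasRpush _
  obtain ⟨e₁⟩ := Groth.DerivedCoh.KFlat.Rpush_comp_iso f' g
  obtain ⟨e₂⟩ : Nonempty (DCoh.Rpush (f' ≫ g) ≅ DCoh.Rpush f) := by
    subst hff'
    exact ⟨Iso.refl _⟩
  let e : DCoh.RpushQ f' hf' ⋙ DCoh.RpushQ g hg ≅ DCoh.RpushQ f hf :=
    NatIso.ofComponents (fun K => ObjectProperty.isoMk _ ((e₁ ≪≫ e₂).app K.obj))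
      (fun h => ObjectProperty.hom_ext _ ((e₁ ≪≫ e₂).hom.naturality h.hom))
  obtain ⟨eO⟩ := hO
  obtain ⟨eO'⟩ := hO'
  obtain ⟨c, hc⟩ := Groth.Dual3BC.exists_represents_tilde k k' hg O
    (eO ≪≫ (DerivedCategory.singleFunctor _ 0).mapIso tildeSelf.symm) O'
    (eO' ≪≫ (DerivedCategory.singleFunctor _ 0).mapIso tildeSelf.symm)
  obtain ⟨r⟩ := Groth.Dual3BC.nonempty_iso_of_represents_comp adj adj' e c hc
  exact ⟨(ObjectProperty.ι _).mapIso r⟩

end Groth.Agent.S8952
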