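import Groth.Statements.S8953
import Groth.Agent.DualCore.ShriekQF

set_option autoImplicit false
universe u
open CategoryTheory AlgebraicGeometry
open scoped TensorProduct
attribute [local instance] HasDerivedCategory.standard
open Disc

namespace Groth.Agent.S8953

/-- Let A → B be a quasi-finite map of Noetherian rings, written as a composite A → B′ → B in which the
first map A → B′ is finite and the induced morphism Spec(B) → Spec(B′) is an open immersion, so that
ω_{B/A} = Hom_A(B′, A) ⊗_{B′} B; and let ω^•_{B/A} = φ^!(A[0]) be the algebraic relative dualizing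
complex computed through a presentation ψ : A[x_1, …, x_n] → B (derived base change assumed to
exist, RHom_P(B, −) given as a right adjoint of restriction of scalars). Then there is a
(non-unique) B-linear isomorphism H^0(ω^•_{B/A}) ≅ ω_{B/A}. -/
theorem result (A B B' : Type u) [CommRing A] [CommRing B] [CommRing B'] [IsNoetherianRing A] [IsNoetherianRing B] [Algebra A B] [Algebra A B'] [Algebra B' B] [IsScalarTower A B' B] [Module.Finite A B'] (hopen : IsOpenImmersion (Spec.map (CommRingCat.ofHom (algebraMap B' B)))) (n : ℕ) (ψ : MvPolynomial (Fin n) A →ₐ[A] B) (hψ : Function.Surjective ψ) [DRing.HasLBaseChange (algebraMap A (MvPolynomial (Fin n) A))] (Rψ : Dual.D (MvPolynomial (Fin n) A) ⥤ Dual.D B) (adj : DRing.restrictD ψ.toRingHom ⊣ Rψ) : Nonempty (Dual.HD B (Dual2.shriekVia n Rψ (Dual.inD A A)) 0 ≃ₗ[B] (B ⊗[B'] Disc.Omega A B')) := by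
  haveI : Module.Flat B' B := by
    haveI := hopen
    exact RingHom.flat_algebraMap_iff.1
      ((HasRingHomProperty.Spec_iff (P := @AlgebraicGeometry.Flat)).1 (inferInstance :
        AlgebraicGeometry.Flat (Spec.map (CommRingCat.ofHom (algebraMap B' B)))))
  obtain ⟨W, ε, -, hε⟩ := Groth.DualCore.exists_represents (algebraMap A B') (Dual.inD A A) 0
  obtain ⟨e⟩ := Groth.DualCore.nonempty_shriek_quasiFinite hopen n ψ hψ Rψ adj (Dual.inD A A) 0 hε
  obtain ⟨f⟩ := Groth.DualCore.nonempty_HD_zero_omega hε
  exact ⟨((DerivedCategory.homologyFunctor (ModuleCat.{u} B) 0).mapIso e).toLinearEquiv.trans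
    ((Groth.DualCore.HDExtEquiv W 0).symm.trans (f.baseChange B' B _ _))⟩

end Groth.Agent.S8953
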