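import Groth.Statements.S8954
import Groth.Agent.Calg5.SquarePres
import Groth.Agent.Calg5.TraceIso

set_option autoImplicit false
universe u
open Synt

namespace Groth.Agent.S8954

theorem isSyntomic_of_algEquiv {A S T : Type u} [CommRing A] [CommRing S] [CommRing T] [Algebra A S]
    [Algebra A T] (e : S ≃ₐ[A] T) (h : Synt.IsSyntomic A S) : Synt.IsSyntomic A T := by
  have := h.1
  have := h.2.1
  exact Groth.Syntomic.isSyntomic_iff.mpr ⟨Module.Flat.of_linearEquiv e.symm.toLinearEquiv,
    Groth.KoszulLCI.isLCI_of_algEquiv e (Groth.Syntomic.isSyntomic_iff.mp h).2⟩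


/-- The equivalence of being finite syntomic with having a square presentation, stated over a local
base. For a local ring A and a finite A-algebra B, the map A → B is syntomic if and only if B ≅
A[x_1, …, x_n]/(f_1, …, f_n) as A-algebras for some n and f_1, …, f_n ∈ A[x_1, …, x_n]. (The
published statement is for a finite morphism of schemes and asserts such a presentation over some
affine open neighbourhood of each point of the base; over a local base that neighbourhood is the
whole spectrum.) -/
theorem result (A B : Type u) [CommRing A] [IsLocalRing A] [CommRing B] [Algebra A B] [Module.Finite A B] : Synt.IsSyntomic A B ↔ ∃ (n : ℕ) (F : Fin n → MvPolynomial (Fin n) A), Nonempty (B ≃ₐ[A] Synt.RelGCIRing A n n F) := by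
  constructor
  · intro h
    obtain ⟨n, F, π, hπ, hker⟩ := Groth.Calg5.SquarePres.exists_square_presentation h
    exact ⟨n, F, ⟨((Ideal.quotientEquivAlgOfEq A hker.symm).trans
      (Ideal.quotientKerAlgEquivOfSurjective hπ)).symm⟩⟩
  · rintro ⟨n, F, ⟨e⟩⟩
    have : Module.Finite A (MvPolynomial (Fin n) A ⧸ Ideal.span (Set.range F)) :=
      Module.Finite.equiv e.toLinearEquiv
    exact isSyntomic_of_algEquiv e.symm
      (Groth.Calg5.RelGCI.isSyntomic_of_isRelGCI (Groth.Calg5.Trace.isRelGCI_of_finite F))

end Groth.Agent.S8954
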