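import Groth.Statements.S8961
import Mathlib

set_option autoImplicit false
set_option linter.style.haveILetI false
universe u
open QFDual

namespace Groth.Agent.S8961

/-- The trace of a matrix killed by a monic polynomial with coefficients in `A` is integral over `A`. -/
theorem isIntegral_trace_of_aeval_eq_zero {A F : Type u} [CommRing A] [Field F] [Algebra A F] {n : Type*}
    [Fintype n] [DecidableEq n] (q : Polynomial A) (hq : q.Monic) (M : Matrix n n F)
    (hM : Polynomial.aeval M (q.map (algebraMap A F)) = 0) : IsIntegral A M.trace := by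
  let E := AlgebraicClosure F
  refine (isIntegral_algebraMap_iff (B := E) (algebraMap F E).injective).mp ?_
  let N : Matrix n n E := M.map (algebraMap F E)
  have htr : algebraMap F E M.trace = N.trace := by simp [Matrix.trace, N]
  rw [htr, Matrix.trace_eq_sum_roots_charpoly]
  refine IsIntegral.multiset_sum fun μ hμ => ⟨q, hq, ?_⟩
  rw [← Polynomial.aeval_def]
  have hN : Polynomial.aeval N (q.map (algebraMap A E)) = 0 := by
    have h := congrArg (fun X : Matrix n n F => X.map (algebraMap F E)) hM
    rw [IsScalarTower.algebraMap_eq A F E, ← Polynomial.map_map, Polynomial.aeval_map_algebraMap]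
    have e : N = (Algebra.ofId F E).mapMatrix M := rfl
    rw [e, Polynomial.aeval_algHom_apply, hM, map_zero]
  let p := q.map (algebraMap A E)
  obtain ⟨r, hr⟩ :=
    (Polynomial.X_sub_C_dvd_sub_C_eval (a := μ) (p := p))
  have h1 := congrArg (Polynomial.aeval N) hr
  rw [map_sub, hN, map_mul, Polynomial.aeval_C, zero_sub, map_sub, Polynomial.aeval_X, Polynomial.aeval_C] at h1
  have h2 := congrArg Matrix.det h1
  have hdet : (N - algebraMap E (Matrix n n E) μ).det = 0 := by
    have h0 : (algebraMap E (Matrix n n E) μ - N).det = 0 := by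
      have := (Polynomial.mem_roots'.mp hμ).2
      rw [Polynomial.IsRoot.def, Matrix.eval_charpoly] at this
      exact this
    rw [← neg_sub, Matrix.det_neg, h0, mul_zero]
  rw [Matrix.det_mul, hdet, zero_mul, Matrix.det_neg, Matrix.algebraMap_eq_diagonal, Matrix.det_diagonal] at h2
  simp [Finset.prod_const, p] at h2
  exact h2.1

/-- Suppose the Dedekind different of A → B is defined: A is Noetherian, B is a finite A-algebra,
nonzerodivisors of A are nonzerodivisors on B, and with K = Q(A) and L = B ⊗_A K the map K → L is
étale (here with L finite free over K). If A is a normal ring, i.e. every localization A_p at a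
prime is an integrally closed domain, then Trace_{L/K}(b) lies in A for every b ∈ B; equivalently 1
∈ 𝓛_{B/A}. -/
theorem result (A K B L : Type u) [CommRing A] [CommRing K] [CommRing B] [CommRing L] [Algebra A K] [Algebra A B] [Algebra B L] [Algebra K L] [Algebra A L] [IsScalarTower A K L] [IsScalarTower A B L] (h : QFDual.IsDedekindDefined A K B L) (hA : EGA4.IsNormalRing A) : (1 : L) ∈ QFDual.complementary A K B L := by
  intro b
  rw [one_mul]
  haveI := h.isFractionRing
  haveI := h.free
  haveI := h.finiteKL
  haveI := h.finite
  obtain ⟨q, hq, hqb⟩ := Algebra.IsIntegral.isIntegral (R := A) b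
  classical
  let bs := Module.Free.chooseBasis K L
  let M := Algebra.leftMulMatrix bs (algebraMap B L b)
  set x := Algebra.trace K L (algebraMap B L b) with hx
  have hxM : x = M.trace := Algebra.trace_eq_matrix_trace bs _
  let D : Ideal A := (LinearMap.range (Algebra.linearMap A K)).comap (LinearMap.toSpanSingleton A K x)
  suffices D = ⊤ by
    have h1 : (1 : A) ∈ D := this ▸ Submodule.mem_top
    simp only [D, Submodule.mem_comap, LinearMap.toSpanSingleton_apply, one_smul, LinearMap.mem_range] at h1
    exact h1
  by_contra hD
  obtain ⟨m, hm, hle⟩ := Ideal.exists_le_maximal _ hD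
  haveI := (hA m).1
  haveI := (hA m).2
  let Am := Localization.AtPrime m
  let F := FractionRing Am
  have hu : ∀ a : nonZeroDivisors A, IsUnit (algebraMap A F a) := by
    intro a
    refine isUnit_iff_ne_zero.mpr fun h0 => ?_
    rw [IsScalarTower.algebraMap_apply A Am F, IsFractionRing.to_map_eq_zero_iff,
      IsLocalization.map_eq_zero_iff m.primeCompl] at h0
    obtain ⟨t, ht⟩ := h0
    exact t.2 ((mem_nonZeroDivisors_iff_right.mp a.2 t.1 ht).symm ▸ m.zero_mem)
  let φ : K →+* F := IsLocalization.lift hu
  have hφ : ∀ a, φ (algebraMap A K a) = algebraMap A F a := IsLocalization.lift_eq hu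
  letI : Algebra K F := φ.toAlgebra
  haveI : IsScalarTower A K F := IsScalarTower.of_algebraMap_eq fun a => (hφ a).symm
  have hM : Polynomial.aeval M (q.map (algebraMap A K)) = 0 := by
    rw [Polynomial.aeval_algHom_apply, Polynomial.aeval_map_algebraMap, Polynomial.aeval_algebraMap_apply,
      Polynomial.aeval_def, hqb, map_zero, map_zero]
  have hMF : Polynomial.aeval ((Algebra.ofId K F).mapMatrix M) (q.map (algebraMap A F)) = 0 := by
    rw [IsScalarTower.algebraMap_eq A K F, ← Polynomial.map_map, Polynomial.aeval_map_algebraMap,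
      Polynomial.aeval_algHom_apply, hM, map_zero]
  have hint := isIntegral_trace_of_aeval_eq_zero q hq _ hMF
  have htr : ((Algebra.ofId K F).mapMatrix M).trace = φ x := by
    rw [hxM]
    simp [Matrix.trace, RingHom.algebraMap_toAlgebra, Algebra.ofId_apply]
  rw [htr] at hint
  obtain ⟨a', ha'⟩ := IsIntegrallyClosed.isIntegral_iff.mp (hint.tower_top (A := Am))
  obtain ⟨⟨a, s⟩, has⟩ := IsLocalization.surj m.primeCompl a'
  obtain ⟨⟨c, d⟩, hcd⟩ := IsLocalization.surj (nonZeroDivisors A) x
  dsimp only at has hcd
  have h1 : algebraMap A Am (c * s) = algebraMap A Am (a * d) := by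
    refine IsFractionRing.injective Am F ?_
    rw [← IsScalarTower.algebraMap_apply A Am F, ← IsScalarTower.algebraMap_apply A Am F, map_mul, map_mul,
      ← hφ c, ← hcd, map_mul, hφ, ← ha', IsScalarTower.algebraMap_apply A Am F a, ← has, map_mul,
      ← IsScalarTower.algebraMap_apply A Am F]
    ring
  obtain ⟨t, ht⟩ := (IsLocalization.eq_iff_exists m.primeCompl Am).mp h1
  refine (m.primeCompl.mul_mem t.2 s.2) (hle ?_)
  simp only [D, Submodule.mem_comap, LinearMap.toSpanSingleton_apply, LinearMap.mem_range, Algebra.linearMap_apply]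
  refine ⟨t * a, (IsLocalization.map_units K d).mul_left_inj.mp ?_⟩
  rw [Algebra.smul_def, mul_assoc, hcd, ← map_mul, ← map_mul]
  congr 1
  linear_combination -ht

end Groth.Agent.S8961
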