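import Groth.Statements.S8963
import Groth.Agent.Calg5.OmegaBC
import Groth.Agent.Calg5.FibrewiseInvertible

set_option autoImplicit false
set_option linter.style.haveILetI false
universe u
open TensorProduct
open QFDual

namespace Groth.Agent.S8963

theorem finite_omega (A B' : Type u) [CommRing A] [CommRing B'] [IsNoetherianRing A] [Algebra A B']
    [Module.Finite A B'] : Module.Finite B' (Disc.Omega A B') := by
  haveI : Module.FinitePresentation A B' := Module.finitePresentation_of_finite A B'
  obtain ⟨n, f, hf⟩ := Module.Finite.exists_fin' A (B' →ₗ[A] A)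
  let g : (Fin n → B') →ₗ[B'] Disc.Omega A B' :=
    Fintype.linearCombination B' fun i => ⟨f (Pi.single i 1)⟩
  refine Module.Finite.of_surjective g fun ψ => ?_
  obtain ⟨c, hc⟩ := hf ψ.toLinearMap
  refine ⟨fun i => algebraMap A B' (c i), Disc.Omega.ext (LinearMap.ext fun x => ?_)⟩
  have hsum : ∀ (s : Finset (Fin n)) (F : Fin n → Disc.Omega A B'),
      (∑ i ∈ s, F i).toLinearMap x = ∑ i ∈ s, (F i).toLinearMap x := by
    intro s F
    induction s using Finset.induction_on with
    | empty => simp
    | insert i s hi ih => rw [Finset.sum_insert hi, Finset.sum_insert hi, ← ih]; rfl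
  rw [← hc, Fintype.linearCombination_apply, hsum]
  conv_rhs => rw [pi_eq_sum_univ' c, map_sum, LinearMap.sum_apply]
  refine Finset.sum_congr rfl fun i _ => ?_
  rw [Disc.Omega.smul_toLinearMap_apply, ← Algebra.smul_def, map_smul, map_smul, LinearMap.smul_apply]

/-- Invertibility of the relative dualizing module is a fibrewise condition. Let A → B be a flat
homomorphism of Noetherian rings with a factorization A → B' → B, A → B' finite and Spec B → Spec B'
an open immersion, so that A → B is quasi-finite and ω_{B/A} = B ⊗_{B'} Hom_A(B', A). The B-module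
ω_{B/A} is invertible exactly when, for every prime p of A and every presentation of the fibre rings
B'_p = B' ⊗_A κ(p), B_p = B ⊗_A κ(p) as cocartesian squares over the residue field κ(p) (compatibly
with B' → B), the module ω_{B_p/κ(p)} = B_p ⊗_{B'_p} Hom_{κ(p)}(B'_p, κ(p)) is an invertible
B_p-module. -/
theorem result (A B' B : Type u) [CommRing A] [CommRing B'] [CommRing B] [IsNoetherianRing A] [IsNoetherianRing B] [Algebra A B'] [Algebra B' B] [Algebra A B] [IsScalarTower A B' B] [Module.Flat A B] (hf : QFDual.IsQFFactor A B' B) : Module.Invertible B (QFDual.omega A B' B) ↔ ∀ (p : Ideal A) [p.IsPrime] (B'₁ B₁ : Type u) [CommRing B'₁] [CommRing B₁] [Algebra B' B'₁] [Algebra p.ResidueField B'₁] [Algebra A B'₁] [IsScalarTower A p.ResidueField B'₁] [IsScalarTower A B' B'₁] [Algebra B B₁] [Algebra p.ResidueField B₁] [Algebra A B₁] [IsScalarTower A p.ResidueField B₁] [IsScalarTower A B B₁] [Algebra B'₁ B₁] [Algebra B' B₁] [IsScalarTower B' B'₁ B₁] [IsScalarTower B' B B₁] [IsScalarTower p.ResidueField B'₁ B₁], Algebra.IsPushout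 A p.ResidueField B' B'₁ → Algebra.IsPushout A p.ResidueField B B₁ → Module.Invertible B₁ (QFDual.omega p.ResidueField B'₁ B₁) := by
  haveI := hf.finite
  constructor
  · intro hinv p _ B'₁ B₁ _ _ _ _ _ _ _ _ _ _ _ _ _ _ _ _ _ hpush _
    exact Module.Invertible.congr
      ((TensorProduct.AlgebraTensorModule.cancelBaseChange B' B B₁ B₁ (Disc.Omega A B')).trans
        (LinearEquiv.ofBijective _ (Groth.Calg5.OmegaBC.omegaBC_bijective (B := B) (B₁ := B₁) hf hpush)))
  · intro H
    haveI := finite_omega A B'
    haveI : Module.Flat A (QFDual.omega A B' B) := Groth.Calg5.OmegaBC.flat_omega hf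
    refine Groth.Calg5.FibrewiseInvertible.invertible_of_fibres (A := A) fun p _ => ?_
    let κ := p.ResidueField
    let B'₁ := B' ⊗[A] κ
    let B₁ := B ⊗[A] κ
    letI : Algebra κ B'₁ := Algebra.TensorProduct.rightAlgebra
    letI : Algebra κ B₁ := Algebra.TensorProduct.rightAlgebra
    let ρ : B'₁ →ₐ[A] B₁ := Algebra.TensorProduct.map (IsScalarTower.toAlgHom A B' B) (AlgHom.id A κ)
    letI : Algebra B'₁ B₁ := ρ.toRingHom.toAlgebra
    haveI : IsScalarTower B' B'₁ B₁ := IsScalarTower.of_algebraMap_eq fun b => by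
      change (algebraMap B' B b) ⊗ₜ[A] (1 : κ) = ρ (b ⊗ₜ 1)
      rfl
    haveI : IsScalarTower κ B'₁ B₁ := IsScalarTower.of_algebraMap_eq fun c => by
      change (1 : B) ⊗ₜ[A] c = (IsScalarTower.toAlgHom A B' B 1) ⊗ₜ[A] c
      rw [map_one]
    have hpush : Algebra.IsPushout A κ B' B'₁ := TensorProduct.isPushout'
    have hpushB : Algebra.IsPushout A κ B B₁ := TensorProduct.isPushout'
    haveI := H p B'₁ B₁ hpush hpushB
    exact Module.Invertible.congr
      ((TensorProduct.AlgebraTensorModule.cancelBaseChange B' B B₁ B₁ (Disc.Omega A B')).trans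
        (LinearEquiv.ofBijective _ (Groth.Calg5.OmegaBC.omegaBC_bijective (B := B) (B₁ := B₁) hf hpush))).symm

end Groth.Agent.S8963
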