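import Groth.Statements.S8964
import Groth.Agent.Calg5.QFInvertible
import Groth.Agent.Calg1.Completion
import Groth.Agent.S12080

set_option autoImplicit false
universe u
open TensorProduct
open QFDual

open TensorProduct IsLocalRing

namespace Groth.Agent.S8964

theorem finite_omega (A B' : Type u) [CommRing A] [CommRing B'] [Algebra A B'] [IsNoetherianRing A]
    [Module.Finite A B'] : Module.Finite B' (Disc.Omega A B') := by
  let f : Module.Dual A B' → Disc.Omega A B' := Disc.Omega.mk
  haveI : IsNoetherian A (B' →ₗ[A] A) := inferInstance
  obtain ⟨s, hs⟩ := Module.Finite.fg_top (R := A) (M := Module.Dual A B')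
  classical
  refine ⟨⟨s.image f, ?_⟩⟩
  rw [eq_top_iff]
  rintro ⟨φ⟩ -
  have : φ ∈ Submodule.span A (s : Set (Module.Dual A B')) := hs ▸ trivial
  induction this using Submodule.span_induction with
  | mem x hx => exact Submodule.subset_span (Finset.mem_coe.2 (Finset.mem_image_of_mem f hx))
  | zero => exact Submodule.zero_mem _
  | add x y _ _ hx hy => exact Submodule.add_mem _ hx hy
  | smul a x _ hx =>
    have : f (a • x) = algebraMap A B' a • f x :=
      Disc.Omega.ext (LinearMap.ext fun z => by simp [f, ← Algebra.smul_def])
    show f (a • x) ∈ _
    rw [this]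
    exact Submodule.smul_mem _ _ hx

/-- A module free of rank one at every prime, of finite presentation, is invertible. -/
theorem invertible_of_atPrime {B M : Type u} [CommRing B] [AddCommGroup M] [Module B M]
    [Module.FinitePresentation B M]
    (h : ∀ (q : Ideal B) [q.IsPrime],
      Nonempty (Localization.AtPrime q ⊗[B] M ≃ₗ[Localization.AtPrime q] Localization.AtPrime q)) :
    Module.Invertible B M := by
  classical
  refine Groth.Agent.S12080.result B M
    {f | Nonempty (LocalizedModule.Away f M ≃ₗ[Localization.Away f] Localization.Away f)} ?_ fun f hf => hf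
  by_contra hne
  obtain ⟨q, hq, hle⟩ := Ideal.exists_le_maximal _ hne
  obtain ⟨e⟩ := h q
  have : Module.Free (Localization.AtPrime q) (Localization.AtPrime q ⊗[B] M) := Module.Free.of_equiv e.symm
  obtain ⟨r, hr, hfree, hrank⟩ := Module.FinitePresentation.exists_free_localizedModule_powers q.primeCompl
    (TensorProduct.mk B (Localization.AtPrime q) M 1) (Localization.AtPrime q)
  have : Nontrivial (Localization.Away r) :=
    (IsLocalization.Away.lift r (IsLocalization.map_units (M := q.primeCompl) (Localization.AtPrime q)
      ⟨r, hr⟩) : Localization.Away r →+* Localization.AtPrime q).domain_nontrivial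
  have hone : Module.finrank (Localization.Away r) (LocalizedModule.Away r M) = 1 := by
    rw [hrank, e.finrank_eq, Module.finrank_self]
  exact hr (hle (Ideal.subset_span ⟨(Module.basisUnique (Fin 1) hone).equivFun.trans
    (LinearEquiv.funUnique (Fin 1) _ _)⟩))


/-- A quasi-finite syntomic map has an invertible relative dualizing module. Let A be a Noetherian ring
and A → B a syntomic ring map (flat, of finite presentation, with fibres local complete
intersections), and suppose it factors through an intermediate ring B', with A → B' a finite map and
the induced morphism Spec B → Spec B' an open immersion, so that A → B is quasi-finite and ω_{B/A} =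
B ⊗_{B'} Hom_A(B', A). Then ω_{B/A} is an invertible B-module. (The published statement is for a
locally quasi-finite syntomic morphism of locally Noetherian schemes and the sheaf ω_{Y/X}; this row
is its form over a pair of affine opens.) -/
theorem result (A B' B : Type u) [CommRing A] [CommRing B'] [CommRing B] [IsNoetherianRing A] [Algebra A B'] [Algebra B' B] [Algebra A B] [IsScalarTower A B' B] (hf : QFDual.IsQFFactor A B' B) (hs : Synt.IsSyntomic A B) : Module.Invertible B (QFDual.omega A B' B) := by
  haveI := hf.finite
  haveI := hs.2.1
  haveI : IsNoetherianRing B := Algebra.FiniteType.isNoetherianRing A B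
  haveI : Module.Finite B' (Disc.Omega A B') := finite_omega A B'
  haveI : Module.FinitePresentation B (QFDual.omega A B' B) :=
    Module.finitePresentation_of_finite B (B ⊗[B'] Disc.Omega A B')
  refine invertible_of_atPrime fun q hq => ?_
  set p := q.comap (algebraMap A B)
  let Ap := Localization.AtPrime p
  let R := AdicCompletion (maximalIdeal Ap) Ap
  haveI : IsNoetherianRing R :=
    Groth.Calg1.isNoetherianRing_adicCompletion _ (IsNoetherian.noetherian _)
  haveI : HenselianRing R (maximalIdeal R) := inferInstance
  haveI : HenselianLocalRing R := Groth.Hensel1.henselianLocalRing_of_henselianRing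
  haveI : Module.Flat A R := Module.Flat.trans A Ap R
  have hres := AdicCompletion.residueField_map_bijective Ap
  let e := RingEquiv.ofBijective _ hres
  let ι := Ideal.ResidueField.map p q (algebraMap A B) rfl
  refine Groth.Calg5.QFInvertible.exists_equiv_atPrime_of_henselian A B' B R hf hs q
    (algebraMap B q.ResidueField) (Ideal.ker_algebraMap_residueField q)
    ((ι.comp e.symm.toRingHom).comp (IsLocalRing.residue R)) ?_ ?_
  · rw [← RingHom.comap_ker, RingHom.ker_eq_bot_iff_eq_zero _ |>.mpr, ← RingHom.ker_eq_comap_bot,
      IsLocalRing.ker_residue]
    intro x hx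
    rw [RingHom.comp_apply] at hx
    exact (map_eq_zero_iff e.symm.toRingHom e.symm.injective).mp ((map_eq_zero_iff ι ι.injective).mp hx)
  · ext a
    simp only [RingHom.comp_apply]
    rw [IsScalarTower.algebraMap_apply A Ap R]
    have h1 : e (IsLocalRing.residue Ap (algebraMap A Ap a)) =
        IsLocalRing.residue R (algebraMap Ap R (algebraMap A Ap a)) :=
      IsLocalRing.ResidueField.map_residue _ _
    rw [← h1]
    change ι (e.symm (e (IsLocalRing.residue Ap (algebraMap A Ap a)))) = _
    rw [RingEquiv.symm_apply_apply]
    exact Ideal.ResidueField.map_algebraMap p q (algebraMap A B) rfl a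

end Groth.Agent.S8964
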