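import Groth.Statements.S8969
import Groth.Agent.Calg5.TraceIso

set_option autoImplicit false
universe u
open Disc

namespace Groth.Agent.S8969

/-- Case h = 1 with B finite free. Suppose A is a Noetherian ring, fix n ≥ 1 and polynomials f_1, …, f_n
∈ A[x_1, …, x_n], and assume that the quotient B = A[x_1, …, x_n]/(f_1, …, f_n) is finite free over
A. Then one can find a B-linear isomorphism B → ω_{B/A} = Hom_A(B, A), where B acts on Hom_A(B, A)
via the argument, carrying the class of the Jacobian determinant det(∂f_i/∂x_j) to the trace element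
Trace_{B/A}. (In the published version B is allowed to be A[x_1, …, x_n, 1/h]/(f_1, …, f_n)
quasi-finite over A, using the relative dualizing module together with its trace element; when h = 1
and B is finite free these reduce to Hom_A(B, A) and Trace_{B/A}, which is the situation treated
here.) -/
theorem result (A : Type u) [CommRing A] [IsNoetherianRing A] (n : ℕ) (hn : 1 ≤ n) (f : Fin n → MvPolynomial (Fin n) A) [Module.Finite A (MvPolynomial (Fin n) A ⧸ Ideal.span (Set.range f))] [Module.Free A (MvPolynomial (Fin n) A ⧸ Ideal.span (Set.range f))] : ∃ e : (MvPolynomial (Fin n) A ⧸ Ideal.span (Set.range f)) ≃ₗ[MvPolynomial (Fin n) A ⧸ Ideal.span (Set.range f)] Disc.Omega A (MvPolynomial (Fin n) A ⧸ Ideal.span (Set.range f)), e (Ideal.Quotient.mk (Ideal.span (Set.range f)) (Matrix.det (Matrix.of fun i j : Fin n => MvPolynomial.pderiv j (f i)))) = Disc.Omega.trace A (MvPolynomial (Fin n) A ⧸ Ideal.span (Set.range f)) := by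
  have hπ : Function.Surjective (Ideal.Quotient.mkₐ A (Ideal.span (Set.range f))) :=
    Ideal.Quotient.mkₐ_surjective A _
  have hker : RingHom.ker (Ideal.Quotient.mkₐ A (Ideal.span (Set.range f))) = Ideal.span (Set.range f) :=
    Ideal.Quotient.mkₐ_ker A _
  obtain ⟨c, hc⟩ := Groth.Calg5.Diagonal.exists_expresses _ f hker
  exact ⟨(Groth.Calg5.Trace.traceEquiv hπ hker hc).symm, (LinearEquiv.symm_apply_eq _).mpr
    (Groth.Calg5.Trace.traceEquiv_trace hπ hker hc).symm⟩

end Groth.Agent.S8969
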