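import Groth.Statements.S8970
import Groth.Agent.DualCore.FiniteMap

set_option autoImplicit false
universe u
open CategoryTheory
attribute [local instance] HasDerivedCategory.standard
open Dual

namespace Groth.Agent.S8970

/-- For a Noetherian ring A with a dualizing complex ω, δ(p) denotes the integer such that the
localization at p of Hom(A/p, ω[i]) is nonzero exactly for i = −δ(p); this δ is the dimension
function of ω. Suppose A is a Noetherian ring equipped with a dualizing complex ω, fix a surjective
ring homomorphism A → B, and take R : D(A) → D(B) to be the right adjoint of restriction of scalars;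
then ω_B = R(ω) = RHom_A(B, ω) is a dualizing complex for B. Then δ_{ω_B} is the restriction of δ_ω
to Spec B: for every prime q of B, with p its preimage in A, and every integer i, the localization
at q of the B-module of maps B/q → ω_B[i] in D(B) is nonzero if and only if the localization at p of
the A-module of maps A/p → ω[i] in D(A) is nonzero. -/
theorem result (A B : Type u) [CommRing A] [CommRing B] [IsNoetherianRing A] [IsNoetherianRing B] [Algebra A B] (hs : Function.Surjective (algebraMap A B)) (R : Dual.D A ⥤ Dual.D B) (adj : DRing.restrictD (algebraMap A B) ⊣ R) (ω : Dual.D A) (hω : Dual.IsDualizing A ω) (q : PrimeSpectrum B) (i : ℤ) : Nontrivial (LocalizedModule q.asIdeal.primeCompl (Dual.inD B (B ⧸ q.asIdeal) ⟶ (R.obj ω)⟦i⟧)) ↔ Nontrivial (LocalizedModule (q.asIdeal.comap (algebraMap A B)).primeCompl (Dual.inD A (A ⧸ q.asIdeal.comap (algebraMap A B)) ⟶ ω⟦i⟧)) := by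
  have hrep := Groth.DualCore.represents_counit R adj ω
  let p : PrimeSpectrum A := ⟨q.asIdeal.comap (algebraMap A B), inferInstance⟩
  let π : A →ₗ[A] (B ⧸ q.asIdeal) := (Algebra.linearMap A (B ⧸ q.asIdeal))
  have hπ : Function.Surjective π := by
    intro x
    obtain ⟨b, rfl⟩ := Submodule.Quotient.mk_surjective q.asIdeal x
    obtain ⟨a, rfl⟩ := hs b
    exact ⟨a, rfl⟩
  have hker : LinearMap.ker π = p.asIdeal := by
    ext a
    exact Ideal.Quotient.eq_zero_iff_mem
  let e : (A ⧸ p.asIdeal) ≃ₗ[A] (B ⧸ q.asIdeal) :=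
    (Submodule.quotEquivOfEq _ _ hker.symm).trans (π.quotKerEquivOfSurjective hπ)
  let e₂ : (Dual.inD A (B ⧸ q.asIdeal) ⟶ (shiftFunctor (Dual.D A) i).obj ω) ≃ₗ[A]
      (Dual.inD A (A ⧸ p.asIdeal) ⟶ (shiftFunctor (Dual.D A) i).obj ω) :=
    Linear.homCongr A ((DerivedCategory.singleFunctor (ModuleCat.{u} A) 0).mapIso e.toModuleIso).symm (Iso.refl _)
  let E := (hrep.homInDEquiv (B ⧸ q.asIdeal) i).trans e₂.toAddEquiv
  have hE : ∀ (a : A) v, E (algebraMap A B a • v) = a • E v := fun a v => by
    show e₂ _ = a • e₂ _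
    exact (congrArg e₂ (hrep.homInDEquiv_smul (B ⧸ q.asIdeal) i a v)).trans (map_smul e₂ a _)
  show q ∈ Module.support B _ ↔ p ∈ Module.support A _
  rw [Module.mem_support_iff', Module.mem_support_iff']
  constructor
  · rintro ⟨v, hv⟩
    refine ⟨E v, fun a ha h0 => hv (algebraMap A B a) ha (E.injective ?_)⟩
    rw [hE]
    exact h0.trans (map_zero E).symm
  · rintro ⟨v, hv⟩
    refine ⟨E.symm v, fun b hb h0 => ?_⟩
    obtain ⟨a, rfl⟩ := hs b
    refine hv a hb ?_
    have h1 := congrArg E h0
    rwa [hE, E.apply_symm_apply, map_zero] at h1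

end Groth.Agent.S8970
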