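import Groth.Statements.S8971
import Mathlib
import Groth.Agent.Calg5.OpenImmAway

set_option autoImplicit false
set_option linter.style.haveILetI false
universe u
open TensorProduct
open QFDual

namespace Groth.Agent.S8971

open TensorProduct

/-- Associated primes of `Hom_A(B', A)` for finite `B'`. -/
theorem mem_associatedPrimes_omega_iff (A B' : Type u) [CommRing A] [CommRing B'] [IsNoetherianRing A]
    [Algebra A B'] [Module.Finite A B'] (q : Ideal B') [q.IsPrime] :
    q ∈ associatedPrimes B' (Disc.Omega A B') ↔ q.comap (algebraMap A B') ∈ associatedPrimes A A := by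
  haveI : IsNoetherianRing B' := IsNoetherianRing.of_finite A B'
  constructor
  · intro h
    obtain ⟨-, φ, hφ⟩ := isAssociatedPrime_iff.mp h
    obtain ⟨T, hT⟩ := Module.Finite.fg_top (R := A) (M := B')
    have hp : q.comap (algebraMap A B') = ⨅ t ∈ T, Submodule.colon (⊥ : Submodule A A) {φ.toLinearMap t} := by
      ext a
      simp only [Ideal.mem_comap, Submodule.mem_iInf, Submodule.mem_colon_singleton, Submodule.mem_bot]
      rw [hφ, Submodule.mem_colon_singleton, Submodule.mem_bot]
      refine ⟨fun h t _ => ?_, fun h => Disc.Omega.ext ?_⟩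
      · have := congrArg (fun ψ : Disc.Omega A B' => ψ.toLinearMap t) h
        simpa [← Algebra.smul_def] using this
      · refine LinearMap.ext_on hT fun t ht => ?_
        simpa [← Algebra.smul_def] using h t ht
    haveI : (q.comap (algebraMap A B')).IsPrime := inferInstance
    obtain ⟨t, htT, ht⟩ := (Ideal.IsPrime.inf_le' (s := T) inferInstance).mp
      (le_of_eq ((Finset.inf_eq_iInf T _).trans hp.symm))
    refine isAssociatedPrime_iff.mpr ⟨inferInstance, φ.toLinearMap t, le_antisymm ?_ ht⟩
    rw [hp]
    exact iInf₂_le t htT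
  · intro h
    obtain ⟨-, a, ha⟩ := isAssociatedPrime_iff.mp h
    let p := q.comap (algebraMap A B')
    haveI : q.LiesOver p := ⟨rfl⟩
    let Q := A ⧸ p
    let D := B' ⧸ q
    let K := FractionRing Q
    let L := FractionRing D
    haveI : FaithfulSMul Q D := inferInstance
    letI : Algebra K L := FractionRing.liftAlgebra Q L
    haveI := FractionRing.isScalarTower_liftAlgebra Q L
    haveI : Module.Finite Q D := Module.Finite.of_restrictScalars_finite A Q D
    obtain ⟨lam, hlam⟩ := Module.Projective.exists_dual_ne_zero K (one_ne_zero (α := L))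
    let g : D →ₗ[Q] K := (lam.restrictScalars Q).comp (IsScalarTower.toAlgHom Q D L).toLinearMap
    obtain ⟨T, hT⟩ := Module.Finite.fg_top (R := Q) (M := D)
    classical
    obtain ⟨c, hc⟩ := IsLocalization.exist_integer_multiples_of_finset (nonZeroDivisors Q) (T.image g)
    let i : Q →ₗ[Q] K := Algebra.linearMap Q K
    have hi : Function.Injective i := IsFractionRing.injective Q K
    let g' : D →ₗ[Q] K := (c : Q) • g
    have hg' : ∀ d, g' d ∈ LinearMap.range i := by
      intro d
      have : Submodule.span Q (T : Set D) ≤ (LinearMap.range i).comap g' := by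
        refine Submodule.span_le.mpr fun t ht => ?_
        obtain ⟨z, hz⟩ := hc (g t) (Finset.mem_image_of_mem g ht)
        exact ⟨z, hz⟩
      exact this (hT.symm ▸ Submodule.mem_top)
    let μ : D →ₗ[Q] Q := (LinearEquiv.ofInjective i hi).symm.toLinearMap.comp (g'.codRestrict _ hg')
    have hμ : ∀ d, i (μ d) = g' d := fun d =>
      congrArg Subtype.val ((LinearEquiv.ofInjective i hi).apply_symm_apply ⟨g' d, hg' d⟩)
    have hμ1 : μ 1 ≠ 0 := by
      intro h0
      have h1 := hμ 1
      rw [h0, map_zero] at h1
      have h2 : algebraMap Q K c * lam 1 = 0 := by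
        rw [← Algebra.smul_def]
        simpa [g', g] using h1.symm
      rcases mul_eq_zero.mp h2 with h3 | h3
      · exact nonZeroDivisors.coe_ne_zero c (hi (h3.trans (map_zero i).symm))
      · exact hlam h3
    have hker : ∀ d : D, d ≠ 0 → ∃ e, μ (d * e) ≠ 0 := by
      intro d hd
      obtain ⟨z, hz0, e, he⟩ : ∃ z : Q, z ≠ 0 ∧ ∃ e : D, d * e = algebraMap Q D z := by
        have hne : (Ideal.span {d}).comap (algebraMap Q D) ≠ ⊥ :=
          Ideal.comap_ne_bot_of_integral_mem hd (Ideal.mem_span_singleton_self d) (Algebra.IsIntegral.isIntegral d)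
        obtain ⟨z, hz, hz0⟩ := Submodule.exists_mem_ne_zero_of_ne_bot hne
        obtain ⟨e, he⟩ := Ideal.mem_span_singleton.mp (Ideal.mem_comap.mp hz)
        exact ⟨z, hz0, e, he.symm⟩
      refine ⟨e, ?_⟩
      rw [he, Algebra.algebraMap_eq_smul_one, map_smul, smul_eq_mul]
      exact mul_ne_zero hz0 hμ1
    let ev : Q →ₗ[A] A := p.liftQ (LinearMap.toSpanSingleton A A a) (fun r hr => by
      have hr' : r ∈ Submodule.colon (⊥ : Submodule A A) {a} := ha ▸ hr
      simpa using hr')
    have hev : Function.Injective ev := by
      rw [injective_iff_map_eq_zero]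
      intro x hx
      obtain ⟨r, rfl⟩ := Ideal.Quotient.mk_surjective x
      refine Ideal.Quotient.eq_zero_iff_mem.mpr (ha.ge ?_)
      rw [Submodule.mem_colon_singleton, Submodule.mem_bot]
      exact hx
    let φ : Disc.Omega A B' := ⟨ev.comp ((μ.restrictScalars A).comp (Ideal.Quotient.mkₐ A q).toLinearMap)⟩
    refine isAssociatedPrime_iff.mpr ⟨inferInstance, φ, ?_⟩
    ext b
    rw [Submodule.mem_colon_singleton, Submodule.mem_bot]
    constructor
    · intro hb
      refine Disc.Omega.ext (LinearMap.ext fun x => ?_)
      simp [φ, map_mul, Ideal.Quotient.eq_zero_iff_mem.mpr hb]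
    · intro hb
      by_contra hbq
      obtain ⟨e, he⟩ := hker (Ideal.Quotient.mk q b) (fun h => hbq (Ideal.Quotient.eq_zero_iff_mem.mp h))
      obtain ⟨x, rfl⟩ := Ideal.Quotient.mk_surjective e
      refine he (hev ?_)
      have := congrArg (fun ψ : Disc.Omega A B' => ψ.toLinearMap x) hb
      simpa [φ] using this


/-- Let A → B be a quasi-finite homomorphism of Noetherian rings, presented by writing it as a composite
A → B' → B, where the map A → B' is finite and the induced morphism Spec B → Spec B' is an open
immersion, so that ω_{B/A} = B ⊗_{B'} Hom_A(B', A) (B' acting on Hom_A(B', A) through the argument).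
Then Ass_B(ω_{B/A}) is the set of primes of B whose preimage in A is an associated prime of A. -/
theorem result (A B' B : Type u) [CommRing A] [CommRing B'] [CommRing B] [IsNoetherianRing A] [IsNoetherianRing B] [Algebra A B'] [Algebra B' B] [Algebra A B] [IsScalarTower A B' B] (hf : QFDual.IsQFFactor A B' B) : associatedPrimes B (QFDual.omega A B' B) = {q : Ideal B | q.IsPrime ∧ q.comap (algebraMap A B) ∈ associatedPrimes A A} := by
  haveI := hf.finite
  haveI : IsNoetherianRing B' := IsNoetherianRing.of_finite A B'
  ext q
  suffices key : ∀ [q.IsPrime], (q ∈ associatedPrimes B (QFDual.omega A B' B) ↔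
      q.comap (algebraMap A B) ∈ associatedPrimes A A) by
    refine ⟨fun hq => ?_, fun hq => ?_⟩
    · haveI := IsAssociatedPrime.isPrime hq
      exact ⟨inferInstance, key.mp hq⟩
    · obtain ⟨h1, h2⟩ := hq
      exact key.mpr h2
  intro _
  obtain ⟨g, hg, hbij⟩ := Groth.Calg5.OpenImmAway.exists_awayMap_bijective (algebraMap B' B) hf.isOpenImmersion q
  let G := algebraMap B' B g
  let C := Localization.Away G
  haveI : IsLocalization.Away g C := by
    refine IsLocalization.isLocalization_of_algEquiv (Submonoid.powers g)
      (AlgEquiv.ofRingEquiv (R := B') (f := RingEquiv.ofBijective _ hbij) fun x => ?_)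
    rw [RingEquiv.ofBijective_apply, IsScalarTower.algebraMap_apply B' B C]
    exact IsLocalization.map_eq _ x
  let H := Disc.Omega A B'
  let f1 : H →ₗ[B'] C ⊗[B'] H := TensorProduct.mk B' C H 1
  let f2 : B ⊗[B'] H →ₗ[B] C ⊗[B'] H := AlgebraTensorModule.map (Algebra.linearMap B C) LinearMap.id
  haveI h1 : IsLocalizedModule (Submonoid.powers g) f1 :=
    (isLocalizedModule_iff_isBaseChange (Submonoid.powers g) C f1).mpr (TensorProduct.isBaseChange B' H C)
  haveI h2 : IsLocalizedModule (Submonoid.powers G) f2 := by
    refine (isLocalizedModule_iff_isBaseChange (Submonoid.powers G) C f2).mpr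
      (IsBaseChange.of_comp (TensorProduct.isBaseChange B' H B) ?_)
    convert TensorProduct.isBaseChange B' H C
    ext x
    simp [f2]
  let qC := q.map (algebraMap B C)
  have hdisj : Disjoint (Submonoid.powers G : Set B) q :=
    (Ideal.disjoint_powers_iff_notMem G (Ideal.IsPrime.isRadical inferInstance)).mpr hg
  haveI : qC.IsPrime := IsLocalization.isPrime_of_isPrime_disjoint (Submonoid.powers G) C q inferInstance hdisj
  have hqC : qC.comap (algebraMap B C) = q :=
    IsLocalization.comap_map_of_isPrime_disjoint (Submonoid.powers G) C inferInstance hdisj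
  haveI : IsNoetherianRing B := inferInstance
  have e1 := Set.ext_iff.mp (Module.associatedPrimes.preimage_comap_associatedPrimes_eq_associatedPrimes_of_isLocalizedModule
    (Submonoid.powers g) C f1) qC
  have e2 := Set.ext_iff.mp (Module.associatedPrimes.preimage_comap_associatedPrimes_eq_associatedPrimes_of_isLocalizedModule
    (Submonoid.powers G) C f2) qC
  rw [Set.mem_preimage] at e1 e2
  rw [hqC] at e2
  rw [e2, ← e1, IsScalarTower.algebraMap_eq B' B C, ← Ideal.comap_comap, hqC,
    mem_associatedPrimes_omega_iff A B', Ideal.comap_comap, ← IsScalarTower.algebraMap_eq]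

end Groth.Agent.S8971
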