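import Groth.Statements.S8972
import Mathlib.RingTheory.RegularLocalRing.Polynomial
import Mathlib.RingTheory.PrincipalIdealDomain

set_option autoImplicit false
open Synt MvPolynomial

namespace Groth.Agent.S8972

/-- The exponent vector zero. -/
def zeroIdx (n d : ℕ) : UnivIdx n d := ⟨0, by simp⟩

/-- The variables left after eliminating the constant coefficients. -/
abbrev Vars (n d : ℕ) : Type := (Fin n × {E : UnivIdx n d // E ≠ zeroIdx n d}) ⊕ Fin n

theorem exponent_zeroIdx (n d : ℕ) : (zeroIdx n d).exponent = 0 := by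
  ext i; simp [zeroIdx, UnivIdx.exponent]

/-- The universal algebra is a polynomial ring over `ℤ`. -/
theorem nonempty_ringEquiv (n d : ℕ) : Nonempty (UnivAlg n d ≃+* MvPolynomial (Vars n d) ℤ) := by
  classical
  let mon : UnivIdx n d → MvPolynomial (Vars n d) ℤ := fun E =>
    E.exponent.prod fun k e => X (Sum.inr k) ^ e
  let Φ₀ : UnivBase n d →+* MvPolynomial (Vars n d) ℤ := eval₂Hom (Int.castRingHom _) fun p =>
    if h : p.2 = zeroIdx n d then
      -∑ E : {E : UnivIdx n d // E ≠ zeroIdx n d}, X (Sum.inl (p.1, E)) * mon E.1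
    else X (Sum.inl (p.1, ⟨p.2, h⟩))
  let Φ : MvPolynomial (Fin n) (UnivBase n d) →+* MvPolynomial (Vars n d) ℤ :=
    eval₂Hom Φ₀ fun k => X (Sum.inr k)
  have hΦf : ∀ i, Φ (univPoly n d i) = 0 := fun i => by
    have h0 : mon (zeroIdx n d) = 1 := by simp [mon, exponent_zeroIdx]
    have h1 : ∀ E, Φ (monomial E.exponent (X (i, E))) = Φ₀ (X (i, E)) * mon E := fun E => by
      simp only [Φ, eval₂Hom_monomial]; rfl
    rw [univPoly, map_sum, Finset.sum_congr rfl fun E _ => h1 E,
      Fintype.sum_eq_add_sum_subtype_ne _ (zeroIdx n d), h0, mul_one]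
    simp only [Φ₀, eval₂Hom_X', dite_true]
    rw [neg_add_eq_zero]
    exact Finset.sum_congr rfl fun E _ => by rw [dif_neg E.2]
  let mk : MvPolynomial (Fin n) (UnivBase n d) →+* MvPolynomial (Fin n) (UnivBase n d) ⧸ univIdeal n d :=
    Ideal.Quotient.mk _
  let Ψ : MvPolynomial (Vars n d) ℤ →+* MvPolynomial (Fin n) (UnivBase n d) ⧸ univIdeal n d :=
    eval₂Hom (Int.castRingHom _) (Sum.elim (fun p => mk (C (X (p.1, p.2.1)))) fun k => mk (X k))
  let Φ' : (MvPolynomial (Fin n) (UnivBase n d) ⧸ univIdeal n d) →+* MvPolynomial (Vars n d) ℤ :=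
    Ideal.Quotient.lift _ Φ fun x hx => by
      have : univIdeal n d ≤ RingHom.ker Φ := Ideal.span_le.2 (by rintro _ ⟨i, rfl⟩; exact hΦf i)
      exact this hx
  have hΨmon : ∀ E, Ψ (mon E) = mk (monomial E.exponent 1) := fun E => by
    rw [monomial_eq, C_1, one_mul, map_finsuppProd, map_finsuppProd]
    simp [Ψ, mon, map_pow]
  have h1 : Φ'.comp Ψ = RingHom.id _ := by
    refine MvPolynomial.ringHom_ext (fun r => by simp) fun x => ?_
    rcases x with ⟨i, E⟩ | k
    · simp [Ψ, Φ', mk, Φ, Φ₀, E.2]
    · simp [Ψ, Φ', mk, Φ]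
  have h2 : (Ψ.comp Φ') = RingHom.id _ := by
    refine Ideal.Quotient.ringHom_ext (MvPolynomial.ringHom_ext' ?_ fun k => by simp [Ψ, Φ', Φ, mk])
    refine MvPolynomial.ringHom_ext (fun r => by simp) fun p => ?_
    rcases p with ⟨i, E⟩
    show Ψ (Φ (C (X (i, E)))) = mk (C (X (i, E)))
    by_cases hE : E = zeroIdx n d
    · subst hE
      simp only [Φ, Φ₀, eval₂Hom_C, eval₂Hom_X', dite_true, map_neg, map_sum, map_mul, hΨmon]
      simp only [Ψ, eval₂Hom_X', Sum.elim_inl, ← map_mul, C_mul_monomial, mul_one, ← map_sum]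
      rw [neg_eq_iff_add_eq_zero, ← map_add]
      refine Ideal.Quotient.eq_zero_iff_mem.2 (Ideal.subset_span ⟨i, ?_⟩)
      rw [univPoly, Fintype.sum_eq_add_sum_subtype_ne _ (zeroIdx n d), exponent_zeroIdx, add_comm]
      rfl
    · simp [Φ, Φ₀, hE, Ψ, mk]
  exact ⟨RingEquiv.ofRingHom Φ' Ψ h1 h2⟩

/-- Let n, d ≥ 1 and let B = A[x_1, …, x_n]/(f_1, …, f_n) be the universal algebra over A = ℤ[a_{i,E}],
f_i = Σ_E a_{i,E} x^E summed over exponent vectors E with |E| ≤ d. Then B is an integral domain and
every localization of B at a prime ideal is a regular local ring. (The published statement says that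
X_{n,d} = Spec A and the quasi-finite locus Y_{n,d} ⊆ Spec B are regular and irreducible; for A, a
polynomial ring over ℤ, this is standard, and for the open Y_{n,d} it follows from the assertion
about all of Spec B made here, which is what the printed argument shows. The published statement
also asserts that Y_{n,d} → X_{n,d} is locally quasi-finite and syntomic, an instance of the general
characterisation of quasi-finite syntomic maps; that clause is not part of this row.) -/
theorem result (n d : ℕ) (hn : 1 ≤ n) (hd : 1 ≤ d) : IsDomain (Synt.UnivAlg n d) ∧ ∀ q : PrimeSpectrum (Synt.UnivAlg n d), IsRegularLocalRing (Localization.AtPrime q.asIdeal) := by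
  classical
  obtain ⟨e⟩ := nonempty_ringEquiv n d
  have : Finite (Vars n d) := inferInstance
  have : IsRegularRing (MvPolynomial (Vars n d) ℤ) := inferInstance
  have : IsRegularRing (Synt.UnivAlg n d) := IsRegularRing.of_ringEquiv e.symm
  exact ⟨e.toMulEquiv.isDomain _, fun q => inferInstance⟩

end Groth.Agent.S8972
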