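import Groth.Statements.S8973
import Mathlib.RingTheory.Smooth.StandardSmoothCotangent
import Mathlib.RingTheory.Etale.Locus
import Mathlib.RingTheory.Unramified.LocalStructure
import Mathlib.RingTheory.QuasiFinite.Basic

set_option autoImplicit false
set_option linter.style.haveILetI false
open Synt

namespace Groth.Agent.S8973

open MvPolynomial

variable (n d : ℕ)

theorem exponent_injective : Function.Injective (UnivIdx.exponent (n := n) (d := d)) := by
  intro E E' h
  apply Subtype.ext
  funext i
  apply Fin.ext
  exact congrArg (fun e : Fin n →₀ ℕ => e i) h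

/-- the specialisation `f_i ↦ x_i` -/
noncomputable def ρ : UnivBase n d →+* ℤ :=
  (MvPolynomial.aeval fun v : Fin n × UnivIdx n d =>
    if v.2.exponent = Finsupp.single v.1 1 then (1 : ℤ) else 0).toRingHom

theorem map_univPoly (hd : 1 ≤ d) (i : Fin n) : MvPolynomial.map (ρ n d) (univPoly n d i) = X i := by
  classical
  let Ei : UnivIdx n d := ⟨fun j => if j = i then ⟨1, by omega⟩ else 0, by
    simp only [apply_ite (fun x : Fin (d + 1) => (x : ℕ)), Fin.val_zero, Finset.sum_ite_eq',
      Finset.mem_univ, if_true]
    exact hd⟩
  have hE : Ei.exponent = Finsupp.single i 1 := by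
    ext j
    show ((if j = i then (⟨1, by omega⟩ : Fin (d + 1)) else 0 : Fin (d + 1)) : ℕ) = _
    rw [Finsupp.single_apply]
    split_ifs with h h' h' <;> first | rfl | exact absurd h.symm h' | exact absurd h'.symm h
  rw [univPoly, map_sum, Finset.sum_eq_single Ei]
  · rw [map_monomial, hE, X]
    congr 1
    simp [ρ, eval_monomial, hE]
  · intro E _ hne
    rw [map_monomial]
    have : E.exponent ≠ Finsupp.single i 1 := fun h => hne (exponent_injective n d (h.trans hE.symm))
    simp [ρ, this]
  · intro h; exact absurd (Finset.mem_univ _) h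

/-- the point -/
noncomputable def ev : MvPolynomial (Fin n) (UnivBase n d) →+* ℤ :=
  (MvPolynomial.eval fun _ => (0 : ℤ)).comp (MvPolynomial.map (ρ n d))

theorem univIdeal_le (hd : 1 ≤ d) : univIdeal n d ≤ RingHom.ker (ev n d) := by
  rw [univIdeal, Ideal.span_le]
  rintro _ ⟨i, rfl⟩
  simp [ev, map_univPoly n d hd i]

theorem ev_det (hd : 1 ≤ d) :
    ev n d (Matrix.det (Matrix.of fun i j : Fin n => pderiv i (univPoly n d j))) = 1 := by
  classical
  rw [RingHom.map_det]
  convert Matrix.det_one (R := ℤ) (n := Fin n)
  ext i j
  simp only [RingHom.mapMatrix_apply, Matrix.map_apply, Matrix.of_apply, ev, RingHom.comp_apply,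
    ← pderiv_map, map_univPoly n d hd, pderiv_X, Matrix.one_apply, Pi.single_apply]
  split_ifs with h h' <;> simp_all

/-- Let n, d ≥ 1 and let B = A[x_1, …, x_n]/(f_1, …, f_n) be the universal algebra over A = ℤ[a_{i,E}],
f_i = Σ_E a_{i,E} x^E summed over exponent vectors E with |E| ≤ d. Then there is a prime q of B at
which B is quasi-finite over A and étale over A (that is, B_q is quasi-finite and formally étale
over A). (The published statement asserts a dense open V of the quasi-finite locus Y_{n,d} ⊆ Spec B
that is étale over Spec A; as Spec B is irreducible and the étale locus is open, that amounts to the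
existence of one such point, which is what is stated here and what the printed argument exhibits.) -/
theorem result (n d : ℕ) (hn : 1 ≤ n) (hd : 1 ≤ d) : ∃ q : PrimeSpectrum (Synt.UnivAlg n d), Algebra.QuasiFiniteAt (Synt.UnivBase n d) q.asIdeal ∧ Algebra.IsEtaleAt (Synt.UnivBase n d) q.asIdeal := by
  classical
  let φ : UnivAlg n d →+* ℤ := Ideal.Quotient.lift (univIdeal n d) (ev n d) (univIdeal_le n d hd)
  have hq : (RingHom.ker φ).IsPrime := RingHom.ker_isPrime φ
  let Q : Algebra.PreSubmersivePresentation (UnivBase n d)
      (MvPolynomial (Fin n) (UnivBase n d) ⧸ Ideal.span (Set.range (univPoly n d))) (Fin n) (Fin n) :=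
    Algebra.PreSubmersivePresentation.naive id Function.injective_id
  let g : UnivAlg n d := Q.jacobian
  have hg : g ∉ RingHom.ker φ := by
    have e : g = UnivAlg.mk n d (Matrix.det (Matrix.of fun i j : Fin n => pderiv i (univPoly n d j))) := by
      show Q.jacobian = _
      rw [Algebra.PreSubmersivePresentation.jacobian_eq_jacobiMatrix_det]
      have hM : Q.jacobiMatrix = Matrix.of fun i j : Fin n => pderiv i (univPoly n d j) := by
        ext i j
        rw [Algebra.PreSubmersivePresentation.jacobiMatrix_naive, Matrix.of_apply]
        rfl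
      rw [hM]
      rfl
    intro h
    rw [RingHom.mem_ker, e] at h
    have h1 : φ (UnivAlg.mk n d (Matrix.det (Matrix.of fun i j : Fin n => pderiv i (univPoly n d j)))) = 1 :=
      (Ideal.Quotient.lift_mk _ _ _).trans (ev_det n d hd)
    rw [h1] at h
    exact one_ne_zero h
  let P : Algebra.PreSubmersivePresentation (UnivBase n d) (UnivAlg n d) (Fin n) (Fin n) := Q
  let T := Localization.Away g
  let R' := (Algebra.PreSubmersivePresentation.localizationAway T g).comp P
  have hunit : IsUnit R'.jacobian := by
    rw [Algebra.PreSubmersivePresentation.comp_jacobian_eq_jacobian_smul_jacobian,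
      Algebra.PreSubmersivePresentation.localizationAway_jacobian, Algebra.smul_def, IsUnit.mul_iff]
    exact ⟨IsLocalization.Away.algebraMap_isUnit g, IsLocalization.Away.algebraMap_isUnit g⟩
  let S' : Algebra.SubmersivePresentation (UnivBase n d) T (Unit ⊕ Fin n) (Unit ⊕ Fin n) :=
    { R' with jacobian_isUnit := hunit }
  haveI : Algebra.IsStandardSmoothOfRelativeDimension 0 (UnivBase n d) T :=
    S'.isStandardSmoothOfRelativeDimension (Nat.sub_self _)
  haveI : Algebra.Etale (UnivBase n d) T := inferInstance
  haveI := hq
  have hle : Submonoid.powers g ≤ (RingHom.ker φ).primeCompl := Submonoid.powers_le.2 hg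
  letI : Algebra T (Localization.AtPrime (RingHom.ker φ)) :=
    IsLocalization.localizationAlgebraOfSubmonoidLe T (Localization.AtPrime (RingHom.ker φ))
      (Submonoid.powers g) (RingHom.ker φ).primeCompl hle
  haveI : IsScalarTower (UnivAlg n d) T (Localization.AtPrime (RingHom.ker φ)) :=
    IsLocalization.localization_isScalarTower_of_submonoid_le _ _ _ _ hle
  haveI := IsLocalization.isLocalization_of_submonoid_le T (Localization.AtPrime (RingHom.ker φ))
      (Submonoid.powers g) (RingHom.ker φ).primeCompl hle
  haveI : IsScalarTower (UnivBase n d) T (Localization.AtPrime (RingHom.ker φ)) :=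
    IsScalarTower.of_algebraMap_eq fun x => by
      rw [IsScalarTower.algebraMap_apply (UnivBase n d) (UnivAlg n d) T,
        ← IsScalarTower.algebraMap_apply (UnivAlg n d) T, ← IsScalarTower.algebraMap_apply]
  haveI : Algebra.FormallyEtale T (Localization.AtPrime (RingHom.ker φ)) :=
    Algebra.FormallyEtale.of_isLocalization ((RingHom.ker φ).primeCompl.map (algebraMap (UnivAlg n d) T))
  refine ⟨⟨RingHom.ker φ, hq⟩, ?_, Algebra.FormallyEtale.comp (UnivBase n d) T _⟩
  haveI : Algebra.QuasiFinite (UnivBase n d) T := inferInstance
  haveI : Algebra.QuasiFinite T (Localization.AtPrime (RingHom.ker φ)) :=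
    Algebra.QuasiFinite.of_isLocalization ((RingHom.ker φ).primeCompl.map (algebraMap (UnivAlg n d) T))
  exact Algebra.QuasiFinite.trans (UnivBase n d) T _

end Groth.Agent.S8973
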