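import Groth.Statements.S8974
import Mathlib

set_option autoImplicit false
universe u
open Synt

namespace Groth.Agent.S8974

/-- Let R be a ring, n, d ≥ 1 and g_1, …, g_n ∈ R[y_1, …, y_n] of total degree at most d. Then there is
a ring map φ : A = ℤ[a_{i,E}] → R (E running over exponent vectors with |E| ≤ d) such that applying
φ to the coefficients of the universal polynomial f_i = Σ_E a_{i,E} x^E gives g_i for each i. (The
published statement is for a locally quasi-finite syntomic morphism of schemes and asserts, locally,
a cartesian square with the universal family; this row is its affine core: the coefficient map.) -/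
theorem result (R : Type u) [CommRing R] (n d : ℕ) (hn : 1 ≤ n) (hd : 1 ≤ d) (g : Fin n → MvPolynomial (Fin n) R) (hg : ∀ i, (g i).totalDegree ≤ d) : ∃ φ : Synt.UnivBase n d →+* R, ∀ i, MvPolynomial.map φ (Synt.univPoly n d i) = g i := by
  classical
  let φ : Synt.UnivBase n d →+* R :=
    MvPolynomial.eval₂Hom (Int.castRingHom R) fun iE => MvPolynomial.coeff iE.2.exponent (g iE.1)
  refine ⟨φ, fun i => ?_⟩
  have hinj : Function.Injective (Synt.UnivIdx.exponent (n := n) (d := d)) := fun E E' h =>
    Subtype.ext (funext fun j => Fin.ext (DFunLike.congr_fun h j))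
  have hsupp : (g i).support ⊆ (Finset.univ : Finset (Synt.UnivIdx n d)).image Synt.UnivIdx.exponent := by
    intro s hs
    have hle : ∑ j, s j ≤ d := by
      refine le_trans ?_ ((MvPolynomial.le_totalDegree hs).trans (hg i))
      rw [Finsupp.sum_fintype _ _ fun _ => rfl]
    rw [Finset.mem_image]
    exact ⟨⟨fun j => ⟨s j, Nat.lt_succ_of_le ((Finset.single_le_sum (fun k _ => Nat.zero_le (s k))
      (Finset.mem_univ j)).trans hle)⟩, hle⟩, Finset.mem_univ _, Finsupp.ext fun j => rfl⟩
  conv_rhs => rw [(g i).as_sum]
  rw [Finset.sum_subset hsupp fun s _ hs => by rw [MvPolynomial.notMem_support_iff.mp hs, MvPolynomial.monomial_zero],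
    Finset.sum_image fun a _ b _ h => hinj h, Synt.univPoly, map_sum]
  refine Finset.sum_congr rfl fun E _ => ?_
  rw [MvPolynomial.map_monomial]
  simp [φ]

end Groth.Agent.S8974
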