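import Groth.Statements.S8975
-- import your own Groth.Agent.* helpers here

set_option autoImplicit false
universe u
open TensorProduct
open QFDual

namespace Groth.Agent.S8975

/-- The relative dualizing module of a product. Suppose A, B, C are Noetherian rings and the ring maps A
→ B, A → C are quasi-finite, presented by factorizations A → B' → B and A → C' → C with A → B', A →
C' finite and Spec B → Spec B', Spec C → Spec C' open immersions, and let B × C carry the product
algebra structure over B' × C' (so that A → B' × C' → B × C is a factorization of the same kind).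
Then ω_{(B × C)/A} = (B × C) ⊗_{B' × C'} Hom_A(B' × C', A) is identified with ω_{B/A} × ω_{C/A}:
there is an A-linear isomorphism sending (b, c) ⊗ φ to (b ⊗ φ∘ι_{B'}, c ⊗ φ∘ι_{C'}), where ι_{B'},
ι_{C'} are the inclusions of the factors; this formula determines the isomorphism and makes it (B ×
C)-linear. -/
theorem result (A B' B C' C : Type u) [CommRing A] [CommRing B'] [CommRing B] [CommRing C'] [CommRing C] [IsNoetherianRing A] [IsNoetherianRing B] [IsNoetherianRing C] [Algebra A B'] [Algebra B' B] [Algebra A B] [IsScalarTower A B' B] [Algebra A C'] [Algebra C' C] [Algebra A C] [IsScalarTower A C' C] (hB : QFDual.IsQFFactor A B' B) (hC : QFDual.IsQFFactor A C' C) [Algebra (B' × C') (B × C)] [IsScalarTower A (B' × C') (B × C)] (halg : algebraMap (B' × C') (B × C) = (algebraMap B' B).prodMap (algebraMap C' C)) : ∃ e : QFDual.omega A (B' × C') (B × C) ≃ₗ[A] QFDual.omega A B' B × QFDual.omega A C' C, ∀ (b : B) (c : C) (φ : Disc.Omega A (B' × C')), e ((b, c) ⊗ₜ[B' × C'] φ) = (b ⊗ₜ[B'] Disc.Omega.mk (φ.toLinearMap ∘ₗ LinearMap.inl A B' C'), c ⊗ₜ[C']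 Disc.Omega.mk (φ.toLinearMap ∘ₗ LinearMap.inr A B' C')) := by
  classical
  let inl : Disc.Omega A (B' × C') → Disc.Omega A B' := fun φ =>
    Disc.Omega.mk (φ.toLinearMap ∘ₗ LinearMap.inl A B' C')
  let inr : Disc.Omega A (B' × C') → Disc.Omega A C' := fun φ =>
    Disc.Omega.mk (φ.toLinearMap ∘ₗ LinearMap.inr A B' C')
  let extl : Disc.Omega A B' → Disc.Omega A (B' × C') := fun ψ =>
    Disc.Omega.mk (ψ.toLinearMap ∘ₗ LinearMap.fst A B' C')
  let extr : Disc.Omega A C' → Disc.Omega A (B' × C') := fun ψ =>
    Disc.Omega.mk (ψ.toLinearMap ∘ₗ LinearMap.snd A B' C')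
  have hsmul : ∀ (x : B' × C') (y : B × C), x • y = (x.1 • y.1, x.2 • y.2) := by
    intro x y
    rw [Algebra.smul_def, halg, Algebra.smul_def, Algebra.smul_def]
    rfl
  let fwd : QFDual.omega A (B' × C') (B × C) →+ QFDual.omega A B' B × QFDual.omega A C' C :=
    TensorProduct.liftAddHom
      { toFun := fun y =>
          { toFun := fun φ => (y.1 ⊗ₜ[B'] inl φ, y.2 ⊗ₜ[C'] inr φ)
            map_zero' := Prod.ext (tmul_zero _ _) (tmul_zero _ _)
            map_add' := fun φ ψ => Prod.ext (tmul_add _ (inl φ) (inl ψ)) (tmul_add _ (inr φ) (inr ψ)) }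
        map_zero' := by ext φ <;> simp
        map_add' := fun y z => by ext φ <;> simp [add_tmul] }
      (fun x y φ => by
        show ((x • y).1 ⊗ₜ[B'] inl φ, (x • y).2 ⊗ₜ[C'] inr φ) =
          (y.1 ⊗ₜ[B'] inl (x • φ), y.2 ⊗ₜ[C'] inr (x • φ))
        have h1 : inl (x • φ) = x.1 • inl φ := by
          apply Disc.Omega.ext
          apply LinearMap.ext
          intro z
          simp [inl, Prod.mul_def]
        have h2 : inr (x • φ) = x.2 • inr φ := by
          apply Disc.Omega.ext
          apply LinearMap.ext
          intro z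
          simp [inr, Prod.mul_def]
        rw [hsmul, h1, h2, smul_tmul, smul_tmul])
  let bl : QFDual.omega A B' B →+ QFDual.omega A (B' × C') (B × C) :=
    TensorProduct.liftAddHom
      { toFun := fun b =>
          { toFun := fun ψ => (b, 0) ⊗ₜ[B' × C'] extl ψ
            map_zero' := tmul_zero _ _
            map_add' := fun φ ψ => tmul_add _ (extl φ) (extl ψ) }
        map_zero' := by ext φ; exact zero_tmul _ _
        map_add' := fun y z => by
          ext φ
          show (y + z, (0 : C)) ⊗ₜ[B' × C'] extl φ = _
          rw [show (y + z, (0 : C)) = (y, 0) + (z, 0) by simp, add_tmul]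
          rfl }
      (fun r b ψ => by
        show (r • b, (0 : C)) ⊗ₜ[B' × C'] extl ψ = (b, 0) ⊗ₜ[B' × C'] extl (r • ψ)
        have h1 : extl (r • ψ) = ((r, 0) : B' × C') • extl ψ := by
          apply Disc.Omega.ext
          apply LinearMap.ext
          intro z
          simp [extl]
        rw [h1, ← smul_tmul, hsmul]
        simp)
  let br : QFDual.omega A C' C →+ QFDual.omega A (B' × C') (B × C) :=
    TensorProduct.liftAddHom
      { toFun := fun c =>
          { toFun := fun ψ => (0, c) ⊗ₜ[B' × C'] extr ψ
            map_zero' := tmul_zero _ _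
            map_add' := fun φ ψ => tmul_add _ (extr φ) (extr ψ) }
        map_zero' := by ext φ; exact zero_tmul _ _
        map_add' := fun y z => by
          ext φ
          show ((0 : B), y + z) ⊗ₜ[B' × C'] extr φ = _
          rw [show ((0 : B), y + z) = (0, y) + (0, z) by simp, add_tmul]
          rfl }
      (fun r c ψ => by
        show ((0 : B), r • c) ⊗ₜ[B' × C'] extr ψ = (0, c) ⊗ₜ[B' × C'] extr (r • ψ)
        have h1 : extr (r • ψ) = ((0, r) : B' × C') • extr ψ := by
          apply Disc.Omega.ext
          apply LinearMap.ext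
          intro z
          simp [extr]
        rw [h1, ← smul_tmul, hsmul]
        simp)
  have hfwd : ∀ y φ, fwd (y ⊗ₜ φ) = (y.1 ⊗ₜ[B'] inl φ, y.2 ⊗ₜ[C'] inr φ) := fun _ _ => rfl
  have hl : ∀ b ψ, bl (b ⊗ₜ ψ) = (b, 0) ⊗ₜ[B' × C'] extl ψ := fun _ _ => rfl
  have hr : ∀ c ψ, br (c ⊗ₜ ψ) = (0, c) ⊗ₜ[B' × C'] extr ψ := fun _ _ => rfl
  have left : ∀ w, bl (fwd w).1 + br (fwd w).2 = w := by
    intro w
    induction w using TensorProduct.induction_on with
    | zero => simp
    | add x y hx hy =>
      rw [map_add, Prod.fst_add, Prod.snd_add, map_add, map_add]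
      conv_rhs => rw [← hx, ← hy]
      abel
    | tmul y φ =>
      rw [hfwd, hl, hr]
      have e1 : extl (inl φ) = ((1, 0) : B' × C') • φ := by
        apply Disc.Omega.ext
        apply LinearMap.ext
        intro z
        simp [extl, inl, Prod.mul_def]
      have e2 : extr (inr φ) = ((0, 1) : B' × C') • φ := by
        apply Disc.Omega.ext
        apply LinearMap.ext
        intro z
        simp [extr, inr, Prod.mul_def]
      rw [e1, e2, ← smul_tmul, ← smul_tmul, hsmul, hsmul, ← add_tmul]
      simp
  have right : ∀ x, fwd (bl x.1 + br x.2) = x := by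
    have r1 : ∀ u, fwd (bl u) = (u, 0) := by
      intro u
      induction u using TensorProduct.induction_on with
      | zero => rw [map_zero, map_zero]; rfl
      | add x y hx hy => rw [map_add, map_add, hx, hy]; simp
      | tmul b ψ =>
        rw [hl, hfwd]
        refine Prod.ext ?_ (zero_tmul _ _)
        show b ⊗ₜ[B'] inl (extl ψ) = b ⊗ₜ[B'] ψ
        congr 1
    have r2 : ∀ u, fwd (br u) = (0, u) := by
      intro u
      induction u using TensorProduct.induction_on with
      | zero => rw [map_zero, map_zero]; rfl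
      | add x y hx hy => rw [map_add, map_add, hx, hy]; simp
      | tmul c ψ =>
        rw [hr, hfwd]
        refine Prod.ext (zero_tmul _ _) ?_
        show c ⊗ₜ[C'] inr (extr ψ) = c ⊗ₜ[C'] ψ
        congr 1
    intro x
    rw [map_add, r1, r2]
    simp
  refine ⟨{ fwd with
            invFun := fun x => bl x.1 + br x.2
            left_inv := left
            right_inv := right
            map_smul' := fun a w => ?_ }, fun b c φ => rfl⟩
  show fwd (a • w) = a • fwd w
  induction w using TensorProduct.induction_on with
  | zero => simp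
  | add x y hx hy => rw [smul_add, map_add, map_add, hx, hy, smul_add]
  | tmul y φ =>
    rw [smul_tmul', hfwd, hfwd]
    simp [smul_tmul']

end Groth.Agent.S8975
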