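import Groth.Statements.S8982
import Groth.Agent.HTopHyper.AlmostBlowUp2
-- import your own Groth.Agent.* helpers here

set_option autoImplicit false
universe u
open HTop

namespace Groth.Agent.S8982

open CategoryTheory CategoryTheory.Limits AlgebraicGeometry in
/-- The base change of an almost blow up square along an arbitrary morphism Y → X is an almost blow up
square over Y. The base-changed corners are introduced through fibre-product squares; the morphism
from the new exceptional corner to the new centre is the one compatible with them. -/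
theorem result {E Z X' X Y E₁ Z₁ X₁ : Scheme.{u}} {e : E ⟶ X'} {π : E ⟶ Z} {b : X' ⟶ X} {i : Z ⟶ X} (h : HTop.IsAlmostBlowUpSquare e π b i) (g : Y ⟶ X) {b₁ : X₁ ⟶ Y} {gX : X₁ ⟶ X'} (hX : IsPullback gX b₁ b g) {i₁ : Z₁ ⟶ Y} {gZ : Z₁ ⟶ Z} (hZ : IsPullback gZ i₁ i g) {e₁ : E₁ ⟶ X₁} {gE : E₁ ⟶ E} (hE : IsPullback gE e₁ e gX) {π₁ : E₁ ⟶ Z₁} (hπ : π₁ ≫ i₁ = e₁ ≫ b₁) : HTop.IsAlmostBlowUpSquare e₁ π₁ b₁ i₁ := by
  exact Groth.HTopHyper.isAlmostBlowUpSquare_baseChange h g hX hZ hE hπ

end Groth.Agent.S8982
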