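import Groth.Statements.S8984
import Groth.Agent.HTopHyper.AlmostBlowUp3

set_option autoImplicit false
universe u
open HTop

namespace Groth.Agent.S8984

open CategoryTheory CategoryTheory.Limits AlgebraicGeometry in
/-- Over a quasi-compact quasi-separated scheme, every closed subscheme cut out by a finite type
quasi-coherent ideal is the centre of some almost blow up square. -/
theorem result {Z X : Scheme.{u}} [CompactSpace X] [QuasiSeparatedSpace X] (i : Z ⟶ X) [IsClosedImmersion i] [LocallyOfFinitePresentation i] : ∃ (E X' : Scheme.{u}) (e : E ⟶ X') (π : E ⟶ Z) (b : X' ⟶ X), HTop.IsAlmostBlowUpSquare e π b i := by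
  exact Groth.HTopHyper.exists_isAlmostBlowUpSquare i

end Groth.Agent.S8984
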