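import Groth.Statements.S8985
import Groth.Agent.HTopHyper.AlmostBlowUp3

set_option autoImplicit false
universe u
open HTop

namespace Groth.Agent.S8985

open CategoryTheory CategoryTheory.Limits AlgebraicGeometry in
/-- Two almost blow up squares with the same centre Z → X (X quasi-compact and quasi-separated, Z of
finite presentation) are dominated by a third one whose top right corner embeds as a closed
subscheme, over X, into each of theirs. -/
theorem result {Z X E₁ X₁ E₂ X₂ : Scheme.{u}} [CompactSpace X] [QuasiSeparatedSpace X] (i : Z ⟶ X) [IsClosedImmersion i] [LocallyOfFinitePresentation i] {e₁ : E₁ ⟶ X₁} {π₁ : E₁ ⟶ Z} {b₁ : X₁ ⟶ X} (h₁ : HTop.IsAlmostBlowUpSquare e₁ π₁ b₁ i) {e₂ : E₂ ⟶ X₂} {π₂ : E₂ ⟶ Z} {b₂ : X₂ ⟶ X} (h₂ : HTop.IsAlmostBlowUpSquare e₂ π₂ b₂ i) : ∃ (E X' : Scheme.{u}) (e : E ⟶ X') (π : E ⟶ Z) (b : X' ⟶ X) (j₁ : X' ⟶ X₁) (j₂ : X' ⟶ X₂), HTop.IsAlmostBlowUpSquare e π b i ∧ IsClosedImmersion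 j₁ ∧ IsClosedImmersion j₂ ∧ j₁ ≫ b₁ = b ∧ j₂ ≫ b₂ = b := by
  exact Groth.HTopHyper.exists_isAlmostBlowUpSquare_dominating i h₁ h₂

end Groth.Agent.S8985
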