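import Groth.Statements.S8991
import Groth.Agent.HTopHyper.SquareSheaf
-- import your own Groth.Agent.* helpers here

set_option autoImplicit false
universe u
open HTop

namespace Groth.Agent.S8991

open CategoryTheory CategoryTheory.Limits AlgebraicGeometry Opposite in
/-- A ph sheaf on schemes over S takes the same sections on an S-scheme and on any thickening of it. -/
theorem result (S : Scheme.{u}) (F : HTop.ShPh S) {X X' : Over S} (f : X ⟶ X') (hf : MoreMor.IsThickening f.left) : Function.Bijective (F.obj.map f.op) := by
  exact Groth.HTopHyper.bijective_of_thickening (Groth.HTopHyper.sheafForPairs_ph F) f hf trivial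

end Groth.Agent.S8991
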