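import Groth.Statements.S8992
import Groth.Agent.HTopHyper.Local
import Mathlib.Algebra.Field.ZMod

set_option autoImplicit false
universe u
open HTop

namespace Groth.Agent.S8992

/-- An algebra over the prime field with p elements is absolutely weakly normal if and only if its p-th
power map is bijective (the algebra is perfect). -/
theorem result (p : ℕ) [Fact p.Prime] (A : Type u) [CommRing A] [Algebra (ZMod p) A] : HTop.IsAWNRing A ↔ PerfectRing A p := by
  have hp : p.Prime := Fact.out
  rcases subsingleton_or_nontrivial A with hA | hA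
  · exact ⟨fun _ => ⟨⟨fun a b _ => Subsingleton.elim a b, fun a => ⟨a, Subsingleton.elim _ _⟩⟩⟩, fun _ => ⟨fun x y _ => ⟨x, ⟨Subsingleton.elim _ _, Subsingleton.elim _ _⟩, fun _ _ => Subsingleton.elim _ _⟩, fun q _ x y _ => ⟨x, ⟨Subsingleton.elim _ _, Subsingleton.elim _ _⟩, fun _ _ => Subsingleton.elim _ _⟩⟩⟩
  have : CharP A p := charP_of_injective_algebraMap (algebraMap (ZMod p) A).injective p
  refine ⟨fun h => ?_, fun _ => Groth.HTopHyper.isAWNRing_of_perfect (p := p)⟩
  have := Groth.HTopHyper.isReduced_of_seminormal h.1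
  refine PerfectRing.ofSurjective A p fun x => ?_
  obtain ⟨a, ha, -⟩ := h.2 p hp x 0 (by rw [CharP.cast_eq_zero, zero_pow hp.ne_zero, zero_mul])
  exact ⟨a, ha.1.symm⟩

end Groth.Agent.S8992
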