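import Groth.Statements.S8993
import Groth.Agent.HTopHyper.Local

set_option autoImplicit false
universe u
open HTop

namespace Groth.Agent.S8993

/-- For a ring A of prime characteristic p, the map from A to the direct limit of A along Frobenius (the
perfect closure) is an absolute weak normalization of A. (The published statement also identifies,
over a base of characteristic p, the h sheafification of the structure sheaf on quasi-compact
quasi-separated objects with this colimit; that part is not stated here.) -/
theorem result (p : ℕ) [Fact p.Prime] (A : Type u) [CommRing A] [CharP A p] : HTop.IsRingAWN (PerfectClosure.of A p) := by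
  open CategoryTheory AlgebraicGeometry in
  have hp : p.Prime := Fact.out
  refine Groth.HTopHyper.isRingAWN_of_isAWNRing _ ?_ (Groth.HTopHyper.isAWNRing_of_perfect (p := p))
  rw [Groth.HTopHyper.specUnivHomeo_iff]
  have key : ∀ z : PerfectClosure A p, ∃ (n : ℕ) (a : A), z ^ p ^ n = PerfectClosure.of A p a := fun z => by
    obtain ⟨⟨n, a⟩, rfl⟩ := PerfectClosure.mk_surjective A p z
    refine ⟨n, a, ?_⟩
    rw [← PerfectClosure.iterate_frobenius_mk A p n a, iterate_frobenius]
  refine ⟨fun z => ?_, fun x hx => ?_, fun K _ d₁ d₂ e => RingHom.ext fun z => ?_⟩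
  · obtain ⟨n, a, ha⟩ := key z
    let := (PerfectClosure.of A p).toAlgebra
    exact IsIntegral.of_pow (n := p ^ n) (x := z) (R := A) (Nat.pos_of_ne_zero (pow_ne_zero _ hp.ne_zero)) (by rw [ha]; exact isIntegral_algebraMap)
  · rw [RingHom.mem_ker, PerfectClosure.of_apply, ← PerfectClosure.mk_zero A p] at hx
    obtain ⟨n, hn⟩ := (PerfectClosure.mk_eq_iff A p _ _).mp hx
    simp only [iterate_frobenius, Prod.fst_zero, Prod.snd_zero, zero_add, zero_pow (pow_ne_zero _ hp.ne_zero)] at hn
    exact ⟨_, hn⟩
  · obtain ⟨n, a, ha⟩ := key z
    have hK : (p : K) = 0 := by rw [← map_natCast d₁, CharP.cast_eq_zero, map_zero]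
    have : CharP K p := (CharP.charP_iff_prime_eq_zero hp).mpr hK
    refine (frobenius_inj K p).iterate n ?_
    simp only [iterate_frobenius, ← map_pow, ha]
    exact RingHom.congr_fun e a

end Groth.Agent.S8993
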