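import Groth.Statements.S8997
import Groth.Agent.RaynaudGruson.InjModFlat
import Groth.Agent.RaynaudGruson.DevissageFree
import Groth.Agent.Calg1.InjModMaximal
import Groth.Agent.S1208

set_option autoImplicit false
set_option linter.style.haveILetI false
universe u
open FlatMor

namespace Groth.Agent.S8997

open IsLocalRing TensorProduct in
/-- For a local homomorphism A → B of local rings essentially of finite type, a B-linear map from a
finite B-module N to an A-flat B-module M which is injective modulo the maximal ideal of A is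
A-universally injective, and N is then finitely presented over B and flat over A. -/
theorem result {A B : Type u} [CommRing A] [IsLocalRing A] [CommRing B] [IsLocalRing B] [Algebra A B] [IsLocalHom (algebraMap A B)] [Algebra.EssFiniteType A B] {N M : Type u} [AddCommGroup N] [Module B N] [Module A N] [IsScalarTower A B N] [Module.Finite B N] [AddCommGroup M] [Module B M] [Module A M] [IsScalarTower A B M] [Module.Flat A M] (u : N →ₗ[B] M) (hu : Function.Injective ((u.restrictScalars A).lTensor (ResidueField A))) : FlatCA.UnivInj A (u.restrictScalars A) ∧ Module.FinitePresentation B N ∧ Module.Flat A N := by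
  obtain ⟨σ, hσ⟩ := (Algebra.essFiniteType_iff A B).mp inferInstance
  obtain ⟨P, _, _, _, π, hπr⟩ : ∃ (P : Type u) (_ : CommRing P) (_ : Algebra A P)
      (_ : Algebra.FinitePresentation A P) (π : P →ₐ[A] B), π.range = Algebra.adjoin A (σ : Set B) :=
    ⟨MvPolynomial {x // x ∈ σ} A, inferInstance, inferInstance, inferInstance,
      MvPolynomial.aeval (fun i => (i : B)), by rw [← Algebra.adjoin_range_eq_range_aeval]; simp⟩
  letI : Algebra P B := π.toRingHom.toAlgebra
  haveI : IsScalarTower A P B := .of_algebraMap_eq fun a => (π.commutes a).symm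
  letI : Module P N := Module.compHom N (algebraMap P B)
  haveI : IsScalarTower P B N := .of_algebraMap_smul fun _ _ => rfl
  haveI : IsScalarTower A P N := .of_algebraMap_smul fun a n => by
    rw [← algebraMap_smul B (algebraMap A P a) n, ← IsScalarTower.algebraMap_apply, algebraMap_smul]
  letI : Module P M := Module.compHom M (algebraMap P B)
  haveI : IsScalarTower P B M := .of_algebraMap_smul fun _ _ => rfl
  haveI : IsScalarTower A P M := .of_algebraMap_smul fun a n => by
    rw [← algebraMap_smul B (algebraMap A P a) n, ← IsScalarTower.algebraMap_apply, algebraMap_smul]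
  let q : Ideal P := (maximalIdeal B).comap (algebraMap P B)
  haveI : q.IsPrime := Ideal.IsPrime.comap _
  have hqu : ∀ s : P, s ∉ q ↔ IsUnit (algebraMap P B s) := fun s => by
    simp [q, IsLocalRing.mem_maximalIdeal]
  haveI : q.LiesOver (maximalIdeal A) := ⟨by
    show maximalIdeal A = ((maximalIdeal B).comap (algebraMap P B)).comap (algebraMap A P)
    rw [Ideal.comap_comap, ← IsScalarTower.algebraMap_eq]
    exact (((IsLocalRing.local_hom_TFAE (algebraMap A B)).out 0 4 rfl rfl).mp ‹IsLocalHom (algebraMap A B)›).symm⟩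
  have hfrac : ∀ b : B, ∃ s ∉ q, ∃ p : P, algebraMap P B s * b = algebraMap P B p := fun b => by
    obtain ⟨t, ht, htu, hbt⟩ := hσ b
    rw [← hπr, AlgHom.mem_range] at ht hbt
    obtain ⟨s, rfl⟩ := ht
    obtain ⟨p, hp⟩ := hbt
    exact ⟨s, (hqu s).mpr htu, p, by rw [mul_comm]; exact hp.symm⟩
  obtain ⟨g, hg⟩ := (‹Module.Finite B N›).fg_top
  let N₁ : Submodule P N := Submodule.span P (g : Set N)
  haveI : Module.Finite P N₁ := Module.Finite.iff_fg.mpr (Submodule.fg_span g.finite_toSet)
  have hbij : ∀ s : P, s ∉ q → Function.Bijective fun n : N => s • n := fun s hs => by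
    have : (fun n : N => s • n) = fun n => algebraMap P B s • n := funext fun n => (algebraMap_smul B s n).symm
    rw [this]
    exact ((hqu s).mp hs).smul_bijective
  have hscale : ∀ y : N, ∃ s ∉ q, s • y ∈ N₁ := fun y => by
    have hy : y ∈ Submodule.span B (g : Set N) := hg ▸ Submodule.mem_top
    refine Submodule.span_induction (fun x hx => ?_) ?_ (fun x y _ _ hx hy => ?_) (fun b x _ hx => ?_) hy
    · exact ⟨1, (hqu 1).mpr (by simp), by rw [one_smul]; exact Submodule.subset_span hx⟩
    · exact ⟨1, (hqu 1).mpr (by simp), by rw [smul_zero]; exact Submodule.zero_mem _⟩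
    · obtain ⟨s, hs, hsx⟩ := hx
      obtain ⟨t, ht, hty⟩ := hy
      refine ⟨s * t, q.primeCompl.mul_mem hs ht, ?_⟩
      rw [smul_add]
      refine add_mem ?_ ?_
      · rw [mul_comm, mul_smul]; exact N₁.smul_mem _ hsx
      · rw [mul_smul]; exact N₁.smul_mem _ hty
    · obtain ⟨s, hs, hsx⟩ := hx
      obtain ⟨t, ht, p, hp⟩ := hfrac b
      refine ⟨s * t, q.primeCompl.mul_mem hs ht, ?_⟩
      have : (s * t) • b • x = p • (s • x) := by
        simp only [← algebraMap_smul B (_ : P), map_mul, smul_smul]
        congr 1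
        rw [← hp]; ring
      rw [this]
      exact N₁.smul_mem _ hsx
  let f : N₁ →ₗ[P] N := N₁.subtype
  haveI hloc : IsLocalizedModule q.primeCompl f :=
    { map_units := fun s => (Module.End.isUnit_iff _).mpr (hbij s s.2)
      surj := fun y => by
        obtain ⟨s, hs, hsy⟩ := hscale y
        exact ⟨⟨⟨s • y, hsy⟩, ⟨s, hs⟩⟩, rfl⟩
      exists_of_eq := fun {x y} hxy => ⟨1, by rw [Subtype.ext hxy]⟩ }
  let v : N₁ →ₗ[P] M := (u.restrictScalars P).comp f
  have hmker : ∀ {X : Type u} [AddCommGroup X] [Module A X] (w : X),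
      (1 : ResidueField A) ⊗ₜ[A] w = 0 ↔ w ∈ maximalIdeal A • (⊤ : Submodule A X) := fun w => by
    rw [← LinearMap.ker_tensorProductMk, LinearMap.mem_ker, TensorProduct.mk_apply]
    rfl
  have h : ∀ n, v n ∈ maximalIdeal A • (⊤ : Submodule A M) →
      ∃ t ∉ q, t • n ∈ maximalIdeal A • (⊤ : Submodule A N₁) := fun n hn => by
    have h1 : f n ∈ maximalIdeal A • (⊤ : Submodule A N) := by
      refine (hmker (f n)).mp (hu ?_)
      rw [LinearMap.lTensor_tmul, map_zero]
      exact (hmker _).mpr hn
    exact Groth.Calg1.exists_smul_mem_of_localized q.primeCompl f _ h1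
  obtain ⟨hflat, hinj⟩ := Groth.RaynaudGruson.InjModFlat.main q N₁ M v h
  let e : LocalizedModule q.primeCompl N₁ ≃ₗ[P] N := IsLocalizedModule.iso q.primeCompl f
  haveI : Module.Flat A (LocalizedModule q.primeCompl N₁) := hflat
  refine ⟨?_, ?_, Module.Flat.of_linearEquiv (e.restrictScalars A).symm⟩
  · intro Q _ _
    refine (LinearMap.lTensor_inj_iff_rTensor_inj _ _).mpr ((injective_iff_map_eq_zero _).mpr fun z hz => ?_)
    let fQ := AlgebraTensorModule.rTensor A Q f
    let uQ := AlgebraTensorModule.rTensor A Q (u.restrictScalars P)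
    obtain ⟨s, hs, z₁, hz₁⟩ : ∃ s ∉ q, ∃ z₁, s • z = fQ z₁ := by
      clear hz
      induction z with
      | zero => exact ⟨1, (hqu 1).mpr (by simp), 0, by rw [smul_zero, map_zero]⟩
      | tmul n y =>
        obtain ⟨s, hs, hsn⟩ := hscale n
        exact ⟨s, hs, ⟨s • n, hsn⟩ ⊗ₜ y, rfl⟩
      | add a b ha hb =>
        obtain ⟨s, hs, a₁, ha⟩ := ha
        obtain ⟨t, ht, b₁, hb⟩ := hb
        exact ⟨s * t, q.primeCompl.mul_mem hs ht, t • a₁ + s • b₁, by
          rw [smul_add, map_add, map_smul, map_smul, ← ha, ← hb, smul_smul, smul_smul, mul_comm s t]⟩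
    have hzu : uQ z = 0 := hz
    have h2 : (v.restrictScalars A).rTensor Q z₁ = 0 := by
      show AlgebraTensorModule.rTensor A Q v z₁ = 0
      rw [show AlgebraTensorModule.rTensor A Q v z₁ = uQ (fQ z₁) from ?_, ← hz₁, map_smul, hzu, smul_zero]
      clear hz₁
      induction z₁ with
      | zero => simp
      | tmul n y => rfl
      | add a b ha hb => simp only [map_add, ha, hb]
    obtain ⟨t, ht, htz⟩ := hinj Q z₁ h2
    have h3 : (t * s) • z = 0 := by rw [mul_smul, hz₁, ← map_smul, htz, map_zero]
    rw [← algebraMap_smul B (t * s) z] at h3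
    exact ((hqu _).mp (q.primeCompl.mul_mem ht hs)).smul_eq_zero.mp h3
  · let Pq := Localization.AtPrime q
    let ψ : Pq →+* B := IsLocalization.lift (M := q.primeCompl) (g := algebraMap P B) fun s => (hqu s).mp s.2
    letI : Algebra Pq B := ψ.toAlgebra
    haveI : IsScalarTower P Pq B := .of_algebraMap_eq fun p => (IsLocalization.lift_eq _ p).symm
    have hψ : Function.Surjective (algebraMap Pq B) := fun b => by
      obtain ⟨s, hs, p, hp⟩ := hfrac b
      refine ⟨IsLocalization.mk' Pq p (⟨s, hs⟩ : q.primeCompl), ?_⟩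
      show ψ _ = b
      rw [IsLocalization.lift_mk'_spec]
      exact hp.symm
    letI : Module Pq N := Module.compHom N (algebraMap Pq B)
    haveI : IsScalarTower Pq B N := .of_algebraMap_smul fun _ _ => rfl
    haveI : IsScalarTower P Pq N := .of_algebraMap_smul fun p n => by
      rw [← algebraMap_smul B (algebraMap P Pq p) n, ← IsScalarTower.algebraMap_apply, algebraMap_smul]
    haveI := Groth.Agent.S1208.result N₁ q hflat
    haveI : Module.FinitePresentation Pq N :=
      Module.FinitePresentation.of_equiv (LinearEquiv.extendScalarsOfIsLocalization (R := P) (M := LocalizedModule q.primeCompl N₁) (N := N) q.primeCompl Pq e)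
    haveI : Module.Finite Pq B := Module.Finite.of_surjective (Algebra.linearMap Pq B) hψ
    exact Groth.RaynaudGruson.DevissageFree.finitePresentation_of_restrictScalars (B := Pq)

end Groth.Agent.S8997
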