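import Groth.Statements.S8998
import Groth.Agent.RaynaudGruson.ImpurityEtale
import Groth.Agent.RaynaudGruson.ImpurityDescent
import Groth.Agent.S1247
import Groth.Agent.RaynaudGruson.EtalePushout
import Mathlib

set_option autoImplicit false
universe u
open FlatMor

namespace Groth.Agent.S8998

open Groth.RaynaudGruson TensorProduct

attribute [local instance] Algebra.TensorProduct.rightAlgebra

set_option maxHeartbeats 1600000 in
/-- A witness over any ring gives one over an elementary étale neighbourhood. -/
theorem exists_etale_wit {A B : Type u} [CommRing A] [CommRing B] [Algebra A B] [Algebra.FiniteType A B]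
    {N : Type u} [AddCommGroup N] [Module B N] [Module A N] [IsScalarTower A B N] [Module.Finite B N]
    (p : Ideal A) [p.IsPrime] [IsNoetherianRing (Localization.AtPrime p)]
    {A' : Type u} [CommRing A'] [Algebra A A'] (t' t : Ideal A') [t'.IsPrime] [t.IsPrime] [ht : t.LiesOver p]
    (h : Wit (A := A) (B := B) N t' t) :
    ∃ (D : Type u) (_ : CommRing D) (_ : Algebra A D) (s' s : Ideal D) (_ : s'.IsPrime) (_ : s.IsPrime),
      FlatCA.IsEtaleNhd A D p s ∧ Wit (A := A) (B := B) N s' s := by
  classical
  let L := Localization.AtPrime p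
  let m := IsLocalRing.maximalIdeal L
  haveI : m.LiesOver p := ⟨(IsLocalization.AtPrime.under_maximalIdeal L p).symm⟩
  -- move to the local ring of `A'` at `t`
  let Lt := Localization.AtPrime t
  have hu : ∀ a : p.primeCompl, IsUnit (algebraMap A Lt a) := fun a => by
    rw [IsScalarTower.algebraMap_apply A A' Lt]
    exact IsLocalization.map_units Lt
      (⟨algebraMap A A' a, fun h => a.2 ((Ideal.mem_of_liesOver t p (a : A)).mpr h)⟩ : t.primeCompl)
  letI : Algebra L Lt := (IsLocalization.lift hu).toAlgebra
  haveI : IsScalarTower A L Lt := IsScalarTower.of_algebraMap_eq fun a => (IsLocalization.lift_eq hu a).symm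
  let mt := IsLocalRing.maximalIdeal Lt
  have hdisj : Disjoint (t.primeCompl : Set A') (t' : Set A') :=
    Set.disjoint_left.mpr fun x hx hx' => hx (h.1 hx')
  let τ := t'.map (algebraMap A' Lt)
  haveI : τ.IsPrime := IsLocalization.isPrime_of_isPrime_disjoint t.primeCompl Lt t' ‹_› hdisj
  have hτ : τ.comap (IsScalarTower.toAlgHom A A' Lt) = t' :=
    IsLocalization.comap_map_of_isPrime_disjoint t.primeCompl Lt ‹_› hdisj
  have hmt : mt.comap (IsScalarTower.toAlgHom A A' Lt) = t := IsLocalization.AtPrime.under_maximalIdeal Lt t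
  haveI : mt.LiesOver m := ⟨by
    refine (IsLocalRing.maximalIdeal.isMaximal L).eq_of_le (Ideal.IsPrime.under L mt).ne_top ?_
    show IsLocalRing.maximalIdeal L ≤ _
    rw [← Localization.AtPrime.map_eq_maximalIdeal, Ideal.map_le_iff_le_comap]
    intro a ha
    show algebraMap L Lt (algebraMap A L a) ∈ mt
    rw [← IsScalarTower.algebraMap_apply, IsScalarTower.algebraMap_apply A A' Lt]
    exact hmt.ge ((Ideal.mem_of_liesOver t p a).mp ha)⟩
  have hwL : Wit (A := A) (B := B) N τ mt :=
    Wit.map (IsScalarTower.toAlgHom A A' Lt) (IsLocalRing.le_maximalIdeal (Ideal.IsPrime.ne_top inferInstance))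
      (by simpa only [hτ, hmt] using h)
  -- change the base to `L`
  obtain ⟨BL, _, _, _, _, _, _, hpush⟩ := EtalePushout.exists_pushout A B L
  haveI := hpush
  haveI : Algebra.IsPushout A B L BL := Algebra.IsPushout.symm hpush
  haveI : Algebra.FiniteType L BL := Algebra.FiniteType.equiv (inferInstance : Algebra.FiniteType L (L ⊗[A] B))
    (Algebra.IsPushout.equiv A L B BL)
  obtain ⟨NL, _, _, _, _, f, hf⟩ := EtalePushout.exists_baseChange B BL N
  letI : Module L NL := Module.compHom NL (algebraMap L BL)
  haveI : IsScalarTower L BL NL := IsScalarTower.of_algebraMap_smul fun _ _ => rfl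
  haveI : Module.Finite BL NL := Module.Finite.equiv hf.equiv
  obtain ⟨P, _, hP⟩ := exists_isImpurity_baseChange p f hf m τ mt hwL
  obtain ⟨D, BD, ND, _, _, _, _, _, _, _, _, _, _, _, _, _, _, g, s', s, _, _, Q, _, hQ, ⟨_, hDft, hqf⟩⟩ :=
    Groth.Agent.S1247.result (A := L) (B := BL) NL m
      ⟨Lt, Lt ⊗[L] BL, (Lt ⊗[L] BL) ⊗[BL] NL, inferInstance, inferInstance, inferInstance, inferInstance,
        inferInstance, inferInstance, inferInstance, inferInstance, inferInstance, inferInstance, inferInstance,
        inferInstance, inferInstance, inferInstance, _, τ, mt, inferInstance, inferInstance, P, inferInstance, hP, trivial⟩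
  haveI := hDft; haveI := hqf
  obtain ⟨hpushD, hbcD, hss, hsm, hQs, hass, hno⟩ := hQ
  haveI := hsm
  -- back to `A`
  letI : Algebra A D := Algebra.compHom D (algebraMap A L)
  haveI : IsScalarTower A L D := IsScalarTower.of_algebraMap_eq fun _ => rfl
  letI : Algebra B BD := Algebra.compHom BD (algebraMap B BL)
  haveI : IsScalarTower B BL BD := IsScalarTower.of_algebraMap_eq fun _ => rfl
  letI : Algebra A BD := Algebra.compHom BD (algebraMap A L)
  haveI : IsScalarTower A L BD := IsScalarTower.of_algebraMap_eq fun _ => rfl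
  haveI : IsScalarTower A D BD := IsScalarTower.of_algebraMap_eq fun x =>
    IsScalarTower.algebraMap_apply L D BD (algebraMap A L x)
  haveI : IsScalarTower A BL BD := IsScalarTower.of_algebraMap_eq fun x => by
    rw [IsScalarTower.algebraMap_apply A L BL, ← IsScalarTower.algebraMap_apply L BL BD]
    rfl
  haveI : IsScalarTower A B BD := IsScalarTower.of_algebraMap_eq fun x => by
    rw [IsScalarTower.algebraMap_apply A BL BD, IsScalarTower.algebraMap_apply A B BL]
    rfl
  letI : Module B ND := Module.compHom ND (algebraMap B BL)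
  haveI : IsScalarTower B BL ND := IsScalarTower.of_algebraMap_smul fun _ _ => rfl
  haveI : IsScalarTower B BD ND := IsScalarTower.of_algebraMap_smul fun x y =>
    algebraMap_smul BD (algebraMap B BL x) y
  haveI : Algebra.IsPushout L D BL BD := Algebra.IsPushout.symm hpushD
  have hpushA : Algebra.IsPushout A B D BD :=
    Algebra.IsPushout.symm ((Algebra.IsPushout.comp_iff A L B BL (T := D) (T' := BD)).mpr inferInstance)
  haveI := hpushA
  haveI : s.LiesOver p := Ideal.LiesOver.trans s m p
  have hwD : Wit (A := A) (B := B) N s' s :=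
    wit_of_isImpurity (A := A) (B := B) (N := N) D BD ND ((g.restrictScalars B).comp f) p s' s Q
      ⟨hpushA, hf.comp hbcD, hss, inferInstance, hQs, hass, hno⟩
  -- descend to a finite type algebra
  obtain ⟨C₀, hC₀, hwC₀⟩ := hwD.exists_finiteType
  obtain ⟨G, hG⟩ := (inferInstance : Algebra.FiniteType L D).out
  let C := C₀ ⊔ Algebra.adjoin A (G : Set D)
  have hCfg : C.FG := hC₀.sup ⟨G, rfl⟩
  haveI : Algebra.FiniteType A C := (Subalgebra.fg_iff_finiteType C).mp hCfg
  have hwC : Wit (A := A) (B := B) N (s'.comap C.val.toRingHom) (s.comap C.val.toRingHom) :=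
    Wit.map (Subalgebra.inclusion (le_sup_left : C₀ ≤ C)) (Ideal.comap_mono hss) hwC₀
  let M : Submonoid C := p.primeCompl.map (algebraMap A C).toMonoidHom
  have hclear : ∀ d : D, ∃ a : A, a ∉ p ∧ algebraMap A D a * d ∈ C := by
    intro d
    have hd : d ∈ Algebra.adjoin L (G : Set D) := hG ▸ trivial
    induction hd using Algebra.adjoin_induction with
    | mem x hx => exact ⟨1, p.primeCompl.one_mem, by
        rw [map_one, one_mul]; exact (le_sup_right : _ ≤ C) (Algebra.subset_adjoin hx)⟩
    | algebraMap l =>
      obtain ⟨x, a, rfl⟩ := IsLocalization.exists_mk'_eq p.primeCompl l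
      refine ⟨a, a.2, ?_⟩
      rw [IsScalarTower.algebraMap_apply A L D, ← map_mul, IsLocalization.mk'_spec'_mk, ← IsScalarTower.algebraMap_apply]
      exact C.algebraMap_mem x
    | add x y _ _ hx hy =>
      obtain ⟨a, ha, hax⟩ := hx
      obtain ⟨b, hb, hby⟩ := hy
      refine ⟨a * b, p.primeCompl.mul_mem ha hb, ?_⟩
      rw [map_mul, mul_add]
      exact add_mem (by rw [mul_comm (algebraMap A D a), mul_assoc]; exact mul_mem (C.algebraMap_mem b) hax)
        (by rw [mul_assoc]; exact mul_mem (C.algebraMap_mem a) hby)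
    | mul x y _ _ hx hy =>
      obtain ⟨a, ha, hax⟩ := hx
      obtain ⟨b, hb, hby⟩ := hy
      refine ⟨a * b, p.primeCompl.mul_mem ha hb, ?_⟩
      rw [map_mul, mul_mul_mul_comm]
      exact mul_mem hax hby
  haveI : IsLocalization M D := by
    refine (isLocalization_iff M D).mpr ⟨?_, ?_, ?_⟩
    · rintro ⟨_, a, ha, rfl⟩
      show IsUnit (algebraMap A D a)
      rw [IsScalarTower.algebraMap_apply A L D]
      exact (IsLocalization.map_units L ⟨a, ha⟩).map _
    · intro d
      obtain ⟨a, ha, had⟩ := hclear d
      exact ⟨⟨⟨_, had⟩, ⟨_, a, ha, rfl⟩⟩, mul_comm _ _⟩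
    · intro x y hxy
      exact ⟨1, by rw [show x = y from Subtype.ext hxy]⟩
  haveI : IsScalarTower A C D := IsScalarTower.of_algebraMap_eq fun _ => rfl
  haveI : s.LiesOver (s.comap C.val.toRingHom) := ⟨rfl⟩
  haveI : (s.comap C.val.toRingHom).LiesOver p := Ideal.LiesOver.tower_bot s _ p
  haveI : Algebra.QuasiFiniteAt A (s.comap C.val.toRingHom) := by
    haveI : IsLocalization.AtPrime (Localization.AtPrime s) (s.comap C.val.toRingHom) :=
      IsLocalization.isLocalization_isLocalization_atPrime_isLocalization M (Localization.AtPrime s) s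
    haveI : Algebra.QuasiFinite A L := Algebra.QuasiFinite.of_isLocalization p.primeCompl
    haveI : Algebra.QuasiFinite A (Localization.AtPrime s) := Algebra.QuasiFinite.trans A L (Localization.AtPrime s)
    exact Algebra.QuasiFinite.of_surjective_algHom
      (((IsLocalization.algEquiv (s.comap C.val.toRingHom).primeCompl (Localization.AtPrime s)
        (Localization.AtPrime (s.comap C.val.toRingHom))).toAlgHom.restrictScalars A))
      (IsLocalization.algEquiv (s.comap C.val.toRingHom).primeCompl _ _).surjective
  exact Wit.exists_etaleNhd_of_quasiFinite p hwC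

/-- For an affine finite type morphism Spec B → Spec A: if the local ring of A at the prime p is
Noetherian, then a finite B-module is pure along the fibre over p if and only if it is universally
pure along it. -/
theorem result {A B : Type u} [CommRing A] [CommRing B] [Algebra A B] [Algebra.FiniteType A B] (N : Type u) [AddCommGroup N] [Module B N] [Module.Finite B N] (p : Ideal A) [p.IsPrime] [IsNoetherianRing (Localization.AtPrime p)] : FlatCA.IsPureAlong A B N p ↔ FlatCA.IsUnivPureAlong A B N p := by
  constructor
  · intro h A' B' N' _ _ _ _ _ _ _ _ _ _ _ _ _ _ f t' t _ _ P _ himp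
    letI : Module A N := Module.compHom N (algebraMap A B)
    haveI : IsScalarTower A B N := IsScalarTower.of_algebraMap_smul fun _ _ => rfl
    haveI : Algebra.IsPushout A B A' B' := himp.1
    haveI : t.LiesOver p := himp.2.2.2.1
    have hw := Groth.RaynaudGruson.wit_of_isImpurity (A := A) (B := B) (N := N) A' B' N' f p t' t P himp
    obtain ⟨D, _, _, s', s, _, _, het, hws⟩ := exists_etale_wit p t' t hw
    obtain ⟨D', E', M', _, _, _, _, _, _, _, _, _, _, _, _, _, _, g, r', r, _, _, Q, _, hQ, hnh⟩ :=
      Groth.RaynaudGruson.hasImpurity_of_wit p (Q := fun A' _ _ t => ∃ _ : t.IsPrime, FlatCA.IsEtaleNhd A A' p t)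
        s' s het.2.choose hws ⟨inferInstance, het⟩
    exact h D' E' M' g r' r Q hnh.2 hQ
  · exact fun h A' B' N' _ _ _ _ _ _ _ _ _ _ _ _ _ _ f t' t _ _ P _ _ himp => h A' B' N' f t' t P himp

end Groth.Agent.S8998
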