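import Groth.Statements.S8999
import Groth.Agent.RaynaudGruson.ImpurityEtale
import Groth.Agent.RaynaudGruson.UnivPure
import Mathlib

set_option autoImplicit false
universe u
open FlatMor

namespace Groth.Agent.S8999

open Groth.RaynaudGruson TensorProduct

theorem wit_iff {A B C : Type u} [CommRing A] [CommRing B] [CommRing C] [Algebra A B] [Algebra B C] [Algebra A C]
    [IsScalarTower A B C] (hBC : Function.Surjective (algebraMap B C)) {N : Type u} [AddCommGroup N] [Module C N]
    [Module B N] [IsScalarTower B C N] [Module A N] [IsScalarTower A B N] [IsScalarTower A C N]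
    {A' : Type u} [CommRing A'] [Algebra A A'] (t' t : Ideal A') [t'.IsPrime] [t.IsPrime] :
    Wit (A := A) (B := B) N t' t ↔ Wit (A := A) (B := C) N t' t := by
  constructor
  · exact fun h => Wit.map_module (C := C) (M := N) (LinearMap.id : N →ₗ[B] N) (by
      rw [show (LinearMap.id : N →ₗ[B] N).restrictScalars A = LinearMap.id from rfl, LinearMap.lTensor_id]
      exact Function.injective_id) h
  · rintro ⟨htt, a, π, ⟨hat, hcong⟩, z, hz, hπz⟩
    let G : A' ⊗[A] B →ₐ[A] A' ⊗[A] C := Algebra.TensorProduct.map (AlgHom.id A A') (IsScalarTower.toAlgHom A B C)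
    have hG : Function.Surjective G := fun w => by
      induction w with
      | zero => exact ⟨0, map_zero _⟩
      | tmul a' c => obtain ⟨b, rfl⟩ := hBC c; exact ⟨a' ⊗ₜ b, by simp [G]⟩
      | add x y hx hy => obtain ⟨x, rfl⟩ := hx; obtain ⟨y, rfl⟩ := hy; exact ⟨x + y, map_add _ _ _⟩
    have hmap : t.map (algebraMap A' (A' ⊗[A] C)) = (t.map (algebraMap A' (A' ⊗[A] B))).map G.toRingHom := by
      rw [Ideal.map_map]
      congr 1
      ext r; simp [G, Algebra.TensorProduct.algebraMap_apply]
    rw [hmap] at hcong
    obtain ⟨τ, hτ, hτeq⟩ := (Ideal.mem_map_iff_of_surjective G.toRingHom hG).mp hcong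
    refine ⟨htt, a, a ⊗ₜ (1 : B) - τ, ⟨hat, by rw [sub_sub_cancel]; exact hτ⟩, z, hz, ?_⟩
    have h := act_linearMap (C := C) (M := N) (LinearMap.id : N →ₗ[B] N) (resMap A t') (a ⊗ₜ (1 : B) - τ) z
    rw [show (LinearMap.id : N →ₗ[B] N).restrictScalars A = LinearMap.id from rfl, LinearMap.lTensor_id,
      LinearMap.id_apply, LinearMap.id_apply] at h
    rw [h]
    have hG' : G (a ⊗ₜ (1 : B) - τ) = π := by
      rw [map_sub, show G (a ⊗ₜ (1 : B)) = a ⊗ₜ (1 : C) by simp [G]]
      rw [show G τ = a ⊗ₜ (1 : C) - π from hτeq, sub_sub_cancel]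
    rw [show Algebra.TensorProduct.map (AlgHom.id A A') (IsScalarTower.toAlgHom A B C) (a ⊗ₜ (1 : B) - τ) = π from hG']
    exact hπz

/-- Existence of a witness at a point subject to `Q`. -/
def HasWit (A B N : Type u) [CommRing A] [CommRing B] [Algebra A B] [AddCommGroup N] [Module B N] [Module A N]
    [IsScalarTower A B N] (p : Ideal A) (Q : ∀ (A' : Type u) [CommRing A'] [Algebra A A'], Ideal A' → Prop) : Prop :=
  ∃ (A' : Type u) (_ : CommRing A') (_ : Algebra A A') (t' t : Ideal A') (_ : t'.IsPrime) (_ : t.IsPrime),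
    t.LiesOver p ∧ Q A' t ∧ Wit (A := A) (B := B) N t' t

theorem hasImpurity_iff (A B N : Type u) [CommRing A] [CommRing B] [Algebra A B] [Algebra.FiniteType A B]
    [AddCommGroup N] [Module B N] [Module A N] [IsScalarTower A B N] (p : Ideal A) [p.IsPrime]
    (Q : ∀ (A' : Type u) [CommRing A'] [Algebra A A'], Ideal A' → Prop) :
    FlatCA.HasImpurity A B N p Q ↔ HasWit A B N p Q :=
  ⟨fun h => exists_wit_of_hasImpurity p h, fun ⟨_, _, _, t', t, _, _, ht, hQ, hw⟩ =>
    hasImpurity_of_wit p t' t ht hw hQ⟩

theorem isPureAlong_iff (A B N : Type u) [CommRing A] [CommRing B] [Algebra A B] [AddCommGroup N] [Module B N]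
    (p : Ideal A) [p.IsPrime] :
    FlatCA.IsPureAlong A B N p ↔
      ¬ FlatCA.HasImpurity A B N p (fun A' _ _ t => ∃ _ : t.IsPrime, FlatCA.IsEtaleNhd A A' p t) := by
  constructor
  · rintro h ⟨A', B', N', _, _, _, _, _, _, _, _, _, _, _, _, _, _, f, t', t, _, _, P, _, himp, ⟨_, hQ⟩⟩
    exact h A' B' N' f t' t P hQ himp
  · intro h A' B' N' _ _ _ _ _ _ _ _ _ _ _ _ _ _ f t' t _ _ P _ hQ himp
    exact h ⟨A', B', N', inferInstance, inferInstance, inferInstance, inferInstance, inferInstance, inferInstance,
      inferInstance, inferInstance, inferInstance, inferInstance, inferInstance, inferInstance, inferInstance,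
      inferInstance, f, t', t, inferInstance, inferInstance, P, inferInstance, himp, inferInstance, hQ⟩

theorem isUnivPureAlong_iff (A B N : Type u) [CommRing A] [CommRing B] [Algebra A B] [AddCommGroup N] [Module B N]
    (p : Ideal A) [p.IsPrime] :
    FlatCA.IsUnivPureAlong A B N p ↔ ¬ FlatCA.HasImpurity A B N p (fun _ _ _ _ => True) := by
  constructor
  · rintro h ⟨A', B', N', _, _, _, _, _, _, _, _, _, _, _, _, _, _, f, t', t, _, _, P, _, himp, -⟩
    exact h A' B' N' f t' t P himp
  · intro h A' B' N' _ _ _ _ _ _ _ _ _ _ _ _ _ _ f t' t _ _ P _ himp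
    exact h ⟨A', B', N', inferInstance, inferInstance, inferInstance, inferInstance, inferInstance, inferInstance,
      inferInstance, inferInstance, inferInstance, inferInstance, inferInstance, inferInstance, inferInstance,
      inferInstance, f, t', t, inferInstance, inferInstance, P, inferInstance, himp, trivial⟩

/-- For affine finite type schemes over Spec A: purity and universal purity along a fibre of a finite
module are unchanged when the module is pushed forward along a closed immersion Spec C → Spec B (a
surjective algebra map B → C). -/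
theorem result {A B C : Type u} [CommRing A] [CommRing B] [CommRing C] [Algebra A B] [Algebra B C] [Algebra A C] [IsScalarTower A B C] [Algebra.FiniteType A B] (hBC : Function.Surjective (algebraMap B C)) (N : Type u) [AddCommGroup N] [Module C N] [Module B N] [IsScalarTower B C N] [Module.Finite C N] (p : Ideal A) [p.IsPrime] : (FlatCA.IsPureAlong A C N p ↔ FlatCA.IsPureAlong A B N p) ∧ (FlatCA.IsUnivPureAlong A C N p ↔ FlatCA.IsUnivPureAlong A B N p) := by
  letI : Module A N := Module.compHom N (algebraMap A B)
  haveI : IsScalarTower A B N := IsScalarTower.of_algebraMap_smul fun _ _ => rfl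
  haveI : IsScalarTower A C N := IsScalarTower.of_algebraMap_smul fun a x => by
    rw [IsScalarTower.algebraMap_apply A B C, algebraMap_smul, algebraMap_smul]
  haveI : Algebra.FiniteType A C :=
    Algebra.FiniteType.of_surjective (IsScalarTower.toAlgHom A B C) hBC
  have key : ∀ Q : ∀ (A' : Type u) [CommRing A'] [Algebra A A'], Ideal A' → Prop,
      FlatCA.HasImpurity A C N p Q ↔ FlatCA.HasImpurity A B N p Q := fun Q => by
    rw [hasImpurity_iff, hasImpurity_iff]
    exact exists_congr fun A' => exists_congr fun _ => exists_congr fun _ => exists_congr fun t' =>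
      exists_congr fun t => exists_congr fun _ => exists_congr fun _ =>
        and_congr_right fun _ => and_congr_right fun _ => (wit_iff hBC t' t).symm
  rw [isPureAlong_iff, isPureAlong_iff, isUnivPureAlong_iff, isUnivPureAlong_iff, key, key]
  exact ⟨Iff.rfl, Iff.rfl⟩

end Groth.Agent.S8999
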