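import Groth.Statements.S9000
import Groth.Agent.RaynaudGruson.ImpurityEtale
import Groth.Agent.Hensel1.Std
import Groth.Agent.Hensel1.Noetherian
import Mathlib
-- import your own Groth.Agent.* helpers here

set_option autoImplicit false
universe u
open FlatMor

namespace Groth.Agent.S9000

open IsLocalRing in
/-- For Spec B → Spec A of finite type, a finite B-module N and a prime p of A, an impurity of N above p
over an elementary etale neighbourhood of (A, p) yields an impurity of N above p over the
henselization of the local ring of A at p, based at its closed point. (The other implications of the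
published equivalence are separate results: from the henselization to an elementary etale
neighbourhood, and between elementary etale neighbourhoods and base rings quasi-finite at the
point.) -/
theorem result {A B : Type u} [CommRing A] [CommRing B] [Algebra A B] [Algebra.FiniteType A B] (N : Type u) [AddCommGroup N] [Module B N] [Module.Finite B N] (p : Ideal A) [p.IsPrime] (h : FlatCA.HasImpurity A B N p (fun A' _ _ t => ∃ _ : t.IsPrime, FlatCA.IsEtaleNhd A A' p t)) : FlatCA.HasImpurity A B N p (fun A' _ _ t => ∃ (_ : IsLocalRing A') (_ : Algebra (Localization.AtPrime p) A') (_ : IsScalarTower A (Localization.AtPrime p) A') (_ : IsLocalHom (algebraMap (Localization.AtPrime p) A')), Hensel.IsHenselization (Localization.AtPrime p) A' ∧ t = maximalIdeal A') := by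
  classical
  letI : Module A N := Module.compHom N (algebraMap A B)
  haveI : IsScalarTower A B N := IsScalarTower.of_algebraMap_smul fun _ _ => rfl
  obtain ⟨D, _, _, s', s, _, _, _, hQ, hw⟩ := Groth.RaynaudGruson.exists_wit_of_hasImpurity p h
  obtain ⟨_, hD, hover, hbij⟩ := hQ
  let ι := Ideal.ResidueField.mapₐ p s (Algebra.ofId A D) hover.over
  let e : p.ResidueField ≃ₐ[A] s.ResidueField := AlgEquiv.ofBijective ι hbij
  let φD : D →ₐ[A] p.ResidueField := e.symm.toAlgHom.comp (IsScalarTower.toAlgHom A D s.ResidueField)
  have hkD : ∀ d, φD d = 0 ↔ d ∈ s := fun d => by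
    show e.symm (algebraMap D s.ResidueField d) = 0 ↔ d ∈ s
    rw [map_eq_zero_iff _ e.symm.injective, Ideal.algebraMap_residueField_eq_zero]
  let R := Localization.AtPrime p
  let C := TensorProduct A R D
  let φC : C →ₐ[R] ResidueField R :=
    Algebra.TensorProduct.lift (Algebra.ofId R (ResidueField R)) φD fun _ _ => .all _ _
  obtain ⟨j, ψ, hψ, hflat⟩ := Groth.Hensel1.HensIdx.exists_dominating C φC
  let H := Groth.Hensel1.Hens R (ResidueField R)
  let δ : C →ₐ[R] H :=
    (Groth.Hensel1.Hens.of j).comp ((IsScalarTower.toAlgHom R j.P.Ring j.Obj).comp ψ)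
  letI : Algebra A H := Algebra.compHom H (algebraMap A R)
  haveI : IsScalarTower A R H := IsScalarTower.of_algebraMap_eq fun _ => rfl
  let γ : D →ₐ[A] H := (δ.restrictScalars A).comp Algebra.TensorProduct.includeRight
  have hpt : ∀ d, Groth.Hensel1.Hens.pt (γ d) = φD d := fun d => by
    show Groth.Hensel1.Hens.pt (Groth.Hensel1.Hens.of j (algebraMap _ _ (ψ ((1 : R) ⊗ₜ[A] d)))) = _
    rw [Groth.Hensel1.Hens.pt_of, Groth.Hensel1.HensIdx.ptL_algebraMap, ← AlgHom.comp_apply, hψ]
    refine (Algebra.TensorProduct.lift_tmul _ _ _ _ _).trans ?_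
    rw [map_one]
    exact one_mul _
  have hmax : (maximalIdeal H).comap γ = s := Ideal.ext fun d => by
    rw [Ideal.mem_comap, Groth.Hensel1.Hens.mem_maximalIdeal_iff, hpt, hkD]
  have hγflat : γ.toRingHom.Flat := by
    have h1 : (Algebra.TensorProduct.includeRight : D →ₐ[A] C).toRingHom.Flat := by
      have h0 : (algebraMap D (TensorProduct A D R)).Flat :=
        RingHom.flat_algebraMap_iff.mpr inferInstance
      have hc := h0.comp (RingHom.Flat.of_bijective
        (f := (Algebra.TensorProduct.comm A D R).toAlgHom.toRingHom)
        (Algebra.TensorProduct.comm A D R).bijective)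
      convert hc using 1
      refine RingHom.ext fun d => ?_
      exact (Algebra.TensorProduct.comm_tmul A d 1).symm
    have h2 : (algebraMap j.P.Ring j.Obj).Flat :=
      RingHom.flat_algebraMap_iff.mpr (IsLocalization.flat _ j.q.primeCompl)
    exact ((h1.comp hflat).comp h2).comp (Groth.Hensel1.Hens.flat_of j)
  letI : Algebra D H := γ.toRingHom.toAlgebra
  haveI : Module.Flat D H := hγflat
  haveI : (maximalIdeal H).LiesOver s := ⟨hmax.symm⟩
  obtain ⟨t', ht'le, _, ht'⟩ := Ideal.exists_ideal_le_liesOver_of_le (maximalIdeal H) hw.1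
  have hw' : Groth.RaynaudGruson.Wit (A := A) (B := B) N t' (maximalIdeal H) := by
    refine Groth.RaynaudGruson.Wit.map γ ht'le ?_
    have e1 : t'.comap γ = s' := ht'.over.symm
    simpa only [e1, hmax] using hw
  refine Groth.RaynaudGruson.hasImpurity_of_wit p t' (maximalIdeal H) ?_ hw'
    ⟨inferInstance, inferInstance, inferInstance, inferInstance,
      Groth.Hensel1.isHenselization_hens R, rfl⟩
  haveI : s.LiesOver p := hover
  haveI : IsScalarTower A D H := IsScalarTower.of_algebraMap_eq fun a => (γ.commutes a).symm
  exact Ideal.LiesOver.trans (maximalIdeal H) s p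

end Groth.Agent.S9000
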