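import Groth.Statements.S9001
import Groth.Agent.Calg1.HenselMLSplit
import Mathlib

set_option autoImplicit false
universe u
open FlatMor

namespace Groth.Agent.S9001

open IsLocalRing TensorProduct

theorem exists_kill {R N : Type u} [CommRing R] [HenselianLocalRing R] [AddCommGroup N] [Module R N]
    (hcg : CAlg.IsCountablyGenerated R N) (hML : CAlg.IsMittagLeffler R N) (s : Finset N) :
    ∃ π : Module.End R N, IsIdempotentElem π ∧ (∀ x ∈ s, π x = 0) ∧ (LinearMap.range (1 - π)).FG := by
  classical
  induction s using Finset.induction_on with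
  | empty => exact ⟨1, IsIdempotentElem.one, by simp, by rw [sub_self]; simp [Submodule.fg_bot]⟩
  | insert m s _ ih =>
    obtain ⟨π, hπ, h0, hfg⟩ := ih
    obtain ⟨π', hπ', h1, -, h3, h4⟩ := Groth.Calg1.MLSplit.exists_step hcg hML π hπ m
    refine ⟨π', hπ', fun x hx => ?_, ?_⟩
    · rcases Finset.mem_insert.mp hx with rfl | hx
      · exact h3
      · rw [← h1, Module.End.mul_apply, h0 x hx, map_zero]
    · have hle : LinearMap.range (1 - π) ⊔ LinearMap.range (π - π') = LinearMap.range (1 - π') := by
        refine le_antisymm (sup_le ?_ ?_) ?_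
        · rintro _ ⟨y, rfl⟩
          refine ⟨(1 - π) y, ?_⟩
          have e1 : π' ((1 - π) y) = 0 := by
            rw [LinearMap.sub_apply, map_sub, Module.End.one_apply, ← Module.End.mul_apply, h1, sub_self]
          rw [LinearMap.sub_apply _ π', Module.End.one_apply, e1, sub_zero]
        · rintro _ ⟨y, rfl⟩
          refine ⟨(π - π') y, ?_⟩
          have e1 : π' ((π - π') y) = 0 := by
            rw [LinearMap.sub_apply, map_sub, ← Module.End.mul_apply, h1, ← Module.End.mul_apply, hπ'.eq, sub_self]
          rw [LinearMap.sub_apply _ π', Module.End.one_apply, e1, sub_zero]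
        · rintro _ ⟨y, rfl⟩
          rw [show (1 - π') y = (1 - π) y + (π - π') y by simp]
          exact Submodule.add_mem_sup ⟨y, rfl⟩ ⟨y, rfl⟩
      rw [← hle]
      haveI := h4
      exact Submodule.FG.sup hfg (Module.Finite.iff_fg.mp inferInstance)

/-- An endomorphism congruent to the identity modulo the maximal ideal is universally injective. -/
theorem injective_rTensor_of_congr {R N : Type u} [CommRing R] [HenselianLocalRing R] [AddCommGroup N] [Module R N]
    (hcg : CAlg.IsCountablyGenerated R N) (hML : CAlg.IsMittagLeffler R N) (φ : Module.End R N)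
    (hφ : ∀ x, φ x - x ∈ maximalIdeal R • (⊤ : Submodule R N)) (M : Type u) [AddCommGroup M] [Module R M] :
    Function.Injective (φ.rTensor M) := by
  classical
  refine (injective_iff_map_eq_zero _).mpr fun z hz => ?_
  obtain ⟨S, hS⟩ := TensorProduct.exists_finset z
  obtain ⟨π, hπ, h0, hfg⟩ := exists_kill hcg hML (S.image Prod.fst)
  let P := LinearMap.range (1 - π)
  haveI : Module.Finite R P := Module.Finite.iff_fg.mpr hfg
  let p : N →ₗ[R] P := (1 - π).rangeRestrict
  have hfix : ∀ y : P, p y = y := by
    rintro ⟨_, y, rfl⟩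
    exact Subtype.ext (LinearMap.congr_fun hπ.one_sub.eq y)
  let ψ : Module.End R P := p ∘ₗ φ ∘ₗ P.subtype
  have hψ : Function.Surjective ψ := by
    have htop : (⊤ : Submodule R P) ≤ LinearMap.range ψ := by
      refine Submodule.le_of_le_smul_of_le_jacobson_bot Module.Finite.fg_top (maximalIdeal_le_jacobson ⊥) fun y _ => ?_
      have h1 := Submodule.mem_map_of_mem (f := p) (hφ (y : N))
      rw [Submodule.map_smul'', map_sub, hfix] at h1
      refine Submodule.mem_sup.mpr ⟨ψ y, ⟨y, rfl⟩, y - ψ y, ?_, add_sub_cancel _ _⟩
      rw [← neg_sub]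
      exact neg_mem (Submodule.smul_mono le_rfl le_top h1)
    exact fun y => htop trivial
  let e : P ≃ₗ[R] P := LinearEquiv.ofBijective ψ ⟨OrzechProperty.injective_of_surjective_endomorphism ψ hψ, hψ⟩
  obtain ⟨w, hw⟩ : ∃ w : P ⊗[R] M, P.subtype.rTensor M w = z := by
    refine ⟨∑ x ∈ S, p x.1 ⊗ₜ[R] x.2, ?_⟩
    rw [map_sum, hS]
    refine Finset.sum_congr rfl fun x hx => ?_
    rw [LinearMap.rTensor_tmul]
    congr 1
    show (1 - π) x.1 = x.1
    rw [LinearMap.sub_apply, h0 _ (Finset.mem_image_of_mem _ hx), sub_zero]
    rfl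
  have hψ0 : e.toLinearMap.rTensor M w = 0 := by
    show (p ∘ₗ φ ∘ₗ P.subtype).rTensor M w = 0
    rw [LinearMap.rTensor_comp_apply, LinearMap.rTensor_comp_apply, hw, hz, map_zero]
  rw [← hw, (e.rTensor M).injective (hψ0.trans (map_zero _).symm), map_zero]

open IsLocalRing TensorProduct in
/-- Over a henselian local ring R with maximal ideal m, for an R-algebra S and an S-module N which is
countably generated and Mittag-Leffler as an R-module, every associated prime q of the S-module N
⊗_R M (M any R-module) satisfies q + mS ≠ S. (Associated primes are taken here in the sense of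
primes equal to the radical of the annihilator of some element, a larger set than the annihilators
of elements used in the published statement; the published argument goes through once the chosen
element of q is replaced by a suitable power of it, so the row states this slightly stronger form.) -/
theorem result {R S : Type u} [CommRing R] [HenselianLocalRing R] [CommRing S] [Algebra R S] (N : Type u) [AddCommGroup N] [Module S N] [Module R N] [IsScalarTower R S N] (hcg : CAlg.IsCountablyGenerated R N) (hML : CAlg.IsMittagLeffler R N) (M : Type u) [AddCommGroup M] [Module R M] (q : Ideal S) [q.IsPrime] (hq : q ∈ associatedPrimes S (N ⊗[R] M)) : q ⊔ (maximalIdeal R).map (algebraMap R S) ≠ ⊤ := by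
  intro htop
  obtain ⟨g, hg, b, hb, hgb⟩ := Submodule.mem_sup.mp ((Ideal.eq_top_iff_one _).mp htop)
  obtain ⟨z, hz⟩ := hq.2
  have hz0 : z ≠ 0 := by
    rintro rfl
    refine (inferInstance : q.IsPrime).ne_top (hz.trans ?_)
    rw [Submodule.colon_eq_top_iff_subset _ |>.mpr (by simp : ({(0 : N ⊗[R] M)} : Set (N ⊗[R] M)) ⊆ ((⊥ : Submodule S (N ⊗[R] M)) : Set (N ⊗[R] M))), Ideal.radical_top]
  obtain ⟨n, hn⟩ := (hz.le hg : g ∈ _)
  rw [Submodule.mem_colon_singleton, Submodule.mem_bot] at hn
  let φ : Module.End R N := (LinearMap.lsmul S N (g ^ n)).restrictScalars R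
  have hg1 : Ideal.Quotient.mk ((maximalIdeal R).map (algebraMap R S)) g = 1 := by
    rw [← map_one (Ideal.Quotient.mk ((maximalIdeal R).map (algebraMap R S))), Ideal.Quotient.eq,
      show g - 1 = -b by rw [← hgb]; ring]
    exact neg_mem hb
  have hmem : g ^ n - 1 ∈ (maximalIdeal R).map (algebraMap R S) := by
    rw [← Ideal.Quotient.eq, map_pow, hg1, one_pow, map_one]
  have hφ : ∀ x, φ x - x ∈ maximalIdeal R • (⊤ : Submodule R N) := fun x => by
    rw [show φ x - x = (g ^ n - 1) • x by simp [φ, sub_smul], ← Submodule.restrictScalars_top R S N,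
      ← Ideal.smul_restrictScalars, Submodule.restrictScalars_mem]
    exact Submodule.smul_mem_smul hmem trivial
  refine hz0 (injective_rTensor_of_congr hcg hML φ hφ M ?_)
  rw [map_zero, ← hn]
  clear hn hz hz0
  induction z with
  | zero => simp
  | tmul x m => simp [φ, TensorProduct.smul_tmul']
  | add x y hx hy => rw [map_add, hx, hy, smul_add]

end Groth.Agent.S9001
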