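import Groth.Statements.S9004
import Mathlib
import Groth.Agent.CohC3.Thickening.Main

set_option autoImplicit false
universe u
open FlatMor

namespace Groth.Agent.S9004

open CategoryTheory CategoryTheory.Limits AlgebraicGeometry in
/-- For a proper morphism X → Spec R with geometrically connected fibres over a discrete valuation ring
R with uniformizer ϖ, there is an n such that a finite locally free module on X is free as soon as
its restrictions to the generic fibre and to the closed subscheme cut out by ϖ^n are free.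
(Geometrically connected is Mathlib's notion, which asks the geometric fibres to be nonempty and
connected.) -/
theorem result {R : Type u} [CommRing R] [IsDomain R] [IsDiscreteValuationRing R] (ϖ : R) (hϖ : Irreducible ϖ) {X : Scheme.{u}} (f : X ⟶ Spec (CommRingCat.of R)) [IsProper f] [GeometricallyConnected f] : ∃ n : ℕ, ∀ (E : X.Modules), FlatMod.IsFinLocFree E → (∃ r : ℕ, Nonempty ((Scheme.Modules.pullback (pullback.fst f (Spec.map (CommRingCat.ofHom (algebraMap R (FractionRing R)))))).obj E ≅ FlatMod.freeMod _ r)) → (∃ r : ℕ, Nonempty ((Scheme.Modules.pullback (pullback.fst f (Spec.map (CommRingCat.ofHom (Ideal.Quotient.mk (Ideal.span {ϖ ^ n})))))).obj E ≅ FlatMod.freeMod _ r)) → ∃ r : ℕ, Nonempty (E ≅ FlatMod.freeMod X r) := by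
  letI : X.Over (Spec (CommRingCat.of R)) := ⟨f⟩
  have : IsProper (X ↘ Spec (CommRingCat.of R)) := ‹IsProper f›
  have : GeometricallyConnected (X ↘ Spec (CommRingCat.of R)) := ‹GeometricallyConnected f›
  have : X.IsSeparated := ⟨by rw [← terminal.comp_from f]; infer_instance⟩
  have : CompactSpace X := QuasiCompact.compactSpace_of_compactSpace f
  have : PreconnectedSpace X := Groth.CohC3.Thick.preconnectedSpace_of_geometricallyConnected (R := R)
  have hϖm : ϖ ∈ IsLocalRing.maximalIdeal R := by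
    rw [hϖ.maximalIdeal_eq]; exact Ideal.mem_span_singleton_self ϖ
  obtain ⟨S, hS⟩ := isCompact_univ.elim_finite_subcover (fun U : X.affineOpens => (U.1 : Set X))
    (fun U => U.1.2) fun x _ => by
      obtain ⟨W, hW, hxW, -⟩ := exists_isAffineOpen_mem_and_subset (U := ⊤) (x := x) trivial
      exact Set.mem_iUnion.2 ⟨⟨W, hW⟩, hxW⟩
  let U : {U // U ∈ S} → X.Opens := fun i => i.1.1
  have hU : ∀ i, IsAffineOpen (U i) := fun i => i.1.2
  have hU' : ∀ i k, IsAffineOpen (U i ⊓ U k) := fun i k => (hU i).inf (hU k)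
  have hcov : ⨆ i, U i = ⊤ := by
    refine eq_top_iff.2 fun x _ => ?_
    obtain ⟨V, hV⟩ := Set.mem_iUnion.1 (hS (Set.mem_univ x))
    obtain ⟨hVS, hxV⟩ := Set.mem_iUnion.1 hV
    exact TopologicalSpace.Opens.mem_iSup.2 ⟨⟨V, hVS⟩, hxV⟩
  obtain ⟨D, n₀, hlift⟩ := Groth.CohC3.Thick.exists_lift_basis (R := R) U hϖ hU hU' hcov
  let n := n₀ + D + 1
  refine ⟨n, fun E hE ⟨rK, ⟨eK⟩⟩ ⟨rn, ⟨en⟩⟩ => ?_⟩
  have := Groth.KTheory.LocFree.isQCoh hE
  let s₀ : Spec (CommRingCat.of R) := IsLocalRing.closedPoint R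
  obtain ⟨x₀, hx₀⟩ := f.surjective s₀
  obtain ⟨r, hr⟩ := Groth.CohC3.Thick.exists_rank hE x₀
  -- the generic fibre
  obtain ⟨hgo, hgr⟩ := Groth.CohC3.Thick.isOpenImmersion_generic (X := X) hϖ
  have : IsOpenImmersion
      (pullback.fst f (Spec.map (CommRingCat.ofHom (algebraMap R (FractionRing R))))) := hgo
  obtain ⟨σK, hσK⟩ := Groth.LocFree.exists_basis_freeMod
    (X := pullback f (Spec.map (CommRingCat.ofHom (algebraMap R (FractionRing R))))) rK
  obtain ⟨s, hs⟩ := Groth.CohC3.Thick.exists_basis_opensRange _ E (hσK.map eK.inv) hgr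
  obtain ⟨x₁, hx₁⟩ : ∃ x₁, x₁ ∈ X.basicOpen (Groth.CohC3.baseApp X ⊤ ϖ) := by
    let η : PrimeSpectrum R := ⟨⊥, Ideal.isPrime_bot⟩
    obtain ⟨x₁, hx₁⟩ := f.surjective η
    refine ⟨x₁, ?_⟩
    rw [← Groth.CohC3.Thick.preimage_specBasicOpen]
    change f x₁ ∈ PrimeSpectrum.basicOpen ϖ
    rw [hx₁]
    exact fun h => hϖ.ne_zero ((Submodule.mem_bot R).1 h)
  obtain rfl : rK = r := by
    obtain ⟨V, t, hV, ht⟩ := hr x₁
    exact Groth.CohBase.rank_eq_of_basis' (x := x₁)
      (show x₁ ∈ X.basicOpen (Groth.CohC3.baseApp X ⊤ ϖ) ⊓ V from ⟨hx₁, hV⟩)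
      (hs.res' inf_le_left) (ht.res' inf_le_right)
  obtain ⟨u, hu⟩ := Groth.CohC3.Thick.exists_global_generic E hs
  -- the thick special fibre
  let B := R ⧸ Ideal.span {ϖ ^ n}
  let j := pullback.fst f (Spec.map (CommRingCat.ofHom (Ideal.Quotient.mk (Ideal.span {ϖ ^ n}))))
  let Xn := pullback f (Spec.map (CommRingCat.ofHom (Ideal.Quotient.mk (Ideal.span {ϖ ^ n}))))
  letI : Xn.Over (Spec (CommRingCat.of B)) := ⟨pullback.snd _ _⟩
  have hsq : Groth.CohBase.IsBC (A := R) (A' := B) j := IsPullback.of_hasPullback _ _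
  have : IsClosedImmersion (Spec.map (CommRingCat.ofHom (Ideal.Quotient.mk (Ideal.span {ϖ ^ n})))) :=
    IsClosedImmersion.spec_of_surjective _ Ideal.Quotient.mk_surjective
  have : IsClosedImmersion j := inferInstance
  obtain ⟨σn, hσn⟩ := Groth.LocFree.exists_basis_freeMod (X := Xn) rn
  have hσ := hσn.map en.inv
  obtain rfl : rn = rK := by
    obtain ⟨V, t, hV, ht⟩ := hr x₀
    have hne : Nontrivial B := Ideal.Quotient.nontrivial_iff.2 (by
      rw [Ne, Ideal.span_singleton_eq_top, isUnit_pow_iff (by omega)]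
      exact hϖ.not_isUnit)
    obtain ⟨p⟩ : Nonempty (PrimeSpectrum B) := inferInstance
    have hp : (Spec.map (CommRingCat.ofHom (Ideal.Quotient.mk (Ideal.span {ϖ ^ n})))) p = s₀ := by
      refine PrimeSpectrum.ext (((IsLocalRing.maximalIdeal.isMaximal R).eq_of_le ?_ ?_).symm)
      · exact (PrimeSpectrum.isPrime _).ne_top
      · rw [hϖ.maximalIdeal_eq, Ideal.span_le, Set.singleton_subset_iff]
        refine (PrimeSpectrum.isPrime _).mem_of_pow_mem n ?_
        change Ideal.Quotient.mk _ (ϖ ^ n) ∈ p.asIdeal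
        rw [Ideal.Quotient.eq_zero_iff_mem.2 (Ideal.mem_span_singleton_self _)]
        exact zero_mem _
    obtain ⟨z, hz, -⟩ := Scheme.Pullback.exists_preimage_pullback (f := f)
      (g := Spec.map (CommRingCat.ofHom (Ideal.Quotient.mk (Ideal.span {ϖ ^ n})))) x₀ p
      (hx₀.trans hp.symm)
    exact Groth.CohBase.rank_eq_of_basis' (x := z)
      (show z ∈ j ⁻¹ᵁ V from (by show j z ∈ V; rw [hz]; exact hV))
      (hσ.res' (le_top : j ⁻¹ᵁ V ≤ ⊤)) (ht.pull j)
  obtain ⟨e, hec, hspan, hind⟩ := Groth.CohC3.Thick.exists_lift_data hsq (ϖ := ϖ) (n := n)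
    Ideal.Quotient.mk_surjective (Ideal.mk_ker) U hU hU' E hσ
  obtain ⟨t, ht⟩ := hlift E hE rn u hu n (by omega) e hec (fun i z => by
    obtain ⟨cf, hcf⟩ := hspan i (U i) (hU i) le_rfl z
    exact ⟨cf, by simpa only [Groth.QCohMod.res_self] using hcf⟩) hind
  exact ⟨rn, Groth.CohC3.Thick.exists_free_iso_of_congr hϖm hcov hr (n := n) (by omega)
    (m := n - D) (by omega) hspan ht⟩

end Groth.Agent.S9004
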