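import Groth.Statements.S9007
-- import your own Groth.Agent.* helpers here

set_option autoImplicit false
universe u
open FlatMor

namespace Groth.Agent.S9007

open CategoryTheory CategoryTheory.Limits AlgebraicGeometry in
/-- For a morphism f of compactifications of X over a quasi-compact quasi-separated S whose source
contains X as a dense open, the preimage under f of the image of X in the target is the image of X
in the source. -/
theorem result {X S : Scheme.{u}} [CompactSpace S] [QuasiSeparatedSpace S] (p : X ⟶ S) [IsSeparated p] [QuasiCompact p] [LocallyOfFiniteType p] {Y Y' : Scheme.{u}} (j : X ⟶ Y) (q : Y ⟶ S) [IsOpenImmersion j] [IsProper q] (h : j ≫ q = p) (j' : X ⟶ Y') (q' : Y' ⟶ S) [IsOpenImmersion j'] [IsProper q'] (h' : j' ≫ q' = p) (f : Y' ⟶ Y) (hf : f ≫ q = q') (hfj : j' ≫ f = j) (hd : Dense (Set.range j'.base)) : f ⁻¹ᵁ j.opensRange = j'.opensRange := by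
  have : IsSeparated q' := inferInstance
  have : IsSeparated f := by
    have : IsSeparated (f ≫ q) := hf ▸ inferInstance
    exact IsSeparated.of_comp f q
  subst hfj
  let W := (j' ≫ f).opensRange
  have hle : j'.opensRange ≤ f ⁻¹ᵁ W := by
    rintro y ⟨x, rfl⟩
    exact ⟨x, rfl⟩
  refine le_antisymm ?_ hle
  let h₀ : X ⟶ (f ⁻¹ᵁ W : Y'.Opens) := IsOpenImmersion.lift (f ⁻¹ᵁ W).ι j' (by
    rw [Scheme.Opens.range_ι]; exact hle)
  have h₀ι : h₀ ≫ (f ⁻¹ᵁ W).ι = j' := IsOpenImmersion.lift_fac _ _ _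
  have hiso : h₀ ≫ (f ∣_ W) = (j' ≫ f).isoOpensRange.hom := by
    rw [← cancel_mono W.ι, Category.assoc, morphismRestrict_ι, ← Category.assoc, h₀ι,
      Scheme.Hom.isoOpensRange_hom_ι]
  have : IsClosedImmersion (h₀ ≫ (f ∣_ W)) := hiso ▸ inferInstance
  have : IsClosedImmersion h₀ := IsClosedImmersion.of_comp h₀ (f ∣_ W)
  intro y hy
  have hr : IsClosed (Set.range h₀) := h₀.isClosedEmbedding.isClosed_range
  have hd' : Dense (Set.range h₀) := by
    have := hd.preimage (f ⁻¹ᵁ W).ι.isOpenEmbedding.isOpenMap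
    convert this using 1
    ext z
    constructor
    · rintro ⟨x, rfl⟩; exact ⟨x, by simp [← h₀ι]⟩
    · rintro ⟨x, hx⟩
      exact ⟨x, (f ⁻¹ᵁ W).ι.isOpenEmbedding.injective (by simpa [← h₀ι] using hx)⟩
  have : (⟨y, hy⟩ : (f ⁻¹ᵁ W : Y'.Opens)) ∈ Set.range h₀ := by
    rw [← hr.closure_eq, hd'.closure_eq]; trivial
  obtain ⟨x, hx⟩ := this
  exact ⟨x, by rw [← h₀ι]; exact congrArg Subtype.val hx⟩

end Groth.Agent.S9007
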