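import Groth.Statements.S9008
-- import your own Groth.Agent.* helpers here

set_option autoImplicit false
universe u
open FlatMor

namespace Groth.Agent.S9008

/-- For Spec B → Spec A affine of finite type: a finite B-module is universally pure along the fibre
over a prime p of A exactly when every base change of it along a ring map A → A' is pure along the
fibre over every prime of A' above p. -/
theorem result {A B : Type u} [CommRing A] [CommRing B] [Algebra A B] [Algebra.FiniteType A B] (N : Type u) [AddCommGroup N] [Module B N] [Module.Finite B N] (p : Ideal A) [p.IsPrime] : FlatCA.IsUnivPureAlong A B N p ↔ ∀ (A' B' N' : Type u) [CommRing A'] [CommRing B'] [Algebra A A'] [Algebra B B'] [Algebra A' B'] [Algebra A B'] [IsScalarTower A B B'] [IsScalarTower A A' B'] [Algebra.IsPushout A B A' B'] [AddCommGroup N'] [Module B' N'] [Module B N'] [IsScalarTower B B' N'] (g : N →ₗ[B] N'), IsBaseChange B' g → ∀ (p' : Ideal A') [p'.IsPrime], p'.LiesOver p → FlatCA.IsPureAlong A' B' N' p' := by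
  constructor
  · intro h A' B' N' _ _ _ _ _ _ _ _ _ _ _ _ _ g hg p' _ hp'
    intro A'' B'' N'' _ _ _ _ _ _ _ _ _ _ _ _ _ _ f t' t _ _ P _ _ hi
    obtain ⟨hpush, hbc, htt, ht, hP, hass, hno⟩ := hi
    let _ : Algebra A A'' := ((algebraMap A' A'').comp (algebraMap A A')).toAlgebra
    let _ : Algebra B B'' := ((algebraMap B' B'').comp (algebraMap B B')).toAlgebra
    let _ : Algebra A B'' := ((algebraMap B B'').comp (algebraMap A B)).toAlgebra
    have : IsScalarTower A A' A'' := .of_algebraMap_eq fun _ => rfl
    have : IsScalarTower B B' B'' := .of_algebraMap_eq fun _ => rfl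
    have : IsScalarTower A B B'' := .of_algebraMap_eq fun _ => rfl
    have : IsScalarTower A B' B'' := .of_algebraMap_eq fun r => by
      show algebraMap B B'' (algebraMap A B r) = _
      rw [IsScalarTower.algebraMap_apply B B' B'', ← IsScalarTower.algebraMap_apply A B B']
    have : IsScalarTower A A'' B'' := .of_algebraMap_eq fun r => by
      rw [IsScalarTower.algebraMap_apply A A' A'', ← IsScalarTower.algebraMap_apply A' A'' B'',
        IsScalarTower.algebraMap_apply A' B' B'', ← IsScalarTower.algebraMap_apply A A' B',
        IsScalarTower.algebraMap_apply A B' B'']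
    let _ : Module B N'' := Module.compHom N'' (algebraMap B B')
    have : IsScalarTower B B' N'' := IsScalarTower.of_algebraMap_smul fun r x => rfl
    have : IsScalarTower B B'' N'' := IsScalarTower.of_algebraMap_smul fun r x => by
      rw [IsScalarTower.algebraMap_apply B B' B'', algebraMap_smul]
      rfl
    have hpush' : Algebra.IsPushout A B A'' B'' := by
      have h1 : Algebra.IsPushout A A' B B' := Algebra.IsPushout.symm inferInstance
      exact Algebra.IsPushout.symm
        ((Algebra.IsPushout.comp_iff (R := A) (S := A') (R' := B) (S' := B') (T := A'')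
          (T' := B'')).mpr (Algebra.IsPushout.symm hpush))
    refine h A'' B'' N'' ((f.restrictScalars B).comp g) t' t P
      ⟨hpush', IsBaseChange.comp hg hbc, htt, ?_, hP, hass, hno⟩
    exact Ideal.LiesOver.trans t p' p
  · intro h A' B' N' _ _ _ _ _ _ _ _ _ _ _ _ _ _ f t' t _ _ P _ hi
    obtain ⟨hpush, hbc, htt, ht, hP, hass, hno⟩ := hi
    have := hpush
    refine h A' B' N' f hbc t ht A' B' N' LinearMap.id t' t P ?_
      ⟨inferInstance, IsBaseChange.ofEquiv (LinearEquiv.refl B' N'), htt, ⟨(Ideal.comap_id t).symm⟩, hP, hass, hno⟩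
    refine ⟨inferInstance, ⟨(Ideal.comap_id t).symm⟩, ?_⟩
    have he : Algebra.ofId A' A' = AlgHom.id A' A' := by ext
    simp only [he]
    rw [Ideal.ResidueField.mapₐ_id]
    exact Function.bijective_id

end Groth.Agent.S9008
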