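import Groth.Statements.S9009
import Groth.Agent.RaynaudGruson.FibreAssFinite
import Groth.Agent.Flatmor4.DimLocus
import Groth.Agent.Variety2.DimScheme

set_option autoImplicit false
set_option linter.style.haveILetI false
set_option backward.isDefEq.respectTransparency.types false
universe u
open FlatMor

namespace Groth.Agent.S9009

open CategoryTheory CategoryTheory.Limits AlgebraicGeometry in
/-- For f : X → S locally of finite type and a finite type quasi-coherent O_X-module F, the non-flat
locus of F in every fibre has dimension less than n if and only if every point where F is not flat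
over S has residue field of transcendence degree less than n over the residue field of its image.
(The non-flat locus of the fibre over s is taken with the subspace topology from X, which is that of
the fibre. The published statement adds that when these conditions hold they continue to hold after
any base change S' → S; this row states only the equivalence.) -/
theorem result {X S : Scheme.{u}} (f : X ⟶ S) [LocallyOfFiniteType f] (F : X.Modules) [Coh.IsQCoh F] (hF : CohB1.IsFT F) (n : ℕ) : (∀ s : S, topologicalKrullDim {x : X // f.base x = s ∧ ¬ FlatMod.IsFlatOverAt f F x} < n) ↔ ∀ x : X, ¬ FlatMod.IsFlatOverAt f F x → ∀ [Algebra (S.residueField (f.base x)) (X.residueField x)], algebraMap (S.residueField (f.base x)) (X.residueField x) = (f.residueFieldMap x).hom → Algebra.trdeg (S.residueField (f.base x)) (X.residueField x) < n := by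
  have hdim : ∀ s : S, topologicalKrullDim {x : X // f.base x = s ∧ ¬ FlatMod.IsFlatOverAt f F x} =
      topologicalKrullDim ↥(f.fiberι s ⁻¹' {x : X | ¬ FlatMod.IsFlatOverAt f F x}) := by
    intro s
    let φ : ↥(f.fiberι s ⁻¹' {x : X | ¬ FlatMod.IsFlatOverAt f F x}) →
        {x : X // f.base x = s ∧ ¬ FlatMod.IsFlatOverAt f F x} :=
      fun z => ⟨f.fiberι s z.1, Groth.FibreDim.apply_fiberι f s z.1, z.2⟩
    have hi : Topology.IsEmbedding φ :=
      ((f.fiberι s).isEmbedding.comp Topology.IsEmbedding.subtypeVal).codRestrict {x : X | f.base x = s ∧ ¬ FlatMod.IsFlatOverAt f F x} fun z => (φ z).2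
    have hs : Function.Surjective φ := fun x => by
      obtain ⟨z, hz⟩ : x.1 ∈ Set.range (f.fiberι s) := by
        rw [Scheme.Hom.range_fiberι]; exact x.2.1
      exact ⟨⟨z, show ¬ FlatMod.IsFlatOverAt f F (f.fiberι s z) from hz.symm ▸ x.2.2⟩, Subtype.ext hz⟩
    exact (isHomeomorph_iff_isEmbedding_surjective.2 ⟨hi, hs⟩).topologicalKrullDim_eq.symm
  constructor
  · intro h x hx inst hinst
    obtain rfl : inst = (f.residueFieldMap x).hom.toAlgebra :=
      Algebra.algebra_ext _ _ fun r => congr($hinst r)
    show Dual3.resTrdeg f x < _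
    obtain ⟨t, ht, ht'⟩ := Groth.Flatmor4.exists_height_eq_resTrdeg f (f x) (f.asFiber x)
    rw [f.fiberι_asFiber] at ht
    have h1 := h (f x)
    rw [hdim, Variety2.Dim.dim_closed (Groth.RaynaudGruson.isClosed_preimage_nonflat f F hF (f x))] at h1
    have h2 : ((Order.height (f.asFiber x) : ℕ∞) : WithBot ℕ∞) < (n : WithBot ℕ∞) :=
      lt_of_le_of_lt (le_iSup₂ (f := fun z (_ : z ∈ f.fiberι (f x) ⁻¹' {x : X | ¬ FlatMod.IsFlatOverAt f F x}) =>
        ((Order.height z : ℕ∞) : WithBot ℕ∞)) (f.asFiber x)
        (show ¬ FlatMod.IsFlatOverAt f F _ from (f.fiberι_asFiber x).symm ▸ hx)) h1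
    rw [ht'] at h2
    rw [ht]
    exact_mod_cast h2
  · intro h s
    rw [hdim, Variety2.Dim.dim_closed (Groth.RaynaudGruson.isClosed_preimage_nonflat f F hF s)]
    obtain _ | m := n
    · refine lt_of_le_of_lt (iSup₂_le fun z hz => ?_) (WithBot.bot_lt_coe _)
      letI := (f.residueFieldMap (f.fiberι s z)).hom.toAlgebra
      exact absurd (h _ hz rfl) zero_le.not_gt
    · refine lt_of_le_of_lt (iSup₂_le (a := ((m : ℕ∞) : WithBot ℕ∞)) fun z hz => ?_) ?_
      · obtain ⟨t, ht, ht'⟩ := Groth.Flatmor4.exists_height_eq_resTrdeg f s z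
        letI := (f.residueFieldMap (f.fiberι s z)).hom.toAlgebra
        have h1 : Dual3.resTrdeg f (f.fiberι s z) < _ := h _ hz rfl
        rw [ht] at h1
        rw [ht', WithBot.coe_le_coe]
        exact_mod_cast Nat.lt_succ_iff.1 (by exact_mod_cast h1)
      · exact_mod_cast Nat.lt_succ_self m

end Groth.Agent.S9009
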