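import Groth.Statements.S9011
import Groth.Agent.FlatmorThree.UnivInjLocal
import Mathlib.RingTheory.LocalRing.ResidueField.Ideal
-- import your own Groth.Agent.* helpers here

set_option autoImplicit false
universe u
open FlatMor
open scoped TensorProduct
attribute [local instance] Algebra.TensorProduct.rightAlgebra

namespace Groth.Agent.S9011

open IsLocalRing in
/-- For a local ring R with maximal ideal m, an R-algebra S with S/mS Noetherian and an S-module N with
N/mN finite over S/mS which is projective as an R-module, every element of S that is a
nonzerodivisor on N/mN acts R-universally injectively on N, and the map from N to its localization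
at all such elements is R-universally injective. -/
theorem result {R S : Type u} [CommRing R] [IsLocalRing R] [CommRing S] [Algebra R S] (N : Type u) [AddCommGroup N] [Module S N] [Module R N] [IsScalarTower R S N] [IsNoetherianRing ((maximalIdeal R).Fiber S)] [Module.Finite ((maximalIdeal R).Fiber S) (FlatCA.fiberMod (maximalIdeal R) S N)] [Module.Projective R N] : (∀ s ∈ FlatCA.nzdFiber R S N, FlatCA.UnivInj R ((LinearMap.lsmul S N s).restrictScalars R)) ∧ FlatCA.UnivInj R ((LocalizedModule.mkLinearMap (FlatCA.nzdFiber R S N) N).restrictScalars R) := by
  have h1 : ∀ s ∈ FlatCA.nzdFiber R S N, FlatCA.UnivInj R ((LinearMap.lsmul S N s).restrictScalars R) := by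
    intro s hs
    apply Groth.FlatmorThree.univInj_of_projective
    let m := maximalIdeal R
    let F := m.Fiber S
    let e : (R ⧸ m) ≃ₗ[R] m.ResidueField :=
      LinearEquiv.ofBijective ((IsScalarTower.toAlgHom R (R ⧸ m) m.ResidueField).toLinearMap)
        (Ideal.bijective_algebraMap_quotient_residueField m)
    let ρ : (F ⊗[S] N) ≃ₗ[m.ResidueField] m.ResidueField ⊗[R] N :=
      Algebra.IsPushout.cancelBaseChange R m.ResidueField S F N
    have key : Function.Injective (((LinearMap.lsmul S N s).restrictScalars R).lTensor m.ResidueField) := by
      have hcomm : ∀ x : F ⊗[S] N, ρ (s • x) =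
          ((LinearMap.lsmul S N s).restrictScalars R).lTensor m.ResidueField (ρ x) := by
        intro x
        induction x using TensorProduct.induction_on with
        | zero => simp
        | tmul a n =>
          induction a using TensorProduct.induction_on with
          | zero => simp
          | tmul c b =>
            have hcb : (c ⊗ₜ[R] b : F) = c • (b • (1 : F)) := by
              rw [Algebra.smul_def, Algebra.smul_def, mul_one, Algebra.TensorProduct.algebraMap_apply,
                Algebra.TensorProduct.right_algebraMap_apply, Algebra.TensorProduct.tmul_mul_tmul]
              simp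
            rw [hcb, ← TensorProduct.smul_tmul', TensorProduct.smul_tmul (R := S) b (1 : F) n,
              smul_comm s c, ← TensorProduct.tmul_smul, ρ.map_smul, ρ.map_smul,
              Algebra.IsPushout.cancelBaseChange_tmul, Algebra.IsPushout.cancelBaseChange_tmul]
            rw [TensorProduct.smul_tmul', TensorProduct.smul_tmul', LinearMap.lTensor_tmul]
            rfl
          | add x y hx hy => simp only [TensorProduct.add_tmul, smul_add, map_add, hx, hy]
        | add x y hx hy => simp only [smul_add, map_add, hx, hy]
      rw [← LinearMap.ker_eq_bot, eq_bot_iff]
      intro w hw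
      obtain ⟨x, rfl⟩ := ρ.surjective w
      have : s • x = 0 := ρ.injective ((hcomm x).trans (hw.trans (map_zero ρ).symm))
      rw [Submodule.mem_bot, show x = 0 from hs x this, map_zero]
    have hsq : ∀ y, ((LinearMap.lsmul S N s).restrictScalars R).lTensor m.ResidueField (e.toLinearMap.rTensor N y) =
        e.toLinearMap.rTensor N (((LinearMap.lsmul S N s).restrictScalars R).lTensor (R ⧸ m) y) := by
      intro y
      rw [← LinearMap.comp_apply, ← LinearMap.comp_apply, LinearMap.lTensor_comp_rTensor,
        LinearMap.rTensor_comp_lTensor]
    intro x y hxy
    change (R ⧸ m) ⊗[R] N at x y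
    have hinj : Function.Injective (e.toLinearMap.rTensor N) := (LinearEquiv.rTensor N e).injective
    apply hinj
    apply key
    exact (hsq x).trans ((congrArg _ hxy).trans (hsq y).symm)
  exact ⟨h1, Groth.FlatmorThree.univInj_localization N _ h1⟩

end Groth.Agent.S9011
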