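import Groth.Statements.S9012
import Groth.Agent.Flatmor4.FpqcSubterminal
import Groth.Agent.FlatMorOne.FlatStageGlobal

set_option autoImplicit false
universe u
open FlatMor

namespace Groth.Agent.S9012

open CategoryTheory CategoryTheory.Limits AlgebraicGeometry Opposite in
/-- For f : X → S and a quasi-coherent O_X-module F, the functor F_flat on schemes over S (one point on
T when the base change F_T on X_T = X ×_S T is flat over T, empty otherwise; written as the
subfunctor of the final functor generated by that condition, which agrees with it because flatness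
is preserved by base change) satisfies the sheaf condition for the fpqc topology. -/
theorem result {X S : Scheme.{u}} (f : X ⟶ S) (F : X.Modules) [Coh.IsQCoh F] :
    Presheaf.IsSheaf (QuotSh.J Scheme.fpqcPrecoverage S)
      (FlatFun.genPSp S (fun T => FlatMod.IsFlatOver (PicF.XTproj f T) (FGA.ET f F T))) := by
  haveI : F.IsQuasicoherent := ‹Coh.IsQCoh F›
  apply Groth.Flatmor4.isSheaf_genPSp
  · intro T T₀ g h x
    exact Groth.FlatMorOne.isFlatOverAt_of_square F (Groth.Flatmor4.isPullback_XTmap f g) (FGA.XTmap_fst f g) x (h _)
  · intro T hT x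
    obtain ⟨T', g, t', hg, ht, hP⟩ := hT (PicF.XTproj f T x)
    obtain ⟨x', rfl, -⟩ := Groth.Flatmor4.exists_XT_over f g x t' ht
    haveI := hg
    exact Groth.Flatmor4.isFlatOverAt_of_flat_baseChange (Groth.Flatmor4.isPullback_XTmap f g) _ x'
      ((Groth.Flatmor4.isFlatOverAt_ET f g F x').mpr (hP x'))

end Groth.Agent.S9012
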