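import Groth.Statements.S9013
import Groth.Agent.FlatMorOne.FlatStageGlobal

set_option autoImplicit false
universe u
open FlatMor

namespace Groth.Agent.S9013

open CategoryTheory CategoryTheory.Limits AlgebraicGeometry Opposite in
/-- For f : X → S quasi-compact and locally of finite presentation and F a quasi-coherent O_X-module of
finite presentation, the functor F_flat on schemes over S (one point on T when F_T is flat over T,
empty otherwise; the subfunctor of the final functor generated by that condition) is limit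
preserving: its value on a directed limit of affine schemes over S is the colimit of its values. -/
theorem result {X S : Scheme.{u}} (f : X ⟶ S) [QuasiCompact f] [LocallyOfFinitePresentation f]
    (F : X.Modules) [Coh.IsQCoh F] (hF : CohB1.IsFP F) :
    AlgSp.IsLimitPreserving
      (FlatFun.genPSp S (fun T => FlatMod.IsFlatOver (PicF.XTproj f T) (FGA.ET f F T))) := by
  classical
  haveI : F.IsQuasicoherent := ‹Coh.IsQCoh F›
  intro I _ _ D c hc hD hT
  have mfst : ∀ {T T' : Over S} (g : T' ⟶ T), PicF.XTmap f g ≫ pullback.fst f T.hom = pullback.fst f T'.hom :=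
    fun g => FGA.XTmap_fst f g
  have msnd : ∀ {T T' : Over S} (g : T' ⟶ T), PicF.XTmap f g ≫ pullback.snd f T.hom = pullback.snd f T'.hom ≫ g.left :=
    fun g => pullback.lift_snd _ _ _
  have hflat : ∀ {T T₀ : Over S} (g : T ⟶ T₀), FlatMod.IsFlatOver (PicF.XTproj f T₀) (FGA.ET f F T₀) →
      FlatMod.IsFlatOver (PicF.XTproj f T) (FGA.ET f F T) := fun {T T₀} g h x => by
    refine Groth.FlatMorOne.isFlatOverAt_of_square F (vX := PicF.XTmap f g) (vY := g.left)
      (IsPullback.of_right ?_ (msnd g) (IsPullback.of_hasPullback f T₀.hom))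
      (mfst g) x (h _)
    rw [mfst g, Over.w g]
    exact IsPullback.of_hasPullback f T.hom
  refine ⟨Types.FilteredColimit.isColimitOf _ _ (fun x => ?_) (fun i j a b _ => ?_)⟩
  · obtain ⟨T₀, g, hT₀⟩ := x.down.down
    have hpt : FlatMod.IsFlatOver (PicF.XTproj f c.pt) (FGA.ET f F c.pt) := hflat g hT₀
    let i₀ : I := IsCofiltered.nonempty.some
    have : ∀ (i j : I) (φ : i ⟶ j), IsAffineHom ((D ⋙ Over.forget S).map φ) := fun i j φ => by
      haveI : IsAffine ((D ⋙ Over.forget S).obj i) := hD i
      haveI : IsAffine ((D ⋙ Over.forget S).obj j) := hD j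
      infer_instance
    let D' := D ⋙ Over.forget S
    haveI : CompactSpace (D'.obj i₀) := by
      haveI : IsAffine (D'.obj i₀) := hD i₀
      infer_instance
    let c' := (Over.forget S).mapCone c
    let X₀ := pullback f (D.obj i₀).hom
    let f₀ : X₀ ⟶ D'.obj i₀ := pullback.snd f (D.obj i₀).hom
    let q₀ : X₀ ⟶ X := pullback.fst f (D.obj i₀).hom
    haveI : LocallyOfFinitePresentation f₀ := MorphismProperty.pullback_snd _ _ inferInstance
    haveI : QuasiCompact f₀ := MorphismProperty.pullback_snd _ _ inferInstance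
    have : LocallyOfFinitePresentation (f₀ ≫ 𝟙 (D'.obj i₀)) := by rw [Category.comp_id]; infer_instance
    have : QuasiCompact (f₀ ≫ 𝟙 (D'.obj i₀)) := by rw [Category.comp_id]; infer_instance
    have hY : IsPullback (c'.π.app i₀) (𝟙 c'.pt) (𝟙 (D'.obj i₀)) (c'.π.app i₀) := IsPullback.of_id_snd
    have hX : IsPullback (PicF.XTmap f (c.π.app i₀)) (PicF.XTproj f c.pt) f₀ (c'.π.app i₀) := by
      refine IsPullback.of_right ?_ (msnd (c.π.app i₀)) (IsPullback.of_hasPullback f (D.obj i₀).hom)
      rw [mfst (c.π.app i₀)]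
      have e : (c.π.app i₀).left ≫ (D.obj i₀).hom = c.pt.hom := Over.w (c.π.app i₀)
      exact e.symm ▸ IsPullback.of_hasPullback f c.pt.hom
    have hlim : FlatMod.IsFlatOver (PicF.XTproj f c.pt)
        ((Scheme.Modules.pullback (PicF.XTmap f (c.π.app i₀))).obj ((Scheme.Modules.pullback q₀).obj F)) := fun x =>
      (Groth.FlatMorOne.isFlatOverAt_congr _
        ((Scheme.Modules.pullbackComp (PicF.XTmap f (c.π.app i₀)) q₀).app F) x).mpr (by
          rw [show PicF.XTmap f (c.π.app i₀) ≫ q₀ = pullback.fst f c.pt.hom from mfst _]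
          exact hpt x)
    obtain ⟨i, φ, hi⟩ := Groth.FlatMorOne.exists_stage_isFlatOver (D := D') (c := c') f₀ (𝟙 (D'.obj i₀)) hc
      ((Scheme.Modules.pullback q₀).obj F) (Groth.QCohMod.isFP_pullback q₀ F hF) hY hX hlim
    refine ⟨op i, ⟨⟨D.obj i, 𝟙 _, fun x => ?_⟩⟩, @Subsingleton.elim _ (FlatFun.genPSp_subsingleton _ _ _) _ _⟩
    let vY : D'.obj i ⟶ pullback (𝟙 (D'.obj i₀)) (D'.map φ) := pullback.lift (D'.map φ) (𝟙 _) (by simp)
    let vX : PicF.XT f (D.obj i) ⟶ pullback (f₀ ≫ 𝟙 (D'.obj i₀)) (D'.map φ) :=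
      pullback.lift (PicF.XTmap f (D.map φ)) (PicF.XTproj f (D.obj i)) ((Category.comp_id f₀).symm ▸ msnd (D.map φ))
    have hvX : vX ≫ pullback.fst (f₀ ≫ 𝟙 (D'.obj i₀)) (D'.map φ) = PicF.XTmap f (D.map φ) := pullback.lift_fst _ _ _
    have hbig : IsPullback (PicF.XTmap f (D.map φ)) (PicF.XTproj f (D.obj i)) f₀ (D'.map φ) := by
      refine IsPullback.of_right ?_ (msnd (D.map φ)) (IsPullback.of_hasPullback f (D.obj i₀).hom)
      rw [mfst (D.map φ)]
      have e : (D.map φ).left ≫ (D.obj i₀).hom = (D.obj i).hom := Over.w (D.map φ)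
      exact e.symm ▸ IsPullback.of_hasPullback f (D.obj i).hom
    refine (Groth.FlatMorOne.isFlatOverAt_congr _ (eqToIso (by
        rw [show PicF.XTmap f (D.map φ) ≫ q₀ = pullback.fst f (D.obj i).hom from mfst _] :
        (Scheme.Modules.pullback (PicF.XTmap f (D.map φ) ≫ q₀)).obj F = FGA.ET f F (D.obj i))) x).mp ?_
    refine (Groth.FlatMorOne.isFlatOverAt_congr _
      ((Scheme.Modules.pullbackComp (PicF.XTmap f (D.map φ)) q₀).app F) x).mp ?_
    refine Groth.FlatMorOne.isFlatOverAt_of_square _ (vX := vX) (vY := vY) ?_ hvX x (hi _)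
    refine IsPullback.of_right ?_ ?_ (Groth.FlatMorOne.isPullback_stageHom f₀ (𝟙 (D'.obj i₀)) φ)
    · rw [hvX, pullback.lift_fst]
      exact hbig
    · apply pullback.hom_ext
      · simp only [Category.assoc, pullback.lift_fst, vY]
        rw [reassoc_of% hvX]
        exact hbig.w
      · simp only [Category.assoc, pullback.lift_snd, vY, Category.comp_id]
        exact pullback.lift_snd _ _ _
  · exact ⟨op (IsCofiltered.min i.unop j.unop), (IsCofiltered.minToLeft _ _).op,
      (IsCofiltered.minToRight _ _).op, @Subsingleton.elim _ (FlatFun.genPSp_subsingleton _ _ _) _ _⟩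

end Groth.Agent.S9013
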