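import Groth.Statements.S9014
import Groth.Agent.Flatmor4.FpqcSubterminal

set_option autoImplicit false
universe u
open FlatMor

namespace Groth.Agent.S9014

open CategoryTheory CategoryTheory.Limits AlgebraicGeometry Opposite in
/-- For f : X → S and a homomorphism u : F → G of quasi-coherent O_X-modules, the functor on schemes
over S with one point on T when the base change u_T (the pullback of u along X_T = X ×_S T → X) is
an isomorphism and empty otherwise, written as the subfunctor of the final functor generated by that
condition, satisfies the sheaf condition for the fpqc topology. -/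
theorem result {X S : Scheme.{u}} (f : X ⟶ S) {F G : X.Modules} [Coh.IsQCoh F] [Coh.IsQCoh G] (u : F ⟶ G) :
    Presheaf.IsSheaf (QuotSh.J Scheme.fpqcPrecoverage S)
      (FlatFun.genPSp S (fun T => IsIso ((Scheme.Modules.pullback (pullback.fst f T.hom)).map u))) := by
  apply Groth.Flatmor4.isSheaf_genPSp
  · intro T T₀ g h
    haveI := h
    have h2 : IsIso ((FGA.ETiso f F g).hom ≫ (Scheme.Modules.pullback (pullback.fst f T.hom)).map u) := by
      rw [← Groth.Flatmor4.map_pullback_XTmap f u g]; infer_instance
    exact IsIso.of_isIso_comp_left (FGA.ETiso f F g).hom _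
  · intro T hT
    refine Groth.QCohMod.isIso_of_stalk _ fun x => ?_
    obtain ⟨T', g, t', hg, ht, hP⟩ := hT (PicF.XTproj f T x)
    obtain ⟨x', rfl, -⟩ := Groth.Flatmor4.exists_XT_over f g x t' ht
    haveI := hg
    haveI := Groth.Flatmor4.flat_XTmap f g
    haveI := hP
    haveI : IsIso ((Scheme.Modules.pullback (PicF.XTmap f g)).map
        ((Scheme.Modules.pullback (pullback.fst f T.hom)).map u)) := by
      rw [(Iso.eq_comp_inv _).mpr (Groth.Flatmor4.map_pullback_XTmap f u g)]
      infer_instance
    rw [ConcreteCategory.isIso_iff_bijective]
    refine Groth.Flatmor4.stalk_bijective_of_pullback (PicF.XTmap f g) _ x' ?_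
    exact ConcreteCategory.bijective_of_isIso _

end Groth.Agent.S9014
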