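import Groth.Statements.S9017
import Groth.Agent.Flatmor4.FpqcSubterminal

set_option autoImplicit false
universe u
open FlatMor

namespace Groth.Agent.S9017

open CategoryTheory CategoryTheory.Limits AlgebraicGeometry Opposite in
/-- For f : X → S, a homomorphism u : F → G of quasi-coherent O_X-modules, a scheme T over S and an fpqc
covering family of S-morphisms T_i → T, the base change u_T on X_T = X ×_S T is injective (a
monomorphism in the abelian category of O-modules) if and only if u_{T_i} is injective for every i.
(Injectivity of u_T is not preserved by arbitrary base change, so this variant is a sheaf condition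
on coverings rather than a subfunctor of the final functor.) -/
theorem result {X S : Scheme.{u}} (f : X ⟶ S) {F G : X.Modules} [Coh.IsQCoh F] [Coh.IsQCoh G] (u : F ⟶ G)
    (T : Over S) {ι : Type u} (Ti : ι → Over S) (g : ∀ i, Ti i ⟶ T)
    (hcov : Presieve.ofArrows (fun i => (Ti i).left) (fun i => (g i).left) ∈ Scheme.fpqcPrecoverage T.left) :
    Mono ((Scheme.Modules.pullback (pullback.fst f T.hom)).map u) ↔
      ∀ i, Mono ((Scheme.Modules.pullback (pullback.fst f (Ti i).hom)).map u) := by
  classical
  haveI : F.IsQuasicoherent := ‹Coh.IsQCoh F›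
  have hcov' : Presieve.ofArrows (fun i => (Ti i).left) (fun i => (g i).left) ∈
      Scheme.precoverage @Flat T.left := hcov.2
  rw [Scheme.ofArrows_mem_precoverage_iff] at hcov'
  obtain ⟨hs, hfl⟩ := hcov'
  constructor
  · intro h i
    haveI := hfl i
    haveI := Groth.Flatmor4.flat_XTmap f (g i)
    have h2 : Mono ((Scheme.Modules.pullback (PicF.XTmap f (g i))).map
        ((Scheme.Modules.pullback (pullback.fst f T.hom)).map u)) := by
      refine (Groth.QCohMod.mono_iff_stalk _).mpr fun y => ?_
      exact Groth.Flatmor4.stalk_injective_pullback (PicF.XTmap f (g i)) _ y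
        ((Groth.QCohMod.mono_iff_stalk _).mp h _)
    rw [(Iso.inv_comp_eq _).mpr (Groth.Flatmor4.map_pullback_XTmap f u (g i)) |>.symm]
    infer_instance
  · intro h
    refine (Groth.QCohMod.mono_iff_stalk _).mpr fun x => ?_
    obtain ⟨i, t', ht⟩ := hs (PicF.XTproj f T x)
    obtain ⟨x', rfl, -⟩ := Groth.Flatmor4.exists_XT_over f (g i) x t' ht
    haveI := hfl i
    haveI := Groth.Flatmor4.flat_XTmap f (g i)
    refine Groth.Flatmor4.stalk_injective_of_pullback (PicF.XTmap f (g i)) _ x' ?_
    refine (Groth.QCohMod.mono_iff_stalk _).mp ?_ x'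
    rw [(Iso.eq_comp_inv _).mpr (Groth.Flatmor4.map_pullback_XTmap f u (g i))]
    haveI := h i
    infer_instance

end Groth.Agent.S9017
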