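import Groth.Statements.S9018
import Groth.Agent.FlatMorOne.FlatStageGlobal
import Groth.Agent.QCohMod.SupportPullback
import Groth.Agent.QCohMod.FTCriterion
import Groth.Agent.Ega43FP2.SuppDim

set_option autoImplicit false
universe u
open FlatMor

namespace Groth.Agent.S9018

open CategoryTheory CategoryTheory.Limits AlgebraicGeometry Opposite in
/-- For f : X → S quasi-compact and a homomorphism u : F → G of quasi-coherent O_X-modules with G of
finite type, the functor F_surj (one point on T when the base change u_T on X ×_S T is an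
epimorphism of O-modules, empty otherwise; the subfunctor of the final functor generated by that
condition) is limit preserving. -/
theorem result {X S : Scheme.{u}} (f : X ⟶ S) [QuasiCompact f] {F G : X.Modules} [Coh.IsQCoh F] [Coh.IsQCoh G]
    (hG : CohB1.IsFT G) (u : F ⟶ G) :
    AlgSp.IsLimitPreserving (FlatFun.genPSp S (fun T => Epi ((Scheme.Modules.pullback (pullback.fst f T.hom)).map u))) := by
  classical
  haveI : F.IsQuasicoherent := ‹Coh.IsQCoh F›
  haveI : G.IsQuasicoherent := ‹Coh.IsQCoh G›
  have hC : CohB1.IsFT (cokernel u) := Groth.QCohMod.isFT_of_epi (cokernel.π u) hG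
  have hkey : ∀ T : Over S, Epi ((Scheme.Modules.pullback (pullback.fst f T.hom)).map u) ↔
      ⇑(pullback.fst f T.hom) ⁻¹' CohB1.support (cokernel u) = ∅ := by
    intro T
    rw [← Groth.QCohMod.support_pullback _ _ hC, ← Groth.QCohMod.isZero_iff_support_eq_empty]
    constructor
    · intro h
      exact (isZero_cokernel_of_epi _).of_iso (PreservesCokernel.iso _ u)
    · intro h
      exact Preadditive.epi_of_cokernel_zero
        ((h.of_iso (PreservesCokernel.iso _ u).symm).eq_of_tgt _ _)
  have hst : ∀ {T T₀ : Over S} (g : T ⟶ T₀), Epi ((Scheme.Modules.pullback (pullback.fst f T₀.hom)).map u) →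
      Epi ((Scheme.Modules.pullback (pullback.fst f T.hom)).map u) := by
    intro T T₀ g h
    rw [hkey] at h ⊢
    refine Set.eq_empty_of_forall_notMem fun z hz => Set.eq_empty_iff_forall_notMem.mp h (PicF.XTmap f g z) ?_
    show pullback.fst f T₀.hom (PicF.XTmap f g z) ∈ CohB1.support (cokernel u)
    rw [← Scheme.Hom.comp_apply, FGA.XTmap_fst f g]
    exact hz
  intro I _ _ D c hc hD hT
  refine ⟨Types.FilteredColimit.isColimitOf _ _ (fun x => ?_) (fun i j a b _ => ?_)⟩
  · obtain ⟨T₀, g, hT₀⟩ := x.down.down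
    have hpt := (hkey c.pt).mp (hst g hT₀)
    let i₀ : I := IsCofiltered.nonempty.some
    have : ∀ (i j : I) (φ : i ⟶ j), IsAffineHom ((D ⋙ Over.forget S).map φ) := fun i j φ => by
      haveI : IsAffine ((D ⋙ Over.forget S).obj i) := hD i
      haveI : IsAffine ((D ⋙ Over.forget S).obj j) := hD j
      infer_instance
    let D' := D ⋙ Over.forget S
    haveI : CompactSpace (D'.obj i₀) := by
      haveI : IsAffine (D'.obj i₀) := hD i₀
      infer_instance
    let c' := (Over.forget S).mapCone c
    let X₀ := pullback f (D.obj i₀).hom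
    let x₀ : X₀ ⟶ D'.obj i₀ := pullback.snd f (D.obj i₀).hom
    let q₀ : X₀ ⟶ X := pullback.fst f (D.obj i₀).hom
    haveI : QuasiCompact x₀ := MorphismProperty.pullback_snd _ _ inferInstance
    haveI : CompactSpace X₀ := QuasiCompact.compactSpace_of_compactSpace x₀
    have (k : Over i₀) : CompactSpace ((Groth.Limits.stages D' x₀).obj k) :=
      Groth.Limits.compactSpace_stage D' x₀ k.hom
    let C := Groth.Limits.stagesCone D' x₀ (c := c')
    have hCl : IsLimit C := Groth.Limits.isLimitStagesCone D' x₀ hc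
    have hsup : IsClosed (CohB1.support (cokernel u)) := Groth.Ega43FP2.isClosed_support (cokernel u) hC
    let k₀ : Over i₀ := Over.mk (𝟙 i₀)
    let r₀ : (Groth.Limits.stages D' x₀).obj k₀ ⟶ X := pullback.fst x₀ (D'.map (𝟙 i₀)) ≫ q₀
    have hE : IsClosed (⇑r₀ ⁻¹' CohB1.support (cokernel u)) := hsup.preimage r₀.continuous
    have hempty : ⇑(C.π.app k₀) ⁻¹' (⇑r₀ ⁻¹' CohB1.support (cokernel u)) = ∅ := by
      refine Set.eq_empty_of_forall_notMem fun z hz => ?_
      let ψ : C.pt ⟶ PicF.XT f c.pt :=
        pullback.lift (pullback.fst x₀ (c'.π.app i₀) ≫ q₀) (pullback.snd x₀ (c'.π.app i₀))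
          (by
            refine (Category.assoc _ _ _).trans ((congrArg _ pullback.condition).trans ?_)
            refine (Category.assoc _ _ _).symm.trans ((congrArg (· ≫ _) pullback.condition).trans ?_)
            exact (Category.assoc _ _ _).trans (congrArg _ (Over.w (c.π.app i₀))))
      have hψ : ψ ≫ pullback.fst f c.pt.hom = C.π.app k₀ ≫ r₀ := by
        have e1 : C.π.app k₀ ≫ pullback.fst x₀ (D'.map (𝟙 i₀)) = pullback.fst x₀ (c'.π.app i₀) :=
          pullback.lift_fst _ _ _
        rw [pullback.lift_fst, reassoc_of% e1]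
      refine Set.eq_empty_iff_forall_notMem.mp hpt (ψ z) ?_
      show pullback.fst f c.pt.hom (ψ z) ∈ CohB1.support (cokernel u)
      rw [← Scheme.Hom.comp_apply, hψ]
      exact hz
    obtain ⟨j, m, hj⟩ := Groth.Limits.exists_preimage_eq_empty (Groth.Limits.stages D' x₀) C hCl
      ((Groth.Limits.pc_of_isClosed hE).qcImage) hempty
    have hji : Epi ((Scheme.Modules.pullback (pullback.fst f (D.obj j.left).hom)).map u) := by
      rw [hkey]
      refine Set.eq_empty_of_forall_notMem fun w hw => ?_
      let v : PicF.XT f (D.obj j.left) ⟶ pullback x₀ (D'.map j.hom) :=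
        pullback.lift (PicF.XTmap f (D.map j.hom)) (PicF.XTproj f (D.obj j.left)) (pullback.lift_snd _ _ _)
      have hv : v ≫ (Groth.Limits.stages D' x₀).map m ≫ r₀ = pullback.fst f (D.obj j.left).hom := by
        have e1 : (Groth.Limits.stages D' x₀).map m ≫ pullback.fst x₀ (D'.map (𝟙 i₀)) =
            pullback.fst x₀ (D'.map j.hom) := pullback.lift_fst _ _ _
        show v ≫ (Groth.Limits.stages D' x₀).map m ≫ pullback.fst x₀ (D'.map (𝟙 i₀)) ≫ q₀ = _
        refine (congrArg (v ≫ ·) ((Category.assoc _ _ _).symm.trans (congrArg (· ≫ q₀) e1))).trans ?_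
        rw [pullback.lift_fst_assoc]
        exact FGA.XTmap_fst f (D.map j.hom)
      refine Set.eq_empty_iff_forall_notMem.mp hj (v w) ?_
      change pullback.fst f (D.obj j.left).hom w ∈ CohB1.support (cokernel u) at hw
      show r₀ ((Groth.Limits.stages D' x₀).map m (v w)) ∈ CohB1.support (cokernel u)
      rw [← hv] at hw
      exact hw
    exact ⟨op j.left, ⟨⟨D.obj j.left, 𝟙 _, hji⟩⟩, @Subsingleton.elim _ (FlatFun.genPSp_subsingleton _ _ _) _ _⟩
  · exact ⟨op (IsCofiltered.min i.unop j.unop), (IsCofiltered.minToLeft _ _).op,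
      (IsCofiltered.minToRight _ _).op, @Subsingleton.elim _ (FlatFun.genPSp_subsingleton _ _ _) _ _⟩

end Groth.Agent.S9018
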