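import Groth.Statements.S9021
import Groth.Agent.Flatmor4.FreeFibreGen

set_option autoImplicit false
universe u
open FlatMor

namespace Groth.Agent.S9021

open CategoryTheory CategoryTheory.Limits AlgebraicGeometry Opposite in
/-- For f : X → S smooth with geometrically irreducible fibres, F a quasi-coherent O_X-module of finite
type and an integer p ≥ 0, the functor H_p on schemes over S (one point on T when, for every point t
of T, the base change F_T is free of rank p on some neighbourhood of the generic point of the fibre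
of X_T = X ×_S T over t; empty otherwise; written as the subfunctor of the final functor generated
by that condition) satisfies the sheaf condition for the fpqc topology. -/
theorem result {X S : Scheme.{u}} (f : X ⟶ S) [Smooth f] [GeometricallyIrreducible f] (F : X.Modules) [Coh.IsQCoh F]
    (hF : CohB1.IsFT F) (p : ℕ) :
    Presheaf.IsSheaf (QuotSh.J Scheme.fpqcPrecoverage S) (FlatFun.genPSp S (fun T => FlatFun.FreeAtGenericPts (PicF.XTproj f T) (FGA.ET f F T) p)) := by
  classical
  haveI : F.IsQuasicoherent := ‹Coh.IsQCoh F›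
  haveI hET : ∀ T : Over S, (FGA.ET f F T).IsQuasicoherent := fun T =>
    inferInstanceAs ((Scheme.Modules.pullback (pullback.fst f T.hom)).obj F).IsQuasicoherent
  have hFT : ∀ T : Over S, CohB1.IsFT (FGA.ET f F T) := fun T =>
    Groth.QCohMod.isFT_pullback (pullback.fst f T.hom) F hF
  haveI hsm : ∀ T : Over S, Smooth (PicF.XTproj f T) := fun T =>
    MorphismProperty.pullback_snd f T.hom inferInstance
  haveI hgi : ∀ T : Over S, GeometricallyIrreducible (PicF.XTproj f T) := fun T =>
    MorphismProperty.pullback_snd f T.hom inferInstance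
  have hbasis : ∀ T : Over S, FlatFun.FreeAtGenericPts (PicF.XTproj f T) (FGA.ET f F T) p →
      ∀ y, FlatFun.IsGenericPtOfFibre (PicF.XTproj f T) y →
        Nonempty (Module.Basis (Fin p) ((PicF.XT f T).presheaf.stalk y) ((FGA.ET f F T).presheaf.stalk y)) := by
    intro T hT y hy
    obtain ⟨x, hx1, hx2, hx3⟩ := hT (PicF.XTproj f T y)
    obtain rfl : x = y := ((hx2 y hx1.symm).antisymm (hy x hx1)).eq
    exact Groth.Flatmor4.nonempty_stalkBasis hx3
  have hmk : ∀ T : Over S, (∀ y, FlatFun.IsGenericPtOfFibre (PicF.XTproj f T) y →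
      Nonempty (Module.Basis (Fin p) ((PicF.XT f T).presheaf.stalk y) ((FGA.ET f F T).presheaf.stalk y))) →
      FlatFun.FreeAtGenericPts (PicF.XTproj f T) (FGA.ET f F T) p := by
    intro T hb t
    obtain ⟨x, hx1, hx2⟩ := Groth.Flatmor4.exists_isGenericPtOfFibre (PicF.XTproj f T) t
    exact ⟨x, hx1, hx2, Groth.Flatmor4.isFreeOfRankNear_generic (PicF.XTproj f T) _ (hFT T) hb x hx2⟩
  apply Groth.Flatmor4.isSheaf_genPSp
  · intro T T₀ g h
    refine hmk T fun y' hy' => ?_
    obtain ⟨y, hy1, hy2⟩ := Groth.Flatmor4.exists_isGenericPtOfFibre (PicF.XTproj f T₀)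
      (g.left (PicF.XTproj f T y'))
    obtain rfl := Groth.Flatmor4.XTmap_generic f g y y' hy2 hy' hy1.symm
    obtain ⟨b⟩ := hbasis T₀ h _ hy2
    letI := Groth.QCohMod.stalkAlg (PicF.XTmap f g) y'
    obtain ⟨e⟩ := Groth.Flatmor4.nonempty_ET_stalkEquiv f F g y'
    exact ⟨(b.baseChange ((PicF.XT f T).presheaf.stalk y')).map e⟩
  · intro T hT
    refine hmk T fun y hy => ?_
    obtain ⟨T', g, t', hg, ht, hP⟩ := hT (PicF.XTproj f T y)
    obtain ⟨y', hy1, hy2⟩ := Groth.Flatmor4.exists_isGenericPtOfFibre (PicF.XTproj f T') t'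
    obtain rfl := Groth.Flatmor4.XTmap_generic f g y y' hy hy2 (by rw [hy1]; exact ht)
    obtain ⟨b'⟩ := hbasis T' hP y' hy2
    haveI := hg
    haveI := Groth.Flatmor4.flat_XTmap f g
    letI := Groth.QCohMod.stalkAlg (PicF.XTmap f g) y'
    haveI := Groth.Flatmor4.faithfullyFlat_stalk (PicF.XTmap f g) y'
    haveI : IsLocalHom (algebraMap ((PicF.XT f T).presheaf.stalk (PicF.XTmap f g y'))
        ((PicF.XT f T').presheaf.stalk y')) :=
      inferInstanceAs (IsLocalHom ((PicF.XTmap f g).stalkMap y').hom)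
    haveI := Groth.Flatmor4.finite_stalk (FGA.ET f F T) (hFT T) (PicF.XTmap f g y')
    obtain ⟨e⟩ := Groth.Flatmor4.nonempty_ET_stalkEquiv f F g y'
    exact Groth.Flatmor4.nonempty_basis_of_faithfullyFlat (b'.map e.symm)

end Groth.Agent.S9021
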