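import Groth.Statements.S9022
import Groth.Agent.Flatmor4.StageBasis

set_option autoImplicit false
universe u
open FlatMor

namespace Groth.Agent.S9022

open CategoryTheory CategoryTheory.Limits AlgebraicGeometry Opposite in
/-- For f : X → S smooth with geometrically irreducible fibres, F a quasi-coherent O_X-module of finite
presentation and p ≥ 0, the functor H_p on schemes over S (one point on T when F_T is free of rank p
near the generic point of every fibre of X ×_S T → T, empty otherwise; the subfunctor of the final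
functor generated by that condition) is limit preserving. -/
theorem result {X S : Scheme.{u}} (f : X ⟶ S) [Smooth f] [GeometricallyIrreducible f] (F : X.Modules) [Coh.IsQCoh F]
    (hF : CohB1.IsFP F) (p : ℕ) :
    AlgSp.IsLimitPreserving (FlatFun.genPSp S (fun T => FlatFun.FreeAtGenericPts (PicF.XTproj f T) (FGA.ET f F T) p)) := by
  classical
  haveI : F.IsQuasicoherent := ‹Coh.IsQCoh F›
  haveI hET : ∀ T : Over S, (FGA.ET f F T).IsQuasicoherent := fun T =>
    inferInstanceAs ((Scheme.Modules.pullback (pullback.fst f T.hom)).obj F).IsQuasicoherent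
  have hFP : ∀ T : Over S, CohB1.IsFP (FGA.ET f F T) := fun T =>
    Groth.QCohMod.isFP_pullback (pullback.fst f T.hom) F hF
  haveI hsm : ∀ T : Over S, Smooth (PicF.XTproj f T) := fun T =>
    MorphismProperty.pullback_snd f T.hom inferInstance
  haveI hgi : ∀ T : Over S, GeometricallyIrreducible (PicF.XTproj f T) := fun T =>
    MorphismProperty.pullback_snd f T.hom inferInstance
  intro I _ _ D c hc hD hT
  refine ⟨Types.FilteredColimit.isColimitOf _ _ (fun x => ?_) (fun i j a b _ => ?_)⟩
  · obtain ⟨T₀, g₀, hT₀⟩ := x.down.down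
    have hpt : ∀ t : c.pt.left, ∃ y : PicF.XT f c.pt, PicF.XTproj f c.pt y = t ∧
        Groth.Flatmor4.HasStalkBasis (FGA.ET f F c.pt) p y := by
      intro t
      let g : c.pt ⟶ T₀ := g₀
      obtain ⟨y₀, hy1, -, hy3⟩ := hT₀ (g.left t)
      obtain ⟨y, rfl, hy⟩ := Groth.Flatmor4.exists_XT_over f g y₀ t hy1.symm
      exact ⟨y, hy, Groth.Flatmor4.hasStalkBasis_pullback_comp _ _ _ (FGA.XTmap_fst f g) F y
        (Groth.Flatmor4.nonempty_stalkBasis hy3)⟩
    let i₀ : I := IsCofiltered.nonempty.some
    have : ∀ (i j : I) (φ : i ⟶ j), IsAffineHom ((D ⋙ Over.forget S).map φ) := fun i j φ => by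
      haveI : IsAffine ((D ⋙ Over.forget S).obj i) := hD i
      haveI : IsAffine ((D ⋙ Over.forget S).obj j) := hD j
      infer_instance
    let D' := D ⋙ Over.forget S
    haveI hcs : ∀ i, CompactSpace (D'.obj i) := fun i => by
      haveI : IsAffine (D'.obj i) := hD i
      infer_instance
    let c' := (Over.forget S).mapCone c
    let X₀ := pullback f (D.obj i₀).hom
    let x₀ : X₀ ⟶ D'.obj i₀ := pullback.snd f (D.obj i₀).hom
    let q₀ : X₀ ⟶ X := pullback.fst f (D.obj i₀).hom
    haveI : Smooth x₀ := MorphismProperty.pullback_snd _ _ inferInstance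
    let E := Groth.Limits.stages D' x₀
    let C := Groth.Limits.stagesCone D' x₀ (c := c')
    let k₀ : Over i₀ := Over.mk (𝟙 i₀)
    let r : ∀ k : Over i₀, E.obj k ⟶ X := fun k => pullback.fst x₀ (D'.map k.hom) ≫ q₀
    let pr : ∀ k : Over i₀, E.obj k ⟶ D'.obj k.left := fun k => pullback.snd x₀ (D'.map k.hom)
    haveI hpr : ∀ k, Smooth (pr k) := fun k => MorphismProperty.pullback_snd _ _ inferInstance
    haveI hFq : ∀ k, ((Scheme.Modules.pullback (r k)).obj F).IsQuasicoherent := fun k => inferInstance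
    let U : ∀ k : Over i₀, (E.obj k).Opens := fun k =>
      ⟨{y | FlatFun.IsFreeOfRankNear ((Scheme.Modules.pullback (r k)).obj F) p y}, by
        refine isOpen_iff_forall_mem_open.mpr fun y hy => ?_
        obtain ⟨W, hyW, hW⟩ := hy
        exact ⟨W, fun w hw => ⟨W, hw, hW⟩, W.isOpen, hyW⟩⟩
    let Gs : ∀ k : Over i₀, (D'.obj k.left).Opens := fun k =>
      ⟨pr k '' U k, (pr k).isOpenMap _ (U k).isOpen⟩
    have hEr : ∀ {k l : Over i₀} (m : l ⟶ k), E.map m ≫ r k = r l := by
      intro k l m
      have e1 : E.map m ≫ pullback.fst x₀ (D'.map k.hom) = pullback.fst x₀ (D'.map l.hom) :=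
        pullback.lift_fst _ _ _
      exact (Category.assoc _ _ _).symm.trans (congrArg (· ≫ q₀) e1)
    have hEp : ∀ {k l : Over i₀} (m : l ⟶ k), IsPullback (E.map m) (pr l) (pr k) (D'.map m.left) := by
      intro k l m
      have e1 : E.map m ≫ pullback.fst x₀ (D'.map k.hom) = pullback.fst x₀ (D'.map l.hom) :=
        pullback.lift_fst _ _ _
      have e2 : E.map m ≫ pr k = pr l ≫ D'.map m.left := pullback.lift_snd _ _ _
      refine IsPullback.of_right ?_ e2 (IsPullback.of_hasPullback x₀ (D'.map k.hom))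
      rw [e1, ← D'.map_comp, Over.w m]
      exact IsPullback.of_hasPullback x₀ (D'.map l.hom)
    have hfree : ∀ k (y : E.obj k), Groth.Flatmor4.HasStalkBasis ((Scheme.Modules.pullback (r k)).obj F) p y →
        y ∈ U k := fun k y h =>
      Groth.Flatmor4.isFreeOfRankNear_of_hasStalkBasis _ (Groth.QCohMod.isFP_pullback (r k) F hF) y h
    have hmono : ∀ {k l : Over i₀} (m : l ⟶ k), D'.map m.left ⁻¹ᵁ Gs k ≤ Gs l := by
      intro k l m y hy
      obtain ⟨u, hu, hu'⟩ := hy
      obtain ⟨w, hw1, hw2⟩ := Scheme.exists_preimage_of_isPullback (hEp m) u y hu'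
      refine ⟨w, hfree l w (Groth.Flatmor4.hasStalkBasis_pullback_comp (E.map m) (r k) (r l) (hEr m) F w ?_), hw2⟩
      rw [hw1]
      exact Groth.Flatmor4.nonempty_stalkBasis hu
    let ψ : C.pt ⟶ PicF.XT f c.pt :=
      pullback.lift (pullback.fst x₀ (c'.π.app i₀) ≫ q₀) (pullback.snd x₀ (c'.π.app i₀))
        (by
          refine (Category.assoc _ _ _).trans ((congrArg _ pullback.condition).trans ?_)
          refine (Category.assoc _ _ _).symm.trans ((congrArg (· ≫ _) pullback.condition).trans ?_)
          exact (Category.assoc _ _ _).trans (congrArg _ (Over.w (c.π.app i₀))))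
    let χ : PicF.XT f c.pt ⟶ C.pt :=
      pullback.lift (PicF.XTmap f (c.π.app i₀)) (PicF.XTproj f c.pt) (pullback.lift_snd _ _ _)
    have hχψ : χ ≫ ψ = 𝟙 _ := by
      refine pullback.hom_ext ?_ ?_
      · refine (Category.assoc _ _ _).trans ((congrArg _ (pullback.lift_fst _ _ _)).trans ?_)
        refine (Category.assoc _ _ _).symm.trans ((congrArg (· ≫ _) (pullback.lift_fst _ _ _)).trans ?_)
        exact (FGA.XTmap_fst f _).trans (Category.id_comp _).symm
      · refine (Category.assoc _ _ _).trans ((congrArg _ (pullback.lift_snd _ _ _)).trans ?_)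
        exact (pullback.lift_snd _ _ _).trans (Category.id_comp _).symm
    have hψ : ψ ≫ pullback.fst f c.pt.hom = C.π.app k₀ ≫ r k₀ := by
      have e1 : C.π.app k₀ ≫ pullback.fst x₀ (D'.map (𝟙 i₀)) = pullback.fst x₀ (c'.π.app i₀) :=
        pullback.lift_fst _ _ _
      rw [pullback.lift_fst]
      exact ((Category.assoc _ _ _).symm.trans (congrArg (· ≫ q₀) e1)).symm
    have hCl : IsLimit C := Groth.Limits.isLimitStagesCone D' x₀ hc
    have hcov : ∀ t : c'.pt, ∃ k : Over i₀, c'.π.app k.left t ∈ Gs k := by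
      intro t
      obtain ⟨y, hy, hb⟩ := hpt t
      let z : C.pt := χ y
      have hz : ψ z = y := congr($hχψ y)
      have hb₀ : Groth.Flatmor4.HasStalkBasis ((Scheme.Modules.pullback (C.π.app k₀ ≫ r k₀)).obj F) p z :=
        Groth.Flatmor4.hasStalkBasis_pullback_comp ψ _ _ hψ F z (by rw [hz]; exact hb)
      obtain ⟨j, m, hj⟩ := Groth.Flatmor4.exists_stage_hasStalkBasis E C hCl _
        (Groth.QCohMod.isFP_pullback (r k₀) F hF) z
        (Groth.Flatmor4.hasStalkBasis_congr ((Scheme.Modules.pullbackComp (C.π.app k₀) (r k₀)).app F).symm z hb₀)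
      refine ⟨j, C.π.app j z, hfree j _ ?_, ?_⟩
      · rw [← hEr m]
        exact Groth.Flatmor4.hasStalkBasis_congr ((Scheme.Modules.pullbackComp (E.map m) (r k₀)).app F) _ hj
      · have e3 : C.π.app j ≫ pr j = pullback.snd x₀ (c'.π.app i₀) ≫ c'.π.app j.left := pullback.lift_snd _ _ _
        refine (congr($e3 z)).trans ?_
        refine congrArg (c'.π.app j.left) ?_
        have e4 : χ ≫ pullback.snd x₀ (c'.π.app i₀) = PicF.XTproj f c.pt := pullback.lift_snd _ _ _
        exact (congr($e4 y)).trans hy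
    haveI : CompactSpace c'.pt := Groth.Limits.compactSpace_pt D' c' hc (i := i₀)
    choose k hk using hcov
    obtain ⟨s, hs⟩ := isCompact_univ.elim_finite_subcover
      (fun t : c'.pt => {w : c'.pt | c'.π.app (k t).left w ∈ Gs (k t)})
      (fun t => (Gs (k t)).isOpen.preimage (c'.π.app (k t).left).continuous)
      (fun t _ => Set.mem_iUnion.mpr ⟨t, hk t⟩)
    obtain ⟨l, hl⟩ := IsCofiltered.inf_objs_exists (s.image k)
    have hempty : ⇑(c'.π.app l.left) ⁻¹' ((Gs l : Set (D'.obj l.left))ᶜ) = ∅ := by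
      refine Set.eq_empty_of_forall_notMem fun t ht => ?_
      obtain ⟨t', ht', htt'⟩ := Set.mem_iUnion₂.mp (hs (Set.mem_univ t))
      obtain ⟨m⟩ := hl (Finset.mem_image_of_mem k ht')
      refine ht (hmono m ?_)
      show D'.map m.left (c'.π.app l.left t) ∈ Gs (k t')
      rw [Groth.Limits.π_map_apply D' c' m.left t]
      exact htt'
    obtain ⟨j, φ, hj⟩ := Groth.Limits.exists_preimage_eq_empty D' c' hc
      ((Groth.Limits.pc_of_isClosed (Gs l).isOpen.isClosed_compl).qcImage) hempty
    let kj : Over i₀ := Over.mk (φ ≫ l.hom)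
    have hall : ∀ t : D'.obj j, t ∈ Gs kj := fun t =>
      hmono (k := l) (l := kj) (Over.homMk φ rfl)
        (by_contra fun h => Set.eq_empty_iff_forall_notMem.mp hj t h)
    let v : PicF.XT f (D.obj j) ⟶ E.obj kj :=
      pullback.lift (PicF.XTmap f (D.map kj.hom)) (PicF.XTproj f (D.obj j)) (pullback.lift_snd _ _ _)
    let w : E.obj kj ⟶ PicF.XT f (D.obj j) :=
      pullback.lift (r kj) (pr kj) (by
        refine (Category.assoc _ _ _).trans ((congrArg _ pullback.condition).trans ?_)
        refine (Category.assoc _ _ _).symm.trans ((congrArg (· ≫ _) pullback.condition).trans ?_)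
        exact (Category.assoc _ _ _).trans (congrArg _ (Over.w (D.map kj.hom))))
    have hvr : v ≫ r kj = pullback.fst f (D.obj j).hom := by
      refine (Category.assoc _ _ _).symm.trans ((congrArg (· ≫ _) (pullback.lift_fst _ _ _)).trans ?_)
      exact FGA.XTmap_fst f _
    have hwv : w ≫ v = 𝟙 _ := by
      refine pullback.hom_ext ?_ ?_
      · refine pullback.hom_ext ?_ ?_
        · refine (Category.assoc _ _ _).trans ((Category.assoc _ _ _).trans ?_)
          refine (congrArg (w ≫ ·) hvr).trans ((pullback.lift_fst _ _ _).trans ?_)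
          exact (congrArg (· ≫ _) (Category.id_comp _)).symm
        · refine (Category.assoc _ _ _).trans ((Category.assoc _ _ _).trans ?_)
          refine Eq.trans ?_ (congrArg (· ≫ _) (Category.id_comp _)).symm
          have e5 : v ≫ pullback.fst x₀ (D'.map kj.hom) ≫ pullback.snd f (D.obj i₀).hom =
              PicF.XTproj f (D.obj j) ≫ D'.map kj.hom :=
            (Category.assoc _ _ _).symm.trans ((congrArg (· ≫ _) (pullback.lift_fst _ _ _)).trans
              (pullback.lift_snd _ _ _))
          refine (congrArg (w ≫ ·) e5).trans ((Category.assoc _ _ _).symm.trans ?_)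
          refine (congrArg (· ≫ _) (pullback.lift_snd _ _ _)).trans ?_
          exact pullback.condition.symm
      · refine (Category.assoc _ _ _).trans ((congrArg (w ≫ ·) (pullback.lift_snd _ _ _)).trans ?_)
        exact (pullback.lift_snd _ _ _).trans (Category.id_comp _).symm
    have hPj : FlatFun.FreeAtGenericPts (PicF.XTproj f (D.obj j)) (FGA.ET f F (D.obj j)) p := by
      intro t
      obtain ⟨u, hu, hut⟩ := hall t
      obtain ⟨y, hy, hygen⟩ := Groth.Flatmor4.exists_isGenericPtOfFibre (PicF.XTproj f (D.obj j)) t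
      have hw : PicF.XTproj f (D.obj j) (w u) = t := by
        have e6 : w ≫ PicF.XTproj f (D.obj j) = pr kj := pullback.lift_snd _ _ _
        exact (congr($e6 u)).trans hut
      have hy' : y ∈ v ⁻¹ᵁ U kj :=
        (hygen (w u) (hw.trans hy.symm)).mem_open (v ⁻¹ᵁ U kj).isOpen
          (show v (w u) ∈ U kj by rw [show v (w u) = u from congr($hwv u)]; exact hu)
      exact ⟨y, hy, hygen, Groth.Flatmor4.isFreeOfRankNear_of_hasStalkBasis _ (hFP _) y
        (Groth.Flatmor4.hasStalkBasis_pullback_comp v (r kj) _ hvr F y (Groth.Flatmor4.nonempty_stalkBasis hy'))⟩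
    exact ⟨op j, ⟨⟨D.obj j, 𝟙 _, hPj⟩⟩, @Subsingleton.elim _ (FlatFun.genPSp_subsingleton _ _ _) _ _⟩
  · exact ⟨op (IsCofiltered.min i.unop j.unop), (IsCofiltered.minToLeft _ _).op,
      (IsCofiltered.minToRight _ _).op, @Subsingleton.elim _ (FlatFun.genPSp_subsingleton _ _ _) _ _⟩

end Groth.Agent.S9022
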