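import Groth.Statements.S9024
import Groth.Agent.Flatmor4.DimLocus
import Groth.Agent.Flatmor4.StageBasis
import Groth.Agent.FlatMorOne.FlatStageGlobal

set_option autoImplicit false
universe u
open FlatMor

namespace Groth.Agent.S9024

open CategoryTheory CategoryTheory.Limits AlgebraicGeometry Opposite in
/-- Given a quasi-compact morphism f : X → S that is locally finitely presented, a finitely presented
quasi-coherent O_X-module F, and an integer n ≥ 0, the functor F_n on schemes over S (one point on T
when F_T is flat over T in dimensions ≥ n, in the transcendence-degree form: every point of X ×_S T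
where F_T is not flat over T has residue field of transcendence degree less than n over that of its
image; empty otherwise; the subfunctor of the final functor generated by that condition) is limit
preserving. -/
theorem result {X S : Scheme.{u}} (f : X ⟶ S) [QuasiCompact f] [LocallyOfFinitePresentation f] (F : X.Modules) [Coh.IsQCoh F]
    (hF : CohB1.IsFP F) (n : ℕ) :
    AlgSp.IsLimitPreserving (FlatFun.genPSp S (fun T => FlatFun.DimFibresLT n (PicF.XTproj f T)
        {x | ¬ FlatMod.IsFlatOverAt (PicF.XTproj f T) (FGA.ET f F T) x})) := by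
  classical
  haveI : F.IsQuasicoherent := ‹Coh.IsQCoh F›
  haveI hET : ∀ T : Over S, (FGA.ET f F T).IsQuasicoherent := fun T =>
    inferInstanceAs ((Scheme.Modules.pullback (pullback.fst f T.hom)).obj F).IsQuasicoherent
  intro I _ _ D c hc hD hT
  refine ⟨Types.FilteredColimit.isColimitOf _ _ (fun x => ?_) (fun i j a b _ => ?_)⟩
  · obtain ⟨T₀, g₀, hT₀⟩ := x.down.down
    let g : c.pt ⟶ T₀ := g₀
    let i₀ : I := IsCofiltered.nonempty.some
    have : ∀ (i j : I) (φ : i ⟶ j), IsAffineHom ((D ⋙ Over.forget S).map φ) := fun i j φ => by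
      haveI : IsAffine ((D ⋙ Over.forget S).obj i) := hD i
      haveI : IsAffine ((D ⋙ Over.forget S).obj j) := hD j
      infer_instance
    let D' := D ⋙ Over.forget S
    haveI hcs : ∀ i, CompactSpace (D'.obj i) := fun i => by
      haveI : IsAffine (D'.obj i) := hD i
      infer_instance
    let c' := (Over.forget S).mapCone c
    let X₀ := pullback f (D.obj i₀).hom
    let x₀ : X₀ ⟶ D'.obj i₀ := pullback.snd f (D.obj i₀).hom
    let q₀ : X₀ ⟶ X := pullback.fst f (D.obj i₀).hom
    haveI : LocallyOfFinitePresentation x₀ := MorphismProperty.pullback_snd _ _ inferInstance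
    haveI : QuasiCompact x₀ := MorphismProperty.pullback_snd _ _ inferInstance
    let E := Groth.Limits.stages D' x₀
    let C := Groth.Limits.stagesCone D' x₀ (c := c')
    let r : ∀ k : Over i₀, E.obj k ⟶ X := fun k => pullback.fst x₀ (D'.map k.hom) ≫ q₀
    let pr : ∀ k : Over i₀, E.obj k ⟶ D'.obj k.left := fun k => pullback.snd x₀ (D'.map k.hom)
    haveI hpr : ∀ k, LocallyOfFinitePresentation (pr k) := fun k =>
      MorphismProperty.pullback_snd _ _ inferInstance
    let q' : C.pt ⟶ c'.pt := pullback.snd x₀ (c'.π.app i₀)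
    let r' : C.pt ⟶ X := pullback.fst x₀ (c'.π.app i₀) ≫ q₀
    haveI : LocallyOfFinitePresentation q' := MorphismProperty.pullback_snd _ _ inferInstance
    haveI : QuasiCompact q' := MorphismProperty.pullback_snd _ _ inferInstance
    let Z : ∀ k : Over i₀, Set (E.obj k) := fun k =>
      {y | ¬ FlatMod.IsFlatOverAt (pr k) ((Scheme.Modules.pullback (r k)).obj F) y}
    let W : ∀ k : Over i₀, Set (E.obj k) := fun k =>
      {y | ∃ ξ, ξ ⤳ y ∧ pr k ξ = pr k y ∧ ξ ∈ Z k ∧ (n : Cardinal) ≤ Dual3.resTrdeg (pr k) ξ}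
    have hZ : ∀ k, IsClosed (Z k) := fun k =>
      (Groth.FlatMorOne.isOpen_isFlatOverAt (pr k) _ (Groth.QCohMod.isFP_pullback (r k) F hF)).isClosed_compl
    have hW : ∀ k, IsClosed (W k) := fun k =>
      Groth.Flatmor4.isClosed_setOf_mem_le_resTrdeg (pr k) (hZ k) n
    have hEr : ∀ {k l : Over i₀} (m : l ⟶ k), E.map m ≫ r k = r l := by
      intro k l m
      have e1 : E.map m ≫ pullback.fst x₀ (D'.map k.hom) = pullback.fst x₀ (D'.map l.hom) :=
        pullback.lift_fst _ _ _
      exact (Category.assoc _ _ _).symm.trans (congrArg (· ≫ q₀) e1)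
    have hEp : ∀ {k l : Over i₀} (m : l ⟶ k), IsPullback (E.map m) (pr l) (pr k) (D'.map m.left) := by
      intro k l m
      have e1 : E.map m ≫ pullback.fst x₀ (D'.map k.hom) = pullback.fst x₀ (D'.map l.hom) :=
        pullback.lift_fst _ _ _
      have e2 : E.map m ≫ pr k = pr l ≫ D'.map m.left := pullback.lift_snd _ _ _
      refine IsPullback.of_right ?_ e2 (IsPullback.of_hasPullback x₀ (D'.map k.hom))
      rw [e1, ← D'.map_comp, Over.w m]
      exact IsPullback.of_hasPullback x₀ (D'.map l.hom)
    have hCp : ∀ k : Over i₀, IsPullback (C.π.app k) q' (pr k) (c'.π.app k.left) := by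
      intro k
      have e1 : C.π.app k ≫ pullback.fst x₀ (D'.map k.hom) = pullback.fst x₀ (c'.π.app i₀) :=
        pullback.lift_fst _ _ _
      have e2 : C.π.app k ≫ pr k = q' ≫ c'.π.app k.left := pullback.lift_snd _ _ _
      refine IsPullback.of_right ?_ e2 (IsPullback.of_hasPullback x₀ (D'.map k.hom))
      rw [e1, c'.w k.hom]
      exact IsPullback.of_hasPullback x₀ (c'.π.app i₀)
    have hmono : ∀ {k l : Over i₀} (m : l ⟶ k) (y : E.obj l), y ∈ W l → E.map m y ∈ W k := by
      rintro k l m y ⟨ξ, h1, h2, h3, h4⟩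
      refine ⟨E.map m ξ, h1.map (E.map m).continuous, ?_, fun hfl => h3 ?_,
        h4.trans (Groth.Flatmor4.resTrdeg_baseChange_le (hEp m) ξ)⟩
      · exact (congr($((hEp m).w) ξ)).trans ((congrArg (D'.map m.left) h2).trans (congr($((hEp m).w) y)).symm)
      · exact Groth.FlatMorOne.isFlatOverAt_of_square F (hEp m) (hEr m) ξ hfl
    have hall : IsPullback r' q' f c.pt.hom := by
      have h := (IsPullback.of_hasPullback x₀ (c'.π.app i₀)).paste_horiz
        (IsPullback.of_hasPullback f (D.obj i₀).hom)
      have e : c'.π.app i₀ ≫ (D.obj i₀).hom = c.pt.hom := Over.w (c.π.app i₀)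
      rw [e] at h
      exact h
    have hallk : ∀ k : Over i₀, IsPullback (r k) (pr k) f (D.obj k.left).hom := by
      intro k
      have h := (IsPullback.of_hasPullback x₀ (D'.map k.hom)).paste_horiz
        (IsPullback.of_hasPullback f (D.obj i₀).hom)
      have e : D'.map k.hom ≫ (D.obj i₀).hom = (D.obj k.left).hom := Over.w (D.map k.hom)
      rw [e] at h
      exact h
    have hlim : ∀ x : C.pt, ¬ FlatMod.IsFlatOverAt q' ((Scheme.Modules.pullback r').obj F) x →
        Dual3.resTrdeg q' x < (n : Cardinal) := by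
      intro x hx
      let ψ : C.pt ⟶ PicF.XT f T₀ :=
        pullback.lift r' (q' ≫ g.left) (hall.w.trans ((congrArg _ (Over.w g)).symm.trans (Category.assoc _ _ _).symm))
      have hψ : IsPullback ψ q' (PicF.XTproj f T₀) g.left := by
        refine IsPullback.of_right ?_ (pullback.lift_snd _ _ _) (IsPullback.of_hasPullback f T₀.hom)
        rw [pullback.lift_fst]
        convert hall using 1
        exact Over.w g
      have h1 : Dual3.resTrdeg (PicF.XTproj f T₀) (ψ x) < (n : Cardinal) := hT₀ (ψ x) fun hfl =>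
        hx (Groth.FlatMorOne.isFlatOverAt_of_square F hψ (pullback.lift_fst _ _ _) x hfl)
      exact lt_of_le_of_lt (Groth.Flatmor4.resTrdeg_baseChange_le hψ x) h1
    have hpt : ∀ x : C.pt, FlatMod.IsFlatOverAt q' ((Scheme.Modules.pullback r').obj F) x →
        ∃ k : Over i₀, C.π.app k x ∉ Z k := by
      intro x hx
      let F₀ := (Scheme.Modules.pullback q₀).obj F
      let qX : C.pt ⟶ X₀ := pullback.fst x₀ (c'.π.app i₀)
      haveI : F₀.IsQuasicoherent := inferInstance
      have hF₀ : CohB1.IsFP F₀ := Groth.QCohMod.isFP_pullback q₀ F hF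
      have hx' : FlatMod.IsFlatOverAt q' ((Scheme.Modules.pullback qX).obj F₀) x :=
        (Groth.FlatMorOne.isFlatOverAt_congr q' ((Scheme.Modules.pullbackComp qX q₀).app F) x).mpr hx
      obtain ⟨i, φ, Xi, Yi, fi, gi, pY, pX, vY, vX, hYi, hXi, hvY, hvYg, hvX, hvXf, hgood⟩ :=
        Groth.FlatMorOne.exists_stage_goodAt (D := D') (c := c') hc
          x₀ (𝟙 (D'.obj i₀)) hF₀ (Groth.FlatMorOne.isFP_kernel_id F₀) (kernel.ι (𝟙 F₀))
          (f := q') (g := 𝟙 c'.pt) (qY := c'.π.app i₀) (qX := qX)
          (IsPullback.of_vert_isIso ⟨(Category.comp_id _).trans (Category.id_comp _).symm⟩) (IsPullback.of_hasPullback x₀ (c'.π.app i₀))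
          x ((Groth.FlatMorOne.goodAt_kernel_id_iff q'
            ((Scheme.Modules.pullback qX).map_isZero (isZero_kernel_of_mono _)) _ x).mpr hx')
      haveI : IsIso gi := hYi.isIso_snd_of_isIso
      have hfl := (Groth.FlatMorOne.goodAt_kernel_id_iff fi
        ((Scheme.Modules.pullback pX).map_isZero (isZero_kernel_of_mono _)) _ (vX x)).mp hgood
      let k : Over i₀ := Over.mk φ
      let eX := (hXi.paste_vert hYi).isoPullback
      have hbase : IsPullback pX (fi ≫ gi) (x₀ ≫ 𝟙 _) (D'.map φ) := hXi.paste_vert hYi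
      rw [Category.comp_id] at hbase
      let e : Xi ≅ E.obj k := hbase.isoPullback
      have he1 : e.hom ≫ pullback.fst x₀ (D'.map φ) = pX := hbase.isoPullback_hom_fst
      have he2 : e.hom ≫ pr k = fi ≫ gi := hbase.isoPullback_hom_snd
      refine ⟨k, fun hn => hn ?_⟩
      have hmor : C.π.app k = vX ≫ e.hom := by
        refine pullback.hom_ext ?_ ?_
        · exact (pullback.lift_fst _ _ _).trans ((Category.assoc _ _ _).trans ((congrArg (vX ≫ ·) he1).trans hvX)).symm
        · refine (pullback.lift_snd _ _ _).trans ((Category.assoc _ _ _).trans ((congrArg (vX ≫ ·) he2).trans ?_)).symm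
          refine (Category.assoc _ _ _).symm.trans ((congrArg (· ≫ gi) hvXf).trans ((Category.assoc _ _ _).trans ?_))
          exact congrArg (q' ≫ ·) (hvYg.trans (Category.id_comp _))
      rw [hmor]
      refine (Groth.FlatMorOne.isFlatOverAt_congr (pr k)
        ((Scheme.Modules.pullbackComp (pullback.fst x₀ (D'.map φ)) q₀).app F) _).mp ?_
      refine Groth.FlatMorOne.isFlatOverAt_of_square F₀ (fi := fi) (pX := pX) (vX := e.inv) (vY := inv gi)
        (IsPullback.of_horiz_isIso ⟨?_⟩) ((Iso.inv_comp_eq _).mpr he1.symm) (e.hom (vX x)) ?_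
      · rw [IsIso.eq_comp_inv, Category.assoc, ← he2, Iso.inv_hom_id_assoc]
      · have e3 : e.inv (e.hom (vX x)) = vX x := congr($(e.hom_inv_id) (vX x))
        rw [e3]
        exact hfl
    have hCl : IsLimit C := Groth.Limits.isLimitStagesCone D' x₀ hc
    have hcov : ∀ z : C.pt, ∃ k : Over i₀, C.π.app k z ∉ W k := by
      intro z
      by_contra hcon
      simp only [not_exists, not_not] at hcon
      let t := q' z
      let ι := q'.fiberι t
      haveI : LocallyOfFiniteType (q'.fiberToSpecResidueField t) :=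
        inferInstanceAs (LocallyOfFiniteType (pullback.snd q' _))
      haveI : IsLocallyNoetherian (q'.fiber t) :=
        LocallyOfFiniteType.isLocallyNoetherian (q'.fiberToSpecResidueField t)
      haveI : CompactSpace (q'.fiber t) :=
        haveI : QuasiCompact (q'.fiberToSpecResidueField t) := MorphismProperty.pullback_snd _ _ inferInstance
        QuasiCompact.compactSpace_of_compactSpace (q'.fiberToSpecResidueField t)
      haveI : AlgebraicGeometry.IsNoetherian (q'.fiber t) := ⟨⟩
      let A : Over i₀ → TopologicalSpace.Closeds (q'.fiber t) := fun k =>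
        ⟨{w | C.π.app k (ι w) ∈ Z k}, (hZ k).preimage ((C.π.app k).continuous.comp ι.continuous)⟩
      have hA : ∀ {k l : Over i₀} (m : l ⟶ k), A l ≤ A k := by
        intro k l m w hw hfl
        refine hw (Groth.FlatMorOne.isFlatOverAt_of_square F (hEp m) (hEr m) _ ?_)
        rw [Groth.Limits.π_map_apply E C m (ι w)]
        exact hfl
      obtain ⟨_, ⟨k, rfl⟩, hk⟩ := (IsWellFounded.wf : WellFounded (· < ·)).has_min (Set.range A)
        ⟨_, ⟨Over.mk (𝟙 i₀), rfl⟩⟩
      obtain ⟨ξ, -, h2, h3, h4⟩ := hcon k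
      obtain ⟨x', hx1, hx2, hx3⟩ := Groth.Flatmor4.exists_resTrdeg_eq (hCp k) ξ t
        (h2.trans (congr($((hCp k).w) z)))
      obtain ⟨w, rfl⟩ : x' ∈ Set.range ι := (q'.range_fiberι t).ge hx2
      have hwA : w ∈ A k := show C.π.app k (ι w) ∈ Z k by rw [hx1]; exact h3
      refine not_lt.2 (hx3.symm ▸ h4) (hlim _ fun hfl => ?_)
      obtain ⟨l, hl⟩ := hpt (ι w) hfl
      let p := IsCofiltered.min k l
      have e : A p = A k := eq_of_le_of_not_lt (hA (IsCofiltered.minToLeft k l)) (hk _ ⟨p, rfl⟩)
      exact hl (hA (IsCofiltered.minToRight k l) (e.symm ▸ hwA))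
    haveI (k : Over i₀) : CompactSpace (E.obj k) := Groth.Limits.compactSpace_stage D' x₀ k.hom
    haveI : CompactSpace C.pt := Groth.Limits.compactSpace_pt E C hCl (i := Over.mk (𝟙 i₀))
    choose k hk using hcov
    obtain ⟨s, hs⟩ := isCompact_univ.elim_finite_subcover
      (fun z : C.pt => {w : C.pt | C.π.app (k z) w ∉ W (k z)})
      (fun z => (hW (k z)).isOpen_compl.preimage (C.π.app (k z)).continuous)
      (fun z _ => Set.mem_iUnion.mpr ⟨z, hk z⟩)
    obtain ⟨l, hl⟩ := IsCofiltered.inf_objs_exists (s.image k)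
    have hempty : {z : C.pt | C.π.app l z ∈ W l} = ∅ := by
      refine Set.eq_empty_of_forall_notMem fun z hz => ?_
      obtain ⟨z', hz', hzz'⟩ := Set.mem_iUnion₂.mp (hs (Set.mem_univ z))
      obtain ⟨m⟩ := hl (Finset.mem_image_of_mem k hz')
      refine hzz' ?_
      rw [← Groth.Limits.π_map_apply E C m z]
      exact hmono m _ hz
    obtain ⟨j, m, hj⟩ := Groth.Limits.exists_preimage_eq_empty E C hCl
      ((Groth.Limits.pc_of_isClosed (hW l)).qcImage) hempty
    have hPj : FlatFun.DimFibresLT n (PicF.XTproj f (D.obj j.left))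
        {y | ¬ FlatMod.IsFlatOverAt (PicF.XTproj f (D.obj j.left)) (FGA.ET f F (D.obj j.left)) y} := by
      intro y hy
      let v : PicF.XT f (D.obj j.left) ⟶ E.obj j :=
        (hallk j).lift (pullback.fst f _) (PicF.XTproj f _) pullback.condition
      have hv : IsPullback (pullback.fst f (D.obj j.left).hom) (PicF.XTproj f (D.obj j.left)) f
          (D.obj j.left).hom := IsPullback.of_hasPullback _ _
      have hv' : IsPullback v (PicF.XTproj f (D.obj j.left)) (pr j) (𝟙 (D.obj j.left).left) := by
        refine IsPullback.of_right ?_ ((hallk j).lift_snd _ _ _ |>.trans (Category.comp_id _).symm) (hallk j)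
        rw [(hallk j).lift_fst]
        convert hv using 1
        exact Category.id_comp _
      show Dual3.resTrdeg (PicF.XTproj f (D.obj j.left)) y < (n : Cardinal)
      refine lt_of_le_of_lt (Groth.Flatmor4.resTrdeg_baseChange_le hv' y) (not_le.1 fun h => ?_)
      have hvW : v y ∈ W j := ⟨v y, specializes_rfl, rfl, fun hfl => hy ?_, h⟩
      · exact Set.eq_empty_iff_forall_notMem.mp hj (v y) (hmono m _ hvW)
      · exact Groth.FlatMorOne.isFlatOverAt_of_square F hv' ((hallk j).lift_fst _ _ _) y hfl
    exact ⟨op j.left, ⟨⟨D.obj j.left, 𝟙 _, hPj⟩⟩, @Subsingleton.elim _ (FlatFun.genPSp_subsingleton _ _ _) _ _⟩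
  · exact ⟨op (IsCofiltered.min i.unop j.unop), (IsCofiltered.minToLeft _ _).op,
      (IsCofiltered.minToRight _ _).op, @Subsingleton.elim _ (FlatFun.genPSp_subsingleton _ _ _) _ _⟩

end Groth.Agent.S9024
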