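import Groth.Statements.S9025
import Groth.Agent.RaynaudGruson.ContentWeilRestriction
import Groth.Agent.RaynaudGruson.Purity

set_option autoImplicit false
universe u
open FlatMor

namespace Groth.Agent.S9025

open CategoryTheory CategoryTheory.Limits AlgebraicGeometry Opposite in
/-- For X = Spec B and S = Spec A affine (purity of a morphism is available here only in ring form), let
A → B be a flat ring map of finite presentation such that the structure sheaf of X = Spec B is pure
relative to S = Spec A, and let i : Y → Spec B be a closed immersion (a closed subscheme Y of X).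
Then the Weil restriction functor of Y along X → S, the functor on schemes over S with one point on
T when the base change Y_T → X_T of i is an isomorphism and empty otherwise (the subfunctor of the
final functor generated by that condition), is representable by a scheme Z over S whose structure
morphism Z → S is a closed immersion. If moreover Y → S is locally of finite presentation (hence of
finite presentation) then Z → S is locally of finite presentation. -/
theorem result {A B : Type u} [CommRing A] [CommRing B] [Algebra A B] [Algebra.FinitePresentation A B] [Module.Flat A B]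
    (hpure : FlatCA.IsPure A B B) {Y : Scheme.{u}} (i : Y ⟶ Spec (CommRingCat.of B)) [IsClosedImmersion i] :
    ∃ Z : Over (Spec (CommRingCat.of A)), IsClosedImmersion Z.hom ∧
      Nonempty ((FlatFun.genPSp (Spec (CommRingCat.of A)) (fun T =>
        IsIso (pullback.snd i (pullback.fst (Spec.map (CommRingCat.ofHom (algebraMap A B))) T.hom)))).RepresentableBy Z) ∧
      (LocallyOfFinitePresentation (i ≫ Spec.map (CommRingCat.ofHom (algebraMap A B))) →
        LocallyOfFinitePresentation Z.hom) := by
  classical
  haveI : Module.FinitePresentation B B := Module.finitePresentation_of_projective B B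
  haveI : Module.Projective A B := RaynaudGruson.Purity.projective_of_isPure B hpure
  obtain ⟨I, e, rfl⟩ := IsClosedImmersion.Spec_iff.mp ‹IsClosedImmersion i›
  obtain ⟨J, h1, h2, hJfg⟩ := RaynaudGruson.exists_content_ideal (A := A) I
  let π : Spec (CommRingCat.of B) ⟶ Spec (CommRingCat.of A) := Spec.map (CommRingCat.ofHom (algebraMap A B))
  let mI := Spec.map (CommRingCat.ofHom (Ideal.Quotient.mk I))
  let i' := e.hom ≫ mI
  let P : Over (Spec (CommRingCat.of A)) → Prop := fun T => IsIso (pullback.snd i' (pullback.fst π T.hom))
  have hP : ∀ T, P T ↔ ∃ l : pullback π T.hom ⟶ _, l ≫ i' = pullback.fst π T.hom := fun T => by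
    constructor
    · intro h
      haveI : IsIso (pullback.snd i' (pullback.fst π T.hom)) := h
      exact ⟨inv (pullback.snd i' (pullback.fst π T.hom)) ≫ pullback.fst _ _, by
        rw [Category.assoc, pullback.condition, IsIso.inv_hom_id_assoc]⟩
    · rintro ⟨l, hl⟩
      haveI : IsSplitEpi (pullback.snd i' (pullback.fst π T.hom)) :=
        IsSplitEpi.mk' ⟨pullback.lift l (𝟙 _) (by rw [hl, Category.id_comp]), pullback.lift_snd _ _ _⟩
      exact isIso_of_mono_of_isSplitEpi _
  let Z : Over (Spec (CommRingCat.of A)) := Over.mk (Spec.map (CommRingCat.ofHom (algebraMap A (A ⧸ J))))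
  haveI : IsClosedImmersion Z.hom := IsClosedImmersion.spec_of_quotient_mk (R := CommRingCat.of A) J
  have hPZ : P Z := (hP Z).mpr
    ⟨(pullbackSpecIso A B (A ⧸ J)).hom ≫ Spec.map (CommRingCat.ofHom (Ideal.Quotient.lift I
      Algebra.TensorProduct.includeLeftRingHom fun x hx => h1 x hx)) ≫ e.inv, by
      simp only [i', Category.assoc, Iso.inv_hom_id_assoc]
      rw [← Spec.map_comp, ← CommRingCat.ofHom_comp, Ideal.Quotient.lift_comp_mk]
      exact pullbackSpecIso_hom_fst A B (A ⧸ J)⟩
  have hfac : ∀ T, P T → Nonempty (T ⟶ Z) := fun T hT => by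
    obtain ⟨l, hl⟩ := (hP T).mp hT
    let U := T.left.affineCover
    have hloc : ∀ j, ∃ g : U.X j ⟶ Z.left, g ≫ Z.hom = U.f j ≫ T.hom := fun j => by
      obtain ⟨R, ρ, hρ⟩ : ∃ (R : CommRingCat.{u}) (ρ : Spec R ⟶ U.X j), IsIso ρ := by
        haveI : IsAffine (U.X j) := Scheme.isAffine_affineCover T.left j
        exact ⟨_, (U.X j).isoSpec.inv, inferInstance⟩
      haveI := hρ
      obtain ⟨ψ, hψ⟩ := Spec.map_surjective (ρ ≫ U.f j ≫ T.hom)
      letI : Algebra A R := ψ.hom.toAlgebra
      have hψ' : Spec.map (CommRingCat.ofHom (algebraMap A R)) ≫ 𝟙 _ = (ρ ≫ U.f j) ≫ T.hom := by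
        rw [Category.comp_id, Category.assoc]; exact hψ
      let m : pullback π (Spec.map (CommRingCat.ofHom (algebraMap A R))) ⟶ pullback π T.hom :=
        pullback.map _ _ _ _ (𝟙 _) (ρ ≫ U.f j) (𝟙 _) (by simp) hψ'
      obtain ⟨χ, hχ⟩ := Spec.map_surjective ((pullbackSpecIso A B R).inv ≫ m ≫ l ≫ e.hom)
      have hI : ∀ x ∈ I, x ⊗ₜ[A] (1 : R) = 0 := fun x hx => by
        have h : (CommRingCat.ofHom (Ideal.Quotient.mk I)) ≫ χ =
            CommRingCat.ofHom (Algebra.TensorProduct.includeLeftRingHom (R := A) (A := B) (B := R)) := by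
          apply Spec.map_injective
          rw [Spec.map_comp, hχ]
          simp only [Category.assoc]
          rw [show l ≫ e.hom ≫ Spec.map (CommRingCat.ofHom (Ideal.Quotient.mk I)) = pullback.fst π T.hom from hl,
            pullback.lift_fst, Category.comp_id, pullbackSpecIso_inv_fst]
        have := ConcreteCategory.congr_hom h x
        simp [Ideal.Quotient.eq_zero_iff_mem.mpr hx] at this
        exact this.symm
      refine ⟨inv ρ ≫ Spec.map (CommRingCat.ofHom (Ideal.Quotient.lift J (algebraMap A R) fun a ha => h2 R hI ha)), ?_⟩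
      rw [Category.assoc, IsIso.inv_comp_eq, ← hψ]
      show Spec.map _ ≫ Spec.map _ = _
      rw [← Spec.map_comp, ← CommRingCat.ofHom_comp, Ideal.Quotient.algebraMap_eq, Ideal.Quotient.lift_comp_mk]
      rfl
    choose g hg using hloc
    refine ⟨Over.homMk (U.glueMorphisms g fun j k => ?_) (U.hom_ext _ _ fun j => ?_)⟩
    · rw [← cancel_mono Z.hom, Category.assoc, Category.assoc, hg, hg, ← Category.assoc, ← Category.assoc,
        pullback.condition]
    · rw [← Category.assoc, Scheme.Cover.ι_glueMorphisms, hg]
  refine ⟨Z, inferInstance, ⟨?_⟩, fun hY => ?_⟩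
  · haveI : Mono Z.hom := inferInstance
    haveI : ∀ T, Subsingleton (T ⟶ Z) := fun T => ⟨fun a b => Over.OverMorphism.ext
      ((cancel_mono Z.hom).mp ((Over.w a).trans (Over.w b).symm))⟩
    refine
      { homEquiv := fun {T} =>
          { toFun := fun k => ⟨⟨Z, k, hPZ⟩⟩
            invFun := fun x => Classical.choice (x.down.down.elim fun T₀ h => h.elim fun k hk =>
              (hfac T₀ hk).map fun l => k ≫ l)
            left_inv := fun _ => Subsingleton.elim _ _
            right_inv := fun _ => Subsingleton.elim _ _ }
        homEquiv_comp := fun _ _ => Subsingleton.elim _ _ }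
  · have hY' : LocallyOfFinitePresentation (mI ≫ π) := by
      rw [Category.assoc] at hY
      exact (MorphismProperty.cancel_left_of_respectsIso @LocallyOfFinitePresentation e.hom (mI ≫ π)).mp hY
    rw [← Spec.map_comp, HasRingHomProperty.Spec_iff (P := @LocallyOfFinitePresentation)] at hY'
    haveI : Algebra.FinitePresentation A (B ⧸ I) := RingHom.finitePresentation_algebraMap.mp hY'
    have hI : I.FG := by
      rw [← Ideal.mk_ker (I := I)]
      exact Algebra.FinitePresentation.ker_fG_of_surjective (Ideal.Quotient.mkₐ A I) Ideal.Quotient.mk_surjective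
    show LocallyOfFinitePresentation (Spec.map _)
    rw [HasRingHomProperty.Spec_iff (P := @LocallyOfFinitePresentation)]
    exact RingHom.finitePresentation_algebraMap.mpr (Algebra.FinitePresentation.quotient (hJfg hI))

end Groth.Agent.S9025
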