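import Groth.Statements.S9031
import Groth.Agent.HTopHyper.FrobSheaf

set_option autoImplicit false
universe u
open HTop

namespace Groth.Agent.S9031

open CategoryTheory AlgebraicGeometry Opposite in
/-- Let p be a prime number and S a scheme on which p = 0. Write P for the presheaf on schemes over S
sending X to the colimit of sets Γ(X, O_X) → Γ(X, O_X) → … along the p-th power map (Frobenius), and
P♯ for its sheafification in the big Zariski topology of S. Then P♯ is a sheaf for the big h
topology of S, and for every scheme X over S which is quasi-compact and quasi-separated the
canonical map P(X) → P♯(X) is bijective. (This is the existence and the description on quasi-compact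
quasi-separated objects of the h sheaf with these values; such a sheaf is then determined by these
values since affine objects are quasi-compact and quasi-separated.) -/
theorem result (p : ℕ) [Fact p.Prime] (S : Scheme.{u}) (hS : (p : Γ(S, ⊤)) = 0) :
    Presheaf.IsSheaf (HTop.Jh S)
      ((QuotSh.J Scheme.zariskiPrecoverage S).sheafify (HTop.frobColimPresheaf p S ⋙ uliftFunctor.{u + 1, u})) ∧
    ∀ (X : Over S) [CompactSpace X.left] [QuasiSeparatedSpace X.left],
      Function.Bijective
        (((QuotSh.J Scheme.zariskiPrecoverage S).toSheafify (HTop.frobColimPresheaf p S ⋙ uliftFunctor.{u + 1, u})).app (op X)) := by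
  refine ⟨(isSheaf_iff_isSheaf_of_type _ _).mpr (Groth.HTopHyper.FrobColim.isSheaf_Jh hS), fun X _ _ => ?_⟩
  exact ⟨Groth.HTopHyper.FrobColim.eta_injective, Groth.HTopHyper.FrobColim.eta_surjective⟩

end Groth.Agent.S9031
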