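import Groth.Statements.S9032
import Groth.Agent.RaynaudGruson.FlatIdealScheme

set_option autoImplicit false
set_option linter.style.haveILetI false
universe u
open FlatMor

namespace Groth.Agent.S9032

open CategoryTheory CategoryTheory.Limits AlgebraicGeometry Opposite in
/-- Let A be a henselian local ring, s the closed point of S = Spec A, f : X → S a morphism locally of
finite type, F a quasi-coherent O_X-module of finite type and E a subset of the closed fibre X_s.
Then there is a closed subscheme Z = V(I) of S with the following property: for every morphism of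
pointed schemes (T, t) → (S, s), the base change F_T on X_T = X ×_S T is T-flat at each point over t
whose image in X lies in E if and only if Spec(O_{T,t}) → S factors through Z, that is, the map A →
O_{T,t} sends I to zero. Assume in addition that the morphism f is locally finitely presented, that
the module F is finitely presented, and that the subset E is both quasi-compact and closed; in that
case the closed immersion Z → S is finitely presented, meaning the ideal I is finitely generated. -/
theorem result {A : Type u} [CommRing A] [HenselianLocalRing A] {X : Scheme.{u}} (f : X ⟶ Spec (CommRingCat.of A))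
    [LocallyOfFiniteType f] (F : X.Modules) [Coh.IsQCoh F] (hF : CohB1.IsFT F)
    (E : Set X) (hE : ∀ x ∈ E, f.base x = IsLocalRing.closedPoint A) :
    ∃ I : Ideal A,
      (∀ (T : Scheme.{u}) (g : T ⟶ Spec (CommRingCat.of A)) (t : T), g.base t = IsLocalRing.closedPoint A →
        ((∀ x' : ↑(pullback f g), (pullback.snd f g).base x' = t → (pullback.fst f g).base x' ∈ E →
            FlatMod.IsFlatOverAt (pullback.snd f g) ((Scheme.Modules.pullback (pullback.fst f g)).obj F) x') ↔
          ∀ a ∈ I, (T.presheaf.germ ⊤ t trivial).hom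
            (g.appTop.hom ((Scheme.ΓSpecIso (CommRingCat.of A)).inv.hom a)) = 0)) ∧
      (LocallyOfFinitePresentation f → CohB1.IsFP F → IsClosed E → IsCompact E → I.FG) := by
  haveI : F.IsQuasicoherent := ‹Coh.IsQCoh F›
  choose J hJ hJfg using fun x : E => Groth.RaynaudGruson.FlatIdealScheme.exists_point_ideal f F hF x.1 (hE x.1 x.2)
  refine ⟨⨆ x, J x, fun T g t ht => ⟨fun h => ?_, fun h x' h1 h2 => ?_⟩, fun hf hP _ hc => ?_⟩
  · have hle : (⨆ x, J x) ≤ RingHom.ker ((T.presheaf.germ ⊤ t trivial).hom.comp
        (g.appTop.hom.comp (Scheme.ΓSpecIso (CommRingCat.of A)).inv.hom)) :=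
      iSup_le fun x a ha => RingHom.mem_ker.mpr ((hJ x T g t ht).mp
        (fun x' h1 h2 => h x' h1 (h2 ▸ x.2)) a ha)
    exact fun a ha => RingHom.mem_ker.mp (hle ha)
  · exact (hJ ⟨_, h2⟩ T g t ht).mpr (fun a ha => h a (Submodule.mem_iSup_of_mem _ ha)) x' h1 rfl
  · by_cases htop : ∃ x, J x = ⊤
    · obtain ⟨x, hx⟩ := htop
      rw [show (⨆ x, J x) = ⊤ from top_le_iff.mp (hx ▸ le_iSup J x)]
      exact ⟨{1}, by simp⟩
    push Not at htop
    have hO : ∀ x : E, ∃ O : X.Opens, x.1 ∈ O ∧ ∀ y : E, y.1 ∈ O → J y ≤ J x := by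
      intro x
      haveI : Nontrivial (A ⧸ J x) := Ideal.Quotient.nontrivial_iff.mpr (htop x)
      haveI : IsLocalRing (A ⧸ J x) :=
        IsLocalRing.of_surjective' (Ideal.Quotient.mk (J x)) Ideal.Quotient.mk_surjective
      let π : CommRingCat.of A ⟶ CommRingCat.of (A ⧸ J x) := CommRingCat.ofHom (Ideal.Quotient.mk (J x))
      let g : Spec (CommRingCat.of (A ⧸ J x)) ⟶ Spec (CommRingCat.of A) := Spec.map π
      haveI : IsClosedImmersion g := IsClosedImmersion.spec_of_surjective π Ideal.Quotient.mk_surjective
      let q := pullback.fst f g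
      let p := pullback.snd f g
      haveI : IsClosedImmersion q := MorphismProperty.pullback_fst f g inferInstance
      haveI : LocallyOfFinitePresentation p := MorphismProperty.pullback_snd f g hf
      let F' := (Scheme.Modules.pullback q).obj F
      haveI : F'.IsQuasicoherent := inferInstance
      have hV : IsOpen {z | FlatMod.IsFlatOverAt p F' z} :=
        Groth.FlatMorOne.isOpen_isFlatOverAt p F' (Groth.QCohMod.isFP_pullback q F hP)
      let O : X.Opens := ⟨(q '' {z | FlatMod.IsFlatOverAt p F' z}ᶜ)ᶜ,
        (q.isClosedEmbedding.isClosedMap _ hV.isClosed_compl).isOpen_compl⟩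
      let t : Spec (CommRingCat.of (A ⧸ J x)) := IsLocalRing.closedPoint (A ⧸ J x)
      have hmap : ∀ a : A, g.appTop.hom ((Scheme.ΓSpecIso (CommRingCat.of A)).inv.hom a) =
          (Scheme.ΓSpecIso (CommRingCat.of (A ⧸ J x))).inv.hom (Ideal.Quotient.mk (J x) a) := fun a =>
        congr($(Scheme.ΓSpecIso_inv_naturality π) a).symm
      have hgerm : ∀ a : A, ((Spec (CommRingCat.of (A ⧸ J x))).presheaf.germ ⊤ t trivial).hom
          (g.appTop.hom ((Scheme.ΓSpecIso (CommRingCat.of A)).inv.hom a)) = 0 ↔ a ∈ J x := fun a => by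
        rw [hmap, ← Ideal.Quotient.eq_zero_iff_mem]
        refine ⟨fun h => ?_, fun h => by rw [h, map_zero, map_zero]⟩
        rw [← map_zero ((Spec (CommRingCat.of (A ⧸ J x))).presheaf.germ ⊤ t trivial).hom] at h
        obtain ⟨U, htU, i, i', hU⟩ := TopCat.Presheaf.germ_eq (U := ⊤) (V := ⊤) _ t trivial trivial _ _ h
        have hUtop : U = ⊤ := top_le_iff.mp fun z _ =>
          ((PrimeSpectrum.le_iff_specializes z t).mp (IsLocalRing.le_maximalIdeal z.2.ne_top)).mem_open U.2 htU
        subst hUtop
        rw [Subsingleton.elim i (𝟙 _), Subsingleton.elim i' (𝟙 _)] at hU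
        simp only [op_id, CategoryTheory.Functor.map_id, CommRingCat.id_apply] at hU
        have h' := congrArg (Scheme.ΓSpecIso (CommRingCat.of (A ⧸ J x))).hom hU
        rwa [Iso.inv_hom_id_apply, map_zero] at h'
      have hgt : g.base t = IsLocalRing.closedPoint A := by
        exact PrimeSpectrum.ext (IsLocalRing.eq_maximalIdeal
          (Ideal.comap_isMaximal_of_surjective (Ideal.Quotient.mk (J x)) Ideal.Quotient.mk_surjective (K := IsLocalRing.maximalIdeal (A ⧸ J x))))
      refine ⟨O, ?_, fun y hy a ha => (hgerm a).mp ((hJ y _ g t hgt).mp (fun z _ h2 => ?_) a ha)⟩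
      · rintro ⟨z, hzn, hzx⟩
        have hzt : p z = t := g.isClosedEmbedding.injective (by
          rw [hgt, ← Scheme.Hom.comp_apply, ← pullback.condition, Scheme.Hom.comp_apply]
          exact (congrArg f hzx).trans (hE x.1 x.2))
        exact hzn ((hJ x _ g t hgt).mpr (fun a ha => (hgerm a).mpr ha) z hzt hzx)
      · by_contra hn
        exact hy ⟨z, hn, h2⟩
    choose O hxO hOle using hO
    obtain ⟨s, hs⟩ := hc.elim_finite_subcover (fun x : E => (O x : Set X)) (fun x => (O x).2)
      fun x hx => Set.mem_iUnion.mpr ⟨⟨x, hx⟩, hxO _⟩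
    have heq : (⨆ x, J x) = s.sup J := by
      refine le_antisymm (iSup_le fun y => ?_) (Finset.sup_le fun x _ => le_iSup J x)
      obtain ⟨x, hxs, hyx⟩ := Set.mem_iUnion₂.mp (hs y.2)
      exact (hOle x y hyx).trans (Finset.le_sup hxs)
    rw [heq]
    exact Submodule.fg_finset_sup s J fun x _ => hJfg x hf hP

end Groth.Agent.S9032
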