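import Groth.Statements.S9034
import Groth.Agent.CpctRight.Basic

set_option autoImplicit false
universe u
open Cpct

namespace Groth.Agent.S9034

open CategoryTheory CategoryTheory.Limits AlgebraicGeometry Opposite in
/-- Fix a scheme S which is quasi-separated and quasi-compact. Sending a pair (X, X̄) to X gives a
functor from the category of compactifications over S (pairs of a scheme X̄ proper over S and a
quasi-compact open X ⊆ X̄, with morphisms the S-morphisms X̄' → X̄ sending X' into X) to the
category of compactifyable schemes over S (the full subcategory of schemes over S that are the open
part of such a pair), and this functor is a localization functor for the class of morphisms whose
open part X' → X is an isomorphism: it inverts that class and the induced functor from the localized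
category is an equivalence. -/
theorem result (S : Scheme.{u}) [CompactSpace S] [QuasiSeparatedSpace S] :
    (Cpct.openFunctor S).IsLocalization (Cpct.isoOpen S) := by
  exact Groth.CpctRight.isLocalization

end Groth.Agent.S9034
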