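import Groth.Statements.S9036
import Groth.Agent.DerivedCoh.CompactTerms
import Groth.Agent.SitesTopoi.Mod.QcSum
import Groth.Agent.SiteCohomology.ModulesGrothendieck

set_option autoImplicit false
universe u
open CategoryTheory CategoryTheory.Limits Opposite
open ModSite

namespace Groth.Agent.S9036

/-- Let (C, O) be a ringed site in which every object has a covering by quasi-compact objects (an object
U is called quasi-compact here when the sheaf h_U^# is a quasi-compact object of the topos, which is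
equivalent to the site-level definition). Then every compact object of D(O) is a retract in D(O) of
the image of a bounded complex whose terms are finite direct sums of modules of the form j_{U!} O_U
with U quasi-compact. The derived category of O-modules, direct sums in it and finite biproducts of
O-modules (automatic) are instance hypotheses. -/
theorem result
    {C : Type u} [SmallCategory C] {J : GrothendieckTopology C} (O : Sheaf J CommRingCat.{u})
    [HasFiniteBiproducts (ModSite.Mod O)]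
    [HasDerivedCategory.{u} (ModSite.Mod O)] [HasCoproducts.{u} (DerivedCategory (ModSite.Mod O))]
    (hC : ∀ V : C, ∃ R ∈ J V, ∀ ⦃W : C⦄ (g : W ⟶ V), R g →
      ∃ (U : C) (a : W ⟶ U) (b : U ⟶ V), CohCx.IsQcObject ((presheafToSheaf J (Type u)).obj (yoneda.obj U)) ∧ a ≫ b = g)
    (K : DerivedCategory (ModSite.Mod O)) (hK : CohDer.IsCompactObject K) :
    ∃ (L : CochainComplex (ModSite.Mod O) ℤ) (a b : ℤ),
      (∀ i : ℤ, i < a ∨ b < i → IsZero (L.X i)) ∧
      (∀ i : ℤ, ∃ (n : ℕ) (U : Fin n → C),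
        (∀ j, CohCx.IsQcObject ((presheafToSheaf J (Type u)).obj (yoneda.obj (U j)))) ∧
        Nonempty (L.X i ≅ ⨁ fun j => ModSite.freeOn O (U j))) ∧
      Nonempty (Retract K (DerivedCategory.Q.obj L)) := by
  have : IsGrothendieckAbelian.{u} (ModSite.Mod O) := inferInstance
  have : HasCoproducts.{u} (ModSite.Mod O) := inferInstance
  let S : Set (ModSite.Mod O) :=
    {E | ∃ U : C, CohCx.IsQcObject ((presheafToSheaf J (Type u)).obj (yoneda.obj U)) ∧ E = ModSite.freeOn O U}
  have h2 : ∀ E ∈ S, ∀ ι : Type u, PreservesColimitsOfShape (Discrete ι) (preadditiveCoyoneda.obj (Opposite.op E)) := by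
    rintro _ ⟨U, hU, rfl⟩ ι
    refine Groth.SitesTopoi.QcSum.preservesColimitsOfShape_discrete _ ι fun X =>
      Groth.SitesTopoi.QcSum.preservesCoproduct _ X fun z => ?_
    obtain ⟨T, t, e⟩ := Groth.SitesTopoi.QcSum.exists_finset_sum X hU (Groth.Misc4.FreeOn.homEquiv U _ z)
    refine ⟨T, fun i => (Groth.Misc4.FreeOn.homEquiv U (X i)).symm (t i), (Groth.Misc4.FreeOn.homEquiv U _).injective (e.trans ?_)⟩
    let φ : (ModSite.freeOn O U ⟶ ∐ X) →+ _ :=
      AddMonoidHom.mk' (Groth.Misc4.FreeOn.homEquiv U (∐ X)) fun a b => rfl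
    refine Eq.trans (Finset.sum_congr rfl fun i _ => ?_) (map_sum φ _ _).symm
    exact ((Groth.Misc4.FreeOn.homEquiv_comp U _ _).trans (by rw [Equiv.apply_symm_apply])).symm
  have h1 : ∀ X : ModSite.Mod O, ∃ (ι : Type u) (E : ι → ModSite.Mod O) (π : ∐ E ⟶ X), (∀ i, E i ∈ S) ∧ Epi π := by
    intro X
    let ι := Σ U : {U : C // CohCx.IsQcObject ((presheafToSheaf J (Type u)).obj (yoneda.obj U))},
      (ModSite.freeOn O U.1 ⟶ X)
    refine ⟨ι, fun p => ModSite.freeOn O p.1.1, Sigma.desc fun p => p.2, fun p => ⟨_, p.1.2, rfl⟩,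
      ⟨fun f g h => Groth.SitesTopoi.ModH.mod_hom_ext fun V m => ?_⟩⟩
    obtain ⟨R, hR, hR'⟩ := hC V
    refine Groth.SitesTopoi.ModH.sec_extM _ hR fun W k hk => ?_
    obtain ⟨U, a, b, hU, rfl⟩ := hR' k hk
    rw [← Groth.SitesTopoi.ModH.rsm_rsm, ← Groth.SitesTopoi.ModH.rsm_rsm]
    refine congrArg (Groth.SitesTopoi.ModH.rsm _ a) ?_
    rw [← Groth.SitesTopoi.ModH.apm_rsm, ← Groth.SitesTopoi.ModH.apm_rsm]
    have h' := congrArg (fun q => Sigma.ι (fun p : ι => ModSite.freeOn O p.1.1)
      ⟨⟨U, hU⟩, (Groth.Misc4.FreeOn.homEquiv U X).symm (Groth.SitesTopoi.ModH.rsm X.val b m)⟩ ≫ q) h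
    rw [Sigma.ι_desc_assoc, Sigma.ι_desc_assoc] at h'
    have h'' := congrArg (Groth.Misc4.FreeOn.homEquiv U _) h'
    rw [Groth.Misc4.FreeOn.homEquiv_comp, Groth.Misc4.FreeOn.homEquiv_comp, Equiv.apply_symm_apply] at h''
    exact h''
  obtain ⟨L, a, b, hL, hS, hr⟩ := Groth.DerivedCoh.CompactTerms.exists_retract_finite hK S h2 h1
  refine ⟨L, a, b, hL, fun i => ?_, hr⟩
  obtain ⟨n, E, hE, ⟨e⟩⟩ := hS i
  choose U hU hEU using hE
  obtain rfl : E = fun j => ModSite.freeOn O (U j) := funext hEU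
  exact ⟨n, U, hU, ⟨e⟩⟩

end Groth.Agent.S9036
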