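import Groth.Statements.S9037
import Groth.Agent.SitesTopoi.ProjCompact
import Groth.Agent.SitesTopoi.Mod.QcSum
import Groth.Agent.SiteCohomology.WeaklyContractible
import Groth.Agent.SiteCohomology.ModulesGrothendieck
import Groth.Agent.SitesTopoi.Mod.Split

set_option autoImplicit false
universe u
open CategoryTheory CategoryTheory.Limits Opposite
open ModSite

namespace Groth.Agent.S9037

/-- On a ringed site (C, O), if U is a quasi-compact object (h_U^# is a quasi-compact object of the
topos, which is equivalent to the site-level notion) which is weakly contractible, then j_{U!} O_U,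
placed in degree zero, is a compact object of the derived category D(O). The derived category of
O-modules and direct sums in it are instance hypotheses. -/
theorem result
    {C : Type u} [SmallCategory C] {J : GrothendieckTopology C} (O : Sheaf J CommRingCat.{u})
    [HasDerivedCategory.{u} (ModSite.Mod O)] [HasCoproducts.{u} (DerivedCategory (ModSite.Mod O))]
    (U : C) (hqc : CohCx.IsQcObject ((presheafToSheaf J (Type u)).obj (yoneda.obj U)))
    (hwc : CohSite.IsWeaklyContractible J U) :
    CohDer.IsCompactObject ((DerivedCategory.singleFunctor (ModSite.Mod O) 0).obj (ModSite.freeOn O U)) := by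
  have : Projective (ModSite.freeOn O U) := ⟨fun {E X} f g _ => by
    have : Epi ((SheafOfModules.toSheaf.{u} (ModSite.ringSh O)).map g) := inferInstance
    obtain ⟨s, hs⟩ := Groth.SiteCohomology.surjective_of_isWeaklyContractible hwc
      ((SheafOfModules.toSheaf.{u} (ModSite.ringSh O)).map g) (Groth.Misc4.FreeOn.homEquiv U X f)
    refine ⟨(Groth.Misc4.FreeOn.homEquiv U E).symm s, (Groth.Misc4.FreeOn.homEquiv U X).injective ?_⟩
    refine (Groth.Misc4.FreeOn.homEquiv_comp U _ g).trans ?_
    refine Eq.trans (congrArg (Groth.SitesTopoi.ModH.apm g.val U)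
      ((Groth.Misc4.FreeOn.homEquiv U E).apply_symm_apply s)) ?_
    exact hs⟩
  refine Groth.SitesTopoi.ProjCompact.isCompactObject_single _ fun T X z => ?_
  obtain ⟨S, t, e⟩ := Groth.SitesTopoi.QcSum.exists_finset_sum X hqc (Groth.Misc4.FreeOn.homEquiv U _ z)
  refine ⟨S, fun i => (Groth.Misc4.FreeOn.homEquiv U _).symm (t i),
    (Groth.Misc4.FreeOn.homEquiv U _).injective (e.trans ?_)⟩
  let φ : (ModSite.freeOn O U ⟶ ∐ X) →+ _ :=
    AddMonoidHom.mk' (Groth.Misc4.FreeOn.homEquiv U (∐ X)) fun a b => rfl
  refine Eq.trans (Finset.sum_congr rfl fun i _ => ?_) (map_sum φ _ _).symm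
  exact ((Groth.Misc4.FreeOn.homEquiv_comp U _ _).trans (by rw [Equiv.apply_symm_apply])).symm

end Groth.Agent.S9037
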