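import Groth.Statements.S9042
import Groth.Agent.Misc4.RlimTrunc

set_option autoImplicit false
universe u
open CategoryTheory CategoryTheory.Limits Opposite
open ModSite

namespace Groth.Agent.S9042

/-- Let (C, O) be a ringed site, E an object of D(O), B a class of objects such that every object has a
covering by members of B, and p : ℤ → ℤ a function such that H^k(V, H^{m-k}(E)) = 0 for every V in
B, every m and every k > p(m). Then the canonical map from E to the derived limit of its truncations
τ_{≥ -n} E is an isomorphism, i.e. E is a derived limit of that tower through the canonical maps.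
The derived category of O-modules and the product of the truncations are instance hypotheses; H^k(V,
-) of an O-module is the cohomology of its underlying abelian sheaf. -/
theorem result
    {C : Type u} [SmallCategory C] {J : GrothendieckTopology C} (O : Sheaf J CommRingCat.{u})
    [HasDerivedCategory.{u} (ModSite.Mod O)] (E : DerivedCategory (ModSite.Mod O))
    [HasProduct (CohCx.truncTower E)] (B : Set C)
    (hB : ∀ U : C, ∃ (ι : Type u) (Y : ι → C) (f : ∀ i, Y i ⟶ U), Sieve.ofArrows Y f ∈ J U ∧ ∀ i, Y i ∈ B)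
    (p : ℤ → ℤ)
    (h : ∀ V ∈ B, ∀ (m : ℤ) (k : ℕ), p m < k →
      Subsingleton (ModSite.HU O ((DerivedCategory.homologyFunctor (ModSite.Mod O) (m - k)).obj E) k V)) :
    CohCx.IsRlimVia (CohCx.truncTower E) (CohCx.truncTowerMap E) E (CohCx.toTruncTower E) := by
  refine Groth.Misc4.RlimTrunc.isRlimVia_truncTower E B hB fun V hV j => ?_
  refine ⟨((max (max (p (j - 1)) (p j)) (p (j + 1))) - j + 1).toNat, fun T hT => ?_⟩
  refine ⟨{a : Σ W : C, W ⟶ V // T a.2 ∧ a.1 ∈ B}, fun a => a.1.1, fun a => a.1.2, fun a => a.2.1, ?_,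
    fun a n k hn h1 h2 => ?_⟩
  · refine J.transitive hT _ fun W g hg => ?_
    obtain ⟨ι, Y, f, hf, hY⟩ := hB W
    refine J.superset_covering ?_ hf
    rintro W' _ ⟨_, k, _, ⟨i⟩, rfl⟩
    exact ⟨_, k, f i ≫ g, ⟨(⟨⟨_, f i ≫ g⟩, T.downward_closed hg _, hY i⟩ :
      {a : Σ W : C, W ⟶ V // T a.2 ∧ a.1 ∈ B})⟩, (Category.assoc _ _ _).symm⟩
  · have hp : p ((k : ℤ) - n - 1) < k := by
      rcases (show (k : ℤ) - n - 1 = j - 1 ∨ (k : ℤ) - n - 1 = j ∨ (k : ℤ) - n - 1 = j + 1 by lia) with e | e | e <;>
        rw [e] <;> lia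
    have := h a.1.1 a.2.2 ((k : ℤ) - n - 1) k hp
    rwa [show (k : ℤ) - n - 1 - k = -(n : ℤ) - 1 by lia] at this

end Groth.Agent.S9042
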