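import Groth.Statements.S9047
import Groth.Agent.SitesTopoi.Mod.SumAcyclic
import Groth.Agent.SitesTopoi.AcyclicHom
import Groth.Agent.SiteCohomology.ModulesGrothendieck

set_option autoImplicit false
universe u
open CategoryTheory CategoryTheory.Limits Opposite
open ModSite

namespace Groth.Agent.S9047

/-- Let (C, O) be a ringed site with fibre products, B a class of objects and Cov a class of finite
covering families such that (1) for a family in Cov over U, U and all iterated fibre products of its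
members lie in B, and (2) every covering sieve of a member of B contains a family from Cov. Then for
U in B the module j_{U!} O_U behaves as a compact object of D^+(O), meaning: for every family (M_i)
of objects of D(O) which is uniformly bounded below and whose direct sum exists, ⊕_i Hom(j_{U!} O_U,
M_i) → Hom(j_{U!} O_U, ⊕_i M_i) is bijective. The derived category of O-modules is an instance
hypothesis. -/
theorem result
    {C : Type u} [SmallCategory C] [HasPullbacks C] {J : GrothendieckTopology C} (O : Sheaf J CommRingCat.{u})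
    (B : Set C) (Cov : ∀ (U : C) (ι : Type u), (ι → Over U) → Prop)
    (h1 : ∀ (U : C) (ι : Type u) (Y : ι → Over U), Cov U ι Y → Finite ι ∧ U ∈ B ∧
      Sieve.ofArrows (fun i => (Y i).left) (fun i => (Y i).hom) ∈ J U ∧
      ∀ (p : ℕ) (a : Fin (p + 1) → ι), (∏ᶜ fun k => Y (a k)).left ∈ B)
    (h2 : ∀ U ∈ B, ∀ T ∈ J U, ∃ (ι : Type u) (Y : ι → Over U), Cov U ι Y ∧ ∀ i, T.arrows (Y i).hom)
    [HasDerivedCategory.{u} (ModSite.Mod O)]
    (U : C) (hU : U ∈ B) {I : Type u} (M : I → DerivedCategory (ModSite.Mod O)) [HasCoproduct M]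
    (a : ℤ) (hM : ∀ i, (M i).IsGE a) :
    Function.Bijective (CohDer.homSumToHomCoprod
      ((DerivedCategory.singleFunctor (ModSite.Mod O) 0).obj (ModSite.freeOn O U)) M) := by
  have : HasCoproducts.{u} (ModSite.Mod O) := fun _ => inferInstance
  have : HasCoproducts.{u} (DerivedCategory (ModSite.Mod O)) := Groth.DerivedCoh.KInjRes.hasCoproducts
  have hex : ∀ i, ∃ (K : CochainComplex (ModSite.Mod O) ℤ), K.IsStrictlyGE a ∧ (∀ n, Injective (K.X n)) ∧
      Nonempty (DerivedCategory.Q.obj K ≅ M i) := fun i => by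
    have := hM i
    obtain ⟨L, hL, ⟨e⟩⟩ := DerivedCategory.exists_iso_Q_obj_of_isGE (M i) a
    obtain ⟨K, f, hf, hI, hK⟩ := CochainComplex.Plus.modelCategoryQuillen.exists_quasiIso_injective L a
    have : IsIso (DerivedCategory.Q.map f) := (DerivedCategory.isIso_Q_map_iff_quasiIso _ f).2 hf
    exact ⟨K, hK, hI, ⟨(asIso (DerivedCategory.Q.map f)).symm ≪≫ e.symm⟩⟩
  choose K hK hI e using hex
  let ε := fun n : ℤ => (isColimitCofanMkObjOfIsColimit
    (HomologicalComplex.eval (ModSite.Mod O) (ComplexShape.up ℤ) n) _ _ (coproductIsCoproduct K))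
  have hext : ∀ (n : ℤ) (q : ℕ), Subsingleton (Abelian.Ext (ModSite.freeOn O U) ((∐ K).X n) (q + 1)) := fun n q => by
    let η : (∐ fun i => (K i).X n) ≅ (∐ K).X n :=
      (coproductIsCoproduct fun i => (K i).X n).coconePointUniqueUpToIso (ε n)
    have := Groth.SitesTopoi.SumAcyclic.subsingleton_ext_freeOn B
      (fun V hV q => Groth.SitesTopoi.SumAcyclic.subsingleton_HU_sigma B Cov h1 h2 (fun i => (K i).X n) (fun i => hI i n) hV q) hU q
    refine subsingleton_of_forall_eq 0 fun x => ?_
    rw [← Abelian.Ext.comp_mk₀_id x, ← η.inv_hom_id, ← Abelian.Ext.mk₀_comp_mk₀,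
      ← Abelian.Ext.comp_assoc_of_third_deg_zero,
      Subsingleton.elim (x.comp (Abelian.Ext.mk₀ η.inv) (add_zero _)) 0, Abelian.Ext.zero_comp]
  have : (∐ K).IsStrictlyGE a := by
    rw [CochainComplex.isStrictlyGE_iff]
    intro n hn
    rw [IsZero.iff_id_eq_zero]
    exact Cofan.IsColimit.hom_ext (ε n) _ _ fun i => ((K i).isZero_of_isStrictlyGE a n hn).eq_of_src _ _
  refine Groth.SitesTopoi.ProjCompact.bijective_homSum_of_reps (ModSite.freeOn O U) M K (fun i => (e i).some)
    (Groth.SitesTopoi.AcyclicHom.Q_map_surjective_of_acyclic (ModSite.freeOn O U) (∐ K) a hext) fun T X z => ?_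
  obtain ⟨S, t, et⟩ := Groth.SitesTopoi.QcSum.exists_finset_sum X
    (Groth.SitesTopoi.SumAcyclic.isQcObject_of_mem B Cov h1 h2 hU) (Groth.Misc4.FreeOn.homEquiv U _ z)
  refine ⟨S, fun i => (Groth.Misc4.FreeOn.homEquiv U _).symm (t i),
    (Groth.Misc4.FreeOn.homEquiv U _).injective (et.trans ?_)⟩
  let φ : (ModSite.freeOn O U ⟶ ∐ X) →+ _ :=
    AddMonoidHom.mk' (Groth.Misc4.FreeOn.homEquiv U (∐ X)) fun a b => rfl
  refine Eq.trans (Finset.sum_congr rfl fun i _ => ?_) (map_sum φ _ _).symm
  exact ((Groth.Misc4.FreeOn.homEquiv_comp U _ _).trans (by rw [Equiv.apply_symm_apply])).symm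

end Groth.Agent.S9047
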