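import Groth.Statements.S9056
import Groth.Agent.SitesTopoi.Mod.KFlat

set_option autoImplicit false
universe u
open CategoryTheory CategoryTheory.Limits Opposite
attribute [local instance] HasDerivedCategory.standard
open ModSite

namespace Groth.Agent.S9056

/-- On a ringed site (C, O), in a distinguished triangle of K(Mod(O)), if two of the three complexes are
K-flat then so is the third. Distinguished triangles are represented here by mapping cones: for a
morphism φ : K₁ → K₂ of complexes of O-modules with mapping cone C(φ), each of the three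
two-out-of-three implications among K₁, K₂, C(φ) holds. -/
theorem result
    {C : Type u} [SmallCategory C] {J : GrothendieckTopology C} (O : Sheaf J CommRingCat.{u})
    {K₁ K₂ : CochainComplex (ModSite.Mod O) ℤ} (φ : K₁ ⟶ K₂) :
    (ModSite.IsKFlat K₁ → ModSite.IsKFlat K₂ → ModSite.IsKFlat (CochainComplex.mappingCone φ)) ∧
    (ModSite.IsKFlat K₁ → ModSite.IsKFlat (CochainComplex.mappingCone φ) → ModSite.IsKFlat K₂) ∧
    (ModSite.IsKFlat K₂ → ModSite.IsKFlat (CochainComplex.mappingCone φ) → ModSite.IsKFlat K₁) := by
  open Groth.SitesTopoi.KFlatSite Groth.DerivedCoh in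
    simp only [isKFlat_iff]
    have h := KFlat.isKFlat_two_of_three (T O) (KFlat.coneSC φ) fun Y q =>
      ((KFlat.coneSplitting φ q).map ((T O).obj Y)).shortExact
    refine ⟨fun h₁ h₂ => KFlat.IsKFlat.mappingCone (T O) φ h₁ h₂, fun h₁ hc => h.2.2 hc (h₁.shift (T O) 1), fun h₂ hc => ?_⟩
    exact ((h.1 h₂ hc).shift (T O) (-1)).of_iso ((shiftFunctorCompIsoId _ (1 : ℤ) (-1) (by norm_num)).app K₁)

end Groth.Agent.S9056
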