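import Groth.Statements.S9061
import Groth.Agent.SitesTopoi.Mod.KFlat

set_option autoImplicit false
universe u
open CategoryTheory CategoryTheory.Limits Opposite
attribute [local instance] HasDerivedCategory.standard
open ModSite

namespace Groth.Agent.S9061

/-- On a ringed site (C, O), let a : K → L be a map of complexes of O-modules with K K-flat. Then there
exist a K-flat complex N and maps b : K → N, c : N → L such that c is a quasi-isomorphism and a is
homotopic to c ∘ b. If the terms of K are flat, then N may moreover be chosen with flat terms. -/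
theorem result
    {C : Type u} [SmallCategory C] {J : GrothendieckTopology C} (O : Sheaf J CommRingCat.{u})
    {K L : CochainComplex (ModSite.Mod O) ℤ} (a : K ⟶ L) (hK : ModSite.IsKFlat K) :
    ∃ (N : CochainComplex (ModSite.Mod O) ℤ) (b : K ⟶ N) (c : N ⟶ L), ModSite.IsKFlat N ∧ QuasiIso c ∧
      Nonempty (Homotopy a (b ≫ c)) ∧
      ((∀ n : ℤ, ModSite.IsFlat (K.X n)) → ∀ n : ℤ, ModSite.IsFlat (N.X n)) := by
  open Groth.SitesTopoi.KFlatSite Groth.DerivedCoh in
    obtain ⟨M, φ, b, c, hc, hbc⟩ := KFlat.exists_factor (resolution O) (resolutionAug O) resolution_quasiIso resolution_epi a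
    refine ⟨_, b, c, (isKFlat_iff _).2 (KFlat.IsKFlat.mappingCone (T O) φ (resolution_isKFlat M)
      (KFlat.IsKFlat.biprod (T O) ((isKFlat_iff K).1 hK) (resolution_isKFlat L))), hc, ⟨Homotopy.ofEq hbc.symm⟩, fun hK' n => ?_⟩
    exact KFlat.prop_mappingCone φ ModSite.IsFlat (fun e h => Groth.SitesTopoi.ModH.isFlat_of_iso e h) isFlat_biprod
      (resolution_isFlat M)
      (fun n => Groth.SitesTopoi.ModH.isFlat_of_iso (HomologicalComplex.biprodXIso _ _ n).symm (isFlat_biprod (hK' n) (resolution_isFlat L n))) n

end Groth.Agent.S9061
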