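import Groth.Statements.S9065
import Groth.Agent.Misc4.RlimTrunc
import Groth.Agent.Misc4.RFBounded
import Groth.Agent.S9076

set_option autoImplicit false
universe u
open CategoryTheory CategoryTheory.Limits Opposite
attribute [local instance] HasDerivedCategory.standard
open SiteCmp

set_option backward.isDefEq.respectTransparency false
set_option maxHeartbeats 1000000
set_option synthInstance.maxHeartbeats 400000

namespace Groth.Agent.S9065

/-- Let f be a morphism from the ringed site (C, O_C) to the ringed site (D, O_D), A ⊂ Mod(O_C) and A' ⊂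
Mod(O_D) weak Serre subcategories and N an integer such that (1) C, O_C, A and (2) D, O_D, A' each
admit a set of objects covering everything, every member V of which has an integer d_V and a cofinal
system of coverings {V_i → V} with H^p(V_i, F) = 0 for F in the subcategory and p > d_V; (3) R^p f_*
F ∈ A' for p ≥ 0 and F ∈ A; (4) R^p f_* F = 0 for p > N and F ∈ A. Then for K in D_A(O_C): (a) Rf_*K
lies in D_{A'}(O_D), and (b) H^j(Rf_*K) → H^j(Rf_*(τ_{≥ -n}K)) is an isomorphism for j ≥ N - n.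
Stated for morphisms of ringed sites (the published statement is for ringed topoi); Rf_* is the
unbounded total derived direct image, under its existence binder, and R^p f_* the right derived
functors of f_*. -/
theorem result
    {C : Type u} [SmallCategory C] {J : GrothendieckTopology C} {O_C : Sheaf J CommRingCat.{u}}
    {D : Type u} [SmallCategory D] {K : GrothendieckTopology D} {O_D : Sheaf K CommRingCat.{u}}
    (f : ModSite.RMor O_C O_D) [HasInjectiveResolutions (ModSite.Mod O_C)] [SiteCmp.HasRpushD f]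
    (A : ObjectProperty (ModSite.Mod O_C)) [WSerre.IsWeakSerre A]
    (A' : ObjectProperty (ModSite.Mod O_D)) [WSerre.IsWeakSerre A']
    (B : Set C) (B' : Set D)
    (hB : ∀ U : C, ∃ (ι : Type u) (Y : ι → C) (g : ∀ i, Y i ⟶ U), Sieve.ofArrows Y g ∈ J U ∧ ∀ i, Y i ∈ B)
    (hA : ∀ V ∈ B, ∃ d : ℕ, ∀ T ∈ J V, ∃ (ι : Type u) (Y : ι → C) (g : ∀ i, Y i ⟶ V),
      (∀ i, T.arrows (g i)) ∧ Sieve.ofArrows Y g ∈ J V ∧
      ∀ (i : ι) (F : ModSite.Mod O_C), A F → ∀ k : ℕ, d < k → Subsingleton (ModSite.HU O_C F k (Y i)))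
    (hB' : ∀ U : D, ∃ (ι : Type u) (Y : ι → D) (g : ∀ i, Y i ⟶ U), Sieve.ofArrows Y g ∈ K U ∧ ∀ i, Y i ∈ B')
    (hA' : ∀ V ∈ B', ∃ d : ℕ, ∀ T ∈ K V, ∃ (ι : Type u) (Y : ι → D) (g : ∀ i, Y i ⟶ V),
      (∀ i, T.arrows (g i)) ∧ Sieve.ofArrows Y g ∈ K V ∧
      ∀ (i : ι) (F : ModSite.Mod O_D), A' F → ∀ k : ℕ, d < k → Subsingleton (ModSite.HU O_D F k (Y i)))
    (N : ℤ)
    (h3 : ∀ F : ModSite.Mod O_C, A F → ∀ p : ℕ, A' ((f.Rpush p).obj F))
    (h4 : ∀ F : ModSite.Mod O_C, A F → ∀ p : ℕ, N < (p : ℤ) → IsZero ((f.Rpush p).obj F))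
    (X : DerivedCategory (ModSite.Mod O_C)) (hX : WSerre.cohIn A X) :
    WSerre.cohIn A' ((SiteCmp.RpushD f).obj X) ∧
      ∀ (n : ℕ) (j : ℤ), N - (n : ℤ) ≤ j →
        IsIso ((DerivedCategory.homologyFunctor (ModSite.Mod O_D) j).map
          ((SiteCmp.RpushD f).map ((DerivedCategory.TStructure.t.truncGEπ (-(n : ℤ))).app X))) := by
  let R := SiteCmp.RpushD f
  let β := (SiteCmp.pushKh f).totalRightDerivedUnit DerivedCategory.Qh
      (HomotopyCategory.quasiIso (ModSite.Mod O_C) (ComplexShape.up ℤ))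
  have hprod : ∀ {C' : Type u} [SmallCategory C'] {J' : GrothendieckTopology C'} (O : Sheaf J' CommRingCat.{u})
      (E : ℕ → DerivedCategory (ModSite.Mod O)), HasProduct E := fun O E => by
    have := Groth.DerivedCoh.KInjRes.hasProducts (A := ModSite.Mod O)
    have : HasLimitsOfShape (Discrete ℕ) (DerivedCategory (ModSite.Mod O)) :=
      hasLimitsOfShape_of_equivalence (Discrete.equivalence (Equiv.ulift.{u} (α := ℕ)))
    infer_instance
  have := hprod O_C (CohCx.truncTower X)
  have := hprod O_D (fun n => R.obj (CohCx.truncTower X n))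
  have hcoh : ∀ (E : DerivedCategory (ModSite.Mod O_C)) (a : ℤ), E.IsGE a → WSerre.cohIn A E →
      WSerre.cohInPlus A' (R.obj E) := fun E a ha hE =>
    ⟨Groth.Misc4.RFBounded.cohIn_obj f.push R β A A' h3 E a hE,
      a, Groth.Misc4.RFBounded.isGE_obj f.push R β E a⟩
  -- the truncations
  have htr : ∀ n : ℕ, WSerre.cohIn A (CohCx.truncTower X n) := fun n q => by
    by_cases hq : -(n : ℤ) ≤ q
    · have := Groth.Misc4.RlimTrunc.isIso_homology_toTrunc X n q hq
      exact A.prop_of_iso (asIso ((DerivedCategory.homologyFunctor _ q).map (CohCx.toTruncTower X n))) (hX q)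
    · have : (CohCx.truncTower X n).IsGE (-(n : ℤ)) :=
        inferInstanceAs (DerivedCategory.TStructure.t.IsGE _ _)
      exact A.prop_of_isZero ((CohCx.truncTower X n).isZero_of_isGE (-(n : ℤ)) q (by lia))
  have hK : ∀ n : ℕ, WSerre.cohInPlus A' (R.obj (CohCx.truncTower X n)) := fun n =>
    hcoh _ (-(n : ℤ)) (inferInstanceAs (DerivedCategory.TStructure.t.IsGE _ _)) (htr n)
  -- constancy of the system of direct images
  have hconst : ∀ (j : ℤ) (n : ℕ), N - (n : ℤ) ≤ j →
      IsIso ((DerivedCategory.homologyFunctor (ModSite.Mod O_D) j).map (R.map (CohCx.truncTowerMap X n))) := by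
    intro j n hn
    obtain ⟨Z, g, δ', hT⟩ := Pretriangulated.distinguished_cocone_triangle (CohCx.truncTowerMap X n)
    obtain ⟨hzero, ⟨ez⟩⟩ := Groth.Misc4.RlimTrunc.cone_spec X n hT
    have : Z.IsGE (-(n : ℤ) - 2) := (DerivedCategory.isGE_iff Z _).2 fun i hi => hzero i (by lia)
    have : Z.IsLE (-(n : ℤ) - 2) := (DerivedCategory.isLE_iff Z _).2 fun i hi => hzero i (by lia)
    obtain ⟨F, ⟨e⟩⟩ := DerivedCategory.exists_iso_singleFunctor_obj_of_isGE_of_isLE Z (-(n : ℤ) - 2)
    have hF : A F := A.prop_of_iso (ez.symm ≪≫ (DerivedCategory.homologyFunctor _ _).mapIso e ≪≫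
      (DerivedCategory.singleFunctorCompHomologyFunctorIso _ _).app F) (hX _)
    have hz : ∀ i : ℤ, -(n : ℤ) - 2 + N < i →
        IsZero ((DerivedCategory.homologyFunctor (ModSite.Mod O_D) i).obj (R.obj Z)) := fun i hi => by
      refine IsZero.of_iso ?_ ((DerivedCategory.homologyFunctor _ i).mapIso (R.mapIso e))
      by_cases h0 : i < -(n : ℤ) - 2
      · have := Groth.Misc4.RFBounded.isGE_obj f.push R β
          ((DerivedCategory.singleFunctor _ (-(n : ℤ) - 2)).obj F) (-(n : ℤ) - 2)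
        exact DerivedCategory.isZero_of_isGE _ (-(n : ℤ) - 2) i h0
      · obtain ⟨e'⟩ := Groth.Misc4.RFBounded.nonempty_homology_single f.push R β F (-(n : ℤ) - 2) i
          (i - (-(n : ℤ) - 2)).toNat (by lia)
        exact (h4 F hF _ (by lia)).of_iso e'
    obtain ⟨δ'', hT'⟩ := Groth.DAlg.RFTriangle.exists_distinguished f.push R β _ hT
    have : Epi ((DerivedCategory.homologyFunctor (ModSite.Mod O_D) j).map (R.map (CohCx.truncTowerMap X n))) :=
      (DerivedCategory.HomologySequence.epi_homologyMap_mor₁_iff _ hT' j).2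
        ((hz j (by lia)).eq_of_tgt _ _)
    have : Mono ((DerivedCategory.homologyFunctor (ModSite.Mod O_D) j).map (R.map (CohCx.truncTowerMap X n))) :=
      (DerivedCategory.HomologySequence.mono_homologyMap_mor₁_iff _ hT' (j - 1) j (by lia)).2
        ((hz (j - 1) (by lia)).eq_of_src _ _)
    exact isIso_of_mono_of_epi _
  -- derived limits
  have hXl := Groth.Misc4.RlimTrunc.isRlimVia_truncTower X B hB fun V hV j => by
    obtain ⟨d, hd⟩ := hA V hV
    refine ⟨((d : ℤ) - j + 1).toNat, fun T hT => ?_⟩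
    obtain ⟨ι, Y, g, hgT, hg, hv⟩ := hd T hT
    exact ⟨ι, Y, g, hgT, hg, fun i n k hn h1 h2 => hv i _ (hX _) k (by lia)⟩
  have hRl := Groth.Agent.S9076.result f (CohCx.truncTower X) (CohCx.truncTowerMap X) X
    (CohCx.toTruncTower X) hXl
  have hmain : ∀ (n : ℕ) (j : ℤ), N - (n : ℤ) ≤ j →
      IsIso ((DerivedCategory.homologyFunctor (ModSite.Mod O_D) j).map (R.map (CohCx.toTruncTower X n))) := by
    intro n j hn
    obtain ⟨n₀, h₀⟩ := Groth.Misc4.RlimSite.isIso_homology A' B' hB' (fun V hV => by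
        obtain ⟨d, hd⟩ := hA' V hV
        refine ⟨d, fun T hT => ?_⟩
        obtain ⟨ι, Y, g, hgT, hg, hv⟩ := hd T hT
        exact ⟨ι, Y, g, hgT, hg, fun i F hF k hk => hv i F hF k hk⟩)
      (fun m => R.obj (CohCx.truncTower X m)) (fun m => R.map (CohCx.truncTowerMap X m)) hK
      (fun i => ⟨(N - i).toNat, fun m hm => hconst i m (by lia)⟩) _ _ hRl j
    obtain ⟨τ, hτ, _⟩ := Groth.Misc4.RlimSite.exists_trans (Groth.Misc4.RlimEventual.compat hRl) j n
      (fun m hm => hconst j m (by lia)) n (max n n₀) le_rfl (le_max_left _ _)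
    have := h₀ (max n n₀) (le_max_right _ _)
    rw [← hτ, Functor.map_comp]
    infer_instance
  refine ⟨fun j => ?_, hmain⟩
  have := hmain (N - j).toNat j (by lia)
  exact A'.prop_of_iso (asIso ((DerivedCategory.homologyFunctor (ModSite.Mod O_D) j).map
    (R.map (CohCx.toTruncTower X (N - j).toNat)))).symm ((hK (N - j).toNat).1 j)

end Groth.Agent.S9065
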