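import Groth.Statements.S9066
import Groth.Agent.Misc4.RpushTrunc

set_option autoImplicit false
universe u
open CategoryTheory CategoryTheory.Limits Opposite
attribute [local instance] HasDerivedCategory.standard
open SiteCmp

namespace Groth.Agent.S9066

/-- Let f be a morphism from the ringed site (C, O_C) to the ringed site (D, O_D) with underlying
continuous functor u : D → C, A ⊂ Mod(O_C) a weak Serre subcategory and N an integer such that (1)
C, O_C, A admit a set B of objects covering everything, every V ∈ B having an integer d_V and a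
cofinal system of coverings {V_i → V} with H^p(V_i, F) = 0 for F ∈ A and p > d_V; (2) there is a set
B' of objects of D covering everything, every V' ∈ B' having an integer d_{V'} and a cofinal system
of coverings {V'_i → V'} with H^p(u(V'_i), F) = 0 for F ∈ A and p > d_{V'}; (3) R^p f_* F = 0 for p
> N and F ∈ A. Then for K in D_A(O_C) the map H^j(Rf_*K) → H^j(Rf_*(τ_{≥ -n}K)) is an isomorphism
for j ≥ N - n. Rf_* is the unbounded total derived direct image under its existence binder and R^p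
f_* the right derived functors of f_*. -/
theorem result
    {C : Type u} [SmallCategory C] {J : GrothendieckTopology C} {O_C : Sheaf J CommRingCat.{u}}
    {D : Type u} [SmallCategory D] {K : GrothendieckTopology D} {O_D : Sheaf K CommRingCat.{u}}
    (f : ModSite.RMor O_C O_D) [HasInjectiveResolutions (ModSite.Mod O_C)] [SiteCmp.HasRpushD f]
    (A : ObjectProperty (ModSite.Mod O_C)) [WSerre.IsWeakSerre A]
    (B : Set C) (B' : Set D)
    (hB : ∀ U : C, ∃ (ι : Type u) (Y : ι → C) (g : ∀ i, Y i ⟶ U), Sieve.ofArrows Y g ∈ J U ∧ ∀ i, Y i ∈ B)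
    (hA : ∀ V ∈ B, ∃ d : ℕ, ∀ T ∈ J V, ∃ (ι : Type u) (Y : ι → C) (g : ∀ i, Y i ⟶ V),
      (∀ i, T.arrows (g i)) ∧ Sieve.ofArrows Y g ∈ J V ∧
      ∀ (i : ι) (F : ModSite.Mod O_C), A F → ∀ k : ℕ, d < k → Subsingleton (ModSite.HU O_C F k (Y i)))
    (hB' : ∀ U : D, ∃ (ι : Type u) (Y : ι → D) (g : ∀ i, Y i ⟶ U), Sieve.ofArrows Y g ∈ K U ∧ ∀ i, Y i ∈ B')
    (hA' : ∀ V ∈ B', ∃ d : ℕ, ∀ T ∈ K V, ∃ (ι : Type u) (Y : ι → D) (g : ∀ i, Y i ⟶ V),
      (∀ i, T.arrows (g i)) ∧ Sieve.ofArrows Y g ∈ K V ∧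
      ∀ (i : ι) (F : ModSite.Mod O_C), A F → ∀ k : ℕ, d < k → Subsingleton (ModSite.HU O_C F k (f.fn.obj (Y i))))
    (N : ℤ)
    (h3 : ∀ F : ModSite.Mod O_C, A F → ∀ p : ℕ, N < (p : ℤ) → IsZero ((f.Rpush p).obj F))
    (X : DerivedCategory (ModSite.Mod O_C)) (hX : WSerre.cohIn A X) (n : ℕ) (j : ℤ) (hj : N - (n : ℤ) ≤ j) :
    IsIso ((DerivedCategory.homologyFunctor (ModSite.Mod O_D) j).map
      ((SiteCmp.RpushD f).map ((DerivedCategory.TStructure.t.truncGEπ (-(n : ℤ))).app X))) := by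
  exact Groth.Misc4.RpushTrunc.isIso_homology_upstairs X A f B B' hB hA hB' hA' N h3 hX n j hj

end Groth.Agent.S9066
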