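import Groth.Statements.S9067
import Groth.Agent.DerivedAdj.Devissage

set_option autoImplicit false
universe u
open CategoryTheory CategoryTheory.Limits Opposite
attribute [local instance] HasDerivedCategory.standard
open SiteCmp

namespace Groth.Agent.S9067

/-- Let f be a flat morphism from the ringed site (C, O_C) to the ringed site (D, O_D) and K a bounded
below object of D(O_C) such that f^*Rf_*H^q(K) → H^q(K) is an isomorphism for every q. Then f^*Rf_*K
→ K is an isomorphism. Here f^* is exact, so it is its own derived functor; the maps are the counits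
of an adjunction f^* ⊣ Rf_* on the unbounded derived categories, taken as a hypothesis (whether a
counit component is an isomorphism does not depend on the adjunction chosen). Stated for ringed
sites; the published statement is for ringed topoi. -/
theorem result
    {C : Type u} [SmallCategory C] {J : GrothendieckTopology C} {O_C : Sheaf J CommRingCat.{u}}
    {D : Type u} [SmallCategory D] {K : GrothendieckTopology D} {O_D : Sheaf K CommRingCat.{u}}
    (f : ModSite.RMor O_C O_D) [PreservesFiniteLimits f.pull] [SiteCmp.HasRpushD f]
    (adj : SiteCmp.pullD f ⊣ SiteCmp.RpushD f)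
    (X : DerivedCategory (ModSite.Mod O_C)) (n₀ : ℤ) (hX : DerivedCategory.TStructure.t.IsGE X n₀)
    (h3 : ∀ q : ℤ, IsIso (adj.counit.app (SiteCmp.inD O_C (SiteCmp.HMod X q)))) :
    IsIso (adj.counit.app X) := by
  letI := adj.rightAdjointCommShift ℤ
  haveI := adj.commShift_of_leftAdjoint ℤ
  haveI : (SiteCmp.RpushD f).IsTriangulated := adj.isTriangulated_rightAdjoint
  have hR := Groth.DerivedAdj.leftExact_rightAdjoint f.pull (SiteCmp.RpushD f) adj
  have hL := Groth.DerivedAdj.leftExact_mapDerivedCategory f.pull
  exact Groth.DerivedAdj.isIso_app_of_isGE adj.counit (fun Z n hZ => hL _ n (hR Z n hZ))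
    Groth.DerivedAdj.LeftExact.id X n₀ h3

end Groth.Agent.S9067
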