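import Groth.Statements.S9071
import Groth.Agent.Misc4.EpsPush

set_option autoImplicit false
universe u
open CategoryTheory CategoryTheory.Limits Opposite
attribute [local instance] HasDerivedCategory.standard
open SiteCmp

namespace Groth.Agent.S9071

/-- Let τ' be a coarser topology than τ on a category C, O a τ-sheaf of rings and ε the comparison
morphism from (C_τ, O) to (C_τ', O). Let B be a set of objects and A a full subcategory of
presheaves of O-modules such that (1) every object of A is a τ-sheaf, (2) A forms a weak Serre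
subcategory inside Mod(O_τ), (3) each object of C admits a τ'-covering by members of B, and (4)
H^p_τ(U, F) = 0 for U ∈ B, F ∈ A, p > 0. Then the essential image of A under ε_* forms a weak Serre
subcategory inside Mod(O_τ') and ε^*, Rε_* are quasi-inverse equivalences between D_A(O_τ') and
D_A(O_τ): on objects with cohomology sheaves in the respective subcategory, ε^* and Rε_* preserve
that condition and the unit and counit are isomorphisms. In the order of topologies used here the
finer topology τ is the larger one, J, and τ' is J' ≤ J; A is given as a property of τ-sheaves of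
modules (condition (1) built in); flatness of ε, existence of the unbounded Rε_* and an adjunction
ε^* ⊣ Rε_* are hypotheses. -/
theorem result
    {C : Type u} [SmallCategory C] {J J' : GrothendieckTopology C} (h : J' ≤ J) (O : Sheaf J CommRingCat.{u})
    [PreservesFiniteLimits (SiteCmp.eps h O).pull] [SiteCmp.HasRpushD (SiteCmp.eps h O)]
    (adj : SiteCmp.pullD (SiteCmp.eps h O) ⊣ SiteCmp.RpushD (SiteCmp.eps h O))
    (A : ObjectProperty (ModSite.Mod O)) [WSerre.IsWeakSerre A] (B : Set C)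
    (h3 : ∀ U : C, ∃ (ι : Type u) (Y : ι → C) (g : ∀ i, Y i ⟶ U), Sieve.ofArrows Y g ∈ J' U ∧ ∀ i, Y i ∈ B)
    (h4 : ∀ U ∈ B, ∀ F : ModSite.Mod O, A F → ∀ p : ℕ, 0 < p → Subsingleton (ModSite.HU O F p U)) :
    WSerre.IsWeakSerre (A.map (SiteCmp.eps h O).push) ∧
    (∀ Y : DerivedCategory (ModSite.Mod (SiteCmp.epsRing h O)), WSerre.cohIn (A.map (SiteCmp.eps h O).push) Y →
      WSerre.cohIn A ((SiteCmp.pullD (SiteCmp.eps h O)).obj Y) ∧ IsIso (adj.unit.app Y)) ∧
    (∀ X : DerivedCategory (ModSite.Mod O), WSerre.cohIn A X →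
      WSerre.cohIn (A.map (SiteCmp.eps h O).push) ((SiteCmp.RpushD (SiteCmp.eps h O)).obj X) ∧
      IsIso (adj.counit.app X)) := by
  have hW := Groth.Misc4.EpsPush.isWeakSerre h A B h3 h4
  refine ⟨hW, ?_⟩
  let f := SiteCmp.eps h O
  have hu := Groth.Misc4.EpsPush.isIso_unit_inD h A B h3 h4 adj
  have h2a : ∀ F', A.map f.push F' → A (f.pull.obj F') := fun F' ⟨F, hF, ⟨e⟩⟩ =>
    A.prop_of_iso ((asIso (f.adj.counit.app F)).symm ≪≫ f.pull.mapIso e) hF
  have h2b : ∀ F' G', A.map f.push F' → A.map f.push G' →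
      Function.Bijective (fun φ : F' ⟶ G' => f.pull.map φ) := by
    intro F' G' _ hG
    obtain ⟨G, _, ⟨e⟩⟩ := hG
    have := Groth.Misc4.EpsPush.isIso_unit_of_iso h G' G e
    refine ⟨fun a b hab => ?_, fun ψ => ⟨f.adj.unit.app F' ≫ f.push.map ψ ≫ inv (f.adj.unit.app G'), ?_⟩⟩
    · have ha := f.adj.unit.naturality a
      have hb := f.adj.unit.naturality b
      rw [← cancel_mono (f.adj.unit.app G')]
      exact ha.trans ((congrArg (f.adj.unit.app F' ≫ f.push.map ·) hab).trans hb.symm)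
    · have hinv : f.pull.map (inv (f.adj.unit.app G')) = f.adj.counit.app (f.pull.obj G') := by
        rw [Functor.map_inv, IsIso.inv_eq_of_hom_inv_id]
        exact f.adj.left_triangle_components G'
      dsimp only
      rw [Functor.map_comp, Functor.map_comp, hinv]
      erw [f.adj.counit.naturality ψ]
      exact f.adj.left_triangle_components_assoc F' ψ
  have h2c : ∀ F, A F → ∃ F', A.map f.push F' ∧ Nonempty (f.pull.obj F' ≅ F) := fun F hF =>
    ⟨f.push.obj F, A.prop_map_obj _ hF, ⟨asIso (f.adj.counit.app F)⟩⟩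
  have : HasInjectiveResolutions (ModSite.Mod O) := inferInstance
  have hcof : ∀ (J₁ : GrothendieckTopology C), J' ≤ J₁ → ∀ V ∈ B, ∀ T ∈ J₁ V, ∃ (ι : Type u) (Y : ι → C)
      (g : ∀ i, Y i ⟶ V), (∀ i, T.arrows (g i)) ∧ Sieve.ofArrows Y g ∈ J₁ V ∧ ∀ i, Y i ∈ B := by
    intro J₁ h₁ V hV T hT
    refine ⟨{a : Σ W : C, W ⟶ V // T a.2 ∧ a.1 ∈ B}, fun a => a.1.1, fun a => a.1.2, fun a => a.2.1, ?_,
      fun a => a.2.2⟩
    refine J₁.transitive hT _ fun W g hg => ?_
    obtain ⟨ι, Y, k, hk, hY⟩ := h3 W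
    refine J₁.superset_covering ?_ (h₁ W hk)
    rintro W' _ ⟨_, l, _, ⟨i⟩, rfl⟩
    exact ⟨_, l, k i ≫ g, ⟨(⟨⟨_, k i ≫ g⟩, T.downward_closed hg _, hY i⟩ :
      {a : Σ W : C, W ⟶ V // T a.2 ∧ a.1 ∈ B})⟩, (Category.assoc _ _ _).symm⟩
  refine Groth.Misc4.CdEquiv.equivalence f adj A (A.map f.push) h2a h2b h2c hu fun X hX n j hj => ?_
  exact Groth.Misc4.RpushTrunc.isIso_homology_upstairs X A f B B
    (fun U => by obtain ⟨ι, Y, g, hg, hY⟩ := h3 U; exact ⟨ι, Y, g, h U hg, hY⟩)
    (fun V hV => ⟨0, fun T hT => by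
      obtain ⟨ι, Y, g, hgT, hg, hY⟩ := hcof J h V hV T hT
      exact ⟨ι, Y, g, hgT, hg, fun i F hF k hk => h4 _ (hY i) F hF k hk⟩⟩)
    h3
    (fun V hV => ⟨0, fun T hT => by
      obtain ⟨ι, Y, g, hgT, hg, hY⟩ := hcof J' le_rfl V hV T hT
      exact ⟨ι, Y, g, hgT, hg, fun i F hF k hk => h4 _ (hY i) F hF k hk⟩⟩)
    0 (fun F hF p hp => (Groth.Misc4.CdEquiv.rpush_spec f adj A (A.map f.push) h2c hu F hF).2 p hp)
    hX n j (by lia)

end Groth.Agent.S9071
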