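import Groth.Statements.S9074
import Groth.Agent.Misc4.SiteCmpMain
import Groth.Agent.RDerLib.LES

set_option autoImplicit false
universe u
open CategoryTheory CategoryTheory.Limits Opposite
open SiteCmp

namespace Groth.Agent.S9074

/-- Setting (two topologies τ' coarser than τ on a category C, rendered as J' ≤ J with J the finer one;
for each object X the comparison morphism ε_X between the localised sites C_τ/X and C_τ'/X, whose
direct image ε_{X,*} regards a τ-sheaf as a τ'-sheaf): P is a class of arrows of C and for every X a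
weak Serre subcategory A'_X of the abelian τ'-sheaves on C/X is given, such that (1) arrows of P
admit all base changes and these stay in P; (2) restriction along any f : X → Y sends A'_Y into
A'_X; (3) members of A'_X satisfy the sheaf condition for τ; (4) for f : X → Y in P the higher
direct images R^i f_{τ',*} (right derived functors of the relocalisation pushforward on τ'-sheaves)
send A'_X into A'_Y for all i ≥ 0; (5) every τ-covering of any U is refined by a family obtained
from a τ'-covering {V_j → U}, single arrows W_j → V_j in P that are τ-coverings, and τ'-coverings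
{W_jk → W_j}. Write A_X for the abelian τ-sheaves F on C/X with ε_{X,*}F in A'_X. Then for every X
the subcategory A_X of the abelian τ-sheaves on C/X is a weak Serre subcategory. (The published
lemma also asserts that Rε_{X,*} is an equivalence from the bounded below derived category with
cohomology in A_X to that with cohomology in A'_X, with quasi-inverse ε_X^{-1}; that part is not
stated here.) -/
theorem result
    {C : Type u} [SmallCategory C] {J J' : GrothendieckTopology C} (h : J' ≤ J)
    (P : MorphismProperty C)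
    (A' : ∀ X : C, ObjectProperty (Sheaf (J'.over X) AddCommGrpCat.{u})) [∀ X : C, WSerre.IsWeakSerre (A' X)]
    (h1 : ∀ ⦃X Y : C⦄ (f : X ⟶ Y), P f → ∀ ⦃Y' : C⦄ (g : Y' ⟶ Y),
      ∃ (W : C) (p : W ⟶ Y') (q : W ⟶ X), IsPullback p q g f ∧ P p)
    (h2 : ∀ ⦃X Y : C⦄ (f : X ⟶ Y) (F' : Sheaf (J'.over Y) AddCommGrpCat.{u}), A' Y F' →
      A' X ((CohSite.push (J'.over Y) (J'.over X) (Over.map f)).obj F'))
    (h3 : ∀ (X : C) (F' : Sheaf (J'.over X) AddCommGrpCat.{u}), A' X F' → Presheaf.IsSheaf (J.over X) F'.obj)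
    (h4 : ∀ ⦃X Y : C⦄ (f : X ⟶ Y)
      [((Over.map f).sheafPushforwardCocontinuous AddCommGrpCat.{u} (J'.over X) (J'.over Y)).Additive],
      P f → ∀ (F' : Sheaf (J'.over X) AddCommGrpCat.{u}), A' X F' → ∀ i : ℕ,
        A' Y ((((Over.map f).sheafPushforwardCocontinuous AddCommGrpCat.{u} (J'.over X) (J'.over Y)).rightDerived i).obj F'))
    (h5 : ∀ (U : C) (S : Sieve U), S ∈ J U → ∃ (ι : Type u) (V : ι → C) (v : ∀ j, V j ⟶ U),
      Sieve.ofArrows V v ∈ J' U ∧ ∀ j, ∃ (W : C) (w : W ⟶ V j), P w ∧
        Sieve.ofArrows (fun _ : PUnit.{u + 1} => W) (fun _ => w) ∈ J (V j) ∧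
        ∃ (κ : Type u) (Wk : κ → C) (wk : ∀ k, Wk k ⟶ W), Sieve.ofArrows Wk wk ∈ J' W ∧
          ∀ k, S.arrows (wk k ≫ w ≫ v j))
    (X : C) :
    WSerre.IsWeakSerre ((A' X).inverseImage (SiteCmp.epsSh (SiteCmp.over_le h X) AddCommGrpCat.{u})) := by
  have S : Groth.Misc4.SiteCmpMain.Situation h P A' := ⟨inferInstance, h2, h3, fun _ _ f hf F hF i => h4 f hf F hF i⟩
  let E := SiteCmp.epsSh (SiteCmp.over_le h X) AddCommGrpCat.{u}
  let L := SiteCmp.epsShInv (SiteCmp.over_le h X) AddCommGrpCat.{u}
  let adj := Groth.Misc4.SiteCmpBase.epsAdj (SiteCmp.over_le h X)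
  exact
  { exists_zero := by
      obtain ⟨Z, hZ, hA⟩ := (A' X).exists_prop_of_containsZero
      refine ⟨L.obj Z, L.map_isZero hZ, ?_⟩
      exact (A' X).prop_of_iso (IsZero.iso hZ (E.map_isZero (L.map_isZero hZ))) hA
    kernels_le := by
      rintro _ ⟨φ, c, hc, ⟨h₁, h₂⟩⟩
      exact (A' X).prop_of_iso
        ((PreservesKernel.iso E φ).symm ≪≫ E.mapIso ((limit.isLimit _).conePointUniqueUpToIso hc))
        ((A' X).prop_kernel (E.map φ) h₁ h₂)
    cokernels_le := by
      rintro _ ⟨φ, c, hc, ⟨h₁, h₂⟩⟩
      have hC := (A' X).prop_cokernel (E.map φ) h₁ h₂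
      obtain ⟨a⟩ := Groth.Misc4.CmpStep.nonempty_iso_of_mem (A' X) adj (S.isIso_unit X) hC
      exact (A' X).prop_of_iso (a ≪≫ E.mapIso (PreservesCokernel.iso L (E.map φ) ≪≫
        cokernel.mapIso _ φ ((asIso adj.counit).app _) ((asIso adj.counit).app _) (adj.counit.naturality φ) ≪≫
        (colimit.isColimit _).coconePointUniqueUpToIso hc)) hC
    prop_X₂_of_shortExact := by
      intro T hT h₁ h₃
      obtain ⟨D⟩ := Groth.RDerLib.exists_derivedLES E
      have hv : IsZero ((E.rightDerived 1).obj T.X₁) := Groth.Misc4.SiteCmpMain.vn S h5 1 X T.X₁ h₁ 1 le_rfl le_rfl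
      have he : Epi ((E.rightDerived 0).map T.g) := (D.exact₃ T hT 0 1 rfl).epi_f (hv.eq_of_tgt _ _)
      have hmap : (T.map E).ShortExact :=
        { exact := hT.exact.map_of_mono_of_preservesKernel E hT.mono_f inferInstance
          mono_f := @Functor.map_mono _ _ _ _ E _ _ _ T.f hT.mono_f
          epi_g := by
            change Epi (E.map T.g)
            rw [← NatIso.naturality_1 E.rightDerivedZeroIsoSelf T.g]
            infer_instance }
      exact (A' X).prop_X₂_of_shortExact hmap h₁ h₃ }

end Groth.Agent.S9074
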