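import Groth.Statements.S9077
import Groth.Agent.Misc4.SiteCmpMain
import Groth.Agent.SiteCohomology.AcyclicImage

set_option autoImplicit false
universe u
open CategoryTheory CategoryTheory.Limits Opposite
open SiteCmp

namespace Groth.Agent.S9077

/-- Setting (two topologies τ' coarser than τ on a category C, rendered as J' ≤ J with J the finer one;
for each object X the comparison morphism ε_X between the localised sites C_τ/X and C_τ'/X, whose
direct image ε_{X,*} regards a τ-sheaf as a τ'-sheaf): P is a class of arrows of C and for every X a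
weak Serre subcategory A'_X of the abelian τ'-sheaves on C/X is given, such that (1) arrows of P
admit all base changes and these stay in P; (2) restriction along any f : X → Y sends A'_Y into
A'_X; (3) members of A'_X satisfy the sheaf condition for τ; (4) for f : X → Y in P the higher
direct images R^i f_{τ',*} (right derived functors of the relocalisation pushforward on τ'-sheaves)
send A'_X into A'_Y for all i ≥ 0; (5) every τ-covering of any U is refined by a family obtained
from a τ'-covering {V_j → U}, single arrows W_j → V_j in P that are τ-coverings, and τ'-coverings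
{W_jk → W_j}. Write A_X for the abelian τ-sheaves F on C/X with ε_{X,*}F in A'_X. Then for X in C
and F' in A'_X we have H^n_{τ'}(X, F') = H^n_τ(X, ε_X^{-1}F') for all n, where ε_X^{-1} is the left
adjoint of ε_{X,*} (τ-sheafification) and cohomology is taken over the final object of C/X. Only the
existence of an isomorphism of abelian groups is asserted (the comparison map is not named here);
part (2) of the published lemma, for bounded below complexes, is not stated. -/
theorem result
    {C : Type u} [SmallCategory C] {J J' : GrothendieckTopology C} (h : J' ≤ J)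
    (P : MorphismProperty C)
    (A' : ∀ X : C, ObjectProperty (Sheaf (J'.over X) AddCommGrpCat.{u})) [∀ X : C, WSerre.IsWeakSerre (A' X)]
    (h1 : ∀ ⦃X Y : C⦄ (f : X ⟶ Y), P f → ∀ ⦃Y' : C⦄ (g : Y' ⟶ Y),
      ∃ (W : C) (p : W ⟶ Y') (q : W ⟶ X), IsPullback p q g f ∧ P p)
    (h2 : ∀ ⦃X Y : C⦄ (f : X ⟶ Y) (F' : Sheaf (J'.over Y) AddCommGrpCat.{u}), A' Y F' →
      A' X ((CohSite.push (J'.over Y) (J'.over X) (Over.map f)).obj F'))
    (h3 : ∀ (X : C) (F' : Sheaf (J'.over X) AddCommGrpCat.{u}), A' X F' → Presheaf.IsSheaf (J.over X) F'.obj)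
    (h4 : ∀ ⦃X Y : C⦄ (f : X ⟶ Y)
      [((Over.map f).sheafPushforwardCocontinuous AddCommGrpCat.{u} (J'.over X) (J'.over Y)).Additive],
      P f → ∀ (F' : Sheaf (J'.over X) AddCommGrpCat.{u}), A' X F' → ∀ i : ℕ,
        A' Y ((((Over.map f).sheafPushforwardCocontinuous AddCommGrpCat.{u} (J'.over X) (J'.over Y)).rightDerived i).obj F'))
    (h5 : ∀ (U : C) (S : Sieve U), S ∈ J U → ∃ (ι : Type u) (V : ι → C) (v : ∀ j, V j ⟶ U),
      Sieve.ofArrows V v ∈ J' U ∧ ∀ j, ∃ (W : C) (w : W ⟶ V j), P w ∧
        Sieve.ofArrows (fun _ : PUnit.{u + 1} => W) (fun _ => w) ∈ J (V j) ∧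
        ∃ (κ : Type u) (Wk : κ → C) (wk : ∀ k, Wk k ⟶ W), Sieve.ofArrows Wk wk ∈ J' W ∧
          ∀ k, S.arrows (wk k ≫ w ≫ v j))
    (X : C) (F' : Sheaf (J'.over X) AddCommGrpCat.{u}) (hF' : A' X F') (n : ℕ) :
    Nonempty (CohSite.HU F' n (Over.mk (𝟙 X)) ≃+
      CohSite.HU ((SiteCmp.epsShInv (SiteCmp.over_le h X) AddCommGrpCat.{u}).obj F') n (Over.mk (𝟙 X))) := by
  have S : Groth.Misc4.SiteCmpMain.Situation h P A' := ⟨inferInstance, h2, h3, fun _ _ f hf F hF i => h4 f hf F hF i⟩
  haveI := SiteCmp.idContinuous (SiteCmp.over_le h X)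
  haveI := S.isIso_unit X F' hF'
  let η := asIso ((Groth.Misc4.SiteCmpBase.epsAdj (SiteCmp.over_le h X)).unit.app F')
  let G := (SiteCmp.epsShInv (SiteCmp.over_le h X) AddCommGrpCat.{u}).obj F'
  have hG : A' X ((SiteCmp.epsSh (SiteCmp.over_le h X) AddCommGrpCat.{u}).obj G) := (A' X).prop_of_iso η hF'
  obtain ⟨e⟩ := Groth.SiteCohomology.nonempty_HU_push_equiv (J.over X) (J'.over X) (𝟭 _)
    (fun I hI => @Groth.Misc4.SiteCmpBase.injective_eps _ _ _ _ (SiteCmp.over_le h X) I hI) G
    (fun k => Groth.Misc4.SiteCmpMain.vn S h5 (k + 1) X G hG (k + 1) (by omega) le_rfl) n (Over.mk (𝟙 X))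
  exact ⟨(((Sheaf.cohomologyPresheafFunctor.{u} (J'.over X) n).mapIso η).app (op (Over.mk (𝟙 X)))).addCommGroupIsoToAddEquiv.trans e⟩

end Groth.Agent.S9077
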