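import Groth.Statements.S9078
import Groth.Agent.Misc4.FreeCover
import Groth.Agent.DerivedCoh.KInj.Small

set_option autoImplicit false
universe u
open CategoryTheory CategoryTheory.Limits Opposite
attribute [local instance] HasDerivedCategory.standard
open ModSite

set_option backward.isDefEq.respectTransparency false

namespace Groth.Agent.S9078

open Groth.Misc4 in
/-- Let (C, O) be a ringed site and G a complex of O-modules. There is a commutative diagram of
complexes K_1 → K_2 → … over τ_{≤1}G → τ_{≤2}G → … such that (1) the vertical maps K_n → τ_{≤n}G are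
termwise surjective quasi-isomorphisms, (2) every K_n is bounded above with terms direct sums of
modules of the form j_{U!}O_U, (3) each K_n → K_{n+1} is split injective in every degree, with
cokernel in each degree a direct sum of modules j_{U!}O_U; moreover colim K_n → G is a
quasi-isomorphism. Here the system is indexed by n ≥ 0 with K_n mapping to τ_{≤ n+1}G, commutativity
of the diagram is expressed after composing with the inclusions τ_{≤ m}G → G, 'direct sum of modules
j_{U!}O_U' means isomorphic to a coproduct of such modules, and the map colim K_n → G is the one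
induced by the K_n → τ_{≤ n+1}G → G. -/
theorem result
    {C : Type u} [SmallCategory C] {J : GrothendieckTopology C} (O : Sheaf J CommRingCat.{u})
    (G : CochainComplex (ModSite.Mod O) ℤ) :
    ∃ (Kc : ℕ ⥤ CochainComplex (ModSite.Mod O) ℤ) (π : ∀ n : ℕ, Kc.obj n ⟶ G.truncLE ((n : ℤ) + 1)),
      (∀ n : ℕ, Kc.map (homOfLE (Nat.le_succ n)) ≫ π (n + 1) ≫ G.ιTruncLE (((n + 1 : ℕ) : ℤ) + 1) =
        π n ≫ G.ιTruncLE ((n : ℤ) + 1)) ∧
      (∀ n : ℕ, QuasiIso (π n) ∧ ∀ i : ℤ, Epi ((π n).f i)) ∧
      (∀ n : ℕ, ∃ b : ℤ, (Kc.obj n).IsStrictlyLE b) ∧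
      (∀ (n : ℕ) (i : ℤ), ∃ (ι : Type u) (U : ι → C),
        Nonempty ((Kc.obj n).X i ≅ ∐ fun j => ModSite.freeOn O (U j))) ∧
      (∀ (n : ℕ) (i : ℤ), ∃ r : (Kc.obj (n + 1)).X i ⟶ (Kc.obj n).X i,
        (Kc.map (homOfLE (Nat.le_succ n))).f i ≫ r = 𝟙 _ ∧
        ∃ (ι : Type u) (U : ι → C),
          Nonempty (cokernel ((Kc.map (homOfLE (Nat.le_succ n))).f i) ≅ ∐ fun j => ModSite.freeOn O (U j))) ∧
      ∃ c : colimit Kc ⟶ G, (∀ n : ℕ, colimit.ι Kc n ≫ c = π n ≫ G.ιTruncLE ((n : ℤ) + 1)) ∧ QuasiIso c := by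
  have := Groth.DerivedCoh.KInjSmall.hasExactColimitsOfShape_nat (A := ModSite.Mod O)
  let V := FreeCover.cover O
  have hstep : ∀ n : ℕ, (Telescope.system V G).map (homOfLE (Nat.le_succ n)) = Telescope.step V G n := fun n =>
    Functor.ofSequence_map_homOfLE_succ _ n
  refine ⟨Telescope.system V G, Telescope.proj V G, fun n => ?_, fun n => ?_,
    Telescope.isStrictlyLE_stage V G, fun n i => ?_, fun n i => ?_,
    Telescope.colimDesc V G, Telescope.ι_colimDesc V G, Telescope.quasiIso_colimDesc V G⟩
  · rw [hstep, ← Category.assoc, Telescope.proj_comm, Category.assoc, Telescope.stepTo_ι]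
  · have h := Telescope.proj_spec V G n
    have := h.2
    exact ⟨h.1, fun i => inferInstanceAs (Epi ((HomologicalComplex.eval _ _ i).map (Telescope.proj V G n)))⟩
  · exact Telescope.stage_X_prop V G FreeCover.IsFreeSum FreeCover.isFreeSum_cover
      (fun Y => FreeCover.isFreeSum_of_isZero) (fun e h => h.of_iso e) FreeCover.isFreeSum_sigma₀
      FreeCover.isFreeSum_biprod n i
  · rw [hstep]
    exact Telescope.step_f_spec V G FreeCover.IsFreeSum FreeCover.isFreeSum_cover
      (fun Y => FreeCover.isFreeSum_of_isZero) (fun e h => h.of_iso e) FreeCover.isFreeSum_sigma₀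
      FreeCover.isFreeSum_biprod n i

end Groth.Agent.S9078
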