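import Groth.Statements.S9089
-- import your own Groth.Agent.* helpers here

set_option autoImplicit false
universe u
open CategoryTheory Opposite
open ModSite

namespace Groth.Agent.S9089

/-- Part (1): ⇔ (2), for a ringed site (C, O) with C small and O a sheaf of commutative rings: the
following are equivalent. (1) For every object U and every section f of O over U there is a covering
sieve on U on each of whose arrows either f or 1 - f restricts to a unit. (2) For every object U,
every n ≥ 1 and all sections f₁, …, fₙ of O over U generating the unit ideal of O(U), there is a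
covering sieve on U on each of whose arrows some fᵢ restricts to a unit. -/
theorem result {C : Type u} [SmallCategory C] (J : GrothendieckTopology C)
    (O : Sheaf J CommRingCat.{u}) :
    (∀ (U : C) (f : O.obj.obj (op U)), ∃ S ∈ J U, ∀ ⦃V : C⦄ (g : V ⟶ U), S g →
        IsUnit ((O.obj.map g.op).hom f) ∨ IsUnit ((O.obj.map g.op).hom (1 - f))) ↔
    (∀ (U : C) (n : ℕ) (f : Fin n → O.obj.obj (op U)), 1 ≤ n → Ideal.span (Set.range f) = ⊤ →
        ∃ S ∈ J U, ∀ ⦃V : C⦄ (g : V ⟶ U), S g → ∃ i, IsUnit ((O.obj.map g.op).hom (f i))) := by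
  constructor
  · intro h U n f hn hspan
    obtain ⟨m, rfl⟩ : ∃ m, n = m + 1 := ⟨n - 1, by omega⟩
    obtain ⟨c, hc⟩ := Ideal.mem_span_range_iff_exists_fun.1 ((Ideal.eq_top_iff_one _).1 hspan)
    suffices key : ∀ (m : ℕ) (U : C) (e : Fin (m + 1) → O.obj.obj (op U)), IsUnit (∑ i, e i) →
        ∃ S ∈ J U, ∀ ⦃V : C⦄ (g : V ⟶ U), S g → ∃ i, IsUnit ((O.obj.map g.op).hom (e i)) by
      obtain ⟨S, hS, hS'⟩ := key m U (fun i => c i * f i) (by rw [hc]; exact isUnit_one)
      refine ⟨S, hS, fun V g hg => ?_⟩
      obtain ⟨i, hi⟩ := hS' g hg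
      rw [map_mul] at hi
      exact ⟨i, isUnit_of_mul_isUnit_right hi⟩
    intro m
    induction m with
    | zero => exact fun U e he => ⟨⊤, J.top_mem U, fun V g _ => ⟨0, by simpa using he.map (O.obj.map g.op).hom⟩⟩
    | succ m ih =>
      intro U e he
      obtain ⟨w, hw⟩ := he
      obtain ⟨S, hS, hS'⟩ := h U (↑w⁻¹ * e 0)
      choose T hT hT' using fun {V : C} (g : V ⟶ U) (hg : IsUnit ((O.obj.map g.op).hom (1 - ↑w⁻¹ * e 0))) =>
        ih V (fun i => (O.obj.map g.op).hom (e i.succ)) (by
          have e₁ : ∑ i : Fin (m + 1), (O.obj.map g.op).hom (e i.succ) =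
              (O.obj.map g.op).hom ((w : O.obj.obj (op U)) * (1 - ↑w⁻¹ * e 0)) := by
            rw [mul_sub, mul_one, ← mul_assoc, Units.mul_inv, one_mul, hw, ← map_sum, Fin.sum_univ_succ (f := e)]
            exact congrArg _ (add_sub_cancel_left _ _).symm
          rw [e₁, map_mul]
          exact ((Units.isUnit w).map _).mul hg)
      classical
      let R : ∀ ⦃V : C⦄ ⦃g : V ⟶ U⦄, S g → Sieve V := fun V g _ =>
        if hg : IsUnit ((O.obj.map g.op).hom (1 - ↑w⁻¹ * e 0)) then T g hg else ⊤
      refine ⟨Sieve.bind S R, J.bind_covering hS fun V g hg => ?_, ?_⟩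
      · by_cases h' : IsUnit ((O.obj.map g.op).hom (1 - ↑w⁻¹ * e 0))
        · simp only [R, dif_pos h']
          exact hT g h'
        · simp only [R, dif_neg h']
          exact J.top_mem V
      · rintro W _ ⟨V, k, g, hg, hk, rfl⟩
        by_cases h' : IsUnit ((O.obj.map g.op).hom (1 - ↑w⁻¹ * e 0))
        · simp only [R, dif_pos h'] at hk
          obtain ⟨i, hi⟩ := hT' g h' k hk
          exact ⟨i.succ, by rw [op_comp, Functor.map_comp]; exact hi⟩
        · have := (hS' g hg).resolve_right h'
          rw [map_mul] at this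
          exact ⟨0, by rw [op_comp, Functor.map_comp]; exact (isUnit_of_mul_isUnit_right this).map (O.obj.map k.op).hom⟩
  · intro h U f
    obtain ⟨S, hS, hS'⟩ := h U 2 ![f, 1 - f] (by omega) (by
      rw [Ideal.eq_top_iff_one, Ideal.mem_span_range_iff_exists_fun]
      exact ⟨![1, 1], by simp⟩)
    refine ⟨S, hS, fun V g hg => ?_⟩
    obtain ⟨i, hi⟩ := hS' g hg
    fin_cases i
    · exact Or.inl hi
    · exact Or.inr hi

end Groth.Agent.S9089
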