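import Groth.Statements.S9091
import Groth.Agent.SitesTopoi.Mod.Stalks

set_option autoImplicit false
universe u
open CategoryTheory Opposite
open ModSite

namespace Groth.Agent.S9091

/-- Part (2): ⇒ (1) when the site has enough points, for a ringed site (C, O) with C small and O a sheaf
of commutative rings: if at every point p of the site the stalk O_p is the zero ring or is local,
then for every object U and every section f of O over U there is a covering sieve on U on each of
whose arrows either f or 1 - f restricts to a unit. -/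
theorem result {C : Type u} [SmallCategory C] {J : GrothendieckTopology C}
    (O : Sheaf J CommRingCat.{u}) [GrothendieckTopology.HasEnoughPoints.{u} J]
    (h : ∀ p : GrothendieckTopology.Point.{u} J, Subsingleton (ModSite.stalkRing p O) ∨ IsLocalRing (ModSite.stalkRing p O))
    (U : C) (f : O.obj.obj (op U)) :
    ∃ S ∈ J U, ∀ ⦃V : C⦄ (g : V ⟶ U), S g →
        IsUnit ((O.obj.map g.op).hom f) ∨ IsUnit ((O.obj.map g.op).hom (1 - f)) := by
  open Groth.SitesTopoi.ModH in
  obtain ⟨P, hsmall, hP⟩ := GrothendieckTopology.HasEnoughPoints.exists_objectProperty (J := J)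
  let S : Sieve U :=
    { arrows := fun V g => IsUnit (rsR g f) ∨ IsUnit (rsR g (1 - f))
      downward_closed := fun {V W g} hg k => by
        rcases hg with h' | h'
        · exact Or.inl (by have := h'.map (rsR k); rwa [rsR_rsR] at this)
        · exact Or.inr (by have := h'.map (rsR k); rwa [rsR_rsR] at this) }
  let ι := Σ' (V : C) (g : V ⟶ U), S g
  refine ⟨S, J.superset_covering (S := Sieve.ofArrows (fun i : ι => i.1) (fun i => i.2.1)) ?_ ?_, fun V g hg => hg⟩
  · rw [Sieve.generate_le_iff, Presieve.ofArrows_le_iff]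
    exact fun i => i.2.2
  rw [hP.jointly_reflect_ofArrows_mem]
  intro Φ u
  have key : ∀ r : rsec O U, IsUnit (gR Φ.obj U u r) →
      ∃ (V : C) (g : V ⟶ U) (v : Φ.obj.fiber.obj V), IsUnit (rsR g r) ∧ Φ.obj.fiber.map g v = u := by
    rintro r ⟨w, hw⟩
    obtain ⟨X, x, b, hb⟩ := gR_surj Φ.obj (↑w⁻¹ : ModSite.stalkRing Φ.obj O)
    obtain ⟨W, z, wu, wx, hu, hx⟩ := exists_min Φ.obj u x
    have e : gR Φ.obj W z (rsR wu r * rsR wx b) = gR Φ.obj W z 1 := by
      rw [map_mul, map_one, gR_res, gR_res, hu, hx, hb, ← hw, Units.mul_inv]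
    obtain ⟨V, k, v, hv, e'⟩ := (Φ.obj.toPresheafFiber_eq_iff' (P := O.obj) W z _ _).1 e
    refine ⟨V, k ≫ wu, v, ?_, by simp [hv, hu]⟩
    have e'' : rsR k (rsR wu r * rsR wx b) = rsR k 1 := e'
    rw [map_mul, map_one, rsR_rsR] at e''
    exact IsUnit.of_mul_eq_one _ e''
  rcases h Φ.obj with hs | hl
  · obtain ⟨V, g, v, hg, hv⟩ := key f (isUnit_of_subsingleton _)
    exact ⟨⟨V, g, Or.inl hg⟩, v, hv⟩
  · rcases IsLocalRing.isUnit_or_isUnit_one_sub_self (gR Φ.obj U u f) with h' | h'
    · obtain ⟨V, g, v, hg, hv⟩ := key f h'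
      exact ⟨⟨V, g, Or.inl hg⟩, v, hv⟩
    · obtain ⟨V, g, v, hg, hv⟩ := key (1 - f) (by rwa [map_sub, map_one])
      exact ⟨⟨V, g, Or.inr hg⟩, v, hv⟩

end Groth.Agent.S9091
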