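import Groth.Statements.S9093
import Groth.Agent.SitesTopoi.Mod.Stalks

set_option autoImplicit false
universe u
open CategoryTheory
open ModSite

namespace Groth.Agent.S9093

/-- On a small ringed site (C, O) with O commutative: let P be a conservative family of points of the
site. Then an O-module F is flat (tensoring with F is exact on O-modules) if and only if for every
point p of the family the stalk F_p is a flat O_p-module. -/
theorem result {C : Type u} [SmallCategory C] {J : GrothendieckTopology C}
    (O : Sheaf J CommRingCat.{u}) (P : ObjectProperty (GrothendieckTopology.Point.{u} J))
    (hP : P.IsConservativeFamilyOfPoints) (F : ModSite.Mod O) :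
    ModSite.IsFlat F ↔ ∀ p : GrothendieckTopology.Point.{u} J, P p →
      Module.Flat (ModSite.stalkRing p O) (ModSite.stalkMod p F) := by
  exact Groth.SitesTopoi.ModH.isFlat_iff_flat_stalks P hP F

end Groth.Agent.S9093
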