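import Groth.Statements.S9103
import Groth.Agent.SitesTopoi.Mod.QcSum

set_option autoImplicit false
universe u
open CategoryTheory Opposite
open ModSite

namespace Groth.Agent.S9103

open CategoryTheory.Limits in
/-- On a small ringed site (C, O) with O commutative: let U be an object of C which is quasi-compact, in
the sense that the sheaf of sets h_U^# associated to U is a quasi-compact object of the topos. Then
the additive functor Hom_O(j_{U!}O_U, -) from O-modules to abelian groups commutes with arbitrary
direct sums (coproducts indexed by a small type). -/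
theorem result {C : Type u} [SmallCategory C] {J : GrothendieckTopology C}
    (O : Sheaf J CommRingCat.{u}) (U : C)
    (hU : CohCx.IsQcObject ((presheafToSheaf J (Type u)).obj (yoneda.obj U))) (ι : Type u) :
    PreservesColimitsOfShape (Discrete ι) (preadditiveCoyoneda.obj (op (ModSite.freeOn O U))) := by
  refine Groth.SitesTopoi.QcSum.preservesColimitsOfShape_discrete _ ι fun X =>
    Groth.SitesTopoi.QcSum.preservesCoproduct _ X fun z => ?_
  obtain ⟨S, t, e⟩ := Groth.SitesTopoi.QcSum.exists_finset_sum X hU (Groth.Misc4.FreeOn.homEquiv U _ z)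
  have hz : (show ModSite.freeOn O U ⟶ ∐ X from z) = ∑ i ∈ S, (Groth.Misc4.FreeOn.homEquiv U _).symm (t i) ≫ Limits.Sigma.ι X i := by
    refine (Groth.Misc4.FreeOn.homEquiv U _).injective (e.trans ?_)
    let φ : (ModSite.freeOn O U ⟶ ∐ X) →+ _ :=
      AddMonoidHom.mk' (Groth.Misc4.FreeOn.homEquiv U (∐ X)) fun a b => rfl
    refine Eq.trans (Finset.sum_congr rfl fun i _ => ?_) (map_sum φ _ _).symm
    exact ((Groth.Misc4.FreeOn.homEquiv_comp U _ _).trans (by rw [Equiv.apply_symm_apply])).symm
  exact ⟨S, fun i => (Groth.Misc4.FreeOn.homEquiv U _).symm (t i), hz⟩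

end Groth.Agent.S9103
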