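import Groth.Statements.S9104
import Groth.Agent.SitesTopoi.Mod.InvRing

set_option autoImplicit false
universe u
open CategoryTheory
open ModSite

namespace Groth.Agent.S9104

open Groth.SitesTopoi.ModH Opposite

/-- Part (1): for a morphism of ringed sites f : (C, O_C) → (D, O_D) between small sites with
commutative structure sheaves (only the underlying morphism of topoi is used): if (D, O_D) is a
locally ringed site then C equipped with the pulled-back sheaf of rings f⁻¹O_D is a locally ringed
site. -/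
theorem result {C D : Type u} [SmallCategory C] [SmallCategory D] {J : GrothendieckTopology C}
    {K : GrothendieckTopology D} {O_C : Sheaf J CommRingCat.{u}} {O_D : Sheaf K CommRingCat.{u}}
    (f : ModSite.RMor O_C O_D) (hD : ModSite.IsLocallyRinged K O_D) : ModSite.IsLocallyRinged J f.invRing := by
  have hl : LocFiltered J K f.fn := locFiltered (J := J) (K := K) f.fn
  refine ⟨fun c r => ?_, fun c h01 => ?_⟩
  · obtain ⟨S, hS, h'⟩ := InvRing.locImg hl c r
    refine exists_refine hS fun c₁ g hg => ?_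
    obtain ⟨d, β, z, hz⟩ := h' g hg
    obtain ⟨T, hT, hT'⟩ := hD.1 d z
    obtain ⟨R, hR, hR'⟩ := hl.cover d T hT c₁ β
    refine ⟨R, hR, fun c₂ k hk => ?_⟩
    obtain ⟨d', w, γ, hw, e⟩ := hR' k hk
    have key : rsR (k ≫ g) r = iua f γ (rsR w z) := by rw [iua_rsR, e, ← rsR_iua, hz, rsR_rsR]
    refine (hT' w hw).imp (fun h => ?_) (fun h => ?_)
    · rw [show (f.invRing.obj.map (k ≫ g).op).hom r = iua f γ (rsR w z) from key]
      exact h.map (iua f γ)
    · rw [map_sub, map_one, show (f.invRing.obj.map (k ≫ g).op).hom r = iua f γ (rsR w z) from key, ← map_one (iua f γ),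
        ← map_sub]
      rw [map_sub, map_one] at h
      exact h.map (iua f γ)
  · have : ∀ {c' : C} (g : c' ⟶ c), (0 : rsec f.invRing c') = 1 := fun g => by
      simpa using congrArg (rsR g) h01
    obtain ⟨S, hS, h'⟩ := hl.nonempty c
    obtain ⟨U, hU, hU'⟩ : ∃ U ∈ J c, ∀ ⦃c' : C⦄ (g : c' ⟶ c), U g → False := by
      refine exists_refine hS fun c₁ g hg => ?_
      obtain ⟨d, ⟨β⟩⟩ := h' g hg
      refine exists_refine (InvRing.kill_of_iua_eq_zero hl (α := β) (z := 1) ((map_one _).trans (this g).symm)).choose_spec.1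
        fun c₂ k hk => ?_
      obtain ⟨d₁, w, β₁, -, e⟩ := (InvRing.kill_of_iua_eq_zero hl (α := β) (z := 1) ((map_one _).trans (this g).symm)).choose_spec.2 k hk
      obtain ⟨R, hR, hR'⟩ := hl.cover d₁ ⊥ (hD.2 d₁ (by rw [← e, map_one])) c₂ β₁
      refine ⟨R, hR, fun c₃ l hl' => ?_⟩
      obtain ⟨d', w', γ, hw', -⟩ := hR' l hl'
      exact hw'
    exact J.superset_covering (fun c' g hg => (hU' g hg).elim) hU

end Groth.Agent.S9104
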