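import Groth.Statements.S9110
import Groth.Agent.SitesTopoi.Mod.FlatColimit

set_option autoImplicit false
universe u
open CategoryTheory CategoryTheory.Limits
open ModSite

namespace Groth.Agent.S9110

/-- Let C be a small category, O a presheaf of commutative rings on C and F a presheaf of O-modules such
that each F(U) is a flat O(U)-module. Then F is flat as a presheaf of modules, i.e. the functor G ↦
G ⊗_{p,O} F given by the sectionwise tensor product of presheaves of modules is exact (preserves
finite limits and finite colimits). -/
theorem result {C : Type u} [SmallCategory C] (O : Cᵒᵖ ⥤ CommRingCat.{u})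
    (F : PresheafOfModules.{u} (O ⋙ forget₂ CommRingCat.{u} RingCat.{u}))
    (hF : ∀ X : Cᵒᵖ, Module.Flat (O.obj X) (F.obj X)) :
    PreservesFiniteLimits (MonoidalCategory.tensorRight F) ∧ PreservesFiniteColimits (MonoidalCategory.tensorRight F) := by
  open Groth.SitesTopoi CategoryTheory.Limits MonoidalCategory in
  have hc : PreservesFiniteColimits (tensorRight F) := PreservesColimitsOfSize.preservesFiniteColimits.{u, u} _
  have := Balanced.additive_of_rightExact (tensorRight F)
  refine ⟨(Functor.preservesFiniteLimits_iff_forall_exact_map_and_mono _).2 fun S hS =>
    ⟨((Functor.preservesFiniteColimits_iff_forall_exact_map_and_epi _).1 hc S hS).1, ?_⟩, hc⟩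
  have := hS.mono_f
  refine PresheafOfModules.mono_of_injective fun X => ?_
  have : Module.Flat (O.obj X) (F.obj X) := hF X
  exact Module.Flat.rTensor_preserves_injective_linearMap (R := O.obj X) (M := F.obj X) (S.f.app X).hom
    (PresheafOfModules.injective_of_mono S.f X)

end Groth.Agent.S9110
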