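import Groth.Statements.S9111
import Groth.Agent.SitesTopoi.Mod.FlatColimit
import Groth.Agent.S9110

set_option autoImplicit false
universe u
open CategoryTheory CategoryTheory.Limits
open ModSite

namespace Groth.Agent.S9111

/-- Let C be a small category and O a presheaf of commutative rings on C. If 0 → F'' → F' → F → 0 is a
short exact sequence of presheaves of O-modules whose right-hand term F is flat (the sectionwise
tensor product functor - ⊗_{p,O} F is exact), then for every presheaf of O-modules G the tensored
sequence 0 → F'' ⊗_{p,O} G → F' ⊗_{p,O} G → F ⊗_{p,O} G → 0 is short exact. The instance binder (the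
functor - ⊗_{p,O} G preserves zero morphisms) always holds and is only needed to form the complex. -/
theorem result {C : Type u} [SmallCategory C] (O : Cᵒᵖ ⥤ CommRingCat.{u})
    (S : ShortComplex (PresheafOfModules.{u} (O ⋙ forget₂ CommRingCat.{u} RingCat.{u}))) (hS : S.ShortExact)
    (hF : PreservesFiniteLimits (MonoidalCategory.tensorRight S.X₃) ∧ PreservesFiniteColimits (MonoidalCategory.tensorRight S.X₃))
    (G : PresheafOfModules.{u} (O ⋙ forget₂ CommRingCat.{u} RingCat.{u})) [(MonoidalCategory.tensorRight G).PreservesZeroMorphisms] :
    (S.map (MonoidalCategory.tensorRight G)).ShortExact := by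
  open Groth.SitesTopoi CategoryTheory.Limits MonoidalCategory in
  let PMo := PresheafOfModules.{u} (O ⋙ forget₂ CommRingCat.{u} RingCat.{u})
  have hcol : ∀ X : PMo, PreservesFiniteColimits ((curriedTensor PMo).obj X) := fun X =>
    PreservesColimitsOfSize.preservesFiniteColimits.{u, u} (tensorLeft X)
  have hcol' : ∀ X : PMo, PreservesFiniteColimits ((curriedTensor PMo).flip.obj X) := fun X =>
    PreservesColimitsOfSize.preservesFiniteColimits.{u, u} (tensorRight X)
  obtain ⟨w, e, he⟩ := Balanced.exact_and_epi (curriedTensor PMo) G hS
  have : PreservesFiniteLimits ((curriedTensor PMo).obj S.X₃) :=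
    have := hF.1
    preservesFiniteLimits_of_natIso (BraidedCategory.tensorLeftIsoTensorRight S.X₃).symm
  let T : Cᵒᵖ ⥤ Type u := G.presheaf ⋙ forget _
  let ε : (PresheafOfModules.free _).obj T ⟶ G := PresheafOfModules.freeObjDesc (𝟙 T)
  have : Epi ε := PresheafOfModules.epi_of_surjective fun X x => ⟨ModuleCat.freeMk x, by
    simp only [ε, PresheafOfModules.freeObjDesc_app]
    exact (ModuleCat.freeDesc_apply _ x).trans rfl⟩
  have : PreservesFiniteLimits ((curriedTensor PMo).flip.obj ((PresheafOfModules.free _).obj T)) :=
    (Groth.Agent.S9110.result O ((PresheafOfModules.free _).obj T) fun X => by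
      change Module.Flat (O.obj X) ((T.obj X) →₀ O.obj X)
      infer_instance).1
  exact { exact := e, mono_f := Balanced.mono_map_app_of_flat (curriedTensor PMo) hS ε, epi_g := he }

end Groth.Agent.S9111
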