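import Groth.Statements.S9117
import Groth.Agent.SitesTopoi.Mod.FinFree

set_option autoImplicit false
universe u
open CategoryTheory CategoryTheory.Limits Opposite
open ModSite

namespace Groth.Agent.S9117

/-- Let (C, O) be a small ringed site with O commutative and B a set of objects of C such that every
object has a covering family by members of B, each member of B is quasi-compact (its sheaf h_U^# is
a quasi-compact object of the topos), C has fibre products, and U₁ ×_U U₂ is quasi-compact for all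
U, U₁, U₂ in B. Call an O-module of type A if it is isomorphic to Coker(⊕_{j≤m} j_{V_j!}O_{V_j} →
⊕_{i≤n} j_{U_i!}O_{U_i}) with finitely many Uᵢ, Vⱼ in B. If the kernel of every morphism ⊕_{j≤m}
j_{V_j!}O_{V_j} → ⊕_{i≤n} j_{U_i!}O_{U_i} with Uᵢ, Vⱼ in B is of type A, then the kernel of every
morphism between modules of type A is of type A; together with closure under cokernels and
extensions this makes A a weak Serre subcategory of Mod(O). (The published setting involves only the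
fibre products U₁ ×_U U₂ of two members of a covering family of U, which exist in its notion of
site; this row assumes that C has all fibre products and asks quasi-compactness of U₁ ×_U U₂ for all
maps U₁ → U, U₂ → U between members of B.) -/
theorem result {C : Type u} [SmallCategory C] {J : GrothendieckTopology C}
    (O : Sheaf J CommRingCat.{u}) (B : Set C)
    (hB₁ : ∀ X : C, ∃ (κ : Type u) (Y : κ → C) (g : ∀ k, Y k ⟶ X), Sieve.ofArrows Y g ∈ J X ∧ ∀ k, Y k ∈ B)
    (hB₂ : ∀ U ∈ B, CohCx.IsQcObject ((presheafToSheaf J (Type u)).obj (yoneda.obj U)))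
    [HasPullbacks C]
    (hB₃ : ∀ (U U₁ U₂ : C) (f₁ : U₁ ⟶ U) (f₂ : U₂ ⟶ U), U ∈ B → U₁ ∈ B → U₂ ∈ B →
      CohCx.IsQcObject ((presheafToSheaf J (Type u)).obj (yoneda.obj (pullback f₁ f₂))))
    (hker : ∀ (m n : ℕ) (V : Fin m → C) (U : Fin n → C)
      (φ : (∐ fun j => ModSite.freeOn O (V j)) ⟶ ∐ fun i => ModSite.freeOn O (U i)),
      (∀ j, V j ∈ B) → (∀ i, U i ∈ B) → (∃ (m' n' : ℕ) (V' : Fin m' → C) (U' : Fin n' → C)
        (ψ : (∐ fun j => ModSite.freeOn O (V' j)) ⟶ ∐ fun i => ModSite.freeOn O (U' i)),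
        (∀ j, V' j ∈ B) ∧ (∀ i, U' i ∈ B) ∧ Nonempty (kernel φ ≅ cokernel ψ)))
    (F G : ModSite.Mod O) (α : F ⟶ G)
    (hF : (∃ (m' n' : ℕ) (V' : Fin m' → C) (U' : Fin n' → C)
        (ψ : (∐ fun j => ModSite.freeOn O (V' j)) ⟶ ∐ fun i => ModSite.freeOn O (U' i)),
        (∀ j, V' j ∈ B) ∧ (∀ i, U' i ∈ B) ∧ Nonempty (F ≅ cokernel ψ)))
    (hG : (∃ (m' n' : ℕ) (V' : Fin m' → C) (U' : Fin n' → C)
        (ψ : (∐ fun j => ModSite.freeOn O (V' j)) ⟶ ∐ fun i => ModSite.freeOn O (U' i)),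
        (∀ j, V' j ∈ B) ∧ (∀ i, U' i ∈ B) ∧ Nonempty (G ≅ cokernel ψ))) :
    (∃ (m' n' : ℕ) (V' : Fin m' → C) (U' : Fin n' → C)
        (ψ : (∐ fun j => ModSite.freeOn O (V' j)) ⟶ ∐ fun i => ModSite.freeOn O (U' i)),
        (∀ j, V' j ∈ B) ∧ (∀ i, U' i ∈ B) ∧ Nonempty (kernel α ≅ cokernel ψ)) := by
    refine Groth.SitesTopoi.FinFree.isFP_kernel hB₁ hB₂ (fun P Q φ hP hQ => ?_) α hF hG
    obtain ⟨m, V, hV, ⟨i⟩⟩ := hP
    obtain ⟨n, U, hU, ⟨j⟩⟩ := hQ
    obtain ⟨P', p, hP', hp, -⟩ := Groth.SitesTopoi.FinFree.IsFP.exists_epi (B := B) (hker m n V U (i.inv ≫ φ ≫ j.hom) hV hU)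
    let e : kernel (i.inv ≫ φ ≫ j.hom) ≅ kernel φ := kernel.mapIso _ _ i.symm j.symm (by simp)
    exact ⟨P', p ≫ e.hom, hP', inferInstance⟩

end Groth.Agent.S9117
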