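import Groth.Statements.S9122
import Groth.Agent.SitesTopoi.Chaotic

set_option autoImplicit false
universe u
open CategoryTheory Opposite
open ModSite

namespace Groth.Agent.S9122

/-- Let C be a small category endowed with the chaotic topology (only maximal sieves are covering), O a
sheaf of commutative rings on it and F an O-module. Then F is quasi-coherent exactly when, for each
morphism g : U → V of C, the base-change map F(V) ⊗_{O(V)} O(U) → F(U), i.e. the map out of the
extension of scalars of F(V) along O(V) → O(U) that is adjoint to the restriction map F(V) → F(U),
is an isomorphism. -/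
theorem result {C : Type u} [SmallCategory C]
    (O : Sheaf (⊥ : GrothendieckTopology C) CommRingCat.{u}) (F : ModSite.Mod O) :
    SheafOfModules.IsQuasicoherent (R := ModSite.ringSh O) F ↔
      ∀ (U V : C) (g : U ⟶ V), IsIso
        (((ModuleCat.extendRestrictScalarsAdj (O.obj.map g.op).hom).homEquiv
          (F.val.obj (op V) : ModuleCat.{u} (O.obj.obj (op V))) (F.val.obj (op U) : ModuleCat.{u} (O.obj.obj (op U)))).symm
          (F.val.map g.op)) := by
  exact Groth.SitesTopoi.Chaotic.isQuasicoherent_iff Groth.SitesTopoi.Chaotic.isChaotic_bot F

end Groth.Agent.S9122
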