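import Groth.Statements.S9123
import Groth.Agent.SitesTopoi.Chaotic

set_option autoImplicit false
universe u
open CategoryTheory CategoryTheory.Limits Opposite
open ModSite

namespace Groth.Agent.S9123

/-- Let C be a small category endowed with the chaotic topology (only maximal sieves are covering) and O
a sheaf of commutative rings on it such that for every morphism U → V of C the restriction map O(V)
→ O(U) is a flat ring homomorphism. Then the quasi-coherent O-modules form a weak Serre subcategory
of Mod(O): kernels and cokernels of morphisms between quasi-coherent modules are quasi-coherent, and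
in a short exact sequence 0 → F₁ → F₂ → F₃ → 0 with F₁ and F₃ quasi-coherent, F₂ is quasi-coherent. -/
theorem result {C : Type u} [SmallCategory C]
    (O : Sheaf (⊥ : GrothendieckTopology C) CommRingCat.{u})
    (hO : ∀ (U V : C) (g : U ⟶ V), (O.obj.map g.op).hom.Flat) :
    (∀ (F G : ModSite.Mod O) (α : F ⟶ G), SheafOfModules.IsQuasicoherent (R := ModSite.ringSh O) F → SheafOfModules.IsQuasicoherent (R := ModSite.ringSh O) G →
        SheafOfModules.IsQuasicoherent (R := ModSite.ringSh O) (kernel α) ∧ SheafOfModules.IsQuasicoherent (R := ModSite.ringSh O) (cokernel α)) ∧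
    (∀ (S : ShortComplex (ModSite.Mod O)), S.ShortExact → SheafOfModules.IsQuasicoherent (R := ModSite.ringSh O) S.X₁ → SheafOfModules.IsQuasicoherent (R := ModSite.ringSh O) S.X₃ → SheafOfModules.IsQuasicoherent (R := ModSite.ringSh O) S.X₂) := by
  open Groth.SitesTopoi.Chaotic in
  simp only [isQuasicoherent_iff isChaotic_bot]
  exact ⟨fun F G α hF hG =>
      ⟨Groth.SitesTopoi.Chaotic.isBC_kernel Groth.SitesTopoi.Chaotic.isChaotic_bot hO α hF hG,
        Groth.SitesTopoi.Chaotic.isBC_cokernel Groth.SitesTopoi.Chaotic.isChaotic_bot α hF hG⟩,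
    fun S hS h₁ h₃ =>
      Groth.SitesTopoi.Chaotic.isBC_extension Groth.SitesTopoi.Chaotic.isChaotic_bot hO hS h₁ h₃⟩

end Groth.Agent.S9123
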