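import Groth.Statements.S9127
import Mathlib
import Groth.Agent.Calg1.CatenaryLocal

set_option autoImplicit false
universe u
open CAlg

namespace Groth.Agent.S9127
theorem emb_le {R : Type u} [CommRing R] (p : Ideal R) {a b : PrimeSpectrum (R ⧸ p)} :
    PrimeSpectrum.comap (Ideal.Quotient.mk p) a ≤ PrimeSpectrum.comap (Ideal.Quotient.mk p) b ↔ a ≤ b := by
  refine ⟨fun h => ?_, fun h => Ideal.comap_mono h⟩
  have h' : a.asIdeal.comap (Ideal.Quotient.mk p) ≤ b.asIdeal.comap (Ideal.Quotient.mk p) := h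
  show a.asIdeal ≤ b.asIdeal
  rw [← Ideal.map_comap_of_surjective _ Ideal.Quotient.mk_surjective a.asIdeal,
    ← Ideal.map_comap_of_surjective _ Ideal.Quotient.mk_surjective b.asIdeal]
  exact Ideal.map_mono h'

/-- Spec of a quotient embeds. -/
def emb {R : Type u} [CommRing R] (p : Ideal R) : PrimeSpectrum (R ⧸ p) ↪o PrimeSpectrum R :=
  OrderEmbedding.ofMapLEIff (PrimeSpectrum.comap (Ideal.Quotient.mk p)) fun _ _ => emb_le p

theorem emb_lt {R : Type u} [CommRing R] (p : Ideal R) {a b : PrimeSpectrum (R ⧸ p)} :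
    PrimeSpectrum.comap (Ideal.Quotient.mk p) a < PrimeSpectrum.comap (Ideal.Quotient.mk p) b ↔ a < b :=
  (emb p).lt_iff_lt

theorem emb_inj {R : Type u} [CommRing R] (p : Ideal R) :
    Function.Injective (PrimeSpectrum.comap (Ideal.Quotient.mk p)) :=
  (emb p).injective


/-- A Noetherian ring is catenary if and only if its quotient by every minimal prime is catenary. -/
theorem result (R : Type u) [CommRing R] [IsNoetherianRing R] :
    CAlg.IsCatenary R ↔ ∀ p ∈ minimalPrimes R, CAlg.IsCatenary (R ⧸ p) := by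
  refine ⟨fun h p _ => Groth.Calg1.isCatenary_of_surjective _ Ideal.Quotient.mk_surjective h, fun h => ?_⟩
  have lift : ∀ (p : Ideal R) (s : LTSeries (PrimeSpectrum R)), p ≤ s.head.asIdeal →
      ∃ t : LTSeries (PrimeSpectrum (R ⧸ p)), ∃ hl : t.length = s.length,
        ∀ i, PrimeSpectrum.comap (Ideal.Quotient.mk p) (t i) = s (Fin.cast (by rw [hl]) i) := by
    intro p s hs
    have : ∀ i, s i ∈ Set.range (PrimeSpectrum.comap (Ideal.Quotient.mk p)) := by
      intro i
      rw [range_comap_of_surjective _ _ Ideal.Quotient.mk_surjective, Ideal.mk_ker,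
        PrimeSpectrum.mem_zeroLocus]
      exact hs.trans (s.monotone (Fin.zero_le i))
    choose g hg using this
    refine ⟨⟨s.length, g, fun i => ?_⟩, rfl, fun i => hg i⟩
    show g _ < g _
    rw [← emb_lt p, hg, hg]
    exact s.step i
  refine ⟨fun P Q hPQ => ?_, fun s t h1 h2 hs ht => ?_⟩
  · obtain ⟨p, hp, hpP⟩ := Ideal.exists_minimalPrimes_le (bot_le : (⊥ : Ideal R) ≤ P.asIdeal)
    have hP : P ∈ Set.range (PrimeSpectrum.comap (Ideal.Quotient.mk p)) := by
      rw [range_comap_of_surjective _ _ Ideal.Quotient.mk_surjective, Ideal.mk_ker,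
        PrimeSpectrum.mem_zeroLocus]
      exact hpP
    have hQ : Q ∈ Set.range (PrimeSpectrum.comap (Ideal.Quotient.mk p)) := by
      rw [range_comap_of_surjective _ _ Ideal.Quotient.mk_surjective, Ideal.mk_ker,
        PrimeSpectrum.mem_zeroLocus]
      exact hpP.trans hPQ
    obtain ⟨P', hP'⟩ := hP
    obtain ⟨Q', hQ'⟩ := hQ
    obtain ⟨n, hn⟩ := (h p hp).1 P' Q' (by rw [← emb_le p, hP', hQ']; exact hPQ)
    refine ⟨n, fun s hsP hsQ => ?_⟩
    obtain ⟨t, hl, ht⟩ := lift p s (hsP ▸ hpP)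
    rw [← hl]
    refine hn t (emb_inj p ?_) (emb_inj p ?_)
    · rw [hP', ← hsP]; exact ht 0
    · rw [hQ', ← hsQ]; exact (ht _).trans (congrArg s (Fin.ext (by simp [hl])))
  · obtain ⟨p, hp, hps⟩ := Ideal.exists_minimalPrimes_le (bot_le : (⊥ : Ideal R) ≤ s.head.asIdeal)
    obtain ⟨s', hls, hs'⟩ := lift p s hps
    obtain ⟨t', hlt, ht'⟩ := lift p t (h1 ▸ hps)
    have key := (h p hp).2 s' t' ?_ ?_ ?_ ?_
    · rw [← hls, ← hlt]; exact key
    · exact emb_inj p ((hs' 0).trans (h1.trans (ht' 0).symm))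
    · apply emb_inj p
      calc _ = s.last := (hs' _).trans (congrArg s (Fin.ext (by simp [hls])))
        _ = t.last := h2
        _ = _ := ((ht' _).trans (congrArg t (Fin.ext (by simp [hlt])))).symm
    · intro i
      refine CovBy.of_image (emb p) ?_
      show PrimeSpectrum.comap _ _ ⋖ PrimeSpectrum.comap _ _
      rw [hs', hs']
      exact hs (Fin.cast hls i)
    · intro i
      refine CovBy.of_image (emb p) ?_
      show PrimeSpectrum.comap _ _ ⋖ PrimeSpectrum.comap _ _
      rw [ht', ht']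
      exact ht (Fin.cast hlt i)

end Groth.Agent.S9127
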