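import Groth.Statements.S9128
import Mathlib
-- import your own Groth.Agent.* helpers here

set_option autoImplicit false
universe u
open CAlg

namespace Groth.Agent.S9128

variable {A : Type u} [CommRing A]

/-- The dimension of `A / p` is the coheight of `p`. -/
theorem ringKrullDim_quotient_eq (p : PrimeSpectrum A) :
    ringKrullDim (A ⧸ p.asIdeal) = (Order.coheight p : WithBot ℕ∞) := by
  have h : PrimeSpectrum.zeroLocus (p.asIdeal : Set A) = Set.Ici p := by
    ext x
    rfl
  rw [ringKrullDim_quotient, h, Order.coheight_eq_krullDim_Ici]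

/-- A chain realising the coheight of a prime is saturated and ends at the closed point. -/
theorem exists_saturated [IsNoetherianRing A] [IsLocalRing A] (p : PrimeSpectrum A) :
    ∃ s : LTSeries (PrimeSpectrum A), s.head = p ∧ s.last = IsLocalRing.closedPoint A ∧
      Order.coheight p = s.length ∧ ∀ i : Fin s.length, s (Fin.castSucc i) ⋖ s (Fin.succ i) := by
  obtain ⟨n, hn⟩ := ENat.ne_top_iff_exists.1 (Order.coheight_lt_top p).ne
  obtain ⟨s, hs, hl⟩ := Order.exists_series_of_coheight_eq_coe p hn.symm
  have hmax : ∀ t : LTSeries (PrimeSpectrum A), t.head = p → t.length ≤ n := fun t ht => by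
    exact_mod_cast hn ▸ (Order.length_le_coheight (p := t) ht.ge)
  refine ⟨s, hs, ?_, by rw [← hn, hl], fun i => ⟨s.step i, fun c h1 h2 => ?_⟩⟩
  · by_contra hne
    have hle : s.last ≤ IsLocalRing.closedPoint A :=
      IsLocalRing.le_maximalIdeal s.last.isPrime.ne_top
    have := hmax (s.snoc _ (lt_of_le_of_ne hle hne)) (by simp [hs])
    simp [hl] at this
  · have hi := i.2
    let t := s.insertNth i c h1 h2
    have := hmax t (by
      show t 0 = p
      rw [← hs]
      simp [t, RelSeries.insertNth, RelSeries.head, Fin.insertNth_apply_below, Fin.lt_def]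
      rfl)
    simp [t, RelSeries.insertNth, hl] at this

/-- Along a saturated chain a dimension function drops by one at each step. -/
theorem eq_add_length {δ : PrimeSpectrum A → ℕ}
    (hδ : ∀ p q, p ⋖ q → δ p = δ q + 1) (s : LTSeries (PrimeSpectrum A))
    (hs : ∀ i : Fin s.length, s (Fin.castSucc i) ⋖ s (Fin.succ i)) :
    δ s.head = δ s.last + s.length := by
  suffices ∀ i : Fin (s.length + 1), δ s.head = δ (s i) + i from this (Fin.last _)
  intro i
  induction i using Fin.induction with
  | zero => rfl
  | succ i ih => rw [ih, hδ _ _ (hs i), Fin.val_succ, Fin.val_castSucc]; omega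


/-- A Noetherian local ring A is catenary if and only if the assignment sending a prime p to the Krull
dimension of A/p is a dimension function on Spec A, i.e. it decreases strictly along strict
inclusions of primes and drops by exactly one along inclusions with no prime strictly in between. -/
theorem result (A : Type u) [CommRing A] [IsNoetherianRing A]
    [IsLocalRing A] :
    CAlg.IsCatenary A ↔
      ∀ p q : PrimeSpectrum A, p < q →
        ringKrullDim (A ⧸ q.asIdeal) < ringKrullDim (A ⧸ p.asIdeal) ∧
          (p ⋖ q → ringKrullDim (A ⧸ p.asIdeal) = ringKrullDim (A ⧸ q.asIdeal) + 1) := by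
  simp only [ringKrullDim_quotient_eq]
  constructor
  · intro h p q hpq
    refine ⟨WithBot.coe_lt_coe.2 (Order.coheight_strictAnti hpq (Order.coheight_lt_top q)), fun hcov => ?_⟩
    obtain ⟨s, hs, hsl, hsn, hsc⟩ := exists_saturated p
    obtain ⟨t, ht, htl, htn, htc⟩ := exists_saturated q
    let t' : LTSeries (PrimeSpectrum A) := ⟨t.length + 1, Fin.cons p t.toFun, fun i => by
      induction i using Fin.cases with
      | zero => simpa [RelSeries.head] using (ht ▸ hpq : p < t.head)
      | succ i => simpa [← Fin.succ_castSucc] using t.step i⟩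
    have hhead : t'.head = p := rfl
    have hlast : t'.last = t.last := Fin.cons_succ (α := fun _ => PrimeSpectrum A) p t.toFun (Fin.last _)
    have e := h.2 s t' (by rw [hhead, hs]) (by rw [hlast, hsl, htl]) hsc fun i => by
      induction i using Fin.cases with
      | zero => simpa [t', RelSeries.head] using (ht ▸ hcov : p ⋖ t.head)
      | succ i => simpa [t', ← Fin.succ_castSucc] using htc i
    rw [hsn, htn]
    have e' : s.length = t.length + 1 := e
    rw [e']
    norm_cast
  · intro h
    refine ⟨fun p q _ => ?_, fun s t h1 h2 hs ht => ?_⟩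
    · obtain ⟨n, hn⟩ := ENat.ne_top_iff_exists.1 (Order.coheight_lt_top p).ne
      exact ⟨n, fun s hsp _ => by exact_mod_cast hn ▸ (Order.length_le_coheight (p := s) hsp.ge)⟩
    · have hfin := fun p : PrimeSpectrum A => ENat.ne_top_iff_exists.1 (Order.coheight_lt_top p).ne
      choose δ hδ using hfin
      have hd : ∀ p q, p ⋖ q → δ p = δ q + 1 := fun p q hc => by
        have := (h p q hc.1).2 hc
        rw [← hδ, ← hδ] at this
        exact_mod_cast this
      have e1 := eq_add_length hd s hs
      have e2 := eq_add_length hd t ht
      rw [h1, h2] at e1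
      omega

end Groth.Agent.S9128
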