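import Groth.Statements.S9129
import Groth.Agent.Calg4.RegularAscent

set_option autoImplicit false
universe u
open CAlg

namespace Groth.Agent.S9129


open IsLocalRing

theorem ringKrullDim_fiber_eq_zero_of_finite (R S : Type u) [CommRing R] [IsLocalRing R] [CommRing S]
    [Algebra R S] [Module.Finite R S] [Nontrivial (S ⧸ (maximalIdeal R).map (algebraMap R S))] :
    ringKrullDim (S ⧸ (maximalIdeal R).map (algebraMap R S)) = 0 := by
  let I := (maximalIdeal R).map (algebraMap R S)
  have : Module.Finite R (S ⧸ I) := Module.Finite.trans S _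
  have : IsArtinianRing (S ⧸ I) := by
    have hle : maximalIdeal R ≤ I.comap (algebraMap R S) := Ideal.le_comap_map
    let := (Ideal.quotientMap I (algebraMap R S) hle).toAlgebra
    have : IsScalarTower R (R ⧸ maximalIdeal R) (S ⧸ I) := IsScalarTower.of_algebraMap_eq fun _ => rfl
    have : Module.Finite (R ⧸ maximalIdeal R) (S ⧸ I) := Module.Finite.of_restrictScalars_finite R _ _
    let := Ideal.Quotient.field (maximalIdeal R)
    exact IsArtinianRing.of_finite (R ⧸ maximalIdeal R) (S ⧸ I)
  exact ringKrullDimZero_iff_ringKrullDim_eq_zero.mp inferInstance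

theorem exists_nat_ringKrullDim (A : Type u) [CommRing A] [IsLocalRing A] [IsNoetherianRing A] :
    ∃ d : ℕ, ringKrullDim A = d := by
  have h1 : ringKrullDim A ≠ ⊥ := ringKrullDim_ne_bot
  have h2 : ringKrullDim A ≠ ⊤ := ringKrullDim_ne_top
  match h : ringKrullDim A with
  | ⊥ => exact absurd h h1
  | (⊤ : ℕ∞) => exact absurd h h2
  | ((d : ℕ) : ℕ∞) => exact ⟨d, rfl⟩

/-- Suppose R → S is a flat local homomorphism between Noetherian local rings, with R Cohen–Macaulay.
Assume either that S is finite over R or that the Krull dimension of S is at most that of R. Then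
the two rings have equal dimension and S is itself Cohen–Macaulay. -/
theorem result (R S : Type u) [CommRing R] [CommRing S]
    [LocCoh.IsCohenMacaulayLocalRing R] [IsNoetherianRing S] [IsLocalRing S] [Algebra R S]
    [IsLocalHom (algebraMap R S)] [Module.Flat R S]
    (h : Module.Finite R S ∨ ringKrullDim S ≤ ringKrullDim R) :
    LocCoh.IsCohenMacaulayLocalRing S ∧ ringKrullDim R = ringKrullDim S := by
  let F := S ⧸ (maximalIdeal R).map (algebraMap R S)
  have hle : (maximalIdeal R).map (algebraMap R S) ≤ maximalIdeal S :=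
    ((local_hom_TFAE (algebraMap R S)).out 0 2 rfl rfl).mp inferInstance
  have : Nontrivial F := Ideal.Quotient.nontrivial_iff.mpr
    (ne_top_of_le_ne_top (maximalIdeal.isMaximal S).ne_top hle)
  have : IsLocalRing F := IsLocalRing.of_surjective' _ Ideal.Quotient.mk_surjective
  have hdim := Groth.Calg4.ringKrullDim_eq_add_of_flat R S
  have h0 : ringKrullDim F = 0 := by
    rcases h with h | h
    · exact ringKrullDim_fiber_eq_zero_of_finite R S
    · refine le_antisymm ?_ ringKrullDim_nonneg_of_nontrivial
      have h1 : ringKrullDim R + ringKrullDim F ≤ ringKrullDim R := hdim ▸ h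
      obtain ⟨d, hd⟩ := exists_nat_ringKrullDim R
      rw [hd] at h1
      obtain ⟨e, he⟩ := exists_nat_ringKrullDim F
      rw [he] at h1 ⊢
      norm_cast at h1
      exact_mod_cast (by omega : e ≤ 0)
  refine ⟨Groth.Calg4.isCohenMacaulayLocalRing_of_flat R S inferInstance ?_, ?_⟩
  · rw [Groth.Calg4.isCohenMacaulayLocalRing_iff_dim_eq]
    have hd := Groth.Calg4.depth_le_ringKrullDim F
    rw [h0] at hd ⊢
    rw [le_antisymm (WithBot.coe_le_coe.mp hd) bot_le]
    rfl
  · rw [hdim, h0, add_zero]

end Groth.Agent.S9129
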