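import Groth.Statements.S9130
import Groth.Agent.S0554
-- import your own Groth.Agent.* helpers here

set_option autoImplicit false
universe u
open CAlg

namespace Groth.Agent.S9130

/-- Let A ⊆ B be domains with B of finite type over A and A Noetherian, and assume every element of B is
algebraic over A. For a height-one prime p of A, only finitely many primes of B lie over p and each
of them has height one. (The published statement assumes that Frac(B) is finite over Frac(A); this
row assumes B algebraic over A, which is equivalent for a finite type extension of domains.) -/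
theorem result (A B : Type u) [CommRing A] [IsDomain A]
    [IsNoetherianRing A] [CommRing B] [IsDomain B] [Algebra A B] [FaithfulSMul A B]
    [Algebra.FiniteType A B] [Algebra.IsAlgebraic A B] (p : Ideal A) [p.IsPrime]
    (hp : p.height = 1) :
    (p.primesOver B).Finite ∧ ∀ q ∈ p.primesOver B, q.height = 1 := by
  haveI : IsNoetherianRing B := Algebra.FiniteType.isNoetherianRing A B
  have hpne : p ≠ ⊥ := fun h => by simp [h] at hp
  have hne : p.map (algebraMap A B) ≠ ⊥ := fun h => hpne ((Ideal.map_eq_bot_iff_of_injective
    (FaithfulSMul.algebraMap_injective A B)).1 h)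
  have hle : ∀ q ∈ p.primesOver B, q.height ≤ 1 := by
    rintro q ⟨hq, hlo⟩
    haveI := hq
    haveI := hlo
    have h := Groth.Agent.S0554.result A B p q
    rw [hp, trdeg_eq_zero (R := A) (A := B), add_zero] at h
    have h' : (q.height : Cardinal.{u}) ≤ ((1 : ℕ∞) : Cardinal.{u}) :=
      le_trans le_self_add h
    exact Cardinal.ofENat_le_ofENat.1 h'
  have hmap : ∀ q ∈ p.primesOver B, p.map (algebraMap A B) ≤ q := fun q hq =>
    Ideal.map_le_iff_le_comap.2 hq.2.over.le
  have hone : ∀ q ∈ p.primesOver B, q.height = 1 := by
    intro q hq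
    haveI := hq.1
    refine le_antisymm (hle q hq) ?_
    rw [ENat.one_le_iff_ne_zero, Ne, Ideal.height_eq_zero_iff_eq_bot]
    exact fun h => hne (le_bot_iff.1 ((hmap q hq).trans_eq h))
  refine ⟨(Ideal.finite_minimalPrimes_of_isNoetherianRing B (p.map (algebraMap A B))).subset fun q hq => ?_, hone⟩
  haveI := hq.1
  refine ⟨⟨hq.1, hmap q hq⟩, fun r ⟨hr, hpr⟩ hrq => ?_⟩
  by_contra hne'
  haveI := hr
  have hlt : r < q := lt_of_le_of_ne hrq fun e => hne' e.ge
  have h0 := Ideal.height_strict_mono_of_isPrime hlt
  rw [hone q hq, ENat.lt_one_iff_eq_zero, Ideal.height_eq_zero_iff_eq_bot] at h0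
  exact hne (le_bot_iff.1 (hpr.trans_eq h0))

end Groth.Agent.S9130
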