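import Groth.Statements.S9131
import Groth.Agent.RaynaudGruson.CompletionSummand
import Groth.Agent.Calg5.Completion
-- import your own Groth.Agent.* helpers here

set_option autoImplicit false
universe u
open CAlg

open Groth.Calg5
namespace Groth.Agent.S9131

/-- Let R be a ring, I an ideal, and 0 → K → P → M → 0 a short exact sequence of R-modules with M flat
over R and M/IM projective over R/I. Then the induced sequence of I-adic completions is split short
exact: the map on completions of K → P is injective, the sequence is exact in the middle, and the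
map on completions of P → M has a section linear over the completion of R (so it is surjective). -/
theorem result (R : Type u) [CommRing R] (I : Ideal R)
    (K P M : Type u) [AddCommGroup K] [Module R K] [AddCommGroup P] [Module R P]
    [AddCommGroup M] [Module R M] (f : K →ₗ[R] P) (g : P →ₗ[R] M)
    (hf : Function.Injective f) (hg : Function.Surjective g) (hfg : Function.Exact f g)
    [Module.Flat R M] [Module.Projective (R ⧸ I) (M ⧸ (I • ⊤ : Submodule R M))] :
    Function.Injective (AdicCompletion.map I f) ∧
      Function.Exact (AdicCompletion.map I f) (AdicCompletion.map I g) ∧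
      ∃ s : AdicCompletion I M →ₗ[AdicCompletion I R] AdicCompletion I P,
        AdicCompletion.map I g ∘ₗ s = LinearMap.id := by
  classical
  have H : ∀ n : ℕ, ∃ m, n ≤ m ∧ ∀ a, f a ∈ (I ^ m • ⊤ : Submodule R P) → a ∈ (I ^ n • ⊤ : Submodule R K) :=
    fun n => ⟨n, le_rfl, fun a ha => hypothesis_of_flat I hf hg hfg n a ha⟩
  refine ⟨completion_injective I H, completion_exact I hg hfg H, ?_⟩
  obtain ⟨s, hs, hcomp⟩ := Groth.RaynaudGruson.exists_compatible_sections (I := I) g hg
  have hcomp' : ∀ {m n : ℕ} (h : m ≤ n) x,
      Submodule.factorPow I P h (s n x) = s m (Submodule.factorPow I M h x) := by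
    intro m n h
    induction n, h using Nat.le_induction with
    | base => intro x; simp [Submodule.factorPow]
    | succ n h ih =>
      intro x
      obtain ⟨y, rfl⟩ := Submodule.Quotient.mk_surjective _ x
      obtain ⟨w, hw⟩ := Submodule.Quotient.mk_surjective _ (s (n + 1) (Submodule.Quotient.mk y))
      have h1 := hcomp n (Submodule.Quotient.mk y)
      rw [← hw] at h1 ⊢
      exact (congrArg (Submodule.factorPow I P h) h1).trans (ih _)
  refine ⟨{ toFun := fun x => ⟨fun n => s n (x.val n), fun {m n} h => (hcomp' h _).trans (congrArg (s m) (x.2 h))⟩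
            map_add' := fun x y => AdicCompletion.ext fun n => map_add (s n) _ _
            map_smul' := fun c x => AdicCompletion.ext fun n => ?_ },
    LinearMap.ext fun x => AdicCompletion.ext fun n => hs n _⟩
  obtain ⟨a, ha⟩ := exists_rep I c n
  obtain ⟨b, hb⟩ := exists_rep I x n
  obtain ⟨w, hw⟩ := Submodule.Quotient.mk_surjective _ (s n (Submodule.Quotient.mk b))
  show s n (c.val n • x.val n) = c.val n • s n (x.val n)
  rw [ha, hb, ← hw]
  show s n (Submodule.Quotient.mk (a • b)) = Submodule.Quotient.mk (a • w)
  rw [Submodule.Quotient.mk_smul, map_smul, ← hw, Submodule.Quotient.mk_smul]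

end Groth.Agent.S9131
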