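import Groth.Statements.S9132
import Groth.Agent.EGA43Valuative.DominatingDVR
import Mathlib.RingTheory.EssentialFiniteness

set_option autoImplicit false
universe u
open CAlg

namespace Groth.Agent.S9132

/-- A Noetherian local domain R that is not a field is dominated by a Noetherian local ring R' of
dimension one lying between R and its fraction field, with R' essentially of finite type over R. -/
theorem result (R : Type u) [CommRing R] [IsDomain R]
    [IsNoetherianRing R] [IsLocalRing R] (hR : ¬ IsField R) :
    ∃ R' : Subalgebra R (FractionRing R), ∃ _ : IsLocalRing R',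
      IsNoetherianRing R' ∧ ringKrullDim R' = 1 ∧ IsLocalHom (algebraMap R R') ∧
        Algebra.EssFiniteType R R' := by
  obtain ⟨B, P, hBfg, hP, hPh, hPm⟩ :=
    Groth.EGA43Val.exists_height_one_dominating R (FractionRing R) hR
  haveI := hP
  haveI : Algebra.FiniteType R B := (Subalgebra.fg_iff_finiteType B).1 hBfg
  haveI : IsNoetherianRing B := Algebra.FiniteType.isNoetherianRing R B
  let A := Localization.subalgebra.ofField (FractionRing R) P.primeCompl P.primeCompl_le_nonZeroDivisors
  haveI : IsLocalization.AtPrime A P := Localization.subalgebra.isLocalization_ofField _ _ _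
  haveI : IsLocalRing A := IsLocalization.AtPrime.isLocalRing A P
  haveI : IsScalarTower R B A := IsScalarTower.of_algebraMap_eq fun _ => rfl
  haveI : Algebra.EssFiniteType R A :=
    haveI : Algebra.EssFiniteType B A := Algebra.EssFiniteType.of_isLocalization A P.primeCompl
    Algebra.EssFiniteType.comp R B A
  refine ⟨A.restrictScalars R, ‹IsLocalRing A›,
    IsLocalization.isNoetherianRing P.primeCompl A inferInstance, ?_, ⟨fun r hr => ?_⟩,
    ‹Algebra.EssFiniteType R A›⟩
  · show ringKrullDim A = 1
    rw [IsLocalization.AtPrime.ringKrullDim_eq_height P A, hPh]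
    rfl
  · by_contra hn
    have h1 : algebraMap R B r ∈ P := by
      rw [← Ideal.mem_comap, hPm]
      exact hn
    exact (IsLocalization.AtPrime.isUnit_to_map_iff A P (algebraMap R B r)).1 hr h1

end Groth.Agent.S9132
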