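import Groth.Statements.S9133
import Groth.Agent.Calg4.KrullAkizuki

set_option autoImplicit false
universe u
open CAlg

namespace Groth.Agent.S9133

/-- Let R → S be a homomorphism of domains compatible with field maps K → L of their fraction fields (so
R → S is injective), where R is Noetherian local of dimension one and L is finite over K. Then each
prime n of S whose contraction to R is the maximal ideal of R is a maximal ideal of S, only finitely
many such n exist, and each quotient S/n is a finite R-module (its residue field is a finite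
extension of that of R). -/
theorem result (R S K L : Type u)
    [CommRing R] [IsDomain R] [IsNoetherianRing R] [IsLocalRing R] (hdim : ringKrullDim R = 1)
    [CommRing S] [IsDomain S] [Algebra R S] [Field K] [Field L] [Algebra R K] [IsFractionRing R K]
    [Algebra S L] [IsFractionRing S L] [Algebra K L] [Algebra R L] [IsScalarTower R K L]
    [IsScalarTower R S L] [FiniteDimensional K L] :
    (∀ n ∈ (IsLocalRing.maximalIdeal R).primesOver S, n.IsMaximal) ∧
      ((IsLocalRing.maximalIdeal R).primesOver S).Finite ∧
      ∀ n ∈ (IsLocalRing.maximalIdeal R).primesOver S, Module.Finite R (S ⧸ n) := by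
  have : Ring.KrullDimLE 1 R := Ring.krullDimLE_iff.mpr (by simp [hdim])
  have hm : IsLocalRing.maximalIdeal R ≠ ⊥ := fun hbot => by
    let := (IsLocalRing.isField_iff_maximalIdeal_eq.mpr hbot).toField
    rw [ringKrullDim_eq_zero_of_isField (IsLocalRing.isField_iff_maximalIdeal_eq.mpr hbot)] at hdim
    exact zero_ne_one hdim
  obtain ⟨x, hxm, hx0⟩ := Submodule.exists_mem_ne_zero_of_ne_bot hm
  let j : S →ₗ[R] (Fin (Module.finrank K L) → K) :=
    ((Module.finBasis K L).equivFun.toLinearMap.restrictScalars R).comp
      (IsScalarTower.toAlgHom R S L).toLinearMap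
  have hj : Function.Injective j :=
    (Module.finBasis K L).equivFun.injective.comp (IsFractionRing.injective S L)
  let I : Ideal S := Ideal.span {algebraMap R S x}
  have hI : I.restrictScalars R = Ideal.span {x} • (⊤ : Submodule R S) := by
    rw [Ideal.smul_top_eq_map, Ideal.map_span, Set.image_singleton]
  have hlen : Module.length R (S ⧸ I) ≠ ⊤ := by
    rw [← (Submodule.Quotient.restrictScalarsEquiv R I).length_eq,
      (Submodule.quotEquivOfEq _ _ (hI.trans (Submodule.ideal_span_singleton_smul x _))).length_eq]
    exact ne_top_of_le_ne_top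
      (WithTop.mul_ne_top (ENat.natCast_ne_top _) (Ring.ord_ne_top (mem_nonZeroDivisors_of_ne_zero hx0)))
      (Groth.Calg4.length_quotient_le_mul K _ j hj hx0)
  obtain ⟨hn, ha⟩ := isFiniteLength_iff_isNoetherian_isArtinian.mp (Module.length_ne_top_iff.mp hlen)
  have : IsArtinianRing (S ⧸ I) := isArtinian_of_tower R ha
  have hle : ∀ n ∈ (IsLocalRing.maximalIdeal R).primesOver S, I ≤ n := by
    rintro n ⟨-, hn⟩
    rw [Ideal.span_singleton_le_iff_mem]
    change x ∈ n.under R
    rwa [← hn.over]
  refine ⟨fun n hn => ?_, ?_, fun n hn => ?_⟩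
  · have := hn.1
    have hp : (n.map (Ideal.Quotient.mk I)).IsPrime :=
      Ideal.map_isPrime_of_surjective Ideal.Quotient.mk_surjective (by simpa using hle n hn)
    have := Ideal.comap_isMaximal_of_surjective (Ideal.Quotient.mk I) Ideal.Quotient.mk_surjective
      (K := n.map (Ideal.Quotient.mk I))
    rwa [Ideal.comap_map_of_surjective _ Ideal.Quotient.mk_surjective, ← RingHom.ker_eq_comap_bot,
      Ideal.mk_ker, sup_of_le_left (hle n hn)] at this
  · refine (Set.finite_range fun q : PrimeSpectrum (S ⧸ I) =>
      q.asIdeal.comap (Ideal.Quotient.mk I)).subset fun n hn => ?_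
    have := hn.1
    refine ⟨⟨n.map (Ideal.Quotient.mk I),
      Ideal.map_isPrime_of_surjective Ideal.Quotient.mk_surjective (by simpa using hle n hn)⟩, ?_⟩
    simp only
    rw [Ideal.comap_map_of_surjective _ Ideal.Quotient.mk_surjective, ← RingHom.ker_eq_comap_bot,
      Ideal.mk_ker, sup_of_le_left (hle n hn)]
  · exact Module.Finite.of_surjective ((Submodule.factor (hle n hn)).restrictScalars R)
      (Submodule.factor_surjective (hle n hn))

end Groth.Agent.S9133
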