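import Groth.Statements.S9135
import Mathlib
-- import your own Groth.Agent.* helpers here

set_option autoImplicit false
universe u
open CAlg

namespace Groth.Agent.S9135

/-- An element becomes integral after inverting some element outside a minimal prime with finite fibre. -/
theorem exists_integral (R S : Type u) [CommRing R] [CommRing S] [Algebra R S] (p : Ideal R) [p.IsPrime]
    (hp : p ∈ minimalPrimes R) [Module.Finite p.ResidueField (p.Fiber S)] (x : S) :
    ∃ g : R, g ∉ p ∧ ∀ G : R, g ∣ G → ∀ [Algebra (Localization.Away G) (Localization.Away (algebraMap R S G))]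
      [IsScalarTower R (Localization.Away G) (Localization.Away (algebraMap R S G))],
      IsIntegral (Localization.Away G) (algebraMap S (Localization.Away (algebraMap R S G)) x) := by
  classical
  let M := Algebra.algebraMapSubmonoid S p.primeCompl
  let Sp := Localization M
  let Rp := Localization.AtPrime p
  let ι : S →ₐ[R] p.Fiber S := Algebra.TensorProduct.includeRight
  have hRp : p.primeCompl ≤ M.comap (algebraMap R S) := fun a ha => ⟨a, ha, rfl⟩
  letI : Algebra Rp Sp := (IsLocalization.map (M := p.primeCompl) Sp (algebraMap R S) hRp).toAlgebra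
  haveI : IsScalarTower R Rp Sp := IsScalarTower.of_algebraMap_eq fun r => by
    rw [RingHom.algebraMap_toAlgebra, IsLocalization.map_eq, ← IsScalarTower.algebraMap_apply]
  have hu : ∀ y : M, IsUnit (ι.toRingHom y) := by
    rintro ⟨_, a, ha, rfl⟩
    show IsUnit (ι (algebraMap R S a))
    rw [ι.commutes, IsScalarTower.algebraMap_apply R p.ResidueField (p.Fiber S)]
    exact (Ne.isUnit fun h => ha (Ideal.algebraMap_residueField_eq_zero.1 h)).map _
  let φ : Sp →+* p.Fiber S := IsLocalization.lift hu
  obtain ⟨Pb, hPm, hP0⟩ := Algebra.IsIntegral.isIntegral (R := p.ResidueField) (ι x)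
  have hPb : Pb ∈ Polynomial.lifts (algebraMap Rp p.ResidueField) := by
    rw [Polynomial.lifts_iff_coeff_lifts]
    exact fun k => IsLocalRing.residue_surjective _
  obtain ⟨P, hPP, -, hPmonic⟩ := Polynomial.lifts_and_degree_eq_and_monic hPb hPm
  have hφ : φ.comp (algebraMap Rp Sp) = (algebraMap p.ResidueField (p.Fiber S)).comp (algebraMap Rp p.ResidueField) := by
    refine IsLocalization.ringHom_ext p.primeCompl (RingHom.ext fun r => ?_)
    simp only [RingHom.comp_apply]
    rw [← IsScalarTower.algebraMap_apply R Rp Sp, IsScalarTower.algebraMap_apply R S Sp, IsLocalization.lift_eq,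
      ← IsScalarTower.algebraMap_apply R Rp p.ResidueField, ← IsScalarTower.algebraMap_apply R p.ResidueField]
    exact ι.commutes r
  let w : Sp := Polynomial.eval₂ (algebraMap Rp Sp) (algebraMap S Sp x) P
  have hw : φ w = 0 := by
    rw [Polynomial.hom_eval₂, hφ, IsLocalization.lift_eq, ← Polynomial.eval₂_map, hPP]
    exact hP0
  have hnil : IsNilpotent w := by
    rw [← mem_nilradical, nilradical_eq_sInf, Ideal.mem_sInf]
    intro Q hQ
    haveI : Q.IsPrime := hQ
    haveI : (Q.comap (algebraMap S Sp)).IsPrime := Ideal.IsPrime.comap _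
    have hd : Disjoint (M : Set S) (Q.comap (algebraMap S Sp) : Set S) :=
      ((IsLocalization.isPrime_iff_isPrime_disjoint M Sp Q).1 hQ).2
    have hover : (Q.comap (algebraMap S Sp)).comap (algebraMap R S) = p := by
      have hle : (Q.comap (algebraMap S Sp)).comap (algebraMap R S) ≤ p := by
        intro a ha
        by_contra hna
        exact Set.disjoint_left.1 hd ⟨a, hna, rfl⟩ ha
      exact le_antisymm hle (hp.2 ⟨Ideal.IsPrime.comap _, bot_le⟩ hle)
    let Q' := PrimeSpectrum.preimageEquivFiber R S ⟨p, inferInstance⟩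
      ⟨⟨Q.comap (algebraMap S Sp), inferInstance⟩, PrimeSpectrum.ext hover⟩
    have hQ' : Q'.asIdeal.comap ι = Q.comap (algebraMap S Sp) :=
      congrArg (fun y => y.1.asIdeal) ((PrimeSpectrum.preimageEquivFiber R S ⟨p, inferInstance⟩).symm_apply_apply
        ⟨⟨Q.comap (algebraMap S Sp), inferInstance⟩, PrimeSpectrum.ext hover⟩)
    have hQQ : Q'.asIdeal.comap φ = Q := by
      rw [← IsLocalization.map_comap M Sp (Q'.asIdeal.comap φ), ← IsLocalization.map_comap M Sp Q]
      congr 1
      show _ = Q.comap (algebraMap S Sp)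
      rw [← hQ']
      ext s
      show φ (algebraMap S Sp s) ∈ Q'.asIdeal ↔ ι s ∈ Q'.asIdeal
      rw [IsLocalization.lift_eq]
      rfl
    rw [← hQQ, Ideal.mem_comap, hw]
    exact zero_mem _
  obtain ⟨N, hN⟩ := hnil
  have hint : IsIntegral Rp (algebraMap S Sp x) :=
    ⟨P ^ (N + 1), hPmonic.pow _, by rw [Polynomial.eval₂_pow, pow_succ]; simp [w] at hN; rw [hN, zero_mul]⟩
  obtain ⟨⟨m, hm⟩, Q, hQm, hQ0⟩ := hint.exists_multiple_integral_of_isLocalization p.primeCompl _
  have e : Polynomial.eval₂ (algebraMap R Sp) ((⟨m, hm⟩ : p.primeCompl) • algebraMap S Sp x) Q =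
      algebraMap S Sp (Polynomial.eval₂ (algebraMap R S) (algebraMap R S m * x) Q) := by
    rw [Polynomial.hom_eval₂, ← IsScalarTower.algebraMap_eq, map_mul, ← IsScalarTower.algebraMap_apply,
      Submonoid.smul_def, Algebra.smul_def]
  rw [e, IsLocalization.map_eq_zero_iff M] at hQ0
  obtain ⟨⟨_, t, ht, rfl⟩, htQ⟩ := hQ0
  refine ⟨t * m, fun h => (Ideal.IsPrime.mem_or_mem inferInstance h).elim ht hm, ?_⟩
  intro G hG _ _
  let A := Localization.Away G
  let B := Localization.Away (algebraMap R S G)
  have hA : ∀ a : R, a ∣ G → IsUnit (algebraMap R A a) := fun a ha =>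
    isUnit_of_dvd_unit (map_dvd _ ha) (IsLocalization.Away.algebraMap_isUnit G)
  have htu : IsUnit (algebraMap S B (algebraMap R S t)) := by
    rw [← IsScalarTower.algebraMap_apply R S B, IsScalarTower.algebraMap_apply R A B]
    exact (hA t ((dvd_mul_right t m).trans hG)).map _
  have h0 := congrArg (algebraMap S B) htQ
  rw [map_mul, map_zero, htu.mul_right_eq_zero, Polynomial.hom_eval₂, ← IsScalarTower.algebraMap_eq] at h0
  have hmx : IsIntegral R (algebraMap S B (algebraMap R S m * x)) := ⟨Q, hQm, h0⟩
  obtain ⟨v, hv⟩ := (hA m ((dvd_mul_left m t).trans hG)).exists_left_inv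
  have ex : algebraMap S B x = algebraMap A B v * algebraMap S B (algebraMap R S m * x) := by
    rw [map_mul, ← IsScalarTower.algebraMap_apply R S B, IsScalarTower.algebraMap_apply R A B, ← mul_assoc,
      ← map_mul, hv, map_one, one_mul]
  rw [ex]
  exact isIntegral_algebraMap.mul hmx.tower_top

/-- Let R → S be of finite type and p a minimal prime of R over which only finitely many primes of S
lie. Then for some g ∈ R outside p the localized map R_g → S_g is finite. -/
theorem result (R S : Type u) [CommRing R] [CommRing S]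
    [Algebra R S] [Algebra.FiniteType R S] (p : Ideal R) (hp : p ∈ minimalPrimes R)
    (hfin : (p.primesOver S).Finite) :
    ∃ g : R, g ∉ p ∧ (Localization.awayMap (algebraMap R S) g).Finite := by
  classical
  haveI := hp.1.1
  haveI hfinF : Finite (PrimeSpectrum (p.Fiber S)) := by
    haveI : Finite ↥(PrimeSpectrum.comap (algebraMap R S) ⁻¹' {(⟨p, hp.1.1⟩ : PrimeSpectrum R)}) := by
      haveI : Finite (p.primesOver S) := hfin.to_subtype
      refine Finite.of_injective (fun q => (⟨q.1.asIdeal, q.1.2, ⟨(congrArg PrimeSpectrum.asIdeal q.2).symm⟩⟩ : p.primesOver S)) ?_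
      intro a b h
      exact Subtype.ext (PrimeSpectrum.ext (congrArg Subtype.val h))
    exact Finite.of_equiv _ (PrimeSpectrum.preimageEquivFiber R S ⟨p, hp.1.1⟩)
  haveI : IsNoetherianRing (p.Fiber S) := Algebra.FiniteType.isNoetherianRing p.ResidueField _
  haveI : IsJacobsonRing (p.Fiber S) := isJacobsonRing_of_finiteType (A := p.ResidueField)
  haveI : DiscreteTopology (PrimeSpectrum (p.Fiber S)) := JacobsonSpace.discreteTopology (Set.toFinite _)
  haveI : Ring.KrullDimLE 0 (p.Fiber S) :=
    (PrimeSpectrum.discreteTopology_iff_finite_and_krullDimLE_zero.1 inferInstance).2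
  haveI : IsArtinianRing (p.Fiber S) :=
    isArtinianRing_iff_isNoetherianRing_krullDimLE_zero.2 ⟨inferInstance, inferInstance⟩
  haveI : Module.Finite p.ResidueField (p.Fiber S) := (Module.finite_iff_isArtinianRing _ _).2 inferInstance
  obtain ⟨gens, hgens⟩ := (inferInstance : Algebra.FiniteType R S).out
  choose g hgp hg using fun x : S => exists_integral R S p hp x
  refine ⟨∏ x ∈ gens, g x, ?_, ?_⟩
  · exact fun h => (Ideal.IsPrime.prod_mem_iff.1 h).elim fun x hx => hgp x hx.2
  let G := ∏ x ∈ gens, g x
  let B := Localization.Away (algebraMap R S G)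
  letI : Algebra (Localization.Away G) B := (Localization.awayMap (algebraMap R S) G).toAlgebra
  haveI : IsScalarTower R (Localization.Away G) B := IsScalarTower.of_algebraMap_eq fun r => by
    show _ = Localization.awayMap (algebraMap R S) G (algebraMap R _ r)
    rw [Localization.awayMap, IsLocalization.Away.map, IsLocalization.map_eq, ← IsScalarTower.algebraMap_apply]
  have hint : ∀ s : S, IsIntegral (Localization.Away G) (algebraMap S B s) := by
    intro s
    have hs : s ∈ Algebra.adjoin R (gens : Set S) := hgens ▸ trivial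
    have hle : Algebra.adjoin R (gens : Set S) ≤
        ((integralClosure (Localization.Away G) B).restrictScalars R).comap (IsScalarTower.toAlgHom R S B) := by
      refine Algebra.adjoin_le fun x hx => ?_
      exact hg x G (Finset.dvd_prod_of_mem g hx)
    exact hle hs
  haveI : Algebra.FiniteType (Localization.Away G) B := by
    haveI : Algebra.FiniteType R B := Algebra.FiniteType.trans (R := R) (S := S) inferInstance
      (IsLocalization.finiteType_of_monoid_fg (Submonoid.powers (algebraMap R S G)) B)
    exact Algebra.FiniteType.of_restrictScalars_finiteType R _ _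
  haveI : Algebra.IsIntegral (Localization.Away G) B := by
    refine ⟨fun z => ?_⟩
    obtain ⟨⟨s, ⟨_, k, rfl⟩⟩, rfl⟩ := IsLocalization.mk'_surjective (Submonoid.powers (algebraMap R S G)) z
    have hu : IsUnit ((algebraMap R (Localization.Away G) G) ^ k) :=
      (IsLocalization.Away.algebraMap_isUnit G).pow k
    obtain ⟨v, hv⟩ := hu.exists_left_inv
    have : IsLocalization.mk' B s (⟨algebraMap R S G ^ k, ⟨k, rfl⟩⟩ : Submonoid.powers (algebraMap R S G)) = algebraMap (Localization.Away G) B v * algebraMap S B s := by
      rw [IsLocalization.mk'_eq_iff_eq_mul]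
      have h2 := congrArg (algebraMap (Localization.Away G) B) hv
      rw [map_mul, map_pow, map_one, ← IsScalarTower.algebraMap_apply, IsScalarTower.algebraMap_apply R S B, ← map_pow] at h2
      rw [mul_assoc, mul_comm (algebraMap S B s), ← mul_assoc]
      exact (one_mul _).symm.trans (congrArg (· * algebraMap S B s) h2.symm)
    show IsIntegral (Localization.Away G) (IsLocalization.mk' B s (⟨algebraMap R S G ^ k, ⟨k, rfl⟩⟩ : Submonoid.powers (algebraMap R S G)))
    rw [this]
    exact isIntegral_algebraMap.mul (hint s)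
  exact Algebra.IsIntegral.finite

end Groth.Agent.S9135
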