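import Groth.Statements.S9137
import Mathlib

set_option autoImplicit false
universe u
open CAlg

namespace Groth.Agent.S9137

/-- Let R → S be a local ring homomorphism between local rings, essentially of finite type, such that
the residue field of S is finite over that of R and S/m_R S has dimension zero. Then S is, as an
R-algebra, the localization of a finite R-algebra at a prime. -/
theorem result (R S : Type u) [CommRing R] [CommRing S]
    [IsLocalRing R] [IsLocalRing S] [Algebra R S] [IsLocalHom (algebraMap R S)]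
    [Algebra.EssFiniteType R S]
    (hres : Module.Finite (IsLocalRing.ResidueField R) (IsLocalRing.ResidueField S))
    (hdim : ringKrullDim (S ⧸ (IsLocalRing.maximalIdeal R).map (algebraMap R S)) = 0) :
    ∃ (S' : Type u) (_ : CommRing S') (_ : Algebra R S') (_ : Algebra S' S) (_ : IsScalarTower R S' S)
      (q : Ideal S') (_ : q.IsPrime), Module.Finite R S' ∧ IsLocalization.AtPrime S q := by
  classical
  let T := Algebra.EssFiniteType.subalgebra R S
  let q : Ideal T := (IsLocalRing.maximalIdeal S).comap (algebraMap T S)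
  have hTq : IsLocalization.AtPrime S q := by
    have h : q.primeCompl = Algebra.EssFiniteType.submonoid R S := by
      ext x
      show x ∉ q ↔ IsUnit (algebraMap T S x)
      exact not_not
    change IsLocalization q.primeCompl S
    rw [h]
    infer_instance
  let M := S ⧸ (IsLocalRing.maximalIdeal R).map (algebraMap R S)
  have hN : IsNoetherianRing M := by
    have : Algebra.EssFiniteType (R ⧸ IsLocalRing.maximalIdeal R) M := Algebra.EssFiniteType.of_comp R _ _
    let _ : Field (R ⧸ IsLocalRing.maximalIdeal R) := Ideal.Quotient.field _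
    exact Algebra.EssFiniteType.isNoetherianRing (R ⧸ IsLocalRing.maximalIdeal R) M
  have hdim' : ringKrullDim M = 0 := hdim
  have : Ring.KrullDimLE 0 M := Ring.krullDimLE_iff.mpr hdim'.le
  have : IsArtinianRing M := isArtinianRing_iff_isNoetherianRing_krullDimLE_zero.mpr ⟨hN, this⟩
  have hlen : Module.length R M ≠ ⊤ := by
    rw [IsLocalRing.length_restrictScalars R S M]
    refine WithTop.mul_ne_top ?_ Module.length_ne_top
    rw [Module.length_eq_of_surjective (S := S) (R := M) (M := M) Ideal.Quotient.mk_surjective]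
    exact Module.length_ne_top
  have : IsNoetherian R M :=
    (isFiniteLength_iff_isNoetherian_isArtinian.mp (Module.length_ne_top_iff.mp hlen)).1
  have hu : q.under R = IsLocalRing.maximalIdeal R := by
    rw [Ideal.under_def]
    change Ideal.comap _ (Ideal.comap _ _) = _
    rw [Ideal.comap_comap, ← IsScalarTower.algebraMap_eq]
    exact IsLocalRing.maximalIdeal_comap _
  let e : Localization.AtPrime q ≃ₐ[R] S :=
    (IsLocalization.algEquiv q.primeCompl (Localization.AtPrime q) S).restrictScalars R
  have : Algebra.WeaklyQuasiFiniteAt R q := by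
    rw [Algebra.weaklyQuasiFiniteAt_iff, hu]
    refine (Algebra.QuasiFinite.iff_of_algEquiv (Ideal.quotientEquivAlg
      ((IsLocalRing.maximalIdeal R).map (algebraMap R (Localization.AtPrime q)))
      ((IsLocalRing.maximalIdeal R).map (algebraMap R S)) e ?_)).mpr inferInstance
    rw [Ideal.map_map]
    exact congrArg (fun g => (IsLocalRing.maximalIdeal R).map g) e.toAlgHom.comp_algebraMap.symm
  obtain ⟨S', hfg, r, hr, hbij⟩ :=
    Algebra.QuasiFiniteAt.exists_fg_and_exists_notMem_and_awayMap_bijective (R := R) q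
  have hmul : ∀ t : T, ∃ N : ℕ, t * (r : T) ^ N ∈ S' := by
    intro t
    obtain ⟨y, hy⟩ := hbij.2 (algebraMap T _ t)
    obtain ⟨s, ⟨_, k, rfl⟩, rfl⟩ := IsLocalization.exists_mk'_eq (Submonoid.powers r) y
    rw [Localization.awayMap, IsLocalization.Away.map, IsLocalization.map_mk',
      IsLocalization.mk'_eq_iff_eq_mul, ← map_mul,
      IsLocalization.eq_iff_exists (Submonoid.powers (S'.val.toRingHom r))] at hy
    obtain ⟨⟨_, j, rfl⟩, hj⟩ := hy
    refine ⟨k + j, ?_⟩
    have : t * (r : T) ^ (k + j) = (r : T) ^ j * (s : T) := by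
      simp only [map_pow, AlgHom.toRingHom_eq_coe, RingHom.coe_coe, Subalgebra.coe_val] at hj
      rw [hj]; ring
    rw [this]
    exact S'.mul_mem (pow_mem r.2 j) s.2
  have hqp : q.IsPrime := inferInstance
  let q' : Ideal S' := q.comap S'.val.toRingHom
  have hr' : ∀ N : ℕ, (r : T) ^ N ∉ q := fun N h => hr (hqp.mem_of_pow_mem N h)
  let _ : Algebra S' S := ((algebraMap T S).comp S'.val.toRingHom).toAlgebra
  have hst : IsScalarTower R S' S := IsScalarTower.of_algebraMap_eq fun x => rfl
  refine ⟨S', inferInstance, inferInstance, _, hst, q', inferInstance,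
    ⟨(Submodule.fg_top _).mpr hfg⟩, ?_⟩
  refine { map_units := fun y => IsLocalization.map_units S (⟨S'.val y.1, y.2⟩ : q.primeCompl),
           surj := fun z => ?_, exists_of_eq := fun {x y} h => ?_ }
  · obtain ⟨a, ⟨u, hu⟩, rfl⟩ := IsLocalization.exists_mk'_eq q.primeCompl z
    obtain ⟨N1, h1⟩ := hmul a
    obtain ⟨N2, h2⟩ := hmul u
    refine ⟨⟨⟨a * (r : T) ^ (N1 + N2), ?_⟩, ⟨⟨u * (r : T) ^ (N1 + N2), ?_⟩, ?_⟩⟩, ?_⟩
    · rw [pow_add, ← mul_assoc]; exact S'.mul_mem h1 (pow_mem r.2 _)
    · rw [pow_add, mul_left_comm]; exact S'.mul_mem (pow_mem r.2 _) h2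
    · exact hqp.mul_notMem hu (hr' _)
    · change IsLocalization.mk' S a ⟨u, hu⟩ * algebraMap T S (u * _) = algebraMap T S (a * _)
      rw [map_mul, map_mul, ← mul_assoc]
      congr 1
      exact IsLocalization.mk'_spec S a (⟨u, hu⟩ : q.primeCompl)
  · obtain ⟨⟨c, hc⟩, hcxy⟩ := IsLocalization.exists_of_eq (M := q.primeCompl) (S := S) (x := (x : T)) (y := (y : T)) h
    obtain ⟨N, hN⟩ := hmul c
    refine ⟨⟨⟨c * (r : T) ^ N, hN⟩, hqp.mul_notMem hc (hr' N)⟩, Subtype.ext ?_⟩
    change c * (r : T) ^ N * (x : T) = c * (r : T) ^ N * (y : T)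
    have hcxy' : c * (x : T) = c * (y : T) := hcxy
    linear_combination (r : T) ^ N * hcxy'

end Groth.Agent.S9137
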