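import Groth.Statements.S9138
import Groth.Agent.AdicLinTop.CompletionMap
import Groth.Agent.Calg2.CompleteStructure
import Mathlib
-- import your own Groth.Agent.* helpers here

set_option autoImplicit false
universe u
open CAlg

namespace Groth.Agent.S9138

open Groth.AdicLinTop.CompletionMap in
/-- Completions for cofinal adic filtrations agree. -/
theorem bijective_of_pow_le {S : Type u} [CommRing S] (I K : Ideal S) (hIK : I.map (RingHom.id S) ≤ K)
    (k : ℕ) (hk : K ^ k ≤ I) : Function.Bijective (FSch.complMap I K (RingHom.id S) hIK) := by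
  have hk' : K.map (RingHom.id S) ≤ K := (Ideal.map_id K).le
  have hpow : ∀ n, K ^ ((k + 1) * n) ≤ I ^ n := fun n => by
    rw [pow_mul]
    exact Ideal.pow_right_mono ((Ideal.pow_le_pow_right (Nat.le_succ k)).trans hk) n
  have hmk : ∀ (n : ℕ) (x : AdicCompletion I S) (a : S), AdicCompletion.evalₐ I n x = Ideal.Quotient.mk _ a →
      AdicCompletion.evalₐ K n (FSch.complMap I K (RingHom.id S) hIK x) = Ideal.Quotient.mk _ a := fun n x a ha => by
    rw [evalₐ_complMap, ha, Ideal.quotientMap_mk, RingHom.id_apply]
  refine ⟨?_, ?_⟩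
  · rw [injective_iff_map_eq_zero]
    intro x hx
    refine AdicCompletion.ext_evalₐ fun n => ?_
    obtain ⟨a, rfl⟩ := AdicCompletion.mk_surjective I S x
    rw [map_zero, AdicCompletion.evalₐ_mk, Ideal.Quotient.eq_zero_iff_mem]
    have h1 := hmk ((k + 1) * n) (AdicCompletion.mk I S a) (a.val ((k + 1) * n)) (AdicCompletion.evalₐ_mk _ _ _)
    rw [hx, map_zero, eq_comm, Ideal.Quotient.eq_zero_iff_mem] at h1
    have h2 := a.2 (show n ≤ (k + 1) * n from Nat.le_mul_of_pos_left n k.succ_pos)
    rw [SModEq.sub_mem, smul_eq_mul, Ideal.mul_top] at h2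
    simpa using (I ^ n).add_mem h2 (hpow n h1)
  · intro y
    obtain ⟨b, rfl⟩ := AdicCompletion.mk_surjective K S y
    let a : AdicCompletion.AdicCauchySequence I S := ⟨fun n => b.val ((k + 1) * n), fun {p q} hpq => by
      rw [SModEq.sub_mem, smul_eq_mul, Ideal.mul_top]
      have h2 := b.2 (Nat.mul_le_mul_left (k + 1) hpq)
      rw [SModEq.sub_mem, smul_eq_mul, Ideal.mul_top] at h2
      exact hpow p h2⟩
    refine ⟨AdicCompletion.mk I S a, AdicCompletion.ext_evalₐ fun n => ?_⟩
    rw [hmk n _ _ (AdicCompletion.evalₐ_mk _ _ _), AdicCompletion.evalₐ_mk, Ideal.Quotient.eq]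
    have h2 := b.2 (show n ≤ (k + 1) * n from Nat.le_mul_of_pos_left n k.succ_pos)
    rw [SModEq.sub_mem, smul_eq_mul, Ideal.mul_top] at h2
    have h3 := neg_mem h2
    rw [neg_sub] at h3
    exact h3

open Groth.AdicLinTop.CompletionMap in
/-- `R^ → S^` is finite when `S/IS` is. -/
theorem finite_complMap {R S : Type u} [CommRing R] [CommRing S] [Algebra R S] {J : Ideal R} (hJ : J.FG)
    [Module.Finite R (S ⧸ J.map (algebraMap R S))] :
    (FSch.complMap J (J.map (algebraMap R S)) (algebraMap R S) le_rfl).Finite := by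
  let P := AdicCompletion J R
  let I := J.map (algebraMap R S)
  let Q := AdicCompletion I S
  letI : Algebra P Q := (FSch.complMap J I (algebraMap R S) le_rfl).toAlgebra
  haveI : IsScalarTower R P Q := IsScalarTower.of_algebraMap_eq fun r =>
    ((complMap_algebraMap J I (algebraMap R S) le_rfl r).trans (IsScalarTower.algebraMap_apply R S Q r).symm).symm
  haveI : IsAdicComplete (J.map (algebraMap R P)) P := AdicCompletion.isAdicComplete_self J hJ
  have hmap : (J.map (algebraMap R P)).map (algebraMap P Q) = I.map (algebraMap S Q) := by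
    rw [Ideal.map_map, Ideal.map_map, ← IsScalarTower.algebraMap_eq, ← IsScalarTower.algebraMap_eq]
  haveI : IsHausdorff ((J.map (algebraMap R P)).map (algebraMap P Q)) Q := by
    rw [hmap]
    exact (AdicCompletion.isAdicComplete_self I (hJ.map _)).toIsHausdorff
  haveI : Module.Finite P (Q ⧸ (J.map (algebraMap R P)).map (algebraMap P Q)) := by
    haveI : Module.Finite R (Q ⧸ (J.map (algebraMap R P)).map (algebraMap P Q)) := by
      refine Module.Finite.of_surjective
        (Ideal.Quotient.liftₐ I ((Ideal.Quotient.mkₐ R _).comp (IsScalarTower.toAlgHom R S Q)) (fun s hs => ?_)).toLinearMap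
        (fun z => ?_)
      · refine Ideal.Quotient.eq_zero_iff_mem.2 ?_
        rw [hmap]
        exact Ideal.mem_map_of_mem _ hs
      · obtain ⟨x, rfl⟩ := Ideal.Quotient.mk_surjective z
        obtain ⟨s, hs⟩ := exists_algebraMap_sub I x
        refine ⟨Ideal.Quotient.mk I s, ?_⟩
        show Ideal.Quotient.mk _ (algebraMap S Q s) = Ideal.Quotient.mk _ x
        rw [Ideal.Quotient.eq, hmap, ← AdicCompletion.ker_evalOneₐ_eq_map I (hJ.map _)]
        show AdicCompletion.evalOneₐ I (algebraMap S Q s - x) = 0
        rw [map_sub, hs, sub_self]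
    exact Module.Finite.of_restrictScalars_finite R _ _
  exact RingHom.finite_algebraMap.2 (Groth.Calg2.CompleteStructure.finite_of_finite_quotient (J.map (algebraMap R P)))

/-- Let R → S be a local ring homomorphism between local rings with finitely generated maximal ideals m
and n, such that S/mS is a finite-dimensional κ(m)-vector space. Then (1) the canonical ring map
from the mS-adic completion of S to the n-adic completion of S is bijective, and (2) the induced
ring map from the m-adic completion of R to the n-adic completion of S is finite. (The hypotheses h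
and h' record the inclusion mS ⊆ n, which holds for any local homomorphism; they are the arguments
the completion maps take.) -/
theorem result (R S : Type u) [CommRing R] [CommRing S]
    [IsLocalRing R] [IsLocalRing S] [Algebra R S] [IsLocalHom (algebraMap R S)]
    (hm : (IsLocalRing.maximalIdeal R).FG) (hn : (IsLocalRing.maximalIdeal S).FG)
    (hfib : Module.Finite (IsLocalRing.maximalIdeal R).ResidueField ((IsLocalRing.maximalIdeal R).Fiber S))
    (h : (IsLocalRing.maximalIdeal R).map (algebraMap R S) ≤ IsLocalRing.maximalIdeal S)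
    (h' : ((IsLocalRing.maximalIdeal R).map (algebraMap R S)).map (RingHom.id S) ≤ IsLocalRing.maximalIdeal S) :
    Function.Bijective (FSch.complMap ((IsLocalRing.maximalIdeal R).map (algebraMap R S))
        (IsLocalRing.maximalIdeal S) (RingHom.id S) h') ∧
      (FSch.complMap (IsLocalRing.maximalIdeal R) (IsLocalRing.maximalIdeal S) (algebraMap R S) h).Finite := by
  let m := IsLocalRing.maximalIdeal R
  let I := m.map (algebraMap R S)
  have hIfg : I.FG := hm.map _
  haveI hfinQ : Module.Finite R (S ⧸ I) := by
    haveI : Module.Finite R m.ResidueField := Module.Finite.of_surjective (Algebra.linearMap R m.ResidueField) (by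
      intro y
      obtain ⟨q, rfl⟩ := (Ideal.bijective_algebraMap_quotient_residueField m).2 y
      obtain ⟨r, rfl⟩ := Ideal.Quotient.mk_surjective q
      exact ⟨r, rfl⟩)
    haveI : Module.Finite R (m.Fiber S) := Module.Finite.trans m.ResidueField _
    let e1 := (Algebra.TensorProduct.quotIdealMapEquivTensorQuot S m).toLinearEquiv.restrictScalars R
    let e2 : (R ⧸ m) ≃ₗ[R] m.ResidueField := LinearEquiv.ofBijective
      (IsScalarTower.toAlgHom R (R ⧸ m) m.ResidueField).toLinearMap (Ideal.bijective_algebraMap_quotient_residueField m)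
    exact Module.Finite.equiv ((e1.trans (TensorProduct.comm R S (R ⧸ m))).trans
      (TensorProduct.congr e2 (LinearEquiv.refl R S))).symm
  obtain ⟨k, hk⟩ : ∃ k, IsLocalRing.maximalIdeal S ^ k ≤ I := by
    haveI : Nontrivial (S ⧸ I) := Ideal.Quotient.nontrivial_iff.2 (ne_top_of_le_ne_top (IsLocalRing.maximalIdeal.isMaximal S).ne_top h)
    haveI : IsLocalRing (S ⧸ I) := IsLocalRing.of_surjective' (Ideal.Quotient.mk I) Ideal.Quotient.mk_surjective
    haveI : IsArtinianRing (S ⧸ I) := by
      haveI : IsArtinianRing (R ⧸ m) := by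
        letI := Ideal.Quotient.field m
        infer_instance
      letI : Algebra (R ⧸ m) (S ⧸ I) := (Ideal.quotientMap I (algebraMap R S) Ideal.le_comap_map).toAlgebra
      haveI : IsScalarTower R (R ⧸ m) (S ⧸ I) := IsScalarTower.of_algebraMap_eq fun _ => rfl
      haveI : Module.Finite (R ⧸ m) (S ⧸ I) := Module.Finite.of_restrictScalars_finite R _ _
      exact IsArtinianRing.of_finite (R ⧸ m) _
    obtain ⟨k, hk⟩ := IsArtinianRing.isNilpotent_jacobson_bot (R := S ⧸ I)
    refine ⟨k, fun x hx => Ideal.Quotient.eq_zero_iff_mem.1 ?_⟩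
    have h1 : Ideal.Quotient.mk I x ∈ (Ideal.jacobson (⊥ : Ideal (S ⧸ I))) ^ k := by
      rw [IsLocalRing.jacobson_eq_maximalIdeal ⊥ bot_ne_top, ← IsLocalRing.map_maximalIdeal_of_surjective _ Ideal.Quotient.mk_surjective, ← Ideal.map_pow]
      exact Ideal.mem_map_of_mem _ hx
    rw [hk] at h1
    exact h1
  have hbij : Function.Bijective (FSch.complMap I (IsLocalRing.maximalIdeal S) (RingHom.id S) h') :=
    bijective_of_pow_le I _ h' k hk
  refine ⟨hbij, ?_⟩
  have e : FSch.complMap m (IsLocalRing.maximalIdeal S) (algebraMap R S) h =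
      (FSch.complMap I (IsLocalRing.maximalIdeal S) (RingHom.id S) h').comp (FSch.complMap m I (algebraMap R S) le_rfl) :=
    RingHom.ext fun x => (Groth.AdicLinTop.CompletionMap.complMap_complMap m I (IsLocalRing.maximalIdeal S)
      (algebraMap R S) le_rfl (RingHom.id S) h' (algebraMap R S) h (RingHom.id_comp _) x).symm
  rw [e]
  exact (RingHom.Finite.of_surjective _ hbij.2).comp (finite_complMap hm)

end Groth.Agent.S9138
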