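import Groth.Statements.S9141
import Groth.Agent.Syntomic.CIField
import Groth.Agent.Variety2.DimAffine
import Mathlib.RingTheory.Localization.Away.AdjoinRoot
-- import your own Groth.Agent.* helpers here

set_option autoImplicit false
universe u
open Synt

namespace Groth.Agent.S9141


open Polynomial in
theorem isGlobalCI_away (k S : Type u) [Field k] [CommRing S] [Algebra k S] (g : S)
    (h : Synt.IsGlobalCI k S) : Synt.IsGlobalCI k (Localization.Away g) := by
  rcases subsingleton_or_nontrivial (Localization.Away g) with hL | hL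
  · exact Or.inl hL
  rcases h with hS | ⟨n, c, hcn, φ, r, hφ, hker, hdim⟩
  · exact Or.inl ((IsLocalization.subsingleton_iff (S := Localization.Away g) (M := Submonoid.powers g)).2
      ⟨0, Subsingleton.elim _ _⟩)
  obtain ⟨G, rfl⟩ := hφ g
  let ad : AdjoinRoot (C (φ G) * X - 1) ≃ₐ[k] Localization.Away (φ G) :=
    ((Localization.awayEquivAdjoin (φ G)).symm).restrictScalars k
  let ψ : MvPolynomial (Fin (n + 1)) k →ₐ[k] Localization.Away (φ G) :=
    ad.toAlgHom.comp (((AdjoinRoot.mkₐ (C (φ G) * X - 1)).restrictScalars k).comp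
      ((mapAlgHom φ).comp (MvPolynomial.finSuccEquiv k n).toAlgHom))
  have hψ : Function.Surjective ψ :=
    ad.surjective.comp ((AdjoinRoot.mk_surjective).comp ((Polynomial.map_surjective φ.toRingHom hφ).comp
      (MvPolynomial.finSuccEquiv k n).surjective))
  let r' : Fin (c + 1) → MvPolynomial (Fin (n + 1)) k := fun i =>
    (MvPolynomial.finSuccEquiv k n).symm ((Fin.cons (C G * X - 1) fun j => C (r j) : Fin (c + 1) → (MvPolynomial (Fin n) k)[X]) i)
  have hker' : RingHom.ker ψ.toRingHom = Ideal.span (Set.range r') := by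
    ext x
    rw [RingHom.mem_ker]
    show ad (AdjoinRoot.mk _ (Polynomial.map φ.toRingHom (MvPolynomial.finSuccEquiv k n x))) = 0 ↔ _
    rw [map_eq_zero_iff _ ad.injective, AdjoinRoot.mk_eq_zero, ← Ideal.mem_span_singleton]
    have hm : Ideal.span {C (φ G) * X - (1 : S[X])} =
        (Ideal.span {C G * X - (1 : (MvPolynomial (Fin n) k)[X])}).map (mapRingHom φ.toRingHom) := by
      rw [Ideal.map_span, Set.image_singleton]
      simp
    rw [hm, ← Polynomial.coe_mapRingHom, ← Ideal.mem_comap,
      Ideal.comap_map_of_surjective _ (Polynomial.map_surjective φ.toRingHom hφ), ← RingHom.ker_eq_comap_bot,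
      Polynomial.ker_mapRingHom, hker, Ideal.map_span, ← Ideal.span_union]
    have hset : ({C G * X - 1} ∪ C '' Set.range r : Set (MvPolynomial (Fin n) k)[X]) =
        Set.range (Fin.cons (C G * X - 1) fun j => C (r j) : Fin (c + 1) → (MvPolynomial (Fin n) k)[X]) := by
      rw [Fin.range_cons, ← Set.singleton_union, ← Set.range_comp]
      rfl
    rw [hset]
    have hr : Ideal.span (Set.range r') = (Ideal.span (Set.range (Fin.cons (C G * X - 1) fun j => C (r j) :
        Fin (c + 1) → (MvPolynomial (Fin n) k)[X]))).map (MvPolynomial.finSuccEquiv k n).symm.toRingEquiv := by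
      rw [Ideal.map_span, ← Set.range_comp]
      rfl
    rw [hr, ← Ideal.mem_comap]
    rw [Ideal.mem_map_of_equiv]
    constructor
    · intro hx
      exact ⟨MvPolynomial.finSuccEquiv k n x, hx, (MvPolynomial.finSuccEquiv k n).symm_apply_apply x⟩
    · rintro ⟨y, hy, rfl⟩
      show MvPolynomial.finSuccEquiv k n ((MvPolynomial.finSuccEquiv k n).symm y) ∈ Ideal.span (Set.range (Fin.cons (C G * X - 1) fun j => C (r j) : Fin (c + 1) → (MvPolynomial (Fin n) k)[X]))
      rw [(MvPolynomial.finSuccEquiv k n).apply_symm_apply]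
      exact hy
  refine Or.inr ⟨n + 1, c + 1, by omega, ψ, r', hψ, hker', ?_⟩
  refine le_antisymm ?_ ?_
  · rw [show n + 1 - (c + 1) = n - c by omega, ← hdim]
    refine Order.krullDim_le_of_strictMono (PrimeSpectrum.comap (algebraMap S (Localization.Away (φ G))))
      fun p q hpq => lt_of_le_of_ne (Ideal.comap_mono hpq.le) fun he => hpq.ne ?_
    exact PrimeSpectrum.localization_comap_injective (Localization.Away (φ G)) (Submonoid.powers (φ G)) he
  · obtain ⟨m, hm⟩ := Ideal.exists_maximal (Localization.Away (φ G))
    let M := m.comap ψ.toRingHom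
    haveI : M.IsMaximal := Ideal.comap_isMaximal_of_surjective ψ.toRingHom hψ
    have hM := Groth.Variety2.Dim.height_isMaximal_mvPolynomial k (n + 1) M inferInstance
    have hIM : RingHom.ker ψ.toRingHom ≤ M := Ideal.comap_mono bot_le
    have h1 := Ideal.height_le_height_add_spanFinrank_of_le hIM
    have h2 : (RingHom.ker ψ.toRingHom).spanFinrank ≤ c + 1 := by
      rw [hker']
      refine (Submodule.spanFinrank_span_le_ncard_of_finite (Set.finite_range r')).trans ?_
      rw [← Set.image_univ]
      exact (Set.ncard_image_le Set.finite_univ).trans (by simp)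
    haveI := Ideal.map_isPrime_of_surjective (Ideal.Quotient.mk_surjective (I := RingHom.ker ψ.toRingHom))
      ((Ideal.mk_ker).trans_le hIM)
    have h3 := Ideal.height_le_ringKrullDim_of_ne_top (Ideal.IsPrime.ne_top (I := M.map (Ideal.Quotient.mk (RingHom.ker ψ.toRingHom))) inferInstance)
    rw [ringKrullDim_eq_of_ringEquiv (RingHom.quotientKerEquivOfSurjective hψ)] at h3
    refine le_trans ?_ h3
    rw [hM] at h1
    have h4 : ((n + 1 : ℕ) : ℕ∞) ≤ (M.map (Ideal.Quotient.mk (RingHom.ker ψ.toRingHom))).height + (c + 1 : ℕ) :=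
      le_trans (by exact_mod_cast h1) (add_le_add le_rfl (by exact_mod_cast h2))
    have h5 : ((n + 1 - (c + 1) : ℕ) : ℕ∞) ≤ (M.map (Ideal.Quotient.mk (RingHom.ker ψ.toRingHom))).height := by
      rw [ENat.natCast_sub]
      exact tsub_le_iff_right.2 h4
    exact WithBot.coe_le_coe.2 h5

/-- For a finite type algebra S over a field k and g ∈ S, the localization S_g is a global (resp. local)
complete intersection over k whenever S is. -/
theorem result (k S : Type u) [Field k] [CommRing S] [Algebra k S]
    [Algebra.FiniteType k S] (g : S) :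
    (Synt.IsGlobalCI k S → Synt.IsGlobalCI k (Localization.Away g)) ∧
      (Synt.IsLCIOver k S → Synt.IsLCIOver k (Localization.Away g)) := by
  refine ⟨isGlobalCI_away k S g, fun h => ?_⟩
  haveI : Algebra.FiniteType k (Localization.Away g) :=
    haveI : Algebra.FiniteType S (Localization.Away g) := IsLocalization.finiteType_of_monoid_fg (Submonoid.powers g) _
    Algebra.FiniteType.trans (R := k) (S := S) inferInstance inferInstance
  rw [Groth.Syntomic.isLCIOver_iff_isCompleteIntersection] at h ⊢
  intro Q hQ
  exact Groth.CI.isCompleteIntersection_of_ringEquiv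
    (IsLocalization.algEquiv (Q.comap (algebraMap S (Localization.Away g))).primeCompl
      (Localization.AtPrime (Q.comap (algebraMap S (Localization.Away g)))) (Localization.AtPrime Q)).toRingEquiv
    (h (Q.comap (algebraMap S (Localization.Away g))))

end Groth.Agent.S9141
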