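import Groth.Statements.S9143
import Groth.Agent.Syntomic.EssLocal

set_option autoImplicit false
universe u
open Synt

namespace Groth.Agent.S9143

/-- For a local k-algebra S which is essentially of finite type over a field k, being a complete
intersection over k is equivalent to each of: (2) whenever a regular local ring R, essentially of
finite type over k, maps onto S by a surjective k-algebra map, the kernel is generated by a regular
sequence; (3) some regular local ring R, essentially of finite type over k, maps onto S by a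
surjective k-algebra map whose kernel is generated by a list of dim R − dim S elements (stated as
dim R = dim S + the length of the list); (4) S is isomorphic over k to a localization at a prime of
a global complete intersection over k; (5) the same with a local complete intersection over k. -/
theorem result (k S : Type u) [Field k] [CommRing S]
    [IsLocalRing S] [Algebra k S] [Algebra.EssFiniteType k S] :
    (Synt.IsCIOver k S ↔
        ∀ (R : Type u) [CommRing R] [IsRegularLocalRing R] [Algebra k R], Algebra.EssFiniteType k R →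
          ∀ π : R →ₐ[k] S, Function.Surjective π →
            ∃ rs : List R, RingTheory.Sequence.IsRegular R rs ∧ RingHom.ker π.toRingHom = Ideal.ofList rs) ∧
      (Synt.IsCIOver k S ↔
        ∃ (R : Type u) (_ : CommRing R) (_ : IsRegularLocalRing R) (_ : Algebra k R),
          Algebra.EssFiniteType k R ∧ ∃ π : R →ₐ[k] S, Function.Surjective π ∧
            ∃ rs : List R, RingHom.ker π.toRingHom = Ideal.ofList rs ∧
              ringKrullDim R = ringKrullDim S + (rs.length : WithBot ℕ∞)) ∧
      (Synt.IsCIOver k S ↔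
        ∃ (A : Type u) (_ : CommRing A) (_ : Algebra k A) (a : Ideal A) (_ : a.IsPrime),
          Algebra.FiniteType k A ∧ Synt.IsGlobalCI k A ∧ Nonempty (S ≃ₐ[k] Localization.AtPrime a)) ∧
      (Synt.IsCIOver k S ↔
        ∃ (A : Type u) (_ : CommRing A) (_ : Algebra k A) (a : Ideal A) (_ : a.IsPrime),
          Synt.IsLCIOver k A ∧ Nonempty (S ≃ₐ[k] Localization.AtPrime a)) := by
  have hci := Groth.Syntomic.isCIOver_iff (k := k) (S := S)
  obtain ⟨T, _, _, Q, _, hT, ⟨e⟩⟩ := Groth.Syntomic.exists_atPrime_equiv k S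
  have hto4 : Synt.IsCIOver k S → ∃ (A : Type u) (_ : CommRing A) (_ : Algebra k A) (a : Ideal A) (_ : a.IsPrime),
      Algebra.FiniteType k A ∧ Synt.IsGlobalCI k A ∧ Nonempty (S ≃ₐ[k] Localization.AtPrime a) := by
    intro h
    obtain ⟨g, hg, hG⟩ := (Groth.Syntomic.exists_isGlobalCI_nhd_iff (k := k) Q).mpr
      (Groth.CI.isCompleteIntersection_of_ringEquiv e.symm.toRingEquiv (hci.mp h))
    obtain ⟨a, ha, ⟨e'⟩⟩ := Groth.Syntomic.exists_atPrime_away_equiv k Q hg
    exact ⟨Localization.Away g, inferInstance, inferInstance, a, ha, hT.trans inferInstance, hG,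
      ⟨e.symm.trans e'⟩⟩
  have hfrom : ∀ (A : Type u) [CommRing A] [Algebra k A] (a : Ideal A) [a.IsPrime],
      Synt.IsLCIOver k A → Nonempty (S ≃ₐ[k] Localization.AtPrime a) → Synt.IsCIOver k S := by
    rintro A _ _ a _ hA ⟨f⟩
    have := hA.1
    exact hci.mpr (Groth.CI.isCompleteIntersection_of_ringEquiv f.symm.toRingEquiv
      (Groth.Syntomic.isLCIOver_iff_isCompleteIntersection.mp hA a))
  refine ⟨⟨?_, ?_⟩, ⟨?_, ?_⟩, ⟨hto4, ?_⟩, ⟨?_, ?_⟩⟩
  · intro h R _ _ _ hR π hπ
    obtain ⟨rs, h1, h2⟩ := (Groth.CI.isCompleteIntersection_iff_of_surjective π.toRingHom hπ).mp (hci.mp h)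
    exact ⟨rs, h2, h1.symm⟩
  · intro h
    obtain ⟨R, _, _, _, hR, π, hπ⟩ := Groth.Syntomic.exists_regular_presentation k S
    obtain ⟨rs, h1, h2⟩ := h R hR π hπ
    exact hci.mpr ((Groth.CI.isCompleteIntersection_iff_of_surjective π.toRingHom hπ).mpr ⟨rs, h2.symm, h1⟩)
  · intro h
    obtain ⟨R, iR, iR', iR'', hR, π, hπ⟩ := Groth.Syntomic.exists_regular_presentation k S
    obtain ⟨rs, h1, h2⟩ := (Groth.CI.isCompleteIntersection_iff_of_surjective π.toRingHom hπ).mp (hci.mp h)
    refine ⟨R, iR, iR', iR'', hR, π, hπ, rs, h1.symm, ?_⟩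
    rw [← ringKrullDim_add_length_eq_ringKrullDim_of_isRegular rs h2,
      ringKrullDim_eq_of_ringEquiv ((Ideal.quotEquivOfEq h1).trans
        (RingHom.quotientKerEquivOfSurjective hπ))]
  · rintro ⟨R, _, _, _, hR, π, hπ, rs, hker, hdim⟩
    refine hci.mpr ((Groth.CI.isCompleteIntersection_iff_of_surjective π.toRingHom hπ).mpr ?_)
    rw [Groth.CI.exists_regular_iff _ (RingHom.ker_ne_top _),
      ringKrullDim_eq_of_ringEquiv (RingHom.quotientKerEquivOfSurjective hπ), hdim, add_comm]
    refine add_le_add le_rfl ?_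
    classical
    have h1 : Submodule.span R (↑rs.toFinset : Set R) = RingHom.ker π.toRingHom := by
      rw [hker]
      exact congrArg Ideal.span (Set.ext fun x => by simp)
    have h2 := Submodule.spanFinrank_span_le_ncard_of_finite (R := R) (M := R) rs.toFinset.finite_toSet
    rw [h1, Set.ncard_coe_finset] at h2
    exact_mod_cast h2.trans rs.toFinset_card_le
  · rintro ⟨A, _, _, a, _, hft, hA, hS⟩
    exact hfrom A a (Groth.Syntomic.isLCIOver_iff_isLCI.mpr (Groth.Syntomic.isLCI_of_isGlobalCI hA)) hS
  · intro h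
    obtain ⟨A, iA, iA', a, ia, hft, hA, hS⟩ := hto4 h
    exact ⟨A, iA, iA', a, ia, Groth.Syntomic.isLCIOver_iff_isLCI.mpr (Groth.Syntomic.isLCI_of_isGlobalCI hA), hS⟩
  · rintro ⟨A, _, _, a, _, hA, hS⟩
    exact hfrom A a hA hS

end Groth.Agent.S9143
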