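import Groth.Statements.S9144
import Groth.Agent.Syntomic.CIField
-- import your own Groth.Agent.* helpers here

set_option autoImplicit false
universe u
open Synt

namespace Groth.Agent.S9144

/-- For a finite type algebra S over a field k and a prime q of S, the local ring S_q is a complete
intersection over k if and only if some basic open neighbourhood S_g (g ∉ q) is a local complete
intersection over k, if and only if some S_g (g ∉ q) is a global complete intersection over k. -/
theorem result (k S : Type u) [Field k] [CommRing S] [Algebra k S]
    [Algebra.FiniteType k S] (q : Ideal S) [q.IsPrime] :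
    (Synt.IsCIOver k (Localization.AtPrime q) ↔ ∃ g : S, g ∉ q ∧ Synt.IsLCIOver k (Localization.Away g)) ∧
      (Synt.IsCIOver k (Localization.AtPrime q) ↔
        ∃ g : S, g ∉ q ∧ Synt.IsGlobalCI k (Localization.Away g)) := by
  haveI : Algebra.EssFiniteType k (Localization.AtPrime q) :=
    haveI : Algebra.EssFiniteType S (Localization.AtPrime q) := Algebra.EssFiniteType.of_isLocalization _ q.primeCompl
    Algebra.EssFiniteType.comp k S _
  have hiff := (Groth.Syntomic.exists_isGlobalCI_nhd_iff (k := k) q).trans (Groth.Syntomic.isCIOver_iff (k := k) (S := Localization.AtPrime q)).symm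
  refine ⟨⟨fun h => ?_, ?_⟩, hiff.symm⟩
  · obtain ⟨g, hg, hG⟩ := hiff.2 h
    refine ⟨g, hg, ?_⟩
    haveI : Algebra.FiniteType k (Localization.Away g) :=
      haveI : Algebra.FiniteType S (Localization.Away g) := IsLocalization.finiteType_of_monoid_fg (Submonoid.powers g) _
      Algebra.FiniteType.trans (R := k) (S := S) inferInstance inferInstance
    rw [Groth.Syntomic.isLCIOver_iff_isCompleteIntersection]
    intro Q hQ
    refine Groth.CI.isCompleteIntersection_of_ringEquiv
      (IsLocalization.algEquiv (Q.comap (algebraMap S (Localization.Away g))).primeCompl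
        (Localization.AtPrime (Q.comap (algebraMap S (Localization.Away g)))) (Localization.AtPrime Q)).toRingEquiv ?_
    refine (Groth.Syntomic.exists_isGlobalCI_nhd_iff (k := k) (Q.comap (algebraMap S (Localization.Away g)))).1 ⟨g, ?_, hG⟩
    exact fun hgQ => hQ.ne_top (Ideal.eq_top_of_isUnit_mem _ hgQ
      (IsLocalization.map_units (Localization.Away g) (⟨g, Submonoid.mem_powers g⟩ : Submonoid.powers g)))
  · rintro ⟨g, hg, hG⟩
    exact Groth.Syntomic.isCIOver_iff.2
      (Groth.Syntomic.isCompleteIntersection_of_isLCI_away (k := k) q hg (Groth.Syntomic.isLCIOver_iff_isLCI.1 hG))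

end Groth.Agent.S9144
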