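import Groth.Statements.S9145
import Groth.Agent.Syntomic.CIField

set_option autoImplicit false
universe u
open Synt

namespace Groth.Agent.S9145

/-- A finite type algebra S over a field k is a local complete intersection over k if and only if all
its local rings at primes (equivalently, at maximal ideals) are complete intersections over k. -/
theorem result (k S : Type u) [Field k] [CommRing S] [Algebra k S]
    [Algebra.FiniteType k S] :
    (Synt.IsLCIOver k S ↔ ∀ p : PrimeSpectrum S, Synt.IsCIOver k (Localization.AtPrime p.asIdeal)) ∧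
      (Synt.IsLCIOver k S ↔
        ∀ m : MaximalSpectrum S, Synt.IsCIOver k (Localization.AtPrime m.asIdeal)) := by
  have hall : Synt.IsLCIOver k S → ∀ p : PrimeSpectrum S, Synt.IsCIOver k (Localization.AtPrime p.asIdeal) :=
    fun h p => Groth.Syntomic.isCIOver_atPrime (k := k) p.asIdeal
      (Groth.Syntomic.isLCIOver_iff_isCompleteIntersection.mp h p.asIdeal)
  refine ⟨⟨hall, fun h => Groth.Syntomic.isLCIOver_iff_isCompleteIntersection.mpr fun Q hQ =>
    Groth.Syntomic.isCompleteIntersection_of_isCIOver (h ⟨Q, hQ⟩)⟩,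
    ⟨fun h m => hall h ⟨m.asIdeal, m.isMaximal.isPrime⟩, fun h => ⟨inferInstance, fun p => ?_⟩⟩⟩
  obtain ⟨m, hm, hle⟩ := Ideal.exists_le_maximal p.asIdeal p.isPrime.ne_top
  haveI := hm.isPrime
  obtain ⟨g, hg, hG⟩ := (Groth.Syntomic.exists_isGlobalCI_nhd_iff (k := k) m).mpr
    (Groth.Syntomic.isCompleteIntersection_of_isCIOver (h ⟨m, hm⟩))
  exact ⟨g, fun hgp => hg (hle hgp), hG⟩

end Groth.Agent.S9145
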