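import Groth.Statements.S9149
import Groth.Agent.Misc8.QuietSyntomic
import Mathlib

set_option autoImplicit false
universe u
open Synt

namespace Groth.Agent.S9149

open Polynomial in
/-- Adjoining a root of a monic polynomial. -/
theorem qs_adjoinRoot (A : Type u) [CommRing A] (P : A[X]) (hm : P.Monic) :
    Groth.Misc8.QuietSyntomic.QS A (AdjoinRoot P) := by
  haveI := hm.free_adjoinRoot
  haveI := hm.finite_adjoinRoot
  haveI : Algebra.FinitePresentation A (AdjoinRoot P) := inferInstance
  refine ⟨inferInstance, inferInstance, inferInstance, 1, ⟨?_⟩⟩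
  let e : MvPolynomial (Fin 1) A ≃ₐ[A] Polynomial A := MvPolynomial.uniqueAlgEquiv A (Fin 1)
  let v : Fin 1 → MvPolynomial (Fin 1) A := fun _ => e.symm P
  refine (Algebra.Presentation.naive (v := v)).ofAlgEquiv
    (Ideal.quotientEquivAlg _ _ e ?_ : (MvPolynomial (Fin 1) A ⧸ Ideal.span (Set.range v)) ≃ₐ[A] AdjoinRoot P)
  rw [Set.range_const, Ideal.map_span, Set.image_singleton]
  congr 2
  exact (e.apply_symm_apply _).symm

open Polynomial in
theorem aux : ∀ (d : ℕ) (A : Type u) [CommRing A] (P : A[X]), P.Monic → P.natDegree = d →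
    ∃ (A' : Type u) (_ : CommRing A') (_ : Algebra A A'),
      Groth.Misc8.QuietSyntomic.QS A A' ∧ Module.Finite A A' ∧ Module.Free A A' ∧ Module.FaithfullyFlat A A' ∧
        ∃ s : Multiset A', P.map (algebraMap A A') = (s.map fun b => X - C b).prod := by
  intro d
  induction d with
  | zero =>
    intro A _ P hP hd
    exact ⟨A, inferInstance, inferInstance, .of_etale A A, inferInstance, inferInstance, inferInstance, 0, by
      rw [eq_one_of_monic_natDegree_zero hP hd, Polynomial.map_one, Multiset.map_zero, Multiset.prod_zero]⟩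
  | succ d ih =>
    intro A _ P hP hd
    haveI := hP.free_adjoinRoot
    haveI := hP.finite_adjoinRoot
    haveI : Nontrivial A := nontrivial_iff.mp ⟨P, 1, fun h => by rw [h, natDegree_one] at hd; omega⟩
    haveI : Nontrivial (AdjoinRoot P) :=
      ⟨_, 0, (AdjoinRoot.powerBasisAux' hP).ne_zero ⟨0, by omega⟩⟩
    haveI : Module.FaithfullyFlat A (AdjoinRoot P) := inferInstance
    set P₁ := P.map (algebraMap A (AdjoinRoot P)) with hP₁
    have hroot : P₁.IsRoot (AdjoinRoot.root P) := AdjoinRoot.isRoot_root P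
    have hmul := mul_divByMonic_eq_iff_isRoot.mpr hroot
    have hmon : (P₁ /ₘ (X - C (AdjoinRoot.root P))).Monic :=
      (monic_X_sub_C _).of_mul_monic_left (by rw [hmul]; exact hP.map _)
    have hdeg : (P₁ /ₘ (X - C (AdjoinRoot.root P))).natDegree = d := by
      rw [natDegree_divByMonic _ (monic_X_sub_C _), natDegree_X_sub_C, hP₁, hP.natDegree_map, hd, Nat.add_sub_cancel]
    obtain ⟨A', _, _, h₁, h₂, h₃, h₄, s, hs⟩ := ih _ _ hmon hdeg
    letI : Algebra A A' := ((algebraMap (AdjoinRoot P) A').comp (algebraMap A (AdjoinRoot P))).toAlgebra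
    haveI : IsScalarTower A (AdjoinRoot P) A' := IsScalarTower.of_algebraMap_eq fun _ => rfl
    refine ⟨A', inferInstance, inferInstance, (qs_adjoinRoot A P hP).comp h₁, Module.Finite.trans (AdjoinRoot P) A',
      Module.Free.trans (S := AdjoinRoot P), Module.FaithfullyFlat.trans A (AdjoinRoot P) A',
      algebraMap _ A' (AdjoinRoot.root P) ::ₘ s, ?_⟩
    rw [IsScalarTower.algebraMap_eq A (AdjoinRoot P) A', ← Polynomial.map_map, ← hP₁, ← hmul, Polynomial.map_mul, hs,
      Multiset.map_cons, Multiset.prod_cons, Polynomial.map_sub, map_X, map_C]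

open Polynomial in
/-- A monic polynomial over a ring A splits into linear factors over some A-algebra A' that is syntomic,
finite free and faithfully flat over A. -/
theorem result (A : Type u) [CommRing A] (P : A[X]) (hP : P.Monic) :
    ∃ (A' : Type u) (_ : CommRing A') (_ : Algebra A A'),
      Synt.IsSyntomic A A' ∧ Module.Finite A A' ∧ Module.Free A A' ∧ Module.FaithfullyFlat A A' ∧
        ∃ s : Multiset A', P.map (algebraMap A A') = (s.map fun b => X - C b).prod := by
  obtain ⟨A', i₁, i₂, h₁, h₂⟩ := aux _ A P hP rfl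
  exact ⟨A', i₁, i₂, h₁.isSyntomic, h₂⟩

end Groth.Agent.S9149
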