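import Groth.Statements.S9172
import Groth.Agent.Calg5.RelGCIOpen

set_option autoImplicit false
universe u
open Synt

open TensorProduct

namespace Groth.Agent.S9172

/-- A fibre over a prime containing `I` is a fibre of the reduction. -/
theorem fibre_le {R : Type u} [CommRing R] {n c : ℕ} {F : Fin c → MvPolynomial (Fin n) R} {I : Ideal R}
    (hI : Synt.IsRelGCI (R ⧸ I) n c (fun i => MvPolynomial.map (Ideal.Quotient.mk I) (F i)))
    (p : Ideal R) [p.IsPrime] (hp : I ≤ p) (hnt : Nontrivial (p.Fiber (Synt.RelGCIRing R n c F))) :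
    c ≤ n ∧ ringKrullDim (p.Fiber (Synt.RelGCIRing R n c F)) ≤ ((n - c : ℕ) : WithBot ℕ∞) := by
  set π := Ideal.Quotient.mk I
  let pb : Ideal (R ⧸ I) := p.map π
  haveI : pb.IsPrime := Ideal.map_isPrime_of_surjective Ideal.Quotient.mk_surjective (by rwa [Ideal.mk_ker])
  have hcomap : p = pb.comap π := by
    rw [Ideal.comap_map_of_surjective' π Ideal.Quotient.mk_surjective, Ideal.mk_ker, sup_eq_left.mpr hp]
  let j := Ideal.ResidueField.map p pb π hcomap
  have hj : Function.Bijective j := RingHom.SurjectiveOnStalks.residueFieldMap_bijective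
    (RingHom.surjectiveOnStalks_of_surjective Ideal.Quotient.mk_surjective) _ _ _
  let e₁ := (Groth.Calg5.RelGCI.tensorQuotientEquiv p.ResidueField F).toRingEquiv
  let e₂ := (Groth.Calg5.RelGCI.tensorQuotientEquiv pb.ResidueField
    (fun i => MvPolynomial.map π (F i))).toRingEquiv
  let e := RingEquiv.ofBijective j hj
  have hmap : Ideal.span (Set.range fun i =>
      MvPolynomial.map (algebraMap (R ⧸ I) pb.ResidueField) (MvPolynomial.map π (F i))) =
      (Ideal.span (Set.range fun i => MvPolynomial.map (algebraMap R p.ResidueField) (F i))).map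
        (MvPolynomial.mapEquiv (Fin n) e : MvPolynomial (Fin n) p.ResidueField →+* _) := by
    rw [Ideal.map_span, ← Set.range_comp]
    congr 2
    funext i
    change _ = MvPolynomial.map (e : p.ResidueField →+* pb.ResidueField) (MvPolynomial.map _ (F i))
    rw [MvPolynomial.map_map, MvPolynomial.map_map]
    congr 2
    refine RingHom.ext fun a => ?_
    exact (Ideal.ResidueField.map_algebraMap p pb π hcomap a).symm
  let E := (Ideal.quotientEquiv _ _ (MvPolynomial.mapEquiv (Fin n) e) hmap)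
  let G := (e₁.trans E).trans e₂.symm
  haveI := hnt
  obtain ⟨hc, hd⟩ := hI ⟨pb, inferInstance⟩ G.symm.toEquiv.nontrivial
  exact ⟨hc, (ringKrullDim_eq_of_ringEquiv G).le.trans hd.le⟩


open MvPolynomial in
/-- Let S = R[x_1, …, x_n]/(F_1, …, F_c) over a ring R. Let I be an ideal of R such that the reduction
R/I[x]/(F mod I) = S/IS is a relative global complete intersection over R/I (its nonempty fibres
have dimension n − c). Then some h in the polynomial ring, with image g in S, satisfies: g maps to 1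
in S/IS, and the presentation S_g = R[x_1, …, x_{n+1}]/(F_1, …, F_c, h·x_{n+1} − 1) is a relative
global complete intersection over R (with S_g isomorphic to it over R). -/
theorem result (R : Type u) [CommRing R] (n c : ℕ) (F : Fin c → MvPolynomial (Fin n) R)
    (I : Ideal R)
    (hI : Synt.IsRelGCI (R ⧸ I) n c (fun i => MvPolynomial.map (Ideal.Quotient.mk I) (F i))) :
    ∃ h : MvPolynomial (Fin n) R,
      Ideal.Quotient.mk (I.map (algebraMap R (Synt.RelGCIRing R n c F)))
        (Ideal.Quotient.mk (Ideal.span (Set.range F)) h) = 1 ∧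
      Synt.IsRelGCI R (n + 1) (c + 1)
        (Fin.snoc (fun i => rename Fin.castSucc (F i)) (rename Fin.castSucc h * X (Fin.last n) - 1)) ∧
      Nonempty (Localization.Away (Ideal.Quotient.mk (Ideal.span (Set.range F)) h) ≃ₐ[R]
        Synt.RelGCIRing R (n + 1) (c + 1)
          (Fin.snoc (fun i => rename Fin.castSucc (F i)) (rename Fin.castSucc h * X (Fin.last n) - 1))) := by
  classical
  set S := Synt.RelGCIRing R n c F
  set IS := I.map (algebraMap R S)
  -- points of small fibre dimension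
  let U : Set (PrimeSpectrum S) := {Q | ∃ (W : Set (PrimeSpectrum S)), IsOpen W ∧ Q ∈ W ∧ c ≤ n ∧
    ∀ q ∈ W, ∀ (K L : Type u) [Field K] [Field L] [Algebra K L] (χ : R →+* K) (ψ : S →+* L),
      (∀ r, algebraMap K L (χ r) = ψ (algebraMap R S r)) →
      (∀ z, ∃ a b, ψ b ≠ 0 ∧ z = ψ a / ψ b) → RingHom.ker ψ = q.asIdeal →
      Algebra.trdeg K L ≤ ((n - c : ℕ) : Cardinal.{u})}
  have hU : IsOpen U := by
    refine isOpen_iff_forall_mem_open.mpr fun Q ⟨W, hW, hQW, hc, htr⟩ => ⟨W, fun q hq => ?_, hW, hQW⟩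
    exact ⟨W, hW, hq, hc, htr⟩
  have hIU : PrimeSpectrum.zeroLocus (IS : Set S) ⊆ U := by
    intro Q hQ
    let p := Q.comap (algebraMap R S)
    have hp : I ≤ p.asIdeal := fun r hr => hQ (Ideal.mem_map_of_mem _ hr)
    have hnt : Nontrivial (p.asIdeal.Fiber S) := by
      let P := PrimeSpectrum.preimageEquivFiber R S p ⟨Q, rfl⟩
      exact ⟨⟨0, 1, fun h => P.isPrime.ne_top ((Ideal.eq_top_iff_one _).mpr (h ▸ zero_mem _))⟩⟩
    obtain ⟨hc, hd⟩ := fibre_le hI p.asIdeal hp hnt
    obtain ⟨W, hW, hWp, hWtr⟩ := Groth.FibreDim.exists_open_trdeg_le (B := S) p (n - c) hd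
    exact ⟨W, hW, hWp Q rfl, hc, hWtr⟩
  obtain ⟨J, hJ⟩ := (PrimeSpectrum.isClosed_iff_zeroLocus_ideal _).mp hU.isClosed_compl
  have htop : J ⊔ IS = ⊤ := by
    by_contra hne
    obtain ⟨P, hP, hle⟩ := Ideal.exists_le_maximal _ hne
    let Q : PrimeSpectrum S := ⟨P, hP.isPrime⟩
    have h1 : Q ∈ PrimeSpectrum.zeroLocus (J : Set S) := fun x hx => hle (Submodule.mem_sup_left hx)
    rw [← hJ] at h1
    exact h1 (hIU fun x hx => hle (Submodule.mem_sup_right hx))
  obtain ⟨g, hg, i, hi, hgi⟩ := Submodule.mem_sup.mp ((Ideal.eq_top_iff_one _).mp htop)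
  obtain ⟨h, rfl⟩ := Ideal.Quotient.mk_surjective g
  have hD : ∀ q : PrimeSpectrum S, Ideal.Quotient.mk _ h ∉ q.asIdeal → q ∈ U := fun q hq =>
    not_not.mp fun hn => hq ((hJ ▸ hn : q ∈ PrimeSpectrum.zeroLocus (J : Set S)) hg)
  refine ⟨h, ?_, Groth.Calg5.RelGCIOpen.isRelGCI_awayEqs F h fun p' _ hnt => ?_,
    Groth.Calg5.RelGCIOpen.exists_away_equiv F h⟩
  · rw [← map_one (Ideal.Quotient.mk IS), Ideal.Quotient.eq, ← hgi, sub_add_cancel_left]
    exact neg_mem hi
  · refine ⟨?_, Groth.Calg5.RelGCIOpen.ringKrullDim_fiber_away_le _ _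
      (fun q hq => (hD q hq).elim fun W ⟨_, hqW, _, htr⟩ => htr q hqW) p'⟩
    obtain ⟨P, hP⟩ := Ideal.exists_maximal (p'.Fiber (Localization.Away (Ideal.Quotient.mk (Ideal.span (Set.range F)) h)))
    let Q : PrimeSpectrum S := ⟨P.comap ((Algebra.TensorProduct.includeRight (R := R)
      (A := p'.ResidueField) (B := Localization.Away (Ideal.Quotient.mk (Ideal.span (Set.range F)) h))).toRingHom.comp
        (algebraMap S _)), inferInstance⟩
    have hQ : Ideal.Quotient.mk _ h ∉ Q.asIdeal := fun hm => hP.ne_top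
      (Ideal.eq_top_of_isUnit_mem _ hm (by
        rw [RingHom.comp_apply]
        exact (IsLocalization.Away.algebraMap_isUnit (S := Localization.Away (Ideal.Quotient.mk (Ideal.span (Set.range F)) h)) (Ideal.Quotient.mk (Ideal.span (Set.range F)) h)).map _))
    obtain ⟨W, -, -, hc, -⟩ := hD Q hQ
    exact hc

end Groth.Agent.S9172
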