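import Groth.Statements.S9150
import Groth.Agent.Syntomic.Main
import Groth.Agent.S9172

set_option autoImplicit false
universe u
open Synt

namespace Groth.Agent.S9150

/-- Let I be an ideal of a ring R and S̄ an R-algebra killed by I which is syntomic over R/I. Then S̄ is
covered by finitely many basic opens S̄_g each isomorphic, as an R-algebra, to S/IS for some
relative global complete intersection S over R. -/
theorem result (R : Type u) [CommRing R] (I : Ideal R) (Sb : Type u) [CommRing Sb]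
    [Algebra R Sb] [Algebra (R ⧸ I) Sb] [IsScalarTower R (R ⧸ I) Sb] (h : Synt.IsSyntomic (R ⧸ I) Sb) :
    ∃ s : Finset Sb, Ideal.span (s : Set Sb) = ⊤ ∧ ∀ g ∈ s,
      ∃ (n c : ℕ) (F : Fin c → MvPolynomial (Fin n) R), Synt.IsRelGCI R n c F ∧
        Nonempty (Localization.Away g ≃ₐ[R]
          (Synt.RelGCIRing R n c F ⧸ I.map (algebraMap R (Synt.RelGCIRing R n c F)))) := by
  classical
  obtain ⟨s, hsub, hs⟩ := (Ideal.span_eq_top_iff_finite _).mp
    (Groth.Syntomic.isLocRelGCI_of_isSyntomic h).span_eq_top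
  refine ⟨s, hs, fun g hg => ?_⟩
  obtain ⟨n, c, Fb, hFb, ⟨e⟩⟩ := hsub hg
  choose F hF using fun i => MvPolynomial.map_surjective (Ideal.Quotient.mk I) Ideal.Quotient.mk_surjective (Fb i)
  obtain rfl : (fun i => MvPolynomial.map (Ideal.Quotient.mk I) (F i)) = Fb := funext hF
  obtain ⟨hh, hh1, hgci, ⟨e'⟩⟩ := Groth.Agent.S9172.result R n c F I hFb
  set S := Synt.RelGCIRing R n c F
  set Fb := fun i => MvPolynomial.map (Ideal.Quotient.mk I) (F i)
  let mI : MvPolynomial (Fin n) R →ₐ[R] MvPolynomial (Fin n) (R ⧸ I) :=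
    MvPolynomial.mapAlgHom (Ideal.Quotient.mkₐ R I)
  let θ₀ : MvPolynomial (Fin n) R →ₐ[R] Localization.Away g :=
    ((e.toAlgHom.restrictScalars R).comp ((Ideal.Quotient.mkₐ (R ⧸ I) _).restrictScalars R)).comp mI
  have hθ₀ : ∀ a, θ₀ a = e (Ideal.Quotient.mk _ (MvPolynomial.map (Ideal.Quotient.mk I) a)) := fun a => rfl
  have hθ₀s : Function.Surjective θ₀ := fun z => by
    obtain ⟨y, rfl⟩ := e.surjective z
    obtain ⟨y, rfl⟩ := Ideal.Quotient.mk_surjective y
    obtain ⟨a, rfl⟩ := MvPolynomial.map_surjective (Ideal.Quotient.mk I) Ideal.Quotient.mk_surjective y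
    exact ⟨a, hθ₀ a⟩
  have hθ₀0 : ∀ a, θ₀ a = 0 ↔ a ∈ Ideal.span (Set.range F) ⊔ I.map MvPolynomial.C := by
    intro a
    rw [hθ₀, map_eq_zero_iff e e.injective, Ideal.Quotient.eq_zero_iff_mem]
    have hmap : Ideal.span (Set.range Fb) =
        (Ideal.span (Set.range F)).map (MvPolynomial.map (Ideal.Quotient.mk I)) := by
      rw [Ideal.map_span, ← Set.range_comp]; rfl
    have hker : RingHom.ker (MvPolynomial.map (σ := Fin n) (Ideal.Quotient.mk I)) = I.map MvPolynomial.C := by
      rw [MvPolynomial.ker_map, Ideal.mk_ker]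
    rw [hmap, ← Ideal.mem_comap, Ideal.comap_map_of_surjective' (MvPolynomial.map (σ := Fin n) (Ideal.Quotient.mk I))
      (MvPolynomial.map_surjective _ Ideal.Quotient.mk_surjective), hker]
  let θ : S →ₐ[R] Localization.Away g := Ideal.Quotient.liftₐ _ θ₀
    fun a ha => (hθ₀0 a).mpr (Submodule.mem_sup_left ha)
  have hθI : ∀ x, θ x = 0 ↔ x ∈ I.map (algebraMap R S) := by
    intro x
    obtain ⟨a, rfl⟩ := Ideal.Quotient.mk_surjective x
    change θ₀ a = 0 ↔ _
    rw [hθ₀0, ← Ideal.mem_comap,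
      show I.map (algebraMap R S) = (I.map MvPolynomial.C).map (Ideal.Quotient.mk (Ideal.span (Set.range F))) by
        rw [Ideal.map_map]; rfl,
      Ideal.comap_map_of_surjective' _ Ideal.Quotient.mk_surjective, Ideal.mk_ker, sup_comm]
  have hθh : θ (Ideal.Quotient.mk _ hh) = 1 := by
    have := (hθI (Ideal.Quotient.mk _ hh - 1)).mpr (Ideal.Quotient.eq_zero_iff_mem.mp (by
      rw [map_sub, map_one, hh1, sub_self]))
    rwa [map_sub, map_one, sub_eq_zero] at this
  let Ψ : Localization.Away (Ideal.Quotient.mk (Ideal.span (Set.range F)) hh) →ₐ[R] Localization.Away g :=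
    IsLocalization.liftAlgHom (M := Submonoid.powers (Ideal.Quotient.mk (Ideal.span (Set.range F)) hh)) (f := θ)
      (fun ⟨y, k, hk⟩ => by subst hk; rw [map_pow, hθh, one_pow]; exact isUnit_one)
  have hΨ : ∀ x, Ψ (algebraMap S _ x) = θ x := fun x => IsLocalization.lift_eq _ x
  let Φ := Ψ.comp e'.symm.toAlgHom
  have hΦs : Function.Surjective Φ := fun z => by
    obtain ⟨a, rfl⟩ := hθ₀s z
    exact ⟨e' (algebraMap S _ (Ideal.Quotient.mk _ a)), by simp [Φ, hΨ]; rfl⟩
  refine ⟨n + 1, c + 1, _, hgci, ⟨((Ideal.quotientEquivAlgOfEq R ?_).trans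
    (Ideal.quotientKerAlgEquivOfSurjective hΦs)).symm⟩⟩
  refine le_antisymm ?_ fun x hx => ?_
  · rw [Ideal.map_le_iff_le_comap]
    intro r hr
    rw [Ideal.mem_comap, RingHom.mem_ker, AlgHom.commutes]
    have := (hθI (algebraMap R S r)).mpr (Ideal.mem_map_of_mem _ hr)
    rwa [AlgHom.commutes] at this
  · obtain ⟨y, rfl⟩ := e'.surjective x
    replace hx : Ψ y = 0 := by simpa [Φ] using hx
    obtain ⟨a, ⟨_, k, rfl⟩, rfl⟩ := IsLocalization.exists_mk'_eq
      (Submonoid.powers (Ideal.Quotient.mk (Ideal.span (Set.range F)) hh)) y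
    have ha : θ a = 0 := by
      have h1 := congrArg Ψ (IsLocalization.mk'_spec (Localization.Away (Ideal.Quotient.mk
        (Ideal.span (Set.range F)) hh)) a (⟨_, k, rfl⟩ : Submonoid.powers (Ideal.Quotient.mk (Ideal.span (Set.range F)) hh)))
      rw [map_mul, hx, zero_mul, hΨ] at h1
      exact h1.symm
    rw [IsLocalization.mk'_eq_mul_mk'_one, map_mul]
    refine Ideal.mul_mem_right _ _ ?_
    have h2 := Ideal.mem_map_of_mem (e'.toAlgHom.comp (IsScalarTower.toAlgHom R S _)).toRingHom ((hθI a).mp ha)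
    rw [Ideal.map_map,
      show ((e'.toAlgHom.comp (IsScalarTower.toAlgHom R S _)).toRingHom.comp (algebraMap R S)) =
        algebraMap R _ from AlgHom.comp_algebraMap _] at h2
    exact h2

end Groth.Agent.S9150
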