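import Groth.Statements.S9151
import Groth.Agent.Syntomic.CotangentProj
import Groth.Agent.Syntomic.Main

set_option autoImplicit false
universe u
open Synt

namespace Groth.Agent.S9151

/-- Let S = R[x_1, …, x_n]/I with I finitely generated and let g ∈ S be such that S_g is syntomic over
R. Then the localization (I/I²)_g of the conormal module is a finite projective S_g-module. -/
theorem result (R : Type u) [CommRing R] (n : ℕ)
    (I : Ideal (MvPolynomial (Fin n) R)) (hI : I.FG) (g : MvPolynomial (Fin n) R ⧸ I)
    (hg : Synt.IsSyntomic R (Localization.Away g)) :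
    Module.Finite (Localization.Away g) (LocalizedModule (Submonoid.powers g) I.Cotangent) ∧
      Module.Projective (Localization.Away g) (LocalizedModule (Submonoid.powers g) I.Cotangent) := by
  obtain ⟨G, hG⟩ := Ideal.Quotient.mk_surjective g
  subst hG
  let P' := Localization.Away G
  let J := I.map (algebraMap (MvPolynomial (Fin n) R) P')
  let g := Ideal.Quotient.mk I G
  have hloc : IsLocalization.Away g (P' ⧸ J) := by
    have h1 : IsLocalization (Algebra.algebraMapSubmonoid (MvPolynomial (Fin n) R ⧸ I)
      (Submonoid.powers G)) (P' ⧸ J) := inferInstance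
    rwa [Algebra.algebraMapSubmonoid_powers, Ideal.Quotient.algebraMap_eq] at h1
  obtain ⟨hfin, hproj⟩ := Groth.Syntomic.finite_projective_cotangent J (by
    have h1 := Groth.KoszulLCI.isKoszulRegularIdeal_map_away (Ideal.Quotient.mkₐ R I)
      (Ideal.Quotient.mkₐ_surjective R I) G (Groth.Syntomic.isSyntomic_iff.mp hg).2
    rwa [show RingHom.ker (Ideal.Quotient.mkₐ R I).toRingHom = I from Ideal.Quotient.mkₐ_ker R I] at h1)
  letI : Module (MvPolynomial (Fin n) R ⧸ I) J.Cotangent :=
    Module.compHom _ (algebraMap (MvPolynomial (Fin n) R ⧸ I) (P' ⧸ J))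
  have : IsScalarTower (MvPolynomial (Fin n) R ⧸ I) (P' ⧸ J) J.Cotangent :=
    IsScalarTower.of_algebraMap_smul fun _ _ => rfl
  have : IsScalarTower (MvPolynomial (Fin n) R) (MvPolynomial (Fin n) R ⧸ I) J.Cotangent :=
    IsScalarTower.of_algebraMap_smul (R := MvPolynomial (Fin n) R)
      (A := MvPolynomial (Fin n) R ⧸ I) (M := J.Cotangent) fun (a : MvPolynomial (Fin n) R) z => by
      change algebraMap (MvPolynomial (Fin n) R ⧸ I) (P' ⧸ J) (Ideal.Quotient.mk I a) • z = a • z
      rw [Ideal.Quotient.algebraMap_quotient_map_quotient]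
      exact algebraMap_smul P' a z
  let φ : I.Cotangent →ₗ[MvPolynomial (Fin n) R ⧸ I] J.Cotangent :=
    LinearMap.extendScalarsOfSurjective Ideal.Quotient.mk_surjective (Groth.Syntomic.cotMap I P')
  have : IsLocalizedModule (Submonoid.powers g) φ := by
    have : IsLocalizedModule (Submonoid.powers G) (φ.restrictScalars (MvPolynomial (Fin n) R)) :=
      Groth.Syntomic.isLocalizedModule_cotMap I P' (Submonoid.powers G)
    have h1 := IsLocalizedModule.of_restrictScalars (Submonoid.powers G) φ
    rwa [Algebra.algebraMapSubmonoid_powers, Ideal.Quotient.algebraMap_eq] at h1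
  let e := IsLocalizedModule.linearEquiv (Submonoid.powers g) φ
    (LocalizedModule.mkLinearMap (Submonoid.powers g) I.Cotangent)
  let σ := IsLocalization.algEquiv (Submonoid.powers g) (P' ⧸ J) (Localization.Away g)
  letI := RingHomInvPair.of_ringEquiv σ.toRingEquiv
  letI := RingHomInvPair.symm (↑σ.toRingEquiv : P' ⧸ J →+* Localization.Away g) ↑σ.toRingEquiv.symm
  let e₂ : J.Cotangent ≃ₛₗ[(↑σ.toRingEquiv : P' ⧸ J →+* Localization.Away g)]
      LocalizedModule (Submonoid.powers g) I.Cotangent :=
    { e.toAddEquiv with
      map_smul' := fun c x => by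
        obtain ⟨⟨a, s⟩, hs⟩ := IsLocalization.surj (Submonoid.powers g) c
        dsimp only at hs
        change e (c • x) = σ c • e x
        refine (IsLocalization.map_units (Localization.Away g) s).smul_left_cancel.mp ?_
        have h2 : algebraMap _ (Localization.Away g) (s : MvPolynomial (Fin n) R ⧸ I) * σ c =
            algebraMap _ (Localization.Away g) a := by
          rw [← σ.commutes a, ← hs, map_mul, σ.commutes, mul_comm]
        rw [smul_smul, h2, algebraMap_smul, algebraMap_smul, ← map_smul e, ← map_smul e,
          ← algebraMap_smul (P' ⧸ J) (s : MvPolynomial (Fin n) R ⧸ I), smul_smul, mul_comm, hs,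
          algebraMap_smul] }
  exact ⟨Module.Finite.of_surjective e₂.toLinearMap e₂.surjective, Module.Projective.of_equiv e₂⟩

end Groth.Agent.S9151
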