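import Groth.Statements.S9153
import Groth.Agent.Ega4Algebra1.EquidimBasic
-- import your own Groth.Agent.* helpers here

set_option autoImplicit false
universe u
open CAlg

namespace Groth.Agent.S9153

/-- In a polynomial ring in finitely many variables over a field, every saturated chain of primes
between two primes p ⊆ q has length equal to the difference of their heights (stated additively:
length + height p = height q). -/
theorem result (k : Type u) [Field k] (n : ℕ)
    (s : LTSeries (PrimeSpectrum (MvPolynomial (Fin n) k)))
    (hsat : ∀ i : Fin s.length, s (Fin.castSucc i) ⋖ s (Fin.succ i)) :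
    (s.length : ℕ∞) + s.head.asIdeal.height = s.last.asIdeal.height := by
  haveI : IsRegularRing (MvPolynomial (Fin n) k) := inferInstance
  have hstep : ∀ {x y : PrimeSpectrum (MvPolynomial (Fin n) k)}, x ⋖ y → y.asIdeal.height = x.asIdeal.height + 1 := by
    intro x y hxy
    rw [Groth.LocFinite.height_add_Ici x y hxy.le]
    congr 1
    refine le_antisymm (Order.height_le fun l hl => ?_) ?_
    · by_contra hgt
      push Not at hgt
      have h2 : 2 ≤ l.length := by exact_mod_cast hgt
      have ha : l ⟨0, by omega⟩ < l ⟨1, by omega⟩ := l.strictMono (by simp [Fin.lt_def])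
      have hb : l ⟨1, by omega⟩ < l.last := l.strictMono (by simp [Fin.lt_def]; omega)
      rw [hl] at hb
      exact hxy.2 (lt_of_le_of_lt (l ⟨0, by omega⟩).2 ha) hb
    · exact le_trans le_add_self (Order.height_add_one_le
        (show (⟨x, (le_refl x : x ≤ x)⟩ : Set.Ici x) < ⟨y, hxy.le⟩ from hxy.lt))
  have key : ∀ i : Fin (s.length + 1), s.head.asIdeal.height + (i : ℕ) = (s i).asIdeal.height := by
    intro i
    induction i using Fin.induction with
    | zero => simp only [Fin.val_zero, Nat.cast_zero, add_zero]; rfl
    | succ i ih => rw [hstep (hsat i), ← ih, Fin.val_succ, Fin.val_castSucc, Nat.cast_add, Nat.cast_one, add_assoc]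
  rw [add_comm]
  exact key (Fin.last _)

end Groth.Agent.S9153
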