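import Groth.Statements.S9154
import Groth.Agent.FibreRegular.LocalDim
import Groth.Agent.SpectralTopology.Dim

set_option autoImplicit false
universe u
open CAlg

namespace Groth.Agent.S9154

/-- Let S be a Cohen–Macaulay finite type algebra over a field k, equidimensional of dimension d, and
f_1, …, f_i elements (i ≤ d) generating a proper ideal whose zero locus has dimension at most d − i.
Then that dimension equals d − i and the f_j form a regular sequence in S_q for every prime q
containing them. (The published statement also allows the f_j to generate the unit ideal, where the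
zero locus is empty and the equality fails, e.g. f_1 = 1 in k[x]; this row assumes the ideal is
proper.) -/
theorem result (k S : Type u) [Field k] [CommRing S] [Algebra k S]
    [Algebra.FiniteType k S] [LocCoh.IsCohenMacaulayRing S] (d : ℕ)
    (heq : ∀ p ∈ minimalPrimes S, ringKrullDim (S ⧸ p) = d) (f : List S) (hi : f.length ≤ d)
    (hne : Ideal.ofList f ≠ ⊤)
    (hle : ringKrullDim (S ⧸ Ideal.ofList f) ≤ ((d - f.length : ℕ) : WithBot ℕ∞)) :
    ringKrullDim (S ⧸ Ideal.ofList f) = ((d - f.length : ℕ) : WithBot ℕ∞) ∧
      ∀ (q : Ideal S) [q.IsPrime], Ideal.ofList f ≤ q →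
        RingTheory.Sequence.IsRegular (Localization.AtPrime q)
          (f.map (algebraMap S (Localization.AtPrime q))) := by
  have hld : ∀ Qb : PrimeSpectrum (S ⧸ Ideal.ofList f),
      FlatMor.localDim (PrimeSpectrum (S ⧸ Ideal.ofList f)) Qb ≤ ((d - f.length : ℕ) : WithBot ℕ∞) := fun Qb =>
    ((Groth.SpectralTopology.localDim_le_dim Qb).trans
      (PrimeSpectrum.topologicalKrullDim_eq_ringKrullDim _).le).trans hle
  constructor
  · haveI : Nontrivial (S ⧸ Ideal.ofList f) := Ideal.Quotient.nontrivial_iff.2 hne
    obtain ⟨Qb⟩ := (inferInstance : Nonempty (PrimeSpectrum (S ⧸ Ideal.ofList f)))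
    refine le_antisymm hle ?_
    obtain ⟨m, hm⟩ := Groth.FibreRegular.exists_nat_of_le ringKrullDim_nonneg_of_nontrivial hle
    have h := (Groth.FibreRegular.isRegular_iff_and_le k heq f Qb).2.trans (add_le_add
      ((Groth.SpectralTopology.localDim_le_dim Qb).trans
        (PrimeSpectrum.topologicalKrullDim_eq_ringKrullDim _).le) le_rfl)
    rw [hm] at h ⊢
    norm_cast at h ⊢
    omega
  · intro q _ hq
    obtain ⟨Qb, rfl⟩ : ∃ Qb : PrimeSpectrum (S ⧸ Ideal.ofList f),
        Qb.asIdeal.comap (Ideal.Quotient.mk (Ideal.ofList f)) = q :=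
      ⟨⟨q.map (Ideal.Quotient.mk _), Ideal.map_isPrime_of_surjective Ideal.Quotient.mk_surjective
        (by rwa [Ideal.mk_ker])⟩, Ideal.comap_map_quotientMk _ _ |>.trans (sup_eq_right.2 hq)⟩
    refine (Groth.FibreRegular.isRegular_iff_localDim_add_le k heq f Qb).2
      ((add_le_add (hld Qb) le_rfl).trans ?_)
    norm_cast
    omega

end Groth.Agent.S9154
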