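import Groth.Statements.S9155
import Groth.Agent.DiffOps.Extend
-- import your own Groth.Agent.* helpers here

set_option autoImplicit false
universe u
open Diff16

namespace Groth.Agent.S9155

/-- A differential operator of order at most k between modules over B (relative to A → B) has exactly
one extension to the localized modules over S⁻¹B that is again a differential operator of order at
most k (relative to A → S⁻¹B), compatible with the localization maps. -/
theorem result (A B : Type u) [CommRing A] [CommRing B] [Algebra A B]
    (S : Submonoid B) (M N : Type u) [AddCommGroup M] [Module B M] [Module A M] [IsScalarTower A B M]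
    [AddCommGroup N] [Module B N] [Module A N] [IsScalarTower A B N] (k : ℕ) (D : M →ₗ[A] N)
    (hD : Diff16.IsDiffOpLE A B M N k D) :
    ∃! E : LocalizedModule S M →ₗ[A] LocalizedModule S N,
      Diff16.IsDiffOpLE A (Localization S) (LocalizedModule S M) (LocalizedModule S N) k E ∧
        E ∘ₗ (LocalizedModule.mkLinearMap S M).restrictScalars A =
          (LocalizedModule.mkLinearMap S N).restrictScalars A ∘ₗ D := by
  let L := Localization S
  let fM := LocalizedModule.mkLinearMap S M
  let fN := LocalizedModule.mkLinearMap S N
  have hbc : IsBaseChange L fM := (isLocalizedModule_iff_isBaseChange S L fM).1 inferInstance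
  have hspan : Submodule.span L (Set.range fM) = ⊤ := by
    have h := (IsBaseChange.equiv hbc).surjective
    rw [eq_top_iff]
    intro z _
    obtain ⟨w, rfl⟩ := h z
    induction w using TensorProduct.induction_on with
    | zero => simp
    | tmul y m =>
      rw [IsBaseChange.equiv_tmul]
      exact Submodule.smul_mem _ _ (Submodule.subset_span ⟨m, rfl⟩)
    | add a b ha hb =>
      rw [map_add]; exact Submodule.add_mem _ (ha Submodule.mem_top) (hb Submodule.mem_top)
  have hc : Diff16.IsDiffOpLE A B M (LocalizedModule S N) k (fN.restrictScalars A ∘ₗ D) :=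
    Groth.DiffOps.linearMap_comp k fN hD
  obtain ⟨D', hD', hext⟩ := Groth.DiffOps.exists_extension (S' := L) k _ hc
  let e := (IsBaseChange.equiv hbc).symm.toLinearMap
  have he : ∀ m, e (fM m) = (1 : L) ⊗ₜ[B] m := fun m => by
    apply (IsBaseChange.equiv hbc).injective
    simp [e, IsBaseChange.equiv_tmul]
  refine ⟨D' ∘ₗ e.restrictScalars A, ⟨Groth.DiffOps.comp_linearMap k e hD', ?_⟩, ?_⟩
  · ext m
    show D' (e (fM m)) = fN (D m)
    rw [he, hext]; rfl
  · rintro E ⟨hE, hEext⟩
    refine Groth.DiffOps.ext_of_vanishing fM hspan hE (Groth.DiffOps.comp_linearMap k e hD')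
      fun m => ?_
    show E (fM m) = D' (e (fM m))
    rw [he, hext]
    exact LinearMap.congr_fun hEext m

end Groth.Agent.S9155
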