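import Groth.Statements.S9165
import Groth.Agent.Calg4.CMDecomp
import Groth.Agent.FibreDim.Retrocompact
-- import your own Groth.Agent.* helpers here

set_option autoImplicit false
universe u
open CAlg

namespace Groth.Agent.S9165

/-- A flat, finitely presented ring map R → S whose fibre rings κ(p) ⊗ S are Cohen–Macaulay decomposes S
as a finite product of R-algebras S_d (d = 0, …, N), each again flat, finitely presented with
Cohen–Macaulay fibres, and with every irreducible component of every fibre of S_d of dimension d. -/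
theorem result (R S : Type u) [CommRing R]
    [CommRing S] [Algebra R S] [Module.Flat R S] [Algebra.FinitePresentation R S]
    (hCM : ∀ p : PrimeSpectrum R, LocCoh.IsCohenMacaulayRing (p.asIdeal.Fiber S)) :
    ∃ (N : ℕ) (T : Fin (N + 1) → Type u) (_ : ∀ d, CommRing (T d)) (_ : ∀ d, Algebra R (T d)),
      Nonempty (S ≃ₐ[R] ((d : Fin (N + 1)) → T d)) ∧
        ∀ d : Fin (N + 1), Module.Flat R (T d) ∧ Algebra.FinitePresentation R (T d) ∧
          (∀ p : PrimeSpectrum R, LocCoh.IsCohenMacaulayRing (p.asIdeal.Fiber (T d))) ∧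
          ∀ (p : PrimeSpectrum R), ∀ P ∈ minimalPrimes (p.asIdeal.Fiber (T d)),
            ringKrullDim (p.asIdeal.Fiber (T d) ⧸ P) = ((d : ℕ) : WithBot ℕ∞) := by
  classical
  open AlgebraicGeometry CategoryTheory Groth.Calg4.CMDecomp in
  have hlfp := lfp_str R S
  open AlgebraicGeometry CategoryTheory Groth.Calg4.CMDecomp in
  have hcm : ∀ q : PrimeSpectrum S, MoreMor.IsCMAt (str R S) q := (forall_isCMAt_iff R S).2 hCM
  open AlgebraicGeometry CategoryTheory Groth.Calg4.CMDecomp in
  obtain ⟨n, hn⟩ : ∃ n : PrimeSpectrum S → ℕ, ∀ q, FlatMor.fibreDimAt (str R S) q = n q :=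
    ⟨_, fun q => (Groth.CMMor.exists_fibreDimAt_eq_nat (str R S) q).choose_spec⟩
  have hloc : IsLocallyConstant n := by
    rw [IsLocallyConstant.iff_exists_open]
    intro q
    obtain ⟨U, hqU, hU⟩ := Groth.CMMor.exists_nhd_isCMAt (Groth.Calg4.CMDecomp.str R S) q (hcm q)
    refine ⟨U.carrier, U.isOpen, hqU, fun y hy => ?_⟩
    have := (hU y hy).2
    rw [hn y, hn q] at this
    exact_mod_cast this
  let N := hloc.range_finite.toFinset.sup id
  have hN : ∀ q, n q < N + 1 := fun q => Nat.lt_succ_of_le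
    (Finset.le_sup (f := id) (hloc.range_finite.mem_toFinset.2 ⟨q, rfl⟩))
  have hclopen : ∀ d : Fin (N + 1), ∃ e : S, IsIdempotentElem e ∧
      {q | n q = (d : ℕ)} = ↑(PrimeSpectrum.basicOpen e) := fun d =>
    PrimeSpectrum.exists_idempotent_basicOpen_eq_of_isClopen (hloc.isClopen_fiber d)
  choose e he hes using hclopen
  have hmem : ∀ d q, e d ∉ q.asIdeal ↔ n q = (d : ℕ) := fun d q =>
    (Set.ext_iff.1 (hes d) q).symm
  let I : Fin (N + 1) → Ideal S := fun d => Ideal.span {1 - e d}
  have horth : ∀ i j, i ≠ j → e i * e j = 0 := fun i j hij => by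
    have hi : IsIdempotentElem (e i * e j) := (he i).mul (he j)
    refine hi.eq_zero_of_isNilpotent ?_
    rw [nilpotent_iff_mem_prime]
    intro P hP
    by_contra hcon
    have h1 := (hmem i ⟨P, hP⟩).1 fun h => hcon (P.mul_mem_right _ h)
    have h2 := (hmem j ⟨P, hP⟩).1 fun h => hcon (P.mul_mem_left _ h)
    exact hij (Fin.ext (h1.symm.trans h2))
  have hcop : ∀ i j, i ≠ j → IsCoprime (1 - e i) (1 - e j) := fun i j hij =>
    ⟨1, e i, by rw [one_mul, mul_sub, mul_one, horth i j hij]; ring⟩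
  have hinf : ⨅ d, I d = ⊥ := by
    rw [Ideal.iInf_span_singleton hcop, Ideal.span_singleton_eq_bot]
    have hi : IsIdempotentElem (∏ d, (1 - e d)) := by
      show _ * _ = _
      rw [← Finset.prod_mul_distrib]
      exact Finset.prod_congr rfl fun d _ => (he d).one_sub
    refine hi.eq_zero_of_isNilpotent ?_
    rw [nilpotent_iff_mem_prime]
    intro P hP
    have h1 : e ⟨n ⟨P, hP⟩, hN _⟩ ∉ P := (hmem _ ⟨P, hP⟩).2 rfl
    refine P.mem_of_dvd (Finset.dvd_prod_of_mem _ (Finset.mem_univ ⟨n ⟨P, hP⟩, hN _⟩)) ?_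
    refine (hP.mem_or_mem (x := e ⟨n ⟨P, hP⟩, hN _⟩) ?_).resolve_left h1
    rw [mul_sub, mul_one, (he _).eq, sub_self]
    exact P.zero_mem
  let ev : (S ⧸ ⨅ d, I d) ≃+* ((d : Fin (N + 1)) → S ⧸ I d) :=
    Ideal.quotientInfRingEquivPiQuotient I fun i j hij => by
      rw [Function.onFun, Ideal.isCoprime_span_singleton_iff]; exact hcop i j hij
  let E : S ≃+* ((d : Fin (N + 1)) → S ⧸ I d) :=
    ((RingEquiv.quotientBot S).symm.trans (Ideal.quotEquivOfEq hinf.symm)).trans ev
  refine ⟨N, fun d => S ⧸ I d, fun d => inferInstance, fun d => inferInstance,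
    ⟨AlgEquiv.ofRingEquiv (f := E) fun r => rfl⟩, fun d => ?_⟩
  have haway : IsLocalization.Away (e d) (S ⧸ I d) := IsLocalization.Away.quotient_of_isIdempotentElem (he d)
  have : Module.Flat S (S ⧸ I d) := IsLocalization.flat (S ⧸ I d) (Submonoid.powers (e d))
  have : Module.Flat R (S ⧸ I d) := Module.Flat.trans R S (S ⧸ I d)
  have hfp : Algebra.FinitePresentation R (S ⧸ I d) :=
    Algebra.FinitePresentation.quotient (Submodule.fg_span_singleton _)
  open AlgebraicGeometry CategoryTheory Groth.Calg4.CMDecomp in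
  let j : Spec (CommRingCat.of (S ⧸ I d)) ⟶ Spec (CommRingCat.of S) :=
    Spec.map (CommRingCat.ofHom (algebraMap S (S ⧸ I d)))
  open AlgebraicGeometry CategoryTheory Groth.Calg4.CMDecomp in
  have hj : IsOpenImmersion j := IsOpenImmersion.of_isLocalization (e d)
  open AlgebraicGeometry CategoryTheory Groth.Calg4.CMDecomp in
  have hcomp : str R (S ⧸ I d) = j ≫ str R S := by
    show Spec.map _ = Spec.map _ ≫ Spec.map _
    rw [← Spec.map_comp, ← CommRingCat.ofHom_comp, ← IsScalarTower.algebraMap_eq]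
  refine ⟨inferInstance, hfp, ?_, fun p P hP => ?_⟩
  · refine (Groth.Calg4.CMDecomp.forall_isCMAt_iff R (S ⧸ I d)).1 fun q => ?_
    rw [hcomp, Groth.CMMor.isCMAt_openImmersion_comp]
    exact hcm _
  · refine Groth.Calg4.CMDecomp.dim_component_eq R (S ⧸ I d) (fun q => ?_) p P hP
    rw [hcomp, Groth.FibreDim.fibreDimAt_openImmersion_comp, hn]
    have : n (PrimeSpectrum.comap (algebraMap S (S ⧸ I d)) q) = (d : ℕ) := (hmem d _).1 fun h => by
      have h1 : algebraMap S (S ⧸ I d) (e d) = 1 := by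
        rw [eq_comm, ← sub_eq_zero, ← map_one (algebraMap S (S ⧸ I d)), ← map_sub]
        exact Ideal.Quotient.eq_zero_iff_mem.2 (Ideal.mem_span_singleton_self _)
      exact q.isPrime.ne_top ((Ideal.eq_top_iff_one _).2 (h1 ▸ h))
    exact_mod_cast congrArg (fun k : ℕ => (k : WithBot ℕ∞)) this

end Groth.Agent.S9165
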