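import Groth.Statements.S9156
import Mathlib
import Groth.Agent.S9165
import Groth.Agent.S4228

set_option autoImplicit false
universe u
open CAlg

namespace Groth.Agent.S9156

/-- A Cohen–Macaulay finite type algebra S over a field k decomposes as a finite product of k-algebras
S_0 × ⋯ × S_N in which every maximal ideal of the factor S_d has height d (so Spec S is a finite
disjoint union of equidimensional open and closed pieces). -/
theorem result (k S : Type u) [Field k] [CommRing S]
    [Algebra k S] [Algebra.FiniteType k S] [LocCoh.IsCohenMacaulayRing S] :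
    ∃ (N : ℕ) (T : Fin (N + 1) → Type u) (_ : ∀ d, CommRing (T d)) (_ : ∀ d, Algebra k (T d)),
      Nonempty (S ≃ₐ[k] ((d : Fin (N + 1)) → T d)) ∧
        ∀ (d : Fin (N + 1)) (m : Ideal (T d)), m.IsMaximal → m.height = (d : ℕ) := by
  have hbot : ∀ p : PrimeSpectrum k, p.asIdeal = ⊥ := fun p =>
    (eq_or_ne p.asIdeal ⊥).resolve_right fun h => p.isPrime.ne_top
      ((Ideal.eq_bot_or_top p.asIdeal).resolve_left h)
  have hfib : ∀ (p : PrimeSpectrum k) (B : Type u) [CommRing B] [Algebra k B],
      Nonempty (p.asIdeal.Fiber B ≃+* B) := by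
    intro p B _ _
    have hb : Function.Bijective (algebraMap k p.asIdeal.ResidueField) := by
      refine ⟨RingHom.injective _, ?_⟩
      have hmax : p.asIdeal.IsMaximal := by rw [hbot p]; exact Ideal.bot_isMaximal
      intro x
      obtain ⟨y, rfl⟩ := (Ideal.bijective_algebraMap_quotient_residueField p.asIdeal).2 x
      obtain ⟨z, rfl⟩ := Ideal.Quotient.mk_surjective y
      exact ⟨z, IsScalarTower.algebraMap_apply k (k ⧸ p.asIdeal) _ z⟩
    let e : k ≃ₐ[k] p.asIdeal.ResidueField := AlgEquiv.ofBijective (Algebra.ofId k _) hb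
    exact ⟨((Algebra.TensorProduct.congr e.symm (AlgEquiv.refl (A₁ := B))).trans
      (Algebra.TensorProduct.lid k B)).toRingEquiv⟩
  have hnoeth : IsNoetherianRing S := Algebra.FiniteType.isNoetherianRing k S
  have : Algebra.FinitePresentation k S := Algebra.FinitePresentation.of_finiteType.1 inferInstance
  have hCM : ∀ p : PrimeSpectrum k, LocCoh.IsCohenMacaulayRing (p.asIdeal.Fiber S) := by
    intro p
    obtain ⟨e⟩ := hfib p S
    have : IsNoetherianRing (p.asIdeal.Fiber S) := isNoetherianRing_of_ringEquiv S e.symm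
    refine ⟨fun Q _ => ?_⟩
    let Q' : Ideal S := Q.map e.toRingHom
    have hQ' : Q'.IsPrime := Ideal.map_isPrime_of_equiv e
    refine Groth.Ega4b.isCohenMacaulayLocalRing_of_ringEquiv
      (IsLocalization.ringEquivOfRingEquiv (M := Q'.primeCompl) (T := Q.primeCompl)
        (Localization.AtPrime Q') (Localization.AtPrime Q) e.symm ?_)
      (LocCoh.IsCohenMacaulayRing.isCohenMacaulayLocalRing_localization Q')
    ext x
    simp only [Submonoid.mem_map, Ideal.mem_primeCompl_iff]
    constructor
    · rintro ⟨y, hy, rfl⟩ h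
      exact hy (by simpa [Q'] using Ideal.mem_map_of_mem e.toRingHom h)
    · intro hx
      refine ⟨e x, fun h => hx ?_, e.symm_apply_apply x⟩
      obtain ⟨y, hy, hyx⟩ := (Ideal.mem_map_iff_of_surjective e.toRingHom e.surjective).1 h
      obtain rfl : y = x := e.injective hyx
      exact hy
  obtain ⟨N, T, hT, hA, he, hprop⟩ := Groth.Agent.S9165.result k S hCM
  refine ⟨N, T, hT, hA, he, fun d m hm => ?_⟩
  obtain ⟨-, hfp, -, hdim⟩ := hprop d
  have : Algebra.FiniteType k (T d) := Algebra.FiniteType.of_finitePresentation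
  let p₀ : PrimeSpectrum k := ⟨⊥, Ideal.isPrime_bot⟩
  obtain ⟨e⟩ := hfib p₀ (T d)
  refine Groth.Agent.S4228.height_maximal_eq (k := k) (fun P hP => ?_) m
  have := Ideal.minimalPrimes_isPrime hP
  let P' : Ideal (p₀.asIdeal.Fiber (T d)) := P.comap e.toRingHom
  have hP' : P' ∈ minimalPrimes (p₀.asIdeal.Fiber (T d)) := by
    refine ⟨⟨inferInstance, bot_le⟩, fun J hJ hle => ?_⟩
    have := hJ.1
    have h1 : J.comap e.symm.toRingHom ≤ P := fun x hx => by
      have h2 : e (e.symm x) ∈ P := hle hx
      rwa [e.apply_symm_apply] at h2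
    have h2 := hP.2 ⟨inferInstance, bot_le⟩ h1
    intro x hx
    have : e x ∈ P := hx
    simpa using h2 this
  rw [← hdim p₀ P' hP']
  refine (ringKrullDim_eq_of_ringEquiv (Ideal.quotientEquiv P' P e ?_)).symm
  exact (Ideal.map_comap_of_surjective e.toRingHom e.surjective P).symm

end Groth.Agent.S9156
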