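import Groth.Statements.S9158
import Groth.Agent.Calg4.GenericFreeReduced

set_option autoImplicit false
universe u
open CAlg

namespace Groth.Agent.S9158

/-- Generic freeness over a reduced ring: let R → S be of finite type with R reduced and M a finite
S-module. There is a dense open subset U of Spec R such that each point of U lies in a basic open
D(f) ⊆ U with M_f and S_f free over R_f, S_f of finite presentation over R_f, and M_f of finite
presentation over S_f. -/
theorem result (R S : Type u) [CommRing R] [IsReduced R] [CommRing S]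
    [Algebra R S] [Algebra.FiniteType R S] (M : Type u) [AddCommGroup M] [Module S M] [Module R M]
    [IsScalarTower R S M] [Module.Finite S M] :
    ∃ U : Set (PrimeSpectrum R), IsOpen U ∧ Dense U ∧ ∀ u ∈ U, ∃ f : R, f ∉ u.asIdeal ∧
      (PrimeSpectrum.basicOpen f : Set (PrimeSpectrum R)) ⊆ U ∧
      Module.Free (Localization.Away f) (LocalizedModule (Submonoid.powers f) M) ∧
      Module.Free (Localization.Away f) (LocalizedModule (Submonoid.powers f) S) ∧
      (Localization.awayMap (algebraMap R S) f).FinitePresentation ∧
      Module.FinitePresentation (Localization.Away (algebraMap R S f))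
        (LocalizedModule (Submonoid.powers (algebraMap R S f)) M) := by
  classical
  let Good : R → Prop := fun f =>
      Module.Free (Localization.Away f) (LocalizedModule (Submonoid.powers f) M) ∧
      Module.Free (Localization.Away f) (LocalizedModule (Submonoid.powers f) S) ∧
      (Localization.awayMap (algebraMap R S) f).FinitePresentation ∧
      Module.FinitePresentation (Localization.Away (algebraMap R S f))
        (LocalizedModule (Submonoid.powers (algebraMap R S f)) M)
  refine ⟨⋃ (f : R) (_ : Good f), (PrimeSpectrum.basicOpen f : Set (PrimeSpectrum R)),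
    isOpen_iUnion fun f => isOpen_iUnion fun _ => (PrimeSpectrum.basicOpen f).2, ?_, ?_⟩
  · refine PrimeSpectrum.isTopologicalBasis_basic_opens.dense_iff.mpr ?_
    rintro _ ⟨g, rfl⟩ ⟨p, hp⟩
    have hg : g ≠ 0 := fun h => hp (by rw [h]; exact p.asIdeal.zero_mem)
    obtain ⟨f, hf, hgf, hgood⟩ := Groth.Calg4.GenericFreeReduced.exists_good S M hg
    have hnil : ¬ IsNilpotent f := fun hn => hf hn.eq_zero
    rw [nilpotent_iff_mem_prime] at hnil
    push Not at hnil
    obtain ⟨J, hJ, hfJ⟩ := hnil
    refine ⟨⟨J, hJ⟩, fun hgJ => hfJ ?_, Set.mem_iUnion₂.mpr ⟨f, hgood, hfJ⟩⟩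
    exact J.mem_of_dvd hgf hgJ
  · intro u hu
    obtain ⟨f, hgood, hfu⟩ := Set.mem_iUnion₂.mp hu
    exact ⟨f, hfu, fun q hq => Set.mem_iUnion₂.mpr ⟨f, hgood, hq⟩, hgood⟩

end Groth.Agent.S9158
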