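import Groth.Statements.S9159
import Groth.Agent.S2141
import Groth.Agent.Calg1.MiracleFlatness
import Groth.Agent.Calg4.RegularAscent
import Groth.Agent.Ega4Algebra1.CMTensor
import Mathlib

set_option autoImplicit false
universe u
open CAlg

namespace Groth.Agent.S9159


/-- The local dimension of affine space is the number of variables. -/
theorem localDim_mvPolynomial (k : Type u) [Field k] (d : ℕ) (p : PrimeSpectrum (MvPolynomial (Fin d) k)) :
    FlatMor.localDim (PrimeSpectrum (MvPolynomial (Fin d) k)) p = (d : WithBot ℕ∞) := by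
  have hT : ringKrullDim (MvPolynomial (Fin d) k) = (d : WithBot ℕ∞) := by
    rw [MvPolynomial.ringKrullDim_of_isNoetherianRing, ringKrullDim_eq_zero_of_field, zero_add, Nat.card_fin]
  refine le_antisymm ?_ ?_
  · obtain ⟨p', -, he⟩ := Groth.FibreDim.exists_ringKrullDim_quotient_eq_localDim k p
    rw [← he, ← hT]
    exact ringKrullDim_quotient_le _
  · refine le_trans ?_ (Groth.FibreDim.ringKrullDim_quotient_le_localDim k p
      (p := ⟨⊥, Ideal.isPrime_bot⟩) bot_le)
    rw [← hT]
    exact (ringKrullDim_eq_of_ringEquiv (RingEquiv.quotientBot (MvPolynomial (Fin d) k))).ge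

/-- Fix a field k, a k-algebra S of finite type, and a quasi-finite map of k-algebras k[y_1, …, y_d] →
S. A prime q of S has S_q flat over k[y_1, …, y_d] exactly when S_q is Cohen–Macaulay and Spec S has
local dimension d at q. -/
theorem result (k S : Type u) [Field k] [CommRing S]
    [Algebra k S] [Algebra.FiniteType k S] (d : ℕ) [Algebra (MvPolynomial (Fin d) k) S]
    [IsScalarTower k (MvPolynomial (Fin d) k) S] [Algebra.QuasiFinite (MvPolynomial (Fin d) k) S]
    (q : Ideal S) [q.IsPrime] :
    Module.Flat (MvPolynomial (Fin d) k) (Localization.AtPrime q) ↔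
      (LocCoh.IsCohenMacaulayLocalRing (Localization.AtPrime q) ∧
        FlatMor.localDim (PrimeSpectrum S) ⟨q, inferInstance⟩ = (d : WithBot ℕ∞)) := by
  let T := MvPolynomial (Fin d) k
  let p := q.comap (algebraMap T S)
  have : q.LiesOver p := ⟨rfl⟩
  let Tp := Localization.AtPrime p
  let Sq := Localization.AtPrime q
  let _ : Algebra Tp Sq := (Localization.localRingHom p q (algebraMap T S) rfl).toAlgebra
  have : IsScalarTower T Tp Sq := IsScalarTower.of_algebraMap_eq fun a => by
    rw [RingHom.algebraMap_toAlgebra, Localization.localRingHom_to_map,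
      IsScalarTower.algebraMap_apply T S Sq]
  have : IsLocalHom (algebraMap Tp Sq) := Localization.isLocalHom_localRingHom p q (algebraMap T S) rfl
  have : IsNoetherianRing S := Algebra.FiniteType.isNoetherianRing k S
  have : IsRegularLocalRing Tp := IsRegularRing.isRegularLocalRing_localization p
  -- the closed fibre is zero-dimensional
  let J := (IsLocalRing.maximalIdeal Tp).map (algebraMap Tp Sq)
  have hJne : J ≠ ⊤ := fun h => (IsLocalRing.maximalIdeal.isMaximal Sq).ne_top
    (top_le_iff.1 (h ▸ Ideal.map_le_iff_le_comap.2 fun x hx hu => hx (isUnit_of_map_unit _ _ hu)))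
  have : Nontrivial (Sq ⧸ J) := Ideal.Quotient.nontrivial_iff.2 hJne
  have : IsLocalRing (Sq ⧸ J) := IsLocalRing.of_surjective' _ Ideal.Quotient.mk_surjective
  have h0 : Ring.KrullDimLE 0 (Sq ⧸ J) := by
    refine Ring.krullDimLE_zero_iff.2 fun P _ => ?_
    let P₁ := P.comap (Ideal.Quotient.mk J)
    have hP₁q : P₁.comap (algebraMap S Sq) ≤ q := fun x hx => by
      by_contra hxq
      exact Ideal.IsPrime.ne_top (inferInstance : P₁.IsPrime)
        (Ideal.eq_top_of_isUnit_mem _ hx (IsLocalization.map_units Sq (⟨x, hxq⟩ : q.primeCompl)))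
    have he : P₁.comap (algebraMap S Sq) = q := by
      refine Algebra.QuasiFinite.eq_of_le_of_under_eq (R := T) _ q hP₁q (le_antisymm (Ideal.comap_mono hP₁q) ?_)
      intro x hx
      show algebraMap S Sq (algebraMap T S x) ∈ P₁
      rw [← IsScalarTower.algebraMap_apply T S Sq, IsScalarTower.algebraMap_apply T Tp Sq]
      show Ideal.Quotient.mk J (algebraMap Tp Sq (algebraMap T Tp x)) ∈ P
      rw [Ideal.Quotient.eq_zero_iff_mem.2 (Ideal.mem_map_of_mem _
        (show algebraMap T Tp x ∈ IsLocalRing.maximalIdeal Tp from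
          (IsLocalization.AtPrime.to_map_mem_maximal_iff Tp p x).2 hx))]
      exact P.zero_mem
    have h1 : IsLocalRing.maximalIdeal Sq ≤ P₁ := by
      rw [← Localization.AtPrime.map_eq_maximalIdeal, Ideal.map_le_iff_le_comap]
      exact he.ge
    have h2 : P₁.IsMaximal :=
      ((IsLocalRing.maximalIdeal.isMaximal Sq).eq_of_le (Ideal.IsPrime.ne_top inferInstance) h1) ▸
        IsLocalRing.maximalIdeal.isMaximal Sq
    have h3 := Ideal.map_comap_of_surjective (Ideal.Quotient.mk J) Ideal.Quotient.mk_surjective P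
    exact h3 ▸ ((Ideal.map_eq_top_or_isMaximal_of_surjective _ Ideal.Quotient.mk_surjective h2).resolve_left
      (by rw [h3]; exact Ideal.IsPrime.ne_top ‹_›))
  have hdim0 : ringKrullDim (Sq ⧸ J) = 0 := ringKrullDimZero_iff_ringKrullDim_eq_zero.1 h0
  -- transcendence degrees
  obtain ⟨r, hr⟩ : ∃ r : ℕ, Algebra.trdeg k q.ResidueField = r := by
    obtain ⟨n, hn, -⟩ := Groth.Variety2.Dim.exists_dim (k := k) (A := S ⧸ q)
    exact ⟨n, by rw [← hn]; exact ((FractionRing.algEquiv (S ⧸ q) q.ResidueField).restrictScalars k).trdeg_eq.symm⟩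
  have hrp : Algebra.trdeg k p.ResidueField = r := by
    have : Module.Finite p.ResidueField q.ResidueField := inferInstance
    have h := trdeg_add_eq k p.ResidueField (A := q.ResidueField)
    rw [trdeg_eq_zero (R := p.ResidueField), add_zero, hr] at h
    exact h
  have hTdim := Groth.Agent.S2141.result (k := k) p r hrp
  rw [localDim_mvPolynomial] at hTdim
  have hSdim := Groth.Agent.S2141.result (k := k) q r hr
  constructor
  · intro hflat
    have : Module.Flat T Sq := hflat
    have : Module.Flat Tp Sq := (Module.flat_iff_of_isLocalization Tp p.primeCompl _).mpr inferInstance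
    refine ⟨Groth.Calg4.isCohenMacaulayLocalRing_of_flat Tp Sq
      (Groth.Calg4.isCohenMacaulayLocalRing_of_isRegularLocalRing Tp)
      (Groth.Ega4Algebra1.isCohenMacaulayLocalRing_of_krullDimLE_zero _), ?_⟩
    rw [hSdim, hTdim, Groth.Calg4.ringKrullDim_eq_add_of_flat Tp Sq, hdim0, add_zero]
  · rintro ⟨hCM, hd⟩
    have h2 : ringKrullDim Sq = ringKrullDim Tp :=
      ENat.WithBot.add_natCast_cancel.1 ((hSdim.symm.trans hd).trans hTdim)
    have : Module.Flat Tp Sq := Groth.Calg1.flat_of_isRegularLocalRing_of_isCohenMacaulay Tp Sq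
      (by rw [h2, hdim0, add_zero])
    exact Module.Flat.trans T Tp Sq

end Groth.Agent.S9159
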