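import Groth.Statements.S9160
import Mathlib

set_option autoImplicit false
universe u
open CAlg

namespace Groth.Agent.S9160

/-- In a semi-local Noetherian ring of dimension one, for nonzerodivisors a and b the length of R/(ab)
is the sum of the lengths of R/(a) and R/(b), and these lengths are finite. -/
theorem result (R : Type u) [CommRing R] [IsNoetherianRing R]
    (hsemi : Finite (MaximalSpectrum R)) (hdim : ringKrullDim R = 1) (a b : R) (ha : IsRegular a)
    (hb : IsRegular b) :
    Module.length R (R ⧸ Ideal.span ({a * b} : Set R)) =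
        Module.length R (R ⧸ Ideal.span ({a} : Set R)) + Module.length R (R ⧸ Ideal.span ({b} : Set R)) ∧
      Module.length R (R ⧸ Ideal.span ({a} : Set R)) ≠ ⊤ ∧
      Module.length R (R ⧸ Ideal.span ({b} : Set R)) ≠ ⊤ := by
  have fin : ∀ c : R, IsRegular c → Module.length R (R ⧸ Ideal.span {c}) ≠ ⊤ := by
    intro c hc
    have hle := ringKrullDim_quotient_succ_le_of_nonZeroDivisor (R := R)
      (r := c) hc.mem_nonZeroDivisors
    rw [hdim] at hle
    have : Ring.KrullDimLE 0 (R ⧸ Ideal.span {c}) := by
      rw [Ring.krullDimLE_iff, Nat.cast_zero]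
      exact ENat.WithBot.add_le_add_one_right_iff.mp (by simpa using hle)
    have : IsArtinianRing (R ⧸ Ideal.span {c}) :=
      isArtinianRing_iff_isNoetherianRing_krullDimLE_zero.mpr ⟨inferInstance, this⟩
    rw [Module.length_eq_of_surjective (S := R) (R := R ⧸ Ideal.span {c}) (M := R ⧸ Ideal.span {c}) Ideal.Quotient.mk_surjective]
    exact Module.length_ne_top
  refine ⟨?_, fin a ha, fin b hb⟩
  let f : (R ⧸ Ideal.span {b}) →ₗ[R] R ⧸ Ideal.span {a * b} :=
    Submodule.mapQ _ _ (LinearMap.mulLeft R a) (by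
      intro x hx
      obtain ⟨c, rfl⟩ := Ideal.mem_span_singleton.mp hx
      exact Ideal.mem_span_singleton.mpr ⟨c, by simp [mul_assoc]⟩)
  let g : (R ⧸ Ideal.span {a * b}) →ₗ[R] R ⧸ Ideal.span {a} :=
    Submodule.mapQ _ _ LinearMap.id (by
      intro x hx
      obtain ⟨c, rfl⟩ := Ideal.mem_span_singleton.mp hx
      exact Ideal.mem_span_singleton.mpr ⟨b * c, by simp [mul_assoc]⟩)
  have hf : Function.Injective f := by
    rw [injective_iff_map_eq_zero]
    intro x hx
    obtain ⟨x, rfl⟩ := Submodule.Quotient.mk_surjective _ x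
    rw [Submodule.mapQ_apply, Submodule.Quotient.mk_eq_zero, LinearMap.mulLeft_apply,
      Ideal.mem_span_singleton] at hx
    obtain ⟨c, hc⟩ := hx
    rw [Submodule.Quotient.mk_eq_zero, Ideal.mem_span_singleton]
    exact ⟨c, ha.left (hc.trans (mul_assoc a b c))⟩
  have hg : Function.Surjective g := fun x => by
    obtain ⟨x, rfl⟩ := Submodule.Quotient.mk_surjective _ x
    exact ⟨Submodule.Quotient.mk x, rfl⟩
  have he : Function.Exact f g := fun x => by
    obtain ⟨x, rfl⟩ := Submodule.Quotient.mk_surjective _ x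
    simp only [g, Submodule.mapQ_apply, LinearMap.id_apply, Submodule.Quotient.mk_eq_zero,
      Ideal.mem_span_singleton]
    constructor
    · rintro ⟨c, rfl⟩
      exact ⟨Submodule.Quotient.mk c, rfl⟩
    · rintro ⟨y, hy⟩
      obtain ⟨y, rfl⟩ := Submodule.Quotient.mk_surjective _ y
      rw [Submodule.mapQ_apply, Submodule.Quotient.eq, Ideal.mem_span_singleton] at hy
      obtain ⟨c, hc⟩ := hy
      exact ⟨y - b * c, by rw [LinearMap.mulLeft_apply] at hc; linear_combination -hc⟩
  rw [Module.length_eq_add_of_exact f g hf hg he, add_comm]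

end Groth.Agent.S9160
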