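import Groth.Statements.S9161
import Mathlib

set_option autoImplicit false
universe u
open CAlg

namespace Groth.Agent.S9161

/-- If two two-term complexes of R-modules A₁ → A₀ and B₁ → B₀ are homotopy equivalent (maps of
complexes both ways whose composites are homotopic to the identity maps), then A₁ ⊕ B₀ and B₁ ⊕ A₀
are isomorphic R-modules. -/
theorem result (R : Type u) [CommRing R]
    (A₁ A₀ B₁ B₀ : Type u) [AddCommGroup A₁] [Module R A₁] [AddCommGroup A₀] [Module R A₀]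
    [AddCommGroup B₁] [Module R B₁] [AddCommGroup B₀] [Module R B₀]
    (dA : A₁ →ₗ[R] A₀) (dB : B₁ →ₗ[R] B₀) (φ₁ : A₁ →ₗ[R] B₁) (φ₀ : A₀ →ₗ[R] B₀)
    (ψ₁ : B₁ →ₗ[R] A₁) (ψ₀ : B₀ →ₗ[R] A₀) (hφ : dB ∘ₗ φ₁ = φ₀ ∘ₗ dA) (hψ : dA ∘ₗ ψ₁ = ψ₀ ∘ₗ dB)
    (h : A₀ →ₗ[R] A₁) (hh₁ : LinearMap.id - ψ₁ ∘ₗ φ₁ = h ∘ₗ dA) (hh₀ : LinearMap.id - ψ₀ ∘ₗ φ₀ = dA ∘ₗ h)
    (h' : B₀ →ₗ[R] B₁) (hh'₁ : LinearMap.id - φ₁ ∘ₗ ψ₁ = h' ∘ₗ dB)
    (hh'₀ : LinearMap.id - φ₀ ∘ₗ ψ₀ = dB ∘ₗ h') :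
    Nonempty ((A₁ × B₀) ≃ₗ[R] (B₁ × A₀)) := by
  have hφ' : ∀ a, dB (φ₁ a) = φ₀ (dA a) := fun a => LinearMap.congr_fun hφ a
  have hψ' : ∀ b, dA (ψ₁ b) = ψ₀ (dB b) := fun b => LinearMap.congr_fun hψ b
  have e1 : ∀ a, a - ψ₁ (φ₁ a) = h (dA a) := fun a => LinearMap.congr_fun hh₁ a
  have e0 : ∀ a, a - ψ₀ (φ₀ a) = dA (h a) := fun a => LinearMap.congr_fun hh₀ a
  have e1' : ∀ b, b - φ₁ (ψ₁ b) = h' (dB b) := fun b => LinearMap.congr_fun hh'₁ b
  have e0' : ∀ b, b - φ₀ (ψ₀ b) = dB (h' b) := fun b => LinearMap.congr_fun hh'₀ b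
  refine ⟨LinearEquiv.ofBijective
    ((φ₁.prod (-dA)).coprod (h'.prod ψ₀)) ⟨?_, ?_⟩⟩
  · rw [injective_iff_map_eq_zero]
    rintro ⟨a, b⟩ hab
    replace hab : φ₁ a + h' b = 0 ∧ -dA a + ψ₀ b = 0 :=
      ⟨congrArg Prod.fst hab, congrArg Prod.snd hab⟩
    have hb : b = 0 := by
      have := congrArg dB hab.1
      rw [map_add, hφ', map_zero, ← e0'] at this
      have h2 := congrArg φ₀ hab.2
      rw [map_add, map_neg, map_zero] at h2
      rw [← add_zero (0 : B₀)]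
      nth_rw 1 [← this]
      rw [← h2]; abel
    subst hb
    simp only [map_zero, add_zero, neg_eq_zero] at hab
    have ha := e1 a
    rw [hab.1, hab.2, map_zero, map_zero, sub_zero] at ha
    simpa using ha
  · intro y
    let b0 : B₀ := dB y.1 + φ₀ y.2
    let z1 : B₁ := y.1 - h' b0
    let z0 : A₀ := y.2 - ψ₀ b0
    let a : A₁ := ψ₁ z1 - h z0
    have hp : dB z1 + φ₀ z0 = 0 := by
      simp only [z1, z0, map_sub, ← e0', b0]; abel
    refine ⟨(a, b0), ?_⟩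
    have h0 : -dA a = z0 := by
      simp only [a, map_sub, hψ', ← e0]
      rw [eq_neg_of_add_eq_zero_left hp, map_neg]; abel
    have hx : φ₁ a = z1 := by
      have hd : dB (z1 - φ₁ a) = 0 := by
        rw [map_sub, hφ', eq_neg_of_add_eq_zero_left hp, ← h0, map_neg, neg_neg, sub_self]
      have hq : ψ₁ (z1 - φ₁ a) = 0 := by
        rw [map_sub, sub_eq_zero]
        have := e1 a
        rw [← neg_neg (dA a), h0, map_neg] at this
        rw [show ψ₁ z1 = a + h z0 by simp only [a]; abel]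
        linear_combination (norm := module) this
      have := e1' (z1 - φ₁ a)
      rw [hd, hq, map_zero, map_zero, sub_zero, sub_eq_zero] at this
      exact this.symm
    refine Prod.ext ?_ ?_
    · change φ₁ a + h' b0 = y.1
      simp [hx, z1]
    · change -dA a + ψ₀ b0 = y.2
      simp [h0, z0]

end Groth.Agent.S9161
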