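import Groth.Statements.S9162
import Mathlib

set_option autoImplicit false
universe u
open CAlg

namespace Groth.Agent.S9162

/-- Let S be an R-algebra and α : R[x_1, …, x_n] → S, β : R[y_1, …, y_m] → S surjective R-algebra maps
(presentations by polynomial rings in finitely many variables; the kernels I and J need not be
finitely generated). Then I/I² ⊕ S^m and J/J² ⊕ S^n are isomorphic S-modules. -/
theorem result (R S : Type u) [CommRing R] [CommRing S]
    [Algebra R S] (n m : ℕ) (α : MvPolynomial (Fin n) R →ₐ[R] S) (hα : Function.Surjective α)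
    (β : MvPolynomial (Fin m) R →ₐ[R] S) (hβ : Function.Surjective β) :
    Nonempty (((Algebra.Extension.ofSurjective α hα).Cotangent × (Fin m → S)) ≃ₗ[S]
      ((Algebra.Extension.ofSurjective β hβ).Cotangent × (Fin n → S))) := by
  set P := Algebra.Extension.ofSurjective α hα
  set Q := Algebra.Extension.ofSurjective β hβ
  let u : MvPolynomial (Fin n) R →ₐ[R] MvPolynomial (Fin m) R :=
    MvPolynomial.aeval fun i => (hβ (α (MvPolynomial.X i))).choose
  have hu : β.comp u = α := MvPolynomial.algHom_ext fun i => by
    simp [u, (hβ (α (MvPolynomial.X i))).choose_spec]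
  let v : MvPolynomial (Fin m) R →ₐ[R] MvPolynomial (Fin n) R :=
    MvPolynomial.aeval fun i => (hα (β (MvPolynomial.X i))).choose
  have hv : α.comp v = β := MvPolynomial.algHom_ext fun i => by
    simp [v, (hα (β (MvPolynomial.X i))).choose_spec]
  let f : P.Hom Q := ⟨u.toRingHom, fun x => u.commutes x, fun x => AlgHom.congr_fun hu x⟩
  let g : Q.Hom P := ⟨v.toRingHom, fun x => v.commutes x, fun x => AlgHom.congr_fun hv x⟩
  let eP : (Fin n → S) ≃ₗ[S] P.CotangentSpace :=
    letI := α.toRingHom.toAlgebra
    ((KaehlerDifferential.mvPolynomialBasis R (Fin n)).baseChange S).equivFun.symm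
  let eQ : (Fin m → S) ≃ₗ[S] Q.CotangentSpace :=
    letI := β.toRingHom.toAlgebra
    ((KaehlerDifferential.mvPolynomialBasis R (Fin m)).baseChange S).equivFun.symm
  let h := (Algebra.Extension.Hom.id P).sub (g.comp f)
  let h' := (Algebra.Extension.Hom.id Q).sub (f.comp g)
  let Φ : P.Cotangent × Q.CotangentSpace →ₗ[S] Q.Cotangent × P.CotangentSpace :=
    LinearMap.prod (LinearMap.coprod (Algebra.Extension.Cotangent.map f) (-h'))
      (LinearMap.coprod P.cotangentComplex (Algebra.Extension.CotangentSpace.map g))
  let Ψ : Q.Cotangent × P.CotangentSpace →ₗ[S] P.Cotangent × Q.CotangentSpace :=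
    LinearMap.prod (LinearMap.coprod (Algebra.Extension.Cotangent.map g) h)
      (LinearMap.coprod (-Q.cotangentComplex) (Algebra.Extension.CotangentSpace.map f))
  have e1 : ∀ a, h (P.cotangentComplex a) =
      a - Algebra.Extension.Cotangent.map g (Algebra.Extension.Cotangent.map f a) := fun a => by
    have := LinearMap.congr_fun (Algebra.Extension.Cotangent.map_sub_map (Algebra.Extension.Hom.id P) (g.comp f)) a
    rw [Algebra.Extension.Cotangent.map_id, Algebra.Extension.Cotangent.map_comp] at this
    exact this.symm
  have e2 : ∀ x, P.cotangentComplex (h x) =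
      x - Algebra.Extension.CotangentSpace.map g (Algebra.Extension.CotangentSpace.map f x) := fun a => by
    have := LinearMap.congr_fun (Algebra.Extension.CotangentSpace.map_sub_map (Algebra.Extension.Hom.id P) (g.comp f)) a
    rw [Algebra.Extension.CotangentSpace.map_id, Algebra.Extension.CotangentSpace.map_comp] at this
    exact this.symm
  have e1' : ∀ a, h' (Q.cotangentComplex a) =
      a - Algebra.Extension.Cotangent.map f (Algebra.Extension.Cotangent.map g a) := fun a => by
    have := LinearMap.congr_fun (Algebra.Extension.Cotangent.map_sub_map (Algebra.Extension.Hom.id Q) (f.comp g)) a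
    rw [Algebra.Extension.Cotangent.map_id, Algebra.Extension.Cotangent.map_comp] at this
    exact this.symm
  have e2' : ∀ x, Q.cotangentComplex (h' x) =
      x - Algebra.Extension.CotangentSpace.map f (Algebra.Extension.CotangentSpace.map g x) := fun a => by
    have := LinearMap.congr_fun (Algebra.Extension.CotangentSpace.map_sub_map (Algebra.Extension.Hom.id Q) (f.comp g)) a
    rw [Algebra.Extension.CotangentSpace.map_id, Algebra.Extension.CotangentSpace.map_comp] at this
    exact this.symm
  have c1 := Algebra.Extension.CotangentSpace.map_cotangentComplex f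
  have c2 := Algebra.Extension.CotangentSpace.map_cotangentComplex g
  have hΨΦ : ∀ z, Ψ (Φ z) = (z.1 + (h (Algebra.Extension.CotangentSpace.map g z.2)
      - Algebra.Extension.Cotangent.map g (h' z.2)), z.2) := by
    rintro ⟨a, y⟩
    refine Prod.ext ?_ ?_
    · simp only [Φ, Ψ, LinearMap.prod_apply, Function.prod, LinearMap.coprod_apply, LinearMap.neg_apply,
        map_add, map_neg, e1]
      abel
    · simp only [Φ, Ψ, LinearMap.prod_apply, Function.prod, LinearMap.coprod_apply, LinearMap.neg_apply,
        map_add, map_neg, neg_add, c1, e2']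
      abel
  have hΦΨ : ∀ z, Φ (Ψ z) = (z.1 + (Algebra.Extension.Cotangent.map f (h z.2)
      - h' (Algebra.Extension.CotangentSpace.map f z.2)), z.2) := by
    rintro ⟨b, x⟩
    refine Prod.ext ?_ ?_
    · simp only [Φ, Ψ, LinearMap.prod_apply, Function.prod, LinearMap.coprod_apply, LinearMap.neg_apply,
        map_add, map_neg, neg_add, neg_neg, e1']
      abel
    · simp only [Φ, Ψ, LinearMap.prod_apply, Function.prod, LinearMap.coprod_apply, LinearMap.neg_apply,
        map_add, map_neg, c2, e2]
      abel
  have hΦ : Function.Bijective Φ := by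
    refine ⟨fun a b hab => ?_, fun z => ?_⟩
    · have := congr_arg Ψ hab
      rw [hΨΦ, hΨΦ, Prod.mk.injEq] at this
      obtain ⟨h1, h2⟩ := this
      rw [h2] at h1
      exact Prod.ext (add_right_cancel h1) h2
    · refine ⟨Ψ (z.1 - (Algebra.Extension.Cotangent.map f (h z.2)
        - h' (Algebra.Extension.CotangentSpace.map f z.2)), z.2), ?_⟩
      rw [hΦΨ]
      exact Prod.ext (sub_add_cancel _ _) rfl
  exact ⟨((LinearEquiv.refl S P.Cotangent).prodCongr eQ).trans ((LinearEquiv.ofBijective Φ hΦ).trans
    ((LinearEquiv.refl S Q.Cotangent).prodCongr eP.symm))⟩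

end Groth.Agent.S9162
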