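import Groth.Statements.S9163
import Mathlib

set_option autoImplicit false
universe u
open CAlg

namespace Groth.Agent.S9163

/-- If S is integral over R, then any finitely many elements of R and of S lie in a pair R₀ ⊆ R, S₀ ⊆ S
with R₀ a finite type ℤ-subalgebra, S₀ an R₀-subalgebra of S, and S₀ finite as an R₀-module; so R →
S is the directed colimit of finite maps between finite type ℤ-algebras. -/
theorem result (R S : Type u) [CommRing R] [CommRing S] [Algebra R S]
    [Algebra.IsIntegral R S] (E : Finset R) (F : Finset S) :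
    ∃ (R₀ : Subalgebra ℤ R) (S₀ : Subalgebra R₀ S), Algebra.FiniteType ℤ R₀ ∧ (E : Set R) ⊆ R₀ ∧
      (F : Set S) ⊆ S₀ ∧ Module.Finite R₀ S₀ := by
  classical
  choose p hp hpe using fun s : S => Algebra.IsIntegral.isIntegral (R := R) s
  let T : Finset R := E ∪ F.biUnion (fun s => (p s).coeffs)
  let R₀ : Subalgebra ℤ R := Algebra.adjoin ℤ (T : Set R)
  have hT : (T : Set R) ⊆ R₀ := Algebra.subset_adjoin
  refine ⟨R₀, Algebra.adjoin R₀ (F : Set S), (Subalgebra.fg_iff_finiteType R₀).mp ⟨T, rfl⟩,
    fun x hx => hT (Finset.mem_coe.mpr (Finset.mem_union_left _ hx)), Algebra.subset_adjoin,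
    Module.Finite.iff_fg.mpr (fg_adjoin_of_finite F.finite_toSet ?_)⟩
  intro s hs
  have hc : (↑(p s).coeffs : Set R) ⊆ (R₀.toSubring : Set R) := fun c hc => hT (Finset.mem_coe.mpr
    (Finset.mem_union_right _ (Finset.mem_biUnion.mpr ⟨s, hs, hc⟩)))
  refine ⟨(p s).toSubring R₀.toSubring hc, (Polynomial.monic_toSubring _ _ _).mpr (hp s), ?_⟩
  rw [show (algebraMap R₀ S) = (algebraMap R S).comp R₀.toSubring.subtype from rfl,
    ← Polynomial.eval₂_map, Polynomial.map_toSubring]
  exact hpe s

end Groth.Agent.S9163
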