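import Groth.Statements.S9164
import Mathlib

set_option autoImplicit false
universe u
open CAlg

namespace Groth.Agent.S9164

/-- Let R be a one-dimensional Noetherian local domain with fraction field K and V a finite-dimensional
K-vector space; a lattice is a finitely generated R-submodule of V spanning V over K. (1) For a
lattice M and an R-submodule M' ⊇ M: M' is a lattice iff M'/M has finite length over R iff M' is
finitely generated. (2) For a lattice M and M' ⊆ M: M' is a lattice iff M/M' has finite length. (3)
The intersection of two lattices is a lattice. (The published statement also asserts that the sum M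
+ M' of two lattices is a lattice and two identities between lengths of quotients of nested
lattices; this row states (1), (2) and the intersection half of (3).) -/
theorem result (R K V : Type u) [CommRing R] [IsDomain R]
    [IsNoetherianRing R] [IsLocalRing R] (hdim : ringKrullDim R = 1) [Field K] [Algebra R K]
    [IsFractionRing R K] [AddCommGroup V] [Module K V] [Module R V] [IsScalarTower R K V]
    [FiniteDimensional K V] (M : Submodule R V) [Submodule.IsLattice K M] :
    (∀ M' : Submodule R V, M ≤ M' →
        (Submodule.IsLattice K M' ↔ Module.length R (M' ⧸ Submodule.comap M'.subtype M) ≠ ⊤) ∧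
          (Submodule.IsLattice K M' ↔ M'.FG)) ∧
      (∀ M' : Submodule R V, M' ≤ M →
        (Submodule.IsLattice K M' ↔ Module.length R (M ⧸ Submodule.comap M.subtype M') ≠ ⊤)) ∧
      ∀ M' : Submodule R V, Submodule.IsLattice K M' → Submodule.IsLattice K (M ⊓ M') := by
  have hK : ∀ N : Submodule R V, Submodule.span K (N : Set V) = ⊤ →
      ∀ v : V, ∃ a : R, a ≠ 0 ∧ a • v ∈ N := by
    intro N hN v
    have hv : v ∈ Submodule.span K (N : Set V) := hN ▸ Submodule.mem_top
    induction hv using Submodule.span_induction with
    | mem x hx => exact ⟨1, one_ne_zero, by simpa using hx⟩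
    | zero => exact ⟨1, one_ne_zero, by simp⟩
    | add x y _ _ hx hy =>
      obtain ⟨a, ha0, ha⟩ := hx
      obtain ⟨b, hb0, hb⟩ := hy
      refine ⟨a * b, mul_ne_zero ha0 hb0, ?_⟩
      rw [smul_add]
      refine add_mem ?_ ?_
      · rw [mul_comm, mul_smul]; exact N.smul_mem _ ha
      · rw [mul_smul]; exact N.smul_mem _ hb
    | smul c x _ hx =>
      obtain ⟨a, ha0, ha⟩ := hx
      obtain ⟨n, d, hd, rfl⟩ := IsFractionRing.div_surjective R c
      refine ⟨d * a, mul_ne_zero (nonZeroDivisors.ne_zero hd) ha0, ?_⟩
      have hd' : algebraMap R K d ≠ 0 :=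
        (map_ne_zero_iff _ (IsFractionRing.injective R K)).mpr (nonZeroDivisors.ne_zero hd)
      have : (d * a) • (algebraMap R K n / algebraMap R K d) • x = n • a • x := by
        rw [← IsScalarTower.algebraMap_smul K (d * a), ← IsScalarTower.algebraMap_smul K n,
          ← IsScalarTower.algebraMap_smul K a x, smul_smul, smul_smul, map_mul]
        congr 1
        calc _ = algebraMap R K a * (algebraMap R K n / algebraMap R K d * algebraMap R K d) := by ring
          _ = _ := by rw [div_mul_cancel₀ _ hd', mul_comm]
      exact this ▸ N.smul_mem _ ha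
  have hfin : ∀ N P : Submodule R V, N ≤ P → P.FG → Submodule.span K (N : Set V) = ⊤ →
      Module.length R (P ⧸ Submodule.comap P.subtype N) ≠ ⊤ := by
    intro N P _ hP hN
    classical
    obtain ⟨T, rfl⟩ := hP
    choose a ha0 ha using hK N hN
    let b : R := ∏ t ∈ T, a t
    have hb : b ≠ 0 := Finset.prod_ne_zero_iff.mpr fun t _ => ha0 t
    have hbN : ∀ v ∈ Submodule.span R (T : Set V), b • v ∈ N := by
      intro v hv
      induction hv using Submodule.span_induction with
      | mem x hx =>
        obtain ⟨c, hc⟩ := Finset.dvd_prod_of_mem a hx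
        rw [show b = a x * c from hc, mul_comm, mul_smul]
        exact N.smul_mem _ (ha x)
      | zero => simp
      | add x y _ _ hx hy => rw [smul_add]; exact add_mem hx hy
      | smul c x _ hx => rw [smul_comm]; exact N.smul_mem _ hx
    let Q := (Submodule.span R (T : Set V)) ⧸ Submodule.comap (Submodule.span R (T : Set V)).subtype N
    let I := Ideal.span {b}
    have hann : Module.IsTorsionBySet R Q I := by
      rintro q ⟨c, hc⟩
      obtain ⟨e, rfl⟩ := Ideal.mem_span_singleton.mp hc
      obtain ⟨q, rfl⟩ := Submodule.Quotient.mk_surjective _ q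
      change (b * e) • Submodule.Quotient.mk q = 0
      rw [mul_comm, mul_smul, ← Submodule.Quotient.mk_smul,
        (Submodule.Quotient.mk_eq_zero _ (x := b • q)).mpr (hbN q q.2), smul_zero]
    have : Ring.KrullDimLE 1 R := Ring.krullDimLE_iff.mpr (by simp [hdim])
    have : Ring.KrullDimLE 0 (R ⧸ I) := by
      rw [Ring.krullDimLE_iff, Nat.cast_zero]
      refine ENat.WithBot.add_le_add_one_right_iff.mp ?_
      rw [zero_add]
      refine le_trans ?_ hdim.le
      exact ringKrullDim_quotient_succ_le_of_nonZeroDivisor (mem_nonZeroDivisors_of_ne_zero hb)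
    have : IsArtinianRing (R ⧸ I) :=
      isArtinianRing_iff_isNoetherianRing_krullDimLE_zero.mpr ⟨inferInstance, this⟩
    let := hann.module
    have : IsScalarTower R (R ⧸ I) Q := hann.isScalarTower
    have : Module.Finite R (Submodule.span R (T : Set V)) := Module.Finite.iff_fg.mpr ⟨T, rfl⟩
    have : Module.Finite (R ⧸ I) Q := Module.Finite.of_restrictScalars_finite R _ _
    rw [show Module.length R Q = Module.length (R ⧸ I) Q from
      Module.length_eq_of_surjective Ideal.Quotient.mk_surjective]
    exact Module.length_ne_top
  have hM : Submodule.span K (M : Set V) = ⊤ := Submodule.IsLattice.span_eq_top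
  refine ⟨fun M' hle => ?_, fun M' hle => ?_, fun M' hM' => ⟨?_, ?_⟩⟩
  · have h2 : Submodule.IsLattice K M' ↔ M'.FG :=
      ⟨fun h => h.fg, fun h => Submodule.IsLattice.of_le_of_isLattice_of_fg K hle h⟩
    refine ⟨⟨fun h => hfin M M' hle h.fg hM, fun h => h2.mpr ?_⟩, h2⟩
    obtain ⟨hn, -⟩ := isFiniteLength_iff_isNoetherian_isArtinian.mp (Module.length_ne_top_iff.mp h)
    have : Module.Finite R (Submodule.comap M'.subtype M) :=
      Module.Finite.equiv (Submodule.comapSubtypeEquivOfLe hle).symm
    exact Module.Finite.iff_fg.mp (Module.Finite.of_submodule_quotient (Submodule.comap M'.subtype M))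
  · have hfg : M'.FG := IsNoetherian.noetherian (Submodule.comap M.subtype M') |>.map M.subtype |> fun h => by
      rwa [Submodule.map_comap_subtype, inf_eq_right.mpr hle] at h
    refine ⟨fun h => hfin M' M hle Submodule.IsLattice.fg h.span_eq_top, fun h => ⟨hfg, ?_⟩⟩
    obtain ⟨-, hart⟩ := isFiniteLength_iff_isNoetherian_isArtinian.mp (Module.length_ne_top_iff.mp h)
    rw [eq_top_iff, ← hM, Submodule.span_le]
    intro v hv
    have hne : ¬ IsField R := fun hF => by
      rw [ringKrullDim_eq_zero_of_isField hF] at hdim
      exact zero_ne_one hdim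
    obtain ⟨a, ha0, ha⟩ : ∃ a : R, a ≠ 0 ∧ a • v ∈ M' := by
      by_contra hcon
      push Not at hcon
      let g : R →ₗ[R] M ⧸ Submodule.comap M.subtype M' :=
        LinearMap.toSpanSingleton R _ (Submodule.Quotient.mk ⟨v, hv⟩)
      have hg : Function.Injective g := by
        rw [injective_iff_map_eq_zero]
        intro a ha
        by_contra ha0
        rw [LinearMap.toSpanSingleton_apply, ← Submodule.Quotient.mk_smul,
          Submodule.Quotient.mk_eq_zero] at ha
        exact hcon a ha0 ha
      have : IsArtinianRing R := isArtinian_of_injective g hg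
      exact hne (IsArtinianRing.isField_of_isDomain R)
    have ha' : algebraMap R K a ≠ 0 := (map_ne_zero_iff _ (IsFractionRing.injective R K)).mpr ha0
    rw [SetLike.mem_coe, ← inv_smul_smul₀ ha' v, IsScalarTower.algebraMap_smul]
    exact Submodule.smul_mem _ _ (Submodule.subset_span ha)
  · have : M ⊓ M' ≤ M := inf_le_left
    exact IsNoetherian.noetherian (Submodule.comap M.subtype (M ⊓ M')) |>.map M.subtype |> fun h => by
      rwa [Submodule.map_comap_subtype, inf_eq_right.mpr this] at h
  · rw [eq_top_iff, ← hM, Submodule.span_le]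
    intro v hv
    obtain ⟨a, ha0, ha⟩ := hK M' hM'.span_eq_top v
    have ha' : algebraMap R K a ≠ 0 := (map_ne_zero_iff _ (IsFractionRing.injective R K)).mpr ha0
    rw [SetLike.mem_coe, ← inv_smul_smul₀ ha' v, IsScalarTower.algebraMap_smul]
    exact Submodule.smul_mem _ _ (Submodule.subset_span ⟨M.smul_mem a hv, ha⟩)

end Groth.Agent.S9164
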