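import Groth.Statements.S9166
import Mathlib

set_option autoImplicit false
universe u
open CAlg

namespace Groth.Agent.S9166

/-- Let I be an ideal of a ring R, S → S' a surjective homomorphism of R-algebras with S of finite type
and S' of finite presentation over R, and q a prime of S containing IS. Assume S'_q is flat over R
and that S_q/IS_q → S'_q/IS'_q is an isomorphism, which for a surjection says: every element of the
kernel of S → S' maps into I·S_q. Then for some g ∉ q the localized map S_g → S'_g is bijective. -/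
theorem result (R S S' : Type u) [CommRing R] [CommRing S]
    [CommRing S'] [Algebra R S] [Algebra R S'] [Algebra.FiniteType R S] [Algebra.FinitePresentation R S']
    (I : Ideal R) (f : S →ₐ[R] S') (hf : Function.Surjective f) (q : Ideal S) [q.IsPrime]
    (hq : I.map (algebraMap R S) ≤ q)
    (hker : ∀ j : S, f j = 0 →
      algebraMap S (Localization.AtPrime q) j ∈ I.map (algebraMap R (Localization.AtPrime q)))
    (hflat : letI : Module S S' := f.toRingHom.toModule
      Module.Flat R (LocalizedModule q.primeCompl S')) :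
    ∃ g : S, g ∉ q ∧ Function.Bijective (Localization.awayMap f.toRingHom g) := by
  letI : Module S S' := f.toRingHom.toModule
  haveI hfl : Module.Flat R (LocalizedModule q.primeCompl S') := hflat
  haveI hst : IsScalarTower R S S' := IsScalarTower.of_algebraMap_smul fun r s' => by
    show f (algebraMap R S r) * s' = _
    rw [f.commutes, ← Algebra.smul_def]
  set K : Ideal S := RingHom.ker f.toRingHom with hKdef
  have hKfg : K.FG := by
    obtain ⟨nn, π, hπ⟩ := Algebra.FiniteType.iff_quotient_mvPolynomial''.1 ‹Algebra.FiniteType R S›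
    have h0 : (K.comap π.toRingHom).FG :=
      Algebra.FinitePresentation.ker_fG_of_surjective (f.comp π) (hf.comp hπ)
    rw [← Ideal.map_comap_of_surjective π.toRingHom hπ K]
    exact h0.map _
  set L := algebraMap S (Localization.AtPrime q)
  have hstep : ∀ x ∈ K, L x ∈ (I.map (algebraMap R (Localization.AtPrime q))) • K.map L := by
    intro x hx
    have h1 := hker x hx
    rw [IsScalarTower.algebraMap_eq R S (Localization.AtPrime q), ← Ideal.map_map,
      IsLocalization.algebraMap_mem_map_algebraMap_iff q.primeCompl] at h1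
    obtain ⟨s, hs, hsx⟩ := h1
    obtain ⟨l, y, c, hc⟩ := Submodule.mem_span_set'.1 hsx
    choose i hiI hic using fun k => (c k).2
    let mk := LocalizedModule.mkLinearMap q.primeCompl S'
    have hrel : ∑ k, i k • mk (f (y k)) = 0 := by
      have e : ∀ k, i k • mk (f (y k)) = mk (f (y k • (c k : S))) := fun k => by
        rw [← algebraMap_smul S (i k), ← map_smul, hic k]
        congr 1
        show f (c k) * f (y k) = _
        rw [smul_eq_mul, map_mul, mul_comm]
      rw [Finset.sum_congr rfl fun k _ => e k, ← map_sum, ← map_sum, hc, map_mul,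
        show f x = 0 from hx, mul_zero, map_zero]
    obtain ⟨κ, a, n, hn, ha⟩ :=
      Module.Flat.isTrivialRelation_of_sum_smul_eq_zero (f := i) (x := fun k => mk (f (y k))) (by exact hrel)
    choose p hp using fun j => IsLocalizedModule.surj q.primeCompl mk (n j)
    choose z hz using fun j => hf (p j).1
    let t : q.primeCompl := ∏ j, (p j).2
    classical
    let t' : Fin κ → q.primeCompl := fun j => ∏ j' ∈ Finset.univ.erase j, (p j').2
    have ht : ∀ j, t • n j = mk (f ((t' j : S) * z j)) := fun j => by
      have : t = t' j * (p j).2 := (Finset.prod_erase_mul _ _ (Finset.mem_univ j)).symm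
      rw [this, mul_smul, hp j, map_mul, hz j]
      exact (mk.map_smul (t' j : S) (p j).1).symm
    let w : Fin l → S := fun k => (t : S) * y k - ∑ j, algebraMap R S (a k j) * ((t' j : S) * z j)
    have hw : ∀ k, mk (f (w k)) = 0 := fun k => by
      have e1 : mk (f ((t : S) * y k)) = t • mk (f (y k)) := by
        rw [Submonoid.smul_def, ← mk.map_smul, map_mul]; rfl
      have e2 : t • mk (f (y k)) = ∑ j, a k j • (t • n j) := by
        rw [show mk (f (y k)) = _ from hn k, Finset.smul_sum]
        exact Finset.sum_congr rfl fun j _ => smul_comm t (a k j) (n j)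
      rw [map_sub, map_sub, map_sum, map_sum, e1, e2, sub_eq_zero]
      refine Finset.sum_congr rfl fun j _ => ?_
      rw [ht j, ← algebraMap_smul S (a k j), ← mk.map_smul, map_mul f (algebraMap R S (a k j))]
      rfl
    choose u hu using fun k => (IsLocalizedModule.eq_zero_iff q.primeCompl mk).1 (hw k)
    let U : q.primeCompl := ∏ k, u k
    have hUw : ∀ k, (U : S) * w k ∈ K := fun k => by
      obtain ⟨v, hv⟩ : (u k : S) ∣ (U : S) := by
        rw [show (U : S) = ∏ k, (u k : S) from map_prod q.primeCompl.subtype u Finset.univ]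
        exact Finset.dvd_prod_of_mem _ (Finset.mem_univ k)
      rw [hKdef, RingHom.mem_ker, hv]
      show f ((u k : S) * v * w k) = 0
      have h0 : f (u k) * f (w k) = 0 := hu k
      rw [show (u k : S) * v * w k = v * ((u k : S) * w k) by ring, map_mul, map_mul f (u k : S), h0, mul_zero]
    have hsum : (U : S) * (t : S) * (s * x) = ∑ k, algebraMap R S (i k) * ((U : S) * w k) := by
      have hz0 : ∑ k, algebraMap R S (i k) * ∑ j, algebraMap R S (a k j) * ((t' j : S) * z j) = 0 := by
        simp only [Finset.mul_sum, ← mul_assoc, ← map_mul]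
        rw [Finset.sum_comm]
        refine Finset.sum_eq_zero fun j _ => ?_
        rw [← Finset.sum_mul, ← Finset.sum_mul, ← map_sum, ha j, map_zero, zero_mul, zero_mul]
      rw [← hc, Finset.mul_sum]
      simp only [w, mul_sub, ← mul_assoc (algebraMap R S (i _)), Finset.sum_sub_distrib]
      simp only [mul_comm (algebraMap R S (i _)) (U : S), mul_assoc, ← Finset.mul_sum]
      rw [hz0, mul_zero, sub_zero, Finset.mul_sum, Finset.mul_sum, Finset.mul_sum]
      refine Finset.sum_congr rfl fun k _ => ?_
      rw [smul_eq_mul, ← hic k]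
      ring
    have h2 : L ((U : S) * (t : S) * s) * L x ∈ (I.map (algebraMap R (Localization.AtPrime q))) • K.map L := by
      rw [← map_mul, mul_assoc _ s x, hsum, map_sum]
      refine Submodule.sum_mem _ fun k _ => ?_
      rw [map_mul, ← IsScalarTower.algebraMap_apply]
      exact Submodule.smul_mem_smul (Ideal.mem_map_of_mem _ (hiI k)) (Ideal.mem_map_of_mem _ (hUw k))
    exact (Ideal.unit_mul_mem_iff_mem _ (IsLocalization.map_units (Localization.AtPrime q)
      (⟨(U : S) * (t : S) * s, mul_mem (mul_mem U.2 t.2) hs⟩ : q.primeCompl))).1 h2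
  have hK0 : K.map L = ⊥ := by
    refine Submodule.eq_bot_of_le_smul_of_le_jacobson_bot (I.map (algebraMap R (Localization.AtPrime q))) _
      (hKfg.map L) (Ideal.map_le_iff_le_comap.2 hstep) ?_
    rw [IsLocalRing.jacobson_eq_maximalIdeal (⊥ : Ideal (Localization.AtPrime q)) bot_ne_top,
      IsScalarTower.algebraMap_eq R S (Localization.AtPrime q), ← Ideal.map_map,
      ← Localization.AtPrime.map_eq_maximalIdeal]
    exact Ideal.map_mono hq
  obtain ⟨G, hG⟩ := hKfg
  have hex : ∀ x : G, ∃ v : q.primeCompl, (v : S) * x.1 = 0 := fun x => by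
    have : L x.1 = 0 := by
      rw [← Ideal.mem_bot, ← hK0]
      exact Ideal.mem_map_of_mem _ (hG ▸ Ideal.subset_span x.2)
    obtain ⟨v, hv⟩ := (IsLocalization.map_eq_zero_iff q.primeCompl _ _).1 this
    exact ⟨v, hv⟩
  choose v hv using hex
  let g : q.primeCompl := ∏ x, v x
  have hgK : ∀ x ∈ K, (g : S) * x = 0 := by
    intro x hx
    rw [← hG] at hx
    induction hx using Submodule.span_induction with
    | mem y hy =>
      obtain ⟨r, hr⟩ : (v ⟨y, hy⟩ : S) ∣ (g : S) := by
        rw [show (g : S) = ∏ x, (v x : S) from map_prod q.primeCompl.subtype v Finset.univ]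
        exact Finset.dvd_prod_of_mem _ (Finset.mem_univ _)
      rw [hr, mul_comm (v ⟨y, hy⟩ : S) r, mul_assoc, hv ⟨y, hy⟩, mul_zero]
    | zero => rw [mul_zero]
    | add a b _ _ ha hb => rw [mul_add, ha, hb, add_zero]
    | smul r a _ ha => rw [smul_eq_mul, mul_left_comm, ha, mul_zero]
  refine ⟨g, g.2, ?_, ?_⟩
  · rw [Localization.awayMap, IsLocalization.Away.map, injective_iff_map_eq_zero]
    intro z hz
    obtain ⟨a, ⟨_, N, rfl⟩, rfl⟩ := IsLocalization.exists_mk'_eq (.powers (g : S)) z
    rw [IsLocalization.map_mk', IsLocalization.mk'_eq_zero_iff] at hz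
    obtain ⟨⟨_, M, rfl⟩, hM⟩ := hz
    rw [IsLocalization.mk'_eq_zero_iff]
    refine ⟨⟨_, M + 1, rfl⟩, ?_⟩
    have hK : (g : S) ^ M * a ∈ K := by
      rw [hKdef, RingHom.mem_ker, map_mul, map_pow]
      exact hM
    show (g : S) ^ (M + 1) * a = 0
    rw [pow_succ', mul_assoc, hgK _ hK]
  · rw [Localization.awayMap, IsLocalization.Away.map]
    intro z
    obtain ⟨b, ⟨_, N, rfl⟩, rfl⟩ := IsLocalization.exists_mk'_eq (.powers (f.toRingHom g)) z
    obtain ⟨a, rfl⟩ := hf b
    refine ⟨IsLocalization.mk' _ a (⟨(g : S) ^ N, N, rfl⟩ : Submonoid.powers (g : S)), ?_⟩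
    rw [IsLocalization.map_mk']
    congr 1
    exact Subtype.ext (map_pow f.toRingHom _ _)

end Groth.Agent.S9166
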