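import Groth.Statements.S9167
import Mathlib
import Groth.Agent.S9157

set_option autoImplicit false
universe u
open CAlg

namespace Groth.Agent.S9167

theorem exists_lift_quotient (R : Type u) [CommRing R] (I : Ideal R) (N : Type u) [AddCommGroup N]
    [Module (R ⧸ I) N] [Module.FinitePresentation (R ⧸ I) N] :
    ∃ (M : Type u) (_ : AddCommGroup M) (_ : Module R M), Module.FinitePresentation R M ∧
      Nonempty ((M ⧸ (I • ⊤ : Submodule R M)) ≃ₗ[R ⧸ I] N) := by
  classical
  let : Module R N := Module.compHom N (Ideal.Quotient.mk I)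
  have : IsScalarTower R (R ⧸ I) N := IsScalarTower.of_algebraMap_smul fun r x => rfl
  obtain ⟨n, π, hπ⟩ := Module.Finite.exists_fin' (R ⧸ I) N
  obtain ⟨m, y, hy⟩ := Submodule.fg_iff_exists_fin_generating_family.mp
    (Module.FinitePresentation.fg_ker π hπ)
  let q : (Fin n → R) →ₗ[R] (Fin n → R ⧸ I) :=
    LinearMap.pi fun i => (Algebra.linearMap R (R ⧸ I)).comp (LinearMap.proj i)
  have hq : Function.Surjective q := fun v =>
    ⟨fun i => (Ideal.Quotient.mk_surjective (v i)).choose,
      funext fun i => (Ideal.Quotient.mk_surjective (v i)).choose_spec⟩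
  choose k hk using fun l => hq (y l)
  let K : Submodule R (Fin n → R) := Submodule.span R (Set.range k)
  let ψ₀ : (Fin n → R) →ₗ[R] N := (π.restrictScalars R).comp q
  have hK : K ≤ LinearMap.ker ψ₀ := Submodule.span_le.mpr (by
    rintro _ ⟨l, rfl⟩
    change π (q (k l)) = 0
    rw [hk]
    exact (hy ▸ Submodule.subset_span ⟨l, rfl⟩ : y l ∈ LinearMap.ker π))
  let M := (Fin n → R) ⧸ K
  let ψ₁ : M →ₗ[R] N := K.liftQ ψ₀ hK
  have hI : (I • ⊤ : Submodule R M) ≤ LinearMap.ker ψ₁ := Submodule.smul_le.mpr fun r hr x _ => by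
    rw [LinearMap.mem_ker, map_smul, ← algebraMap_smul (R ⧸ I) r,
      show algebraMap R (R ⧸ I) r = 0 from Ideal.Quotient.eq_zero_iff_mem.mpr hr, zero_smul]
  let ψ : (M ⧸ (I • ⊤ : Submodule R M)) →ₗ[R] N := (I • ⊤ : Submodule R M).liftQ ψ₁ hI
  refine ⟨M, inferInstance, inferInstance, Module.finitePresentation_of_surjective K.mkQ K.mkQ_surjective
      (by rw [Submodule.ker_mkQ]; exact Submodule.fg_span (Set.finite_range k)),
    ⟨LinearEquiv.ofBijective (LinearMap.extendScalarsOfSurjective Ideal.Quotient.mk_surjective ψ) ⟨?_, ?_⟩⟩⟩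
  · rw [injective_iff_map_eq_zero]
    intro z hz
    obtain ⟨z, rfl⟩ := Submodule.Quotient.mk_surjective _ z
    obtain ⟨v, rfl⟩ := K.mkQ_surjective z
    have hv : q v ∈ LinearMap.ker π := hz
    rw [← hy, Submodule.mem_span_range_iff_exists_fun] at hv
    obtain ⟨c, hc⟩ := hv
    choose c' hc' using fun l => Ideal.Quotient.mk_surjective (c l)
    have hw : q (v - ∑ l, c' l • k l) = 0 := by
      rw [map_sub, map_sum, sub_eq_zero, ← hc]
      refine Finset.sum_congr rfl fun l _ => ?_
      rw [map_smul, hk, ← algebraMap_smul (R ⧸ I) (c' l), ← hc' l]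
      rfl
    have hmem : v - ∑ l, c' l • k l ∈ (I • ⊤ : Submodule R (Fin n → R)) := by
      rw [pi_eq_sum_univ (v - ∑ l, c' l • k l)]
      exact Submodule.sum_mem _ fun i _ => Submodule.smul_mem_smul
        (Ideal.Quotient.eq_zero_iff_mem.mp (congrFun hw i)) trivial
    rw [Submodule.Quotient.mk_eq_zero]
    have h3 := Submodule.mem_map_of_mem (f := K.mkQ) hmem
    rw [Submodule.map_smul''] at h3
    rw [map_sub, K.mkQ_apply (∑ l, c' l • k l),
      (Submodule.Quotient.mk_eq_zero K).mpr
        (Submodule.sum_mem _ fun l _ => Submodule.smul_mem _ _ (Submodule.subset_span ⟨l, rfl⟩)),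
      sub_zero] at h3
    exact Submodule.smul_mono le_rfl le_top h3
  · intro x
    obtain ⟨v, rfl⟩ := hπ x
    obtain ⟨w, rfl⟩ := hq v
    exact ⟨Submodule.Quotient.mk (Submodule.Quotient.mk w), rfl⟩


/-- With R' = S⁻¹(R/I), every finitely presented R'-module is of the form S⁻¹(M/IM) for some finitely
presented R-module M. -/
theorem result (R : Type u) [CommRing R] (I : Ideal R)
    (S : Submonoid R) (M' : Type u) [AddCommGroup M']
    [Module (Localization (S.map (Ideal.Quotient.mk I))) M']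
    [Module.FinitePresentation (Localization (S.map (Ideal.Quotient.mk I))) M'] :
    ∃ (M : Type u) (_ : AddCommGroup M) (_ : Module R M), Module.FinitePresentation R M ∧
      Nonempty (LocalizedModule (S.map (Ideal.Quotient.mk I)) (M ⧸ (I • ⊤ : Submodule R M))
        ≃ₗ[Localization (S.map (Ideal.Quotient.mk I))] M') := by
  let T := Localization (S.map (Ideal.Quotient.mk I))
  let Sb := S.map (Ideal.Quotient.mk I)
  let : Module (R ⧸ I) M' := Module.compHom M' (algebraMap (R ⧸ I) T)
  have : IsScalarTower (R ⧸ I) T M' := IsScalarTower.of_compHom (R ⧸ I) T M'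
  have hid : IsLocalizedModule Sb (LinearMap.id : M' →ₗ[R ⧸ I] M') :=
    isLocalizedModule_id Sb M' T
  let e : LocalizedModule Sb M' ≃ₗ[T] M' :=
    LinearEquiv.extendScalarsOfIsLocalization Sb T (IsLocalizedModule.iso Sb (LinearMap.id : M' →ₗ[R ⧸ I] M'))
  have : Module.FinitePresentation T (LocalizedModule Sb M') := Module.FinitePresentation.of_equiv e.symm
  obtain ⟨N, _, _, φ, hN, hφ⟩ := Groth.Agent.S9157.result (R ⧸ I) Sb M'
  obtain ⟨M, _, _, hM, ⟨eM⟩⟩ := exists_lift_quotient R I N
  exact ⟨M, _, _, hM, ⟨LinearEquiv.ofBijective (LocalizedModule.map Sb eM.toLinearMap)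
    ⟨IsLocalizedModule.map_injective Sb _ _ _ eM.injective, IsLocalizedModule.map_surjective Sb _ _ _ eM.surjective⟩ ≪≫ₗ
    LinearEquiv.ofBijective (LocalizedModule.map Sb φ) hφ ≪≫ₗ e⟩⟩

end Groth.Agent.S9167
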