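import Groth.Statements.S9168
import Mathlib
-- import your own Groth.Agent.* helpers here

set_option autoImplicit false
universe u
open CAlg

namespace Groth.Agent.S9168

/-- The subring generated by a ring hom and inverses of the elements mapping to units of a local ring. -/
theorem exists_local_range {A R : Type u} [CommRing A] [CommRing R] [IsLocalRing R] (φ : A →+* R) :
    ∃ (P : Ideal A) (_ : P.IsPrime) (ψ : Localization.AtPrime P →+* R),
      (∀ a, ψ (algebraMap A (Localization.AtPrime P) a) = φ a) ∧
      IsLocalRing ψ.range ∧ IsLocalHom ψ.range.subtype := by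
  let P : Ideal A := (IsLocalRing.maximalIdeal R).comap φ
  have hP : P.IsPrime := Ideal.IsPrime.comap φ
  have hu : ∀ y : P.primeCompl, IsUnit (φ y) := fun y => by
    have := y.2
    by_contra h
    exact this h
  let ψ : Localization.AtPrime P →+* R := IsLocalization.lift hu
  have hloc : ∀ x, IsUnit (ψ x) → IsUnit x := by
    intro x hx
    obtain ⟨⟨a, s⟩, rfl⟩ := IsLocalization.mk'_surjective P.primeCompl x
    have h1 : ψ (IsLocalization.mk' (Localization.AtPrime P) a s) * φ s = φ a := by
      have e : φ s = ψ (algebraMap A (Localization.AtPrime P) s) :=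
        (IsLocalization.lift_eq hu _).symm
      rw [e, ← map_mul, IsLocalization.mk'_spec]
      exact IsLocalization.lift_eq hu _
    have h2 : IsUnit (φ a) := h1 ▸ hx.mul (hu s)
    have h3 : a ∈ P.primeCompl := fun h => h h2
    exact (IsLocalization.AtPrime.isUnit_mk'_iff (Localization.AtPrime P) P a s).2 h3
  refine ⟨P, hP, ψ, fun a => IsLocalization.lift_eq hu a, ?_, ⟨?_⟩⟩
  · exact IsLocalRing.of_surjective' ψ.rangeRestrict ψ.rangeRestrict_surjective
  · rintro ⟨y, x, rfl⟩ hy
    exact (hloc x hy).map ψ.rangeRestrict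

/-- For a local homomorphism of local rings R → S and finite subsets E ⊆ R, F ⊆ S there are local
subrings R₀ ⊆ R and S₀ ⊆ S containing E and F, with R → S mapping R₀ into S₀, such that the
inclusions and the induced map R₀ → S₀ are local homomorphisms, R₀ is essentially of finite type
over ℤ and S₀ is essentially of finite type over R₀. (So R → S is the directed colimit of such R₀ →
S₀.) -/
theorem result (R S : Type u) [CommRing R] [CommRing S] [IsLocalRing R]
    [IsLocalRing S] [Algebra R S] [IsLocalHom (algebraMap R S)] (E : Finset R) (F : Finset S) :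
    ∃ (R₀ : Subring R) (S₀ : Subring S) (h : ∀ x ∈ R₀, algebraMap R S x ∈ S₀),
      (E : Set R) ⊆ R₀ ∧ (F : Set S) ⊆ S₀ ∧ ∃ (_ : IsLocalRing R₀) (_ : IsLocalRing S₀),
        IsLocalHom R₀.subtype ∧ IsLocalHom S₀.subtype ∧
          IsLocalHom ((algebraMap R S).restrict R₀ S₀ h) ∧
          (algebraMap ℤ R₀).EssFiniteType ∧ ((algebraMap R S).restrict R₀ S₀ h).EssFiniteType := by
  let φ : MvPolynomial (E : Set R) (ULift.{u} ℤ) →+* R :=
    MvPolynomial.eval₂Hom ((Int.castRingHom R).comp ULift.ringEquiv.toRingHom) (fun x => (x : R))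
  obtain ⟨P, hP, ψ, hψ, hR₀, hR₀'⟩ := exists_local_range φ
  let χ : MvPolynomial (F : Set S) ψ.range →+* S :=
    MvPolynomial.eval₂Hom ((algebraMap R S).comp ψ.range.subtype) (fun x => (x : S))
  obtain ⟨Q, hQ, ξ, hξ, hS₀, hS₀'⟩ := exists_local_range χ
  have hres : ∀ x ∈ ψ.range, algebraMap R S x ∈ ξ.range := fun x hx =>
    ⟨algebraMap (MvPolynomial (F : Set S) ψ.range) (Localization.AtPrime Q) (MvPolynomial.C ⟨x, hx⟩), by rw [hξ]; simp [χ]⟩
  refine ⟨ψ.range, ξ.range, hres, fun x hx => ⟨algebraMap (MvPolynomial (E : Set R) (ULift.{u} ℤ)) (Localization.AtPrime P) (MvPolynomial.X ⟨x, hx⟩), ?_⟩,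
    fun x hx => ⟨algebraMap (MvPolynomial (F : Set S) ψ.range) (Localization.AtPrime Q) (MvPolynomial.X ⟨x, hx⟩), ?_⟩, hR₀, hS₀, hR₀', hS₀', ⟨?_⟩, ?_, ?_⟩
  · rw [hψ]; simp [φ]
  · rw [hξ]; simp [χ]
  · intro x hx
    haveI := hR₀'
    have : IsUnit (algebraMap R S (x : R)) := hx.map ξ.range.subtype
    exact isUnit_of_map_unit ψ.range.subtype x (isUnit_of_map_unit (algebraMap R S) _ this)
  · rw [RingHom.essFiniteType_algebraMap]
    haveI : Algebra.FiniteType ℤ (ULift.{u} ℤ) :=
      Algebra.FiniteType.of_surjective (Algebra.ofId ℤ (ULift.{u} ℤ))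
        (fun x => ⟨x.down, by ext; simp⟩)
    haveI : Algebra.FiniteType ℤ (MvPolynomial (E : Set R) (ULift.{u} ℤ)) :=
      Algebra.FiniteType.trans (R := ℤ) (S := ULift.{u} ℤ) inferInstance inferInstance
    haveI : Algebra.EssFiniteType (MvPolynomial (E : Set R) (ULift.{u} ℤ)) (Localization.AtPrime P) :=
      Algebra.EssFiniteType.of_isLocalization _ P.primeCompl
    haveI : Algebra.EssFiniteType ℤ (Localization.AtPrime P) :=
      Algebra.EssFiniteType.comp ℤ (MvPolynomial (E : Set R) (ULift.{u} ℤ)) _
    exact Algebra.EssFiniteType.of_surjective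
      { ψ.rangeRestrict with commutes' := fun n => by simp }
      ψ.rangeRestrict_surjective
  · letI : Algebra ψ.range ξ.range := ((algebraMap R S).restrict ψ.range ξ.range hres).toAlgebra
    rw [← RingHom.algebraMap_toAlgebra ((algebraMap R S).restrict ψ.range ξ.range hres),
      RingHom.essFiniteType_algebraMap]
    haveI : Algebra.EssFiniteType (MvPolynomial (F : Set S) ψ.range) (Localization.AtPrime Q) :=
      Algebra.EssFiniteType.of_isLocalization _ Q.primeCompl
    haveI : Algebra.EssFiniteType ψ.range (Localization.AtPrime Q) :=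
      Algebra.EssFiniteType.comp ψ.range (MvPolynomial (F : Set S) ψ.range) _
    exact Algebra.EssFiniteType.of_surjective
      { ξ.rangeRestrict with
        commutes' := fun r => Subtype.ext (by
          show ξ (algebraMap ψ.range (Localization.AtPrime Q) r) = algebraMap R S (r : R)
          rw [IsScalarTower.algebraMap_apply ψ.range (MvPolynomial (F : Set S) ψ.range), hξ]
          simp [χ]) }
      ξ.rangeRestrict_surjective

end Groth.Agent.S9168
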