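import Groth.Statements.S9169
import Groth.Agent.Syntomic.Nhd
import Groth.Agent.Syntomic.EssLocal

set_option autoImplicit false
universe u
open Synt

namespace Groth.Agent.S9169

open TensorProduct in
/-- Let R → S be a ring map and q a prime of S lying over p; write Q for the prime of the fibre ring
κ(p) ⊗ S that pulls back to q. Equivalent: (1) some basic open neighbourhood S_g of q is syntomic
over R; (2) some S_g is isomorphic over R to a relative global complete intersection; (3) some S_g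
is of finite presentation over R, the local ring S_q is flat over R (equivalently over R_p), and the
fibre local ring (κ(p) ⊗ S)_Q is a complete intersection over κ(p). Stated as (1) ↔ (2) and (1) ↔
(3). -/
theorem result (R S : Type u) [CommRing R] [CommRing S] [Algebra R S]
    (p : Ideal R) [p.IsPrime] (q : Ideal S) [q.IsPrime] [q.LiesOver p]
    (Q : Ideal (p.Fiber S)) [Q.IsPrime]
    (hQ : Q.comap (Algebra.TensorProduct.includeRight.toRingHom) = q) :
    ((∃ g : S, g ∉ q ∧ Synt.IsSyntomic R (Localization.Away g)) ↔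
        ∃ g : S, g ∉ q ∧ ∃ (n c : ℕ) (F : Fin c → MvPolynomial (Fin n) R), Synt.IsRelGCI R n c F ∧
          Nonempty (Localization.Away g ≃ₐ[R] Synt.RelGCIRing R n c F)) ∧
      ((∃ g : S, g ∉ q ∧ Synt.IsSyntomic R (Localization.Away g)) ↔
        ∃ g : S, g ∉ q ∧ Algebra.FinitePresentation R (Localization.Away g) ∧
          Module.Flat R (Localization.AtPrime q) ∧
          Synt.IsCIOver p.ResidueField (Localization.AtPrime Q)) := by
  have hqp : q.comap (algebraMap R S) = p := (q.over_def p).symm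
  have := Groth.Ega4b.fibLocRing_isLocalRing R S q
  have h21 : (∃ g : S, g ∉ q ∧ ∃ (n c : ℕ) (F : Fin c → MvPolynomial (Fin n) R), Synt.IsRelGCI R n c F ∧
      Nonempty (Localization.Away g ≃ₐ[R] Synt.RelGCIRing R n c F)) →
      ∃ g : S, g ∉ q ∧ Synt.IsSyntomic R (Localization.Away g) := by
    rintro ⟨g, hg, n, c, F, hF, ⟨e⟩⟩
    exact ⟨g, hg, Groth.Syntomic.isSyntomic_of_equiv hF e.symm⟩
  have h12 : (∃ g : S, g ∉ q ∧ Synt.IsSyntomic R (Localization.Away g)) →
      ∃ g : S, g ∉ q ∧ ∃ (n c : ℕ) (F : Fin c → MvPolynomial (Fin n) R), Synt.IsRelGCI R n c F ∧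
        Nonempty (Localization.Away g ≃ₐ[R] Synt.RelGCIRing R n c F) := by
    rintro ⟨g, hg, hs⟩
    obtain ⟨hp₁, -⟩ := Groth.Syntomic.exists_prime_away q hg
    obtain ⟨t, ht, n, c, F, hF, ⟨e⟩⟩ := Groth.Syntomic.isLocRelGCI_of_isSyntomic hs
      (q.map (algebraMap S (Localization.Away g))) hp₁
    obtain ⟨g', hg', ⟨e'⟩⟩ := Groth.Syntomic.exists_away_away_equiv (R := R) q hg t ht
    exact ⟨g', hg', n, c, F, hF, ⟨e'.trans e.symm⟩⟩
  refine ⟨⟨h12, h21⟩, ?_, ?_⟩
  · rintro ⟨g, hg, hs⟩
    have := hs.1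
    have := hs.2.1
    obtain ⟨hp₁, hc₁⟩ := Groth.Syntomic.exists_prime_away q hg
    obtain ⟨e₁⟩ := Groth.Syntomic.exists_atPrime_equiv_away (R := R)
      (q.map (algebraMap S (Localization.Away g))) q hc₁
    refine ⟨g, hg, hs.2.1, ?_, ?_⟩
    · have : Module.Flat R (Localization.AtPrime (q.map (algebraMap S (Localization.Away g)))) :=
        Module.Flat.trans R (Localization.Away g) _
      exact Module.Flat.of_linearEquiv e₁.toLinearEquiv
    · have hgQ : (1 : p.ResidueField) ⊗ₜ[R] g ∉ Q := fun h => hg (hQ ▸ h)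
      let T := Localization.Away ((1 : p.ResidueField) ⊗ₜ[R] g)
      have : Algebra.FiniteType p.ResidueField T :=
        Algebra.FiniteType.equiv (inferInstance : Algebra.FiniteType p.ResidueField
          (p.Fiber (Localization.Away g))) (Groth.Syntomic.tensorAwayEquiv p.ResidueField g).symm
      have hT : Synt.IsLCIOver p.ResidueField T :=
        Groth.Syntomic.isLCIOver_iff_isLCI.mpr (Groth.KoszulLCI.isLCI_of_algEquiv
          (Groth.Syntomic.tensorAwayEquiv p.ResidueField g).symm
          (Groth.Syntomic.isLCI_of_isLCIOver (hs.2.2 ⟨p, inferInstance⟩)))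
      obtain ⟨a, ha, ⟨e⟩⟩ := Groth.Syntomic.exists_atPrime_away_equiv p.ResidueField Q hgQ
      obtain ⟨R', i₁, i₂, i₃, hR', rs, hmem, hrs, ⟨e'⟩⟩ := Groth.Syntomic.isCIOver_atPrime
        (k := p.ResidueField) a (Groth.Syntomic.isLCIOver_iff_isCompleteIntersection.mp hT a)
      exact ⟨R', i₁, i₂, i₃, hR', rs, hmem, hrs, ⟨e.trans e'⟩⟩
  · rintro ⟨g, hg, hfp, hflat, hci⟩
    obtain ⟨hp₁, hc₁⟩ := Groth.Syntomic.exists_prime_away q hg
    obtain ⟨e₁⟩ := Groth.Syntomic.exists_atPrime_equiv_away (R := R)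
      (q.map (algebraMap S (Localization.Away g))) q hc₁
    have hci' := (Groth.Syntomic.isCompleteIntersection_fibLocRing_away_iff (R := R)
      (q.map (algebraMap S (Localization.Away g))) q hc₁).mpr
      ((Groth.Syntomic.isCompleteIntersection_atPrime_fiber_iff p Q q hQ hqp).mp
        (Groth.Syntomic.isCompleteIntersection_of_isCIOver hci))
    obtain ⟨t, ht, n, c, F, hF, ⟨e⟩⟩ := Groth.Syntomic.exists_relGCI_nhd_of_isCompleteIntersection
      (R := R) (q.map (algebraMap S (Localization.Away g)))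
      (Module.Flat.of_linearEquiv e₁.symm.toLinearEquiv) hci'
    obtain ⟨g', hg', ⟨e'⟩⟩ := Groth.Syntomic.exists_away_away_equiv (R := R) q hg t ht
    exact ⟨g', hg', Groth.Syntomic.isSyntomic_of_equiv hF (e.trans e'.symm)⟩

end Groth.Agent.S9169
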