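import Groth.Statements.S9171
import Groth.Agent.Syntomic.CIField

set_option autoImplicit false
universe u
open Synt

namespace Groth.Agent.S9171

/-- Let S = k[x_1, …, x_n]/I over a field k, q a prime of S, q' the corresponding prime of the
polynomial ring and c the integer with c + ht(q) = ht(q'). Equivalent: (1) S_g is a global complete
intersection over k for some g ∉ q; (2) the extension of I to the local ring k[x]_{q'} is generated
by c elements; (5) that extension is generated by a regular sequence. Stated as (1) ↔ (2) and (1) ↔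
(5). -/
theorem result (k : Type u) [Field k] (n : ℕ)
    (I : Ideal (MvPolynomial (Fin n) k)) (q : Ideal (MvPolynomial (Fin n) k ⧸ I)) [q.IsPrime] (c : ℕ)
    (hc : (c : ℕ∞) + q.height = (q.comap (Ideal.Quotient.mk I)).height) :
    ((∃ g : MvPolynomial (Fin n) k ⧸ I, g ∉ q ∧ Synt.IsGlobalCI k (Localization.Away g)) ↔
        ∃ s : Finset (Localization.AtPrime (q.comap (Ideal.Quotient.mk I))), s.card = c ∧
          Ideal.span (s : Set _) =
            I.map (algebraMap _ (Localization.AtPrime (q.comap (Ideal.Quotient.mk I))))) ∧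
      ((∃ g : MvPolynomial (Fin n) k ⧸ I, g ∉ q ∧ Synt.IsGlobalCI k (Localization.Away g)) ↔
        ∃ rs : List (Localization.AtPrime (q.comap (Ideal.Quotient.mk I))),
          RingTheory.Sequence.IsRegular (Localization.AtPrime (q.comap (Ideal.Quotient.mk I))) rs ∧
          Ideal.ofList rs =
            I.map (algebraMap _ (Localization.AtPrime (q.comap (Ideal.Quotient.mk I))))) := by
  set q' := q.comap (Ideal.Quotient.mk I)
  set R' := Localization.AtPrime q'
  set J := I.map (algebraMap (MvPolynomial (Fin n) k) R')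
  let φ := Ideal.Quotient.mkₐ k I
  have hφ : Function.Surjective φ := Ideal.Quotient.mkₐ_surjective k I
  have hker : RingHom.ker φ.toRingHom = I := Ideal.Quotient.mkₐ_ker k I
  have h5 : (∃ g : MvPolynomial (Fin n) k ⧸ I, g ∉ q ∧ Synt.IsGlobalCI k (Localization.Away g)) ↔
      ∃ rs : List R', RingTheory.Sequence.IsRegular R' rs ∧ Ideal.ofList rs = J := by
    rw [Groth.Syntomic.exists_isGlobalCI_nhd_iff,
      Groth.CI.isCompleteIntersection_atPrime_iff φ.toRingHom hφ q, hker]
    exact ⟨fun ⟨rs, a, b⟩ => ⟨rs, b, a⟩, fun ⟨rs, b, a⟩ => ⟨rs, a, b⟩⟩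
  refine ⟨?_, h5⟩
  rw [h5]
  have hIq : I ≤ q' := fun x hx => by
    change Ideal.Quotient.mk I x ∈ q
    rw [Ideal.Quotient.eq_zero_iff_mem.mpr hx]
    exact zero_mem _
  have hJ : J ≠ ⊤ := Groth.KoszulLCI.map_atPrime_ne_top hIq
  have hdim : ringKrullDim R' = (c : WithBot ℕ∞) + ringKrullDim (R' ⧸ J) := by
    have hk : RingHom.ker (Localization.localRingHom q' q φ.toRingHom rfl) = J := by
      rw [show J = (RingHom.ker φ.toRingHom).map (algebraMap _ R') by rw [hker]]
      exact Groth.KoszulLCI.ker_localRingHom_eq_map φ.toRingHom hφ q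
    have e1 : ringKrullDim (R' ⧸ J) = (q.height : WithBot ℕ∞) :=
      (ringKrullDim_eq_of_ringEquiv (R := R' ⧸ J) ((Ideal.quotEquivOfEq hk.symm).trans
        (RingHom.quotientKerEquivOfSurjective
          (Groth.KoszulLCI.surjective_localRingHom φ.toRingHom hφ q)))).trans
        (IsLocalization.AtPrime.ringKrullDim_eq_height q (Localization.AtPrime q))
    rw [e1, IsLocalization.AtPrime.ringKrullDim_eq_height q' R', ← hc]
    push_cast
    rfl
  obtain ⟨d, hd⟩ : ∃ d : ℕ, ringKrullDim (R' ⧸ J) = d :=
    have : Nontrivial (R' ⧸ J) := Ideal.Quotient.nontrivial_iff.mpr hJ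
    have : IsLocalRing (R' ⧸ J) := IsLocalRing.of_surjective' _ Ideal.Quotient.mk_surjective
    Groth.CI.exists_nat_ringKrullDim (R' ⧸ J)
  have hiff : (∃ rs : List R', RingTheory.Sequence.IsRegular R' rs ∧ Ideal.ofList rs = J) ↔
      J.spanFinrank ≤ c := by
    rw [show (∃ rs : List R', RingTheory.Sequence.IsRegular R' rs ∧ Ideal.ofList rs = J) ↔
      ∃ rs : List R', Ideal.ofList rs = J ∧ RingTheory.Sequence.IsRegular R' rs from
      exists_congr fun rs => and_comm, Groth.CI.exists_regular_iff J hJ, hdim, hd]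
    norm_cast
    omega
  rw [hiff]
  have hlow : c ≤ J.spanFinrank := by
    have := ringKrullDim_le_ringKrullDim_quotient_add_spanFinrank J
      ((IsLocalRing.le_maximalIdeal hJ).trans (IsLocalRing.ringJacobson_eq_maximalIdeal (R := R')).ge)
    rw [hdim, hd] at this
    norm_cast at this
    omega
  constructor
  · intro h
    have hfg : J.FG := IsNoetherian.noetherian J
    refine ⟨(Submodule.FG.finite_generators hfg).toFinset, ?_, ?_⟩
    · rw [← Set.ncard_eq_toFinset_card _ (Submodule.FG.finite_generators hfg),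
        Submodule.FG.generators_ncard hfg]
      omega
    · rw [Set.Finite.coe_toFinset]
      exact Submodule.span_generators J
  · rintro ⟨s, rfl, hs⟩
    rw [← hs]
    refine le_trans (Submodule.spanFinrank_span_le_ncard_of_finite s.finite_toSet) ?_
    rw [Set.ncard_coe_finset]

end Groth.Agent.S9171
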