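import Groth.Statements.S9173
import Groth.Agent.Calg5.RelGCIOpen

set_option autoImplicit false
universe u
open Synt

namespace Groth.Agent.S9173

open MvPolynomial TensorProduct in
/-- Let S = R[x_1, …, x_n]/(F_1, …, F_c) over a ring R. Let p be a prime of R whose fibre ring κ(p) ⊗ S
has Krull dimension n − c (with c ≤ n). Then some h in the polynomial ring, with image g in S,
satisfies: g maps to a unit of κ(p) ⊗ S, and the presentation S_g = R[x_1, …, x_{n+1}]/(F_1, …, F_c,
h·x_{n+1} − 1) is a relative global complete intersection over R (with S_g isomorphic to it over R). -/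
theorem result (R : Type u) [CommRing R] (n c : ℕ) (F : Fin c → MvPolynomial (Fin n) R)
    (p : Ideal R) [p.IsPrime]
    (hp : c ≤ n ∧ ringKrullDim (p.Fiber (Synt.RelGCIRing R n c F)) = ((n - c : ℕ) : WithBot ℕ∞)) :
    ∃ h : MvPolynomial (Fin n) R,
      IsUnit ((1 : p.ResidueField) ⊗ₜ[R] (Ideal.Quotient.mk (Ideal.span (Set.range F)) h) :
        p.Fiber (Synt.RelGCIRing R n c F)) ∧
      Synt.IsRelGCI R (n + 1) (c + 1)
        (Fin.snoc (fun i => rename Fin.castSucc (F i)) (rename Fin.castSucc h * X (Fin.last n) - 1)) ∧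
      Nonempty (Localization.Away (Ideal.Quotient.mk (Ideal.span (Set.range F)) h) ≃ₐ[R]
        Synt.RelGCIRing R (n + 1) (c + 1)
          (Fin.snoc (fun i => rename Fin.castSucc (F i)) (rename Fin.castSucc h * X (Fin.last n) - 1))) := by
  classical
  obtain ⟨hc, hdim⟩ := hp
  set S := Synt.RelGCIRing R n c F
  obtain ⟨W, hW, hWp, hWtr⟩ := Groth.FibreDim.exists_open_trdeg_le (B := S) ⟨p, inferInstance⟩ (n - c) hdim.le
  obtain ⟨J, hJ⟩ := (PrimeSpectrum.isClosed_iff_zeroLocus_ideal _).mp hW.isClosed_compl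
  -- an element of `J` which is a unit in the fibre
  let inc : S →ₐ[R] p.Fiber S := Algebra.TensorProduct.includeRight
  have htop : J.map inc.toRingHom = ⊤ := by
    by_contra hne
    obtain ⟨P, hP, hle⟩ := Ideal.exists_le_maximal _ hne
    haveI : P.IsPrime := @Ideal.IsMaximal.isPrime (p.Fiber S) _ P hP
    let Q : PrimeSpectrum S := ⟨P.comap inc.toRingHom, inferInstance⟩
    have hQ : Q.comap (algebraMap R S) = ⟨p, inferInstance⟩ := by
      refine PrimeSpectrum.ext ?_
      change (P.comap inc.toRingHom).comap (algebraMap R S) = p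
      rw [Ideal.comap_comap]
      change P.comap (inc.toRingHom.comp (algebraMap R S)) = p
      have hk : (inc.toRingHom.comp (algebraMap R S)) =
          (algebraMap p.ResidueField (p.Fiber S)).comp (algebraMap R p.ResidueField) := by
        rw [← IsScalarTower.algebraMap_eq]; exact inc.comp_algebraMap
      rw [hk, ← Ideal.comap_comap, (P.comap (algebraMap p.ResidueField (p.Fiber S))).eq_bot_or_top.resolve_right
        (Ideal.IsPrime.ne_top inferInstance), ← RingHom.ker_eq_comap_bot]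
      exact Ideal.ker_algebraMap_residueField p
    have h1 : Q ∈ PrimeSpectrum.zeroLocus (J : Set S) := fun x hx => hle (Ideal.mem_map_of_mem _ hx)
    rw [← hJ] at h1
    exact h1 (hWp Q hQ)
  obtain ⟨g, hgJ, hgu⟩ : ∃ g ∈ J, IsUnit ((1 : p.ResidueField) ⊗ₜ[R] g : p.Fiber S) := by
    have hrep : ∀ x ∈ J.map inc.toRingHom, ∃ g ∈ J, ∃ r ∉ p, r • x = (1 : p.ResidueField) ⊗ₜ[R] g := by
      intro x hx
      induction hx using Submodule.span_induction with
      | mem y hy => obtain ⟨g, hg, rfl⟩ := hy; exact ⟨g, hg, 1, fun h => ‹p.IsPrime›.ne_top ((Ideal.eq_top_iff_one _).mpr h), one_smul _ _⟩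
      | zero => exact ⟨0, zero_mem _, 1, fun h => ‹p.IsPrime›.ne_top ((Ideal.eq_top_iff_one _).mpr h), by rw [one_smul, tmul_zero]⟩
      | add y z _ _ hy hz =>
        obtain ⟨g, hg, r, hr, he⟩ := hy
        obtain ⟨g', hg', r', hr', he'⟩ := hz
        refine ⟨r' • g + r • g', add_mem (J.smul_of_tower_mem r' hg) (J.smul_of_tower_mem r hg'), r * r',
          fun h => (‹p.IsPrime›.mem_or_mem h).elim hr hr', ?_⟩
        rw [tmul_add, tmul_smul, tmul_smul, ← he, ← he', smul_smul, smul_smul, smul_add, mul_comm r r']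
      | smul a y _ hy =>
        obtain ⟨g, hg, r, hr, he⟩ := hy
        obtain ⟨t, ht, b, hb⟩ := Ideal.Fiber.exists_smul_eq_one_tmul p a
        refine ⟨b * g, J.mul_mem_left b hg, t * r, fun h => (‹p.IsPrime›.mem_or_mem h).elim ht hr, ?_⟩
        rw [show ((1 : p.ResidueField) ⊗ₜ[R] (b * g) : p.Fiber S) = (1 ⊗ₜ b) * (1 ⊗ₜ g) by
          rw [Algebra.TensorProduct.tmul_mul_tmul, one_mul], ← hb, ← he, smul_mul_smul_comm, smul_eq_mul]
    obtain ⟨g, hg, r, hr, he⟩ := hrep 1 (htop ▸ trivial)
    refine ⟨g, hg, ?_⟩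
    have hu := (isUnit_iff_ne_zero.mpr fun h0 => hr (Ideal.algebraMap_residueField_eq_zero.mp h0) :
      IsUnit (algebraMap R p.ResidueField r)).map
        (Algebra.TensorProduct.includeLeft (R := R) (S := R) (A := p.ResidueField) (B := S))
    rw [← he]
    convert hu using 1
    rw [Algebra.TensorProduct.includeLeft_apply, Algebra.TensorProduct.one_def, TensorProduct.smul_tmul',
      Algebra.smul_def, mul_one]
  obtain ⟨h, rfl⟩ := Ideal.Quotient.mk_surjective g
  refine ⟨h, hgu, Groth.Calg5.RelGCIOpen.isRelGCI_awayEqs F h fun p' _ _ => ⟨hc, ?_⟩,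
    Groth.Calg5.RelGCIOpen.exists_away_equiv F h⟩
  refine Groth.Calg5.RelGCIOpen.ringKrullDim_fiber_away_le _ _ (fun q hq => ?_) p'
  refine hWtr q (not_not.mp fun hn => ?_)
  have h1 : q ∈ PrimeSpectrum.zeroLocus (J : Set S) := hJ ▸ hn
  exact hq (h1 hgJ)

end Groth.Agent.S9173
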