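import Groth.Statements.S9174
import Groth.Agent.FibreRegular.OpenLocus

set_option autoImplicit false
universe u
open CAlg

namespace Groth.Agent.S9174

/-- Let R → S be of finite type with every fibre ring κ(p) ⊗ S Cohen–Macaulay and equidimensional of
dimension d, and let f_1, …, f_i ∈ S. The primes q ⊇ (f_1, …, f_i) at which the f_j form a regular
sequence in the fibre local ring S_q/pS_q (p = q ∩ R) form an open subset of V(f_1, …, f_i): there
is an open U of Spec S whose trace on V(f_1, …, f_i) is exactly this set. -/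
theorem result (R S : Type u) [CommRing R] [CommRing S]
    [Algebra R S] [Algebra.FiniteType R S] (d : ℕ)
    (hCM : ∀ p : PrimeSpectrum R, LocCoh.IsCohenMacaulayRing (p.asIdeal.Fiber S))
    (heq : ∀ p : PrimeSpectrum R, ∀ P ∈ minimalPrimes (p.asIdeal.Fiber S),
      ringKrullDim (p.asIdeal.Fiber S ⧸ P) = (d : WithBot ℕ∞))
    (f : List S) :
    ∃ U : Set (PrimeSpectrum S), IsOpen U ∧ ∀ q : PrimeSpectrum S, Ideal.ofList f ≤ q.asIdeal →
      (q ∈ U ↔ RingTheory.Sequence.IsRegular (EGA4.FibLocRing R S q.asIdeal)
        (f.map (algebraMap S (EGA4.FibLocRing R S q.asIdeal)))) := by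
  exact Groth.FibreRegular.exists_open_regular_locus hCM heq f

end Groth.Agent.S9174
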