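import Groth.Statements.S9175
import Groth.Agent.Calg4.QuasiFiniteLocalDim

set_option autoImplicit false
universe u
open CAlg

namespace Groth.Agent.S9175

/-- Let R → S be of finite type, q a prime of S over p, and Q the prime of the fibre ring κ(p) ⊗ S
pulling back to q. If Spec(κ(p) ⊗ S) has local dimension n at Q (the relative dimension of S over R
at q is n), then some S_g with g ∉ q admits an R-algebra map from the polynomial ring R[t_1, …, t_n]
which is of finite type and quasi-finite. -/
theorem result (R S : Type u) [CommRing R] [CommRing S]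
    [Algebra R S] [Algebra.FiniteType R S] (p : Ideal R) [p.IsPrime] (q : Ideal S) [q.IsPrime] [q.LiesOver p]
    (Q : PrimeSpectrum (p.Fiber S))
    (hQ : Q.asIdeal.comap (Algebra.TensorProduct.includeRight.toRingHom) = q) (n : ℕ)
    (hdim : FlatMor.localDim (PrimeSpectrum (p.Fiber S)) Q = (n : WithBot ℕ∞)) :
    ∃ g : S, g ∉ q ∧ ∃ φ : MvPolynomial (Fin n) R →ₐ[R] Localization.Away g,
      φ.toRingHom.FiniteType ∧ φ.toRingHom.QuasiFinite := by
  obtain ⟨g, hg, h⟩ := Groth.Calg4.exists_quasiFinite_mvPolynomial_away (⟨p, inferInstance⟩ : PrimeSpectrum R) Q n hdim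
  exact ⟨g, hQ ▸ hg, h⟩

end Groth.Agent.S9175
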