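import Groth.Statements.S9176
import Groth.Agent.FibreDim.Retrocompact

set_option autoImplicit false
universe u
open CAlg

namespace Groth.Agent.S9176

/-- For a ring map R → S of finite presentation and n ≥ 0, the set of primes q of S whose fibre
Spec(κ(p) ⊗ S), p = q ∩ R, has local dimension at most n at the point over q is open and
quasi-compact in Spec S. -/
theorem result (R S : Type u) [CommRing R]
    [CommRing S] [Algebra R S] [Algebra.FinitePresentation R S] (n : ℕ) :
    IsOpen {q : PrimeSpectrum S | ∀ Q : PrimeSpectrum ((q.asIdeal.under R).Fiber S),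
        Q.asIdeal.comap (Algebra.TensorProduct.includeRight.toRingHom) = q.asIdeal →
          FlatMor.localDim (PrimeSpectrum ((q.asIdeal.under R).Fiber S)) Q ≤ (n : WithBot ℕ∞)} ∧
      IsCompact {q : PrimeSpectrum S | ∀ Q : PrimeSpectrum ((q.asIdeal.under R).Fiber S),
        Q.asIdeal.comap (Algebra.TensorProduct.includeRight.toRingHom) = q.asIdeal →
          FlatMor.localDim (PrimeSpectrum ((q.asIdeal.under R).Fiber S)) Q ≤ (n : WithBot ℕ∞)} := by
  open AlgebraicGeometry CategoryTheory TopologicalSpace Topology in
    let f := Spec.map (CommRingCat.ofHom (algebraMap R S))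
    have hfp : (CommRingCat.ofHom (algebraMap R S)).hom.FinitePresentation :=
      RingHom.finitePresentation_algebraMap.mpr ‹_›
    have hft : LocallyOfFiniteType f :=
      (HasRingHomProperty.Spec_iff (P := @LocallyOfFiniteType)).mpr (RingHom.FiniteType.of_finitePresentation hfp)
    have hset : {q : PrimeSpectrum S | ∀ Q : PrimeSpectrum ((q.asIdeal.under R).Fiber S),
        Q.asIdeal.comap (Algebra.TensorProduct.includeRight.toRingHom) = q.asIdeal →
          FlatMor.localDim (PrimeSpectrum ((q.asIdeal.under R).Fiber S)) Q ≤ (n : WithBot ℕ∞)} =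
        {x | FlatMor.fibreDimAt f x ≤ n} := by
      ext q
      let p : PrimeSpectrum R := PrimeSpectrum.comap (algebraMap R S) q
      let E := PrimeSpectrum.preimageHomeomorphFiber R S p
      have hd : ∀ Q : PrimeSpectrum (p.asIdeal.Fiber S), FlatMor.fibreDimAt f (E.symm Q).1 =
          FlatMor.localDim (PrimeSpectrum (p.asIdeal.Fiber S)) Q :=
        Groth.FibreDim.fibreDimAt_eq_of_range f p
          (A := PrimeSpectrum (p.asIdeal.Fiber S)) (e := fun Q => ((E.symm Q).1 : PrimeSpectrum S))
          (IsEmbedding.subtypeVal.comp E.symm.isEmbedding)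
          ((E.symm.surjective.range_comp Subtype.val).trans Subtype.range_coe)
      constructor
      · intro h
        have hq := h (E ⟨q, rfl⟩) (congrArg (fun z : PrimeSpectrum.comap (algebraMap R S) ⁻¹' {p} => z.1.asIdeal) (E.symm_apply_apply ⟨q, rfl⟩))
        have hd' := hd (E ⟨q, rfl⟩)
        rw [E.symm_apply_apply] at hd'
        exact hd'.trans_le hq
      · intro h Q hQ
        have hQ' : (E.symm Q).1 = q := PrimeSpectrum.ext hQ
        have h' : FlatMor.fibreDimAt f (E.symm Q).1 ≤ n := by rw [hQ']; exact h
        exact (hd Q).ge.trans h'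
    rw [hset]
    exact ⟨Groth.FibreDim.isOpen_fibreDimAt_le f n,
      Groth.FibreDim.isCompact_fibreDimAt_le_spec _ hfp n⟩

end Groth.Agent.S9176
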