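import Groth.Statements.S9177
import Groth.Agent.Calg4.ColimitTensor

set_option autoImplicit false
universe u
open CAlg

namespace Groth.Agent.S9177

open TensorProduct in
/-- Let R = colim R_i be a directed colimit of A-algebras (compatible transition maps), B and C
A-algebras. (1) If B is of finite type over A, two A-algebra maps B → C whose base changes to R
coincide already have equal base changes to some R_i. (2) If C is of finite type over A and u : B →
C has surjective base change to R, then its base change to some R_i is surjective. (The A-algebra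
structure on R is through any stage R_l; it does not depend on l.) -/
theorem result {ι : Type u} [Preorder ι]
    [Nonempty ι] [IsDirectedOrder ι] (G : ι → Type u) [∀ i, CommRing (G i)]
    (f : ∀ i j, i ≤ j → G i →+* G j) [DirectedSystem G (fun i j h => f i j h)]
    (A : Type u) [CommRing A] [∀ i, Algebra A (G i)]
    (hf : ∀ i j (h : i ≤ j), (f i j h).comp (algebraMap A (G i)) = algebraMap A (G j)) (l : ι)
    (B C : Type u) [CommRing B] [CommRing C] [Algebra A B] [Algebra A C] :
    letI : Algebra A (Ring.DirectLimit G (fun i j h => f i j h)) :=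
      ((Ring.DirectLimit.of G (fun i j h => f i j h) l).comp (algebraMap A (G l))).toAlgebra
    (Algebra.FiniteType A B → ∀ u u' : B →ₐ[A] C,
        Algebra.TensorProduct.map (AlgHom.id A (Ring.DirectLimit G (fun i j h => f i j h))) u =
            Algebra.TensorProduct.map (AlgHom.id A (Ring.DirectLimit G (fun i j h => f i j h))) u' →
          ∃ i : ι, Algebra.TensorProduct.map (AlgHom.id A (G i)) u =
            Algebra.TensorProduct.map (AlgHom.id A (G i)) u') ∧
      (Algebra.FiniteType A C → ∀ u : B →ₐ[A] C,
        Function.Surjective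
            (Algebra.TensorProduct.map (AlgHom.id A (Ring.DirectLimit G (fun i j h => f i j h))) u) →
          ∃ i : ι, Function.Surjective (Algebra.TensorProduct.map (AlgHom.id A (G i)) u)) := by
  classical
  let algR : Algebra A (Ring.DirectLimit G (fun i j h => f i j h)) :=
    ((Ring.DirectLimit.of G (fun i j h => f i j h) l).comp (algebraMap A (G l))).toAlgebra
  let f' : ∀ i j, i ≤ j → (G i →ₐ[A] G j) := fun i j h =>
    { f i j h with commutes' := fun a => RingHom.congr_fun (hf i j h) a }
  let g' : ∀ i, G i →ₐ[A] Ring.DirectLimit G (fun i j h => f i j h) := fun i =>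
    { Ring.DirectLimit.of G (fun i j h => f i j h) i with
      commutes' := fun a => by
        obtain ⟨k, hik, hlk⟩ := exists_ge_ge i l
        change Ring.DirectLimit.of G (fun i j h => f i j h) i (algebraMap A (G i) a) =
          Ring.DirectLimit.of G (fun i j h => f i j h) l (algebraMap A (G l) a)
        rw [← Ring.DirectLimit.of_f (f := fun i j h => f i j h) hik (algebraMap A (G i) a),
          ← Ring.DirectLimit.of_f (f := fun i j h => f i j h) hlk (algebraMap A (G l) a)]
        exact congrArg _ ((RingHom.congr_fun (hf i k hik) a).trans (RingHom.congr_fun (hf l k hlk) a).symm) }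
  have H : Groth.Calg4.IsColim f' g' :=
    ⟨fun i j h => AlgHom.ext fun x => Ring.DirectLimit.of_f (f := fun i j h => f i j h) h x,
     fun a => Ring.DirectLimit.exists_of a,
     fun i x hx => Ring.DirectLimit.of.zero_exact hx⟩
  have swap : ∀ {X Y : Type u} [CommRing X] [Algebra A X] [CommRing Y] [Algebra A Y] (φ : X →ₐ[A] Y)
      (z : X ⊗[A] C), Algebra.TensorProduct.map φ (AlgHom.id A C) z =
        (TensorProduct.comm A C Y) (φ.toLinearMap.lTensor C ((TensorProduct.comm A C X).symm z)) := by
    intro X Y _ _ _ _ φ z
    induction z using TensorProduct.induction_on with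
    | zero => simp
    | tmul x y => simp
    | add a b ha hb => simp only [map_add, ha, hb]
  have kill : ∀ {i} (s : Finset (G i ⊗[A] C)),
      (∀ z ∈ s, Algebra.TensorProduct.map (g' i) (AlgHom.id A C) z = 0) →
      ∃ j, ∃ φ : Groth.Calg4.Trans g' i j, ∀ z ∈ s, Algebra.TensorProduct.map φ.1 (AlgHom.id A C) z = 0 := by
    intro i s
    induction s using Finset.induction_on with
    | empty => exact fun _ => ⟨i, Groth.Calg4.Trans.refl i, by simp⟩
    | insert a s _ ih =>
      intro hs
      obtain ⟨j, φ, hφ⟩ := ih fun z hz => hs z (Finset.mem_insert_of_mem hz)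
      have hcomp : ∀ {j k : ι} (φ : G i →ₐ[A] G j) (ψ : G j →ₐ[A] G k) (z : G i ⊗[A] C),
          Algebra.TensorProduct.map (ψ.comp φ) (AlgHom.id A C) z =
            Algebra.TensorProduct.map ψ (AlgHom.id A C) (Algebra.TensorProduct.map φ (AlgHom.id A C) z) := by
        intro j k φ ψ z
        induction z using TensorProduct.induction_on with
        | zero => simp
        | tmul x y => simp
        | add a b ha hb => simp only [map_add, ha, hb]
      have h0 := hs a (Finset.mem_insert_self a s)
      obtain ⟨k, ψ, hψ⟩ := H.tensor_kill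
        (φ.1.toLinearMap.lTensor C ((TensorProduct.comm A C (G i)).symm a)) (by
          rw [← LinearMap.comp_apply, ← LinearMap.lTensor_comp, ← AlgHom.comp_toLinearMap, φ.2]
          apply (TensorProduct.comm A C _).injective
          rw [← swap, h0, map_zero])
      refine ⟨k, φ.trans ψ, fun z hz => ?_⟩
      change Algebra.TensorProduct.map (ψ.1.comp φ.1) (AlgHom.id A C) z = 0
      rw [hcomp]
      rcases Finset.mem_insert.mp hz with rfl | hz
      · rw [swap, swap, LinearEquiv.symm_apply_apply, hψ, map_zero]
      · rw [hφ z hz, map_zero]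
  refine ⟨fun hB u u' he => ?_, fun hC u hu => ?_⟩
  · obtain ⟨s, hs⟩ := hB.out
    obtain ⟨j, φ, hφ⟩ := kill (i := l) (s.image fun b => (1 : G l) ⊗ₜ[A] (u b - u' b)) (by
      intro z hz
      obtain ⟨b, -, rfl⟩ := Finset.mem_image.mp hz
      have := AlgHom.congr_fun he ((1 : Ring.DirectLimit G (fun i j h => f i j h)) ⊗ₜ[A] b)
      simp only [Algebra.TensorProduct.map_tmul, AlgHom.id_apply] at this
      rw [Algebra.TensorProduct.map_tmul, map_one, AlgHom.id_apply, TensorProduct.tmul_sub, this, sub_self])
    refine ⟨j, Algebra.TensorProduct.ext ?_ ?_⟩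
    · ext x; simp
    · refine AlgHom.ext_of_adjoin_eq_top hs fun b hb => ?_
      have := hφ _ (Finset.mem_image_of_mem _ hb)
      rw [Algebra.TensorProduct.map_tmul, map_one, AlgHom.id_apply, TensorProduct.tmul_sub, sub_eq_zero] at this
      simpa using this
  · obtain ⟨s, hs⟩ := hC.out
    have hlift : ∀ z : Ring.DirectLimit G (fun i j h => f i j h) ⊗[A] B,
        ∃ i, ∃ w : G i ⊗[A] B, Algebra.TensorProduct.map (g' i) (AlgHom.id A B) w = z := by
      intro z
      induction z using TensorProduct.induction_on with
      | zero => exact ⟨l, 0, map_zero _⟩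
      | tmul r b =>
        obtain ⟨i, x, rfl⟩ := H.surj r
        exact ⟨i, x ⊗ₜ b, rfl⟩
      | add a b ha hb =>
        obtain ⟨i, v, rfl⟩ := ha
        obtain ⟨j, w, rfl⟩ := hb
        obtain ⟨k, ⟨φ⟩, ⟨ψ⟩⟩ := H.exists_common i j
        refine ⟨k, Algebra.TensorProduct.map φ.1 (AlgHom.id A B) v +
          Algebra.TensorProduct.map ψ.1 (AlgHom.id A B) w, ?_⟩
        rw [map_add, ← AlgHom.comp_apply, ← Algebra.TensorProduct.map_comp, ← AlgHom.comp_apply,
          ← Algebra.TensorProduct.map_comp, φ.2, ψ.2, AlgHom.comp_id]
    suffices ∀ t : Finset C, ∃ i, ∀ c ∈ t, (1 : G i) ⊗ₜ[A] c ∈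
        (Algebra.TensorProduct.map (AlgHom.id A (G i)) u).range by
      obtain ⟨i, hi⟩ := this s
      refine ⟨i, fun z => ?_⟩
      have hle : (⊤ : Subalgebra A C) ≤ (Algebra.TensorProduct.map (AlgHom.id A (G i)) u).range.comap
          Algebra.TensorProduct.includeRight := by
        rw [← hs, Algebra.adjoin_le_iff]; exact hi
      induction z using TensorProduct.induction_on with
      | zero => exact ⟨0, map_zero _⟩
      | tmul r c =>
        obtain ⟨y, hy⟩ := hle (Algebra.mem_top (x := c))
        refine ⟨(r ⊗ₜ 1) * y, ?_⟩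
        change Algebra.TensorProduct.map (AlgHom.id A (G i)) u y = 1 ⊗ₜ c at hy
        rw [map_mul, hy]
        simp
      | add a b ha hb =>
        obtain ⟨a', rfl⟩ := ha
        obtain ⟨b', rfl⟩ := hb
        exact ⟨a' + b', map_add _ _ _⟩
    intro t
    induction t using Finset.induction_on with
    | empty => exact ⟨l, by simp⟩
    | insert c t _ ih =>
      obtain ⟨i, hi⟩ := ih
      obtain ⟨z, hz⟩ := hu (1 ⊗ₜ c)
      obtain ⟨j, w, rfl⟩ := hlift z
      obtain ⟨k, ⟨φ⟩, ⟨ψ⟩⟩ := H.exists_common i j
      have hnat : ∀ {a b : ι} {X : Type u} [CommRing X] [Algebra A X] (θ : G a →ₐ[A] X)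
          (y : G a ⊗[A] B), Algebra.TensorProduct.map (AlgHom.id A X) u
            (Algebra.TensorProduct.map θ (AlgHom.id A B) y) =
          Algebra.TensorProduct.map θ (AlgHom.id A C)
            (Algebra.TensorProduct.map (AlgHom.id A (G a)) u y) := by
        intro a b X _ _ θ y
        induction y using TensorProduct.induction_on with
        | zero => simp
        | tmul x y => simp
        | add a b ha hb => simp only [map_add, ha, hb]
      rw [hnat (b := j)] at hz
      obtain ⟨m, χ, hχ⟩ := kill {Algebra.TensorProduct.map ψ.1 (AlgHom.id A C)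
          (Algebra.TensorProduct.map (AlgHom.id A (G j)) u w) - 1 ⊗ₜ c} (by
        intro y hy
        rw [Finset.mem_singleton.mp hy, map_sub, ← AlgHom.comp_apply, ← Algebra.TensorProduct.map_comp,
          ψ.2, AlgHom.comp_id, hz, Algebra.TensorProduct.map_tmul, map_one, AlgHom.id_apply, sub_self])
      refine ⟨m, fun x hx => ?_⟩
      rcases Finset.mem_insert.mp hx with rfl | hx
      · refine ⟨Algebra.TensorProduct.map χ.1 (AlgHom.id A B)
          (Algebra.TensorProduct.map ψ.1 (AlgHom.id A B) w), ?_⟩
        have := hχ _ (Finset.mem_singleton_self _)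
        rw [map_sub, sub_eq_zero, Algebra.TensorProduct.map_tmul, map_one, AlgHom.id_apply] at this
        change Algebra.TensorProduct.map (AlgHom.id A (G m)) u _ = _
        rw [hnat (b := m), hnat (b := k), this]
      · obtain ⟨y, hy⟩ := hi x hx
        refine ⟨Algebra.TensorProduct.map χ.1 (AlgHom.id A B)
          (Algebra.TensorProduct.map φ.1 (AlgHom.id A B) y), ?_⟩
        change Algebra.TensorProduct.map (AlgHom.id A (G i)) u y = _ at hy
        change Algebra.TensorProduct.map (AlgHom.id A (G m)) u _ = _
        rw [hnat (b := m), hnat (b := k), hy]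
        simp

end Groth.Agent.S9177
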