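import Groth.Statements.S9178
-- import your own Groth.Agent.* helpers here

set_option autoImplicit false
universe u
open CAlg

namespace Groth.Agent.S9178

section Helpers

theorem leib {B : Type u} [CommRing B] (x x' σ σ' : B) (h : (x - σ) * (x' - σ') = 0) :
    x * x' - σ * σ' = x * (x' - σ') + x' * (x - σ) := by
  rw [← sub_eq_zero]
  trans -((x - σ) * (x' - σ'))
  · ring
  · rw [h, neg_zero]

theorem leib' {B : Type u} [CommRing B] (x σ c L : B) (h : (x - σ) * L = 0) : σ * c * L = x * (c * L) := by
  rw [← sub_eq_zero]
  trans -(c * ((x - σ) * L))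
  · ring
  · rw [h, mul_zero, neg_zero]

end Helpers

/-- For ring maps A → B → C with A → C surjective, writing I = ker(A → C) and J = ker(B → C), the
sequence I/I² → J/J² → C ⊗_B Ω_{B/A} → 0 is exact. Stated: the image of I/I² in J/J² is exactly the
kernel of J/J² → C ⊗_B Ω_{B/A} (surjectivity of the latter map is the standard conormal sequence for
the surjection B → C). -/
theorem result (A B C : Type u) [CommRing A] [CommRing B]
    [CommRing C] [Algebra A B] [Algebra B C] [Algebra A C] [IsScalarTower A B C]
    (hAC : Function.Surjective (algebraMap A C))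
    (h : RingHom.ker (algebraMap A C) ≤ (RingHom.ker (algebraMap B C)).comap (Algebra.ofId A B)) :
    Function.Exact
      (Ideal.mapCotangent (RingHom.ker (algebraMap A C)) (RingHom.ker (algebraMap B C)) (Algebra.ofId A B) h)
      (KaehlerDifferential.kerCotangentToTensor A B C) := by
  set I := RingHom.ker (algebraMap A C)
  set J := RingHom.ker (algebraMap B C)
  set ι := algebraMap A B
  intro x
  obtain ⟨y, rfl⟩ := Ideal.toCotangent_surjective _ x
  rw [KaehlerDifferential.kerCotangentToTensor_toCotangent]
  constructor
  · intro hy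
    let Q := J ^ 2 ⊔ I.map ι
    let B' := B ⧸ Q
    let s : C →+* B' := RingHom.liftOfSurjective (algebraMap A C) hAC
      ⟨(Ideal.Quotient.mk Q).comp ι, fun a ha => by
        rw [RingHom.mem_ker, RingHom.comp_apply, Ideal.Quotient.eq_zero_iff_mem]
        exact Ideal.mem_sup_right (Ideal.mem_map_of_mem _ ha)⟩
    have hs : ∀ a, s (algebraMap A C a) = Ideal.Quotient.mk Q (ι a) := fun a =>
      RingHom.liftOfSurjective_comp_apply (algebraMap A C) hAC _ a
    let δ : B → B' := fun b => Ideal.Quotient.mk Q b - s (algebraMap B C b)
    have hsq : ∀ b b', δ b * δ b' = 0 := by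
      intro b b'
      obtain ⟨a, ha⟩ := hAC (algebraMap B C b)
      obtain ⟨a', ha'⟩ := hAC (algebraMap B C b')
      simp only [δ, ← ha, ← ha', hs, ← map_sub, ← map_mul]
      refine Ideal.Quotient.eq_zero_iff_mem.mpr (Ideal.mem_sup_left ?_)
      rw [pow_two]
      refine Ideal.mul_mem_mul ?_ ?_ <;> rw [RingHom.mem_ker, map_sub, ← IsScalarTower.algebraMap_apply A B C]
      · rw [ha, sub_self]
      · rw [ha', sub_self]
    let D : Derivation A B B' := Derivation.mk'
      { toFun := δ
        map_add' := fun b b' => by simp only [δ, map_add]; abel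
        map_smul' := fun a b => by
          simp only [δ, Algebra.smul_def, map_mul, ← IsScalarTower.algebraMap_apply A B C, hs, RingHom.id_apply]
          rw [← mul_sub, IsScalarTower.algebraMap_apply A B B']
          rfl }
      (fun b b' => by
        have h := hsq b b'
        simp only [δ] at h
        show δ (b * b') = b • δ b' + b' • δ b
        simp only [δ, map_mul, Algebra.smul_def]
        show _ = Ideal.Quotient.mk Q b * _ + Ideal.Quotient.mk Q b' * _
        exact leib _ _ _ _ h)
    let L := D.liftKaehlerDifferential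
    have hkill : ∀ (b : B) (ω : KaehlerDifferential A B), δ b * L ω = 0 := by
      intro b ω
      have hω : ω ∈ Submodule.span B (Set.range (KaehlerDifferential.D A B)) :=
        (KaehlerDifferential.span_range_derivation A B).symm ▸ trivial
      induction hω using Submodule.span_induction with
      | mem z hz => obtain ⟨b', rfl⟩ := hz; rw [D.liftKaehlerDifferential_comp_D]; exact hsq b b'
      | zero => rw [map_zero, mul_zero]
      | add u v _ _ hu hv => rw [map_add, mul_add, hu, hv, add_zero]
      | smul c u _ hu => rw [map_smul, Algebra.smul_def, mul_left_comm, hu, mul_zero]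
    let Φ : TensorProduct B C (KaehlerDifferential A B) →ₗ[B] B' := TensorProduct.lift
      (LinearMap.mk₂ B (fun c ω => s c * L ω)
        (fun c c' ω => by simp only [map_add, add_mul])
        (fun b c ω => by
          have h := hkill b ω
          simp only [δ] at h
          simp only [Algebra.smul_def, map_mul]
          show _ = Ideal.Quotient.mk Q b * _
          exact leib' _ _ _ _ h)
        (fun c ω ω' => by simp only [map_add, mul_add])
        (fun b c ω => by simp only [map_smul, Algebra.smul_def]; ring))
    have h0 := congrArg Φ hy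
    rw [map_zero, TensorProduct.lift.tmul, LinearMap.mk₂_apply, map_one, one_mul,
      D.liftKaehlerDifferential_comp_D] at h0
    have h1 : (y : B) ∈ Q := by
      rw [← Ideal.Quotient.eq_zero_iff_mem, ← h0]
      show _ = δ y
      simp only [δ, RingHom.mem_ker.mp y.2, map_zero, sub_zero]
    obtain ⟨q, hq, r, hr, hqr⟩ := Submodule.mem_sup.mp h1
    have key : r ∈ J ∧ ∃ i ∈ I, r - ι i ∈ J ^ 2 := by
      clear hqr
      induction hr using Submodule.span_induction with
      | mem z hz => obtain ⟨i, hi, rfl⟩ := hz; exact ⟨h hi, i, hi, by rw [sub_self]; exact zero_mem _⟩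
      | zero => exact ⟨zero_mem _, 0, zero_mem _, by rw [map_zero, sub_zero]; exact zero_mem _⟩
      | add u v _ _ hu hv =>
        obtain ⟨hu, i, hi, hui⟩ := hu
        obtain ⟨hv, i', hi', hvi⟩ := hv
        refine ⟨add_mem hu hv, i + i', add_mem hi hi', ?_⟩
        rw [map_add, add_sub_add_comm]
        exact add_mem hui hvi
      | smul c u _ hu =>
        obtain ⟨hu, i, hi, hui⟩ := hu
        obtain ⟨a, ha⟩ := hAC (algebraMap B C c)
        have hca : c - ι a ∈ J := by
          rw [RingHom.mem_ker, map_sub, ← IsScalarTower.algebraMap_apply A B C, ha, sub_self]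
        refine ⟨J.mul_mem_left _ hu, a * i, I.mul_mem_left _ hi, ?_⟩
        have h2 : (c - ι a) * ι i ∈ J ^ 2 := pow_two J ▸ Ideal.mul_mem_mul hca (h hi)
        have h3 := add_mem ((J ^ 2).mul_mem_left c hui) h2
        rw [smul_eq_mul, map_mul]
        convert h3 using 1
        ring
    obtain ⟨-, i, hi, hri⟩ := key
    refine ⟨I.toCotangent ⟨i, hi⟩, ?_⟩
    refine (show Ideal.mapCotangent I J (Algebra.ofId A B) h (I.toCotangent ⟨i, hi⟩) =
      J.toCotangent ⟨ι i, h hi⟩ from rfl).trans ?_
    rw [Ideal.toCotangent_eq, ← hqr]
    show ι i - (q + r) ∈ J ^ 2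
    have := neg_mem (add_mem hq hri)
    convert this using 1
    ring
  · rintro ⟨z, hz⟩
    obtain ⟨i, rfl⟩ := Ideal.toCotangent_surjective _ z
    rw [← KaehlerDifferential.kerCotangentToTensor_toCotangent, ← hz]
    refine (KaehlerDifferential.kerCotangentToTensor_toCotangent A B C ⟨ι i, h i.2⟩).trans ?_
    rw [Derivation.map_algebraMap, TensorProduct.tmul_zero]

end Groth.Agent.S9178
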