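import Groth.Statements.S9179
import Mathlib
-- import your own Groth.Agent.* helpers here

set_option autoImplicit false
universe u
open CategoryTheory CategoryTheory.Limits
open CAlg

namespace Groth.Agent.S9179

/-- An R-algebra of finite type is the colimit of a filtered system of finitely presented R-algebras
whose transition maps are all surjective. -/
theorem result (R A : Type u) [CommRing R] [CommRing A]
    [Algebra R A] [Algebra.FiniteType R A] :
    ∃ (I : Type u) (_ : SmallCategory I) (_ : IsFiltered I) (D : I ⥤ Under (CommRingCat.of R))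
      (c : Cocone D) (_ : IsColimit c),
      (∀ i, (D.obj i).hom.hom.FinitePresentation) ∧
      (∀ (i j : I) (φ : i ⟶ j), Function.Surjective (D.map φ).right.hom) ∧
      Nonempty (c.pt ≅ Under.mk (CommRingCat.ofHom (algebraMap R A))) := by
  classical
  obtain ⟨n, f, hf⟩ := Algebra.FiniteType.iff_quotient_mvPolynomial''.1 (inferInstance : Algebra.FiniteType R A)
  let J : Type u := Finset (RingHom.ker f.toRingHom)
  let I : J → Ideal (MvPolynomial (Fin n) R) := fun s =>
    Ideal.span (Subtype.val '' (s : Set (RingHom.ker f.toRingHom)))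
  have hmono : ∀ {s t : J}, s ≤ t → I s ≤ I t := fun h =>
    Ideal.span_mono (Set.image_mono (fun _ hx => h hx))
  have hle : ∀ s : J, ∀ x ∈ I s, f x = 0 := fun s x hx => by
    have : I s ≤ RingHom.ker f.toRingHom := Ideal.span_le.2 (by rintro _ ⟨y, -, rfl⟩; exact y.2)
    exact this hx
  let F : J ⥤ Under (CommRingCat.of R) :=
    { obj := fun s => Under.mk (CommRingCat.ofHom (algebraMap R (MvPolynomial (Fin n) R ⧸ I s)))
      map := fun {s t} h => Under.homMk
        (CommRingCat.ofHom (Ideal.Quotient.factor (hmono (leOfHom h))))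
        (CommRingCat.hom_ext (RingHom.ext fun r => rfl))
      map_id := fun s => Under.UnderMorphism.ext (CommRingCat.hom_ext (RingHom.ext fun x => by
        obtain ⟨x, rfl⟩ := Ideal.Quotient.mk_surjective x
        rfl))
      map_comp := fun {s t v} g h => Under.UnderMorphism.ext (CommRingCat.hom_ext (RingHom.ext fun x => by
        obtain ⟨x, rfl⟩ := Ideal.Quotient.mk_surjective x
        rfl)) }
  let c : Cocone F :=
    { pt := Under.mk (CommRingCat.ofHom (algebraMap R A))
      ι :=
        { app := fun s => Under.homMk
            (CommRingCat.ofHom (Ideal.Quotient.liftₐ (I s) f (hle s)).toRingHom)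
            (CommRingCat.hom_ext (Ideal.Quotient.liftₐ (I s) f (hle s)).comp_algebraMap)
          naturality := fun s t h => Under.UnderMorphism.ext (CommRingCat.hom_ext (RingHom.ext fun x => by
            obtain ⟨x, rfl⟩ := Ideal.Quotient.mk_surjective x
            rfl)) } }
  have hT : IsColimit
      ((Under.forget (CommRingCat.of R) ⋙ CategoryTheory.forget CommRingCat.{u}).mapCocone c) := by
    refine Types.FilteredColimit.isColimitOf _ _ (fun b => ?_) (fun s t xs xt hst => ?_)
    · obtain ⟨p, rfl⟩ := hf b
      exact ⟨∅, Ideal.Quotient.mk _ p, rfl⟩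
    · obtain ⟨xs, rfl⟩ := Ideal.Quotient.mk_surjective xs
      obtain ⟨xt, rfl⟩ := Ideal.Quotient.mk_surjective xt
      have hst' : f xs = f xt := hst
      have hk : xs - xt ∈ RingHom.ker f.toRingHom := by
        show f (xs - xt) = 0
        rw [map_sub, hst', sub_self]
      let v : J := insert ⟨xs - xt, hk⟩ (s ∪ t)
      refine ⟨v, homOfLE (Finset.subset_union_left.trans (Finset.subset_insert _ _)),
        homOfLE (Finset.subset_union_right.trans (Finset.subset_insert _ _)), ?_⟩
      show Ideal.Quotient.mk (I v) xs = Ideal.Quotient.mk (I v) xt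
      rw [Ideal.Quotient.eq]
      exact Ideal.subset_span ⟨⟨xs - xt, hk⟩, Finset.mem_insert_self _ _, rfl⟩
  haveI : IsConnected J := IsFiltered.isConnected J
  haveI : ReflectsColimitsOfShape J (CategoryTheory.forget CommRingCat.{u}) :=
    reflectsColimitsOfShape_of_reflectsIsomorphisms
  refine ⟨J, inferInstance, inferInstance, F, c,
    isColimitOfReflects (Under.forget (CommRingCat.of R) ⋙ CategoryTheory.forget CommRingCat.{u}) hT,
    fun s => ?_, fun s t h => Ideal.Quotient.factor_surjective (hmono (leOfHom h)), ⟨Iso.refl _⟩⟩
  show (algebraMap R (MvPolynomial (Fin n) R ⧸ I s)).FinitePresentation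
  rw [RingHom.finitePresentation_algebraMap]
  exact Algebra.FinitePresentation.quotient (Submodule.fg_span (Set.toFinite _))

end Groth.Agent.S9179
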