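import Groth.Statements.S9180
import Groth.Agent.S2141
import Groth.Agent.Ega4Algebra2.SkBaseChange
import Groth.Agent.FibreDim.BaseChange
import Groth.Agent.FibreDim.Composition
import Mathlib

set_option autoImplicit false
universe u
open CAlg

namespace Groth.Agent.S9180


open scoped TensorProduct

/-- The dimension of a Noetherian local ring of a prime is a natural number. -/
theorem exists_nat_dim {R : Type u} [CommRing R] [IsNoetherianRing R] (p : Ideal R) [p.IsPrime] :
    ∃ a : ℕ, ringKrullDim (Localization.AtPrime p) = (a : WithBot ℕ∞) := by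
  obtain ⟨a, ha⟩ := ENat.ne_top_iff_exists.1
    (Ideal.height_ne_top (Ideal.IsPrime.ne_top (inferInstance : p.IsPrime)))
  exact ⟨a, by rw [IsLocalization.AtPrime.ringKrullDim_eq_height p, ← ha]; rfl⟩

/-- The fibre local ring at a minimal prime over `q` has dimension zero. -/
theorem fibLocRing_dim_zero {A B : Type u} [CommRing A] [CommRing B] [Algebra A B] (q : Ideal A) [q.IsPrime]
    (q' : Ideal B) [q'.IsPrime] (hmin : q' ∈ (q.map (algebraMap A B)).minimalPrimes)
    (hover : q'.comap (algebraMap A B) = q) :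
    ringKrullDim (EGA4.FibLocRing A B q') = 0 := by
  subst hover
  set J := ((q'.comap (algebraMap A B)).map (algebraMap A (Localization.AtPrime q'))) with hJ
  have hJne : J ≠ ⊤ := fun h => (IsLocalRing.maximalIdeal.isMaximal (Localization.AtPrime q')).ne_top
    (top_le_iff.1 (h ▸ Ideal.map_le_iff_le_comap.2 fun x hx => by
      rw [Ideal.mem_comap, IsScalarTower.algebraMap_apply A B (Localization.AtPrime q')]
      exact (IsLocalization.AtPrime.to_map_mem_maximal_iff (Localization.AtPrime q') q' _).2 hx))
  have : Nontrivial (EGA4.FibLocRing A B q') := Ideal.Quotient.nontrivial_iff.2 hJne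
  have h0 : Ring.KrullDimLE 0 (EGA4.FibLocRing A B q') := by
    refine Ring.krullDimLE_zero_iff.2 fun P _ => ?_
    let P₁ := P.comap (Ideal.Quotient.mk J)
    have hP₁q : P₁.comap (algebraMap B (Localization.AtPrime q')) ≤ q' := fun x hx => by
      by_contra hxq
      exact Ideal.IsPrime.ne_top (inferInstance : P₁.IsPrime)
        (Ideal.eq_top_of_isUnit_mem _ hx (IsLocalization.map_units _ (⟨x, hxq⟩ : q'.primeCompl)))
    have he : q' ≤ P₁.comap (algebraMap B (Localization.AtPrime q')) := by
      refine hmin.2 ⟨inferInstance, Ideal.map_le_iff_le_comap.2 fun x hx => ?_⟩ hP₁q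
      rw [Ideal.mem_comap, Ideal.mem_comap, ← IsScalarTower.algebraMap_apply]
      show Ideal.Quotient.mk J _ ∈ P
      rw [Ideal.Quotient.eq_zero_iff_mem.2 (Ideal.mem_map_of_mem _ hx)]
      exact P.zero_mem
    have h1 : IsLocalRing.maximalIdeal (Localization.AtPrime q') ≤ P₁ := by
      rw [← Localization.AtPrime.map_eq_maximalIdeal, Ideal.map_le_iff_le_comap]
      exact he
    have h2 : P₁.IsMaximal :=
      ((IsLocalRing.maximalIdeal.isMaximal _).eq_of_le (Ideal.IsPrime.ne_top inferInstance) h1) ▸
        IsLocalRing.maximalIdeal.isMaximal _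
    have h3 := Ideal.map_comap_of_surjective (Ideal.Quotient.mk J) Ideal.Quotient.mk_surjective P
    exact h3 ▸ ((Ideal.map_eq_top_or_isMaximal_of_surjective _ Ideal.Quotient.mk_surjective h2).resolve_left
      (by rw [h3]; exact Ideal.IsPrime.ne_top ‹_›))
  exact ringKrullDimZero_iff_ringKrullDim_eq_zero.1 h0

open TensorProduct in
/-- Let S be of finite type over a field k, K an extension field of k, S_K = S ⊗_k K, q a prime of S
whose residue field has transcendence degree r over k, and q_K a prime of S_K lying over q whose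
residue field has transcendence degree r_K over K. Then the local ring at q_K of the fibre of S →
S_K over q has dimension dim (S_K)_{q_K} − dim S_q = r − r_K (stated additively), and there is a
prime of S_K over q for which this dimension is zero. -/
theorem result (k S K : Type u) [Field k] [CommRing S] [Algebra k S]
    [Algebra.FiniteType k S] [Field K] [Algebra k K] (q : Ideal S) [q.IsPrime] (r : ℕ)
    (hr : Algebra.trdeg k q.ResidueField = r) (qK : Ideal (S ⊗[k] K)) [qK.IsPrime] [qK.LiesOver q]
    (rK : ℕ)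
    (hrK : letI : Algebra K (S ⊗[k] K) := Algebra.TensorProduct.rightAlgebra
      Algebra.trdeg K qK.ResidueField = rK) :
    ringKrullDim (EGA4.FibLocRing S (S ⊗[k] K) qK) + ringKrullDim (Localization.AtPrime q) =
        ringKrullDim (Localization.AtPrime qK) ∧
      ringKrullDim (EGA4.FibLocRing S (S ⊗[k] K) qK) + (rK : WithBot ℕ∞) = (r : WithBot ℕ∞) ∧
      ∃ (q' : Ideal (S ⊗[k] K)) (_ : q'.IsPrime), q'.LiesOver q ∧
        ringKrullDim (EGA4.FibLocRing S (S ⊗[k] K) q') = 0 := by
  let _ : Algebra K (S ⊗[k] K) := Algebra.TensorProduct.rightAlgebra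
  have : IsNoetherianRing S := Algebra.FiniteType.isNoetherianRing k S
  let e : K ⊗[k] S ≃ₐ[K] S ⊗[k] K :=
    { (Algebra.TensorProduct.comm k K S).toRingEquiv with
      commutes' := fun c => by
        change Algebra.TensorProduct.comm k K S (c ⊗ₜ 1) = _
        rw [Algebra.TensorProduct.comm_tmul]
        rfl }
  have : Algebra.FiniteType K (S ⊗[k] K) := Algebra.FiniteType.equiv (inferInstance) e
  have : IsNoetherianRing (S ⊗[k] K) := Algebra.FiniteType.isNoetherianRing K _
  have hq : qK.comap (algebraMap S (S ⊗[k] K)) = q := (Ideal.LiesOver.over (P := qK) (p := q)).symm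
  subst hq
  set q := qK.comap (algebraMap S (S ⊗[k] K)) with hqdef
  obtain ⟨-, hdim⟩ := Groth.Ega4b.local_data S (S ⊗[k] K) qK
  -- local dimensions
  let φ := PrimeSpectrum.homeomorphOfRingEquiv e.toRingEquiv
  let qK' : PrimeSpectrum (K ⊗[k] S) := φ.symm ⟨qK, inferInstance⟩
  have hloc : FlatMor.localDim (PrimeSpectrum (S ⊗[k] K)) ⟨qK, inferInstance⟩ =
      FlatMor.localDim (PrimeSpectrum S) ⟨q, inferInstance⟩ := by
    refine (Groth.FibreDim.localDim_eq_of_homeomorph φ.symm ⟨qK, inferInstance⟩).trans ?_
    refine (Groth.FibreDim.localDim_tensor_eq (k := k) K qK').trans (congrArg _ (PrimeSpectrum.ext ?_))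
    ext x
    change e.toRingEquiv ((1 : K) ⊗ₜ[k] x) ∈ qK ↔ x ∈ q
    exact Iff.rfl
  rw [Groth.Agent.S2141.result (k := K) qK rK hrK, Groth.Agent.S2141.result (k := k) q r hr] at hloc
  refine ⟨by rw [hdim, add_comm], ?_, ?_⟩
  · obtain ⟨a, ha⟩ := exists_nat_dim q
    rw [hdim, ha, add_assoc, add_comm (a : WithBot ℕ∞) _, add_comm (a : WithBot ℕ∞) _] at hloc
    exact ENat.WithBot.add_natCast_cancel.1 hloc
  · obtain ⟨q', hq', hle⟩ := Ideal.exists_minimalPrimes_le (I := q.map (algebraMap S (S ⊗[k] K)))
      (J := qK) Ideal.map_comap_le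
    have := hq'.1.1
    have hover : q'.comap (algebraMap S (S ⊗[k] K)) = q :=
      le_antisymm (Ideal.comap_mono hle) (Ideal.map_le_iff_le_comap.1 hq'.1.2)
    exact ⟨q', inferInstance, ⟨hover.symm⟩, fibLocRing_dim_zero q q' hq' hover⟩

end Groth.Agent.S9180
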