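import Groth.Statements.S9181
import Groth.Agent.Calg4.QuasiFinitePrescribed

set_option autoImplicit false
universe u
open CAlg

namespace Groth.Agent.S9181

/-- Let R → S be of finite type, q a prime of S over p, Q the prime of κ(p) ⊗ S over q, with the fibre
of local dimension n at Q and κ(q) of transcendence degree r over κ(p). Then for some f ∉ p and g ∉
q there is an R-algebra map φ : R_f[x_1, …, x_n] → S_g, of finite type and quasi-finite, such that
the inverse image of q S_g under φ is the ideal generated by p and the variables x_{r+1}, …, x_n. -/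
theorem result (R S : Type u) [CommRing R] [CommRing S]
    [Algebra R S] [Algebra.FiniteType R S] (p : Ideal R) [p.IsPrime] (q : Ideal S) [q.IsPrime] [q.LiesOver p]
    [Algebra (Localization.AtPrime p) (Localization.AtPrime q)]
    [Localization.AtPrime.IsLiesOverAlgebra p q] (Q : PrimeSpectrum (p.Fiber S))
    (hQ : Q.asIdeal.comap (Algebra.TensorProduct.includeRight.toRingHom) = q) (n r : ℕ)
    (hdim : FlatMor.localDim (PrimeSpectrum (p.Fiber S)) Q = (n : WithBot ℕ∞))
    (hr : Algebra.trdeg p.ResidueField q.ResidueField = r) :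
    ∃ (f : R) (g : S), f ∉ p ∧ g ∉ q ∧
      ∃ φ : MvPolynomial (Fin n) (Localization.Away f) →ₐ[R] Localization.Away g,
        φ.toRingHom.FiniteType ∧ φ.toRingHom.QuasiFinite ∧
        (q.map (algebraMap S (Localization.Away g))).comap φ =
          p.map (algebraMap R (MvPolynomial (Fin n) (Localization.Away f))) ⊔
            Ideal.span (Set.range fun i : {i : Fin n // r ≤ (i : ℕ)} =>
              (MvPolynomial.X (i : Fin n) : MvPolynomial (Fin n) (Localization.Away f))) := by
  obtain ⟨x, hx, hqf⟩ := Groth.Calg4.QFPrescribed.exists_coordinates p q Q hQ n r hdim hr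
  let T := MvPolynomial (Fin n) R
  let _ : Algebra T S := (MvPolynomial.aeval (R := R) x).toRingHom.toAlgebra
  have : IsScalarTower R T S := IsScalarTower.of_algebraMap_eq fun a => ((MvPolynomial.aeval x).commutes a).symm
  have : Algebra.FiniteType T S := .of_restrictScalars_finiteType R _ _
  obtain ⟨_, ⟨g, rfl⟩, hg, hgsub⟩ := PrimeSpectrum.isTopologicalBasis_basic_opens.exists_subset_of_mem_open
    (show (⟨q, inferInstance⟩ : PrimeSpectrum S) ∈ {P : PrimeSpectrum S | Algebra.QuasiFiniteAt T P.asIdeal} from hqf)
    (Groth.FibreDim.isOpen_setOf_quasiFiniteAt T S)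
  replace hg : g ∉ q := hg
  let L := Localization.Away g
  let φ₀ : T →ₐ[R] L := (IsScalarTower.toAlgHom R S L).comp (MvPolynomial.aeval x)
  have : IsScalarTower R T L := IsScalarTower.to₁₂₄ R T S L
  have hft : Algebra.FiniteType T L := Algebra.FiniteType.of_restrictScalars_finiteType R _ _
  let ψ : S →ₐ[T] L := IsScalarTower.toAlgHom T S L
  have hqfL : Algebra.QuasiFinite T L := Groth.Calg4.quasiFinite_of_forall_quasiFiniteAt L fun P => by
    have : Algebra.QuasiFiniteAt T (P.asIdeal.comap (algebraMap S L)) :=
      hgsub ((PrimeSpectrum.localization_away_comap_range L g).le ⟨P, rfl⟩)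
    exact Algebra.QuasiFiniteAt.of_surjectiveOnStalks (P.asIdeal.comap (algebraMap S L)) ψ
      (RingHom.surjectiveOnStalks_of_isLocalization (M := Submonoid.powers g) (S := L)) _ rfl
  have halg : φ₀.toRingHom = algebraMap T L := rfl
  have hφft : φ₀.toRingHom.FiniteType := halg ▸ RingHom.finiteType_algebraMap.2 hft
  have hφqf : φ₀.toRingHom.QuasiFinite := halg ▸ RingHom.quasiFinite_algebraMap.2 hqfL
  let e : T ≃ₐ[R] MvPolynomial (Fin n) (Localization.Away (1 : R)) :=
    MvPolynomial.mapAlgEquiv (Fin n) (IsLocalization.atOne R (Localization.Away (1 : R)))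
  refine ⟨1, g, fun h1 => (inferInstance : p.IsPrime).ne_top ((Ideal.eq_top_iff_one p).2 h1), hg,
    φ₀.comp e.symm.toAlgHom, ?_, ?_, ?_⟩
  · exact RingHom.FiniteType.comp (f := e.symm.toRingEquiv.toRingHom) (g := φ₀.toRingHom) hφft (RingHom.FiniteType.of_surjective e.symm.toRingEquiv.toRingHom e.symm.surjective)
  · exact RingHom.QuasiFinite.stableUnderComposition e.symm.toRingEquiv.toRingHom φ₀.toRingHom
      (RingHom.QuasiFinite.of_finite (RingHom.Finite.of_surjective e.symm.toRingEquiv.toRingHom e.symm.surjective)) hφqf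
  · have h0 : (q.map (algebraMap S L)).comap (algebraMap S L) = q :=
      IsLocalization.under_map_of_isPrime_disjoint (Submonoid.powers g) L inferInstance
        (Set.disjoint_left.2 fun a ha hb => by
          obtain ⟨k, rfl⟩ := ha
          exact hg ((inferInstance : q.IsPrime).mem_of_pow_mem k hb))
    change ((q.map (algebraMap S L)).comap (φ₀.toRingHom.comp e.symm.toAlgHom.toRingHom)) = _
    rw [← Ideal.comap_comap]
    change ((q.map (algebraMap S L)).comap ((algebraMap S L).comp (MvPolynomial.aeval (R := R) x).toRingHom)).comap _ = _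
    rw [← Ideal.comap_comap, h0, hx]
    change Ideal.comap e.toRingEquiv.symm _ = _
    rw [Ideal.comap_symm]
    change Ideal.map e.toRingEquiv.toRingHom _ = _
    rw [Ideal.map_sup, Ideal.map_map, Ideal.map_span, ← Set.range_comp]
    congr 1
    · congr 1
      exact RingHom.ext fun a => e.commutes a
    · congr 1
      refine congrArg Set.range (funext fun i => ?_)
      change MvPolynomial.map _ (MvPolynomial.X (i : Fin n)) = _
      exact MvPolynomial.map_X _ _

end Groth.Agent.S9181
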