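import Groth.Statements.S9182
import Mathlib

set_option autoImplicit false
universe u
open CAlg

namespace Groth.Agent.S9182

open TensorProduct Algebra

set_option linter.style.haveILetI false

theorem cone_split {T C D C' D' : Type u} [CommRing T] [AddCommGroup C] [Module T C] [AddCommGroup D] [Module T D]
    [AddCommGroup C'] [Module T C'] [AddCommGroup D'] [Module T D'] [Module.Projective T D']
    (d : C →ₗ[T] D) (d' : C' →ₗ[T] D') (φ : C →ₗ[T] C') (ψ : D →ₗ[T] D')
    (hcomm : ∀ c, ψ (d c) = d' (φ c))
    (hinj : ∀ c, d c = 0 → φ c = 0 → c = 0) (hmid : ∀ x y, ψ x = d' y → ∃ c, d c = x ∧ φ c = y)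
    (hsurj : ∀ z, ∃ x y, z = ψ x + d' y) : Nonempty ((C × D') ≃ₗ[T] (C' × D)) := by
  let j : C' × D →ₗ[T] D' := LinearMap.coprod (-d') ψ
  have hj : Function.Surjective j := fun z => by
    obtain ⟨x, y, rfl⟩ := hsurj z
    exact ⟨(-y, x), by simp [j, add_comm]⟩
  obtain ⟨s, hs⟩ := Module.projective_lifting_property j LinearMap.id hj
  have hs' : ∀ z, j (s z) = z := fun z => LinearMap.congr_fun hs z
  let i : C →ₗ[T] C' × D := LinearMap.prod φ d
  have hji : ∀ c, j (i c) = 0 := fun c => by simp [i, j, hcomm]
  refine ⟨LinearEquiv.ofBijective (LinearMap.coprod i s) ⟨?_, fun w => ?_⟩⟩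
  · rw [injective_iff_map_eq_zero]
    rintro ⟨c, z⟩ h
    have hz : z = 0 := by
      have h' := congrArg j h
      simpa [hji, hs'] using h'
    subst hz
    have h' : φ c = 0 ∧ d c = 0 := by simpa [i, Prod.ext_iff] using h
    exact Prod.ext (hinj c h'.2 h'.1) rfl
  · have h0 : j (w - s (j w)) = 0 := by rw [map_sub, hs', sub_self]
    obtain ⟨c, hc1, hc2⟩ := hmid (w - s (j w)).2 (w - s (j w)).1
      (neg_add_eq_zero.1 h0).symm
    refine ⟨(c, j w), ?_⟩
    have : i c = w - s (j w) := Prod.ext hc2 hc1
    simp [this]

variable {R S T : Type u} [CommRing R] [CommRing S] [CommRing T] [Algebra R S] [Algebra R T] [Algebra S T]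
  [IsScalarTower R S T] {ι κ : Type}

theorem main (g : S) [IsLocalization.Away g T] (P : Generators R S ι) (B : Generators R T κ) :
    Nonempty (((T ⊗[S] P.toExtension.Cotangent) × B.toExtension.CotangentSpace) ≃ₗ[T]
      (B.toExtension.Cotangent × (T ⊗[S] P.toExtension.CotangentSpace))) := by
  let Q := Generators.localizationAway (R := S) T g
  let A := Q.comp P
  let f : A.toExtension.Hom B.toExtension := (A.defaultHom B).toExtensionHom
  let k : B.toExtension.Hom A.toExtension := (B.defaultHom A).toExtensionHom
  let h := (Extension.Hom.id A.toExtension).sub (k.comp f)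
  let h' := (Extension.Hom.id B.toExtension).sub (f.comp k)
  have e1 : ∀ a, h (A.toExtension.cotangentComplex a) =
      a - Extension.Cotangent.map k (Extension.Cotangent.map f a) := fun a => by
    have := LinearMap.congr_fun (Extension.Cotangent.map_sub_map (Extension.Hom.id A.toExtension) (k.comp f)) a
    rw [Extension.Cotangent.map_id, Extension.Cotangent.map_comp] at this
    exact this.symm
  have e2 : ∀ x, A.toExtension.cotangentComplex (h x) =
      x - Extension.CotangentSpace.map k (Extension.CotangentSpace.map f x) := fun a => by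
    have := LinearMap.congr_fun (Extension.CotangentSpace.map_sub_map (Extension.Hom.id A.toExtension) (k.comp f)) a
    rw [Extension.CotangentSpace.map_id, Extension.CotangentSpace.map_comp] at this
    exact this.symm
  have e1' : ∀ a, h' (B.toExtension.cotangentComplex a) =
      a - Extension.Cotangent.map f (Extension.Cotangent.map k a) := fun a => by
    have := LinearMap.congr_fun (Extension.Cotangent.map_sub_map (Extension.Hom.id B.toExtension) (f.comp k)) a
    rw [Extension.Cotangent.map_id, Extension.Cotangent.map_comp] at this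
    exact this.symm
  have e2' : ∀ x, B.toExtension.cotangentComplex (h' x) =
      x - Extension.CotangentSpace.map f (Extension.CotangentSpace.map k x) := fun a => by
    have := LinearMap.congr_fun (Extension.CotangentSpace.map_sub_map (Extension.Hom.id B.toExtension) (f.comp k)) a
    rw [Extension.CotangentSpace.map_id, Extension.CotangentSpace.map_comp] at this
    exact this.symm
  have c1 := Extension.CotangentSpace.map_cotangentComplex f
  have c2 := Extension.CotangentSpace.map_cotangentComplex k
  let iC := (Extension.Cotangent.map (Q.toComp P).toExtensionHom).liftBaseChange T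
  let iD := (Extension.CotangentSpace.map (Q.toComp P).toExtensionHom).liftBaseChange T
  let pC := Extension.Cotangent.map (Q.ofComp P).toExtensionHom
  let pD := Extension.CotangentSpace.map (Q.ofComp P).toExtensionHom
  let d := P.toExtension.cotangentComplex.baseChange T
  have hcomm : ∀ c, A.toExtension.cotangentComplex (iC c) = iD (d c) := fun c => by
    induction c using TensorProduct.induction_on with
    | zero => simp
    | add x y hx hy => simp only [map_add, hx, hy]
    | tmul t x =>
      simp only [iC, iD, d, LinearMap.baseChange_tmul, LinearMap.liftBaseChange_tmul, map_smul]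
      exact congrArg (t • ·) (Extension.CotangentSpace.map_cotangentComplex _ x).symm
  have hiC : Function.Injective iC := Generators.liftBaseChange_injective_of_isLocalizationAway g P
  have hiD : Function.Injective iD := Generators.CotangentSpace.map_toComp_injective Q P
  have hCex : Function.Exact iC pC := Generators.Cotangent.exact Q P
  have hDex : Function.Exact iD pD := Generators.CotangentSpace.exact Q P
  haveI : Algebra.FormallyEtale S T := Algebra.FormallyEtale.of_isLocalization (Submonoid.powers g)
  have hQinj : Function.Injective Q.toExtension.cotangentComplex :=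
    (Extension.subsingleton_h1Cotangent Q.toExtension).mp Q.equivH1Cotangent.subsingleton
  have hQsurj : Function.Surjective Q.toExtension.cotangentComplex := fun y =>
    (Q.toExtension.exact_cotangentComplex_toKaehler y).1 (Subsingleton.elim _ _)
  have hp : ∀ a, pD (A.toExtension.cotangentComplex a) = Q.toExtension.cotangentComplex (pC a) :=
    fun a => Extension.CotangentSpace.map_cotangentComplex _ a
  have hker : ∀ a x, A.toExtension.cotangentComplex a = iD x → ∃ c, d c = x ∧ iC c = a := by
    intro a x ha
    obtain ⟨c, rfl⟩ := (hCex a).1 (hQinj (by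
      rw [← hp, ha, map_zero]
      exact hDex.apply_apply_eq_zero x))
    exact ⟨c, hiD ((hcomm c).symm.trans ha), rfl⟩
  haveI : Module.Projective T B.toExtension.CotangentSpace :=
    Module.Projective.of_basis B.cotangentSpaceBasis
  refine cone_split d B.toExtension.cotangentComplex ((Extension.Cotangent.map f).comp iC)
    ((Extension.CotangentSpace.map f).comp iD) (fun c => ?_) (fun c hc1 hc2 => hiC ?_) (fun x y hxy => ?_) fun z => ?_
  · show Extension.CotangentSpace.map f (iD (d c)) = _
    rw [← hcomm, c1]
    rfl
  · rw [map_zero]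
    have h3 := e1 (iC c)
    rw [show Extension.Cotangent.map f (iC c) = 0 from hc2, map_zero, sub_zero, hcomm, hc1, map_zero, map_zero] at h3
    exact h3.symm
  · replace hxy : Extension.CotangentSpace.map f (iD x) = B.toExtension.cotangentComplex y := hxy
    have h0 : A.toExtension.cotangentComplex (Extension.Cotangent.map k y + h (iD x)) = iD x := by
      rw [map_add, e2, ← c2, hxy]
      abel
    obtain ⟨c, hc, hca⟩ := hker _ _ h0
    set δ := y - Extension.Cotangent.map f (iC c) with hδ
    have hδ0 : B.toExtension.cotangentComplex δ = 0 := by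
      rw [hδ, map_sub, ← c1, hcomm, hc, hxy, sub_self]
    have hδf : Extension.Cotangent.map f (Extension.Cotangent.map k δ) = δ := by
      have h4 := e1' δ
      rw [hδ0, map_zero] at h4
      exact (sub_eq_zero.1 h4.symm).symm
    obtain ⟨c', hc', hca'⟩ := hker (Extension.Cotangent.map k δ) 0 (by rw [← c2, hδ0, map_zero, map_zero])
    refine ⟨c + c', by rw [map_add, hc, hc', add_zero], ?_⟩
    show Extension.Cotangent.map f (iC (c + c')) = y
    rw [map_add iC, map_add (Extension.Cotangent.map f), hca', hδf, hδ]
    abel
  · obtain ⟨q, hq⟩ := hQsurj (pD (Extension.CotangentSpace.map k z))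
    obtain ⟨a, rfl⟩ := Generators.Cotangent.surjective_map_ofComp Q P q
    obtain ⟨x, hx⟩ := (hDex (Extension.CotangentSpace.map k z - A.toExtension.cotangentComplex a)).1
      (by rw [map_sub, hp, hq, sub_self])
    refine ⟨x, Extension.Cotangent.map f a + h' z, ?_⟩
    show z = Extension.CotangentSpace.map f (iD x) + _
    rw [hx, map_add, e2', map_sub, c1]
    abel

theorem ext_cotangent {n : ℕ} (α : MvPolynomial (Fin n) R →ₐ[R] S) (hα : Function.Surjective α) :
    ∃ P : Generators R S (Fin n), Nonempty (P.toExtension.Cotangent ≃ₗ[S] (Extension.ofSurjective α hα).Cotangent) := by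
  have hval : MvPolynomial.aeval (fun i => α (MvPolynomial.X i)) = α := MvPolynomial.algHom_ext fun i => by simp
  let P : Generators R S (Fin n) := Generators.ofSurjective (fun i => α (MvPolynomial.X i)) (by rw [hval]; exact hα)
  let E := Extension.ofSurjective α hα
  let f : P.toExtension.Hom E := ⟨RingHom.id _, fun _ => rfl, fun x => (AlgHom.congr_fun hval x).symm⟩
  let k : E.Hom P.toExtension := ⟨RingHom.id _, fun _ => rfl, fun x => AlgHom.congr_fun hval x⟩
  refine ⟨P, ⟨LinearEquiv.ofBijective (Extension.Cotangent.map f)
    (Function.bijective_iff_has_inverse.2 ⟨Extension.Cotangent.map k, fun x => ?_, fun x => ?_⟩)⟩⟩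
  · obtain ⟨x, rfl⟩ := Extension.Cotangent.mk_surjective x
    rfl
  · obtain ⟨x, rfl⟩ := Extension.Cotangent.mk_surjective x
    rfl


/-- For presentations α : R[x_1, …, x_n] → S and β : R[y_1, …, y_m] → S_g (g ∈ S) with kernels I and J,
the S_g-modules (I/I²)_g ⊕ S_g^m and J/J² ⊕ S_g^n are isomorphic. -/
theorem result (R S : Type u) [CommRing R] [CommRing S] [Algebra R S]
    (g : S) (n m : ℕ) (α : MvPolynomial (Fin n) R →ₐ[R] S) (hα : Function.Surjective α)
    (β : MvPolynomial (Fin m) R →ₐ[R] Localization.Away g) (hβ : Function.Surjective β) :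
    Nonempty ((LocalizedModule (Submonoid.powers g) (Algebra.Extension.ofSurjective α hα).Cotangent ×
        (Fin m → Localization.Away g)) ≃ₗ[Localization.Away g]
      ((Algebra.Extension.ofSurjective β hβ).Cotangent × (Fin n → Localization.Away g))) := by
  obtain ⟨P, ⟨eP⟩⟩ := ext_cotangent α hα
  obtain ⟨B, ⟨eB⟩⟩ := ext_cotangent β hβ
  obtain ⟨e⟩ := main g P B
  let T := Localization.Away g
  let eL : T ⊗[S] (Algebra.Extension.ofSurjective α hα).Cotangent ≃ₗ[T]
      LocalizedModule (Submonoid.powers g) (Algebra.Extension.ofSurjective α hα).Cotangent :=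
    (IsLocalizedModule.isBaseChange (Submonoid.powers g) T
      (LocalizedModule.mkLinearMap (Submonoid.powers g) (Algebra.Extension.ofSurjective α hα).Cotangent)).equiv
  exact ⟨((((eP.baseChange S T).trans eL).prodCongr B.cotangentSpaceBasis.equivFun).symm.trans e).trans
    (eB.prodCongr ((P.cotangentSpaceBasis.baseChange T).equivFun))⟩

end Groth.Agent.S9182
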