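import Groth.Statements.S9184
import Groth.Agent.FibreRegular.ComplexExact

set_option autoImplicit false
universe u
open CAlg

namespace Groth.Agent.S9184

/-- Let R be Noetherian, R → S flat of finite type whose fibre rings are Cohen–Macaulay and
equidimensional of dimension d, and let 0 → S^{n_e} → ⋯ → S^{n_1} → S^{n_0} be a complex of finite
free S-modules, the map S^{n_{i+1}} → S^{n_i} being given by the matrix φ_i. Then the set of primes
q of S such that the complex is exact (exact at each S^{n_i} with 0 < i < e and injective at
S^{n_e}) after base change to the fibre local ring S_q/pS_q, p = q ∩ R, is open in Spec S. (The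
published statement asks only that the fibres be Cohen–Macaulay of dimension d; this row assumes
them equidimensional of dimension d, the hypothesis the printed argument uses.) -/
theorem result (R S : Type u) [CommRing R] [IsNoetherianRing R] [CommRing S]
    [Algebra R S] [Algebra.FiniteType R S] [Module.Flat R S] (d : ℕ)
    (hCM : ∀ p : PrimeSpectrum R, LocCoh.IsCohenMacaulayRing (p.asIdeal.Fiber S))
    (heq : ∀ p : PrimeSpectrum R, ∀ P ∈ minimalPrimes (p.asIdeal.Fiber S),
      ringKrullDim (p.asIdeal.Fiber S ⧸ P) = (d : WithBot ℕ∞))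
    (e : ℕ) (n : ℕ → ℕ) (φ : (i : ℕ) → Matrix (Fin (n i)) (Fin (n (i + 1))) S)
    (hφ : ∀ i, i + 2 ≤ e → φ i * φ (i + 1) = 0) :
    IsOpen {q : PrimeSpectrum S |
      (∀ i, i + 2 ≤ e →
        LinearMap.ker (Matrix.mulVecLin ((φ i).map (algebraMap S (EGA4.FibLocRing R S q.asIdeal)))) =
          LinearMap.range (Matrix.mulVecLin ((φ (i + 1)).map (algebraMap S (EGA4.FibLocRing R S q.asIdeal))))) ∧
      (1 ≤ e → Function.Injective
        (Matrix.mulVecLin ((φ (e - 1)).map (algebraMap S (EGA4.FibLocRing R S q.asIdeal)))))} := by
  exact Groth.FibreExact.isOpen_setOf_complex_exact_fibre e n φ hφ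

end Groth.Agent.S9184
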