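import Groth.Statements.S9185
import Groth.Agent.DiffOps.Basic
-- import your own Groth.Agent.* helpers here

set_option autoImplicit false
universe u
open Diff16

open scoped TensorProduct

namespace Groth.Agent.S9185

/-- For a ring map R → S, an S-module M and k ≥ 0 there is an S-module P together with a differential
operator D : M → P of order at most k (relative to R → S) such that every differential operator of
order at most k from M to an S-module N is α ∘ D for a unique S-linear map α : P → N; that is,
differential operators of order ≤ k out of M are represented by P. (Target modules N are taken in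
the same universe.) -/
theorem result (R S : Type u) [CommRing R] [CommRing S] [Algebra R S] (M : Type u)
    [AddCommGroup M] [Module S M] [Module R M] [IsScalarTower R S M] (k : ℕ) :
    ∃ (P : Type u) (_ : AddCommGroup P) (_ : Module S P) (_ : Module R P) (_ : IsScalarTower R S P)
      (D : M →ₗ[R] P), Diff16.IsDiffOpLE R S M P k D ∧
        ∀ (N : Type u) [AddCommGroup N] [Module S N] [Module R N] [IsScalarTower R S N] (D' : M →ₗ[R] N),
          Diff16.IsDiffOpLE R S M N k D' → ∃! α : P →ₗ[S] N, α.restrictScalars R ∘ₗ D = D' := by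
  classical
  let g : (Fin (k + 1) → S) × M → S ⊗[R] M := fun p =>
    ∑ H : Finset (Fin (k + 1)), ((-1 : ℤ) ^ H.card) •
      ((∏ i ∈ H, p.1 i) • ((1 : S) ⊗ₜ[R] ((∏ i ∈ Hᶜ, p.1 i) • p.2)))
  let W : Submodule S (S ⊗[R] M) := Submodule.span S (Set.range g)
  let D : M →ₗ[R] (S ⊗[R] M) ⧸ W :=
    (W.mkQ.restrictScalars R) ∘ₗ (TensorProduct.mk R S M 1)
  refine ⟨(S ⊗[R] M) ⧸ W, inferInstance, inferInstance, inferInstance, inferInstance, D, ?_, ?_⟩
  · rw [Groth.DiffOps.iff_altSum]
    intro b t
    have : W.mkQ (g (b, t)) = 0 :=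
      (Submodule.Quotient.mk_eq_zero W).2 (Submodule.subset_span ⟨(b, t), rfl⟩)
    rw [← this]
    simp only [Groth.DiffOps.altSum, g, D, map_sum, map_zsmul, map_smul]
    rfl
  · intro N _ _ _ _ D' hD'
    let L : S ⊗[R] M →ₗ[S] N :=
      TensorProduct.AlgebraTensorModule.lift
        (((LinearMap.lsmul S (M →ₗ[R] N)).flip D'))
    have hL : ∀ s m, L (s ⊗ₜ m) = s • D' m := fun s m => rfl
    have hW : W ≤ LinearMap.ker L := by
      rw [Submodule.span_le]
      rintro _ ⟨⟨b, t⟩, rfl⟩
      have h0 := (Groth.DiffOps.iff_altSum k D').1 hD' b t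
      simpa [g, Groth.DiffOps.altSum, hL] using h0
    refine ⟨W.liftQ L hW, ?_, ?_⟩
    · ext m
      simp [D, hL]
    · intro α hα
      refine Submodule.linearMap_qext _ (TensorProduct.AlgebraTensorModule.curry_injective ?_)
      ext m
      simp [hL, ← hα, D]

end Groth.Agent.S9185
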