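import Groth.Statements.S9188
import Groth.Agent.Limits.UnramifiedDescent
import Groth.Agent.Limits.DescentStage

set_option autoImplicit false
universe u
open CategoryTheory AlgebraicGeometry
open Lim

namespace Groth.Agent.S9188

/-- Let S = lim S_i be a cofiltered limit of schemes with affine transition morphisms, S_{i₀} a
quasi-compact quasi-separated stage, f₀ : X₀ → Y₀ a morphism of quasi-compact quasi-separated
schemes over S_{i₀}, and f : X → Y its base change along S → S_{i₀} (base changes expressed by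
pullback squares). If f₀ is locally of finite type and f is unramified (formally unramified; it is
locally of finite type as a base change of f₀), then for some index i over i₀ the base change f_i :
X_i → Y_i of f₀ along S_i → S_{i₀} is unramified, i.e. formally unramified (and locally of finite
type). -/
theorem result {I : Type u} [SmallCategory I] [IsCofiltered I]
    (D : I ⥤ Scheme.{u}) (c : Limits.Cone D) (hc : Limits.IsLimit c)
    [∀ (i j : I) (f : i ⟶ j), IsAffineHom (D.map f)] (i₀ : I) [CompactSpace (D.obj i₀)]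
    [QuasiSeparatedSpace (D.obj i₀)] {X₀ Y₀ : Scheme.{u}} (f₀ : X₀ ⟶ Y₀) (g₀ : Y₀ ⟶ D.obj i₀)
    [CompactSpace X₀] [QuasiSeparatedSpace X₀] [CompactSpace Y₀] [QuasiSeparatedSpace Y₀]
    [LocallyOfFiniteType f₀]
    {X Y : Scheme.{u}} (f : X ⟶ Y) (g : Y ⟶ c.pt) (qY : Y ⟶ Y₀) (qX : X ⟶ X₀)
    (hY : IsPullback qY g g₀ (c.π.app i₀)) (hX : IsPullback qX f f₀ qY) [FormallyUnramified f] :
    ∃ (i : I) (φ : i ⟶ i₀) (Xi Yi : Scheme.{u}) (fi : Xi ⟶ Yi) (gi : Yi ⟶ D.obj i) (pY : Yi ⟶ Y₀)
      (pX : Xi ⟶ X₀), IsPullback pY gi g₀ (D.map φ) ∧ IsPullback pX fi f₀ pY ∧ FormallyUnramified fi := by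
  have : QuasiCompact f₀ := QuasiCompact.of_comp f₀ (Limits.terminal.from Y₀)
  have : CompactSpace (Limits.pullback f₀ f₀ : Scheme.{u}) := QuasiCompact.compactSpace_of_compactSpace (Limits.pullback.fst f₀ f₀)
  have : QuasiSeparated f₀ := QuasiSeparated.of_quasiSeparatedSpace f₀
  obtain ⟨j, hj⟩ := Groth.Limits.exists_formallyUnramified_stage hc hY hX
  exact Groth.Limits.exists_isPullback_of_stage D f₀ g₀ @FormallyUnramified j hj

end Groth.Agent.S9188
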