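import Groth.Statements.S9200
import Groth.Agent.Limits.DescentStage

set_option autoImplicit false
universe u
open CategoryTheory AlgebraicGeometry
open Lim

namespace Groth.Agent.S9200

/-- Let S be a scheme and X = lim X_i a cofiltered limit of S-schemes X_i (a diagram with a compatible
family of structure maps to S) with affine transition morphisms, every X_i quasi-compact and
quasi-separated; the structure map X → S is the composite X → X_{i₀} → S for any index i₀. Assume S
is quasi-compact and quasi-separated. If X → S is affine, then X_i → S is affine for all i beyond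
some index i₁. -/
theorem result {I : Type u} [SmallCategory I] [IsCofiltered I] (S : Scheme.{u}) [CompactSpace S] [QuasiSeparatedSpace S]
    (D : I ⥤ Scheme.{u}) (t : D ⟶ (Functor.const I).obj S) (c : Limits.Cone D) (hc : Limits.IsLimit c)
    [∀ (i j : I) (a : i ⟶ j), IsAffineHom (D.map a)]
    [∀ i, CompactSpace (D.obj i)] [∀ i, QuasiSeparatedSpace (D.obj i)] (i₀ : I)
    [IsAffineHom (c.π.app i₀ ≫ t.app i₀)] :
    ∃ i₁ : I, ∀ (i : I) (_ : i ⟶ i₁), IsAffineHom (t.app i) := by
  have : QuasiCompact (t.app i₀) :=
    @quasiCompact_of_compactSpace (D.obj i₀) S (t.app i₀) _ _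
  have : QuasiSeparated (t.app i₀) :=
    @QuasiSeparated.of_quasiSeparatedSpace (D.obj i₀) S (t.app i₀) _
  exact Groth.Limits.exists_isAffineHom_app t hc i₀

end Groth.Agent.S9200
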