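import Groth.Statements.S9203
import Groth.Agent.FlatMor2.AffineThickening
import Groth.Agent.VarietyBC.AffineUnion
import Groth.Agent.BMCoh.Piece

set_option autoImplicit false
universe u v
open CategoryTheory AlgebraicGeometry
open Lim

namespace Groth.Agent.S9203

/-- Suppose a scheme X is covered, as a topological space, by finitely many closed subschemes each of
which is affine: there are closed immersions Z_k → X, indexed by a finite type, with each Z_k affine
and whose images cover X. Then X is affine. -/
theorem result (X : Scheme.{u}) {κ : Type v} [Finite κ]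
    (Z : κ → Scheme.{u}) (ι : ∀ k, Z k ⟶ X) [∀ k, IsClosedImmersion (ι k)] [∀ k, IsAffine (Z k)]
    (hcov : ∀ x : X, ∃ k, x ∈ Set.range (ι k).base) : IsAffine X := by
    classical
    let C : Finset κ → TopologicalSpace.Closeds X := fun s ↦
      ⟨⋃ k ∈ s, Set.range (ι k).base, isClosed_biUnion_finset fun k _ ↦ (inferInstance : IsClosedImmersion (ι k)).base_closed.isClosed_range⟩
    suffices h : ∀ s : Finset κ, IsAffine (Scheme.IdealSheafData.vanishingIdeal (C s)).subscheme by
      have := Fintype.ofFinite κ
      have := h Finset.univ
      let i := (Scheme.IdealSheafData.vanishingIdeal (C Finset.univ)).subschemeι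
      have hr : Set.range i = Set.univ := by
        rw [Scheme.IdealSheafData.range_subschemeι, Scheme.IdealSheafData.coe_support_vanishingIdeal]
        refine Set.eq_univ_of_forall fun x ↦ ?_
        obtain ⟨k, hk⟩ := hcov x
        exact Set.mem_biUnion (Finset.mem_univ k) hk
      have : Surjective i := ⟨Set.range_eq_univ.1 hr⟩
      exact Groth.FlatMor2.isAffine_of_surjective_closedImmersion i
    intro s
    have hred : ∀ c : TopologicalSpace.Closeds X,
        IsReduced (Scheme.IdealSheafData.vanishingIdeal c).subscheme :=
      Groth.BMCohLib.isReduced_vanishingIdeal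
    have hrange : ∀ c : TopologicalSpace.Closeds X,
        Set.range (Scheme.IdealSheafData.vanishingIdeal c).subschemeι = (c : Set X) := fun c ↦ by
      rw [Scheme.IdealSheafData.range_subschemeι, Scheme.IdealSheafData.coe_support_vanishingIdeal]
    induction s using Finset.induction_on with
    | empty =>
      have : IsEmpty (Scheme.IdealSheafData.vanishingIdeal (C ∅)).subscheme := ⟨fun x ↦ by
        have := (hrange (C ∅)).le ⟨x, rfl⟩
        simp [C] at this⟩
      infer_instance
    | insert a s _ ih =>
      let cY := C (insert a s)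
      let ca : TopologicalSpace.Closeds X :=
        ⟨Set.range (ι a).base, (inferInstance : IsClosedImmersion (ι a)).base_closed.isClosed_range⟩
      have hlift : ∀ c : TopologicalSpace.Closeds X, c ≤ cY →
          ∃ l, l ≫ (Scheme.IdealSheafData.vanishingIdeal cY).subschemeι =
            (Scheme.IdealSheafData.vanishingIdeal c).subschemeι := fun c hc ↦
        have := hred c
        Groth.BMCohLib.exists_lift_closed _ _ (fun x hx ↦ (hrange cY).ge (hc ((hrange c).le hx)))
      obtain ⟨l₁, hl₁⟩ := hlift (C s) (Set.biUnion_subset_biUnion_left fun k hk ↦ Finset.mem_insert_of_mem hk)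
      obtain ⟨l₂, hl₂⟩ := hlift ca (Set.subset_biUnion_of_mem (u := fun k ↦ Set.range (ι k).base)
        (Finset.mem_insert_self a s))
      have : IsClosedImmersion (l₁ ≫ (Scheme.IdealSheafData.vanishingIdeal cY).subschemeι) := by
        rw [hl₁]; infer_instance
      have : IsClosedImmersion l₁ :=
        IsClosedImmersion.of_comp l₁ (Scheme.IdealSheafData.vanishingIdeal cY).subschemeι
      have : IsClosedImmersion (l₂ ≫ (Scheme.IdealSheafData.vanishingIdeal cY).subschemeι) := by
        rw [hl₂]; infer_instance
      have : IsClosedImmersion l₂ :=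
        IsClosedImmersion.of_comp l₂ (Scheme.IdealSheafData.vanishingIdeal cY).subschemeι
      have := hred ca
      obtain ⟨l, hl⟩ := Groth.BMCohLib.exists_lift_closed
        (Scheme.IdealSheafData.vanishingIdeal ca).subschemeι (ι a) (hrange ca).le
      have : IsClosedImmersion (l ≫ ι a) := by rw [hl]; infer_instance
      have : IsClosedImmersion l := IsClosedImmersion.of_comp l (ι a)
      have : IsAffine (Scheme.IdealSheafData.vanishingIdeal ca).subscheme := isAffine_of_isAffineHom l
      have := hred cY
      refine Groth.VarietyBC.AffineUnion.isAffine_of_closedImmersions l₁ l₂ fun y ↦ ?_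
      have hy : (Scheme.IdealSheafData.vanishingIdeal cY).subschemeι y ∈ (cY : Set X) :=
        (hrange cY).le ⟨y, rfl⟩
      obtain ⟨k, hk, hyk⟩ := Set.mem_iUnion₂.1 hy
      rcases Finset.mem_insert.1 hk with rfl | hk
      · obtain ⟨z, hz⟩ := (hrange ca).ge hyk
        refine Or.inr ⟨z, (Scheme.IdealSheafData.vanishingIdeal cY).subschemeι.isEmbedding.injective ?_⟩
        rw [← Scheme.Hom.comp_apply, hl₂, hz]
      · obtain ⟨z, hz⟩ := (hrange (C s)).ge (Set.mem_biUnion hk hyk)
        refine Or.inl ⟨z, (Scheme.IdealSheafData.vanishingIdeal cY).subschemeι.isEmbedding.injective ?_⟩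
        rw [← Scheme.Hom.comp_apply, hl₁, hz]

end Groth.Agent.S9203
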