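import Groth.Statements.S9212
import Groth.Agent.Limits.DVRCriteria

set_option autoImplicit false
universe u
open CategoryTheory CategoryTheory.Limits AlgebraicGeometry
open Lim

namespace Groth.Agent.S9212

/-- Let S be a locally Noetherian scheme and f : X → S a morphism of finite type. Then f is proper if
and only if: for every generic point η of an irreducible component of X, every discrete valuation
ring A contained in the residue field κ(η) with fraction field κ(η) (a valuation subring of κ(η)
which is a discrete valuation ring), and every morphism Spec A → S whose restriction to Spec κ(η) is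
the canonical morphism Spec κ(η) → X followed by f, there is exactly one morphism Spec A → X over S
restricting to the canonical morphism on Spec κ(η). -/
theorem result {X S : Scheme.{u}} [IsLocallyNoetherian S] (f : X ⟶ S)
    [LocallyOfFiniteType f] [QuasiCompact f] :
    IsProper f ↔ ∀ (η : X), closure {η} ∈ irreducibleComponents (X : Type u) →
      ∀ (A : ValuationSubring (X.residueField η)), IsDiscreteValuationRing A →
        ∀ y : Spec (CommRingCat.of A) ⟶ S,
          Spec.map (CommRingCat.ofHom A.subtype) ≫ y = X.fromSpecResidueField η ≫ f →
          ∃! l : Spec (CommRingCat.of A) ⟶ X,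
            l ≫ f = y ∧ Spec.map (CommRingCat.ofHom A.subtype) ≫ l = X.fromSpecResidueField η := by
  constructor
  · intro hp η hη A hA y hy
    obtain ⟨l, hl₁, hl₂⟩ := ((UniversallyClosed.eq_valuativeCriterion.le _ _ f inferInstance).1
      { R := A, K := X.residueField η, i₁ := X.fromSpecResidueField η, i₂ := y,
        commSq := ⟨hy.symm⟩ }).exists_lift
    exact ⟨l, ⟨hl₂, hl₁⟩, fun l' hl' => Groth.Limits.dvr_lift_unique f A (X.residueField η) l' l
      (hl'.1.trans hl₂.symm) (hl'.2.trans hl₁.symm)⟩
  · intro H
    have : IsSeparated f := Groth.Limits.isSeparated_of_dvr_generic f fun η hη A hA l₁ l₂ h h₁ h₂ =>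
      (H η hη A hA (l₁ ≫ f) ((Category.assoc _ _ _).symm.trans (congrArg (fun g => g ≫ f) h₁))).unique ⟨rfl, h₁⟩ ⟨h.symm, h₂⟩
    have : UniversallyClosed f := Groth.Limits.universallyClosed_of_dvr_generic f
      fun η hη A hA y hy => (H η hη A hA y hy).exists
    exact {}

end Groth.Agent.S9212
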