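import Groth.Statements.S9213
import Groth.Agent.Limits.DVRCriteria

set_option autoImplicit false
universe u
open CategoryTheory CategoryTheory.Limits AlgebraicGeometry
open Lim

namespace Groth.Agent.S9213

/-- Let S be a locally Noetherian scheme and f : X → S a morphism of finite type. Then f is universally
closed if and only if for every discrete valuation ring A with fraction field K and every
commutative square formed by morphisms Spec K → X and Spec A → S there is some morphism Spec A → X
making the diagram commute (the existence part of the valuative criterion, tested on discrete
valuation rings only). -/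
theorem result {X S : Scheme.{u}} [IsLocallyNoetherian S] (f : X ⟶ S)
    [LocallyOfFiniteType f] [QuasiCompact f] :
    UniversallyClosed f ↔ ∀ (A : Type u) [CommRing A] [IsDomain A] [IsDiscreteValuationRing A]
      (x : Spec (CommRingCat.of (FractionRing A)) ⟶ X) (y : Spec (CommRingCat.of A) ⟶ S),
      x ≫ f = Spec.map (CommRingCat.ofHom (algebraMap A (FractionRing A))) ≫ y → ∃ l : Spec (CommRingCat.of A) ⟶ X, l ≫ f = y ∧ Spec.map (CommRingCat.ofHom (algebraMap A (FractionRing A))) ≫ l = x := by
  exact ⟨fun _ A _ _ _ x y w => Groth.Limits.dvr_lift_of_universallyClosed f A x y w,
    fun H => Groth.Limits.universallyClosed_of_dvr f H⟩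

end Groth.Agent.S9213
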