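import Groth.Statements.S9214
import Groth.Agent.Limits.RelApproxCor
import Groth.Agent.SpectralTopology.DescendFP

set_option autoImplicit false
set_option backward.isDefEq.respectTransparency false
set_option backward.defeqAttrib.useBackward true
universe u
open CategoryTheory CategoryTheory.Limits AlgebraicGeometry
open Lim

namespace Groth.Agent.S9214

/-- Let S = lim S_i be a cofiltered limit of Noetherian schemes with affine transition morphisms, and
suppose X → S is of finite type and quasi-separated. One can then find an index i, a finite type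
morphism W → S_i and a morphism X → W over S_i (compatible with X → S → S_i) for which the resulting
map X → S ×_{S_i} W into the fibre product is a closed immersion. -/
theorem result {I : Type u} [SmallCategory I] [IsCofiltered I]
    (D : I ⥤ Scheme.{u}) (c : Limits.Cone D) (hc : Limits.IsLimit c)
    [∀ (i j : I) (f : i ⟶ j), IsAffineHom (D.map f)] [∀ i, IsNoetherian (D.obj i)]
    {X : Scheme.{u}} (a : X ⟶ c.pt) [QuasiSeparated a] [QuasiCompact a] [LocallyOfFiniteType a] :
    ∃ (i : I) (W : Scheme.{u}) (w : W ⟶ D.obj i) (b : X ⟶ W) (hb : a ≫ c.π.app i = b ≫ w),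
      LocallyOfFiniteType w ∧ QuasiCompact w ∧ IsClosedImmersion (pullback.lift a b hb) := by
  obtain ⟨i₀⟩ := IsCofiltered.nonempty (C := I)
  have : CompactSpace c.pt := Scheme.compactSpace_of_isLimit D c hc
  have : QuasiSeparatedSpace c.pt := Groth.Limits.quasiSeparatedSpace_pt D c hc (i := i₀)
  have : CompactSpace X := QuasiCompact.compactSpace_of_compactSpace a
  have : QuasiSeparatedSpace X := quasiSeparatedSpace_of_quasiSeparated a
  obtain ⟨P, p, j, h1, h2, h3, h4, -, -, h5⟩ := Groth.Limits.exists_closedImmersion_fp a
  obtain ⟨i, ⟨M⟩⟩ := Groth.SpectralTopology.exists_stageModel hc p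
  have hb : a ≫ c.π.app i = (j ≫ M.map) ≫ M.hom := by
    rw [Category.assoc, M.sq.w, ← h5, Category.assoc]
  refine ⟨i, M.obj, M.hom, j ≫ M.map, hb, inferInstance, inferInstance, ?_⟩
  have e : Limits.pullback.lift a (j ≫ M.map) hb = j ≫ M.sq.flip.isoPullback.hom := by
    apply Limits.pullback.hom_ext <;> simp [h5]
  rw [e]
  infer_instance

end Groth.Agent.S9214
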