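import Groth.Statements.S9215
import Groth.Agent.Limits.FibreDimLimit

set_option autoImplicit false
universe u
open CategoryTheory CategoryTheory.Limits AlgebraicGeometry
open Lim

namespace Groth.Agent.S9215

/-- Consider a system of scheme morphisms (f_i : X_i → S_i) indexed by a cofiltered category: two
diagrams X_•, S_• with a natural transformation between them, such that all transition morphisms
S_{i'} → S_i are affine, all S_i are quasi-compact and quasi-separated, all f_i are of finite type,
and for every arrow i' → i the induced morphism X_{i'} → X_i ×_{S_i} S_{i'} is a closed immersion.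
Let X = lim X_i and S = lim S_i (limit cones) and f : X → S the induced morphism. Let d be a natural
number. Suppose each fibre of f is of dimension at most d; then there is an index i for which all
fibres of f_i are of dimension at most d. -/
theorem result {I : Type u} [SmallCategory I] [IsCofiltered I]
    (DX DS : I ⥤ Scheme.{u}) (φ : DX ⟶ DS) (cX : Limits.Cone DX) (cS : Limits.Cone DS)
    (hX : Limits.IsLimit cX) (hS : Limits.IsLimit cS)
    [∀ (i j : I) (a : i ⟶ j), IsAffineHom (DS.map a)] [∀ i, CompactSpace (DS.obj i)]
    [∀ i, QuasiSeparatedSpace (DS.obj i)] [∀ i, LocallyOfFiniteType (φ.app i)] [∀ i, QuasiCompact (φ.app i)]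
    (hcl : ∀ (i j : I) (a : i ⟶ j), IsClosedImmersion (pullback.lift (DX.map a) (φ.app i) (φ.naturality a)))
    (f : cX.pt ⟶ cS.pt) (hf : ∀ i, f ≫ cS.π.app i = cX.π.app i ≫ φ.app i) (d : ℕ)
    (hd : ∀ s : cS.pt, topologicalKrullDim ↥(f.fiber s) ≤ d) :
    ∃ i : I, ∀ s : DS.obj i, topologicalKrullDim ↥((φ.app i).fiber s) ≤ d := by
    exact Groth.Limits.exists_dim_fiber_le_of_limit φ hX hS hcl f hf d hd

end Groth.Agent.S9215
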