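import Groth.Statements.S9217
import Groth.Agent.Limits.GlueLocal

set_option autoImplicit false
universe u
open CategoryTheory AlgebraicGeometry
open Lim

namespace Groth.Agent.S9217

/-- Let S be a scheme, X and Y schemes over S with Y locally of finite presentation over S, and x a
closed point of X such that the inclusion of U = X - {x} in X is quasi-compact; let V be the
complement of the closed point in Spec O_{X,x}, i.e. the preimage of U under the canonical morphism
Spec O_{X,x} → X. Then restriction is a bijection from the S-morphisms X → Y to the pairs (a, b) of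
S-morphisms a : U → Y, b : Spec O_{X,x} → Y which agree on V: two morphisms X → Y with the same
restrictions to U and to Spec O_{X,x} are equal, and every such compatible pair of S-morphisms is
the pair of restrictions of an S-morphism X → Y. -/
theorem result {X Y S : Scheme.{u}} (p : X ⟶ S) (q : Y ⟶ S) [LocallyOfFinitePresentation q]
    (x : X) (U : X.Opens) (hU : (U : Set X) = {x}ᶜ) [QuasiCompact U.ι] :
    (∀ g₁ g₂ : X ⟶ Y, U.ι ≫ g₁ = U.ι ≫ g₂ → X.fromSpecStalk x ≫ g₁ = X.fromSpecStalk x ≫ g₂ → g₁ = g₂) ∧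
    (∀ (a : (U : Scheme.{u}) ⟶ Y) (b : Spec (X.presheaf.stalk x) ⟶ Y), a ≫ q = U.ι ≫ p →
      b ≫ q = X.fromSpecStalk x ≫ p → ((X.fromSpecStalk x) ⁻¹ᵁ U).ι ≫ b = ((X.fromSpecStalk x) ∣_ U) ≫ a →
        ∃ g : X ⟶ Y, g ≫ q = p ∧ U.ι ≫ g = a ∧ X.fromSpecStalk x ≫ g = b) := by
  obtain ⟨_, ⟨W, hW, rfl⟩, hx, -⟩ :=
    X.isBasis_affineOpens.exists_subset_of_mem_open (Set.mem_univ x) isOpen_univ
  have hsup : ∀ V : X.Opens, x ∈ V → U ⊔ V = ⊤ := fun V hV ↦ by
    refine top_le_iff.1 fun z _ ↦ ?_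
    by_cases hz : z = x
    · exact Or.inr (hz ▸ hV)
    · exact Or.inl ((Set.ext_iff.1 hU z).2 hz)
  refine ⟨fun g₁ g₂ hgU hgx ↦ ?_, fun a b ha hb hab ↦ ?_⟩
  · refine Groth.Limits.hom_ext_of_fromSpecStalk g₁ g₂ fun z ↦ ?_
    by_cases hz : z = x
    · subst hz
      exact hgx
    · have hzU : z ∈ U := (Set.ext_iff.1 hU z).2 hz
      rw [← Scheme.Opens.fromSpecStalkOfMem_ι U z hzU, Category.assoc, Category.assoc, hgU]
  · obtain ⟨V, bV, hbV, hbVq⟩ := Groth.Limits.exists_extend_nhd hW hx p q b hb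
    obtain ⟨V', hle, h⟩ := Groth.Limits.exists_agree_nhd hW p q U V a bV ha hbVq
      (by rw [hbV]; exact hab)
    obtain ⟨g, hgU, hgV⟩ := Groth.Limits.exists_glue_of_sup_eq_top U V'.1 (hsup _ V'.2.1) a
      (X.homOfLE hle ≫ bV) (by rw [Scheme.homOfLE_homOfLE_assoc]; exact h.symm)
    refine ⟨g, ?_, hgU, ?_⟩
    · refine Groth.Limits.hom_ext_of_fromSpecStalk _ _ fun z ↦ ?_
      by_cases hz : z = x
      · subst hz
        rw [← Scheme.Opens.fromSpecStalkOfMem_ι V'.1 z V'.2.1, Category.assoc, Category.assoc,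
          reassoc_of% hgV, hbVq, Scheme.homOfLE_ι_assoc]
      · have hzU : z ∈ U := (Set.ext_iff.1 hU z).2 hz
        rw [← Scheme.Opens.fromSpecStalkOfMem_ι U z hzU, Category.assoc, Category.assoc,
          reassoc_of% hgU, ha]
    · rw [← Scheme.Opens.fromSpecStalkOfMem_ι V'.1 x V'.2.1, Category.assoc, hgV, ← hbV,
        ← Category.assoc]
      congr 1
      rw [← cancel_mono V.1.ι]
      simp

end Groth.Agent.S9217
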