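import Groth.Statements.S9220
import Groth.Agent.Limits.DescentStage
import Groth.Agent.SpectralTopology.DescendFP
import Groth.Agent.Flatmor4.ThickFT

set_option autoImplicit false
set_option backward.isDefEq.respectTransparency false
set_option backward.defeqAttrib.useBackward true
universe u
open CategoryTheory AlgebraicGeometry
open Lim

namespace Groth.Agent.S9220

/-- Let S = lim S_i be a cofiltered limit of quasi-compact quasi-separated schemes with affine
transition morphisms, and let I be a quasi-coherent sheaf of ideals of finite type on S (its ideal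
of sections on every affine open is finitely generated). Then for some index i there is a
quasi-coherent sheaf of ideals of finite type I_i on S_i such that I = I_i · O_S, the pullback ideal
sheaf along S → S_i. -/
theorem result {I : Type u} [SmallCategory I] [IsCofiltered I]
    (D : I ⥤ Scheme.{u}) (c : Limits.Cone D) (hc : Limits.IsLimit c)
    [∀ (i j : I) (f : i ⟶ j), IsAffineHom (D.map f)] [∀ i, CompactSpace (D.obj i)]
    [∀ i, QuasiSeparatedSpace (D.obj i)] (J : c.pt.IdealSheafData)
    (hJ : ∀ U : c.pt.affineOpens, (J.ideal U).FG) :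
    ∃ (i : I) (Ji : (D.obj i).IdealSheafData), (∀ U : (D.obj i).affineOpens, (Ji.ideal U).FG) ∧
      Ji.comap (c.π.app i) = J := by
  have : LocallyOfFinitePresentation J.subschemeι :=
    Groth.Flatmor4.lfp_of_ker_fg J.subschemeι (by simpa using hJ)
  obtain ⟨i, ⟨M⟩⟩ := Groth.SpectralTopology.exists_stageModel hc J.subschemeι
  haveI : IsIso (𝟙 c.pt) := IsIso.id _
  haveI : IsIso (𝟙 (D.obj i)) := IsIso.id _
  have hY : IsPullback (c.π.app i) (𝟙 c.pt) (𝟙 (D.obj i)) (c.π.app i) :=
    IsPullback.of_vert_isIso ⟨(Category.comp_id _).trans (Category.id_comp _).symm⟩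
  have : LocallyOfFiniteType M.hom := inferInstance
  obtain ⟨j, hj⟩ := Groth.Limits.exists_isClosedImmersion_stage hc hY M.sq
  let N := M.pull j.hom
  have hN : IsClosedImmersion N.hom := by
    let e := Limits.pullback.fst (D.map j.hom) (𝟙 (D.obj i))
    have : IsIso e := inferInstance
    have hcomp : inv e ≫ Limits.pullback.snd (D.map j.hom) (𝟙 (D.obj i)) = D.map j.hom := by
      rw [IsIso.inv_comp_eq, Limits.pullback.condition, Category.comp_id]
    have h1 := Groth.Limits.prop_snd_comp @IsClosedImmersion M.hom (inv e) _ _ hcomp hj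
    have : IsClosedImmersion (Limits.pullback.fst (D.map j.hom) M.hom) := by
      rw [← Limits.pullbackSymmetry_hom_comp_snd (D.map j.hom) M.hom]
      infer_instance
    exact this
  refine ⟨j.left, N.hom.ker, fun U ↦ Groth.Flatmor4.ker_fg_of_lfp N.hom U, ?_⟩
  rw [← Scheme.IdealSheafData.ker_fst_of_isClosedImmersion, ← N.sq.flip.isoPullback_inv_fst,
    Scheme.Hom.ker_comp_of_isIso, Scheme.IdealSheafData.ker_subschemeι]

end Groth.Agent.S9220
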