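import Groth.Statements.S9221
import Groth.Agent.Ega43FP2.SuppDim
import Groth.Agent.QCohMod.SupportPullback
import Groth.Agent.S0787
import Groth.Agent.S2074

set_option autoImplicit false
universe u
open CategoryTheory AlgebraicGeometry
open Lim

namespace Groth.Agent.S9221

section Helpers

theorem isProperOver_iff {X S : Scheme.{u}} (f : X ⟶ S) [LocallyOfFiniteType f] {Z : Set X} (hc : IsClosed Z)
    {T : Scheme.{u}} (i : T ⟶ X) [IsClosedImmersion i] (hr : Set.range i = Z) :
    ClSub.IsProperOver f Z ↔ IsProper (i ≫ f) :=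
  ⟨fun h => (Groth.Agent.S0787.result f Z hc).2.1 h T i inferInstance hr,
    fun h => (Groth.Agent.S0787.result f Z hc).1.2 ⟨T, i, inferInstance, hr, h⟩⟩

theorem isProperOver_preimage_iff {X X₀ Z Y : Scheme.{u}} (f : X ⟶ Y) [LocallyOfFiniteType f]
    (q : X ⟶ X₀) (i : Z ⟶ X₀) [IsClosedImmersion i] :
    ClSub.IsProperOver f (q ⁻¹' Set.range i) ↔ IsProper (Limits.pullback.snd i q ≫ f) :=
  isProperOver_iff f (i.isClosedEmbedding.isClosed_range.preimage q.continuous) _
    (Scheme.Pullback.range_snd i q)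

end Helpers

/-- Let S = lim S_i be a cofiltered limit of schemes with affine transition morphisms, S_{i₀} a
quasi-compact quasi-separated stage, f₀ : X₀ → Y₀ a morphism of quasi-compact quasi-separated
schemes over S_{i₀}, and f : X → Y its base change along S → S_{i₀} (base changes expressed by
pullback squares). Let F₀ be a quasi-coherent O_{X₀}-module of finite type, with pullbacks F to X
and F_i to X_i, and assume f₀ is locally of finite type. If the support of F (a closed subset of X,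
taken with its reduced structure; equivalently the scheme-theoretic support of F) is proper over Y,
then for some index i over i₀, with f_i : X_i → Y_i the base change of f₀ along S_i → S_{i₀}, the
support of F_i is proper over Y_i. -/
theorem result {I : Type u} [SmallCategory I] [IsCofiltered I]
    (D : I ⥤ Scheme.{u}) (c : Limits.Cone D) (hc : Limits.IsLimit c)
    [∀ (i j : I) (f : i ⟶ j), IsAffineHom (D.map f)] (i₀ : I) [CompactSpace (D.obj i₀)]
    [QuasiSeparatedSpace (D.obj i₀)] {X₀ Y₀ : Scheme.{u}} (f₀ : X₀ ⟶ Y₀) (g₀ : Y₀ ⟶ D.obj i₀)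
    [CompactSpace X₀] [QuasiSeparatedSpace X₀] [CompactSpace Y₀] [QuasiSeparatedSpace Y₀]
    [LocallyOfFiniteType f₀] (F₀ : X₀.Modules) [Coh.IsQCoh F₀] (hF₀ : CohB1.IsFT F₀)
    {X Y : Scheme.{u}} (f : X ⟶ Y) (g : Y ⟶ c.pt) (qY : Y ⟶ Y₀) (qX : X ⟶ X₀)
    (hY : IsPullback qY g g₀ (c.π.app i₀)) (hX : IsPullback qX f f₀ qY) (hF : ClSub.IsProperOver f (CohB1.support ((Scheme.Modules.pullback qX).obj F₀))) :
    ∃ (i : I) (φ : i ⟶ i₀) (Xi Yi : Scheme.{u}) (fi : Xi ⟶ Yi) (gi : Yi ⟶ D.obj i) (pY : Yi ⟶ Y₀)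
      (pX : Xi ⟶ X₀), IsPullback pY gi g₀ (D.map φ) ∧ IsPullback pX fi f₀ pY ∧ ClSub.IsProperOver fi (CohB1.support ((Scheme.Modules.pullback pX).obj F₀)) := by
  have hqc : F₀.IsQuasicoherent := ‹Coh.IsQCoh F₀›
  have hcl : IsClosed (CohB1.support F₀) := Groth.Ega43FP2.isClosed_support F₀ hF₀
  let I₀ := Scheme.IdealSheafData.vanishingIdeal (⟨CohB1.support F₀, hcl⟩ : TopologicalSpace.Closeds X₀)
  let ι := I₀.subschemeι
  have hι : Set.range ι = CohB1.support F₀ := by
    rw [Scheme.IdealSheafData.range_subschemeι, Scheme.IdealSheafData.coe_support_vanishingIdeal]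
    rfl
  have : LocallyOfFiniteType f := MorphismProperty.of_isPullback hX inferInstance
  rw [Groth.QCohMod.support_pullback _ F₀ hF₀, ← hι, isProperOver_preimage_iff] at hF
  have : CompactSpace I₀.subscheme := QuasiCompact.compactSpace_of_compactSpace ι
  have : QuasiSeparatedSpace I₀.subscheme := quasiSeparatedSpace_of_quasiSeparated ι
  obtain ⟨i, φ, Z, Yi, h, gi, pY, pZ, hY', hZ, hp⟩ := Groth.Agent.S2074.result D c hc i₀ (ι ≫ f₀) g₀
    (Limits.pullback.snd ι qX ≫ f) g qY (Limits.pullback.fst ι qX) hY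
    ((IsPullback.of_hasPullback ι qX).paste_vert hX)
  let Xi := Limits.pullback f₀ pY
  let pX : Xi ⟶ X₀ := Limits.pullback.fst f₀ pY
  let fi : Xi ⟶ Yi := Limits.pullback.snd f₀ pY
  refine ⟨i, φ, Xi, Yi, fi, gi, pY, pX, hY', IsPullback.of_hasPullback f₀ pY, ?_⟩
  rw [Groth.QCohMod.support_pullback _ F₀ hF₀, ← hι, isProperOver_preimage_iff]
  have sq := (IsPullback.of_hasPullback ι pX).paste_vert (IsPullback.of_hasPullback f₀ pY)
  have e : (sq.isoIsPullback _ _ hZ).hom ≫ h = Limits.pullback.snd ι pX ≫ fi :=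
    IsPullback.isoIsPullback_hom_snd _ _ _ _
  rw [← e]
  infer_instance

end Groth.Agent.S9221
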