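import Groth.Statements.S9226
import Groth.Agent.Calg4.RegularFlat

set_option autoImplicit false
universe u
open CAlg

namespace Groth.Agent.S9226

/-- Let R be a regular local ring, m ≥ 1, f_1, ..., f_m elements of the maximal ideal, and D_1, ..., D_m
derivations of R such that the determinant of the matrix (D_i(f_j)) is a unit of R. Then R/(f_1,
..., f_m) is a regular local ring and f_1, ..., f_m is a regular sequence on R. -/
theorem result (R : Type u) [CommRing R]
    [IsRegularLocalRing R] (m : ℕ) (hm : 1 ≤ m) (f : Fin m → R)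
    (hf : ∀ i, f i ∈ IsLocalRing.maximalIdeal R) (D : Fin m → Derivation ℤ R R)
    (hdet : IsUnit (Matrix.det (Matrix.of (fun i j : Fin m => D i (f j))))) :
    IsRegularLocalRing (R ⧸ Ideal.span (Set.range f)) ∧
      RingTheory.Sequence.IsRegular R (List.ofFn f) := by
  refine Groth.Calg4.isRegularLocalRing_quotient_of_indep m R f hf fun c hc i => ?_
  set M := IsLocalRing.maximalIdeal R
  let q := Ideal.Quotient.mk M
  have key : ∀ i, ∑ j, D i (f j) * c j ∈ M := by
    intro i
    have h2 : ∀ y ∈ M ^ 2, D i y ∈ M := by
      intro y hy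
      rw [pow_two] at hy
      refine Submodule.mul_induction_on hy (fun a ha b hb => ?_) (fun a b ha hb => by
        rw [map_add]; exact add_mem ha hb)
      rw [Derivation.leibniz, smul_eq_mul, smul_eq_mul]
      exact add_mem (M.mul_mem_right _ ha) (M.mul_mem_right _ hb)
    have h3 := h2 _ hc
    rw [map_sum] at h3
    simp only [Derivation.leibniz, smul_eq_mul] at h3
    rw [Finset.sum_add_distrib] at h3
    have h4 : ∑ j, f j * D i (c j) ∈ M := Ideal.sum_mem _ fun j _ => M.mul_mem_right _ (hf j)
    have h5 := (Submodule.add_mem_iff_left M h4).mp h3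
    simpa [mul_comm] using h5
  let A := Matrix.of (fun i j : Fin m => D i (f j))
  have h0 : (A.map q).mulVec (fun j => q (c j)) = 0 := by
    funext i
    simp only [Matrix.mulVec, dotProduct, Matrix.map_apply, A, Matrix.of_apply, Pi.zero_apply, ← map_mul, ← map_sum]
    exact Ideal.Quotient.eq_zero_iff_mem.mpr (key i)
  have hu : IsUnit (A.map q) := (Matrix.isUnit_iff_isUnit_det _).mpr (by
    rw [← RingHom.mapMatrix_apply, ← RingHom.map_det]
    exact hdet.map q)
  have h1 := Matrix.mulVec_injective_of_isUnit hu (h0.trans (Matrix.mulVec_zero _).symm)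
  exact Ideal.Quotient.eq_zero_iff_mem.mp (congrFun h1 i)

end Groth.Agent.S9226
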