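import Groth.Statements.S9227
import Groth.Agent.Calg4.RegularQuotient

set_option autoImplicit false
universe u
open CAlg

namespace Groth.Agent.S9227

/-- Let R be a regular ring, f an element of R and D a derivation of R with D(f) a unit of R. Then for
every polynomial p with integer coefficients the ring R[z]/(p(z) - f) is regular; in particular
R[z]/(z^n - f) is regular for every n ≥ 1. -/
theorem result (R : Type u) [CommRing R]
    [IsRegularRing R] (f : R) (D : Derivation ℤ R R) (hD : IsUnit (D f)) (p : Polynomial ℤ) :
    IsRegularRing (Polynomial R ⧸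
      Ideal.span ({Polynomial.map (Int.castRingHom R) p - Polynomial.C f} : Set (Polynomial R))) := by
  let D₀ := (PolynomialModule.equivPolynomialSelf (R := R)).toLinearMap.compDer D.mapCoeffs
  let D' : Derivation ℤ (Polynomial R) (Polynomial R) :=
    Derivation.mk' (AddMonoidHom.toIntLinearMap (AddMonoidHom.mk' (fun q => D₀ q) fun a b => map_add D₀ a b))
      fun a b => D₀.leibniz a b
  refine Groth.Calg4.isRegularRing_quotient_of_derivation _ D' ?_
  have h : ∀ (q : Polynomial R) (i : ℕ), (D' q).coeff i = D (q.coeff i) := fun q i => rfl
  have h2 : D' (Polynomial.map (Int.castRingHom R) p - Polynomial.C f) = Polynomial.C (-D f) := by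
    ext i
    rw [h, Polynomial.coeff_sub, map_sub, Polynomial.coeff_map, eq_intCast, Derivation.map_intCast,
      Polynomial.coeff_C, Polynomial.coeff_C]
    split_ifs <;> simp
  refine Eq.subst (motive := fun z => IsUnit (Ideal.Quotient.mk _ z)) h2.symm ?_
  exact (hD.neg.map Polynomial.C).map _

end Groth.Agent.S9227
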