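import Groth.Statements.S9229
import Groth.Agent.S2636
import Groth.Agent.Hensel1.NormalHomBranches
import Groth.Agent.Ega4Algebra1.FormallyEquidim
import Groth.Agent.Calg6.BranchCount

set_option autoImplicit false
universe u
open EGA4

namespace Groth.Agent.S9229

/-- A Noetherian local ring A whose formal fibres are geometrically normal and which is unibranch (a
normal local ring, say) is universally catenary. -/
theorem result (A : Type u) [CommRing A]
    [IsLocalRing A] [IsNoetherianRing A] (hA : EGA4.HasGeomNormalFormalFibres A)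
    (hu : CAlg2.IsUnibranch A) : CAlg.IsUniversallyCatenary A := by
  haveI := Groth.Ega4b.isNoetherianRing_cpl A
  haveI : IsLocalRing (EGA4.Cpl A) := inferInstance
  haveI : IsAdicComplete (IsLocalRing.maximalIdeal (EGA4.Cpl A)) (EGA4.Cpl A) := by
    rw [AdicCompletion.maximalIdeal_eq_map]
    exact AdicCompletion.isAdicComplete_self _ (IsLocalRing.maximalIdeal A).fg_of_isNoetherianRing
  haveI := Groth.Calg6.Branch.henselianLocalRing_of_isAdicComplete (EGA4.Cpl A)
  have h1 : ENat.card (minimalPrimes (EGA4.Cpl A)) = 1 := by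
    rw [← Groth.Hensel1.numBranches_eq_card_minimalPrimes_of_henselian,
      (Groth.Hensel1.branches_completion_eq A hA).1, Groth.Hensel1.numBranches_eq_one_iff]
    exact hu
  rw [ENat.card_coe_set_eq, Set.encard_eq_one] at h1
  obtain ⟨P, hP⟩ := h1
  have hfe : EGA4.IsFormallyEquidim A := by
    intro q hq
    have hall : ∀ x : PrimeSpectrum (EGA4.Cpl A), q ≤ x.asIdeal := fun x => by
      obtain ⟨Q, hQ, hle⟩ := Ideal.exists_minimalPrimes_le (I := (⊥ : Ideal (EGA4.Cpl A))) (J := x.asIdeal) bot_le
      have e1 : Q = P := hP.le hQ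
      have e2 : q = P := hP.le hq
      rw [e2, ← e1]
      exact hle
    rw [ringKrullDim_quotient, show PrimeSpectrum.zeroLocus (q : Set (EGA4.Cpl A)) = Set.univ from
      Set.eq_univ_of_forall fun x => hall x]
    exact Order.krullDim_eq_of_orderIso (OrderIso.Set.univ)
  exact Groth.Agent.S2636.result A fun p _ =>
    (Groth.Ega4Algebra1.quotient_prime_of_isFormallyEquidim A hfe p).1

end Groth.Agent.S9229
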