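import Groth.Statements.S9231
import Groth.Agent.Calg4.CompletionFlat
import Groth.Agent.Ega4Algebra2.CompletedFibres
import Groth.Agent.EtaleAlgebra.WeaklyEtale
-- import your own Groth.Agent.* helpers here

set_option autoImplicit false
universe u
open CAlg

namespace Groth.Agent.S9231

/-- For a local ring map A → B between Noetherian local rings, let ψ be the induced map from the
completion of A at its maximal ideal to that of B (here: a ring map of the completions whose
composite with A → A^ is the composite A → B → B^; since A is Noetherian such a map is unique, hence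
is the canonical one). Then ψ is flat exactly when A → B is flat. -/
theorem result (A B : Type u) [CommRing A] [CommRing B] [IsLocalRing A]
    [IsLocalRing B] [IsNoetherianRing A] [IsNoetherianRing B] [Algebra A B]
    [IsLocalHom (algebraMap A B)]
    (ψ : AdicCompletion (IsLocalRing.maximalIdeal A) A →+* AdicCompletion (IsLocalRing.maximalIdeal B) B)
    (hψ : ψ.comp (algebraMap A (AdicCompletion (IsLocalRing.maximalIdeal A) A)) =
      (algebraMap B (AdicCompletion (IsLocalRing.maximalIdeal B) B)).comp (algebraMap A B)) :
    ψ.Flat ↔ (algebraMap A B).Flat := by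
  haveI : IsNoetherianRing (EGA4.Cpl B) := Groth.Calg1.isNoetherianRing_adicCompletion _ (IsNoetherian.noetherian _)
  haveI := Groth.Ega4b.isLocalHom_cpl A B
  letI : Algebra (EGA4.Cpl A) (EGA4.Cpl B) := ψ.toAlgebra
  haveI : IsScalarTower A (EGA4.Cpl A) (EGA4.Cpl B) := IsScalarTower.of_algebraMap_eq' (by
    rw [IsScalarTower.algebraMap_eq A B (EGA4.Cpl B)]; exact hψ.symm)
  haveI : Module.FaithfullyFlat B (EGA4.Cpl B) := Groth.Ega4b.faithfullyFlat_cpl B
  constructor
  · intro h
    haveI : Module.Flat (EGA4.Cpl A) (EGA4.Cpl B) := h
    haveI : Module.Flat A (EGA4.Cpl A) := inferInstance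
    haveI : Module.Flat A (EGA4.Cpl B) := Module.Flat.trans A (EGA4.Cpl A) _
    exact RingHom.flat_algebraMap_iff.2 (Groth.EtaleAlgebra.flat_of_faithfullyFlat_target A B (EGA4.Cpl B))
  · intro h
    haveI : Module.Flat A B := RingHom.flat_algebraMap_iff.1 h
    exact (Groth.Ega4b.flat_cplHom A B).toFlat

end Groth.Agent.S9231
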