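import Groth.Statements.S9232
import Mathlib
-- import your own Groth.Agent.* helpers here

set_option autoImplicit false
universe u
open CAlg

namespace Groth.Agent.S9232

/-- Suppose A → B is a flat local ring map between Noetherian local rings, the maximal ideal of A
generates that of B, and the residue field map is bijective. Then the induced map between the
completions of A and B (a ring map of the completions compatible with A → B; it is unique since A is
Noetherian) is an isomorphism. -/
theorem result (A B : Type u) [CommRing A]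
    [CommRing B] [IsLocalRing A] [IsLocalRing B] [IsNoetherianRing A] [IsNoetherianRing B]
    [Algebra A B] [IsLocalHom (algebraMap A B)] [Module.Flat A B]
    (hm : Ideal.map (algebraMap A B) (IsLocalRing.maximalIdeal A) = IsLocalRing.maximalIdeal B)
    (hk : Function.Bijective (IsLocalRing.ResidueField.map (algebraMap A B)))
    (ψ : AdicCompletion (IsLocalRing.maximalIdeal A) A →+* AdicCompletion (IsLocalRing.maximalIdeal B) B)
    (hψ : ψ.comp (algebraMap A (AdicCompletion (IsLocalRing.maximalIdeal A) A)) =
      (algebraMap B (AdicCompletion (IsLocalRing.maximalIdeal B) B)).comp (algebraMap A B)) :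
    Function.Bijective ψ := by
  classical
  let m := IsLocalRing.maximalIdeal A
  let n₀ := IsLocalRing.maximalIdeal B
  have hmap : ∀ k : ℕ, (m ^ k).map (algebraMap A B) = n₀ ^ k := fun k => by rw [Ideal.map_pow, hm]
  have hsurj : ∀ k : ℕ, ∀ y : B, ∃ a : A, y - algebraMap A B a ∈ n₀ ^ k := by
    intro k
    induction k with
    | zero => exact fun y => ⟨0, by simp⟩
    | succ k ih =>
      intro y
      obtain ⟨a, ha⟩ := ih y
      have h2 : ∀ z ∈ n₀ ^ k, ∃ a' : A, z - algebraMap A B a' ∈ n₀ ^ (k + 1) := by
        intro z hz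
        rw [← hmap, Ideal.map] at hz
        induction hz using Submodule.span_induction with
        | mem x hx => obtain ⟨c, hc, rfl⟩ := hx; exact ⟨c, by simp⟩
        | zero => exact ⟨0, by simp⟩
        | add u v _ _ hu hv =>
          obtain ⟨a1, h1⟩ := hu
          obtain ⟨a2, h2⟩ := hv
          exact ⟨a1 + a2, by rw [map_add, add_sub_add_comm]; exact add_mem h1 h2⟩
        | smul r x hxm hx =>
          obtain ⟨a1, h1⟩ := hx
          obtain ⟨e, he⟩ := hk.2 (IsLocalRing.residue B r)
          obtain ⟨c, rfl⟩ := Ideal.Quotient.mk_surjective e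
          have hrc : r - algebraMap A B c ∈ n₀ := Ideal.Quotient.eq.mp he.symm
          have hxk : x ∈ n₀ ^ k := by rw [← hmap, Ideal.map]; exact hxm
          refine ⟨c * a1, ?_⟩
          have : r * x - algebraMap A B (c * a1) = (r - algebraMap A B c) * x + algebraMap A B c * (x - algebraMap A B a1) := by
            rw [map_mul]; ring
          rw [smul_eq_mul, this]
          exact add_mem (by rw [pow_succ']; exact Ideal.mul_mem_mul hrc hxk) (Ideal.mul_mem_left _ _ h1)
      obtain ⟨a', ha'⟩ := h2 _ ha
      exact ⟨a + a', by rwa [map_add, ← sub_sub]⟩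
  haveI : Module.FaithfullyFlat A B := Module.FaithfullyFlat.of_flat_of_isLocalHom
  have hcomap : ∀ k : ℕ, (n₀ ^ k).comap (algebraMap A B) = m ^ k := fun k => by
    rw [← hmap, Ideal.comap_map_eq_self_of_faithfullyFlat]
  let q : ∀ k, A ⧸ m ^ k →+* B ⧸ n₀ ^ k := fun k =>
    Ideal.quotientMap _ (algebraMap A B) (hcomap k).ge
  have hq : ∀ k, Function.Bijective (q k) := fun k => ⟨Ideal.quotientMap_injective' (hcomap k).le, fun y => by
    obtain ⟨y, rfl⟩ := Ideal.Quotient.mk_surjective y
    obtain ⟨a, ha⟩ := hsurj k y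
    exact ⟨Ideal.Quotient.mk _ a, ((Ideal.Quotient.eq).mpr ha).symm⟩⟩
  have hev : ∀ k x, AdicCompletion.evalₐ n₀ k (ψ x) = q k (AdicCompletion.evalₐ m k x) := by
    intro k x
    obtain ⟨a, ha⟩ := Ideal.Quotient.mk_surjective (AdicCompletion.evalₐ m k x)
    have hzero : AdicCompletion.evalₐ m k (x - algebraMap A _ a) = 0 := by
      rw [map_sub, AlgHom.commutes, ← ha, Ideal.Quotient.algebraMap_eq, sub_self]
    have hker : x - algebraMap A _ a ∈ (m ^ k • ⊤ : Submodule A (AdicCompletion m A)) := by
      rw [AdicCompletion.pow_smul_top_eq_ker_eval (IsNoetherian.noetherian _), LinearMap.mem_ker,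
        ← AdicCompletion.factor_evalₐ_eq_eval (I := m) (x - algebraMap A _ a) (le_of_eq (by simp)), hzero, map_zero]
    have hψa : ∀ c, ψ (algebraMap A _ c) = algebraMap B _ (algebraMap A B c) := fun c => RingHom.congr_fun hψ c
    have h0 : ∀ z ∈ (m ^ k • ⊤ : Submodule A (AdicCompletion m A)), AdicCompletion.evalₐ n₀ k (ψ z) = 0 := by
      intro z hz
      induction hz using Submodule.smul_induction_on' with
      | smul r hr z _ =>
        rw [Algebra.smul_def, map_mul, map_mul, hψa, AlgHom.commutes,
          Ideal.Quotient.algebraMap_eq, Ideal.Quotient.eq_zero_iff_mem.mpr (show algebraMap A B r ∈ n₀ ^ k from (hcomap k).ge hr), zero_mul]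
      | add z1 _ z2 _ h1 h2 => rw [map_add, map_add, h1, h2, add_zero]
    have := h0 _ hker
    rw [map_sub, map_sub, sub_eq_zero, hψa, AlgHom.commutes] at this
    rw [this, ← ha]
    rfl
  refine ⟨fun x y hxy => AdicCompletion.ext_evalₐ fun k => (hq k).1 (by rw [← hev, ← hev, hxy]), fun y => ?_⟩
  let e := fun k => RingEquiv.ofBijective (q k) (hq k)
  have hcompat : ∀ {i j : ℕ} (h : i ≤ j) (z : A ⧸ m ^ j),
      Ideal.Quotient.factorPow n₀ h (q j z) = q i (Ideal.Quotient.factorPow m h z) := by
    intro i j h z
    obtain ⟨a, rfl⟩ := Ideal.Quotient.mk_surjective z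
    rfl
  have hevh : ∀ {R : Type u} [CommRing R] (K : Ideal R) {i j : ℕ} (h : i ≤ j) (x : AdicCompletion K R),
      Ideal.Quotient.factorPow K h (AdicCompletion.evalₐ K j x) = AdicCompletion.evalₐ K i x := by
    intro R _ K i j h x
    obtain ⟨y, rfl⟩ := AdicCompletion.mk_surjective K R x
    simp only [AdicCompletion.evalₐ_mk, Ideal.Quotient.factor_mk]
    exact AdicCompletion.Ideal.mk_eq_mk _ h y
  let G := fun k => (e k).symm.toRingHom.comp (AdicCompletion.evalₐ n₀ k).toRingHom
  have hG : ∀ {i j : ℕ} (h : i ≤ j), (Ideal.Quotient.factorPow m h).comp (G j) = G i :=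
    fun {i j} h => RingHom.ext fun x => (e i).injective <| by
      show q i (Ideal.Quotient.factorPow m h ((e j).symm (AdicCompletion.evalₐ n₀ j x))) = e i ((e i).symm _)
      rw [(e i).apply_symm_apply, ← hcompat, show q j ((e j).symm _) = _ from (e j).apply_symm_apply _]
      exact hevh n₀ h x
  refine ⟨AdicCompletion.liftRingHom m G hG y, AdicCompletion.ext_evalₐ fun k => ?_⟩
  rw [hev, AdicCompletion.evalₐ_liftRingHom]
  exact (e k).apply_symm_apply _

end Groth.Agent.S9232
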