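import Groth.Statements.S9233
import Groth.Agent.Hensel1.Depth

set_option autoImplicit false
universe u
open Hensel

namespace Groth.Agent.S9233

/-- The henselization S of a Noetherian local ring R has the same depth as R. -/
theorem result (R S : Type u) [CommRing R] [IsLocalRing R] [IsNoetherianRing R]
    [CommRing S] [IsLocalRing S] [Algebra R S] [IsLocalHom (algebraMap R S)]
    [Hensel.IsHenselization R S] : LocCoh.depth S S = LocCoh.depth R R := by
  obtain ⟨M⟩ := Groth.Hensel1.hensModel_of_isHenselization (R := R) (S := S)
  exact M.depth_eq

end Groth.Agent.S9233
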