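import Groth.Statements.S9238
import Groth.Agent.Hensel1.MinimalPrimesHens

set_option autoImplicit false
universe u
open Brnch

namespace Groth.Agent.S9238

/-- Let A be a local ring and S a strict henselization of A. Then the number of minimal prime ideals of
S, a natural number or infinity, equals the number of geometric branches of A as computed from the
integral closure of A_red in its total ring of fractions (maximal ideals counted with multiplicity
the separable degree of their residue field over that of A; infinity if A has infinitely many
minimal primes). -/
theorem result (A S : Type u) [CommRing A]
    [IsLocalRing A] [CommRing S] [IsLocalRing S] [Algebra A S] [IsLocalHom (algebraMap A S)]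
    [Hensel.IsStrictHenselization A S] :
    ENat.card (minimalPrimes S) = Brnch.numGeomBranches A := by
  exact Groth.Hensel1.card_minimalPrimes_strictHenselization_eq_numGeomBranches A S

end Groth.Agent.S9238
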