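import Groth.Statements.S9240
import Groth.Agent.Hensel1.CompletionBranches

set_option autoImplicit false
universe u
open Brnch

namespace Groth.Agent.S9240

/-- Let A be a Noetherian local ring, S its henselization and A^ its completion, and let ψ : S → A^ be
the ring map compatible with the structure maps from A (it is unique, A^ being henselian). Then
contraction along ψ sends every minimal prime of A^ to a minimal prime of S, and every minimal prime
of S arises this way: contraction maps the minimal primes of A^ onto the minimal primes of S. -/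
theorem result (A S : Type u) [CommRing A] [IsLocalRing A]
    [IsNoetherianRing A] [CommRing S] [IsLocalRing S] [Algebra A S] [IsLocalHom (algebraMap A S)]
    [Hensel.IsHenselization A S] (ψ : S →+* AdicCompletion (IsLocalRing.maximalIdeal A) A)
    (hψ : ψ.comp (algebraMap A S) = algebraMap A (AdicCompletion (IsLocalRing.maximalIdeal A) A)) :
    Set.MapsTo (Ideal.comap ψ) (minimalPrimes (AdicCompletion (IsLocalRing.maximalIdeal A) A))
        (minimalPrimes S) ∧
      Set.SurjOn (Ideal.comap ψ) (minimalPrimes (AdicCompletion (IsLocalRing.maximalIdeal A) A))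
        (minimalPrimes S) := by
  have hff := Groth.Hensel1.faithfullyFlat_henselization_completion ψ hψ
  let _ := ψ.toAlgebra
  let Ahat := AdicCompletion (IsLocalRing.maximalIdeal A) A
  have : Module.FaithfullyFlat S Ahat := hff
  have hdown : ∀ q ∈ minimalPrimes Ahat, q.comap (algebraMap S Ahat) ∈ minimalPrimes S := by
    intro q hq
    have : q.IsPrime := hq.1.1
    obtain ⟨P, hP, hPle⟩ := Ideal.exists_minimalPrimes_le (I := (⊥ : Ideal S))
      (J := q.comap (algebraMap S Ahat)) bot_le
    have : P.IsPrime := hP.1.1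
    have hlo : q.LiesOver (q.comap (algebraMap S Ahat)) := ⟨rfl⟩
    obtain ⟨Q, hQle, hQp, hQo⟩ := Ideal.exists_ideal_le_liesOver_of_le (p := P)
      (q := q.comap (algebraMap S Ahat)) q hPle
    have hQq : Q = q := le_antisymm hQle (hq.2 ⟨hQp, bot_le⟩ hQle)
    have h2 : P = q.comap (algebraMap S Ahat) := by rw [hQo.over, hQq]
    rwa [← h2]
  refine ⟨hdown, fun P hP => ?_⟩
  obtain ⟨Q, hQ⟩ := PrimeSpectrum.comap_surjective_of_faithfullyFlat (A := S) (B := Ahat) ⟨P, hP.1.1⟩
  obtain ⟨q, hq, hle⟩ := Ideal.exists_minimalPrimes_le (I := (⊥ : Ideal Ahat)) (J := Q.asIdeal) bot_le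
  have h : Q.asIdeal.comap (algebraMap S Ahat) = P := congrArg PrimeSpectrum.asIdeal hQ
  have h1 : q.comap (algebraMap S Ahat) ≤ P := h ▸ Ideal.comap_mono hle
  exact ⟨q, hq, le_antisymm h1 (hP.2 ⟨(hdown q hq).1.1, bot_le⟩ h1)⟩

end Groth.Agent.S9240
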