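import Groth.Statements.S9242
import Groth.Agent.EtaleAlgebra.HensCompletion

set_option autoImplicit false
universe u
open Brnch

namespace Groth.Agent.S9242

/-- Let A be a Noetherian local ring with henselization S and completion A^, let ψ : S → A^ be the ring
map compatible with the structure maps from A, and let q be a minimal prime of A^ with dim(A^/q) =
1. Then q is the radical of the extension along ψ of some minimal prime of S. -/
theorem result (A S : Type u) [CommRing A]
    [IsLocalRing A] [IsNoetherianRing A] [CommRing S] [IsLocalRing S] [Algebra A S]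
    [IsLocalHom (algebraMap A S)] [Hensel.IsHenselization A S]
    (ψ : S →+* AdicCompletion (IsLocalRing.maximalIdeal A) A)
    (hψ : ψ.comp (algebraMap A S) = algebraMap A (AdicCompletion (IsLocalRing.maximalIdeal A) A))
    (q : Ideal (AdicCompletion (IsLocalRing.maximalIdeal A) A))
    (hq : q ∈ minimalPrimes (AdicCompletion (IsLocalRing.maximalIdeal A) A))
    (hdim : ringKrullDim (AdicCompletion (IsLocalRing.maximalIdeal A) A ⧸ q) = 1) :
    ∃ q' ∈ minimalPrimes S, (Ideal.map ψ q').radical = q := by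
  classical
  let Ahat := AdicCompletion (IsLocalRing.maximalIdeal A) A
  obtain ⟨hSN, hSh, hN, hff, hm, -⟩ := Groth.EtaleAlgebra.Punctured.setting ψ hψ
  have hcp := fun {Q : Ideal Ahat} (hQ : Q.IsPrime) =>
    Groth.EtaleAlgebra.Punctured.comap_eq_maximalIdeal_iff ψ hψ hQ
  let _ := ψ.toAlgebra
  have : Module.FaithfullyFlat S Ahat := hff
  have hqp : q.IsPrime := hq.1.1
  have hqle : q ≤ IsLocalRing.maximalIdeal Ahat := IsLocalRing.le_maximalIdeal hqp.ne_top
  have : IsDomain (Ahat ⧸ q) := Ideal.Quotient.isDomain q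
  have hqm : q ≠ IsLocalRing.maximalIdeal Ahat := by
    intro h0
    rw [ringKrullDim_eq_zero_of_isField ((Ideal.Quotient.maximal_ideal_iff_isField_quotient q).1
      (h0 ▸ IsLocalRing.maximalIdeal.isMaximal _))] at hdim
    exact zero_ne_one hdim
  have habove : ∀ Q : Ideal Ahat, Q.IsPrime → q ≤ Q → Q = q ∨ Q = IsLocalRing.maximalIdeal Ahat := by
    intro Q hQ hle
    by_cases h0 : Q.map (Ideal.Quotient.mk q) = ⊥
    · refine Or.inl (le_antisymm (fun x hx => ?_) hle)
      rw [← Ideal.Quotient.eq_zero_iff_mem, ← Ideal.mem_bot, ← h0]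
      exact Ideal.mem_map_of_mem _ hx
    have : Ring.KrullDimLE 1 (Ahat ⧸ q) := (Ring.krullDimLE_iff).2 hdim.le
    have hQ' : (Q.map (Ideal.Quotient.mk q)).IsPrime :=
      Ideal.map_isPrime_of_surjective Ideal.Quotient.mk_surjective (by rwa [Ideal.mk_ker])
    have hmax := Ideal.comap_isMaximal_of_surjective (Ideal.Quotient.mk q) Ideal.Quotient.mk_surjective
      (H := Ring.krullDimLE_one_iff_of_noZeroDivisors.1 inferInstance _ h0 hQ')
    rw [Ideal.comap_map_of_surjective _ Ideal.Quotient.mk_surjective, ← RingHom.ker_eq_comap_bot,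
      Ideal.mk_ker, sup_eq_left.2 hle] at hmax
    exact Or.inr (IsLocalRing.eq_maximalIdeal hmax)
  have hfin := minimalPrimes.finite_of_isNoetherianRing Ahat
  let F := hfin.toFinset.erase q
  let J₂ : Ideal Ahat := F.inf id
  obtain ⟨I₁, I₂, hI, hJ⟩ := Groth.EtaleAlgebra.Punctured.partition_completion ψ hψ q J₂
    (fun Q hQ => by
      obtain ⟨q', hq', hle⟩ := Ideal.exists_minimalPrimes_le (I := (⊥ : Ideal Ahat)) (J := Q) bot_le
      by_cases h0 : q' = q
      · exact Or.inl (h0 ▸ hle)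
      · exact Or.inr ((Finset.inf_le (f := id) (Finset.mem_erase.2 ⟨h0, hfin.mem_toFinset.2 hq'⟩)).trans hle))
    (fun Q hQ h1 h2 => by
      rcases habove Q hQ h1 with h0 | h0
      · obtain ⟨q', hq', hle⟩ := hQ.inf_le'.1 h2
        obtain ⟨hne, hmem⟩ := Finset.mem_erase.1 hq'
        have hmin := hfin.mem_toFinset.1 hmem
        subst h0
        exact absurd (le_antisymm hle (hq.2 hmin.1 hle)) hne
      · exact h0)
  obtain ⟨p, hp, hple⟩ := Ideal.exists_minimalPrimes_le (I := (⊥ : Ideal S)) (J := q.comap ψ) bot_le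
  have hpq : p = q.comap ψ := by
    have : p.IsPrime := hp.1.1
    have hlo : q.LiesOver (q.comap ψ) := ⟨rfl⟩
    obtain ⟨Q, hQle, hQp, hQo⟩ := Ideal.exists_ideal_le_liesOver_of_le (p := p)
      (q := q.comap ψ) q hple
    have hQq : Q = q := le_antisymm hQle (hq.2 ⟨hQp, bot_le⟩ hQle)
    rw [hQo.over, hQq]
    rfl
  refine ⟨p, hp, le_antisymm (hqp.radical_le_iff.2 (Ideal.map_le_iff_le_comap.2 hpq.le)) ?_⟩
  rw [Ideal.radical_eq_sInf]
  refine le_sInf fun Q ⟨hle, hQ⟩ => ?_
  by_cases hQm : Q = IsLocalRing.maximalIdeal Ahat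
  · exact hQm ▸ hqle
  have hPm : Q.comap ψ ≠ IsLocalRing.maximalIdeal S := fun h0 => hQm ((hcp hQ).1 h0)
  have h1 : I₁ ≤ Q.comap ψ :=
    (((hJ q hqp hqm).1 le_rfl).trans hpq.ge).trans (Ideal.map_le_iff_le_comap.1 hle)
  obtain ⟨q', hq', hq'le⟩ := Ideal.exists_minimalPrimes_le (I := (⊥ : Ideal Ahat)) (J := Q) bot_le
  by_contra hqQ
  have h2 : I₂ ≤ Q.comap ψ := (hJ Q hQ hQm).2 ((Finset.inf_le (f := id) (Finset.mem_erase.2
    ⟨fun (h0 : q' = q) => hqQ (h0 ▸ hq'le), hfin.mem_toFinset.2 hq'⟩)).trans hq'le)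
  exact (hI _ (Ideal.comap_isPrime ψ Q) hPm).2 ⟨h1, h2⟩

end Groth.Agent.S9242
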