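import Groth.Statements.S9243
import Groth.Agent.Hensel1.NormalHomBranches
import Groth.Agent.Hensel1.MinimalPrimesExtended

set_option autoImplicit false
universe u
open Brnch

namespace Groth.Agent.S9243

/-- Let A be a Noetherian local ring with henselization S and completion A^, and ψ : S → A^ the ring map
compatible with the structure maps from A. Then A and A^ have the same number of branches if and
only if, for every minimal prime q of S, the radical of the extension of q along ψ is a prime ideal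
of A^. -/
theorem result (A S : Type u) [CommRing A] [IsLocalRing A]
    [IsNoetherianRing A] [CommRing S] [IsLocalRing S] [Algebra A S] [IsLocalHom (algebraMap A S)]
    [Hensel.IsHenselization A S] (ψ : S →+* AdicCompletion (IsLocalRing.maximalIdeal A) A)
    (hψ : ψ.comp (algebraMap A S) = algebraMap A (AdicCompletion (IsLocalRing.maximalIdeal A) A)) :
    Brnch.numBranches A = Brnch.numBranches (AdicCompletion (IsLocalRing.maximalIdeal A) A) ↔
      ∀ q ∈ minimalPrimes S, (Ideal.map ψ q).radical.IsPrime := by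
  classical
  let Ahat := AdicCompletion (IsLocalRing.maximalIdeal A) A
  have : IsAdicComplete (IsLocalRing.maximalIdeal Ahat) Ahat := by
    rw [AdicCompletion.maximalIdeal_eq_map]
    exact AdicCompletion.isAdicComplete_self _ (IsLocalRing.maximalIdeal A).fg_of_isNoetherianRing
  have := Groth.Calg6.Branch.henselianLocalRing_of_isAdicComplete Ahat
  have : IsNoetherianRing Ahat := Calg1.isNoetherianRing_adicCompletion (IsLocalRing.maximalIdeal A)
    (IsLocalRing.maximalIdeal A).fg_of_isNoetherianRing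
  obtain ⟨M⟩ := Groth.Hensel1.hensModel_of_isHenselization (R := A) (S := S)
  have := M.isNoetherianRing_iff.mp inferInstance
  have hff := Groth.Hensel1.faithfullyFlat_henselization_completion ψ hψ
  let _ := ψ.toAlgebra
  have : Module.FaithfullyFlat S Ahat := hff
  have hdown : ∀ q ∈ minimalPrimes Ahat, q.comap (algebraMap S Ahat) ∈ minimalPrimes S := by
    intro q hq
    have : q.IsPrime := hq.1.1
    obtain ⟨P, hP, hPle⟩ := Ideal.exists_minimalPrimes_le (I := (⊥ : Ideal S))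
      (J := q.comap (algebraMap S Ahat)) bot_le
    have : P.IsPrime := hP.1.1
    have hlo : q.LiesOver (q.comap (algebraMap S Ahat)) := ⟨rfl⟩
    obtain ⟨Q, hQle, hQp, hQo⟩ := Ideal.exists_ideal_le_liesOver_of_le (p := P)
      (q := q.comap (algebraMap S Ahat)) q hPle
    have hQq : Q = q := le_antisymm hQle (hq.2 ⟨hQp, bot_le⟩ hQle)
    have h2 : P = q.comap (algebraMap S Ahat) := by rw [hQo.over, hQq]
    rwa [← h2]
  have habove : ∀ q ∈ minimalPrimes S, ∀ Q ∈ (q.map (algebraMap S Ahat)).minimalPrimes,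
      Q ∈ minimalPrimes Ahat ∧ Q.comap (algebraMap S Ahat) = q := by
    intro q hq Q hQ
    have : Q.IsPrime := hQ.1.1
    have : q.IsPrime := hq.1.1
    obtain ⟨Q₂, hQ₂, hle⟩ := Ideal.exists_minimalPrimes_le (I := (⊥ : Ideal Ahat)) (J := Q) bot_le
    have hlo : Q.LiesOver (Q.comap (algebraMap S Ahat)) := ⟨rfl⟩
    obtain ⟨Q₁, hQ₁, hQ₁p, hQ₁o⟩ := Ideal.exists_ideal_le_liesOver_of_le (p := q)
      (q := Q.comap (algebraMap S Ahat)) Q (Ideal.map_le_iff_le_comap.mp hQ.1.2)
    have h1 : Q₁ = Q := le_antisymm hQ₁ (hQ.2 ⟨hQ₁p, Ideal.map_le_iff_le_comap.mpr hQ₁o.over.le⟩ hQ₁)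
    have h2 : Q.comap (algebraMap S Ahat) = q := by rw [← h1]; exact hQ₁o.over.symm
    have h3 : Q₂.comap (algebraMap S Ahat) ≤ q := h2 ▸ Ideal.comap_mono hle
    have h4 : q ≤ Q₂.comap (algebraMap S Ahat) := hq.2 ⟨(hdown Q₂ hQ₂).1.1, bot_le⟩ h3
    have h5 : Q ≤ Q₂ := hQ.2 ⟨hQ₂.1.1, Ideal.map_le_iff_le_comap.mpr h4⟩ hle
    exact ⟨le_antisymm h5 hle ▸ hQ₂, h2⟩
  let π : minimalPrimes Ahat → minimalPrimes S := fun Q => ⟨_, hdown Q.1 Q.2⟩
  have hπ : Function.Surjective π := by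
    intro q
    have : q.1.IsPrime := q.2.1.1
    obtain ⟨P, hP⟩ := PrimeSpectrum.comap_surjective_of_faithfullyFlat (A := S) (B := Ahat) ⟨q.1, inferInstance⟩
    obtain ⟨Q, hQ, hle⟩ := Ideal.exists_minimalPrimes_le (I := (⊥ : Ideal Ahat)) (J := P.asIdeal) bot_le
    have h1 : Q.comap (algebraMap S Ahat) ≤ q.1 :=
      (congrArg PrimeSpectrum.asIdeal hP).le.trans' (Ideal.comap_mono hle)
    exact ⟨⟨Q, hQ⟩, Subtype.ext (le_antisymm h1 (q.2.2 ⟨(hdown Q hQ).1.1, bot_le⟩ h1))⟩
  have := (minimalPrimes.finite_of_isNoetherianRing S).to_subtype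
  rw [← Groth.Hensel1.card_minimalPrimes_henselization_eq_numBranches A S,
    Groth.Hensel1.numBranches_eq_card_minimalPrimes_of_henselian Ahat, eq_comm,
    ← Groth.Hensel1.injective_iff_card_eq hπ]
  refine ⟨fun h q hq => ?_, fun h Q₁ Q₂ hQQ => ?_⟩
  · obtain ⟨Q, hQ⟩ := hπ ⟨q, hq⟩
    have hne : q.map (algebraMap S Ahat) ≤ Q.1 := by
      rw [Ideal.map_le_iff_le_comap]; exact (congrArg Subtype.val hQ).ge
    obtain ⟨Q₀, hQ₀, -⟩ := @Ideal.exists_minimalPrimes_le _ _ (q.map (algebraMap S Ahat)) Q.1 Q.2.1.1 hne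
    have huniq : ∀ P ∈ (q.map (algebraMap S Ahat)).minimalPrimes, P = Q.1 := fun P hP => by
      obtain ⟨hPm, hPq⟩ := habove q hq P hP
      exact congrArg Subtype.val (h (a₁ := ⟨P, hPm⟩) (a₂ := Q) (hQ ▸ Subtype.ext hPq))
    show (q.map (algebraMap S Ahat)).radical.IsPrime
    rw [← Ideal.sInf_minimalPrimes, show (q.map (algebraMap S Ahat)).minimalPrimes = {Q.1} from
      Set.eq_singleton_iff_unique_mem.mpr ⟨huniq Q₀ hQ₀ ▸ hQ₀, huniq⟩, sInf_singleton]
    exact Q.2.1.1
  · have hp : (Q₁.1.comap (algebraMap S Ahat)).map (algebraMap S Ahat) ≤ Q₁.1 := Ideal.map_comap_le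
    let R := ((Q₁.1.comap (algebraMap S Ahat)).map (algebraMap S Ahat)).radical
    have hR : R.IsPrime := h _ (hdown Q₁.1 Q₁.2)
    have h1 : R ≤ Q₁.1 := (Q₁.2.1.1.radical_le_iff).mpr hp
    have h2 : R ≤ Q₂.1 := (Q₂.2.1.1.radical_le_iff).mpr (by
      rw [show Q₁.1.comap (algebraMap S Ahat) = Q₂.1.comap (algebraMap S Ahat) from congrArg Subtype.val hQQ]
      exact Ideal.map_comap_le)
    exact Subtype.ext ((le_antisymm (Q₁.2.2 ⟨hR, bot_le⟩ h1) h1).trans
      (le_antisymm h2 (Q₂.2.2 ⟨hR, bot_le⟩ h2)))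

end Groth.Agent.S9243
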