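import Groth.Statements.S9244
import Groth.Agent.Hensel1.NormalHomBranches

set_option autoImplicit false
universe u
open Brnch

namespace Groth.Agent.S9244

/-- Let A be a Noetherian local ring all of whose formal fibres are geometrically normal (for example a
quasi-excellent local ring). Then A and its completion A^ have the same number of branches and the
same number of geometric branches. (The published statement also concludes that A is Nagata; this
row omits that conclusion.) -/
theorem result (A : Type u) [CommRing A]
    [IsLocalRing A] [IsNoetherianRing A] (hA : EGA4.HasGeomNormalFormalFibres A) :
    Brnch.numBranches (AdicCompletion (IsLocalRing.maximalIdeal A) A) = Brnch.numBranches A ∧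
      Brnch.numGeomBranches (AdicCompletion (IsLocalRing.maximalIdeal A) A) =
        Brnch.numGeomBranches A := by
  exact Groth.Hensel1.branches_completion_eq A hA

end Groth.Agent.S9244
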