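import Groth.Statements.S9245
import Mathlib

set_option autoImplicit false
universe u
open CAlg

namespace Groth.Agent.S9245

/-- For an étale ring map A → B and a prime q of B with contraction p in A, the localization A_p is a
Noetherian ring exactly when the localization B_q is. -/
theorem result (A B : Type u) [CommRing A] [CommRing B]
    [Algebra A B] [Algebra.Etale A B] (q : Ideal B) [q.IsPrime] :
    IsNoetherianRing (Localization.AtPrime (Ideal.comap (algebraMap A B) q)) ↔
      IsNoetherianRing (Localization.AtPrime q) := by
  set p := Ideal.comap (algebraMap A B) q
  let : Algebra (Localization.AtPrime p) (Localization.AtPrime q) :=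
    (Localization.localRingHom p q (algebraMap A B) rfl).toAlgebra
  have : IsScalarTower A (Localization.AtPrime p) (Localization.AtPrime q) :=
    IsScalarTower.of_algebraMap_eq fun a => by
      rw [RingHom.algebraMap_toAlgebra, Localization.localRingHom_to_map,
        IsScalarTower.algebraMap_apply A B (Localization.AtPrime q)]
  have : IsLocalHom (algebraMap (Localization.AtPrime p) (Localization.AtPrime q)) :=
    Localization.isLocalHom_localRingHom p q (algebraMap A B) rfl
  constructor <;> intro hN
  · have : Algebra.EssFiniteType B (Localization.AtPrime q) :=
      Algebra.EssFiniteType.of_isLocalization _ q.primeCompl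
    have : Algebra.EssFiniteType A (Localization.AtPrime q) := Algebra.EssFiniteType.comp A B _
    have : Algebra.EssFiniteType (Localization.AtPrime p) (Localization.AtPrime q) :=
      Algebra.EssFiniteType.of_comp A _ _
    exact Algebra.EssFiniteType.isNoetherianRing (Localization.AtPrime p) _
  · have : Module.Flat A (Localization.AtPrime q) := Module.Flat.trans A B _
    have : Module.Flat (Localization.AtPrime p) (Localization.AtPrime q) :=
      (Module.flat_iff_of_isLocalization (Localization.AtPrime p) p.primeCompl _).mpr inferInstance
    have := Module.FaithfullyFlat.of_flat_of_isLocalHom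
      (A := Localization.AtPrime p) (B := Localization.AtPrime q)
    have hm : StrictMono (Ideal.map (algebraMap (Localization.AtPrime p) (Localization.AtPrime q))) :=
      Monotone.strictMono_of_injective (fun _ _ h => Ideal.map_mono h) fun a b h => by
        rw [← Ideal.comap_map_eq_self_of_faithfullyFlat (B := Localization.AtPrime q) a, h,
          Ideal.comap_map_eq_self_of_faithfullyFlat]
    exact isNoetherianRing_iff.mpr (isNoetherian_iff'.mpr hm.wellFoundedGT)

end Groth.Agent.S9245
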