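import Groth.Statements.S9247
import Groth.Agent.PicAux.RegularUFD

set_option autoImplicit false
universe u
open CAlg

namespace Groth.Agent.S9247

/-- For a regular local ring R and an element f of R, the Picard group of R_f is trivial. -/
theorem result (R : Type u) [CommRing R]
    [IsRegularLocalRing R] (f : R) : Subsingleton (CommRing.Pic (Localization.Away f)) := by
  classical
  rcases eq_or_ne f 0 with rfl | hf
  · have : Subsingleton (Localization.Away (0 : R)) :=
      IsLocalization.subsingleton (M := Submonoid.powers (0 : R)) (S := Localization.Away (0 : R))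
        (Submonoid.mem_powers 0)
    exact CommRing.Pic.subsingleton_iffₛ.mpr fun M _ _ _ => by
      have := Module.subsingleton (Localization.Away (0 : R)) M
      exact inferInstance
  have := Groth.Ega4Algebra1.isDomain_of_isRegularLocalRing R
  have := Groth.PicAux.ufd_of_isRegularLocalRing R
  let L := Localization.Away f
  have hle : Submonoid.powers f ≤ nonZeroDivisors R := powers_le_nonZeroDivisors_of_noZeroDivisors hf
  have : IsDomain L := IsLocalization.isDomain_of_le_nonZeroDivisors (R := R) (S := L) hle
  have : UniqueFactorizationMonoid L := by
    refine UniqueFactorizationMonoid.iff_exists_prime_mem_of_isPrime.mpr fun Q hQ hQp => ?_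
    obtain ⟨hp', hdisj⟩ := (IsLocalization.isPrime_iff_isPrime_disjoint (Submonoid.powers f) L Q).mp hQp
    have hne : Q.comap (algebraMap R L) ≠ ⊥ := fun h => hQ (by
      rw [← IsLocalization.map_under (Submonoid.powers f) L Q, show Q.under R = ⊥ from h, Ideal.map_bot])
    obtain ⟨p, hpQ, hp⟩ := hp'.exists_mem_prime_of_ne_bot hne
    refine ⟨algebraMap R L p, hpQ, ?_⟩
    have hpp : (Ideal.span {p}).IsPrime := (Ideal.span_singleton_prime hp.ne_zero).mpr hp
    have := IsLocalization.isPrime_of_isPrime_disjoint (Submonoid.powers f) L _ hpp
      (Disjoint.mono_right (fun x hx => (Ideal.span_singleton_le_iff_mem _).mpr hpQ hx) hdisj)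
    rw [Ideal.map_span, Set.image_singleton] at this
    exact (Ideal.span_singleton_prime fun h => hp.ne_zero ((IsLocalization.injective L hle)
      (h.trans (map_zero _).symm))).mp this
  infer_instance

end Groth.Agent.S9247
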