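import Groth.Statements.S9254
import Groth.Agent.Calg5.RelGCIFlat

set_option autoImplicit false
universe u
attribute [local instance] HasDerivedCategory.standard
open CategoryTheory
open Synt

namespace Groth.Agent.S9254

/-- Let R be a ring and F_1, ..., F_c polynomials in R[x_1, ..., x_n] that present R[x_1, ...,
x_n]/(F_1, ..., F_c) as a relative global complete intersection over R. Then the Koszul complex of
F_1, ..., F_c over the polynomial ring is exact outside degree zero, that is, F_1, ..., F_c form a
Koszul-regular sequence. -/
theorem result (R : Type u) [CommRing R] (n c : ℕ)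
    (F : Fin c → MvPolynomial (Fin n) R) (h : Synt.IsRelGCI R n c F) :
    LCI.IsKoszulRegularSeq (MvPolynomial (Fin n) R) (List.ofFn F) := by
  exact Groth.Calg5.RelGCI.isKoszulRegularSeq_of_isRelGCI h

end Groth.Agent.S9254
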