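import Groth.Statements.S9255
import Groth.Agent.Ega4Algebra1.GenericRegular

set_option autoImplicit false
universe u
open EGA4

namespace Groth.Agent.S9255

/-- Let R be a Noetherian domain and R → S an injective ring map of finite type with S a domain. If the
regular locus of Spec S contains a nonempty open subset, then the regular locus of Spec R contains a
nonempty open subset. -/
theorem result (R S : Type u) [CommRing R]
    [IsDomain R] [IsNoetherianRing R] [CommRing S] [IsDomain S] [Algebra R S] [Algebra.FiniteType R S]
    (hinj : Function.Injective (algebraMap R S))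
    (hS : ∃ U : Set (PrimeSpectrum S), IsOpen U ∧ U.Nonempty ∧ U ⊆ EGA4.regLocus S) :
    ∃ U : Set (PrimeSpectrum R), IsOpen U ∧ U.Nonempty ∧ U ⊆ EGA4.regLocus R := by
  exact Groth.Ega4Algebra1.exists_open_regLocus_of_injective R S hinj hS

end Groth.Agent.S9255
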