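import Groth.Statements.S9257
import Groth.Agent.Ega4Algebra2.FormalFibreSurj
-- import your own Groth.Agent.* helpers here

set_option autoImplicit false
universe u
open CAlg

namespace Groth.Agent.S9257

/-- A Noetherian ring R is a G-ring exactly when, for all primes q ⊆ p of R, the completion of the local
domain (R/q)_p tensored with its fraction field κ(q) is geometrically regular over κ(q). Here the
pairs q ⊆ p are enumerated as primes P of R/q. -/
theorem result (R : Type u) [CommRing R] [IsNoetherianRing R] :
    CAlg.IsGRing R ↔
      ∀ (q : Ideal R) [q.IsPrime] (P : Ideal (R ⧸ q)) [P.IsPrime],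
        CAlg.IsGeometricallyRegular (⊥ : Ideal (Localization.AtPrime P)).ResidueField
          (EGA4.formalFibre (Localization.AtPrime P) (⊥ : Ideal (Localization.AtPrime P))) := by
  classical
  constructor
  · rintro ⟨-, h⟩ q _ P _
    let p := P.comap (Ideal.Quotient.mk q)
    let φ := Localization.localRingHom p P (Ideal.Quotient.mk q) rfl
    have hφ : Function.Surjective φ := by
      have hmap : p.primeCompl.map (Ideal.Quotient.mk q) = P.primeCompl := by
        ext y
        refine ⟨by rintro ⟨x, hx, rfl⟩; exact hx, fun hy => ?_⟩
        obtain ⟨x, rfl⟩ := Ideal.Quotient.mk_surjective y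
        exact ⟨x, hy, rfl⟩
      haveI : IsLocalization (p.primeCompl.map (Ideal.Quotient.mk q)) (Localization.AtPrime P) := by
        rw [hmap]; infer_instance
      exact IsLocalization.map_surjective_of_surjective p.primeCompl (Localization.AtPrime p) (Localization.AtPrime P)
        Ideal.Quotient.mk_surjective
    exact (Groth.Ega4b.isGeometricallyRegular_formalFibre_iff_of_surjective φ hφ
      ((⊥ : Ideal (Localization.AtPrime P)).comap φ) ⊥ rfl).1 ((h p).2 _).2
  · intro h
    refine ⟨inferInstance, fun p _ => ⟨inferInstance, fun q' _ => ?_⟩⟩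
    let q := q'.comap (algebraMap R (Localization.AtPrime p))
    have hqp : q ≤ p := by
      have h1 := Ideal.comap_mono (f := algebraMap R (Localization.AtPrime p))
        (IsLocalRing.le_maximalIdeal (‹q'.IsPrime›.ne_top))
      exact h1.trans (IsLocalization.AtPrime.comap_maximalIdeal (Localization.AtPrime p) p).le
    let P := p.map (Ideal.Quotient.mk q)
    haveI : P.IsPrime := Ideal.map_isPrime_of_surjective Ideal.Quotient.mk_surjective (by rwa [Ideal.mk_ker])
    have hpP : p = P.comap (Ideal.Quotient.mk q) := by
      rw [Ideal.comap_map_quotientMk, sup_eq_right.2 hqp]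
    let φ := Localization.localRingHom p P (Ideal.Quotient.mk q) hpP
    have hmap : p.primeCompl.map (Ideal.Quotient.mk q) = P.primeCompl := by
      ext y
      refine ⟨?_, fun hy => ?_⟩
      · rintro ⟨x, hx, rfl⟩
        exact fun hxP => hx (by rw [hpP]; exact hxP)
      · obtain ⟨x, rfl⟩ := Ideal.Quotient.mk_surjective y
        exact ⟨x, fun hx => hy (Ideal.mem_map_of_mem _ hx), rfl⟩
    have hφ : Function.Surjective φ := by
      haveI : IsLocalization (p.primeCompl.map (Ideal.Quotient.mk q)) (Localization.AtPrime P) := by
        rw [hmap]; infer_instance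
      exact IsLocalization.map_surjective_of_surjective p.primeCompl (Localization.AtPrime p) (Localization.AtPrime P)
        Ideal.Quotient.mk_surjective
    have hker : q' = (⊥ : Ideal (Localization.AtPrime P)).comap φ := by
      rw [← RingHom.ker_eq_comap_bot, show RingHom.ker φ = _ from IsLocalization.ker_map _ _ hmap, Ideal.mk_ker]
      exact (IsLocalization.map_under p.primeCompl _ q').symm
    have key := (Groth.Ega4b.isGeometricallyRegular_formalFibre_iff_of_surjective φ hφ q' ⊥ hker).2 (h q P)
    refine ⟨?_, key⟩
    haveI : IsNoetherianRing (TensorProduct q'.ResidueField q'.ResidueField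
        (q'.Fiber (EGA4.Cpl (Localization.AtPrime p)))) := (key q'.ResidueField inferInstance).toIsNoetherian
    exact isNoetherianRing_of_ringEquiv
      (TensorProduct q'.ResidueField q'.ResidueField (q'.Fiber (EGA4.Cpl (Localization.AtPrime p))))
      (Algebra.TensorProduct.lid q'.ResidueField (q'.Fiber (EGA4.Cpl (Localization.AtPrime p)))).toRingEquiv

end Groth.Agent.S9257
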