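import Groth.Statements.S9259
import Groth.Agent.Calg4.RegularHomSmooth

set_option autoImplicit false
universe u
open CAlg

namespace Groth.Agent.S9259


open TensorProduct

theorem isNoetherianRing_tensor (R B L : Type u) [CommRing R] [CommRing B] [IsNoetherianRing B]
    [CommRing L] [Algebra R B] [Algebra R L] [Algebra.EssFiniteType R L] :
    IsNoetherianRing (L ⊗[R] B) := by
  have : IsNoetherianRing (B ⊗[R] L) := Algebra.EssFiniteType.isNoetherianRing B (B ⊗[R] L)
  exact isNoetherianRing_of_ringEquiv (B ⊗[R] L) (Algebra.TensorProduct.comm R B L).toRingEquiv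

theorem forall_local (R Λ : Type u) [CommRing R] [CommRing Λ] [Algebra R Λ]
    (h : CAlg.IsRegularHom R Λ) (q : Ideal Λ) [q.IsPrime] :
    letI := (Localization.localRingHom (Ideal.comap (algebraMap R Λ) q) q (algebraMap R Λ) rfl).toAlgebra
    CAlg.IsRegularHom (Localization.AtPrime (Ideal.comap (algebraMap R Λ) q))
      (Localization.AtPrime q) := by
  let p := Ideal.comap (algebraMap R Λ) q
  let := (Localization.localRingHom p q (algebraMap R Λ) rfl).toAlgebra
  have : IsScalarTower R (Localization.AtPrime p) (Localization.AtPrime q) :=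
    IsScalarTower.of_algebraMap_eq fun r => by
      rw [IsScalarTower.algebraMap_apply R Λ (Localization.AtPrime q)]
      exact (Localization.localRingHom_to_map p q (algebraMap R Λ) rfl r).symm
  exact Groth.Calg4.IsRegularHom.localization_source p.primeCompl
    (Groth.Calg4.IsRegularHom.localization h q.primeCompl (Localization.AtPrime q))

theorem of_forall_maximal (R Λ : Type u) [CommRing R] [CommRing Λ] [Algebra R Λ]
    [IsNoetherianRing Λ]
    (h : ∀ (n : Ideal Λ) [n.IsMaximal],
        letI := (Localization.localRingHom (Ideal.comap (algebraMap R Λ) n) n (algebraMap R Λ) rfl).toAlgebra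
        CAlg.IsRegularHom (Localization.AtPrime (Ideal.comap (algebraMap R Λ) n))
          (Localization.AtPrime n)) :
    CAlg.IsRegularHom R Λ := by
  have hn : ∀ (n : Ideal Λ) [n.IsMaximal], CAlg.IsRegularHom R (Localization.AtPrime n) := by
    intro n _
    let p := Ideal.comap (algebraMap R Λ) n
    let := (Localization.localRingHom p n (algebraMap R Λ) rfl).toAlgebra
    have : IsScalarTower R (Localization.AtPrime p) (Localization.AtPrime n) :=
      IsScalarTower.of_algebraMap_eq fun r => by
        rw [IsScalarTower.algebraMap_apply R Λ (Localization.AtPrime n)]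
        exact (Localization.localRingHom_to_map p n (algebraMap R Λ) rfl r).symm
    exact Groth.Calg4.IsRegularHom.trans
      (Groth.Calg4.IsRegularHom.localization (Groth.Calg4.isRegularHom_of_smooth R R) p.primeCompl
        (Localization.AtPrime p))
      (h n) fun p' _ => isNoetherianRing_tensor R _ p'.ResidueField
  refine Groth.Calg4.isRegularHom_of_isRegularRing_tensor ?_ fun L _ _ hL => ?_
  · exact Module.flat_of_isLocalized_maximal (S := Λ) (M := Λ)
      (fun P _ => Localization.AtPrime P) (fun P _ => Algebra.linearMap Λ _) fun P _ => (hn P).1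
  · have : IsNoetherianRing (Λ ⊗[R] L) := Algebra.EssFiniteType.isNoetherianRing Λ (Λ ⊗[R] L)
    have : IsRegularRing (Λ ⊗[R] L) := isRegularRing_iff.mpr fun P _ => by
      obtain ⟨n, _, hqn⟩ := Ideal.exists_le_maximal (P.comap (algebraMap Λ (Λ ⊗[R] L)))
        (Ideal.IsPrime.comap (algebraMap Λ (Λ ⊗[R] L))).ne_top
      let M := Algebra.algebraMapSubmonoid (Λ ⊗[R] L) n.primeCompl
      let T := (Λ ⊗[R] L) ⊗[Λ] Localization.AtPrime n
      have := Groth.Calg4.IsRegularHom.isRegularRing_tensor (hn n) L
      have : IsRegularRing T :=
        IsRegularRing.of_ringEquiv (Groth.Calg4.fibreTower R Λ (Localization.AtPrime n) L).symm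
      have hdisj : Disjoint (M : Set (Λ ⊗[R] L)) (P : Set (Λ ⊗[R] L)) := by
        rw [Set.disjoint_left]
        rintro _ ⟨x, hx, rfl⟩ hxP
        exact hx (hqn hxP)
      let P' := Ideal.map (algebraMap (Λ ⊗[R] L) T) P
      have : P'.IsPrime := IsLocalization.isPrime_of_isPrime_disjoint M T P inferInstance hdisj
      have hc : P'.comap (algebraMap (Λ ⊗[R] L) T) = P :=
        IsLocalization.under_map_of_isPrime_disjoint M T inferInstance hdisj
      have h1 := (Groth.Calg4.isRegularLocalRing_localization_iff M P').mp inferInstance
      exact IsRegularLocalRing.of_ringEquiv (R := Localization.AtPrime (P'.comap (algebraMap (Λ ⊗[R] L) T)))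
        (Localization.localRingEquiv _ P (RingEquiv.refl _) hc)
    exact IsRegularRing.of_ringEquiv (Algebra.TensorProduct.comm R Λ L).toRingEquiv

/-- Regularity of a ring map is a local property: for a ring map R → Λ with Noetherian target,
regularity of R → Λ is equivalent to regularity of every induced local map R_p → Λ_q (q a prime of
Λ, p = q ∩ R), and also to regularity of those induced maps at the maximal ideals q of Λ. (The maps
of local rings are the canonical localized maps.) -/
theorem result (R Λ : Type u) [CommRing R] [CommRing Λ] [Algebra R Λ]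
    [IsNoetherianRing Λ] :
    (CAlg.IsRegularHom R Λ ↔
      ∀ (q : Ideal Λ) [q.IsPrime],
        letI := (Localization.localRingHom (Ideal.comap (algebraMap R Λ) q) q (algebraMap R Λ) rfl).toAlgebra
        CAlg.IsRegularHom (Localization.AtPrime (Ideal.comap (algebraMap R Λ) q))
          (Localization.AtPrime q)) ∧
    (CAlg.IsRegularHom R Λ ↔
      ∀ (n : Ideal Λ) [n.IsMaximal],
        letI := (Localization.localRingHom (Ideal.comap (algebraMap R Λ) n) n (algebraMap R Λ) rfl).toAlgebra
        CAlg.IsRegularHom (Localization.AtPrime (Ideal.comap (algebraMap R Λ) n))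
          (Localization.AtPrime n)) := by
  refine ⟨⟨fun h q _ => forall_local R Λ h q, fun h => ?_⟩,
    ⟨fun h n _ => forall_local R Λ h n, fun h => of_forall_maximal R Λ h⟩⟩
  exact of_forall_maximal R Λ fun n hn => h n

end Groth.Agent.S9259
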