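import Groth.Statements.S9260
import Mathlib

set_option autoImplicit false
universe u
open CAlg

namespace Groth.Agent.S9260

/-- Suppose a finite group G with n elements acts on a ring R by ring automorphisms, A → R is a ring map
compatible with the action whose image contains the invariants (so that A maps onto R^G), J is an
ideal of A, and x lies in JR. Then ∏_σ (T - σ(x)) is the image of a monic polynomial over A of
degree at most n whose coefficients below degree n all lie in J. (The published statement takes A =
R^G and a polynomial of degree n; this row allows any such A mapping onto R^G and asks degree at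
most n, which is the same when A is nonzero.) -/
theorem result (A R G : Type u) [CommRing A]
    [CommRing R] [Algebra A R] [Group G] [Fintype G] [MulSemiringAction G R] [SMulCommClass G A R]
    [Algebra.IsInvariant A R G] (J : Ideal A) (x : R) (hx : x ∈ Ideal.map (algebraMap A R) J) :
    ∃ P : Polynomial A, P.Monic ∧ P.natDegree ≤ Fintype.card G ∧
      (∀ i : ℕ, i < Fintype.card G → P.coeff i ∈ J) ∧
      Polynomial.map (algebraMap A R) P = ∏ σ : G, (Polynomial.X - Polynomial.C (σ • x)) := by
  classical
  rcases subsingleton_or_nontrivial R with hR | hR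
  · refine ⟨Polynomial.X ^ Fintype.card G, Polynomial.monic_X_pow _, Polynomial.natDegree_X_pow_le _,
      fun i hi => ?_, Subsingleton.elim _ _⟩
    rw [Polynomial.coeff_X_pow, if_neg hi.ne]; exact J.zero_mem
  obtain ⟨m, a, r, ha, rfl⟩ : ∃ (m : ℕ) (a : Fin m → A) (r : Fin m → R),
      (∀ k, a k ∈ J) ∧ x = ∑ k, algebraMap A R (a k) * r k := by
    induction hx using Submodule.span_induction with
    | mem y hy =>
      obtain ⟨c, hc, rfl⟩ := hy
      exact ⟨1, fun _ => c, fun _ => 1, fun _ => hc, by simp⟩
    | zero => exact ⟨0, Fin.elim0, Fin.elim0, fun k => k.elim0, by simp⟩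
    | add y z _ _ hy hz =>
      obtain ⟨m, a, r, ha, rfl⟩ := hy
      obtain ⟨m', a', r', ha', rfl⟩ := hz
      refine ⟨m + m', Fin.append a a', Fin.append r r', fun k => ?_, by simp [Fin.sum_univ_add]⟩
      refine Fin.addCases (fun k => ?_) (fun k => ?_) k <;> simp [ha, ha']
    | smul c y _ hy =>
      obtain ⟨m, a, r, ha, rfl⟩ := hy
      refine ⟨m, a, fun k => c * r k, ha, ?_⟩
      rw [smul_eq_mul, Finset.mul_sum]
      exact Finset.sum_congr rfl fun k _ => by ring
  let L : G → MvPolynomial (Fin m) R := fun σ => ∑ k, MvPolynomial.X k * MvPolynomial.C (σ • r k)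
  let Q : Polynomial (MvPolynomial (Fin m) R) := ∏ σ : G, (Polynomial.X - Polynomial.C (L σ))
  have h0 : ∀ i, i < Fintype.card G → MvPolynomial.constantCoeff (Q.coeff i) = 0 := by
    intro i hi
    rw [← Polynomial.coeff_map, Polynomial.map_prod]
    simp [L, Polynomial.coeff_X_pow, hi.ne, Polynomial.map_sum]
  have hinv : ∀ i (τ : G),
      MvPolynomial.map (MulSemiringAction.toRingHom G R τ) (Q.coeff i) = Q.coeff i := by
    intro i τ
    rw [← Polynomial.coeff_map, Polynomial.map_prod]
    simp only [Polynomial.map_sub, Polynomial.map_X, Polynomial.map_C]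
    congr 1
    refine Fintype.prod_equiv (Equiv.mulLeft τ) _ _ fun σ => ?_
    simp [L, mul_smul]
  have hlift : ∀ i, ∃ q : MvPolynomial (Fin m) A,
      MvPolynomial.map (algebraMap A R) q = Q.coeff i ∧
        (i < Fintype.card G → MvPolynomial.constantCoeff q = 0) := by
    intro i
    have hc : ∀ d, ∃ c : A, algebraMap A R c = (Q.coeff i).coeff d ∧
        ((Q.coeff i).coeff d = 0 → c = 0) := by
      intro d
      by_cases hd : (Q.coeff i).coeff d = 0
      · exact ⟨0, by simp [hd], fun _ => rfl⟩
      · obtain ⟨c, hc⟩ := Algebra.IsInvariant.isInvariant (A := A) (G := G) ((Q.coeff i).coeff d)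
          fun τ => by
            have := congrArg (fun p => MvPolynomial.coeff d p) (hinv i τ)
            simpa [MvPolynomial.coeff_map] using this
        exact ⟨c, hc, fun h => absurd h hd⟩
    choose c hc hc0 using hc
    refine ⟨∑ d ∈ (Q.coeff i).support, MvPolynomial.monomial d (c d), ?_, fun hi => ?_⟩
    · rw [map_sum]
      simp only [MvPolynomial.map_monomial, hc]
      exact MvPolynomial.support_sum_monomial_coeff _
    · have : c 0 = 0 := hc0 0 (by simpa [MvPolynomial.constantCoeff_eq] using h0 i hi)
      rw [MvPolynomial.constantCoeff_eq, MvPolynomial.coeff_sum]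
      refine Finset.sum_eq_zero fun d _ => ?_
      rw [MvPolynomial.coeff_monomial]
      split_ifs with h
      · subst h; exact this
      · rfl
  choose q hq hq0 using hlift
  have hJ : ∀ i, i < Fintype.card G → MvPolynomial.eval a (q i) ∈ J := by
    intro i hi
    rw [← Ideal.Quotient.eq_zero_iff_mem, MvPolynomial.map_eval]
    have hz : (Ideal.Quotient.mk J) ∘ a = 0 := funext fun k => Ideal.Quotient.eq_zero_iff_mem.mpr (ha k)
    rw [hz, MvPolynomial.eval_zero, MvPolynomial.constantCoeff_map, hq0 i hi, map_zero]
  set n := Fintype.card G with hn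
  let P : Polynomial A :=
    Polynomial.X ^ n + ∑ i ∈ Finset.range n, Polynomial.C (MvPolynomial.eval a (q i)) * Polynomial.X ^ i
  have hdeg : (∑ i ∈ Finset.range n, Polynomial.C (MvPolynomial.eval a (q i)) * Polynomial.X ^ i).degree
      < (n : WithBot ℕ) := by
    refine (Polynomial.degree_sum_le _ _).trans_lt ((Finset.sup_lt_iff (WithBot.bot_lt_coe n)).mpr ?_)
    intro i hi
    exact (Polynomial.degree_C_mul_X_pow_le _ _).trans_lt (WithBot.coe_lt_coe.mpr (Finset.mem_range.mp hi))
  refine ⟨P, Polynomial.monic_X_pow_add hdeg, ?_, ?_, ?_⟩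
  · refine Polynomial.natDegree_le_iff_coeff_eq_zero.mpr fun i hi => ?_
    simp [P, Polynomial.coeff_X_pow, hi.ne', not_lt.mpr hi.le]
  · intro i hi
    simpa [P, Polynomial.coeff_X_pow, hi.ne, hi] using hJ i hi
  · let ev : MvPolynomial (Fin m) R →+* R := MvPolynomial.eval (fun k => algebraMap A R (a k))
    have hQ : Q.map ev = ∏ σ : G, (Polynomial.X - Polynomial.C (σ • ∑ k, algebraMap A R (a k) * r k)) := by
      rw [Polynomial.map_prod]
      refine Finset.prod_congr rfl fun σ _ => ?_
      simp [ev, L, Finset.smul_sum, smul_mul', smul_algebraMap, Polynomial.map_sum]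
    rw [← hQ]
    have hm : (Q.map ev).Monic := (Polynomial.monic_prod_X_sub_C _ _).map _
    have hd : (Q.map ev).natDegree = n := by
      rw [(Polynomial.monic_prod_X_sub_C _ _).natDegree_map, Polynomial.natDegree_finsetProd_X_sub_C_eq_card]
      rfl
    rw [hm.as_sum, hd]
    simp only [P, Polynomial.map_add, Polynomial.map_pow, Polynomial.map_X, Polynomial.map_sum,
      Polynomial.map_mul, Polynomial.map_C]
    refine congrArg _ (Finset.sum_congr rfl fun i _ => ?_)
    rw [Polynomial.coeff_map, ← hq i, MvPolynomial.map_eval]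
    simp [ev, MvPolynomial.eval_map, Function.comp_def]

end Groth.Agent.S9260
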