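import Groth.Statements.S9263
import Mathlib.Algebra.Homology.HomotopyCategory.Pretriangulated

set_option autoImplicit false
set_option linter.style.haveILetI false
universe u
attribute [local instance] HasDerivedCategory.standard
open CategoryTheory
open DerCA CategoryTheory.Pretriangulated CategoryTheory.Limits

namespace Groth.Agent.S9263

/-- Let R be a ring, f_1, ..., f_r elements of R such that some f_i is a unit, and M an R-module. Then
the extended alternating Cech complex of M with respect to f_1, ..., f_r is homotopy equivalent to
zero: its identity map is null-homotopic. -/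
theorem result (R : Type u) [CommRing R] (fs : List R)
    (hf : ∃ f ∈ fs, IsUnit f) (M : ModuleCat.{u} R) :
    Nonempty (Homotopy (𝟙 (DerCA.extCech M fs)) 0) := by
  refine (HomotopyCategory.isZero_quotient_obj_iff _).1 ?_
  induction fs with
  | nil => simp at hf
  | cons f fs ih =>
    let Qc := HomotopyCategory.quotient (ModuleCat.{u} R) (ComplexShape.up ℤ)
    let S := Submonoid.powers f
    let K := DerCA.extCech M fs
    let φ := DerCA.locCxUnit S K
    have hT : CochainComplex.mappingCone.triangleh φ ∈ distinguishedTriangles :=
      HomotopyCategory.mappingCone_triangleh_distinguished φ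
    have key : IsZero (Qc.obj (CochainComplex.mappingCone φ)) := by
      by_cases hu : IsUnit f
      · haveI : ∀ N : ModuleCat.{u} R, IsIso ((DerCA.locUnit S).app N) := fun N => by
          refine (ConcreteCategory.isIso_iff_bijective _).2 ⟨fun x y hxy => ?_, fun z => ?_⟩
          · obtain ⟨⟨s, n, rfl⟩, hs⟩ := LocalizedModule.mk_eq.1 hxy
            simpa [Submonoid.smul_def, (hu.pow n).smul_left_cancel] using hs
          · induction z using LocalizedModule.induction_on with
            | h x s =>
              obtain ⟨s, n, rfl⟩ := s
              obtain ⟨v, hv⟩ := hu.pow n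
              refine ⟨(↑v⁻¹ : R) • x, ?_⟩
              refine LocalizedModule.mk_eq.2 ⟨1, ?_⟩
              simp [Submonoid.smul_def, ← mul_smul, ← hv]
        haveI : ∀ i, IsIso (φ.f i) := fun i => inferInstanceAs (IsIso ((DerCA.locUnit S).app (K.X i)))
        haveI : IsIso φ := HomologicalComplex.Hom.isIso_of_components _
        exact (Triangle.isZero₃_iff_isIso₁ _ hT).2 (inferInstanceAs (IsIso (Qc.map φ)))
      · obtain ⟨g, hg, hgu⟩ := hf
        rcases List.mem_cons.1 hg with rfl | hg
        · exact absurd hgu hu
        have h0 := ih ⟨g, hg, hgu⟩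
        obtain ⟨H⟩ := (HomotopyCategory.isZero_quotient_obj_iff _).1 h0
        refine Triangle.isZero₃_of_isZero₁₂ _ hT h0 ((HomotopyCategory.isZero_quotient_obj_iff _).2 ⟨?_⟩)
        exact (Homotopy.ofEq ((DerCA.locCx S).map_id K).symm).trans
          (((DerCA.locFunctor S).mapHomotopy H).trans (Homotopy.ofEq (Functor.map_zero _ _ _)))
    exact ((shiftFunctor _ (-1 : ℤ)).map_isZero key).of_iso ((Qc.commShiftIso (-1 : ℤ)).app _)

end Groth.Agent.S9263
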