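import Groth.Statements.S9265
import Groth.Agent.LocCohTransform.ExtCech

set_option autoImplicit false
universe u
attribute [local instance] HasDerivedCategory.standard
open CategoryTheory
open DerCA

namespace Groth.Agent.S9265

/-- Every element of the cohomology of the extended alternating Cech complex of M with respect to f_1,
..., f_r is killed by a common power of the f_i; in particular these cohomology modules are
supported on V(f_1, ..., f_r). -/
theorem result (R : Type u) [CommRing R] (fs : List R) (M : ModuleCat.{u} R)
    (q : ℤ) (x : DerCA.extCechH fs M q) :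
    ∃ n : ℕ, 1 ≤ n ∧ ∀ f ∈ fs, (f ^ n) • x = 0 := by
  have key : ∀ l : List R, (∀ g ∈ l, g ∈ fs) → ∃ n : ℕ, 1 ≤ n ∧ ∀ g ∈ l, (g ^ n) • x = 0 := by
    intro l
    induction l with
    | nil => exact fun _ => ⟨1, le_rfl, by simp⟩
    | cons a l ih =>
      intro hl
      obtain ⟨n, hn1, hn⟩ := ih fun g hg => hl g (List.mem_cons_of_mem _ hg)
      obtain ⟨k, hk⟩ := Groth.LocCohTransform.extCech_pow_smul_eq_zero M fs a (hl a (List.mem_cons_self ..)) q x
      refine ⟨n + k, by omega, fun g hg => ?_⟩
      rcases List.mem_cons.1 hg with rfl | hg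
      · rw [pow_add, mul_smul, hk, smul_zero]
      · rw [add_comm, pow_add, mul_smul, hn g hg, smul_zero]
  exact key fs fun _ h => h

end Groth.Agent.S9265
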