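import Groth.Statements.S9269
import Groth.Agent.KoszulLCI.Extend

set_option autoImplicit false
universe u
attribute [local instance] HasDerivedCategory.standard
open CategoryTheory
open LCI

namespace Groth.Agent.S9269

/-- Let B be an A-algebra of finite type. If the kernel of one presentation A[x_1, ..., x_n] → B is a
Koszul-regular ideal, then the kernel of any other presentation A[y_1, ..., y_m] → B is a
Koszul-regular ideal. -/
theorem result (A B : Type u) [CommRing A] [CommRing B]
    [Algebra A B] (n m : ℕ) (α : MvPolynomial (Fin n) A →ₐ[A] B) (hα : Function.Surjective α)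
    (β : MvPolynomial (Fin m) A →ₐ[A] B) (hβ : Function.Surjective β)
    (h : LCI.IsKoszulRegularIdeal (RingHom.ker α.toRingHom)) :
    LCI.IsKoszulRegularIdeal (RingHom.ker β.toRingHom) := by
  exact Groth.KoszulLCI.isKoszulRegularIdeal_ker_of_presentation α hα β hβ h

end Groth.Agent.S9269
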