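import Groth.Statements.S9270
import Groth.Agent.Calg4.FibreSliceList
import Groth.Agent.S9272
import Groth.Agent.S5803
import Groth.Agent.FlatMorOne.FlatLocusBaseChange

set_option autoImplicit false
universe u
open CAlg

namespace Groth.Agent.S9270


open TensorProduct

/-- Quasi-regularity is preserved by ring isomorphisms. -/
theorem isQuasiRegular_ringEquiv {R R' : Type u} [CommRing R] [CommRing R'] (e : R ≃+* R') {c : ℕ}
    (f : Fin c → R) (hq : CAlgX.IsQuasiRegular f) : CAlgX.IsQuasiRegular (fun i => e (f i)) := by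
  intro n P hP hPJ d
  have hspan : Ideal.span (Set.range fun i => e (f i)) = (Ideal.span (Set.range f)).map e := by
    rw [Ideal.map_span, ← Set.range_comp]; rfl
  have hev : e (MvPolynomial.eval f (MvPolynomial.map e.symm.toRingHom P)) =
      MvPolynomial.eval (fun i => e (f i)) P := by
    rw [MvPolynomial.eval_map, ← RingEquiv.coe_toRingHom, MvPolynomial.eval₂_comp_left]
    have : (e : R →+* R').comp e.symm.toRingHom = RingHom.id R' := RingHom.ext e.apply_symm_apply
    rw [this]
    rfl
  have h := hq n _ (hP.map e.symm.toRingHom) (by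
    rw [hspan, ← hev, ← Ideal.map_pow] at hPJ
    obtain ⟨x, hx, hxe⟩ := (Ideal.mem_map_iff_of_surjective _ e.surjective).mp hPJ
    exact e.injective hxe ▸ hx) d
  rw [MvPolynomial.coeff_map] at h
  rw [hspan]
  simpa using Ideal.mem_map_of_mem e h

/-- Quasi-regularity passes to localizations. -/
theorem isQuasiRegular_localization {R R' : Type u} [CommRing R] [CommRing R'] [Algebra R R']
    (M : Submonoid R) [IsLocalization M R'] {c : ℕ}
    (f : Fin c → R) (hq : CAlgX.IsQuasiRegular f) :
    CAlgX.IsQuasiRegular (fun i => algebraMap R R' (f i)) := by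
  classical
  intro n P hP hPJ d
  by_cases hd : d ∈ P.support
  swap
  · rw [MvPolynomial.notMem_support_iff.mp hd]; exact zero_mem _
  have hspan : Ideal.span (Set.range fun i => algebraMap R R' (f i)) =
      (Ideal.span (Set.range f)).map (algebraMap R R') := by
    rw [Ideal.map_span, ← Set.range_comp]; rfl
  obtain ⟨b, hb⟩ := IsLocalization.exist_integer_multiples M P.support fun e => P.coeff e
  choose num hnum using hb
  let P₀ : MvPolynomial (Fin c) R := ∑ e ∈ P.support.attach, MvPolynomial.monomial e.1 (num e.1 e.2)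
  have hP₀ : P₀.IsHomogeneous n := MvPolynomial.IsHomogeneous.sum _ _ _ fun e _ =>
    MvPolynomial.isHomogeneous_monomial _ (by
      rw [Finsupp.degree_eq_weight_one]; exact hP (MvPolynomial.mem_support_iff.mp e.2))
  have hev : algebraMap R R' (MvPolynomial.eval f P₀) =
      algebraMap R R' b.1 * MvPolynomial.eval (fun i => algebraMap R R' (f i)) P := by
    conv_rhs => rw [MvPolynomial.as_sum P, map_sum, Finset.mul_sum,
      ← Finset.sum_attach P.support (fun e => algebraMap R R' b.1 *
        MvPolynomial.eval (fun i => algebraMap R R' (f i)) (MvPolynomial.monomial e (P.coeff e)))]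
    rw [map_sum, map_sum]
    refine Finset.sum_congr rfl fun e _ => ?_
    rw [MvPolynomial.eval_monomial, MvPolynomial.eval_monomial, map_mul, hnum e.1 e.2, map_finsuppProd,
      Algebra.smul_def, mul_assoc]
    simp only [map_pow]
  have hm : algebraMap R R' (MvPolynomial.eval f P₀) ∈
      ((Ideal.span (Set.range f)) ^ (n + 1)).map (algebraMap R R') := by
    rw [hev, Ideal.map_pow, ← hspan]; exact Ideal.mul_mem_left _ _ hPJ
  rw [IsLocalization.algebraMap_mem_map_algebraMap_iff M] at hm
  obtain ⟨t, ht, htm⟩ := hm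
  have h1 : MvPolynomial.eval f (MvPolynomial.C t * P₀) ∈ Ideal.span (Set.range f) ^ (n + 1) := by
    rw [map_mul, MvPolynomial.eval_C]; exact htm
  have h2 := hq n _ (hP₀.C_mul t) h1 d
  rw [MvPolynomial.coeff_C_mul, MvPolynomial.coeff_sum,
    Finset.sum_eq_single (⟨d, hd⟩ : {e // e ∈ P.support}) (fun e _ hne => by
      rw [MvPolynomial.coeff_monomial, if_neg fun h => hne (Subtype.ext h)])
      (fun h => absurd (Finset.mem_attach _ _) h), MvPolynomial.coeff_monomial, if_pos rfl] at h2
  rw [hspan]
  have h3 := Ideal.mem_map_of_mem (algebraMap R R') h2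
  rw [map_mul, hnum d hd, Algebra.smul_def, ← mul_assoc, ← map_mul] at h3
  exact (Ideal.unit_mul_mem_iff_mem _
    (IsLocalization.map_units R' (⟨t * b.1, M.mul_mem ht b.2⟩ : M))).mp h3

/-- The lifts form a regular sequence on the localized fibre. -/
theorem regular_fibre (A' B' : Type u) [CommRing A'] [CommRing B'] [Algebra A' B']
    [Algebra.FinitePresentation A' B'] (I : Ideal A') (hI : ∀ x ∈ I, IsNilpotent x) (r : ℕ) (f' : Fin r → B')
    (hq : CAlgX.IsQuasiRegular
      (fun i => Ideal.Quotient.mk (Ideal.map (algebraMap A' B') I) (f' i)))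
    (hflat : Module.Flat (A' ⧸ I)
      ((B' ⧸ Ideal.map (algebraMap A' B') I) ⧸
        Ideal.span (Set.range (fun i => Ideal.Quotient.mk (Ideal.map (algebraMap A' B') I) (f' i)))))
    (q : Ideal B') [q.IsPrime] (hmem : ∀ i, f' i ∈ q) :
    RingTheory.Sequence.IsWeaklyRegular
      (LocalizedModule q.primeCompl (B' ⊗[A'] (q.comap (algebraMap A' B')).ResidueField)) (List.ofFn f') := by
  set p := q.comap (algebraMap A' B') with hp
  let κ := p.ResidueField
  have hIp : I ≤ p := fun x hx => by
    obtain ⟨k, hk⟩ := hI x hx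
    exact Ideal.IsPrime.mem_of_pow_mem inferInstance k (hk ▸ zero_mem p)
  let : Algebra (A' ⧸ I) κ := (Ideal.Quotient.lift I (algebraMap A' κ)
    fun x hx => Ideal.algebraMap_residueField_eq_zero.mpr (hIp hx)).toAlgebra
  have : IsScalarTower A' (A' ⧸ I) κ := IsScalarTower.of_algebraMap_eq fun _ => rfl
  let eB : (B' ⧸ I.map (algebraMap A' B')) ≃ₐ[A'] (A' ⧸ I) ⊗[A'] B' :=
    ((Algebra.TensorProduct.quotIdealMapEquivTensorQuot B' I).restrictScalars A').trans
      (Algebra.TensorProduct.comm A' B' (A' ⧸ I))
  let eB' : (B' ⧸ I.map (algebraMap A' B')) ≃ₐ[A' ⧸ I] (A' ⧸ I) ⊗[A'] B' :=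
    AlgEquiv.ofRingEquiv (f := eB.toRingEquiv) fun x => by
      obtain ⟨x, rfl⟩ := Ideal.Quotient.mk_surjective x
      exact (eB.commutes x).trans
        (IsScalarTower.algebraMap_apply A' (A' ⧸ I) ((A' ⧸ I) ⊗[A'] B') x)
  let e : κ ⊗[A' ⧸ I] (B' ⧸ I.map (algebraMap A' B')) ≃+* B' ⊗[A'] κ :=
    (((Algebra.TensorProduct.congr (AlgEquiv.refl (R := A' ⧸ I) (A₁ := κ)) eB').toRingEquiv.trans
      (Algebra.TensorProduct.cancelBaseChange A' (A' ⧸ I) (A' ⧸ I) κ B').toRingEquiv)).trans
      (Algebra.TensorProduct.comm A' κ B').toRingEquiv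
  have he : ∀ b : B', e ((1 : κ) ⊗ₜ[A' ⧸ I] Ideal.Quotient.mk _ b) = b ⊗ₜ[A'] (1 : κ) := fun b => by
    simp [e, eB', eB]
  have hqF : CAlgX.IsQuasiRegular (fun i => algebraMap B' (B' ⊗[A'] κ) (f' i)) := by
    have := isQuasiRegular_ringEquiv e _
      (Groth.Agent.S9272.result (A' ⧸ I) (B' ⧸ I.map (algebraMap A' B')) κ r _ hflat hq)
    simp only [he] at this
    exact this
  let F := B' ⊗[A'] κ
  let M := Algebra.algebraMapSubmonoid F q.primeCompl
  let C := Localization M
  have hC := isQuasiRegular_localization (R' := C) M _ hqF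
  have : IsNoetherianRing (κ ⊗[A'] B') := Algebra.FiniteType.isNoetherianRing κ _
  have : IsNoetherianRing F :=
    isNoetherianRing_of_ringEquiv _ (Algebra.TensorProduct.comm A' κ B').toRingEquiv
  have : IsNoetherianRing C := IsLocalization.isNoetherianRing M C inferInstance
  have hjac : ∀ i, algebraMap F C (algebraMap B' F (f' i)) ∈ Ring.jacobson C := by
    intro i
    rw [← Ideal.jacobson_bot, Ideal.mem_jacobson_bot]
    intro y
    obtain ⟨x, ⟨_, s, hs, rfl⟩, rfl⟩ := IsLocalization.exists_mk'_eq M y
    obtain ⟨a, ha, b, hb⟩ := Groth.Calg4.exists_smul_eq_tmul_one p x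
    have hu : IsUnit (algebraMap F C (algebraMap B' F (algebraMap A' B' a * s + f' i * b))) :=
      IsLocalization.map_units C (⟨_, Algebra.mem_algebraMapSubmonoid_of_mem
        (⟨algebraMap A' B' a * s + f' i * b, fun h => by
          have h1 : algebraMap A' B' a * s ∈ q := by
            simpa using q.sub_mem h (Ideal.mul_mem_right b _ (hmem i))
          exact (Ideal.IsPrime.mem_or_mem ‹_› h1).elim ha hs⟩ : q.primeCompl)⟩ : M)
    have hae : algebraMap B' F (algebraMap A' B' a * s + f' i * b) =
        algebraMap B' F (algebraMap A' B' a) * (algebraMap B' F s + algebraMap B' F (f' i) * x) := by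
      have hb' : algebraMap B' F b = algebraMap B' F (algebraMap A' B' a) * x := by
        rw [← Algebra.smul_def, algebraMap_smul, hb]; rfl
      simp only [map_add, map_mul, hb']; ring
    rw [hae, map_mul] at hu
    have hu2 := isUnit_of_mul_isUnit_right hu
    have hkey : (algebraMap F C (algebraMap B' F (f' i)) * IsLocalization.mk' C x
        (⟨algebraMap B' F s, Algebra.mem_algebraMapSubmonoid_of_mem (⟨s, hs⟩ : q.primeCompl)⟩ : M) + 1) * algebraMap F C (algebraMap B' F s) =
        algebraMap F C (algebraMap B' F s + algebraMap B' F (f' i) * x) := by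
      rw [add_mul, one_mul, mul_assoc, IsLocalization.mk'_spec, map_add, map_mul, add_comm]
    exact isUnit_of_mul_isUnit_left (hkey.symm ▸ hu2)
  have hw := Groth.Agent.S5803.result C r _ hjac hC
  have hw' : RingTheory.Sequence.IsWeaklyRegular C (List.ofFn f') := by
    rw [← RingTheory.Sequence.isWeaklyRegular_map_algebraMap_iff C C (List.ofFn f'), List.map_ofFn]
    exact hw
  have : IsLocalization (Algebra.algebraMapSubmonoid F q.primeCompl) C :=
    inferInstanceAs (IsLocalization M (Localization M))
  have : IsLocalizedModule q.primeCompl (IsScalarTower.toAlgHom B' F C).toLinearMap :=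
    isLocalizedModule_iff_isLocalization.mpr inferInstance
  exact ((IsLocalizedModule.iso q.primeCompl
    (IsScalarTower.toAlgHom B' F C).toLinearMap).isWeaklyRegular_congr _).mpr hw'

/-- Let A' → B' be a flat ring map of finite presentation, I a locally nilpotent ideal of A', A = A'/I
and B = B'/IB'. Let f'_1, ..., f'_r be elements of B' whose images f_1, ..., f_r in B form a
quasi-regular sequence with B/(f_1, ..., f_r) flat over A. Then B'/(f'_1, ..., f'_r) is flat over
A'. -/
theorem result (A' B' : Type u) [CommRing A']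
    [CommRing B'] [Algebra A' B'] [Module.Flat A' B'] [Algebra.FinitePresentation A' B']
    (I : Ideal A') (hI : ∀ x ∈ I, IsNilpotent x) (r : ℕ) (f' : Fin r → B')
    (hq : CAlgX.IsQuasiRegular
      (fun i => Ideal.Quotient.mk (Ideal.map (algebraMap A' B') I) (f' i)))
    (hflat : Module.Flat (A' ⧸ I)
      ((B' ⧸ Ideal.map (algebraMap A' B') I) ⧸
        Ideal.span (Set.range (fun i => Ideal.Quotient.mk (Ideal.map (algebraMap A' B') I) (f' i))))) :
    Module.Flat A' (B' ⧸ Ideal.span (Set.range f')) := by
  classical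
  set J := Ideal.span (Set.range f') with hJ
  refine Groth.FlatMorOne.flat_of_forall_flat_localized (S := B') fun q => ?_
  by_cases hJq : J ≤ q.asIdeal
  swap
  · obtain ⟨x, hxJ, hxq⟩ := SetLike.not_le_iff_exists.mp hJq
    have : Subsingleton (LocalizedModule q.asIdeal.primeCompl (B' ⧸ J)) :=
      LocalizedModule.subsingleton_iff.mpr fun m => ⟨x, hxq, by
        obtain ⟨m, rfl⟩ := Ideal.Quotient.mk_surjective m
        exact (Submodule.Quotient.mk_eq_zero _).mpr (Ideal.mul_mem_right m _ hxJ)⟩
    infer_instance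
  have hmem : ∀ i, f' i ∈ q.asIdeal := fun i => hJq (Ideal.subset_span ⟨i, rfl⟩)
  let κ := (q.asIdeal.comap (algebraMap A' B')).ResidueField
  have hreg := regular_fibre A' B' I hI r f' hq hflat q.asIdeal hmem
  have := (Groth.Calg4.slice_list q.asIdeal (List.ofFn f') B'
    (Groth.FlatMorOne.flat_localized_of_flat _) hreg).2 r (le_of_eq (List.length_ofFn).symm)
  have e : ((List.ofFn f').take r) = List.ofFn f' :=
    List.take_of_length_le (le_of_eq List.length_ofFn)
  rw [e] at this
  have e2 : Ideal.ofList (List.ofFn f') • (⊤ : Submodule B' B') = J := by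
    rw [smul_eq_mul, Ideal.mul_top, show Ideal.ofList (List.ofFn f') = J by simp [hJ, Ideal.ofList, List.mem_ofFn, Set.range]]
  exact Module.Flat.of_linearEquiv
    ((Groth.Calg4.locCongr q.asIdeal.primeCompl (Submodule.quotEquivOfEq _ _ e2)).restrictScalars A').symm

end Groth.Agent.S9270
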