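import Groth.Statements.S9271
import Groth.Agent.S9270

set_option autoImplicit false
universe u
open CAlg

namespace Groth.Agent.S9271

open TensorProduct

/-- Suppose A' → B' is a flat ring map of finite presentation (smooth maps being one example), and let I
be a locally nilpotent ideal of A', with A = A'/I and B = B'/IB'. Let f'_1, ..., f'_r be elements of
B' whose images f_1, ..., f_r in B form a quasi-regular sequence with B/(f_1, ..., f_r) smooth over
A. Then B'/(f'_1, ..., f'_r) is smooth over A'. -/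
theorem result (A' B' : Type u) [CommRing A']
    [CommRing B'] [Algebra A' B'] [Module.Flat A' B'] [Algebra.FinitePresentation A' B']
    (I : Ideal A') (hI : ∀ x ∈ I, IsNilpotent x) (r : ℕ) (f' : Fin r → B')
    (hq : CAlgX.IsQuasiRegular
      (fun i => Ideal.Quotient.mk (Ideal.map (algebraMap A' B') I) (f' i)))
    (hsm : Algebra.Smooth (A' ⧸ I)
      ((B' ⧸ Ideal.map (algebraMap A' B') I) ⧸
        Ideal.span (Set.range (fun i => Ideal.Quotient.mk (Ideal.map (algebraMap A' B') I) (f' i))))) :
    Algebra.Smooth A' (B' ⧸ Ideal.span (Set.range f')) := by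
  classical
  let IB := Ideal.map (algebraMap A' B') I
  let J := Ideal.span (Set.range f')
  let A := A' ⧸ I
  have hflat : Module.Flat A' (B' ⧸ J) := Groth.Agent.S9270.result A' B' I hI r f' hq (by
    have := hsm
    infer_instance)
  have hfp : Algebra.FinitePresentation A' (B' ⧸ J) :=
    Algebra.FinitePresentation.quotient (Submodule.fg_span (Set.finite_range f'))
  refine Algebra.Smooth.of_formallySmooth_fiber fun p hp => ?_
  have hIp : I ≤ p := fun x hx => by
    obtain ⟨k, hk⟩ := hI x hx
    exact Ideal.IsPrime.mem_of_pow_mem inferInstance k (hk ▸ zero_mem p)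
  let κ := p.ResidueField
  let : Algebra A κ := (Ideal.Quotient.lift I (algebraMap A' κ)
    fun x hx => Ideal.algebraMap_residueField_eq_zero.mpr (hIp hx)).toAlgebra
  have : IsScalarTower A' A κ := IsScalarTower.of_algebraMap_eq fun _ => rfl
  let S₁ := (B' ⧸ IB) ⧸ Ideal.span (Set.range fun i => Ideal.Quotient.mk IB (f' i))
  have hJ : J.map (Ideal.Quotient.mkₐ A' IB) = Ideal.span (Set.range fun i => Ideal.Quotient.mk IB (f' i)) := by
    rw [Ideal.map_span, ← Set.range_comp]; rfl
  let e0 : S₁ ≃ₐ[A'] (A ⊗[A'] (B' ⧸ J)) :=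
    (((((Ideal.quotientEquivAlgOfEq A' hJ.symm).trans (DoubleQuot.quotQuotEquivQuotSupₐ A' IB J)).trans
      (Ideal.quotientEquivAlgOfEq A' (sup_comm IB J))).trans
      (DoubleQuot.quotQuotEquivQuotSupₐ A' J IB).symm).trans
      (Ideal.quotientEquivAlgOfEq A' (show IB.map (Ideal.Quotient.mkₐ A' J) =
        I.map (algebraMap A' (B' ⧸ J)) from Ideal.map_map (algebraMap A' B') (Ideal.Quotient.mk J)))).trans
      ((((Algebra.TensorProduct.quotIdealMapEquivTensorQuot (B' ⧸ J) I).restrictScalars A').trans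
        (Algebra.TensorProduct.comm A' (B' ⧸ J) A)))
  let e : S₁ ≃ₐ[A] (A ⊗[A'] (B' ⧸ J)) := AlgEquiv.ofRingEquiv (f := e0.toRingEquiv) fun x => by
    obtain ⟨x, rfl⟩ := Ideal.Quotient.mk_surjective x
    exact (e0.commutes x).trans (IsScalarTower.algebraMap_apply A' A (A ⊗[A'] (B' ⧸ J)) x)
  have : Algebra.Smooth A S₁ := hsm
  have : Algebra.Smooth κ (κ ⊗[A] S₁) := inferInstance
  have : Algebra.FormallySmooth κ (κ ⊗[A] S₁) := Algebra.Smooth.formallySmooth
  exact Algebra.FormallySmooth.of_equiv (A := κ ⊗[A] S₁)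
    ((Algebra.TensorProduct.congr (AlgEquiv.refl (R := κ) (A₁ := κ)) e).trans
      (Algebra.TensorProduct.cancelBaseChange A' A κ κ (B' ⧸ J)))

end Groth.Agent.S9271
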