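import Groth.Statements.S9275
import Mathlib.RingTheory.RingHom.Etale
import Mathlib.RingTheory.Localization.Away.Basic
import Mathlib.LinearAlgebra.Finsupp.Span
import Mathlib.Tactic.LinearCombination
-- import your own Groth.Agent.* helpers here

set_option autoImplicit false
universe u
open EtAlg

namespace Groth.Agent.S9275

/-- Let A → B be a ring map and J an ideal of B such that A → B is étale at every prime of V(J), in the
sense that every prime q ⊇ J has some h ∉ q with A → B_h étale. Then there is g ∈ B mapping to a
unit of B/J such that A → B_g is étale. -/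
theorem result (A B : Type u) [CommRing A] [CommRing B]
    [Algebra A B] (J : Ideal B)
    (h : ∀ (q : Ideal B) [q.IsPrime], J ≤ q → ∃ h : B, h ∉ q ∧ Algebra.Etale A (Localization.Away h)) :
    ∃ g : B, IsUnit (Ideal.Quotient.mk J g) ∧ Algebra.Etale A (Localization.Away g) := by
  classical
  let T : Set B := {h | Algebra.Etale A (Localization.Away h)}
  have htop : Ideal.span T ⊔ J = ⊤ := by
    by_contra hne
    obtain ⟨q, hq, hle⟩ := Ideal.exists_le_maximal _ hne
    obtain ⟨x, hxq, hx⟩ := h q (le_sup_right.trans hle)
    exact hxq (hle (Ideal.mem_sup_left (Ideal.subset_span hx)))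
  rw [Ideal.eq_top_iff_one, Submodule.mem_sup] at htop
  obtain ⟨g, hg, j, hj, hgj⟩ := htop
  obtain ⟨S, hS, hgS⟩ := Submodule.mem_span_finite_of_mem_span hg
  refine ⟨g, ?_, ?_⟩
  ·
    have : Ideal.Quotient.mk J g = 1 := by
      rw [← map_one (Ideal.Quotient.mk J), Ideal.Quotient.eq]
      have : g - 1 = -j := by linear_combination hgj
      rw [this]; exact J.neg_mem hj
    rw [this]; exact isUnit_one
  let Bg := Localization.Away g
  rw [← RingHom.etale_algebraMap]
  refine RingHom.Etale.ofLocalizationSpanTarget (algebraMap A Bg) (algebraMap B Bg '' (S : Set B)) ?_ ?_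
  · rw [← Ideal.map_span, Ideal.eq_top_iff_one]
    obtain ⟨u, hu⟩ := isUnit_iff_exists_inv.1 (IsLocalization.Away.algebraMap_isUnit (S := Bg) g)
    rw [← hu]
    exact Ideal.mul_mem_right _ _ (Ideal.mem_map_of_mem _ hgS)
  · rintro ⟨_, x, hx, rfl⟩
    show RingHom.Etale ((algebraMap Bg (Localization.Away (algebraMap B Bg x))).comp (algebraMap A Bg))
    rw [← IsScalarTower.algebraMap_eq, RingHom.etale_algebraMap]
    have : Algebra.Etale A (Localization.Away x) := hS hx
    let C := Localization.Away (algebraMap B (Localization.Away x) g)
    have : Algebra.Etale (Localization.Away x) C := Algebra.Etale.of_isLocalizationAway (algebraMap B (Localization.Away x) g)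
    have : Algebra.Etale A C := Algebra.Etale.comp A (Localization.Away x) C
    have h1 : IsLocalization.Away (g * x) C := IsLocalization.Away.mul (Localization.Away x) C x g
    have h2 : IsLocalization.Away (g * x) (Localization.Away (algebraMap B Bg x)) := by
      rw [mul_comm]; exact IsLocalization.Away.mul Bg _ g x
    exact Algebra.Etale.of_equiv
      ((IsLocalization.algEquiv (Submonoid.powers (g * x)) C (Localization.Away (algebraMap B Bg x))).restrictScalars A)

end Groth.Agent.S9275
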