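import Groth.Statements.S9277
import Mathlib

set_option autoImplicit false
universe u
open CAlgX

namespace Groth.Agent.S9277

/-- Let R be a local ring and φ : R^m → R^n a map of finite free modules with matrix M. Then φ is
injective if and only if the rank of M is m and the annihilator of the determinantal ideal I(M)
(generated by the minors of size the rank) is zero. -/
theorem result (R : Type u) [CommRing R] [IsLocalRing R]
    (m n : ℕ) (M : Matrix (Fin n) (Fin m) R) :
    Function.Injective (Matrix.mulVecLin M) ↔
      CAlgX.matrixRank M = m ∧ (CAlgX.detIdeal M).annihilator = ⊥ := by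
  classical
  have hbig : ∀ r, m < r → CAlgX.minorIdeal M r = ⊥ := by
    intro r hr
    rw [CAlgX.minorIdeal, Ideal.span_eq_bot]
    rintro _ ⟨⟨f, g⟩, rfl⟩
    have : ¬ Function.Injective g := fun h => by
      have := Fintype.card_le_of_injective g h
      simp at this
      omega
    obtain ⟨i, j, hij, hne⟩ := Function.not_injective_iff.1 this
    exact Matrix.det_zero_of_column_eq hne fun k => by simp [hij]
  constructor
  · intro hinj
    have hann : (CAlgX.minorIdeal M m).annihilator = ⊥ := by
      rw [eq_bot_iff]
      intro a ha
      by_contra ha0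
      rw [Ideal.mem_bot] at ha0
      have hex : ∃ r, ∀ x ∈ CAlgX.minorIdeal M r, a * x = 0 := ⟨m, fun x hx => by
        simpa using Submodule.mem_annihilator.1 ha x hx⟩
      set r := Nat.find hex with hr
      have hrm : r ≤ m := Nat.find_le fun x hx => by simpa using Submodule.mem_annihilator.1 ha x hx
      have hr0 : r ≠ 0 := fun h => ha0 (by
        have := Nat.find_spec hex 1
        rw [← hr, h] at this
        simpa using this (Ideal.subset_span ⟨(Fin.elim0, Fin.elim0), by simp⟩))
      obtain ⟨k, hk⟩ : ∃ k, r = k + 1 := ⟨r - 1, by omega⟩
      have hmin := Nat.find_min hex (m := k) (by omega)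
      obtain ⟨f, g, hfg⟩ : ∃ (f : Fin k → Fin n) (g : Fin k → Fin m), a * (M.submatrix f g).det ≠ 0 := by
        by_contra hall
        simp only [not_exists, not_not] at hall
        refine hmin fun x hx => ?_
        have hle : CAlgX.minorIdeal M k ≤ LinearMap.ker (LinearMap.mulLeft R a) := by
          rw [CAlgX.minorIdeal, Ideal.span, Submodule.span_le]
          rintro _ ⟨⟨f, g⟩, rfl⟩
          exact hall f g
        exact hle hx
      have hg : Function.Injective g := fun i j hij => by
        by_contra hne
        exact hfg (by rw [Matrix.det_zero_of_column_eq hne fun l => by simp [hij], mul_zero])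
      obtain ⟨c, hc⟩ : ∃ c, ∀ i, g i ≠ c := by
        by_contra hall
        simp only [not_exists, not_forall, not_not] at hall
        have := Fintype.card_le_of_surjective g hall
        simp at this
        omega
      let gc : Fin (k + 1) → Fin m := Fin.cons c g
      have hgc : Function.Injective gc := Fin.cons_injective_iff.2 ⟨fun ⟨i, hi⟩ => hc i hi, hg⟩
      let w : Fin (k + 1) → R := fun l => a * ((-1) ^ (l : ℕ) * (M.submatrix f (gc ∘ l.succAbove)).det)
      let v : Fin m → R := ∑ l, w l • (Pi.single (gc l) 1 : Fin m → R)
      have hv : M.mulVec v = 0 := by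
        funext i
        have hmem : (M.submatrix (Fin.cons i f : Fin (k + 1) → Fin n) gc).det ∈ CAlgX.minorIdeal M r := by
          rw [hk]
          exact Ideal.subset_span ⟨((Fin.cons i f : Fin (k + 1) → Fin n), gc), rfl⟩
        have h0 := Nat.find_spec hex _ hmem
        rw [Matrix.det_succ_row_zero, Finset.mul_sum] at h0
        simp only [v, Matrix.mulVec_sum, Matrix.mulVec_smul, Matrix.mulVec_single_one, Finset.sum_apply,
          Pi.smul_apply, smul_eq_mul, Pi.zero_apply]
        rw [← h0]
        refine Finset.sum_congr rfl fun l _ => ?_
        simp only [w, Matrix.col_apply, Matrix.submatrix_apply, Fin.cons_zero]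
        have : (M.submatrix (Fin.cons i f : Fin (k + 1) → Fin n) gc).submatrix Fin.succ l.succAbove =
            M.submatrix f (gc ∘ l.succAbove) := by
          ext x y
          simp
        rw [this]
        ring
      have hv0 : v = 0 := hinj (by simpa using hv)
      apply hfg
      have h1 := congrFun hv0 c
      simp only [v, Finset.sum_apply, Pi.smul_apply, smul_eq_mul, Pi.zero_apply] at h1
      rw [Finset.sum_eq_single 0] at h1
      · have hsub : gc ∘ Fin.succAbove 0 = g := funext fun x => by simp [gc]
        simpa [w, gc, hsub] using h1
      · intro l _ hl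
        rw [Pi.single_eq_of_ne, mul_zero]
        intro he
        exact hl (hgc (by simpa [gc] using he.symm))
      · simp
    have hne : CAlgX.minorIdeal M m ≠ ⊥ := fun h => by
      rw [h, Submodule.annihilator_bot] at hann
      exact top_ne_bot hann
    have hrk : CAlgX.matrixRank M = m := by
      refine le_antisymm (csSup_le ⟨m, hne⟩ fun r hr => ?_) (le_csSup ⟨m, fun r hr => ?_⟩ hne)
      · by_contra h
        exact hr (hbig r (not_le.1 h))
      · by_contra h
        exact hr (hbig r (not_le.1 h))
    exact ⟨hrk, by rw [CAlgX.detIdeal, hrk]; exact hann⟩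
  · rintro ⟨hrk, hann⟩
    rw [CAlgX.detIdeal, hrk] at hann
    rw [← LinearMap.ker_eq_bot, LinearMap.ker_eq_bot']
    intro v hv
    funext j
    rw [Pi.zero_apply, ← Ideal.mem_bot, ← hann, Submodule.mem_annihilator]
    intro x hx
    have hle : CAlgX.minorIdeal M m ≤ LinearMap.ker (LinearMap.mulLeft R (v j)) := by
      rw [CAlgX.minorIdeal, Ideal.span, Submodule.span_le]
      rintro _ ⟨⟨f, g⟩, rfl⟩
      by_cases hg : Function.Injective g
      · have hgb : Function.Bijective g := (Finite.injective_iff_bijective).1 hg
        obtain ⟨l, rfl⟩ := hgb.2 j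
        have hS : (M.submatrix f g).mulVec (v ∘ g) = 0 := by
          funext i
          have := congrFun hv (f i)
          simp only [Matrix.mulVecLin_apply, Matrix.mulVec, dotProduct, Pi.zero_apply] at this
          show ∑ l, M (f i) (g l) * v (g l) = 0
          rwa [Function.Bijective.sum_comp hgb (fun l => M (f i) l * v l)]
        have h2 : (M.submatrix f g).det • (v ∘ g) = 0 := by
          rw [← Matrix.one_mulVec (v ∘ g), ← Matrix.smul_mulVec, ← Matrix.adjugate_mul, ← Matrix.mulVec_mulVec, hS,
            Matrix.mulVec_zero]
        show v (g l) * _ = 0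
        rw [mul_comm]
        exact congrFun h2 l
      · obtain ⟨i, k, hik, hne⟩ := Function.not_injective_iff.1 hg
        show v j * (M.submatrix f g).det = 0
        rw [Matrix.det_zero_of_column_eq hne fun l => by simp [hik], mul_zero]
    exact hle hx

end Groth.Agent.S9277
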