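import Groth.Statements.S9278
import Mathlib
import Groth.Agent.S9277

set_option autoImplicit false
universe u
open CAlgX

namespace Groth.Agent.S9278

/-- Let R be a Noetherian local ring and φ : R^m → R^n a map of finite free modules with matrix M. Then
φ is injective if and only if the rank of M is m and the determinantal ideal I(M) is the unit ideal
or contains a nonzerodivisor. -/
theorem result (R : Type u) [CommRing R]
    [IsLocalRing R] [IsNoetherianRing R] (m n : ℕ) (M : Matrix (Fin n) (Fin m) R) :
    Function.Injective (Matrix.mulVecLin M) ↔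
      CAlgX.matrixRank M = m ∧ (CAlgX.detIdeal M = ⊤ ∨ ∃ a ∈ CAlgX.detIdeal M, IsRegular a) := by
  rw [Groth.Agent.S9277.result R m n M]
  refine and_congr_right fun _ => ⟨fun h => ?_, fun h => ?_⟩
  · have hs : Subsingleton ((R ⧸ CAlgX.detIdeal M) →ₗ[R] R) := by
      refine subsingleton_of_forall_eq 0 fun φ => LinearMap.ext fun q => ?_
      obtain ⟨x, rfl⟩ := Ideal.Quotient.mk_surjective q
      have h1 : φ 1 ∈ (CAlgX.detIdeal M).annihilator := Submodule.mem_annihilator.2 fun a ha => by
        rw [smul_eq_mul, mul_comm, ← smul_eq_mul, ← map_smul]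
        have : a • (1 : R ⧸ CAlgX.detIdeal M) = 0 := by
          rw [← Algebra.algebraMap_eq_smul_one, Ideal.Quotient.algebraMap_eq, Ideal.Quotient.eq_zero_iff_mem]
          exact ha
        rw [this, map_zero]
      rw [h, Ideal.mem_bot] at h1
      have : (Ideal.Quotient.mk (CAlgX.detIdeal M)) x = x • (1 : R ⧸ CAlgX.detIdeal M) := by
        rw [← Algebra.algebraMap_eq_smul_one, Ideal.Quotient.algebraMap_eq]
      rw [this, map_smul, h1, smul_zero, LinearMap.zero_apply]
    obtain ⟨a, ha, hreg⟩ := IsSMulRegular.subsingleton_linearMap_iff.1 hs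
    rw [Ideal.annihilator_quotient] at ha
    refine Or.inr ⟨a, ha, hreg, fun x y hxy => hreg ?_⟩
    simpa [mul_comm] using hxy
  · rw [eq_bot_iff]
    intro x hx
    rcases h with h | ⟨a, ha, hreg⟩
    · simpa using Submodule.mem_annihilator.1 hx 1 (h ▸ Submodule.mem_top)
    · have := Submodule.mem_annihilator.1 hx a ha
      rw [smul_eq_mul] at this
      exact Ideal.mem_bot.2 (hreg.right (by simpa using this))

end Groth.Agent.S9278
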