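import Groth.Statements.S9279
import Groth.Agent.EtaleAlgebra.HensCompletion

set_option autoImplicit false
universe u
open Brnch

namespace Groth.Agent.S9279

/-- For a Noetherian local ring A with henselization S and completion A^ at its maximal ideal, the
spectrum of A^ with its closed point removed is preconnected exactly when the spectrum of S with its
closed point removed is (the two sets are empty together, namely when A has dimension zero). Stated
as: the complement of the closed point in Spec A^ is preconnected iff the complement of the closed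
point in Spec S is. -/
theorem result (A S : Type u) [CommRing A]
    [IsLocalRing A] [IsNoetherianRing A] [CommRing S] [IsLocalRing S] [Algebra A S]
    [IsLocalHom (algebraMap A S)] [Hensel.IsHenselization A S] :
    IsPreconnected
        ({IsLocalRing.closedPoint (AdicCompletion (IsLocalRing.maximalIdeal A) A)}ᶜ :
          Set (PrimeSpectrum (AdicCompletion (IsLocalRing.maximalIdeal A) A))) ↔
      IsPreconnected ({IsLocalRing.closedPoint S}ᶜ : Set (PrimeSpectrum S)) := by
  obtain ⟨ψ, hψ⟩ := Groth.EtaleAlgebra.Punctured.exists_toCompletion (A := A) (S := S)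
  have hcp := fun {Q : Ideal (AdicCompletion (IsLocalRing.maximalIdeal A) A)} (hQ : Q.IsPrime) =>
    Groth.EtaleAlgebra.Punctured.comap_eq_maximalIdeal_iff ψ hψ hQ
  have hset := Groth.EtaleAlgebra.Punctured.setting ψ hψ
  constructor
  · intro h
    let _ := ψ.toAlgebra
    have : Module.FaithfullyFlat S (AdicCompletion (IsLocalRing.maximalIdeal A) A) := hset.2.2.2.1
    have himg : PrimeSpectrum.comap ψ '' {IsLocalRing.closedPoint _}ᶜ = {IsLocalRing.closedPoint S}ᶜ := by
      ext P
      simp only [Set.mem_image, Set.mem_compl_iff, Set.mem_singleton_iff]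
      constructor
      · rintro ⟨Q, hQ, rfl⟩ h0
        exact hQ (PrimeSpectrum.ext ((hcp Q.2).1 (congrArg PrimeSpectrum.asIdeal h0)))
      · intro hP
        obtain ⟨Q, hQ⟩ := PrimeSpectrum.comap_surjective_of_faithfullyFlat
          (A := S) (B := AdicCompletion (IsLocalRing.maximalIdeal A) A) P
        refine ⟨Q, fun h0 => hP ?_, hQ⟩
        rw [← hQ]
        exact PrimeSpectrum.ext ((hcp Q.2).2 (congrArg PrimeSpectrum.asIdeal h0))
    exact himg ▸ h.image _ (PrimeSpectrum.continuous_comap ψ).continuousOn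
  · intro h
    rw [isPreconnected_closed_iff]
    intro t t' ht ht' hsub hne hne'
    obtain ⟨J₁, hJ₁⟩ := (PrimeSpectrum.isClosed_iff_zeroLocus_ideal _).1 ht
    obtain ⟨J₂, hJ₂⟩ := (PrimeSpectrum.isClosed_iff_zeroLocus_ideal _).1 ht'
    subst hJ₁ hJ₂
    by_contra hcon
    obtain ⟨Q₁, hQ₁, hle₁⟩ := hne
    obtain ⟨Q₂, hQ₂, hle₂⟩ := hne'
    obtain ⟨I₁, I₂, hI, hJ⟩ := Groth.EtaleAlgebra.Punctured.partition_completion ψ hψ J₁ J₂
      (fun Q hQ => by
        by_cases hQm : Q = IsLocalRing.maximalIdeal _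
        · exact Or.inl (hQm ▸ (show J₁ ≤ Q₁.asIdeal from hle₁).trans (IsLocalRing.le_maximalIdeal Q₁.2.ne_top))
        · exact hsub (show (⟨Q, hQ⟩ : PrimeSpectrum _) ∈ _ from fun h0 => hQm (congrArg PrimeSpectrum.asIdeal h0)))
      (fun Q hQ h1 h2 => by
        by_contra hQm
        exact hcon ⟨⟨Q, hQ⟩, fun h0 => hQm (congrArg PrimeSpectrum.asIdeal h0), h1, h2⟩)
    rw [isPreconnected_closed_iff] at h
    obtain ⟨P, hPm, hP₁, hP₂⟩ := h (PrimeSpectrum.zeroLocus (I₁ : Set S)) (PrimeSpectrum.zeroLocus (I₂ : Set S))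
      (PrimeSpectrum.isClosed_zeroLocus _) (PrimeSpectrum.isClosed_zeroLocus _)
      (fun P hP => (hI P.asIdeal P.2 fun h0 => hP (PrimeSpectrum.ext h0)).1)
      ⟨PrimeSpectrum.comap ψ Q₁, fun h0 => hQ₁ (PrimeSpectrum.ext ((hcp Q₁.2).1 (congrArg PrimeSpectrum.asIdeal h0))),
        (hJ Q₁.asIdeal Q₁.2 fun h0 => hQ₁ (PrimeSpectrum.ext h0)).1 hle₁⟩
      ⟨PrimeSpectrum.comap ψ Q₂, fun h0 => hQ₂ (PrimeSpectrum.ext ((hcp Q₂.2).1 (congrArg PrimeSpectrum.asIdeal h0))),
        (hJ Q₂.asIdeal Q₂.2 fun h0 => hQ₂ (PrimeSpectrum.ext h0)).2 hle₂⟩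
    exact (hI P.asIdeal P.2 fun h0 => hPm (PrimeSpectrum.ext h0)).2 ⟨hP₁, hP₂⟩

end Groth.Agent.S9279
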