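import Groth.Statements.S9280
import Groth.Agent.Ega4Algebra1.J2
import Groth.Agent.Calg1.NagataTheorem
import Groth.Agent.Calg4.Japanese
import Groth.Agent.Calg8.IntegralDimEq
import Groth.Agent.Ega4Algebra2.NormalAscentFibres
import Groth.Agent.Ega4Algebra2.OnePlus
-- import your own Groth.Agent.* helpers here

set_option autoImplicit false
universe u
open EGA4

namespace Groth.Agent.S9280

/-- A Nagata ring of dimension 1 is J-2, that is, every finite type algebra over it has open regular
locus. -/
theorem result (R : Type u) [CommRing R] (hR : CAlg.IsNagata R)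
    (hdim : ringKrullDim R = 1) : EGA4.IsJ2 R := by
  classical
  haveI := hR.1
  refine (Groth.Ega4Algebra1.isJ2_iff R).2 fun A _ _ _ hfin => ?_
  haveI := hfin
  haveI : IsNoetherianRing A := IsNoetherianRing.of_finite R A
  have hA : CAlg.IsNagata A := Groth.Calg1.isNagata_of_finite hR
  have hN2 : CAlg.IsN2 A := Groth.Calg2.CompleteNagata.isN2_of_ringEquiv (RingEquiv.quotientBot A) (hA.2 ⊥)
  let K := FractionRing A
  let N := integralClosure A K
  haveI : Module.Finite A N := Groth.Calg4.finite_ic_of_isN2 hN2 K K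
  obtain ⟨G, hG⟩ := (Module.finite_def.1 (inferInstance : Module.Finite A N))
  obtain ⟨⟨t, ht⟩, hclear⟩ := IsLocalization.exist_integer_multiples (nonZeroDivisors A) G fun g : N => (g : K)
  choose c hc using hclear
  have hall : ∀ y : N, ∃ a : A, algebraMap A K t * (y : K) = algebraMap A K a := by
    intro y
    have hy : y ∈ Submodule.span A (G : Set N) := hG ▸ Submodule.mem_top
    induction hy using Submodule.span_induction with
    | mem x hx => exact ⟨c x hx, by rw [hc x hx, Algebra.smul_def]⟩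
    | zero => exact ⟨0, by simp⟩
    | add x y _ _ hx hy =>
      obtain ⟨a, ha⟩ := hx
      obtain ⟨b, hb⟩ := hy
      exact ⟨a + b, by rw [Subalgebra.coe_add, mul_add, ha, hb, map_add]⟩
    | smul r x _ hx =>
      obtain ⟨a, ha⟩ := hx
      exact ⟨r * a, by rw [SetLike.val_smul, Algebra.smul_def, mul_left_comm, ha, map_mul]⟩
  refine ⟨PrimeSpectrum.basicOpen t, (PrimeSpectrum.basicOpen t).2, ⟨⟨⊥, Ideal.isPrime_bot⟩, fun h0 =>
    nonZeroDivisors.ne_zero ht (Ideal.mem_bot.1 h0)⟩, fun p hp => ?_⟩
  haveI : p.asIdeal.IsPrime := p.isPrime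
  let L := Localization.AtPrime p.asIdeal
  have hpM : p.asIdeal.primeCompl ≤ nonZeroDivisors A := p.asIdeal.primeCompl_le_nonZeroDivisors
  haveI : IsDomain L := IsLocalization.isDomain_localization hpM
  letI : Algebra L K := (IsLocalization.lift (M := p.asIdeal.primeCompl) (g := algebraMap A K)
    fun s => isUnit_iff_ne_zero.2 ((map_ne_zero_iff _ (IsFractionRing.injective A K)).2
      (nonZeroDivisors.ne_zero (hpM s.2)))).toAlgebra
  haveI : IsScalarTower A L K := IsScalarTower.of_algebraMap_eq fun a => (IsLocalization.lift_eq _ a).symm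
  haveI : IsFractionRing L K := IsFractionRing.isFractionRing_of_isDomain_of_isLocalization p.asIdeal.primeCompl L K
  haveI : IsIntegrallyClosed L := (isIntegrallyClosed_iff K).2 fun {x} hx => by
    obtain ⟨s, hs, hsx⟩ : ∃ s ∈ p.asIdeal.primeCompl, IsIntegral A (s • x) := by
      obtain ⟨⟨s, hs⟩, h⟩ := IsIntegral.exists_multiple_integral_of_isLocalization p.asIdeal.primeCompl (Rₘ := L) x hx
      exact ⟨s, hs, h⟩
    obtain ⟨a, ha⟩ := hall ⟨_, hsx⟩
    refine ⟨IsLocalization.mk' L a (⟨t * s, p.asIdeal.primeCompl.mul_mem hp hs⟩ : p.asIdeal.primeCompl), ?_⟩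
    have hts : algebraMap L K (algebraMap A L (t * s)) ≠ 0 := by
      rw [← IsScalarTower.algebraMap_apply]
      exact (map_ne_zero_iff _ (IsFractionRing.injective A K)).2
        (nonZeroDivisors.ne_zero (hpM (p.asIdeal.primeCompl.mul_mem hp hs)))
    refine mul_left_cancel₀ hts ?_
    rw [← map_mul, IsLocalization.mk'_spec' L a ⟨t * s, _⟩]
    rw [← IsScalarTower.algebraMap_apply, ← IsScalarTower.algebraMap_apply, ← ha, map_mul, mul_assoc]
    exact congrArg _ (Algebra.smul_def s x)
  refine (Groth.Ega4b.normal_local_bounds L (Groth.Ega4b.isNormalRing_of_isDomain L)).1 ?_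
  refine le_trans ?_ hdim.le
  rw [IsLocalization.AtPrime.ringKrullDim_eq_height p.asIdeal L]
  refine le_trans (Ideal.height_le_ringKrullDim_of_ne_top p.isPrime.ne_top) ?_
  refine Order.krullDim_le_of_strictMono (PrimeSpectrum.comap (algebraMap R A)) fun P Q hlt => ?_
  obtain ⟨x, hxQ, hxP⟩ := Set.exists_of_ssubset (show (P.asIdeal : Set A) ⊂ Q.asIdeal from hlt)
  exact Ideal.comap_lt_comap_of_integral_mem_sdiff (hIJ := hlt.le) ⟨hxQ, hxP⟩ (Algebra.IsIntegral.isIntegral x)

end Groth.Agent.S9280
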