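import Groth.Statements.S9281
import Groth.Agent.Ega4Algebra2.GRingFiniteType
-- import your own Groth.Agent.* helpers here

set_option autoImplicit false
universe u
open CAlg

namespace Groth.Agent.S9281

/-- Let p be a prime number and A a Noetherian complete local domain whose fraction field has
characteristic p. Let q be a maximal ideal of A[x] lying over the maximal ideal of A and r a nonzero
prime ideal of A[x] contained in q and lying over (0) in A. Then, for the prime R of the local ring
A[x]_q corresponding to r, the formal fibre κ(R) ⊗ (A[x]_q)^ is geometrically regular over κ(R) =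
κ(r). -/
theorem result (p : ℕ) [Fact p.Prime]
    (A : Type u) [CommRing A] [IsDomain A] [IsLocalRing A] [IsNoetherianRing A]
    [IsAdicComplete (IsLocalRing.maximalIdeal A) A] [CharP A p]
    (q : Ideal (Polynomial A)) [q.IsMaximal]
    (hq : Ideal.comap (Polynomial.C : A →+* Polynomial A) q = IsLocalRing.maximalIdeal A)
    (r : Ideal (Polynomial A)) [r.IsPrime] (hr0 : r ≠ ⊥) (hrq : r ≤ q)
    (hr : Ideal.comap (Polynomial.C : A →+* Polynomial A) r = ⊥)
    (R : Ideal (Localization.AtPrime q)) [R.IsPrime]
    (hR : Ideal.comap (algebraMap (Polynomial A) (Localization.AtPrime q)) R = r) :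
    CAlg.IsGeometricallyRegular R.ResidueField (EGA4.formalFibre (Localization.AtPrime q) R) := by
  exact (((Groth.Ega4b.isGRing_of_finiteType_complete A (Polynomial A)).2 q).2 R).2

end Groth.Agent.S9281
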