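import Groth.Statements.S9282
import Mathlib

set_option autoImplicit false
universe u
open CAlg

namespace Groth.Agent.S9282

/-- Let A → B be a local ring map between Noetherian local rings that is formally smooth for the adic
topology of the maximal ideal of B, and write K for the residue field of B. In the Jacobi–Zariski
sequence attached to A → B → K, the map from H_1(NL_{K/A}) to H_1(NL_{K/B}), which is m_B/m_B^2, is
injective; the remaining terms are exact in general, so that sequence starts with a zero. -/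
theorem result (A B : Type u) [CommRing A]
    [CommRing B] [IsLocalRing A] [IsLocalRing B] [IsNoetherianRing A] [IsNoetherianRing B]
    [Algebra A B] [IsLocalHom (algebraMap A B)]
    (hfs : CAlgX.IsAdicFormallySmooth A B (IsLocalRing.maximalIdeal B)) :
    Function.Injective
      (Algebra.H1Cotangent.map A B (IsLocalRing.ResidueField B) (IsLocalRing.ResidueField B)) := by
  classical
  rw [injective_iff_map_eq_zero]
  intro ξ hξ
  set K := IsLocalRing.ResidueField B
  let G := Algebra.Generators.self A K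
  let P := MvPolynomial K A
  let π : P →ₐ[A] K := MvPolynomial.aeval id
  have hπ : ∀ p : P, algebraMap G.toExtension.Ring K p = π p := fun p => rfl
  have hπs : Function.Surjective π := fun k => ⟨MvPolynomial.X k, MvPolynomial.aeval_X _ _⟩
  set I : Ideal P := RingHom.ker π.toRingHom with hIdef
  have hker : ∀ p : P, p ∈ G.toExtension.ker ↔ p ∈ I := fun p => Iff.rfl
  let Q : Algebra.Extension B K := Algebra.Extension.ofSurjective (Algebra.ofId B K) IsLocalRing.residue_surjective
  let F : G.toExtension.Hom (Algebra.Generators.self B K).toExtension :=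
    (Algebra.Generators.defaultHom G (Algebra.Generators.self B K)).toExtensionHom
  have hQ0 : Algebra.Extension.H1Cotangent.map (Q.defaultHom.comp F) ξ = 0 := by
    have h0 : Algebra.Extension.H1Cotangent.map F ξ = 0 := hξ
    rw [Algebra.Extension.H1Cotangent.map_comp_apply, h0, map_zero]
  obtain ⟨⟨p, hp⟩, hpx⟩ := Algebra.Extension.Cotangent.mk_surjective ξ.1
  let θ : P →ₐ[A] B :=
    { (Q.defaultHom.comp F).toRingHom with
      commutes' := fun a => (Q.defaultHom.comp F).toRingHom_algebraMap a }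
  have hθπ : ∀ q : P, algebraMap B K (θ q) = π q := fun q =>
    (Q.defaultHom.comp F).algebraMap_toRingHom q
  have hθp : θ p ∈ IsLocalRing.maximalIdeal B ^ 2 := by
    have h1 := congr_arg Subtype.val hQ0
    rw [Algebra.Extension.H1Cotangent.map_apply_coe, ← hpx, Algebra.Extension.Cotangent.map_mk] at h1
    have h2 := (Algebra.Extension.Cotangent.mk_eq_zero_iff _).1 h1
    have e : Q.ker = IsLocalRing.maximalIdeal B := IsLocalRing.ker_residue (R := B)
    have h3 : θ p ∈ Q.ker ^ 2 := h2
    exact e ▸ h3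
  have hd : ∀ k : K, MvPolynomial.pderiv k p ∈ I := fun k => by
    have h1 : G.toExtension.cotangentComplex (Algebra.Extension.Cotangent.mk ⟨p, hp⟩) = 0 := by
      rw [hpx]; exact ξ.2
    rw [Algebra.Extension.cotangentComplex_mk] at h1
    have h2 := congr_arg (fun z => G.cotangentSpaceBasis.repr z k) h1
    simp only [map_zero, Finsupp.coe_zero, Pi.zero_apply] at h2
    erw [G.cotangentSpaceBasis_repr_one_tmul] at h2
    exact h2
  let C := P ⧸ I ^ 2
  let J : Ideal C := I.map (Ideal.Quotient.mk (I ^ 2))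
  have hJ : J ^ 2 = ⊥ := by
    rw [← Ideal.map_pow, Ideal.map_quotient_self]
  let ρ : (P ⧸ I) →ₐ[A] C ⧸ J :=
    Ideal.Quotient.liftₐ I ((Ideal.Quotient.mkₐ A J).comp (Ideal.Quotient.mkₐ A (I ^ 2))) fun a ha =>
      Ideal.Quotient.eq_zero_iff_mem.2 (Ideal.mem_map_of_mem _ ha)
  let e : (P ⧸ I) ≃ₐ[A] K := Ideal.quotientKerAlgEquivOfSurjective hπs
  let ψ : B →ₐ[A] C ⧸ J := (ρ.comp e.symm.toAlgHom).comp (IsScalarTower.toAlgHom A B K)
  have hψ : ∀ q : P, ψ (θ q) = Ideal.Quotient.mk J (Ideal.Quotient.mk (I ^ 2) q) := fun q => by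
    show ρ (e.symm (algebraMap B K (θ q))) = _
    rw [hθπ, show π q = e (Ideal.Quotient.mk I q) from rfl, AlgEquiv.symm_apply_apply]
    rfl
  obtain ⟨χ, hχ⟩ := hfs C J hJ ψ ⟨1, fun x hx => by
    rw [pow_one, ← IsLocalRing.residue_eq_zero_iff] at hx
    show ρ (e.symm (IsLocalRing.residue B x)) = 0
    rw [hx, map_zero, map_zero]⟩
  have hχJ : ∀ x ∈ IsLocalRing.maximalIdeal B, χ x ∈ J := fun x hx => by
    rw [← Ideal.Quotient.eq_zero_iff_mem, ← Ideal.Quotient.mkₐ_eq_mk A, ← AlgHom.comp_apply, hχ]
    rw [← IsLocalRing.residue_eq_zero_iff] at hx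
    show ρ (e.symm (IsLocalRing.residue B x)) = 0
    rw [hx, map_zero, map_zero]
  let m : P →ₐ[A] C := Ideal.Quotient.mkₐ A (I ^ 2)
  let φ : P →ₐ[A] C := χ.comp θ
  have hdiff : ∀ q : P, m q - φ q ∈ J := fun q => by
    rw [← Ideal.Quotient.eq]
    exact ((AlgHom.congr_fun hχ (θ q)).trans (hψ q)).symm
  have hJJ : ∀ a ∈ J, ∀ b ∈ J, a * b = (0 : C) := fun a ha b hb => by
    have h : a * b ∈ J ^ 2 := (pow_two J).symm ▸ Ideal.mul_mem_mul ha hb
    rwa [hJ, Ideal.mem_bot] at h
  have hsmul : ∀ (a : P) (c : C), a • c = m a * c := fun a c => by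
    rw [Algebra.smul_def]; rfl
  let D : Derivation A P C := Derivation.mk' (m.toLinearMap - φ.toLinearMap) fun a b => by
    simp only [LinearMap.sub_apply, AlgHom.toLinearMap_apply, map_mul, hsmul]
    linear_combination (norm := ring) -(hJJ _ (hdiff a) _ (hdiff b))
  have hDp : D p = 0 := by
    let L : Derivation A P C :=
      ∑ k ∈ p.vars, (LinearMap.toSpanSingleton P C (D (MvPolynomial.X k))).compDer (MvPolynomial.pderiv k)
    have hsum : ∀ (s : Finset K) (d : K → Derivation A P C) (x : P), (∑ k ∈ s, d k) x = ∑ k ∈ s, d k x :=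
      fun s d x => by rw [← Derivation.coeFnAddMonoidHom_apply, map_sum, Finset.sum_apply]; rfl
    have hL : D p = L p := by
      refine MvPolynomial.derivation_eq_of_forall_mem_vars fun k hk => ?_
      rw [hsum, Finset.sum_eq_single k]
      · show _ = (MvPolynomial.pderiv k (MvPolynomial.X k : MvPolynomial K A) : P) • D (MvPolynomial.X k)
        rw [MvPolynomial.pderiv_X_self, one_smul]
      · intro j _ hj
        simp [MvPolynomial.pderiv_X_of_ne hj.symm]
      · intro h; exact absurd hk h
    rw [hL, hsum]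
    refine Finset.sum_eq_zero fun k _ => ?_
    show MvPolynomial.pderiv k p • D (MvPolynomial.X k) = 0
    rw [hsmul]
    exact hJJ _ (Ideal.mem_map_of_mem _ (hd k)) _ (hdiff _)
  have hφp : φ p = 0 := by
    have h1 : χ (θ p) ∈ J ^ 2 := by
      have h2 : (IsLocalRing.maximalIdeal B).map χ.toRingHom ≤ J := Ideal.map_le_iff_le_comap.2 hχJ
      exact Ideal.pow_right_mono h2 2 (Ideal.map_pow χ.toRingHom _ 2 ▸ Ideal.mem_map_of_mem χ.toRingHom hθp)
    rwa [hJ, Ideal.mem_bot] at h1
  refine Subtype.ext ?_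
  show ξ.1 = 0
  rw [← hpx, Algebra.Extension.Cotangent.mk_eq_zero_iff]
  have h3 : m p = 0 := by
    have h : m p - φ p = 0 := hDp
    rwa [hφp, sub_zero] at h
  exact Ideal.Quotient.eq_zero_iff_mem.1 h3

end Groth.Agent.S9282
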