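import Groth.Statements.S9283
import Mathlib

set_option autoImplicit false
universe u
open CAlg

namespace Groth.Agent.S9283

/-- Let R be an auto-associated ring, that is, a local ring whose maximal ideal is weakly associated to
R: some nonzero x ∈ R is killed by a power of every element of the maximal ideal. Then every proper
finitely generated ideal of R has a nonzero annihilator. -/
theorem result (R : Type u) [CommRing R] [IsLocalRing R]
    (h : ∃ x : R, x ≠ 0 ∧ ∀ f ∈ IsLocalRing.maximalIdeal R, ∃ n : ℕ, f ^ n * x = 0)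
    (I : Ideal R) (hI : I.FG) (hI' : I ≠ ⊤) : I.annihilator ≠ ⊥ := by
  obtain ⟨x, hx0, hx⟩ := h
  have hle : I ≤ (Ideal.span {x}).annihilator.radical := fun f hf => by
    obtain ⟨n, hn⟩ := hx f (IsLocalRing.le_maximalIdeal hI' hf)
    exact ⟨n, (Submodule.mem_annihilator_span_singleton x _).mpr hn⟩
  classical
  have hex : ∃ n, I ^ n * Ideal.span {x} = ⊥ := by
    obtain ⟨n, hn⟩ := Ideal.exists_pow_le_of_le_radical_of_fg hle hI
    exact ⟨n, eq_bot_iff.mpr ((Ideal.mul_mono_left hn).trans
      (Submodule.annihilator_smul (Ideal.span {x})).le)⟩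
  intro hann
  have hspec := Nat.find_spec hex
  cases hn : Nat.find hex with
  | zero =>
    rw [hn, pow_zero, Ideal.one_eq_top, Ideal.top_mul, Ideal.span_singleton_eq_bot] at hspec
    exact hx0 hspec
  | succ n =>
    apply Nat.find_min hex (show n < Nat.find hex by omega)
    rw [hn, pow_succ, mul_comm (I ^ n), mul_assoc] at hspec
    rw [eq_bot_iff, ← hann]
    intro y hy
    rw [Submodule.mem_annihilator]
    intro z hz
    rw [smul_eq_mul, mul_comm]
    exact (Submodule.mem_bot R).mp (hspec ▸ Ideal.mul_mem_mul hz hy)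

end Groth.Agent.S9283
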