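import Groth.Statements.S9285
import Mathlib

set_option autoImplicit false
universe u
open CAlg

namespace Groth.Agent.S9285

/-- A ring R has the property that every proper finitely generated ideal has a nonzero annihilator if
and only if every injective linear map R → R^n admits a retraction. -/
theorem result (R : Type u) [CommRing R] :
    (∀ I : Ideal R, I.FG → I ≠ ⊤ → I.annihilator ≠ ⊥) ↔
      ∀ (n : ℕ) (u : R →ₗ[R] (Fin n → R)), Function.Injective u →
        ∃ v : (Fin n → R) →ₗ[R] R, v.comp u = LinearMap.id := by
  classical
  constructor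
  · intro h n u hu
    let I : Ideal R := Ideal.span (Set.range (u 1))
    have hI : I = ⊤ := by
      by_contra hne
      obtain ⟨a, ha, ha0⟩ := Submodule.exists_mem_ne_zero_of_ne_bot
        (h I (Submodule.fg_span (Set.finite_range _)) hne)
      apply ha0
      apply hu
      rw [map_zero, show a = a • (1 : R) by simp, map_smul]
      funext i
      exact Submodule.mem_annihilator.mp ha _ (Ideal.subset_span ⟨i, rfl⟩)
    obtain ⟨c, hc⟩ := Ideal.mem_span_range_iff_exists_fun.mp (hI ▸ Submodule.mem_top : (1 : R) ∈ I)
    refine ⟨∑ i, c i • LinearMap.proj i, LinearMap.ext_ring ?_⟩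
    simpa [LinearMap.sum_apply] using hc
  · intro h I hI hne hann
    obtain ⟨n, f, hf⟩ := Submodule.fg_iff_exists_fin_generating_family.mp hI
    let u := LinearMap.toSpanSingleton R (Fin n → R) f
    have hu : Function.Injective u := by
      rw [injective_iff_map_eq_zero]
      intro r hr
      have : r ∈ I.annihilator := by
        rw [← hf, Submodule.mem_annihilator_span]
        rintro ⟨_, i, rfl⟩
        exact congrFun hr i
      rwa [hann, Submodule.mem_bot] at this
    obtain ⟨v, hv⟩ := h n u hu
    apply hne
    rw [Ideal.eq_top_iff_one]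
    have h1 : v f = 1 := by simpa [u] using LinearMap.congr_fun hv 1
    rw [← h1, pi_eq_sum_univ f, map_sum, ← hf]
    refine Submodule.sum_mem _ fun i _ => ?_
    rw [map_smul, smul_eq_mul]
    exact Ideal.mul_mem_right _ _ (Submodule.subset_span ⟨i, rfl⟩)

end Groth.Agent.S9285
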