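import Groth.Statements.S9286
import Groth.Agent.S9285
import Mathlib

set_option autoImplicit false
universe u
open CAlg

namespace Groth.Agent.S9286


theorem free_splits {R : Type u} [CommRing R]
    (h : ∀ (m : ℕ) (u : R →ₗ[R] (Fin m → R)), Function.Injective u →
        ∃ v : (Fin m → R) →ₗ[R] R, v.comp u = LinearMap.id) :
    ∀ (n m : ℕ) (u : (Fin n → R) →ₗ[R] (Fin m → R)), Function.Injective u →
      ∃ r : (Fin m → R) →ₗ[R] (Fin n → R), r.comp u = LinearMap.id := by
  intro n
  induction n with
  | zero => exact fun m u _ => ⟨0, LinearMap.ext fun x => Subsingleton.elim _ _⟩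
  | succ n ih =>
    intro m u hu
    let e := Fin.consLinearEquiv R (fun _ : Fin (n + 1) => R)
    let u1 : R →ₗ[R] (Fin m → R) := u ∘ₗ e.toLinearMap ∘ₗ LinearMap.inl R R (Fin n → R)
    let u' : (Fin n → R) →ₗ[R] (Fin m → R) := u ∘ₗ e.toLinearMap ∘ₗ LinearMap.inr R R (Fin n → R)
    have hu1 : Function.Injective u1 := fun a b hab => by
      have := e.injective (hu hab)
      simpa using congrArg Prod.fst this
    have key : ∀ a x, u (e (a, x)) = u1 a + u' x := fun a x => by
      simp [u1, u', ← map_add]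
    obtain ⟨v, hv⟩ := h m u1 hu1
    have hv' : ∀ a, v (u1 a) = a := fun a => LinearMap.congr_fun hv a
    let π : (Fin m → R) →ₗ[R] (Fin m → R) := LinearMap.id - u1 ∘ₗ v
    have hπ1 : ∀ a, π (u1 a) = 0 := fun a => by simp [π, hv']
    have hw : Function.Injective (π ∘ₗ u') := by
      rw [injective_iff_map_eq_zero]
      intro x hx
      have hx' : u' x = u1 (v (u' x)) := by
        simpa [π, sub_eq_zero] using hx
      have h0 : u (e (-v (u' x), x)) = u (e 0) := by
        rw [key, map_neg, ← hx', neg_add_cancel, map_zero, map_zero]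
      simpa using congrArg Prod.snd (e.injective (hu h0))
    obtain ⟨s, hs⟩ := ih m _ hw
    have hs' : ∀ x, s (π (u' x)) = x := fun x => LinearMap.congr_fun hs x
    refine ⟨e.toLinearMap ∘ₗ ((v - v ∘ₗ u' ∘ₗ s ∘ₗ π).prod (s ∘ₗ π)), LinearMap.ext fun y => ?_⟩
    obtain ⟨⟨a, x⟩, rfl⟩ := e.surjective y
    simp [key, map_add, hv', hπ1, hs']

/-- Let R be a ring in which every proper finitely generated ideal has a nonzero annihilator. Given an
injective R-linear map u : N → M, where both N and M are finite and projective over R, the quotient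
Coker(u) = M/u(N) is again projective as an R-module. -/
theorem result (R : Type u) [CommRing R]
    (hP : (∀ I : Ideal R, I.FG → I ≠ ⊤ → I.annihilator ≠ ⊥))
    (N M : Type u) [AddCommGroup N] [Module R N] [Module.Finite R N] [Module.Projective R N]
    [AddCommGroup M] [Module R M] [Module.Finite R M] [Module.Projective R M]
    (u : N →ₗ[R] M) (hu : Function.Injective u) :
    Module.Projective R (M ⧸ LinearMap.range u) := by
  classical
  have h := (Groth.Agent.S9285.result R).mp hP
  obtain ⟨n, f, g, -, -, hfg⟩ := Module.Finite.exists_comp_eq_id_of_projective R N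
  obtain ⟨m, fM, gM, -, -, hfgM⟩ := Module.Finite.exists_comp_eq_id_of_projective R M
  have hfg' : ∀ y, f (g y) = y := fun y => LinearMap.congr_fun hfg y
  have hgM : Function.Injective gM :=
    Function.LeftInverse.injective (g := fM) (fun y => LinearMap.congr_fun hfgM y)
  let E : ((Fin m → R) × (Fin n → R)) ≃ₗ[R] (Fin (m + n) → R) :=
    (LinearEquiv.sumArrowLequivProdArrow _ _ R R).symm ≪≫ₗ
      LinearEquiv.funCongrLeft R R finSumFinEquiv.symm
  let U : (Fin n → R) →ₗ[R] (Fin (m + n) → R) :=
    E.toLinearMap ∘ₗ ((gM ∘ₗ u ∘ₗ f).prod (LinearMap.id - g ∘ₗ f))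
  have hU : Function.Injective U := by
    rw [injective_iff_map_eq_zero]
    intro x hx
    have hx' := E.map_eq_zero_iff.mp hx
    simp only [LinearMap.prod_apply, Function.prod, LinearMap.comp_apply, Prod.mk_eq_zero,
      LinearMap.sub_apply, LinearMap.id_apply] at hx'
    have hf : f x = 0 := hu (hgM (by simpa using hx'.1))
    simpa [hf] using hx'.2
  obtain ⟨r, hr⟩ := free_splits h n (m + n) U hU
  let r0 : M →ₗ[R] N := f ∘ₗ r ∘ₗ E.toLinearMap ∘ₗ LinearMap.inl R _ _ ∘ₗ gM
  have hr0 : ∀ y, r0 (u y) = y := by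
    intro y
    have h1 : U (g y) = E (gM (u y), 0) := by simp [U, hfg']
    simp only [r0, LinearMap.comp_apply, LinearMap.inl_apply, LinearEquiv.coe_coe]
    rw [← h1, show r (U (g y)) = g y from LinearMap.congr_fun hr (g y), hfg']
  let i : (M ⧸ LinearMap.range u) →ₗ[R] M :=
    (LinearMap.range u).liftQ (LinearMap.id - u ∘ₗ r0) (by
      rintro _ ⟨y, rfl⟩; simp [hr0])
  refine Module.Projective.of_split i (LinearMap.range u).mkQ ?_
  refine LinearMap.ext fun y => ?_
  obtain ⟨y, rfl⟩ := Submodule.mkQ_surjective _ y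
  simp [i]

end Groth.Agent.S9286
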