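import Groth.Statements.S9288
import Mathlib
import Groth.Agent.S2036
import Groth.Agent.Calg7.GeomRegBasis
-- import your own Groth.Agent.* helpers here

set_option autoImplicit false
universe u
open CAlg

namespace Groth.Agent.S9288

/-- Let k be a field of positive characteristic p and (A, m, K) a Noetherian local k-algebra which is
geometrically regular over k. Let F ⊆ K be a subfield containing k, finitely generated over k, and φ
: k[y_1, ..., y_m] → A a k-algebra map such that each y_i maps into F (modulo m) and such that the
differentials of the images of y_1, ..., y_m form a basis of Ω_{F/k}. Let 𝔭 be the inverse image of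
m in k[y_1, ..., y_m]. Then A is flat over k[y_1, ..., y_m] (equivalently over its localization at
𝔭, since A is local) and A/𝔭A is a regular local ring. -/
theorem result (p : ℕ)
    [Fact p.Prime] (k : Type u) [Field k] [CharP k p] (A : Type u) [CommRing A] [IsLocalRing A]
    [IsNoetherianRing A] [Algebra k A] (hA : CAlg.IsGeometricallyRegular k A)
    (F : IntermediateField k (IsLocalRing.ResidueField A)) (hF : F.FG) (m : ℕ)
    (φ : MvPolynomial (Fin m) k →ₐ[k] A)
    (hφ : ∀ i : Fin m, IsLocalRing.residue A (φ (MvPolynomial.X i)) ∈ F)
    (hb : LinearIndependent F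
        (fun i : Fin m => KaehlerDifferential.D k F ⟨IsLocalRing.residue A (φ (MvPolynomial.X i)), hφ i⟩) ∧
      Submodule.span F (Set.range
        (fun i : Fin m => KaehlerDifferential.D k F ⟨IsLocalRing.residue A (φ (MvPolynomial.X i)), hφ i⟩)) = ⊤) :
    letI := φ.toRingHom.toAlgebra
    Module.Flat (MvPolynomial (Fin m) k) A ∧
      IsRegularLocalRing (A ⧸ Ideal.map φ.toRingHom
        (Ideal.comap φ.toRingHom (IsLocalRing.maximalIdeal A))) := by
  exact Groth.Calg7.GeomRegBasis.flat_and_regular k A ((Groth.Agent.S2036.result p).mp hA) F m φ hφ hb.1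

end Groth.Agent.S9288
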