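import Groth.Statements.S9289
import Groth.Agent.Ega4Algebra2.FormalFibreQF
-- import your own Groth.Agent.* helpers here

set_option autoImplicit false
universe u
open CAlg

namespace Groth.Agent.S9289

/-- Let R and R' be Noetherian rings with R' of finite type over R and quasi-finite at the prime p' of
R', lying over p. If R_p has geometrically regular formal fibres, so does R'_{p'}; stated as: if the
completion map of R_p is regular, so is that of R'_{p'}. -/
theorem result (R R' : Type u) [CommRing R]
    [CommRing R'] [IsNoetherianRing R] [IsNoetherianRing R'] [Algebra R R'] [Algebra.FiniteType R R']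
    (p' : Ideal R') [p'.IsPrime] [Algebra.QuasiFiniteAt R p']
    (h : CAlg.IsRegularHom (Localization.AtPrime (Ideal.comap (algebraMap R R') p'))
      (AdicCompletion (IsLocalRing.maximalIdeal (Localization.AtPrime (Ideal.comap (algebraMap R R') p')))
        (Localization.AtPrime (Ideal.comap (algebraMap R R') p')))) :
    CAlg.IsRegularHom (Localization.AtPrime p')
      (AdicCompletion (IsLocalRing.maximalIdeal (Localization.AtPrime p')) (Localization.AtPrime p')) := by
  let p := Ideal.comap (algebraMap R R') p'
  letI : Algebra (Localization.AtPrime p) (Localization.AtPrime p') :=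
    (Localization.localRingHom p p' (algebraMap R R') rfl).toAlgebra
  haveI : IsScalarTower R (Localization.AtPrime p) (Localization.AtPrime p') :=
    IsScalarTower.of_algebraMap_eq fun a => by
      rw [IsScalarTower.algebraMap_apply R R' (Localization.AtPrime p')]
      exact (Localization.localRingHom_to_map p p' (algebraMap R R') rfl a).symm
  obtain ⟨_, _⟩ := Groth.Ega4b.FibQF.quasiFinite_atPrime R R' p' p
  haveI : IsNoetherianRing (Localization.AtPrime p') := IsLocalization.isNoetherianRing p'.primeCompl _ inferInstance
  haveI : IsNoetherianRing (Localization.AtPrime p) := IsLocalization.isNoetherianRing p.primeCompl _ inferInstance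
  refine ⟨AdicCompletion.flat_of_isNoetherian _, fun Q' _ => ?_⟩
  exact Groth.Ega4b.FibQF.isGeometricallyRegular_formalFibre (Localization.AtPrime p) (Localization.AtPrime p') Q'
    (Q'.under (Localization.AtPrime p)) (h.2 _).2

end Groth.Agent.S9289
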