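import Groth.Statements.S9290
import Groth.Agent.Ega4Algebra2.FormalFibreQF
-- import your own Groth.Agent.* helpers here

set_option autoImplicit false
universe u
open CAlg

namespace Groth.Agent.S9290

/-- Let R' be a Noetherian algebra of finite type over the Noetherian ring R, quasi-finite at the prime
p' over p, and let Q' ⊆ R'_{p'} and Q ⊆ R_p be primes with the same contraction to R (that is, a
prime q' ⊆ p' of R' lying over the prime q ⊆ p of R). If the formal fibre of R_p at Q is
geometrically regular over κ(Q), then the formal fibre of R'_{p'} at Q' is geometrically regular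
over κ(Q'). -/
theorem result (R R' : Type u) [CommRing R] [CommRing R']
    [IsNoetherianRing R] [IsNoetherianRing R'] [Algebra R R'] [Algebra.FiniteType R R']
    (p' : Ideal R') [p'.IsPrime] [Algebra.QuasiFiniteAt R p']
    (Q' : Ideal (Localization.AtPrime p')) [Q'.IsPrime]
    (Q : Ideal (Localization.AtPrime (Ideal.comap (algebraMap R R') p'))) [Q.IsPrime]
    (hQ : Ideal.comap (algebraMap R (Localization.AtPrime (Ideal.comap (algebraMap R R') p'))) Q =
      Ideal.comap (algebraMap R (Localization.AtPrime p')) Q')
    (h : CAlg.IsGeometricallyRegular Q.ResidueField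
      (EGA4.formalFibre (Localization.AtPrime (Ideal.comap (algebraMap R R') p')) Q)) :
    CAlg.IsGeometricallyRegular Q'.ResidueField (EGA4.formalFibre (Localization.AtPrime p') Q') := by
  let p := Ideal.comap (algebraMap R R') p'
  letI : Algebra (Localization.AtPrime p) (Localization.AtPrime p') :=
    (Localization.localRingHom p p' (algebraMap R R') rfl).toAlgebra
  haveI : IsScalarTower R (Localization.AtPrime p) (Localization.AtPrime p') :=
    IsScalarTower.of_algebraMap_eq fun a => by
      rw [IsScalarTower.algebraMap_apply R R' (Localization.AtPrime p')]
      exact (Localization.localRingHom_to_map p p' (algebraMap R R') rfl a).symm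
  obtain ⟨_, _⟩ := Groth.Ega4b.FibQF.quasiFinite_atPrime R R' p' p
  haveI : IsNoetherianRing (Localization.AtPrime p') := IsLocalization.isNoetherianRing p'.primeCompl _ inferInstance
  haveI : IsNoetherianRing (Localization.AtPrime p) := IsLocalization.isNoetherianRing p.primeCompl _ inferInstance
  haveI : Q'.LiesOver Q := ⟨by
    have h1 : Q.comap (algebraMap R (Localization.AtPrime p)) =
        (Q'.comap (algebraMap (Localization.AtPrime p) (Localization.AtPrime p'))).comap
          (algebraMap R (Localization.AtPrime p)) := by
      rw [hQ, Ideal.comap_comap, ← IsScalarTower.algebraMap_eq]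
    exact (IsLocalization.map_under p.primeCompl (Localization.AtPrime p) Q).symm.trans
      ((congrArg (Ideal.map (algebraMap R (Localization.AtPrime p))) h1).trans
        (IsLocalization.map_under p.primeCompl (Localization.AtPrime p) _))⟩
  exact (Groth.Ega4b.FibQF.isGeometricallyRegular_formalFibre (Localization.AtPrime p) (Localization.AtPrime p') Q'
    Q h).2

end Groth.Agent.S9290
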