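import Groth.Statements.S9291
import Mathlib.RingTheory.Etale.Basic
import Mathlib.RingTheory.Localization.Ideal
-- import your own Groth.Agent.* helpers here

set_option autoImplicit false
universe u
open EtAlg

namespace Groth.Agent.S9291

/-- Let A be a ring, I an ideal and u a unit of A/I. Then there is an étale ring map A → A' such that
A/I → A'/IA' is an isomorphism, together with a unit of A' mapping to the image of u. -/
theorem result (A : Type u) [CommRing A] (I : Ideal A) (u : (A ⧸ I)ˣ) :
    ∃ (A' : Type u) (_ : CommRing A') (_ : Algebra A A'), Algebra.Etale A A' ∧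
      Function.Bijective (Ideal.quotientMap (Ideal.map (algebraMap A A') I) (algebraMap A A')
        Ideal.le_comap_map) ∧
      ∃ u' : A'ˣ, Ideal.Quotient.mk (Ideal.map (algebraMap A A') I) (u' : A') =
        Ideal.quotientMap (Ideal.map (algebraMap A A') I) (algebraMap A A') Ideal.le_comap_map
          (u : A ⧸ I) := by
  obtain ⟨a, ha⟩ := Ideal.Quotient.mk_surjective (u : A ⧸ I)
  obtain ⟨b, hb⟩ := Ideal.Quotient.mk_surjective (↑u⁻¹ : A ⧸ I)
  have hab : Ideal.Quotient.mk I a * Ideal.Quotient.mk I b = 1 := by rw [ha, hb, Units.mul_inv]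
  refine ⟨Localization.Away a, inferInstance, inferInstance,
    Algebra.Etale.of_isLocalizationAway a, ⟨?_, ?_⟩,
    (IsLocalization.Away.algebraMap_isUnit (S := Localization.Away a) a).unit, ?_⟩
  · rw [injective_iff_map_eq_zero]
    intro x hx
    obtain ⟨y, rfl⟩ := Ideal.Quotient.mk_surjective x
    rw [Ideal.quotientMap_mk, Ideal.Quotient.eq_zero_iff_mem,
      IsLocalization.algebraMap_mem_map_algebraMap_iff (M := Submonoid.powers a)] at hx
    obtain ⟨_, ⟨n, rfl⟩, hn⟩ := hx
    rw [← Ideal.Quotient.eq_zero_iff_mem, map_mul, map_pow] at hn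
    calc Ideal.Quotient.mk I y
        = (Ideal.Quotient.mk I a * Ideal.Quotient.mk I b) ^ n * Ideal.Quotient.mk I y := by
          rw [hab, one_pow, one_mul]
      _ = Ideal.Quotient.mk I b ^ n * (Ideal.Quotient.mk I a ^ n * Ideal.Quotient.mk I y) := by ring
      _ = 0 := by rw [hn, mul_zero]
  · intro x
    obtain ⟨z, rfl⟩ := Ideal.Quotient.mk_surjective x
    obtain ⟨n, y, hy⟩ := IsLocalization.Away.surj a z
    refine ⟨Ideal.Quotient.mk I (y * b ^ n), ?_⟩
    rw [Ideal.quotientMap_mk, Ideal.Quotient.eq, map_mul, map_pow, ← hy]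
    have h1 : a * b - 1 ∈ I := by
      rw [← Ideal.Quotient.eq, map_mul, hab, map_one]
    have h2 : (a * b) ^ n - 1 ∈ I := by
      rw [← Ideal.Quotient.eq, map_pow, map_mul, hab, one_pow, map_one]
    have h3 := Ideal.mul_mem_left _ z (Ideal.mem_map_of_mem (algebraMap A (Localization.Away a)) h2)
    convert h3 using 1
    simp only [map_sub, map_pow, map_mul, map_one]
    ring
  · rw [IsUnit.unit_spec, ← ha, Ideal.quotientMap_mk]

end Groth.Agent.S9291
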