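import Groth.Statements.S9292
import Groth.Agent.HensPair.Colimit
import Groth.Agent.Hensel1.Pairs
import Mathlib.RingTheory.Idempotents
-- import your own Groth.Agent.* helpers here

set_option autoImplicit false
universe u
open EtAlg

namespace Groth.Agent.S9292

/-- Let A be a ring, I an ideal, and e_1, ..., e_n a complete system of orthogonal idempotents of A/I
(equivalently a finite disjoint open covering of Spec(A/I)). Then one can find an A-algebra A' that
is étale over A, such that the induced map A/I → A'/IA' is bijective, together with a complete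
system of orthogonal idempotents of A' lifting the e_j. -/
theorem result (A : Type u) [CommRing A] (I : Ideal A)
    (n : ℕ) (e : Fin n → A ⧸ I) (he : CompleteOrthogonalIdempotents e) :
    ∃ (A' : Type u) (_ : CommRing A') (_ : Algebra A A'), Algebra.Etale A A' ∧
      Function.Bijective (Ideal.quotientMap (Ideal.map (algebraMap A A') I) (algebraMap A A')
        Ideal.le_comap_map) ∧
      ∃ e' : Fin n → A', CompleteOrthogonalIdempotents e' ∧
        ∀ j, Ideal.Quotient.mk (Ideal.map (algebraMap A A') I) (e' j) =
          Ideal.quotientMap (Ideal.map (algebraMap A A') I) (algebraMap A A') Ideal.le_comap_map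
            (e j) := by
  classical
  open Groth.HensPair in
  let H := Hz I
  let J := I.map (algebraMap A H)
  have : HenselianRing H J := henselianRing I
  have hJ : J.map (algebraMap H H) = J := by simp
  let q := Ideal.quotientMap J (algebraMap A H) Ideal.le_comap_map
  have hlift : ∀ j, ∃ E : H, IsIdempotentElem E ∧ Ideal.Quotient.mk J E = q (e j) := fun j => by
    obtain ⟨E, hE, hE'⟩ := (Groth.Hensel1.bijOn_idempotents (I := J) H).surjOn
      (a := (Ideal.quotEquivOfEq hJ.symm) (q (e j)))
      (((he.idem j).map q).map (Ideal.quotEquivOfEq hJ.symm))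
    refine ⟨E, hE, ?_⟩
    have := congrArg (Ideal.quotEquivOfEq hJ) hE'
    obtain ⟨z, hz⟩ := Ideal.Quotient.mk_surjective (q (e j))
    rw [← hz] at this ⊢
    simpa [Ideal.quotEquivOfEq_mk] using this
  choose E hE hEq using hlift
  have hEo : ∀ j k, j ≠ k → E j * E k = 0 := fun j k hjk => by
    refine Groth.Hensel1.idempotent_eq_of_sub_mem_jacobson ((hE j).mul (hE k)) IsIdempotentElem.zero
      (HenselianRing.jac (I := J) ?_)
    rw [sub_zero, ← Ideal.Quotient.eq_zero_iff_mem, map_mul, hEq, hEq, ← map_mul, he.ortho hjk, map_zero]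
  have hEs : ∑ j, E j = 1 := by
    refine Groth.Hensel1.idempotent_eq_of_sub_mem_jacobson
      (OrthogonalIdempotents.isIdempotentElem_sum ⟨hE, fun j k h => hEo j k h⟩) IsIdempotentElem.one
      (HenselianRing.jac (I := J) ?_)
    rw [← Ideal.Quotient.eq, map_sum, map_one]
    simp only [hEq, ← map_sum, he.complete, map_one]
  obtain ⟨i, y, hy⟩ := Groth.HensPair.exists_of_fintype E
  have hstage : ∀ S : Finset (i.Obj × i.Obj), (∀ p ∈ S, of I i p.1 = of I i p.2) →
      ∃ (k : Idx I) (f : i.Obj →ₐ[A] k.Obj), ∀ p ∈ S, f p.1 = f p.2 := by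
    intro S
    induction S using Finset.induction_on with
    | empty => exact fun _ => ⟨i, AlgHom.id A _, by simp⟩
    | insert p S _ ih =>
      intro hS
      obtain ⟨k, f, hf⟩ := ih fun p hp => hS p (Finset.mem_insert_of_mem hp)
      obtain ⟨l, g, hg⟩ := of_eq_of (I := I) (x := f p.1) (y := f p.2) (by
        rw [← AlgHom.comp_apply, ← AlgHom.comp_apply, of_comp]
        exact hS p (Finset.mem_insert_self _ _))
      exact ⟨l, g.comp f, fun r hr => (Finset.mem_insert.1 hr).elim (fun h => h ▸ hg)
        fun h => congrArg g (hf r h)⟩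
  let S : Finset (i.Obj × i.Obj) := insert (∑ j, y j, 1) (Finset.univ.image fun p : Fin n × Fin n =>
    (y p.1 * y p.2, if p.1 = p.2 then y p.1 else 0))
  obtain ⟨k, f, hf⟩ := hstage S fun p hp => by
    rcases Finset.mem_insert.1 hp with rfl | hp
    · simp only [map_sum, hy, hEs, map_one]
    · obtain ⟨⟨a, b⟩, -, rfl⟩ := Finset.mem_image.1 hp
      dsimp only
      split_ifs with h
      · subst h; rw [map_mul, hy]; exact hE a
      · rw [map_mul, hy, hy, map_zero, hEo a b h]
  have hm : ∀ a b, f (y a) * f (y b) = if a = b then f (y a) else 0 := fun a b => by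
    rw [← map_mul, hf _ (Finset.mem_insert_of_mem (Finset.mem_image.2 ⟨(a, b), Finset.mem_univ _, rfl⟩))]
    dsimp only
    split_ifs <;> simp
  refine ⟨k.Obj, inferInstance, inferInstance, k.isNbhd.etale, k.isNbhd.bijective, fun j => f (y j),
    ⟨⟨fun a => by simpa [IsIdempotentElem] using hm a a, fun a b hab => by simpa [hab] using hm a b⟩,
      by rw [← map_sum, hf _ (Finset.mem_insert_self _ _)]; exact map_one f⟩, fun j => ?_⟩
  obtain ⟨a, ha⟩ := Ideal.Quotient.mk_surjective (e j)
  obtain ⟨b, hb⟩ := k.isNbhd.surj (f (y j))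
  have hab : a - b ∈ I := by
    rw [← Ideal.Quotient.eq]
    refine (quotientMap_bijective I).1 ?_
    have h1 := algHom_map_le (of I k) hb
    rw [map_sub, AlgHom.commutes, ← AlgHom.comp_apply, of_comp, hy, ← Ideal.Quotient.eq] at h1
    rw [Ideal.quotientMap_mk, Ideal.quotientMap_mk, ← h1]
    exact ((congrArg q ha).trans (hEq j).symm).trans rfl
  rw [← ha, Ideal.quotientMap_mk, Ideal.Quotient.eq]
  have := Ideal.sub_mem _ hb (Ideal.mem_map_of_mem (algebraMap A k.Obj) hab)
  rwa [map_sub, sub_sub_sub_cancel_right] at this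

end Groth.Agent.S9292
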