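import Groth.Statements.S9297
import Groth.Agent.Calg5.CatenaryEquidim
import Mathlib.RingTheory.Flat.FaithfullyFlat.Algebra
import Mathlib.RingTheory.Ideal.GoingDown

set_option autoImplicit false
universe u
open EGA4

namespace Groth.Agent.S9297

/-- Let A → B be a flat local homomorphism of Noetherian local rings with B catenary and Spec(B)
equidimensional. Then Spec(B/pB) is equidimensional for every prime p of A. -/
theorem result (A B : Type u) [CommRing A] [CommRing B]
    [IsNoetherianRing A] [IsNoetherianRing B] [IsLocalRing A] [IsLocalRing B] [Algebra A B]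
    [IsLocalHom (algebraMap A B)] [Module.Flat A B] (hcat : CAlg.IsCatenary B) (heq : EGA4.IsEquidim B)
    (p : Ideal A) [p.IsPrime] : EGA4.IsEquidim (B ⧸ Ideal.map (algebraMap A B) p) := by
  set I := Ideal.map (algebraMap A B) p with hI
  -- every minimal prime of `B/pB` has the height of `p`
  have key : ∀ Q : PrimeSpectrum B, Q.asIdeal ∈ I.minimalPrimes → Order.height Q = p.height := by
    intro Q hQ
    have hle : p ≤ Q.asIdeal.comap (algebraMap A B) := Ideal.map_le_iff_le_comap.1 hQ.1.2
    have hover : Q.asIdeal.LiesOver p := by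
      refine ⟨le_antisymm hle ?_⟩
      rcases eq_or_lt_of_le hle with h | h
      · exact h.ge
      · have : Q.asIdeal.LiesOver (Q.asIdeal.comap (algebraMap A B)) := ⟨rfl⟩
        obtain ⟨Q', hQ'le, hQ'p, hQ'o⟩ :=
          Ideal.exists_ideal_lt_liesOver_of_lt (S := B) (p := p)
            (q := Q.asIdeal.comap (algebraMap A B)) Q.asIdeal h
        have hIQ' : I ≤ Q' := Ideal.map_le_iff_le_comap.2 (le_of_eq hQ'o.over)
        exact absurd (hQ.2 ⟨hQ'p, hIQ'⟩ hQ'le.le) (not_le_of_gt hQ'le)
    have h := Ideal.height_eq_height_add_of_liesOver_of_hasGoingDown p Q.asIdeal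
    have h0 : (Q.asIdeal.map (Ideal.Quotient.mk I)).height = 0 := by
      have : (Q.asIdeal.map (Ideal.Quotient.mk I)).IsPrime :=
        Ideal.isPrime_map_quotientMk_of_isPrime hQ.1.2
      rw [Ideal.height_eq_zero_iff]
      refine ⟨⟨this, bot_le⟩, fun J hJ hJQ => ?_⟩
      have hJ' := hJ.1
      refine Ideal.map_le_iff_le_comap.2 (hQ.2 ⟨hJ'.comap _, ?_⟩ ?_)
      · exact fun x hx => by simp [Ideal.Quotient.eq_zero_iff_mem.2 hx]
      · refine (Ideal.comap_mono hJQ).trans ?_
        rw [Ideal.comap_map_of_surjective _ Ideal.Quotient.mk_surjective, ← RingHom.ker_eq_comap_bot,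
          Ideal.mk_ker, sup_eq_left.2 hQ.1.2]
    rw [← PrimeSpectrum.height_eq_orderHeight, h, ← hI, h0, add_zero]
  have hconst : ∀ Q Q' : PrimeSpectrum B, Q.asIdeal ∈ I.minimalPrimes →
      Q'.asIdeal ∈ I.minimalPrimes → Order.coheight Q = Order.coheight Q' := fun Q Q' h h' =>
    Groth.Calg5.CatenaryEquidim.eq_of_height_eq hcat heq ((key Q h).trans (key Q' h').symm)
  intro P hP
  have hPp : P.IsPrime := hP.1.1
  let f := Ideal.Quotient.mk I
  have hQ : P.comap f ∈ I.minimalPrimes := by
    rw [Ideal.minimalPrimes_eq_comap]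
    exact ⟨P, hP, rfl⟩
  let Q : PrimeSpectrum B := ⟨P.comap f, hQ.1.1⟩
  have e : ringKrullDim ((B ⧸ I) ⧸ P) = ringKrullDim (B ⧸ Q.asIdeal) := by
    refine ringKrullDim_eq_of_ringEquiv (RingEquiv.ofBijective
      (Ideal.quotientMap P f le_rfl) ⟨Ideal.quotientMap_injective, ?_⟩).symm
    exact Ideal.quotientMap_surjective Ideal.Quotient.mk_surjective
  refine le_antisymm ?_ ?_
  · exact ringKrullDim_le_of_surjective _ Ideal.Quotient.mk_surjective
  · rw [e, Groth.Ega4Algebra1.ringKrullDim_quotient_eq_coheight, ringKrullDim_quotient]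
    refine iSup_le fun l => ?_
    obtain ⟨R, hR, hRle⟩ := Ideal.exists_minimalPrimes_le (I := I) (J := l.head.1.asIdeal)
      ((PrimeSpectrum.mem_zeroLocus _ _).1 l.head.2)
    let R' : PrimeSpectrum B := ⟨R, hR.1.1⟩
    rw [hconst Q R' hQ hR]
    have h3 : (l.length : ℕ∞) ≤ Order.coheight R' := by
      have := Order.length_le_coheight
        (p := l.map (fun x => x.1) (fun a b hab => hab)) (x := R') (by exact hRle)
      exact this
    exact_mod_cast h3

end Groth.Agent.S9297
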