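import Groth.Statements.S9301
import Mathlib
import Groth.Agent.S9300

set_option autoImplicit false
universe u
open CAlg

namespace Groth.Agent.S9301

/-- Let A and B be domains and A → B a flat ring map which is the localization of a quasi-finite ring
map A → B₀ (of finite type with finite fibres). Then every nonzero ideal of B has nonzero preimage
in A. -/
theorem result (A B₀ B : Type u) [CommRing A] [IsDomain A]
    [CommRing B₀] [CommRing B] [IsDomain B] [Algebra A B₀] [Algebra.FiniteType A B₀]
    [Algebra.QuasiFinite A B₀] (S : Submonoid B₀) [Algebra B₀ B] [IsLocalization S B] [Algebra A B]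
    [IsScalarTower A B₀ B] [Module.Flat A B] (J : Ideal B) (hJ : J ≠ ⊥) :
    Ideal.comap (algebraMap A B) J ≠ ⊥ := by
  refine Groth.Agent.S9300.result A B (algebraMap A B) ?_ J hJ
  have hinj : Ideal.comap (algebraMap A B) ⊥ = ⊥ := by
    rw [eq_bot_iff]
    intro a ha
    rw [Ideal.mem_comap, Ideal.mem_bot] at ha
    by_contra h0
    have h1 : IsSMulRegular B (algebraMap A B a) :=
      IsSMulRegular.of_flat (IsSMulRegular.of_ne_zero (by simpa using h0))
    exact one_ne_zero (h1 (show algebraMap A B a • (1 : B) = algebraMap A B a • 0 by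
      rw [ha, zero_smul, zero_smul]))
  refine ⟨⟨⊥, Ideal.isPrime_bot⟩, hinj, ?_⟩
  rintro ⟨P, hP⟩ hPc
  apply PrimeSpectrum.ext
  have hc : ∀ X : Ideal B, Ideal.comap (algebraMap A B) X = (X.comap (algebraMap B₀ B)).under A := by
    intro X
    rw [Ideal.under, Ideal.comap_comap, ← IsScalarTower.algebraMap_eq]
  have h3 : Ideal.comap (algebraMap B₀ B) ⊥ = P.comap (algebraMap B₀ B) :=
    Algebra.QuasiFinite.eq_of_le_of_under_eq (R := A) _ _ (Ideal.comap_mono bot_le)
      (by rw [← hc, ← hc]; exact hinj.trans hPc.symm)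
  change P = ⊥
  calc P = (P.comap (algebraMap B₀ B)).map (algebraMap B₀ B) := (IsLocalization.map_under S B P).symm
    _ = (Ideal.comap (algebraMap B₀ B) ⊥).map (algebraMap B₀ B) := by rw [h3]
    _ = ⊥ := IsLocalization.map_under S B ⊥

end Groth.Agent.S9301
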