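import Groth.Statements.S9302
import Groth.Agent.EtaleAlgebra.HenselLimit
import Mathlib.Algebra.Category.Ring.Limits
import Mathlib.CategoryTheory.Limits.ConcreteCategory.Basic
-- import your own Groth.Agent.* helpers here

set_option autoImplicit false
universe u
open CategoryTheory
open EtAlg

namespace Groth.Agent.S9302

/-- Henselian pairs are preserved under limits: for an inverse system (A_j, I_j) of henselian pairs over
a preordered set J, the limit A = lim A_j with the ideal I = lim I_j (elements all of whose
projections lie in the I_j) is a henselian pair. -/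
theorem result (J : Type u) [Preorder J] (F : J ⥤ CommRingCat.{u})
    (I : ∀ j : J, Ideal (F.obj j))
    (hI : ∀ (i j : J) (φ : i ⟶ j), Ideal.map (F.map φ).hom (I i) ≤ I j)
    (h : ∀ j : J, HenselianRing (F.obj j) (I j)) :
    HenselianRing ((Limits.limit F : CommRingCat.{u}) : Type u)
      (⨅ j : J, Ideal.comap (Limits.limit.π F j).hom (I j)) := by
  have hl := CategoryTheory.Limits.isLimitOfPreserves (CategoryTheory.forget CommRingCat) (Limits.limit.isLimit F)
  refine Groth.EtaleAlgebra.henselianRing_limit (C := fun j => (F.obj j : Type u)) (fun j => (Limits.limit.π F j).hom)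
    (r := fun i j => (i ⟶ j)) (fun i j e => (F.map e).hom)
    (fun i j e => by rw [← CommRingCat.hom_comp, Limits.limit.w]) ?_ ?_ I hI h
  · intro a b hab
    exact Limits.Concrete.limit_ext F a b hab
  · intro x hx
    refine ⟨(Limits.Types.isLimitEquivSections hl).symm ⟨x, fun {i j} e => hx i j e⟩, fun j => ?_⟩
    exact Limits.Types.isLimitEquivSections_symm_apply hl ⟨x, fun {i j} e => hx i j e⟩ j

end Groth.Agent.S9302
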