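import Groth.Statements.S9303
import Mathlib

set_option autoImplicit false
universe u
open CAlg

namespace Groth.Agent.S9303


variable {A : Type u} [CommRing A]

/-- Elements killing the kernel of `A → C` up to `I`-power torsion. -/
def compl (C : Type u) [CommRing C] [Algebra A C] (s : Finset A) : Ideal A where
  carrier := {a | ∀ y : A, algebraMap A C y = 0 → ∀ g ∈ s, ∃ k : ℕ, g ^ k * (a * y) = 0}
  zero_mem' := fun y _ g _ => ⟨0, by simp⟩
  add_mem' := fun {a b} ha hb y hy g hg => by
    obtain ⟨k, hk⟩ := ha y hy g hg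
    obtain ⟨l, hl⟩ := hb y hy g hg
    exact ⟨k + l, by rw [pow_add]; linear_combination g ^ l * hk + g ^ k * hl⟩
  smul_mem' := fun c a ha y hy g hg => by
    obtain ⟨k, hk⟩ := ha y hy g hg
    exact ⟨k, by rw [smul_eq_mul]; linear_combination c * hk⟩

end Groth.Agent.S9303

namespace Groth.Agent.S9303

variable {A : Type u} [CommRing A] {C : Type u} [CommRing C] [Algebra A C]

theorem map_eq_zero_iff' (f : A) (e : Localization.Away f) (he : IsIdempotentElem e)
    [IsLocalization.Away e (Localization (Algebra.algebraMapSubmonoid C (Submonoid.powers f)))]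
    (z : Localization.Away f) :
    algebraMap _ (Localization (Algebra.algebraMapSubmonoid C (Submonoid.powers f))) z = 0 ↔ e * z = 0 := by
  rw [IsLocalization.map_eq_zero_iff (Submonoid.powers e)]
  constructor
  · rintro ⟨⟨_, k, rfl⟩, hk⟩
    rcases k with _ | k
    · simp only [pow_zero, one_mul] at hk
      rw [hk, mul_zero]
    · simpa [he.pow_succ_eq] using hk
  · exact fun h => ⟨⟨e, Submonoid.mem_powers e⟩, h⟩

theorem exists_eq_zero (f : A) (y : A)
    (h : algebraMap A (Localization.Away f) y = 0) : ∃ k : ℕ, f ^ k * y = 0 := by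
  obtain ⟨⟨_, k, rfl⟩, hk⟩ := (IsLocalization.map_eq_zero_iff (Submonoid.powers f) _ y).mp h
  exact ⟨k, hk⟩

theorem exists_eq_zero' (f : A) (y : A)
    (h : algebraMap A (Localization (Algebra.algebraMapSubmonoid C (Submonoid.powers f))) y = 0) :
    ∃ k : ℕ, algebraMap A C (f ^ k * y) = 0 := by
  rw [IsScalarTower.algebraMap_apply A C,
    IsLocalization.map_eq_zero_iff (Algebra.algebraMapSubmonoid C (Submonoid.powers f))] at h
  obtain ⟨⟨_, _, ⟨k, rfl⟩, rfl⟩, hk⟩ := h
  exact ⟨k, by rw [map_mul]; exact hk⟩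

/-- An element whose image in `A_f` kills the kernel lies in `compl` up to a power of `f`. -/
theorem exists_pow_mul_mem (I : Ideal A) (s : Finset A) (hs : Ideal.span (s : Set A) = I)
    (h : ∀ f ∈ I, ∃ e : Localization.Away f, IsIdempotentElem e ∧
      IsLocalization.Away e (Localization (Algebra.algebraMapSubmonoid C (Submonoid.powers f))))
    (f : A) (a : A) (ha : ∀ y : A, algebraMap A C y = 0 → algebraMap A (Localization.Away f) (a * y) = 0) :
    ∃ m : ℕ, f ^ m * a ∈ compl C s := by
  classical
  have hone : ∀ g ∈ s, ∃ m : ℕ, ∀ y : A, algebraMap A C y = 0 →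
      algebraMap A (Localization.Away g) (f ^ m * a * y) = 0 := by
    intro g hg
    obtain ⟨e, he, _⟩ := h g (hs ▸ Ideal.subset_span hg)
    obtain ⟨y0, ⟨_, n, rfl⟩, hy0⟩ := IsLocalization.exists_mk'_eq (Submonoid.powers g) (1 - e)
    have hC : algebraMap A (Localization (Algebra.algebraMapSubmonoid C (Submonoid.powers g))) y0 = 0 := by
      rw [IsScalarTower.algebraMap_apply A (Localization.Away g),
        ← IsLocalization.mk'_spec (Localization.Away g) y0 (⟨g ^ n, n, rfl⟩ : Submonoid.powers g), hy0,
        map_mul, (map_eq_zero_iff' g e he _).mpr (by rw [mul_sub, mul_one, he.eq, sub_self]), zero_mul]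
    obtain ⟨k, hk⟩ := exists_eq_zero' g y0 hC
    obtain ⟨m, hm⟩ := exists_eq_zero f _ (ha _ hk)
    refine ⟨m, fun y hy => ?_⟩
    have hey : e * algebraMap A (Localization.Away g) y = 0 := by
      refine (map_eq_zero_iff' (C := C) g e he _).mp ?_
      rw [← IsScalarTower.algebraMap_apply, IsScalarTower.algebraMap_apply A C, hy, map_zero]
    have hu : IsUnit (algebraMap A (Localization.Away g) (g ^ k)) :=
      IsLocalization.map_units (Localization.Away g) (⟨g ^ k, k, rfl⟩ : Submonoid.powers g)
    have h0 : algebraMap A (Localization.Away g) (f ^ m * a) * (1 - e) = 0 := by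
      rw [← hu.mul_right_eq_zero, ← hy0, ← mul_assoc, ← map_mul, IsLocalization.mul_mk'_eq_mk'_of_mul,
        show g ^ k * (f ^ m * a) * y0 = 0 by linear_combination hm, IsLocalization.mk'_zero]
    rw [map_mul]
    linear_combination (algebraMap A (Localization.Away g) y) * h0 +
      algebraMap A (Localization.Away g) (f ^ m * a) * hey
  choose! m hm using hone
  refine ⟨∑ g ∈ s, m g, fun y hy g hg => ?_⟩
  obtain ⟨k, hk⟩ := exists_eq_zero g _ (hm g hg y hy)
  refine ⟨k, ?_⟩
  rw [← Finset.add_sum_erase _ _ hg, pow_add]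
  linear_combination f ^ (∑ x ∈ s.erase g, m x) * hk

/-- Let A be a ring, I a finitely generated ideal and A → C a ring map such that for every f ∈ I the map
A_f → C_f is the localization of A_f at an idempotent. Then there is a surjection A → C' (C' = A/K
for an ideal K) such that A_f → (C × C')_f is an isomorphism for every f ∈ I. -/
theorem result (A : Type u) [CommRing A]
    (I : Ideal A) (hI : I.FG) (C : Type u) [CommRing C] [Algebra A C]
    (h : ∀ f ∈ I, ∃ e : Localization.Away f, IsIdempotentElem e ∧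
      IsLocalization.Away e (Localization (Algebra.algebraMapSubmonoid C (Submonoid.powers f)))) :
    ∃ K : Ideal A, ∀ f ∈ I, Function.Bijective
      (algebraMap (Localization.Away f)
        (Localization (Algebra.algebraMapSubmonoid (C × (A ⧸ K)) (Submonoid.powers f)))) := by
  classical
  obtain ⟨s, hs⟩ := hI
  refine ⟨compl C s, fun f hf => ?_⟩
  obtain ⟨e, he, hloc⟩ := h f hf
  let L := Localization.Away f
  let Cf := Localization (Algebra.algebraMapSubmonoid C (Submonoid.powers f))
  let P := C × (A ⧸ compl C s)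
  let T := Algebra.algebraMapSubmonoid P (Submonoid.powers f)
  -- elements of `compl` kill the kernel in `A_f`
  have hKf : ∀ a ∈ compl C s, ∀ y : A, algebraMap A C y = 0 → algebraMap A L (a * y) = 0 := by
    intro a ha y hy
    choose! k hk using ha y hy
    have hsub : Ideal.span (s : Set A) ≤ (Submodule.colon (⊥ : Ideal A) {a * y}).radical := by
      rw [Ideal.span_le]
      intro g hg
      exact ⟨k g, by rw [Submodule.mem_colon_singleton, Submodule.mem_bot, smul_eq_mul]; exact hk g hg⟩
    obtain ⟨N, hN⟩ := hsub (hs.symm ▸ hf : f ∈ Ideal.span (s : Set A))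
    rw [Submodule.mem_colon_singleton, Submodule.mem_bot, smul_eq_mul] at hN
    exact (IsLocalization.map_eq_zero_iff (Submonoid.powers f) L _).mpr ⟨⟨_, N, rfl⟩, hN⟩
  -- killing the kernel means being killed by `1 - e`
  have hkill : ∀ a : A, (∀ y : A, algebraMap A C y = 0 → algebraMap A L (a * y) = 0) ↔
      algebraMap A L a * (1 - e) = 0 := by
    intro a
    constructor
    · intro ha
      obtain ⟨y0, ⟨_, n, rfl⟩, hy0⟩ := IsLocalization.exists_mk'_eq (Submonoid.powers f) (1 - e)
      have hC : algebraMap A Cf y0 = 0 := by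
        rw [IsScalarTower.algebraMap_apply A L,
          ← IsLocalization.mk'_spec L y0 (⟨f ^ n, n, rfl⟩ : Submonoid.powers f), hy0,
          map_mul, (map_eq_zero_iff' f e he _).mpr (by rw [mul_sub, mul_one, he.eq, sub_self]), zero_mul]
      obtain ⟨k, hk⟩ := exists_eq_zero' f y0 hC
      have h0 := ha _ hk
      have hu : IsUnit (algebraMap A L (f ^ k)) :=
        IsLocalization.map_units L (⟨f ^ k, k, rfl⟩ : Submonoid.powers f)
      rw [← hu.mul_right_eq_zero, ← hy0, ← mul_assoc, ← map_mul, IsLocalization.mul_mk'_eq_mk'_of_mul,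
        IsLocalization.mk'_eq_zero_iff]
      obtain ⟨m, hm⟩ := exists_eq_zero f _ h0
      exact ⟨⟨f ^ m, m, rfl⟩, by linear_combination hm⟩
    · intro ha y hy
      have hey : e * algebraMap A L y = 0 := (map_eq_zero_iff' (C := C) f e he _).mp (by
        rw [← IsScalarTower.algebraMap_apply, IsScalarTower.algebraMap_apply A C, hy, map_zero])
      rw [map_mul]
      linear_combination (algebraMap A L y) * ha + algebraMap A L a * hey
  have hmem : ∀ m n : ℕ, ∀ a : A, f ^ m * a ∈ compl C s → f ^ (n + m) * a ∈ compl C s := fun m n a ha => by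
    rw [pow_add, mul_assoc]; exact Ideal.mul_mem_left _ _ ha
  constructor
  · rw [injective_iff_map_eq_zero]
    intro z hz
    obtain ⟨a, ⟨_, n, rfl⟩, rfl⟩ := IsLocalization.exists_mk'_eq (Submonoid.powers f) z
    have hz' : algebraMap A (Localization T) a = 0 := by
      rw [IsScalarTower.algebraMap_apply A L,
        ← IsLocalization.mk'_spec L a (⟨f ^ n, n, rfl⟩ : Submonoid.powers f), map_mul, hz, zero_mul]
    rw [IsScalarTower.algebraMap_apply A P, IsLocalization.map_eq_zero_iff T] at hz'
    obtain ⟨⟨_, _, ⟨m, rfl⟩, rfl⟩, hm⟩ := hz'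
    have hm' : algebraMap A P (f ^ m * a) = 0 := by rw [map_mul]; exact hm
    have hmC : algebraMap A C (f ^ m * a) = 0 := congrArg Prod.fst hm'
    have hmK : f ^ m * a ∈ compl C s := Ideal.Quotient.eq_zero_iff_mem.mp (congrArg Prod.snd hm')
    have h1 := (hkill _).mp (hKf _ hmK)
    have h2 : e * algebraMap A L (f ^ m * a) = 0 := (map_eq_zero_iff' (C := C) f e he _).mp (by
      rw [← IsScalarTower.algebraMap_apply, IsScalarTower.algebraMap_apply A C, hmC, map_zero])
    have h3 : algebraMap A L (f ^ m * a) = 0 := by linear_combination h1 + h2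
    rw [map_mul] at h3
    have hu : IsUnit (algebraMap A L (f ^ m)) :=
      IsLocalization.map_units L (⟨f ^ m, m, rfl⟩ : Submonoid.powers f)
    rw [hu.mul_right_eq_zero] at h3
    exact IsLocalization.mk'_eq_zero_iff a _ |>.mpr
      ((IsLocalization.map_eq_zero_iff (Submonoid.powers f) L a).mp h3)
  · intro w
    obtain ⟨⟨c, b⟩, ⟨_, _, ⟨r, rfl⟩, rfl⟩, rfl⟩ := IsLocalization.exists_mk'_eq T w
    obtain ⟨b, rfl⟩ := Ideal.Quotient.mk_surjective b
    suffices ∃ u : L, algebraMap L (Localization T) u =
        algebraMap P (Localization T) (c, Ideal.Quotient.mk _ b) by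
      obtain ⟨u, hu⟩ := this
      refine ⟨u * IsLocalization.mk' L 1 (⟨f ^ r, r, rfl⟩ : Submonoid.powers f), ?_⟩
      rw [IsLocalization.eq_mk'_iff_mul_eq, map_mul, mul_assoc, hu]
      change _ * (_ * algebraMap P (Localization T) (algebraMap A P (f ^ r))) = _
      rw [← IsScalarTower.algebraMap_apply A P (Localization T),
        IsScalarTower.algebraMap_apply A L (Localization T), ← map_mul,
        IsLocalization.mk'_spec' (M := Submonoid.powers f) L 1 ⟨f ^ r, r, rfl⟩ |> (fun h => (mul_comm _ _).trans h),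
        map_one, map_one, mul_one]
    obtain ⟨z0, ⟨_, k, rfl⟩, hz0⟩ := IsLocalization.exists_mk'_eq (Submonoid.powers e) (algebraMap C Cf c)
    have hek : algebraMap L Cf (e ^ k) = 1 := by
      have he1 : algebraMap L Cf e = 1 := by
        rw [← sub_eq_zero, ← map_one (algebraMap L Cf), ← map_sub, map_eq_zero_iff' f e he,
          mul_sub, mul_one, he.eq, sub_self]
      rw [map_pow, he1, one_pow]
    have hz : algebraMap L Cf z0 = algebraMap C Cf c := by
      rw [← hz0, ← IsLocalization.mk'_spec Cf z0 (⟨e ^ k, k, rfl⟩ : Submonoid.powers e)]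
      change _ * algebraMap L Cf (e ^ k) = _
      rw [hek, mul_one]
    let u : L := z0 * e + algebraMap A L b * (1 - e)
    obtain ⟨a, ⟨_, n, rfl⟩, hu⟩ := IsLocalization.exists_mk'_eq (Submonoid.powers f) u
    have hua : algebraMap A L a = u * algebraMap A L (f ^ n) := by
      rw [← hu]
      exact (IsLocalization.mk'_spec L a (⟨f ^ n, n, rfl⟩ : Submonoid.powers f)).symm
    obtain ⟨m1, hm1⟩ := exists_pow_mul_mem (Ideal.span (s : Set A)) s rfl (hs.symm ▸ h) f (a - b * f ^ n)
      ((hkill _).mpr (by
        rw [map_sub, map_mul, hua]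
        simp only [u]
        linear_combination (algebraMap A L (f ^ n) * (algebraMap A L b - z0)) * he.eq))
    have hC : algebraMap C Cf (algebraMap A C a - algebraMap A C (f ^ n) * c) = 0 := by
      rw [map_sub, map_mul, ← IsScalarTower.algebraMap_apply, ← IsScalarTower.algebraMap_apply,
        IsScalarTower.algebraMap_apply A L Cf, IsScalarTower.algebraMap_apply A L Cf, hua, map_mul,
        ← hz, ← map_mul, ← map_mul, ← map_sub, map_eq_zero_iff' f e he]
      simp only [u]
      linear_combination (algebraMap A L (f ^ n) * (z0 - algebraMap A L b)) * he.eq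
    obtain ⟨⟨_, _, ⟨m2, rfl⟩, rfl⟩, hm2⟩ :=
      (IsLocalization.map_eq_zero_iff (Algebra.algebraMapSubmonoid C (Submonoid.powers f)) _ _).mp hC
    refine ⟨u, ?_⟩
    rw [← hu]
    have key : algebraMap A (Localization T) a =
        algebraMap A (Localization T) (f ^ n) * algebraMap P (Localization T) (c, Ideal.Quotient.mk _ b) := by
      rw [IsScalarTower.algebraMap_apply A P (Localization T) a,
        IsScalarTower.algebraMap_apply A P (Localization T) (f ^ n), ← map_mul,
        IsLocalization.eq_iff_exists T]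
      refine ⟨⟨algebraMap A P (f ^ (m1 + m2)), ⟨f ^ (m1 + m2), ⟨_, rfl⟩, rfl⟩⟩, Prod.ext ?_ ?_⟩
      · change algebraMap A C (f ^ (m1 + m2)) * algebraMap A C a =
          algebraMap A C (f ^ (m1 + m2)) * (algebraMap A C (f ^ n) * c)
        simp only [map_pow] at hm2 ⊢
        linear_combination (algebraMap A C f) ^ m1 * hm2
      · change Ideal.Quotient.mk (compl C s) (f ^ (m1 + m2)) * Ideal.Quotient.mk _ a =
          Ideal.Quotient.mk _ (f ^ (m1 + m2)) * (Ideal.Quotient.mk _ (f ^ n) * Ideal.Quotient.mk _ b)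
        rw [← map_mul, ← map_mul, ← map_mul, Ideal.Quotient.eq,
          show f ^ (m1 + m2) * a - f ^ (m1 + m2) * (f ^ n * b) = f ^ (m2 + m1) * (a - b * f ^ n) by ring]
        exact hmem _ _ _ hm1
    have h0 := congrArg (algebraMap L (Localization T))
      (IsLocalization.mk'_spec L a (⟨f ^ n, n, rfl⟩ : Submonoid.powers f))
    rw [map_mul, ← IsScalarTower.algebraMap_apply, ← IsScalarTower.algebraMap_apply, key, mul_comm] at h0
    refine IsUnit.mul_left_cancel ?_ h0
    rw [IsScalarTower.algebraMap_apply A P]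
    exact IsLocalization.map_units (Localization T) (⟨algebraMap A P (f ^ n), ⟨f ^ n, ⟨n, rfl⟩, rfl⟩⟩ : T)

end Groth.Agent.S9303
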