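import Groth.Statements.S9306
import Groth.Agent.Misc3Ram.UnramBaseChange

set_option autoImplicit false
universe u
open EtRam

namespace Groth.Agent.S9306

open TensorProduct in
/-- Let A → B be an injective local homomorphism of discrete valuation rings with fraction fields K ⊆ L,
and let K' be a finite separable extension of K that is unramified relative to A. Then every field F
onto which K' ⊗_K L surjects is, as an extension of L, unramified relative to B. (The published
statement also records that K' ⊗_K L is a finite product of fields, whose factors are these F; this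
row does not state that part.) -/
theorem result (A B K L K' : Type u) [CommRing A] [IsDomain A]
    [IsDiscreteValuationRing A] [CommRing B] [IsDomain B] [IsDiscreteValuationRing B] [Algebra A B]
    [IsLocalHom (algebraMap A B)] (hinj : Function.Injective (algebraMap A B))
    [Field K] [Field L] [Field K'] [Algebra A K] [IsFractionRing A K] [Algebra B L] [IsFractionRing B L]
    [Algebra K L] [Algebra A L] [IsScalarTower A K L] [IsScalarTower A B L]
    [Algebra K K'] [FiniteDimensional K K'] [Algebra.IsSeparable K K']
    (h : EtRam.IsUnramifiedExt A ((algebraMap K K').comp (algebraMap A K)))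
    (F : Type u) [Field F] [Algebra (K' ⊗[K] L) F] (hF : Function.Surjective (algebraMap (K' ⊗[K] L) F)) :
    EtRam.IsUnramifiedExt B ((algebraMap (K' ⊗[K] L) F).comp
      ((Algebra.TensorProduct.includeRight : L →ₐ[K] K' ⊗[K] L).toRingHom.comp (algebraMap B L))) := by
  let incR := (Algebra.TensorProduct.includeRight : L →ₐ[K] K' ⊗[K] L)
  let incL := (Algebra.TensorProduct.includeLeft : K' →ₐ[K] K' ⊗[K] L)
  let φ := algebraMap (K' ⊗[K] L) F
  letI : Algebra L F := (φ.comp incR.toRingHom).toAlgebra
  letI : Algebra K' F := (φ.comp incL.toRingHom).toAlgebra
  letI : Algebra K F := ((algebraMap L F).comp (algebraMap K L)).toAlgebra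
  haveI : IsScalarTower K L F := IsScalarTower.of_algebraMap_eq fun _ => rfl
  haveI : IsScalarTower K K' F := IsScalarTower.of_algebraMap_eq fun k => by
    show φ (incR (algebraMap K L k)) = φ (incL (algebraMap K K' k))
    rw [AlgHom.commutes, AlgHom.commutes]
  have hadj : Algebra.adjoin L (Set.range (algebraMap K' F)) = ⊤ := by
    refine eq_top_iff.2 fun x _ => ?_
    obtain ⟨z, rfl⟩ := hF x
    induction z using TensorProduct.induction_on with
    | zero => rw [map_zero]; exact zero_mem _
    | tmul a l =>
      rw [show a ⊗ₜ[K] l = incL a * incR l by simp [incL, incR], map_mul]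
      exact mul_mem (Algebra.subset_adjoin ⟨a, rfl⟩) (Subalgebra.algebraMap_mem _ l)
    | add a b ha hb => rw [map_add]; exact add_mem (ha trivial) (hb trivial)
  intro W hW _
  exact Groth.Misc3Ram.unramified_local A B K L hinj K' F hadj W hW fun hV =>
    @h _ hV (Groth.EtaleAlgebra.isLocalHom_codRestrict hV)

end Groth.Agent.S9306
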