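import Groth.Statements.S9307
import Groth.Agent.Misc3Ram.TameBaseChange

set_option autoImplicit false
universe u
open EtRam

namespace Groth.Agent.S9307

open TensorProduct in
/-- Let A → B be an injective local homomorphism of discrete valuation rings with fraction fields K ⊆ L,
and let K' be a finite separable extension of K that is tamely ramified relative to A. Then every
field F onto which K' ⊗_K L surjects is, as an extension of L, tamely ramified relative to B. (The
published statement also records that K' ⊗_K L is a finite product of fields, whose factors are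
these F; this row does not state that part.) -/
theorem result (A B K L K' : Type u) [CommRing A] [IsDomain A]
    [IsDiscreteValuationRing A] [CommRing B] [IsDomain B] [IsDiscreteValuationRing B] [Algebra A B]
    [IsLocalHom (algebraMap A B)] (hinj : Function.Injective (algebraMap A B))
    [Field K] [Field L] [Field K'] [Algebra A K] [IsFractionRing A K] [Algebra B L] [IsFractionRing B L]
    [Algebra K L] [Algebra A L] [IsScalarTower A K L] [IsScalarTower A B L]
    [Algebra K K'] [FiniteDimensional K K'] [Algebra.IsSeparable K K']
    (h : EtRam.IsTamelyRamified A ((algebraMap K K').comp (algebraMap A K)))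
    (F : Type u) [Field F] [Algebra (K' ⊗[K] L) F] (hF : Function.Surjective (algebraMap (K' ⊗[K] L) F)) :
    EtRam.IsTamelyRamified B ((algebraMap (K' ⊗[K] L) F).comp
      ((Algebra.TensorProduct.includeRight : L →ₐ[K] K' ⊗[K] L).toRingHom.comp (algebraMap B L))) := by
  let incR := (Algebra.TensorProduct.includeRight : L →ₐ[K] K' ⊗[K] L)
  let incL := (Algebra.TensorProduct.includeLeft : K' →ₐ[K] K' ⊗[K] L)
  let φ := algebraMap (K' ⊗[K] L) F
  letI : Algebra L F := (φ.comp incR.toRingHom).toAlgebra
  letI : Algebra K' F := (φ.comp incL.toRingHom).toAlgebra
  letI : Algebra K F := ((algebraMap L F).comp (algebraMap K L)).toAlgebra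
  haveI : IsScalarTower K L F := IsScalarTower.of_algebraMap_eq fun _ => rfl
  haveI : IsScalarTower K K' F := IsScalarTower.of_algebraMap_eq fun k => by
    show φ (incR (algebraMap K L k)) = φ (incL (algebraMap K K' k))
    rw [AlgHom.commutes, AlgHom.commutes]
  have hadj : Algebra.adjoin L (Set.range (algebraMap K' F)) = ⊤ := by
    refine eq_top_iff.2 fun x _ => ?_
    obtain ⟨z, rfl⟩ := hF x
    induction z using TensorProduct.induction_on with
    | zero => rw [map_zero]; exact zero_mem _
    | tmul a l =>
      rw [show a ⊗ₜ[K] l = incL a * incR l by simp [incL, incR], map_mul]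
      exact mul_mem (Algebra.subset_adjoin ⟨a, rfl⟩) (Subalgebra.algebraMap_mem _ l)
    | add a b ha hb => rw [map_add]; exact add_mem (ha trivial) (hb trivial)
  haveI : FiniteDimensional L F := by
    let b := Module.finBasis K K'
    refine Module.Finite.of_surjective
      (M := Fin (Module.finrank K K') → L) (Fintype.linearCombination L fun i => algebraMap K' F (b i)) ?_
    intro x
    obtain ⟨z, rfl⟩ := hF x
    induction z using TensorProduct.induction_on with
    | zero => exact ⟨0, by rw [map_zero, map_zero]⟩
    | tmul a l =>
      refine ⟨fun i => l * algebraMap K L (b.repr a i), ?_⟩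
      rw [show a ⊗ₜ[K] l = incL a * incR l by simp [incL, incR], map_mul, Fintype.linearCombination_apply]
      show _ = algebraMap K' F a * algebraMap L F l
      conv_rhs => rw [← b.sum_repr a, map_sum, Finset.sum_mul]
      refine Finset.sum_congr rfl fun i _ => ?_
      rw [Algebra.smul_def, Algebra.smul_def, map_mul, map_mul, ← IsScalarTower.algebraMap_apply,
        ← IsScalarTower.algebraMap_apply]
      ring
    | add a b ha hb =>
      obtain ⟨f, hf⟩ := ha
      obtain ⟨g, hg⟩ := hb
      exact ⟨f + g, by rw [map_add, hf, hg, map_add]⟩
  exact Groth.Misc3Ram.tame_local A B K L hinj K' F hadj h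

end Groth.Agent.S9307
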