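import Groth.Statements.S9308
import Groth.Agent.Calg4.ColimitRegular
import Groth.Agent.Calg4.RegularHomSmooth

set_option autoImplicit false
universe u
open CAlg

namespace Groth.Agent.S9308

/-- Let R be a ring and (A_i, φ_ii') a directed system of smooth R-algebras with colimit Λ (the index
type is taken in the universe of the rings). Suppose that for every prime p of R the ring Λ ⊗_R κ(p)
is Noetherian. Then R → Λ is a regular ring map. -/
theorem result (R : Type u) [CommRing R] {ι : Type u} [Preorder ι]
    [IsDirectedOrder ι] [Nonempty ι] (G : ι → Type u) [∀ i, CommRing (G i)] [∀ i, Algebra R (G i)]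
    (f : ∀ i j : ι, i ≤ j → (G i →ₐ[R] G j)) [DirectedSystem G (fun i j h => f i j h)]
    (hs : ∀ i, Algebra.Smooth R (G i))
    (hN : ∀ (p : Ideal R) [p.IsPrime], IsNoetherianRing (p.Fiber (DirectLimit G f))) :
    CAlg.IsRegularHom R (DirectLimit G f) := by
  classical
  let g : ∀ i, G i →ₐ[R] DirectLimit G f := DirectLimit.Algebra.of G f
  have hsys : ∀ i j k hij hjk x, f j k hjk (f i j hij x) = f i k (hij.trans hjk) x :=
    fun i j k hij hjk x => DirectedSystem.map_map (f := fun i j h => f i j h) hij hjk x
  have H : Groth.Calg4.IsColim f g := {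
    comp := fun i j h => AlgHom.ext fun x => DirectLimit.Algebra.of_f h x
    surj := fun a => by
      induction a using DirectLimit.induction with | _ i x
      exact ⟨i, x, rfl⟩
    ker := fun i x hx => by
      have h0 : g i x = g i 0 := by rw [hx, map_zero]
      obtain ⟨j, hij, hij', hj⟩ := Quotient.exact h0
      exact ⟨j, hij, by simpa using hj⟩ }
  have : ∀ i, Algebra.Smooth R (G i) := hs
  refine ⟨H.flat, fun p _ => ⟨hN p, fun K _ _ hK => ?_⟩⟩
  have := hN p
  let : Algebra R K := ((algebraMap p.ResidueField K).comp (algebraMap R p.ResidueField)).toAlgebra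
  have : IsScalarTower R p.ResidueField K := IsScalarTower.of_algebraMap_eq fun _ => rfl
  let e := Algebra.TensorProduct.cancelBaseChange R p.ResidueField p.ResidueField K (DirectLimit G f)
  have : IsNoetherianRing (TensorProduct p.ResidueField K (p.Fiber (DirectLimit G f))) := by
    have : IsNoetherianRing (TensorProduct p.ResidueField (p.Fiber (DirectLimit G f)) K) :=
      IsNoetherianRing.of_finite (p.Fiber (DirectLimit G f))
        (TensorProduct p.ResidueField (p.Fiber (DirectLimit G f)) K)
    exact isNoetherianRing_of_ringEquiv _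
      (Algebra.TensorProduct.comm p.ResidueField (p.Fiber (DirectLimit G f)) K).toRingEquiv
  have : IsNoetherianRing (TensorProduct R K (DirectLimit G f)) :=
    isNoetherianRing_of_ringEquiv _ e.toRingEquiv
  have H' : Groth.Calg4.IsColim (fun i j h => (Groth.Calg4.bmap K (f i j h)).restrictScalars R)
      (fun i => (Groth.Calg4.bmap K (g i)).restrictScalars R) := {
    comp := fun i j h => by
      refine AlgHom.ext fun x => ?_
      show (Groth.Calg4.bmap K (g j)).comp (Groth.Calg4.bmap K (f i j h)) x = _
      rw [← Groth.Calg4.bmap_comp, H.comp]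
      rfl
    surj := fun a => by
      obtain ⟨i, w, hw⟩ := H.tensor_surj (M := K) a
      exact ⟨i, w, hw⟩
    ker := fun i x hx => by
      exact H.exists_transition_kill hsys x hx }
  have : ∀ i, IsRegularRing (TensorProduct R K (G i)) := fun i =>
    Groth.Agent.S9408.isRegularRing_of_smooth K _
  have := H'.isRegularRing (fun i j k hij hjk x => by
    show (Groth.Calg4.bmap K (f j k hjk)).comp (Groth.Calg4.bmap K (f i j hij)) x = _
    rw [← Groth.Calg4.bmap_comp, show (f j k hjk).comp (f i j hij) = f i k (hij.trans hjk) from
      AlgHom.ext (hsys i j k hij hjk)]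
    rfl)
  exact IsRegularRing.of_ringEquiv e.toRingEquiv.symm

end Groth.Agent.S9308
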