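import Groth.Statements.S9310
import Groth.Agent.Ega4Algebra2.PowerSeriesRsop
-- import your own Groth.Agent.* helpers here

set_option autoImplicit false
universe u
open CAlg

namespace Groth.Agent.S9310

/-- Let K be a field, A = K[[x_1, ..., x_n]], and y_1, ..., y_n ∈ A a regular system of parameters (n
elements generating the maximal ideal). Then the substitution map K[[y_1, ..., y_n]] → A is an
isomorphism: f ↦ f(y_1, ..., y_n) is a bijection of K[[x_1, ..., x_n]] onto itself. -/
theorem result (K : Type u) [Field K] (n : ℕ)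
    (y : Fin n → MvPowerSeries (Fin n) K)
    (hy : Ideal.span (Set.range y) = IsLocalRing.maximalIdeal (MvPowerSeries (Fin n) K)) :
    Function.Bijective (MvPowerSeries.subst y : MvPowerSeries (Fin n) K → MvPowerSeries (Fin n) K) := by
  classical
  have hX : ∀ k, (MvPowerSeries.X k : MvPowerSeries (Fin n) K) ∈ IsLocalRing.maximalIdeal (MvPowerSeries (Fin n) K) := fun k =>
    (IsLocalRing.mem_maximalIdeal _).2 (fun h => by simpa using MvPowerSeries.isUnit_constantCoeff _ h)
  refine Groth.Ega4b.PSRsop.bijective_subst_of_mem_span y (fun i => ?_) ∅ (fun t ht => ht.elim) (fun k => by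
    rw [Set.empty_union, hy]; exact hX k)
  have h1 : y i ∈ IsLocalRing.maximalIdeal (MvPowerSeries (Fin n) K) := hy ▸ Ideal.subset_span ⟨i, rfl⟩
  by_contra h
  exact (IsLocalRing.mem_maximalIdeal _).1 h1 (MvPowerSeries.isUnit_iff_constantCoeff.2 (Ne.isUnit h))

end Groth.Agent.S9310
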