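import Groth.Statements.S9311
import Groth.Agent.Ega4Algebra2.PowerSeriesRsop
-- import your own Groth.Agent.* helpers here

set_option autoImplicit false
universe u
open CAlg

namespace Groth.Agent.S9311

/-- Let Λ be a Cohen ring (a complete discrete valuation ring whose maximal ideal is generated by a
prime number p), B = Λ[[x_1, ..., x_n]], and y_1, ..., y_n ∈ B with zero constant terms such that p,
y_1, ..., y_n is a regular system of parameters of B (these n + 1 elements generate the maximal
ideal). Then the substitution map Λ[[y_1, ..., y_n]] → B is an isomorphism: f ↦ f(y_1, ..., y_n) is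
a bijection of Λ[[x_1, ..., x_n]] onto itself. (The published statement allows the y_i to have
constant terms in pΛ, the substitution being defined through the (p, x)-adic topology of B; this row
asks the constant terms to vanish, the case in which substitution is defined coefficientwise with no
topology on Λ.) -/
theorem result (Λ : Type u) [CommRing Λ] [IsDomain Λ]
    [IsDiscreteValuationRing Λ] [IsAdicComplete (IsLocalRing.maximalIdeal Λ) Λ] (p : ℕ) (hp : p.Prime)
    (hm : IsLocalRing.maximalIdeal Λ = Ideal.span {(p : Λ)}) (n : ℕ)
    (y : Fin n → MvPowerSeries (Fin n) Λ) (hy0 : ∀ i, MvPowerSeries.constantCoeff (y i) = 0)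
    (hy : Ideal.span (insert (p : MvPowerSeries (Fin n) Λ) (Set.range y)) =
      IsLocalRing.maximalIdeal (MvPowerSeries (Fin n) Λ)) :
    Function.Bijective (MvPowerSeries.subst y : MvPowerSeries (Fin n) Λ → MvPowerSeries (Fin n) Λ) := by
  classical
  refine Groth.Ega4b.PSRsop.bijective_subst_of_mem_span y hy0 {(p : MvPowerSeries (Fin n) Λ)} (fun t ht => ?_) (fun k => ?_)
  · rw [Set.mem_singleton_iff] at ht
    exact ⟨(p : Λ), by rw [hm]; exact Ideal.mem_span_singleton_self _, by rw [ht, map_natCast]⟩
  · rw [Set.singleton_union, hy]
    exact (IsLocalRing.mem_maximalIdeal _).2 (fun h => by simpa using MvPowerSeries.isUnit_constantCoeff _ h)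

end Groth.Agent.S9311
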