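import Groth.Statements.S9312
import Mathlib
-- import your own Groth.Agent.* helpers here

set_option autoImplicit false
universe u
open CAlg

namespace Groth.Agent.S9312

/-- The universal polynomial `∏ (T - Σ σ(r_i) Z_i)` has invariant coefficients. -/
theorem exists_universal {R G : Type*} [CommRing R] [Group G] [Fintype G] [MulSemiringAction G R]
    {ι : Type*} [Fintype ι] (r : ι → R) :
    ∃ Q : Polynomial (MvPolynomial ι (FixedPoints.subring R G)), Q.Monic ∧
      Q.map (MvPolynomial.map (FixedPoints.subring R G).subtype) =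
        ∏ σ : G, (Polynomial.X - Polynomial.C (∑ i, MvPolynomial.C (σ • r i) * MvPolynomial.X i)) := by
  classical
  set F : Polynomial (MvPolynomial ι R) :=
    ∏ σ : G, (Polynomial.X - Polynomial.C (∑ i, MvPolynomial.C (σ • r i) * MvPolynomial.X i)) with hF
  have hmonic : F.Monic := Polynomial.monic_prod_of_monic _ _ fun σ _ => Polynomial.monic_X_sub_C _
  have hinv : ∀ τ : G, F.map (MvPolynomial.map (MulSemiringAction.toRingHom G R τ)) = F := by
    intro τ
    rw [hF, Polynomial.map_prod]
    refine Fintype.prod_equiv (Equiv.mulLeft τ) _ _ fun σ => ?_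
    simp [Polynomial.map_sum, map_sum, mul_smul]
  have hlift : F ∈ Polynomial.lifts (MvPolynomial.map (σ := ι) (FixedPoints.subring R G).subtype) := by
    rw [Polynomial.lifts_iff_coeff_lifts]
    intro k
    apply MvPolynomial.mem_range_map_iff_coeffs_subset.2
    intro c hc
    obtain ⟨d, -, rfl⟩ := MvPolynomial.mem_coeffs_iff.1 hc
    refine ⟨⟨_, fun τ => ?_⟩, rfl⟩
    show τ • MvPolynomial.coeff d (F.coeff k) = MvPolynomial.coeff d (F.coeff k)
    conv_rhs => rw [← hinv τ]
    rw [Polynomial.coeff_map, MvPolynomial.coeff_map]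
    rfl
  rcases subsingleton_or_nontrivial R with hR | hR
  · exact ⟨1, Polynomial.monic_one, Subsingleton.elim _ _⟩
  obtain ⟨Q, hQ, -, hQm⟩ := Polynomial.lifts_and_degree_eq_and_monic hlift hmonic
  exact ⟨Q, hQm, hQ⟩

/-- Let a finite group G with n elements act on a ring R by ring automorphisms, with invariant ring R^G,
and let A be an algebra over R^G; G acts on A ⊗ R through the factor R. (1) For every G-invariant b
∈ A ⊗ R there is a monic polynomial over A whose image in (A ⊗ R)[T] is (T - b)^n. (2) For every a
in the kernel of A → A ⊗ R, all coefficients of (T - a)^n below degree n vanish, that is (T - a)^n =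
T^n in A[T]. -/
theorem result (R G A : Type u) [CommRing R] [Group G] [Fintype G]
    [MulSemiringAction G R] [CommRing A] [Algebra (FixedPoints.subring R G) A] :
    (∀ b : TensorProduct (FixedPoints.subring R G) A R,
      (∀ σ : G, Algebra.TensorProduct.map (AlgHom.id (FixedPoints.subring R G) A)
        (MulSemiringAction.toAlgHom (FixedPoints.subring R G) R σ) b = b) →
      ∃ P : Polynomial A, P.Monic ∧
        Polynomial.map (algebraMap A (TensorProduct (FixedPoints.subring R G) A R)) P =
          (Polynomial.X - Polynomial.C b) ^ Fintype.card G) ∧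
    (∀ a : A, algebraMap A (TensorProduct (FixedPoints.subring R G) A R) a = 0 →
      ∀ i : ℕ, i < Fintype.card G → ((Polynomial.X - Polynomial.C a) ^ Fintype.card G).coeff i = 0) := by
  classical
  let R₀ := FixedPoints.subring R G
  constructor
  · intro b hb
    obtain ⟨S, rfl⟩ := TensorProduct.exists_finset b
    obtain ⟨Q, hQm, hQ⟩ := exists_universal (R := R) (G := G) (fun i : S => i.1.2)
    let ψ : MvPolynomial S R₀ →ₐ[R₀] A := MvPolynomial.aeval (fun i : S => i.1.1)
    let φ : MvPolynomial S R →+* TensorProduct R₀ A R := MvPolynomial.eval₂Hom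
      (Algebra.TensorProduct.includeRight : R →ₐ[R₀] TensorProduct R₀ A R).toRingHom
      (fun i : S => i.1.1 ⊗ₜ[R₀] (1 : R))
    refine ⟨Q.map ψ.toRingHom, hQm.map _, ?_⟩
    have hcomm : (algebraMap A (TensorProduct R₀ A R)).comp ψ.toRingHom = φ.comp (MvPolynomial.map R₀.subtype) := by
      refine MvPolynomial.ringHom_ext (fun r => ?_) (fun i => ?_)
      · simp only [ψ, φ, RingHom.comp_apply, AlgHom.toRingHom_eq_coe, RingHom.coe_coe, MvPolynomial.aeval_C,
          MvPolynomial.map_C, MvPolynomial.eval₂Hom_C, Algebra.TensorProduct.includeRight_apply]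
        show algebraMap R₀ A r ⊗ₜ[R₀] (1 : R) = (1 : A) ⊗ₜ[R₀] (r : R)
        rw [Algebra.algebraMap_eq_smul_one, TensorProduct.smul_tmul]
        congr 1
        exact mul_one _
      · simp [ψ, φ]
    rw [Polynomial.map_map, hcomm, ← Polynomial.map_map, hQ, Polynomial.map_prod]
    rw [Finset.prod_congr rfl (fun σ (_ : σ ∈ Finset.univ) => show
      Polynomial.map φ (Polynomial.X - Polynomial.C (∑ i : S, MvPolynomial.C (σ • i.1.2) * MvPolynomial.X i)) =
        Polynomial.X - Polynomial.C (∑ x ∈ S, x.1 ⊗ₜ[R₀] x.2) from ?_), Finset.prod_const, Finset.card_univ]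
    rw [Polynomial.map_sub, Polynomial.map_X, Polynomial.map_C, map_sum]
    conv_rhs => rw [← hb σ, map_sum, ← Finset.sum_coe_sort S]
    congr 2
    refine Finset.sum_congr rfl fun i _ => ?_
    simp [φ, Algebra.TensorProduct.tmul_mul_tmul, R₀]
  · intro a ha i hi
    suffices h : (Polynomial.X - Polynomial.C a) ^ Fintype.card G = Polynomial.X ^ Fintype.card G by
      rw [h, Polynomial.coeff_X_pow, if_neg hi.ne]
    let P := MvPolynomial A R₀
    let π : P →ₐ[R₀] A := MvPolynomial.aeval id
    have hπ : Function.Surjective π := fun x => ⟨MvPolynomial.X x, MvPolynomial.aeval_X _ x⟩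
    let s : P := MvPolynomial.X a
    have hex : Function.Exact ((LinearMap.ker π.toLinearMap).subtype.rTensor R) (π.toLinearMap.rTensor R) := by
      exact @rTensor_exact R₀ (LinearMap.ker π.toLinearMap) P A _ inferInstance inferInstance inferInstance
        _ _ _ (LinearMap.ker π.toLinearMap).subtype π.toLinearMap R _ _
        (LinearMap.exact_subtype_ker_map π.toLinearMap) hπ
    have hs : π.toLinearMap.rTensor R (s ⊗ₜ[R₀] (1 : R)) = 0 := by
      show π s ⊗ₜ[R₀] (1 : R) = 0
      rw [show π s = a from MvPolynomial.aeval_X _ a]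
      exact ha
    obtain ⟨w, hw⟩ := (hex _).1 hs
    obtain ⟨S, rfl⟩ := TensorProduct.exists_finset w
    obtain ⟨Q, hQm, hQ⟩ := exists_universal (R := R) (G := G) (fun i : S => i.1.2)
    let ι : P →+* MvPolynomial A R := MvPolynomial.map R₀.subtype
    have hι : Function.Injective ι := MvPolynomial.map_injective _ Subtype.val_injective
    let ιA : P →ₐ[R₀] MvPolynomial A R :=
      { ι with commutes' := fun r => MvPolynomial.map_C _ r }
    let θ := Algebra.TensorProduct.lift ιA (IsScalarTower.toAlgHom R₀ R (MvPolynomial A R)) (fun _ _ => Commute.all _ _)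
    have hsum : ι s = ∑ i : S, MvPolynomial.C i.1.2 * ι (i.1.1 : P) := by
      have h := congrArg θ hw
      rw [map_sum, map_sum, ← Finset.sum_coe_sort S] at h
      simp only [LinearMap.rTensor_tmul, Submodule.subtype_apply, θ, Algebra.TensorProduct.lift_tmul,
        map_one, mul_one] at h
      refine h.symm.trans (Finset.sum_congr rfl fun i _ => ?_)
      exact mul_comm _ _
    let φ : MvPolynomial S R →+* MvPolynomial A R :=
      MvPolynomial.eval₂Hom MvPolynomial.C (fun i : S => ι (i.1.1 : P))
    let ψ : MvPolynomial S R₀ →+* P := MvPolynomial.eval₂Hom MvPolynomial.C (fun i : S => (i.1.1 : P))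
    have hcomm : ι.comp ψ = φ.comp (MvPolynomial.map R₀.subtype) := by
      refine MvPolynomial.ringHom_ext (fun r => ?_) (fun i => ?_)
      · simp only [ι, ψ, φ, RingHom.comp_apply, MvPolynomial.eval₂Hom_C, MvPolynomial.map_C]
        exact MvPolynomial.map_C _ _
      · simp [ι, ψ, φ]
    have h1 : Q.map ψ = (Polynomial.X - Polynomial.C s) ^ Fintype.card G := by
      apply Polynomial.map_injective ι hι
      rw [Polynomial.map_map, hcomm, ← Polynomial.map_map, hQ, Polynomial.map_prod, Polynomial.map_pow,
        Polynomial.map_sub, Polynomial.map_X, Polynomial.map_C]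
      rw [Finset.prod_congr rfl (fun σ (_ : σ ∈ Finset.univ) => show
        Polynomial.map φ (Polynomial.X - Polynomial.C (∑ i : S, MvPolynomial.C (σ • i.1.2) * MvPolynomial.X i)) =
          Polynomial.X - Polynomial.C (ι s) from ?_), Finset.prod_const, Finset.card_univ]
      rw [Polynomial.map_sub, Polynomial.map_X, Polynomial.map_C, map_sum]
      have hfix : (MvPolynomial.map (MulSemiringAction.toRingHom G R σ)).comp ι = ι := by
        refine MvPolynomial.ringHom_ext (fun r => ?_) (fun x => ?_)
        · simp [ι, show σ • (r : R) = r from r.2 σ]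
        · simp [ι]
      have h := congrArg (MvPolynomial.map (MulSemiringAction.toRingHom G R σ)) hsum
      rw [← RingHom.comp_apply, hfix, map_sum] at h
      rw [h]
      congr 2
      refine Finset.sum_congr rfl fun i _ => ?_
      rw [map_mul, map_mul, MvPolynomial.map_C]
      rw [show MvPolynomial.map (MulSemiringAction.toRingHom G R σ) (ι (i.1.1 : P)) = ι (i.1.1 : P) from RingHom.congr_fun hfix _]
      simp [φ]
    have h2 : Q.map (MvPolynomial.eval₂Hom (RingHom.id R₀) (fun _ : S => (0 : R₀))) = Polynomial.X ^ Fintype.card G := by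
      apply Polynomial.map_injective R₀.subtype Subtype.val_injective
      have hc : R₀.subtype.comp (MvPolynomial.eval₂Hom (RingHom.id R₀) (fun _ : S => (0 : R₀))) =
          (MvPolynomial.eval₂Hom (RingHom.id R) (fun _ : S => (0 : R))).comp (MvPolynomial.map R₀.subtype) := by
        refine MvPolynomial.ringHom_ext (fun r => ?_) (fun i => ?_) <;> simp
      rw [Polynomial.map_map, hc, ← Polynomial.map_map, hQ, Polynomial.map_prod]
      simp [Polynomial.map_sum]
    have h3 : π.toRingHom.comp ψ = (algebraMap R₀ A).comp (MvPolynomial.eval₂Hom (RingHom.id R₀) (fun _ : S => (0 : R₀))) := by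
      refine MvPolynomial.ringHom_ext (fun r => ?_) (fun i => ?_)
      · simp only [ψ, RingHom.comp_apply, MvPolynomial.eval₂Hom_C, RingHom.id_apply]
        exact π.commutes r
      · simp only [ψ, RingHom.comp_apply, MvPolynomial.eval₂Hom_X', map_zero]
        exact i.1.1.2
    have h4 := congrArg (Polynomial.map π.toRingHom) h1
    rw [Polynomial.map_map, h3, ← Polynomial.map_map, h2] at h4
    simp only [Polynomial.map_pow, Polynomial.map_sub, Polynomial.map_X, Polynomial.map_C,
      show π.toRingHom s = a from MvPolynomial.aeval_X _ a] at h4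
    exact h4.symm

end Groth.Agent.S9312
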