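import Groth.Statements.S9313
import Mathlib

set_option autoImplicit false
universe u
open CAlg

namespace Groth.Agent.S9313


variable {A B : Type u} [CommRing A] [CommRing B] [Algebra A B]

/-- The elements of `B'` multiplying a given element of `B` into `B'`. -/
def denomIdeal (x : B) : Ideal (integralClosure A B) where
  carrier := {a | (a : B) * x ∈ integralClosure A B}
  zero_mem' := by simp
  add_mem' := fun {a b} ha hb => by
    simp only [Set.mem_ofPred_eq, Subalgebra.coe_add, add_mul]
    exact add_mem ha hb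
  smul_mem' := fun c a ha => by
    simp only [Set.mem_ofPred_eq, smul_eq_mul, Subalgebra.coe_mul, mul_assoc]
    exact mul_mem c.2 ha

/-- The ideal of `r` with `B'_r = B_r`. -/
def goodIdeal : Ideal (integralClosure A B) := ⨅ x : B, (denomIdeal x).radical

theorem mem_goodIdeal {r : integralClosure A B} :
    r ∈ goodIdeal ↔ ∀ x : B, ∃ m : ℕ, (r : B) ^ m * x ∈ integralClosure A B := by
  simp only [goodIdeal, Submodule.mem_iInf, Ideal.mem_radical_iff]
  rfl

theorem exists_pow_mul_mem_map (I : Ideal A) (r : integralClosure A B) (hr : r ∈ goodIdeal) (b : B)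
    (hb : b ∈ Ideal.map (algebraMap A B) I) :
    ∃ N : ℕ, ∃ z ∈ Ideal.map (algebraMap A (integralClosure A B)) I, (z : B) = (r : B) ^ N * b := by
  induction hb using Submodule.span_induction with
  | mem b hb =>
    obtain ⟨i, hi, rfl⟩ := hb
    exact ⟨0, algebraMap A _ i, Ideal.mem_map_of_mem _ hi, by simp⟩
  | zero => exact ⟨0, 0, Submodule.zero_mem _, by simp⟩
  | add b c _ _ hb hc =>
    obtain ⟨N, z, hz, hzb⟩ := hb
    obtain ⟨M, w, hw, hwc⟩ := hc
    refine ⟨N + M, r ^ M * z + r ^ N * w,
      add_mem (Ideal.mul_mem_left _ _ hz) (Ideal.mul_mem_left _ _ hw), ?_⟩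
    simp only [Subalgebra.coe_add, Subalgebra.coe_mul, Subalgebra.coe_pow, hzb, hwc]
    ring
  | smul a b _ hb =>
    obtain ⟨N, z, hz, hzb⟩ := hb
    obtain ⟨M, hM⟩ := mem_goodIdeal.mp hr a
    refine ⟨M + N, ⟨_, hM⟩ * z, Ideal.mul_mem_left _ _ hz, ?_⟩
    simp only [Subalgebra.coe_mul, hzb, smul_eq_mul]
    ring

theorem mem_map_of_eq (I : Ideal A) (r : integralClosure A B) (hr : r ∈ goodIdeal)
    (x : integralClosure A B) (hx : (x : B) ∈ Ideal.map (algebraMap A B) I) :
    ∃ N : ℕ, ∀ n, N ≤ n → r ^ n * x ∈ Ideal.map (algebraMap A (integralClosure A B)) I := by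
  obtain ⟨N, z, hz, hzx⟩ := exists_pow_mul_mem_map I r hr _ hx
  refine ⟨N, fun n hn => ?_⟩
  have h : r ^ N * x = z := Subtype.ext (by simp [hzx])
  rw [← Nat.sub_add_cancel hn, pow_add, mul_assoc, h]
  exact Ideal.mul_mem_left _ _ hz

theorem quasiFiniteAt_of_idempotent [Algebra.FiniteType A B] (I : Ideal A)
    (e : B ⧸ Ideal.map (algebraMap A B) I)
    (hfin : Module.Finite (A ⧸ I) ((B ⧸ Ideal.map (algebraMap A B) I) ⧸ Ideal.span {1 - e}))
    (he : IsIdempotentElem e) (q : Ideal B) [q.IsPrime]
    (hIq : Ideal.map (algebraMap A B) I ≤ q) (et : B)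
    (het : Ideal.Quotient.mk _ et = e) (hetq : et ∉ q) :
    Algebra.WeaklyQuasiFiniteAt A q := by
  rw [Algebra.weaklyQuasiFiniteAt_iff]
  have : Module.Finite A ((B ⧸ Ideal.map (algebraMap A B) I) ⧸ Ideal.span {1 - e}) :=
    Module.Finite.trans (A ⧸ I) _
  let C1 := (B ⧸ Ideal.map (algebraMap A B) I) ⧸ Ideal.span {1 - e}
  let Q := Localization.AtPrime q ⧸ (q.under A).map (algebraMap A (Localization.AtPrime q))
  let φ : B →ₐ[A] C1 := IsScalarTower.toAlgHom A B C1
  have hφ : Function.Surjective φ := fun c => by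
    obtain ⟨c, rfl⟩ := Ideal.Quotient.mk_surjective c
    obtain ⟨c, rfl⟩ := Ideal.Quotient.mk_surjective c
    exact ⟨c, rfl⟩
  let f0 : B →ₐ[A] Q :=
    (Ideal.Quotient.mkₐ A _).comp (IsScalarTower.toAlgHom A B (Localization.AtPrime q))
  have hunit : IsUnit (f0 et) :=
    (IsLocalization.map_units (M := q.primeCompl) (Localization.AtPrime q) ⟨et, hetq⟩).map
      (Ideal.Quotient.mkₐ A ((q.under A).map (algebraMap A (Localization.AtPrime q))))
  have hI0 : ∀ x ∈ Ideal.map (algebraMap A B) I, f0 x = 0 := fun x hx => by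
    refine Ideal.Quotient.eq_zero_iff_mem.mpr ?_
    have h2 : I ≤ q.under A := fun i hi => hIq (Ideal.mem_map_of_mem _ hi)
    have := Ideal.mem_map_of_mem (algebraMap B (Localization.AtPrime q)) hx
    rw [Ideal.map_map, ← IsScalarTower.algebraMap_eq] at this
    exact Ideal.map_mono h2 this
  have hker : ∀ x, φ x = 0 → f0 x = 0 := fun x hx => by
    have h1 : Ideal.Quotient.mk (Ideal.map (algebraMap A B) I) x ∈ Ideal.span {1 - e} :=
      Ideal.Quotient.eq_zero_iff_mem.mp hx
    obtain ⟨c, hc⟩ := Ideal.mem_span_singleton.mp h1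
    have h2 : et * x ∈ Ideal.map (algebraMap A B) I := by
      rw [← Ideal.Quotient.eq_zero_iff_mem, map_mul, het, hc]
      linear_combination (-c) * he.eq
    have h3 := hI0 _ h2
    rw [map_mul] at h3
    exact hunit.mul_right_eq_zero.mp h3
  let f : C1 →ₐ[A] Q := AlgHom.liftOfSurjective φ hφ f0 hker
  have hfφ : ∀ x, f (φ x) = f0 x := fun x => AlgHom.liftOfSurjective_apply φ hφ f0 hker x
  refine Algebra.QuasiFinite.of_forall_exists_mul_mem_range f fun x => ?_
  obtain ⟨x, rfl⟩ := Ideal.Quotient.mk_surjective x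
  obtain ⟨b, ⟨s, hs⟩, rfl⟩ := IsLocalization.exists_mk'_eq q.primeCompl x
  refine ⟨φ s, ?_, φ b, ?_⟩
  · rw [hfφ]
    exact (IsLocalization.map_units (M := q.primeCompl) (Localization.AtPrime q) ⟨s, hs⟩).map
      (Ideal.Quotient.mkₐ A ((q.under A).map (algebraMap A (Localization.AtPrime q))))
  · show f (φ b) = _ * f (φ s)
    rw [hfφ, hfφ]
    simp only [f0, AlgHom.comp_apply, Ideal.Quotient.mkₐ_eq_mk, IsScalarTower.coe_toAlgHom']
    rw [← map_mul, IsLocalization.mk'_spec_mk]

theorem bijective_away (g : integralClosure A B) (hg : g ∈ goodIdeal) :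
    Function.Bijective (algebraMap (Localization.Away g)
      (Localization (Algebra.algebraMapSubmonoid B (Submonoid.powers g)))) := by
  have hT : IsScalarTower (integralClosure A B) (Localization.Away g)
      (Localization (Algebra.algebraMapSubmonoid B (Submonoid.powers g))) :=
    isScalarTower_localizationAlgebra (Submonoid.powers g) B
  have key : ∀ (a : integralClosure A B) (s : Submonoid.powers g),
      algebraMap (Localization.Away g) (Localization (Algebra.algebraMapSubmonoid B (Submonoid.powers g))) (IsLocalization.mk' _ a s) *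
        algebraMap B (Localization (Algebra.algebraMapSubmonoid B (Submonoid.powers g))) (s : integralClosure A B) = algebraMap B (Localization (Algebra.algebraMapSubmonoid B (Submonoid.powers g))) a := fun a s => by
    have h1 := congrArg (algebraMap (Localization.Away g) (Localization (Algebra.algebraMapSubmonoid B (Submonoid.powers g))))
      (IsLocalization.mk'_spec (Localization.Away g) a s)
    rw [map_mul, ← IsScalarTower.algebraMap_apply, ← IsScalarTower.algebraMap_apply,
      IsScalarTower.algebraMap_apply (integralClosure A B) B (Localization (Algebra.algebraMapSubmonoid B (Submonoid.powers g))),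
      IsScalarTower.algebraMap_apply (integralClosure A B) B (Localization (Algebra.algebraMapSubmonoid B (Submonoid.powers g)))] at h1
    exact h1
  constructor
  · rw [injective_iff_map_eq_zero]
    intro z hz
    obtain ⟨a, s, rfl⟩ := IsLocalization.exists_mk'_eq (Submonoid.powers g) z
    have h1 := key a s
    rw [hz, zero_mul, eq_comm,
      IsLocalization.map_eq_zero_iff (Algebra.algebraMapSubmonoid B (Submonoid.powers g))] at h1
    obtain ⟨⟨_, _, ⟨l, rfl⟩, rfl⟩, hl⟩ := h1
    rw [IsLocalization.mk'_eq_zero_iff]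
    exact ⟨⟨_, l, rfl⟩, Subtype.ext hl⟩
  · intro z
    obtain ⟨b, ⟨_, _, ⟨k, rfl⟩, rfl⟩, rfl⟩ :=
      IsLocalization.exists_mk'_eq (Algebra.algebraMapSubmonoid B (Submonoid.powers g)) z
    obtain ⟨l, hl⟩ := mem_goodIdeal.mp hg b
    refine ⟨IsLocalization.mk' _ (⟨_, hl⟩ : integralClosure A B)
      (⟨g ^ (k + l), k + l, rfl⟩ : Submonoid.powers g), ?_⟩
    rw [eq_comm, IsLocalization.mk'_eq_iff_eq_mul]
    have hu : IsUnit (algebraMap B (Localization (Algebra.algebraMapSubmonoid B (Submonoid.powers g))) ((g : B))) :=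
      IsLocalization.map_units (Localization (Algebra.algebraMapSubmonoid B (Submonoid.powers g)))
        (⟨_, g, ⟨1, pow_one _⟩, rfl⟩ : Algebra.algebraMapSubmonoid B (Submonoid.powers g))
    have h1 := key ⟨_, hl⟩ ⟨g ^ (k + l), k + l, rfl⟩
    have h2 : ((g ^ (k + l) : integralClosure A B) : B) = (g : B) ^ k * (g : B) ^ l := by
      rw [SubmonoidClass.coe_pow, pow_add]
    simp only [h2, map_pow, map_mul] at h1
    refine (hu.pow l).mul_left_cancel ?_
    show _ = _ * (_ * algebraMap B (Localization (Algebra.algebraMapSubmonoid B (Submonoid.powers g))) (algebraMap (integralClosure A B) B (g ^ k)))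
    rw [map_pow, map_pow, show algebraMap (integralClosure A B) B g = (g : B) from rfl]
    linear_combination -h1

/-- Let A be a ring with an ideal I and A → B a ring map of finite type, and suppose B/IB = C_1 × C_2
(given by an idempotent e of B/IB with C_1 = (B/IB)/(1 - e)) where C_1 is finite over A/I. Writing
B' for the integral closure of A in B, some g ∈ B' has idempotent image in B'/IB' lifting e (so
B'/IB' = C_1' × C_2' compatibly with the decomposition of B/IB), and the map B'_g → B_g is an
isomorphism (whence C_1' = C_1). -/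
theorem result (A B : Type u) [CommRing A] [CommRing B]
    [Algebra A B] [Algebra.FiniteType A B] (I : Ideal A) (e : B ⧸ Ideal.map (algebraMap A B) I)
    (he : IsIdempotentElem e)
    (hfin : Module.Finite (A ⧸ I) ((B ⧸ Ideal.map (algebraMap A B) I) ⧸ Ideal.span {1 - e})) :
    ∃ g : integralClosure A B,
      IsIdempotentElem (Ideal.Quotient.mk (Ideal.map (algebraMap A (integralClosure A B)) I) g) ∧
      Ideal.Quotient.mk (Ideal.map (algebraMap A B) I) (g : B) = e ∧
      Function.Bijective (algebraMap (Localization.Away g)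
        (Localization (Algebra.algebraMapSubmonoid B (Submonoid.powers g)))) := by
  obtain ⟨et, het⟩ := Ideal.Quotient.mk_surjective e
  let C1 := (B ⧸ Ideal.map (algebraMap A B) I) ⧸ Ideal.span {1 - e}
  have : Module.Finite A C1 := Module.Finite.trans (A ⧸ I) _
  have : Algebra.IsIntegral (integralClosure A B) C1 := Algebra.IsIntegral.tower_top A
  have htop : goodIdeal ⊔ RingHom.ker (algebraMap (integralClosure A B) C1) = ⊤ := by
    by_contra hne
    obtain ⟨P, hPmax, hP⟩ := Ideal.exists_le_maximal _ hne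
    obtain ⟨Q, -, hQ, hQP⟩ := Ideal.exists_ideal_over_prime_of_isIntegral
      (R := integralClosure A B) (S := C1) P ⊥ (by
        rw [← RingHom.ker_eq_comap_bot]; exact le_sup_right.trans hP)
    let q : Ideal B := Q.comap (algebraMap B C1)
    have hetq : et ∉ q := fun h => hQ.ne_top <| (Ideal.eq_top_iff_one _).mpr <| by
      have h1 : algebraMap B C1 et = 1 := by
        refine Eq.symm ?_
        show (Ideal.Quotient.mk _ (1 : B ⧸ Ideal.map (algebraMap A B) I)) =
          Ideal.Quotient.mk _ (Ideal.Quotient.mk _ et)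
        rw [het, Ideal.Quotient.eq]
        exact Ideal.mem_span_singleton_self _
      exact h1 ▸ h
    have hIq : Ideal.map (algebraMap A B) I ≤ q := fun x hx => by
      have h1 : algebraMap B C1 x = 0 := by
        show Ideal.Quotient.mk _ (Ideal.Quotient.mk _ x) = 0
        rw [Ideal.Quotient.eq_zero_iff_mem.mpr hx, map_zero]
      show algebraMap B C1 x ∈ Q
      rw [h1]; exact Q.zero_mem
    have := quasiFiniteAt_of_idempotent I e hfin he q hIq et het hetq
    obtain ⟨r, hrq, hr, H⟩ := Algebra.zariskisMainProperty_iff.mp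
      (Algebra.ZariskisMainProperty.of_finiteType_of_weaklyQuasiFiniteAt (R := A) q)
    have hrP : (⟨r, hr⟩ : integralClosure A B) ∈ P :=
      hP (Ideal.mem_sup_left (mem_goodIdeal.mpr H))
    rw [← hQP, Ideal.mem_comap] at hrP
    exact hrq hrP
  obtain ⟨r, hr, j, hj, hrj⟩ := Submodule.mem_sup.mp ((Ideal.eq_top_iff_one _).mp htop)
  obtain ⟨m, hm⟩ := mem_goodIdeal.mp hr et
  have hre : Ideal.Quotient.mk (Ideal.map (algebraMap A B) I) (r : B) * e = e := by
    obtain ⟨c, hc⟩ := Ideal.mem_span_singleton.mp (Ideal.Quotient.eq_zero_iff_mem.mp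
      (show Ideal.Quotient.mk (Ideal.span {1 - e})
        (Ideal.Quotient.mk (Ideal.map (algebraMap A B) I) (j : B)) = 0 from hj))
    have h1 : Ideal.Quotient.mk (Ideal.map (algebraMap A B) I) (r : B) +
        Ideal.Quotient.mk _ (j : B) = 1 := by
      rw [← map_add, show (r : B) + j = 1 from congrArg Subtype.val hrj, map_one]
    linear_combination e * h1 - e * hc + c * he.eq
  have hre' : ∀ n : ℕ, Ideal.Quotient.mk (Ideal.map (algebraMap A B) I) (r : B) ^ n * e = e := by
    intro n
    induction n with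
    | zero => simp
    | succ n ih => rw [pow_succ, mul_assoc, hre, ih]
  let y : integralClosure A B := ⟨_, hm⟩
  have hy : Ideal.Quotient.mk (Ideal.map (algebraMap A B) I) (y : B) = e := by
    show Ideal.Quotient.mk _ ((r : B) ^ m * et) = e
    rw [map_mul, map_pow, het, hre']
  obtain ⟨N1, hN1⟩ := mem_map_of_eq I r hr (y ^ 2 - y) (by
    rw [← Ideal.Quotient.eq_zero_iff_mem]
    simp only [AddSubgroupClass.coe_sub, SubmonoidClass.coe_pow, map_sub, map_pow, hy]
    linear_combination he.eq)
  obtain ⟨N2, hN2⟩ := mem_map_of_eq I r hr ((r - 1) * y) (by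
    rw [← Ideal.Quotient.eq_zero_iff_mem]
    simp only [Subalgebra.coe_mul, AddSubgroupClass.coe_sub, OneMemClass.coe_one, map_sub, map_mul,
      map_one, hy]
    linear_combination hre)
  obtain ⟨n, hn1, hn2, hn3⟩ : ∃ n, N1 ≤ n ∧ N2 ≤ n ∧ 1 ≤ n :=
    ⟨N1 + N2 + 1, by omega, by omega, by omega⟩
  have hg : r ^ n * y ∈ goodIdeal := Ideal.mul_mem_right _ _ (Ideal.pow_mem_of_mem _ hr n hn3)
  refine ⟨r ^ n * y, ?_, ?_, bijective_away _ hg⟩
  · rw [IsIdempotentElem, ← map_mul, Ideal.Quotient.eq]
    have h1 := Ideal.mul_mem_left _ (r ^ n) (hN1 n hn1)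
    have h2 := Ideal.mul_mem_left _ (∑ i ∈ Finset.range n, r ^ i) (hN2 n hn2)
    have e1 : r ^ n * y * (r ^ n * y) - r ^ n * y =
        r ^ n * (r ^ n * (y ^ 2 - y)) + (∑ i ∈ Finset.range n, r ^ i) * (r ^ n * ((r - 1) * y)) := by
      linear_combination (-(r ^ n * y)) * geom_sum_mul r n
    rw [e1]
    exact add_mem h1 h2
  · rw [Subalgebra.coe_mul, SubmonoidClass.coe_pow, map_mul, map_pow, hy, hre']

end Groth.Agent.S9313
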