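import Groth.Statements.S9316
import Groth.Agent.Calg4.SmallExtAdic

set_option autoImplicit false
universe u
open CAlg

namespace Groth.Agent.S9316

open IsLocalRing in
/-- Let `R → S` be a local homomorphism of local rings with `S` Noetherian. Then `R → S` is formally
smooth for the adic topology of the maximal ideal of `S` if and only if lifts exist along small
extensions: for every Artinian local ring `A` with a local structure map `R → A`, every ideal `J` of
`A` of square zero which has length one as an `A`-module, and every local `R`-algebra homomorphism
`ψ : S → A/J` inducing a bijection on residue fields, there is an `R`-algebra homomorphism `S → A`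
lifting `ψ`. -/
theorem result {R S : Type u} [CommRing R] [CommRing S]
    [IsLocalRing R] [IsLocalRing S] [IsNoetherianRing S] [Algebra R S] [IsLocalHom (algebraMap R S)] :
    CAlgX.IsAdicFormallySmooth R S (maximalIdeal S) ↔
      ∀ (A : Type u) [CommRing A] [IsLocalRing A] [IsArtinianRing A] [Algebra R A]
        [IsLocalHom (algebraMap R A)] (J : Ideal A), J ^ 2 = ⊥ → Module.length A J = 1 →
        ∀ [IsLocalRing (A ⧸ J)] (ψ : S →ₐ[R] A ⧸ J) [IsLocalHom ψ.toRingHom],
          Function.Bijective (ResidueField.map ψ.toRingHom) →
          ∃ χ : S →ₐ[R] A, (Ideal.Quotient.mkₐ R J).comp χ = ψ := by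
  exact ⟨Groth.Calg4.SmallExtAdic.hasSmallLifts,
    Groth.Calg4.SmallExtAdic.HasSmallLifts.isAdicFormallySmooth⟩

end Groth.Agent.S9316
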