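import Groth.Statements.S9319
import Mathlib
import Groth.Agent.Ega41Sep.Separable

set_option autoImplicit false
universe u
open CAlg

namespace Groth.Agent.S9319


open TensorProduct KaehlerDifferential in
/-- Naturality of the connecting map in the last ring. -/
theorem δ_map_natural (F : Type*) (K L M : Type u) [CommRing F] [CommRing K] [CommRing L] [CommRing M]
    [Algebra F K] [Algebra F L] [Algebra F M] [Algebra K L] [Algebra K M] [Algebra L M]
    [IsScalarTower F K L] [IsScalarTower F K M] [IsScalarTower K L M]
    (x : Algebra.H1Cotangent K L) :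
    Algebra.H1Cotangent.δ F K M (Algebra.H1Cotangent.map K K L M x) =
      AlgebraTensorModule.map (Algebra.linearMap L M) LinearMap.id
        (Algebra.H1Cotangent.δ F K L x) := by
  let QL := Algebra.Generators.self K L
  let QM := Algebra.Generators.self K M
  let f : QL.Hom QM := Algebra.Generators.defaultHom QL QM
  let ι : L ⊗[K] Ω[K⁄F] →ₗ[L] M ⊗[K] Ω[K⁄F] :=
    AlgebraTensorModule.map (Algebra.linearMap L M) LinearMap.id
  have key : ∀ p : QL.Ring, Algebra.Generators.H1Cotangent.δAux F QM (f.toAlgHom p) = ι (Algebra.Generators.H1Cotangent.δAux F QL p) := by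
    intro p
    induction p using MvPolynomial.induction_on with
    | C s => simp [ι, Algebra.Generators.H1Cotangent.δAux_C, MvPolynomial.algebraMap_eq]
    | add p q hp hq => simp only [map_add, hp, hq]
    | mul_X p i hp =>
      rw [map_mul, Algebra.Generators.Hom.toAlgHom_X, Algebra.Generators.H1Cotangent.δAux_mul,
        Algebra.Generators.H1Cotangent.δAux_mul, hp, map_add]
      have h0 : Algebra.Generators.H1Cotangent.δAux F QM (f.val i) = 0 := Algebra.Generators.H1Cotangent.δAux_X (R := F) QM _
      rw [h0, Algebra.Generators.H1Cotangent.δAux_X, smul_zero, smul_zero, map_zero, zero_add, zero_add,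
        ← IsScalarTower.algebraMap_smul M (f.val i) (ι (Algebra.Generators.H1Cotangent.δAux F QL p)),
        ← IsScalarTower.algebraMap_smul (R := QL.Ring) L (MvPolynomial.X i) (Algebra.Generators.H1Cotangent.δAux F QL p), map_smul,
        Algebra.Generators.algebraMap_apply, Algebra.Generators.algebraMap_apply,
        Algebra.Generators.Hom.aeval_val, MvPolynomial.aeval_X, IsScalarTower.algebraMap_smul]
  obtain ⟨x, hx⟩ := x
  obtain ⟨⟨y, hy⟩, rfl⟩ := Algebra.Extension.Cotangent.mk_surjective x
  have hy' := f.toExtensionHom
  change Algebra.Generators.H1Cotangent.δ QM (Algebra.Generators.self F K)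
      (Algebra.Extension.H1Cotangent.map f.toExtensionHom ⟨Algebra.Extension.Cotangent.mk ⟨y, hy⟩, hx⟩) =
    ι (Algebra.Generators.H1Cotangent.δ QL (Algebra.Generators.self F K)
      ⟨Algebra.Extension.Cotangent.mk ⟨y, hy⟩, hx⟩)
  change Algebra.Generators.H1Cotangent.δ _ _ ⟨_, _⟩ = _
  simp only [LinearMap.domRestrict_apply, Algebra.Extension.Cotangent.map_mk,
    Algebra.Generators.H1Cotangent.δ_eq_δAux]
  exact key y

open TensorProduct KaehlerDifferential in
theorem injective_of_formallySmooth (F : Type*) (K L M : Type u) [CommRing F] [Field K] [Field L] [Field M]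
    [Algebra F K] [Algebra F L] [Algebra F M] [Algebra K L] [Algebra K M] [Algebra L M]
    [IsScalarTower F K L] [IsScalarTower F K M] [IsScalarTower K L M]
    [Algebra.FormallySmooth F L] :
    Function.Injective ((Algebra.H1Cotangent.map K K L M).liftBaseChange M) := by
  have hδ : Function.Injective (Algebra.H1Cotangent.δ F K L) := by
    rw [injective_iff_map_eq_zero]
    intro x hx
    obtain ⟨y, rfl⟩ := (Algebra.H1Cotangent.exact_map_δ F K L x).mp hx
    rw [Subsingleton.elim y 0, map_zero]
  let e := AlgebraTensorModule.cancelBaseChange K L M M Ω[K⁄F]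
  have h : (Algebra.H1Cotangent.δ F K M).comp ((Algebra.H1Cotangent.map K K L M).liftBaseChange M) =
      e.toLinearMap.comp ((Algebra.H1Cotangent.δ F K L).baseChange M) := by
    refine TensorProduct.AlgebraTensorModule.curry_injective (LinearMap.ext_ring (LinearMap.ext fun x => ?_))
    simp only [AlgebraTensorModule.curry_apply, LinearMap.restrictScalars_comp, curry_apply,
      LinearMap.coe_comp, LinearMap.coe_restrictScalars, Function.comp_apply,
      LinearMap.liftBaseChange_tmul, one_smul, LinearMap.baseChange_tmul, δ_map_natural]
    generalize Algebra.H1Cotangent.δ F K L x = z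
    induction z using TensorProduct.induction_on with
    | zero => simp
    | tmul a b => simp [e, Algebra.smul_def]
    | add a b ha hb => simp only [map_add, tmul_add, ha, hb]
  refine Function.Injective.of_comp (f := Algebra.H1Cotangent.δ F K M) ?_
  rw [← LinearMap.coe_comp, h, LinearMap.coe_comp]
  exact e.injective.comp (Module.Flat.lTensor_preserves_injective_linearMap _ hδ)

open TensorProduct in
/-- For a tower of fields `K ⊆ L ⊆ M`, the first map of the Jacobi–Zariski sequence, from `H_1(L_{L/K})
⊗_L M` to `H_1(L_{M/K})`, is injective; here `H_1(L)` denotes the first homology of the naive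
cotangent complex and the map is the `M`-linear extension of the functoriality map. (The rest of the
six-term sequence is exact for any three rings, so for fields it is exact with a zero on the left.) -/
theorem result {K L M : Type u} [Field K] [Field L]
    [Field M] [Algebra K L] [Algebra L M] [Algebra K M] [IsScalarTower K L M] :
    Function.Injective ((Algebra.H1Cotangent.map K K L M).liftBaseChange M) := by
  rcases CharP.exists' K with h | ⟨p, hp, hpK⟩
  · have : CharZero L := charZero_of_injective_algebraMap (algebraMap K L).injective
    have : CharZero M := charZero_of_injective_algebraMap (algebraMap K M).injective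
    have : Algebra.FormallySmooth ℚ L := Groth.Ega41Sep.formallySmooth_charZero ℚ L
    exact injective_of_formallySmooth ℚ K L M
  · have : CharP L p := charP_of_injective_algebraMap (algebraMap K L).injective p
    let _ : Algebra (Groth.Ega41Sep.ZModU.{u} p) K := Groth.Ega41Sep.zmodUAlgebra p K
    let _ : Algebra (Groth.Ega41Sep.ZModU.{u} p) L :=
      ((algebraMap K L).comp (algebraMap (Groth.Ega41Sep.ZModU.{u} p) K)).toAlgebra
    let _ : Algebra (Groth.Ega41Sep.ZModU.{u} p) M :=
      ((algebraMap K M).comp (algebraMap (Groth.Ega41Sep.ZModU.{u} p) K)).toAlgebra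
    have : IsScalarTower (Groth.Ega41Sep.ZModU.{u} p) K L := IsScalarTower.of_algebraMap_eq' rfl
    have : IsScalarTower (Groth.Ega41Sep.ZModU.{u} p) K M := IsScalarTower.of_algebraMap_eq' rfl
    have : Algebra.FormallySmooth (Groth.Ega41Sep.ZModU.{u} p) L :=
      Groth.Ega41Sep.formallySmooth_zmodU p L
    exact injective_of_formallySmooth (Groth.Ega41Sep.ZModU.{u} p) K L M

end Groth.Agent.S9319
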