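import Groth.Statements.S9322
import Groth.Agent.Calg4.PowerSeriesAdicSmooth
import Groth.Agent.Ega41Sep.Separable
import Groth.Agent.Ega4Algebra2.NormalFieldExt

set_option autoImplicit false
open CAlg

namespace Groth.Agent.S9322

/-- Let `p` be a prime, `L` a field of characteristic `p` (given as an algebra over `ℤ/p`) and `n ≥ 0`.
Then `𝔽_p → L[[x_1, …, x_n]]` is formally smooth for the adic topology of the maximal ideal of the
power series ring. (`L` is taken in the lowest universe, where `ℤ/p` lives.) -/
theorem result (p : ℕ) [Fact p.Prime] (L : Type) [Field L]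
    [Algebra (ZMod p) L] (n : ℕ) :
    CAlgX.IsAdicFormallySmooth (ZMod p) (MvPowerSeries (Fin n) L)
      (IsLocalRing.maximalIdeal (MvPowerSeries (Fin n) L)) := by
  have := Groth.Ega4b.isGeometricallyReduced_of_perfectField (ZMod p) L
  have : Algebra.FormallySmooth (ZMod p) L := (Groth.Ega41Sep.formallySmooth_iff_isGeometricallyReduced (ZMod p) L).mpr this
  exact Groth.Calg4.isAdicFormallySmooth_mvPowerSeries (ZMod p) L n
    (Groth.Calg4.isAdicFormallySmooth_of_formallySmooth (ZMod p) L _)

end Groth.Agent.S9322
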