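import Groth.Statements.S9324
import Groth.Agent.Hensel1.Pairs
import Groth.Agent.Hensel1.Local
import Groth.Agent.HensPair.Ops

set_option autoImplicit false
universe u
open Hensel

namespace Groth.Agent.S9324

open TensorProduct in
/-- Let `(A, I) → (B, J)` be a map of pairs, i.e. `I B ⊆ J`, such that `J` and `I B` have the same
radical, and suppose `A → B` is integral. Let `A^h` be a henselization of the pair `(A, I)`, `B^h` a
henselization of the pair `(B, J)`, and `φ : A^h → B^h` an `A`-algebra homomorphism (there is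
exactly one, by the universal property of `A^h`). Then the induced map `A^h ⊗_A B → B^h` is
bijective: henselization commutes with integral base change. -/
theorem result {A B Ah Bh : Type u} [CommRing A]
    [CommRing B] [CommRing Ah] [CommRing Bh] [Algebra A B] (I : Ideal A) (J : Ideal B)
    (hIJ : I.map (algebraMap A B) ≤ J) (hrad : J.radical = (I.map (algebraMap A B)).radical)
    [Algebra.IsIntegral A B] [Algebra A Ah] (hA : Hens2.IsPairHenselization A I Ah)
    [Algebra B Bh] [Algebra A Bh] [IsScalarTower A B Bh] (hB : Hens2.IsPairHenselization B J Bh)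
    (φ : Ah →ₐ[A] Bh) :
    Function.Bijective (Algebra.TensorProduct.productMap φ (IsScalarTower.toAlgHom A B Bh)) := by
  classical
  let _ : Algebra B (Ah ⊗[A] B) := Algebra.TensorProduct.rightAlgebra
  have := hA.1
  have hmapI : (I.map (algebraMap A Ah)).map (algebraMap Ah (Ah ⊗[A] B)) =
      (I.map (algebraMap A B)).map (algebraMap B (Ah ⊗[A] B)) := by
    rw [Ideal.map_map, Ideal.map_map, ← IsScalarTower.algebraMap_eq, ← IsScalarTower.algebraMap_eq]
  have hhens : HenselianRing (Ah ⊗[A] B) (J.map (algebraMap B (Ah ⊗[A] B))) := by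
    have h1 := Groth.Hensel1.henselianRing_of_isIntegral (I := I.map (algebraMap A Ah)) (Ah ⊗[A] B)
    rw [hmapI] at h1
    refine Groth.Hensel1.henselianRing_of_le_radical
      (I := (I.map (algebraMap A B)).map (algebraMap B (Ah ⊗[A] B))) ?_
    exact (Ideal.map_mono J.le_radical).trans (hrad ▸ Ideal.map_radical_le _)
  have hT : Hens2.IsPairHenselization B J (Ah ⊗[A] B) := by
    refine ⟨hhens, fun C _ Jc f hC hJ => ?_⟩
    let _ : Algebra A C := (f.comp (algebraMap A B)).toAlgebra
    have hI' : I.map (f.comp (algebraMap A B)) ≤ Jc := by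
      rw [← Ideal.map_map]; exact (Ideal.map_mono hIJ).trans hJ
    obtain ⟨g, hg, hgu⟩ := hA.2 C Jc (f.comp (algebraMap A B)) hC hI'
    let fₐ : B →ₐ[A] C := { f with commutes' := fun _ => rfl }
    let gₐ : Ah →ₐ[A] C := { g with commutes' := fun a => RingHom.congr_fun hg a }
    refine ⟨(Algebra.TensorProduct.lift gₐ fₐ fun _ _ => Commute.all _ _).toRingHom, ?_, fun h hh => ?_⟩
    · ext b
      simp [fₐ, Algebra.TensorProduct.algebraMap_eq_includeRight]
    · have h1 : ∀ b : B, h ((1 : Ah) ⊗ₜ[A] b) = f b := fun b => RingHom.congr_fun hh b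
      have h2 : h.comp (Algebra.TensorProduct.includeLeftRingHom (R := A) (A := Ah) (B := B)) = g := by
        refine hgu _ (RingHom.ext fun a => ?_)
        show h (algebraMap A Ah a ⊗ₜ[A] (1 : B)) = f (algebraMap A B a)
        rw [← h1, Algebra.algebraMap_eq_smul_one, Algebra.algebraMap_eq_smul_one,
          TensorProduct.smul_tmul]
      refine RingHom.ext fun x => ?_
      induction x with
      | zero => simp
      | tmul x b =>
        have h3 : x ⊗ₜ[A] b = (x ⊗ₜ[A] (1 : B)) * ((1 : Ah) ⊗ₜ[A] b) := by simp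
        have h4 := RingHom.congr_fun h2 x
        simp only [RingHom.comp_apply, Algebra.TensorProduct.includeLeftRingHom_apply] at h4
        rw [h3, map_mul, map_mul, h1, h4]
        simp [fₐ, gₐ]
      | add x y hx hy => simp only [map_add, hx, hy]
  let pm := Algebra.TensorProduct.productMap φ (IsScalarTower.toAlgHom A B Bh)
  have hpm : pm.toRingHom.comp (algebraMap B (Ah ⊗[A] B)) = algebraMap B Bh := by
    ext b
    simp [pm, Algebra.TensorProduct.algebraMap_eq_includeRight]
  obtain ⟨ψ, hψ, -⟩ := hB.2 (Ah ⊗[A] B) _ (algebraMap B (Ah ⊗[A] B)) hhens le_rfl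
  have h1 : ψ.comp pm.toRingHom = RingHom.id _ := by
    refine Groth.HensPair.ringHom_ext_of_isPairHenselization hT (J.map (algebraMap B (Ah ⊗[A] B))) ?_ ?_
    · rw [RingHom.comp_assoc, hpm, hψ, RingHom.id_comp]
    · rw [RingHom.comp_assoc, hpm, hψ]
  have h2 : pm.toRingHom.comp ψ = RingHom.id _ := by
    have := hB.1
    refine Groth.HensPair.ringHom_ext_of_isPairHenselization hB (J.map (algebraMap B Bh)) ?_ ?_
    · rw [RingHom.comp_assoc, hψ, hpm, RingHom.id_comp]
    · rw [RingHom.comp_assoc, hψ, hpm]
  exact ⟨Function.LeftInverse.injective (g := ψ) fun x => RingHom.congr_fun h1 x,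
    Function.RightInverse.surjective (g := ψ) fun x => RingHom.congr_fun h2 x⟩

end Groth.Agent.S9324
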