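import Groth.Statements.S9325

-- import your own Groth.Agent.* helpers here

set_option autoImplicit false
universe u
open CAlg

namespace Groth.Agent.S9325

/-- Let `A` be a ring and `I ⊆ J` ideals of `A` such that the ideal `J/I` of `A/I` is `H_1`-regular: for
every prime `𝔮` of `A/I` containing `J/I` there is `g ∉ 𝔮` such that the extension of `J/I` to
`(A/I)_g` is generated by an `H_1`-regular sequence (a finite sequence all of whose linear relations
are combinations of the trivial ones). Then `I ∩ J² = I J`. -/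
theorem result {A : Type u} [CommRing A] (I J : Ideal A)
    (hIJ : I ≤ J)
    (h : ∀ (𝔮 : Ideal (A ⧸ I)) [𝔮.IsPrime], J.map (Ideal.Quotient.mk I) ≤ 𝔮 →
      ∃ g : A ⧸ I, g ∉ 𝔮 ∧ ∃ (c : ℕ) (f : Fin c → Localization.Away g),
        CAlgX.IsH1Regular f ∧
          Ideal.span (Set.range f) =
            (J.map (Ideal.Quotient.mk I)).map (algebraMap (A ⧸ I) (Localization.Away g))) :
    I ⊓ J ^ 2 = I * J := by
  classical
  refine le_antisymm ?_ (le_inf Ideal.mul_le_left ((Ideal.mul_mono_left hIJ).trans (pow_two J).ge))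
  intro x ⟨hxI, hxJ⟩
  by_contra hx
  let C : Ideal A := Submodule.colon (I * J) {x}
  have hC : ∀ a, a ∈ C ↔ a * x ∈ I * J := fun a => Submodule.mem_colon_singleton
  have hCne : C ≠ ⊤ := fun h => hx (by simpa using (hC 1).1 (h ▸ Submodule.mem_top))
  obtain ⟨Q, hQ, hCQ⟩ := Ideal.exists_le_maximal C hCne
  by_cases hJQ : J ≤ Q
  swap
  · obtain ⟨j, hj, hjQ⟩ := SetLike.not_le_iff_exists.1 hJQ
    exact hjQ (hCQ ((hC j).2 (by rw [mul_comm j x]; exact Ideal.mul_mem_mul hxI hj)))
  haveI := hQ.isPrime
  have hker : RingHom.ker (Ideal.Quotient.mk I) ≤ Q := by rw [Ideal.mk_ker]; exact hIJ.trans hJQ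
  haveI := Ideal.map_isPrime_of_surjective (f := Ideal.Quotient.mk I) Ideal.Quotient.mk_surjective hker
  obtain ⟨g, hg, c, f, hf, hspan⟩ := h (Q.map (Ideal.Quotient.mk I)) (Ideal.map_mono hJQ)
  obtain ⟨g₀, rfl⟩ := Ideal.Quotient.mk_surjective g
  let T := Localization.Away g₀
  let U := Localization.Away (Ideal.Quotient.mk I g₀)
  let π : T →+* U := IsLocalization.Away.map T U (Ideal.Quotient.mk I) g₀
  have hπ : ∀ a, π (algebraMap A T a) = algebraMap (A ⧸ I) U (Ideal.Quotient.mk I a) := fun a =>
    IsLocalization.map_eq _ a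
  have hpow : Submonoid.map (Ideal.Quotient.mk I) (Submonoid.powers g₀) = Submonoid.powers (Ideal.Quotient.mk I g₀) :=
    Submonoid.map_powers _ _
  have hπker : RingHom.ker π = I.map (algebraMap A T) := by
    have := IsLocalization.ker_map (M := Submonoid.powers g₀) (S := T) (Q := U) (g := Ideal.Quotient.mk I) hpow
    rw [Ideal.mk_ker] at this
    exact this
  have hπs : Function.Surjective π := by
    haveI : IsLocalization (Submonoid.map (Ideal.Quotient.mk I) (Submonoid.powers g₀)) U := by
      rw [hpow]; infer_instance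
    exact IsLocalization.map_surjective_of_surjective (Submonoid.powers g₀) T U Ideal.Quotient.mk_surjective
  have hJmap : (J.map (algebraMap A T)).map π = (J.map (Ideal.Quotient.mk I)).map (algebraMap (A ⧸ I) U) := by
    rw [Ideal.map_map, Ideal.map_map, show π.comp (algebraMap A T) = (algebraMap (A ⧸ I) U).comp (Ideal.Quotient.mk I) from RingHom.ext hπ]
  have hy : ∀ i, ∃ y ∈ J.map (algebraMap A T), π y = f i := fun i => by
    have h1 : f i ∈ (J.map (algebraMap A T)).map π := by
      rw [hJmap, ← hspan]; exact Ideal.subset_span ⟨i, rfl⟩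
    exact (Ideal.mem_map_iff_of_surjective π hπs).1 h1
  choose y hyJ hyf using hy
  let J' := J.map (algebraMap A T)
  let I' := I.map (algebraMap A T)
  have hI'J' : I' ≤ J' := Ideal.map_mono hIJ
  have hJ' : J' ≤ I' ⊔ Ideal.span (Set.range y) := by
    intro z hz
    have h1 : π z ∈ Ideal.span (Set.range f) := by
      rw [hspan, ← hJmap]; exact Ideal.mem_map_of_mem _ hz
    have h2 : π z ∈ (Ideal.span (Set.range y)).map π := by
      rw [Ideal.map_span, ← Set.range_comp, show π ∘ y = f from funext hyf]; exact h1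
    obtain ⟨w, hw, hwz⟩ := (Ideal.mem_map_iff_of_surjective π hπs).1 h2
    rw [← sub_add_cancel z w]
    refine Submodule.add_mem_sup ?_ hw
    show z - w ∈ I.map (algebraMap A T)
    rw [← hπker, RingHom.mem_ker, map_sub, hwz, sub_self]
  have hx' : algebraMap A T x ∈ I' * J' := by
    have hsq : algebraMap A T x ∈ I' * J' ⊔ Ideal.span (Set.range y) * Ideal.span (Set.range y) := by
      have h1 : algebraMap A T x ∈ J' * J' := by
        rw [← pow_two, ← Ideal.map_pow]; exact Ideal.mem_map_of_mem _ hxJ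
      refine (?_ : J' * J' ≤ _) h1
      have hy_le : Ideal.span (Set.range y) ≤ J' := Ideal.span_le.2 (by rintro _ ⟨i, rfl⟩; exact hyJ i)
      calc J' * J' ≤ (I' ⊔ Ideal.span (Set.range y)) * J' := Ideal.mul_mono_left hJ'
        _ ≤ I' * J' ⊔ Ideal.span (Set.range y) * (I' ⊔ Ideal.span (Set.range y)) := by
          rw [Ideal.sup_mul]; exact sup_le_sup le_rfl (Ideal.mul_mono_right hJ')
        _ ≤ _ := by
          rw [Ideal.mul_sup, mul_comm (Ideal.span (Set.range y)) I']
          exact sup_le le_sup_left (sup_le_sup_right (le_trans (Ideal.mul_mono_right hy_le) le_rfl) _)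
    obtain ⟨u, hu, v, hv, huv⟩ := Submodule.mem_sup.1 hsq
    have hlin : ∀ v ∈ Ideal.span (Set.range y) * Ideal.span (Set.range y),
        ∃ b : Fin c → T, (∀ i, b i ∈ Ideal.span (Set.range y)) ∧ v = ∑ i, b i * y i := by
      intro v hv
      induction hv using Submodule.mul_induction_on' with
      | mem_mul_mem m hm n hn =>
        obtain ⟨a, rfl⟩ := Ideal.mem_span_range_iff_exists_fun.1 hn
        exact ⟨fun i => m * a i, fun i => Ideal.mul_mem_right _ _ hm, by rw [Finset.mul_sum]; exact Finset.sum_congr rfl fun i _ => (mul_assoc _ _ _).symm⟩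
      | add v _ w _ hv hw =>
        obtain ⟨b, hb, rfl⟩ := hv
        obtain ⟨b', hb', rfl⟩ := hw
        exact ⟨b + b', fun i => add_mem (hb i) (hb' i), by simp [add_mul, Finset.sum_add_distrib]⟩
    obtain ⟨b, hb, rfl⟩ := hlin v hv
    have hrel : ∑ i, π (b i) * f i = 0 := by
      have h1 : π (∑ i, b i * y i) = ∑ i, π (b i) * f i := by
        rw [map_sum]; exact Finset.sum_congr rfl fun i _ => by rw [map_mul, hyf]
      have h2 : π (algebraMap A T x) = 0 := by
        rw [hπ, Ideal.Quotient.eq_zero_iff_mem.2 hxI, map_zero]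
      have h3 : π u = 0 := by
        rw [← RingHom.mem_ker, hπker]; exact Ideal.mul_le_left hu
      rw [← h1]
      rw [← huv, map_add, h3, zero_add] at h2
      exact h2
    have hmem := hf _ hrel
    have lift : ∀ v ∈ Submodule.span U {v : Fin c → U | ∃ i j : Fin c, v = Pi.single i (f j) - Pi.single j (f i)},
        ∃ w : Fin c → T, (∀ i, π (w i) = v i) ∧ ∑ i, w i * y i = 0 := by
      intro v hv
      induction hv using Submodule.span_induction with
      | mem v hv =>
        obtain ⟨i, j, rfl⟩ := hv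
        refine ⟨Pi.single i (y j) - Pi.single j (y i), fun l => ?_, ?_⟩
        · simp only [Pi.sub_apply, Pi.single_apply, map_sub, apply_ite π, map_zero, hyf]
        · simp only [Pi.sub_apply, Pi.single_apply, sub_mul, ite_mul, zero_mul, Finset.sum_sub_distrib,
            Finset.sum_ite_eq', Finset.mem_univ, if_true]
          ring
      | zero => exact ⟨0, by simp, by simp⟩
      | add v w _ _ hv hw =>
        obtain ⟨a, ha, ha'⟩ := hv
        obtain ⟨a', ha₂, ha₂'⟩ := hw
        exact ⟨a + a', fun i => by simp [ha i, ha₂ i], by simp [add_mul, Finset.sum_add_distrib, ha', ha₂']⟩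
      | smul r v _ hv =>
        obtain ⟨a, ha, ha'⟩ := hv
        obtain ⟨r, rfl⟩ := hπs r
        exact ⟨r • a, fun i => by simp [ha i], by simp [mul_assoc, ← Finset.mul_sum, ha']⟩
    obtain ⟨w, hw, hw0⟩ := lift _ hmem
    rw [← huv]
    refine add_mem hu ?_
    have h4 : ∑ i, b i * y i = ∑ i, (b i - w i) * y i := by
      simp [sub_mul, Finset.sum_sub_distrib, hw0]
    rw [h4]
    refine Ideal.sum_mem _ fun i _ => Ideal.mul_mem_mul ?_ (hyJ i)
    show b i - w i ∈ I.map (algebraMap A T)
    rw [← hπker, RingHom.mem_ker, map_sub, hw i, sub_self]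
  rw [← Ideal.map_mul, IsLocalization.algebraMap_mem_map_algebraMap_iff (Submonoid.powers g₀)] at hx'
  obtain ⟨s, ⟨n, rfl⟩, hs⟩ := hx'
  exact hg (Ideal.mem_map_of_mem _ (hQ.isPrime.mem_of_pow_mem n (hCQ ((hC _).2 hs))))

end Groth.Agent.S9325
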