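import Groth.Statements.S9326
import Groth.Agent.AdicLinTop.OpenMapping
import Mathlib
-- import your own Groth.Agent.* helpers here

set_option autoImplicit false
universe u
open CAlg

namespace Groth.Agent.S9326

/-- Let `u : N → M` be a continuous homomorphism of topological abelian groups. Assume `M` is Hausdorff
and `N` is Hausdorff and complete, linearly topologized (every neighbourhood of zero contains an
open subgroup) and first countable (zero has a countable basis of neighbourhoods). Then exactly one
of two things holds: `u` is an open map; or there is an open subgroup of `N` whose image is nowhere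
dense in `M`. -/
theorem result {N M : Type u} [AddCommGroup N]
    [AddCommGroup M] [UniformSpace N] [IsUniformAddGroup N] [TopologicalSpace M]
    [IsTopologicalAddGroup M] [T2Space M] [T2Space N] [CompleteSpace N] [NonarchimedeanAddGroup N]
    [FirstCountableTopology N] (u : N →+ M) (hu : Continuous u) :
    Xor (IsOpenMap u) (∃ V : OpenAddSubgroup N, IsNowhereDense (u '' (V : Set N))) := by
  have hnw : IsOpenMap u → ¬ ∃ V : OpenAddSubgroup N, IsNowhereDense (u '' (V : Set N)) := by
    rintro ho ⟨V, hV⟩
    have h0 : (0 : M) ∈ interior (closure (u '' (V : Set N))) :=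
      interior_mono subset_closure (by
        rw [(ho _ V.isOpen).interior_eq]
        exact ⟨0, V.zero_mem, map_zero u⟩)
    rw [hV] at h0
    exact h0
  by_cases h : ∀ U : OpenAddSubgroup N, closure (u '' (U : Set N)) ∈ nhds (0 : M)
  · have ho : IsOpenMap u := by
      obtain ⟨U, hanti, hsmall⟩ := Groth.AdicLinTop.OpenMapping.exists_antitone_openSubgroup (G := N)
        (FirstCountableTopology.nhds_generated_countable 0)
      intro V hV
      rw [isOpen_iff_mem_nhds]
      rintro _ ⟨x, hx, rfl⟩
      have h1 : (fun g => x + g) ⁻¹' V ∈ nhds (0 : N) := by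
        apply (continuous_const_add x).continuousAt.preimage_mem_nhds
        simpa using hV.mem_nhds hx
      obtain ⟨n, hn⟩ := hsmall _ h1
      have hnb : (fun w => w - u x) ⁻¹' closure (u '' (U n : Set N)) ∈ nhds (u x) := by
        apply (continuous_id.sub continuous_const).continuousAt.preimage_mem_nhds
        simpa using h (U n)
      refine Filter.mem_of_superset hnb fun w hw => ?_
      obtain ⟨b, hb, hfb⟩ := Groth.AdicLinTop.OpenMapping.exists_preimage_of_mem_closure u hu h hanti hsmall n hw
      exact ⟨x + b, hn hb, by rw [map_add, hfb]; exact add_sub_cancel _ _⟩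
    exact Or.inl ⟨ho, hnw ho⟩
  · push Not at h
    obtain ⟨U, hU⟩ := h
    have hex : ∃ V : OpenAddSubgroup N, IsNowhereDense (u '' (V : Set N)) := by
      refine ⟨U, Set.eq_empty_iff_forall_notMem.2 fun y hy => hU ?_⟩
      have hsub : closure (u '' (U : Set N)) = (((U.toAddSubgroup).map u).topologicalClosure : Set M) := by
        rw [AddSubgroup.topologicalClosure_coe]; rfl
      rw [hsub] at hy ⊢
      exact (AddSubgroup.isOpen_of_mem_nhds _ (mem_interior_iff_mem_nhds.1 hy)).mem_nhds (zero_mem _)
    exact Or.inr ⟨hex, fun ho => hnw ho hex⟩

end Groth.Agent.S9326
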