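import Groth.Statements.S9330
import Groth.Agent.HensPair.Limit

set_option autoImplicit false
universe u
open Hensel

namespace Groth.Agent.S9330

/-- Let `(A_i, I_i)` be a directed system of pairs (rings `A_i` with ideals `I_i`, the transition maps
sending `I_i` into `I_j`), with colimit ring `A` and `I ⊆ A` the ideal generated by (equivalently,
the union of) the images of the `I_i`. For each `i` let `B_i` be a henselization of the pair `(A_i,
I_i)`, with the compatible transition maps `B_i → B_j` over `A_i → A_j` (these are the induced ones,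
being unique), and give the colimit of the `B_i` the `A`-algebra structure induced by the maps `A_i
→ B_i`. Then `colim B_i`, with the extension of `I`, is a henselization of the pair `(A, I)`. (The
index set is taken in the universe of the rings; the statement fails for non-filtered colimits.) -/
theorem result {ι : Type u} [Preorder ι] [IsDirectedOrder ι] [Nonempty ι]
    (G : ι → Type u) [∀ i, CommRing (G i)] (f : ∀ i j : ι, i ≤ j → (G i →+* G j))
    [DirectedSystem G (fun i j h => f i j h)] (I : ∀ i, Ideal (G i))
    (hI : ∀ (i j : ι) (h : i ≤ j), (I i).map (f i j h) ≤ I j)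
    (B : ι → Type u) [∀ i, CommRing (B i)] [∀ i, Algebra (G i) (B i)]
    (hB : ∀ i, Hens2.IsPairHenselization (G i) (I i) (B i))
    (g : ∀ i j : ι, i ≤ j → (B i →+* B j)) [DirectedSystem B (fun i j h => g i j h)]
    (hg : ∀ (i j : ι) (h : i ≤ j), (g i j h).comp (algebraMap (G i) (B i)) = (algebraMap (G j) (B j)).comp (f i j h))
    [Algebra (DirectLimit G f) (DirectLimit B g)]
    (halg : ∀ (i : ι) (x : G i), algebraMap (DirectLimit G f) (DirectLimit B g) (DirectLimit.Ring.of G f i x) =
      DirectLimit.Ring.of B g i (algebraMap (G i) (B i) x)) :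
    Hens2.IsPairHenselization (DirectLimit G f) (⨆ i, (I i).map (DirectLimit.Ring.of G f i))
      (DirectLimit B g) := by
  classical
  have hmap : ∀ i, ((I i).map (DirectLimit.Ring.of G f i)).map
      (algebraMap (DirectLimit G f) (DirectLimit B g)) =
      ((I i).map (algebraMap (G i) (B i))).map (DirectLimit.Ring.of B g i) := fun i => by
    rw [Ideal.map_map, Ideal.map_map]
    congr 1
    exact RingHom.ext (halg i)
  refine ⟨?_, fun C _ J φ hC hJ => ?_⟩
  · rw [Ideal.map_iSup]
    simp_rw [hmap]
    refine Groth.HensPair.henselianRing_of_exhaustion g (DirectLimit.Ring.of B g)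
      (fun a b h x => DirectLimit.Ring.of_f h x) ?_ ?_ (fun i => (I i).map (algebraMap (G i) (B i)))
      ?_ (fun a => (hB a).1)
    · intro x
      induction x using DirectLimit.induction with | _ i x
      exact ⟨i, x, rfl⟩
    · intro a x y h
      obtain ⟨b, hb, _, hxy⟩ := Quotient.exact h
      exact ⟨b, hb, hxy⟩
    · intro a b h
      rw [Ideal.map_map, hg a b h, ← Ideal.map_map]
      exact Ideal.map_mono (hI a b h)
  · have hJi : ∀ i, (I i).map (φ.comp (DirectLimit.Ring.of G f i)) ≤ J := fun i => by
      rw [← Ideal.map_map]
      exact (Ideal.map_mono (le_iSup (fun i => (I i).map (DirectLimit.Ring.of G f i)) i)).trans hJ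
    choose gi hgi hgu using fun i => (hB i).2 C J (φ.comp (DirectLimit.Ring.of G f i)) hC (hJi i)
    have hcompat : ∀ i j hij x, gi j (g i j hij x) = gi i x := fun i j hij x => by
      refine RingHom.congr_fun (hgu i ((gi j).comp (g i j hij)) ?_) x
      ext r
      have h1 : g i j hij (algebraMap (G i) (B i) r) = algebraMap (G j) (B j) (f i j hij r) :=
        RingHom.congr_fun (hg i j hij) r
      have h2 := RingHom.congr_fun (hgi j) (f i j hij r)
      show gi j (g i j hij (algebraMap (G i) (B i) r)) = φ (DirectLimit.Ring.of G f i r)
      rw [h1]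
      simpa [DirectLimit.Ring.of_f] using h2
    refine ⟨DirectLimit.Ring.lift B g C gi hcompat, ?_, fun h hh => ?_⟩
    · refine DirectLimit.Ring.hom_ext C fun i => RingHom.ext fun r => ?_
      show DirectLimit.Ring.lift B g C gi hcompat
        (algebraMap (DirectLimit G f) (DirectLimit B g) (DirectLimit.Ring.of G f i r)) = _
      rw [halg, DirectLimit.Ring.lift_of]
      exact RingHom.congr_fun (hgi i) r
    · refine DirectLimit.Ring.hom_ext C fun i => ?_
      rw [DirectLimit.Ring.lift_comp_of]
      refine hgu i _ (RingHom.ext fun r => ?_)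
      show h (DirectLimit.Ring.of B g i (algebraMap (G i) (B i) r)) = _
      rw [← halg]
      exact RingHom.congr_fun hh _

end Groth.Agent.S9330
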