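import Groth.Statements.S9331
import Groth.Agent.SchemeMorphisms.Points
-- import your own Groth.Agent.* helpers here

set_option autoImplicit false
universe u
open QFin

namespace Groth.Agent.S9331

open CategoryTheory Limits AlgebraicGeometry TopologicalSpace Groth.SchemeMorphisms
set_option backward.isDefEq.respectTransparency false

open AlgebraicGeometry CategoryTheory in
/-- Let f : X → S be a morphism of schemes, x ∈ X, s = f x. If κ(x) is algebraic over κ(s) (through the
residue field map of f at x), then x is a closed point of the fibre X_s, and if in addition s is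
closed in S then x is closed in X. -/
theorem result {X S : Scheme.{u}} (f : X ⟶ S) (x : X)
    (halg : @Algebra.IsAlgebraic (S.residueField (f.base x)) (X.residueField x) _ _ (f.residueFieldMap x).hom.toAlgebra) :
    IsClosed ({f.asFiber x} : Set ↑(f.fiber (f.base x))) ∧
      (IsClosed ({f.base x} : Set ↑S) → IsClosed ({x} : Set ↑X)) := by
  have hfib : IsClosed ({f.asFiber x} : Set ↑(f.fiber (f.base x))) := by
    set F := f.fiber (f.base x)
    have hint : IsIntegralHom (Spec.map (f.residueFieldMap x)) := by
      rw [IsIntegralHom.SpecMap_iff]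
      letI := (f.residueFieldMap x).hom.toAlgebra
      have : Algebra.IsIntegral (S.residueField (f x)) (X.residueField x) :=
        @Algebra.IsAlgebraic.isIntegral _ _ _ _ _ halg
      exact Algebra.IsIntegral.isIntegral
    rw [isClosed_iff_clusterPt]
    intro y hy
    have hsp : f.asFiber x ⤳ y :=
      specializes_iff_mem_closure.mpr (mem_closure_iff_clusterPt.mpr hy)
    obtain ⟨_, ⟨V, hV, rfl⟩, hyV, -⟩ :=
      F.isBasis_affineOpens.exists_subset_of_mem_open (Set.mem_univ y) isOpen_univ
    replace hV : IsAffineOpen V := hV
    have : IsAffine (V : Scheme) := hV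
    have hxV : f.asFiber x ∈ V := hsp.mem_open V.isOpen hyV
    have hr : Set.range (f.asFiberHom x) ⊆ Set.range (Scheme.Opens.ι V) := by
      rw [f.range_asFiberHom, Scheme.Opens.range_ι]; simpa using hxV
    let g := IsOpenImmersion.lift (Scheme.Opens.ι V) (f.asFiberHom x) hr
    have hg : g ≫ Scheme.Opens.ι V = f.asFiberHom x := IsOpenImmersion.lift_fac _ _ _
    have : IsIntegralHom (g ≫ (Scheme.Opens.ι V ≫ f.fiberToSpecResidueField (f x))) := by
      rw [← Category.assoc, hg, f.asFiberHom_fiberToSpecResidueField]; exact hint
    have : IsIntegralHom g := IsIntegralHom.of_comp g (Scheme.Opens.ι V ≫ f.fiberToSpecResidueField (f x))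
    have hcl := g.isClosedMap.isClosed_range
    have hrange : Set.range g = {⟨f.asFiber x, hxV⟩} := by
      refine Set.eq_singleton_iff_nonempty_unique_mem.mpr ⟨Set.range_nonempty _, ?_⟩
      rintro _ ⟨z, rfl⟩
      refine Subtype.ext ?_
      exact (congrArg (fun h : Spec (X.residueField x) ⟶ F => h z) hg).trans (f.asFiberHom_apply x z)
    rw [hrange] at hcl
    have : (⟨f.asFiber x, hxV⟩ : (V : Set F)) ⤳ ⟨y, hyV⟩ := (subtype_specializes_iff _ _).mpr hsp
    have h2 : (⟨y, hyV⟩ : (V : Set F)) = ⟨f.asFiber x, hxV⟩ := this.mem_closed hcl rfl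
    exact congrArg Subtype.val h2
  refine ⟨hfib, ?_⟩
  · intro hs
    have key : IsClosed ({f.asFiber x} : Set (f.fiber (f.base x))) → IsClosed ({x} : Set X) := by
      intro h
      have hemb : Topology.IsClosedEmbedding (f.fiberι (f x)) := by
        refine ⟨(f.fiberι (f x)).isEmbedding, ?_⟩
        rw [f.range_fiberι]
        exact hs.preimage f.continuous
      simpa using hemb.isClosedMap _ h
    exact key hfib

end Groth.Agent.S9331
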