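import Groth.Statements.S9333
import Groth.Agent.SchemeMorphisms.FibreBaseChange
-- import your own Groth.Agent.* helpers here

set_option autoImplicit false
universe u
open QFin

namespace Groth.Agent.S9333

open CategoryTheory Limits AlgebraicGeometry TopologicalSpace Groth.SchemeMorphisms
set_option backward.isDefEq.respectTransparency false

open AlgebraicGeometry CategoryTheory in
/-- Let f : X → S be locally of finite type, g : S' → S any morphism and X' = X ×_S S' with projections
g' : X' → X and f' : X' → S'. If x' ∈ X' maps to x ∈ X and x is closed in the fibre X_{f x}, then x'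
is closed in the fibre X'_{f' x'}. -/
theorem result {X S X' S' : Scheme.{u}} (f : X ⟶ S) [LocallyOfFiniteType f] (g : S' ⟶ S)
    (g' : X' ⟶ X) (f' : X' ⟶ S') (hsq : IsPullback g' f' f g) (x' : X')
    (hx : IsClosed ({f.asFiber (g'.base x')} : Set ↑(f.fiber (f.base (g'.base x'))))) :
    IsClosed ({f'.asFiber x'} : Set ↑(f'.fiber (f'.base x'))) := by
  exact isClosed_asFiber_baseChange f g g' f' hsq x' hx

end Groth.Agent.S9333
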