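import Groth.Statements.S9335
import Groth.Agent.SchemeMorphisms.Points
-- import your own Groth.Agent.* helpers here

set_option autoImplicit false
universe u
open QFin

namespace Groth.Agent.S9335

open CategoryTheory Limits AlgebraicGeometry TopologicalSpace Groth.SchemeMorphisms
set_option backward.isDefEq.respectTransparency false

open AlgebraicGeometry CategoryTheory in
/-- If f : X → S is of finite type and s ∈ S, then f is quasi-finite at only finitely many points of the
fibre over s. -/
theorem result {X S : Scheme.{u}} (f : X ⟶ S) [LocallyOfFiniteType f] [QuasiCompact f] (s : S) :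
    {x : ↑X | f.base x = s ∧ f.QuasiFiniteAt x}.Finite := by
  classical
  have := isLocallyNoetherian_fiber f s
  have : IsNoetherian (f.fiber s) := {}
  have : NoetherianSpace (f.fiber s) := inferInstance
  have : Set.Finite {z : f.fiber s | IsOpen ({z} : Set (f.fiber s))} := by
    have hd : _root_.IsDiscrete {z : f.fiber s | IsOpen ({z} : Set (f.fiber s))} :=
      isDiscrete_iff_discreteTopology.mpr (discreteTopology_iff_isOpen_singleton.mpr fun z => by
        have := IsOpen.preimage (continuous_subtype_val (p := (· ∈ {z : f.fiber s | IsOpen ({z} : Set (f.fiber s))}))) z.2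
        convert this
        ext w; simp [Subtype.ext_iff])
    exact (NoetherianSpace.isCompact _).finite hd
  refine (this.image (f.fiberι s)).subset ?_
  rintro x ⟨rfl, hx⟩
  exact ⟨f.asFiber x, Scheme.Hom.quasiFiniteAt_iff_isOpen_singleton_asFiber.mp hx, f.fiberι_asFiber x⟩

end Groth.Agent.S9335
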