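import Groth.Statements.S9337
import Groth.Agent.SchemeMorphisms.Points
-- import your own Groth.Agent.* helpers here

set_option autoImplicit false
universe u
open FtPts

namespace Groth.Agent.S9337

open CategoryTheory Limits AlgebraicGeometry TopologicalSpace Groth.SchemeMorphisms
set_option backward.isDefEq.respectTransparency false

open AlgebraicGeometry CategoryTheory in
/-- Let k be a field and f : Spec k → S a morphism of schemes with image point u. Then f is locally of
finite type if and only if some affine open U ∋ u of S has u as a closed point and the residue field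
of Spec k (that is, k) is finite over κ(u). -/
theorem result (S : Scheme.{u}) (k : Type u) [Field k] (f : Spec (CommRingCat.of k) ⟶ S) :
    LocallyOfFiniteType f ↔
      ∃ U : S.Opens, IsAffineOpen U ∧ ∃ hu : f.base (IsLocalRing.closedPoint k) ∈ U,
        IsClosed ({⟨f.base (IsLocalRing.closedPoint k), hu⟩} : Set ↥U) ∧
          (f.residueFieldMap (IsLocalRing.closedPoint k)).hom.Finite := by
  set x := IsLocalRing.closedPoint k
  have hx : IsIso ((Spec (CommRingCat.of k)).fromSpecResidueField x) := by
    have : Surjective ((Spec (CommRingCat.of k)).fromSpecResidueField x) :=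
      ⟨fun y => ⟨IsLocalRing.closedPoint _, Subsingleton.elim (α := PrimeSpectrum k) _ _⟩⟩
    have : IsClosedImmersion ((Spec (CommRingCat.of k)).fromSpecResidueField x) :=
      .of_isPreimmersion _ (by rw [Set.range_eq_univ.mpr (Scheme.Hom.surjective _)]; exact isClosed_univ)
    exact isIso_of_isClosedImmersion_of_surjective _
  have e := f.SpecMap_residueFieldMap_fromSpecResidueField x
  have hiff : LocallyOfFiniteType f ↔
      LocallyOfFiniteType (Spec.map (f.residueFieldMap x) ≫ S.fromSpecResidueField (f x)) := by
    rw [e, MorphismProperty.cancel_left_of_respectsIso @LocallyOfFiniteType]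
  constructor
  · intro h
    obtain ⟨U, hU, hu, hc⟩ := exists_affineOpen_isClosed_of_locallyOfFiniteType f
    refine ⟨U, hU, hu, hc, ?_⟩
    have := hiff.mp h
    have := locallyOfFiniteType_of_comp (Spec.map (f.residueFieldMap x)) (S.fromSpecResidueField (f x))
    rw [← IsFinite.SpecMap_iff]
    exact isFinite_iff_locallyOfFiniteType_of_jacobsonSpace.mpr this
  · rintro ⟨U, -, hu, hc, hfin⟩
    have := locallyOfFiniteType_fromSpecResidueField_of_isClosed _ U hu hc
    have : IsFinite (Spec.map (f.residueFieldMap x)) := (IsFinite.SpecMap_iff _).mpr hfin
    exact hiff.mpr inferInstance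

end Groth.Agent.S9337
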