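import Groth.Statements.S9338
import Mathlib
-- import your own Groth.Agent.* helpers here

set_option autoImplicit false
universe u
open FtPts

namespace Groth.Agent.S9338

open CategoryTheory Limits AlgebraicGeometry TopologicalSpace
set_option backward.isDefEq.respectTransparency false

open AlgebraicGeometry CategoryTheory in
/-- For an Artinian local ring A with residue field κ, a morphism f : Spec A → S is (locally) of finite
type exactly when the composite Spec κ → Spec A → S is. -/
theorem result (S : Scheme.{u}) (A : Type u) [CommRing A] [IsArtinianRing A] [IsLocalRing A]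
    (f : Spec (CommRingCat.of A) ⟶ S) :
    LocallyOfFiniteType f ↔
      LocallyOfFiniteType (Spec.map (CommRingCat.ofHom (IsLocalRing.residue A)) ≫ f) := by
  constructor
  · intro h
    have : LocallyOfFiniteType (Spec.map (CommRingCat.ofHom (IsLocalRing.residue A))) :=
      HasRingHomProperty.Spec_iff.mpr (RingHom.FiniteType.of_surjective _ IsLocalRing.residue_surjective)
    infer_instance
  intro h
  set c := IsLocalRing.closedPoint A
  have huniq : ∀ y : Spec (CommRingCat.of A), y = c := fun y =>
    Subsingleton.elim (α := PrimeSpectrum A) _ _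
  obtain ⟨_, ⟨V, hV, rfl⟩, huV, -⟩ :=
    S.isBasis_affineOpens.exists_subset_of_mem_open (Set.mem_univ (f c)) isOpen_univ
  replace hV : IsAffineOpen V := hV
  have hr : Set.range f ⊆ Set.range hV.fromSpec := by
    rw [hV.range_fromSpec]
    rintro _ ⟨y, rfl⟩
    rwa [huniq y]
  obtain ⟨φ, hφ⟩ := Spec.map_surjective (IsOpenImmersion.lift hV.fromSpec f hr)
  have hcomp : Spec.map φ ≫ hV.fromSpec = f := by rw [hφ, IsOpenImmersion.lift_fac]
  rw [← hcomp] at h ⊢
  rw [← Category.assoc, ← Spec.map_comp] at h
  have h' := locallyOfFiniteType_of_comp (Spec.map (φ ≫ CommRingCat.ofHom (IsLocalRing.residue A))) hV.fromSpec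
  have hft : ((IsLocalRing.residue A).comp φ.hom).FiniteType := HasRingHomProperty.Spec_iff.mp h'
  have : φ.hom.FiniteType := by
    letI : Algebra Γ(S, V) A := φ.hom.toAlgebra
    have hκ : Algebra.FiniteType Γ(S, V) (IsLocalRing.ResidueField A) :=
      RingHom.finiteType_algebraMap.mp (by convert! hft using 2)
    have : _root_.IsNoetherian A A := isNoetherianRing_iff.mp inferInstance
    obtain ⟨t, ht⟩ := hκ.out
    obtain ⟨e, he⟩ := _root_.IsNoetherian.noetherian (IsLocalRing.maximalIdeal A)
    classical
    choose l hl using fun z : IsLocalRing.ResidueField A => IsLocalRing.residue_surjective z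
    let A' := Algebra.adjoin Γ(S, V) ((t.image l ∪ e : Finset A) : Set A)
    have hA'res : ∀ a : A, ∃ a' ∈ A', a - a' ∈ IsLocalRing.maximalIdeal A := by
      intro a
      have hy : IsLocalRing.residue A a ∈ A'.map (IsScalarTower.toAlgHom Γ(S, V) A _) := by
        have hle : Algebra.adjoin Γ(S, V) (t : Set (IsLocalRing.ResidueField A)) ≤
            A'.map (IsScalarTower.toAlgHom Γ(S, V) A _) := by
          refine Algebra.adjoin_le fun z hz => ⟨l z, Algebra.subset_adjoin ?_, hl z⟩
          exact Finset.mem_union_left _ (Finset.mem_image_of_mem l hz)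
        exact hle (ht ▸ Algebra.mem_top)
      obtain ⟨a', ha', e'⟩ := hy
      refine ⟨a', ha', (IsLocalRing.residue_eq_zero_iff _).mp ?_⟩
      rw [map_sub, sub_eq_zero]
      exact e'.symm
    have hstep : ∀ n : ℕ, ∀ a : A, ∃ a' ∈ A', a - a' ∈ IsLocalRing.maximalIdeal A ^ n := by
      intro n
      induction n with
      | zero => exact fun a => ⟨0, A'.zero_mem, by simp⟩
      | succ n ih =>
        intro a
        obtain ⟨a', ha', hd⟩ := hA'res a
        suffices ∃ b ∈ A', (a - a') - b ∈ IsLocalRing.maximalIdeal A ^ (n + 1) by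
          obtain ⟨b, hb, hb'⟩ := this
          exact ⟨a' + b, add_mem ha' hb, by rwa [← sub_sub]⟩
        rw [← he] at hd
        obtain ⟨c, hc⟩ := Submodule.mem_span_finset.mp hd
        choose q hq hq' using fun i => ih (c i)
        refine ⟨∑ i ∈ e, q i * i, A'.sum_mem fun i hi => mul_mem (hq i)
          (Algebra.subset_adjoin (Finset.mem_union_right _ hi)), ?_⟩
        rw [← hc.2, ← Finset.sum_sub_distrib, pow_succ]
        refine Submodule.sum_mem _ fun i hi => ?_
        rw [smul_eq_mul, ← sub_mul]
        exact Ideal.mul_mem_mul (hq' i) (he ▸ Submodule.subset_span hi)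
    obtain ⟨n, hn⟩ := IsArtinianRing.isNilpotent_jacobson_bot (R := A)
    rw [IsLocalRing.jacobson_eq_maximalIdeal ⊥ bot_ne_top] at hn
    refine ⟨⟨t.image l ∪ e, top_le_iff.mp fun a _ => ?_⟩⟩
    obtain ⟨a', ha', hd⟩ := hstep n a
    rw [hn, Ideal.zero_eq_bot, Ideal.mem_bot, sub_eq_zero] at hd
    exact hd ▸ ha'
  have : LocallyOfFiniteType (Spec.map φ) := HasRingHomProperty.Spec_iff.mpr this
  infer_instance

end Groth.Agent.S9338
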