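import Groth.Statements.S9340
import Groth.Agent.SchemeMorphisms.Points
-- import your own Groth.Agent.* helpers here

set_option autoImplicit false
universe u
open FtPts

namespace Groth.Agent.S9340

open CategoryTheory Limits AlgebraicGeometry TopologicalSpace Groth.SchemeMorphisms
set_option backward.isDefEq.respectTransparency false

open AlgebraicGeometry CategoryTheory in
/-- A surjective morphism locally of finite type maps the set of finite type points of the source onto
the set of finite type points of the target. -/
theorem result {T S : Scheme.{u}} (f : T ⟶ S) [LocallyOfFiniteType f] [Surjective f] :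
    f.base '' {t : ↑T | LocallyOfFiniteType (T.fromSpecResidueField t)} =
      {s : ↑S | LocallyOfFiniteType (S.fromSpecResidueField s)} := by
  refine subset_antisymm ?_ ?_
  · rintro _ ⟨t, ht, rfl⟩
    have : LocallyOfFiniteType (T.fromSpecResidueField t) := ht
    exact finiteTypePoint_map f t
  · intro s hs
    have : LocallyOfFiniteType (S.fromSpecResidueField s) := hs
    obtain ⟨t₀, ht₀⟩ := f.surjective s
    obtain ⟨z, -, hz⟩ := nonempty_inter_closedPoints (X := f.fiber s) (Z := Set.univ)
      ⟨(f.fiberHomeo s).symm ⟨t₀, ht₀⟩, trivial⟩ isOpen_univ.isLocallyClosed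
    have hft : f (f.fiberι s z) = s := (f.fiberHomeo s z).2
    refine ⟨f.fiberι s z, ?_, hft⟩
    have : LocallyOfFiniteType (f.fiberι s) := inferInstanceAs (LocallyOfFiniteType (pullback.fst f _))
    have : IsClosedImmersion ((f.fiber s).fromSpecResidueField z) :=
      isClosed_singleton_iff_isClosedImmersion.mp hz
    exact finiteTypePoint_map (f.fiberι s) z

end Groth.Agent.S9340
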