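import Groth.Statements.S9341
import Groth.Agent.SchemeMorphisms.Points
-- import your own Groth.Agent.* helpers here

set_option autoImplicit false
universe u
open FtPts

namespace Groth.Agent.S9341

open CategoryTheory Limits AlgebraicGeometry TopologicalSpace Groth.SchemeMorphisms
set_option backward.isDefEq.respectTransparency false

open AlgebraicGeometry CategoryTheory in
/-- Every nonempty locally closed subset of a scheme S contains a finite type point of S; in particular
for a closed subset Z the finite type points lying in Z are dense in Z. -/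
theorem result (S : Scheme.{u}) :
    (∀ Z : Set ↑S, IsLocallyClosed Z → Z.Nonempty →
        (Z ∩ {s : ↑S | LocallyOfFiniteType (S.fromSpecResidueField s)}).Nonempty) ∧
      ∀ Z : Set ↑S, IsClosed Z →
        Z ⊆ closure (Z ∩ {s : ↑S | LocallyOfFiniteType (S.fromSpecResidueField s)}) := by
  have key : ∀ Z : Set S, IsLocallyClosed Z → Z.Nonempty →
      (Z ∩ {s : S | LocallyOfFiniteType (S.fromSpecResidueField s)}).Nonempty := by
    rintro _ ⟨W, C, hW, hC, rfl⟩ ⟨x, hxW, hxC⟩
    obtain ⟨_, ⟨U, hU, rfl⟩, hxU, hUW⟩ :=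
      S.isBasis_affineOpens.exists_subset_of_mem_open hxW hW
    replace hU : IsAffineOpen U := hU
    have : CompactSpace (U : Set S) := isCompact_iff_compactSpace.mp hU.isCompact
    obtain ⟨z, hzC, hz⟩ := IsClosed.exists_closed_singleton
      (hC.preimage (continuous_subtype_val (p := (· ∈ (U : Set S))))) ⟨⟨x, hxU⟩, hxC⟩
    exact ⟨z.1, ⟨hUW z.2, hzC⟩,
      locallyOfFiniteType_fromSpecResidueField_of_isClosed z.1 U z.2 hz⟩
  refine ⟨key, fun Z hZ z hz => mem_closure_iff.mpr fun W hW hzW => ?_⟩
  obtain ⟨y, ⟨hyW, hyZ⟩, hy⟩ := key (W ∩ Z) ⟨W, Z, hW, hZ, rfl⟩ ⟨z, hzW, hz⟩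
  exact ⟨y, hyW, hyZ, hy⟩

end Groth.Agent.S9341
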