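import Groth.Statements.S9343
import Groth.Agent.SchemeMorphisms.Points
-- import your own Groth.Agent.* helpers here

set_option autoImplicit false
universe u
open Dom

namespace Groth.Agent.S9343

open CategoryTheory Limits AlgebraicGeometry TopologicalSpace Groth.SchemeMorphisms
set_option backward.isDefEq.respectTransparency false

open AlgebraicGeometry CategoryTheory in
/-- The base change of a quasi-compact dominant morphism f : X → S along a morphism g : S' → S along
which generalizations lift is dominant. -/
theorem result {X S X' S' : Scheme.{u}} (f : X ⟶ S) [QuasiCompact f] [IsDominant f]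
    (g : S' ⟶ S) (g' : X' ⟶ X) (f' : X' ⟶ S') (hsq : IsPullback g' f' f g) (hg : GeneralizingMap g.base) :
    IsDominant f' := by
  refine ⟨fun s' => ?_⟩
  obtain ⟨x, hx⟩ := exists_specializes_of_mem_closure_range f (f.denseRange (g s'))
  obtain ⟨t, ht, hgt⟩ := hg hx
  obtain ⟨p, -, hp⟩ := Scheme.exists_preimage_of_isPullback hsq x t hgt.symm
  have hmem : t ∈ Set.range f' := ⟨p, hp⟩
  exact closure_minimal (Set.singleton_subset_iff.mpr (subset_closure hmem)) isClosed_closure
    ht.mem_closure

end Groth.Agent.S9343
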