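import Groth.Statements.S9345
import Groth.Agent.SchemeMorphisms.Points
-- import your own Groth.Agent.* helpers here

set_option autoImplicit false
universe u
open Dom

namespace Groth.Agent.S9345

open CategoryTheory Limits AlgebraicGeometry TopologicalSpace Groth.SchemeMorphisms
set_option backward.isDefEq.respectTransparency false

open AlgebraicGeometry CategoryTheory in
/-- For a morphism f : X → S whose source has only finitely many irreducible components, the image of f
is dense exactly when it contains the generic point of each irreducible component of S, and then S
too has finitely many. -/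
theorem result {X S : Scheme.{u}} (f : X ⟶ S)
    (hX : (irreducibleComponents (↑X : Type u)).Finite) :
    (IsDominant f ↔ ∀ s : ↑S, closure {s} ∈ irreducibleComponents (↑S : Type u) → s ∈ Set.range f.base) ∧
      (IsDominant f → (irreducibleComponents (↑S : Type u)).Finite) := by
  have hmap : IsDominant f →
      ∀ s : S, closure {s} ∈ irreducibleComponents S →
        s ∈ f '' {η : X | closure {η} ∈ irreducibleComponents X} := by
    intro h s hs
    have hcover : closure (Set.range f) ⊆
        ⋃ η ∈ {η : X | closure {η} ∈ irreducibleComponents X}, closure {f η} := by
      have hfin : {η : X | closure {η} ∈ irreducibleComponents X}.Finite :=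
        hX.preimage fun a _ b _ hab =>
          (IsGenericPoint.eq (S := closure ({a} : Set X)) rfl hab.symm)
      refine closure_minimal ?_ (hfin.isClosed_biUnion fun _ _ => isClosed_closure)
      rintro _ ⟨x, rfl⟩
      have hZ := irreducibleComponent_mem_irreducibleComponents x
      have hgen := hZ.1.isGenericPoint_genericPoint_closure
      rw [(isClosed_of_mem_irreducibleComponents _ hZ).closure_eq] at hgen
      refine Set.mem_biUnion (x := hZ.1.genericPoint) (by
        show closure ({hZ.1.genericPoint} : Set X) ∈ irreducibleComponents X; rw [hgen.def]; exact hZ) ?_
      exact ((hgen.specializes mem_irreducibleComponent).map f.continuous).mem_closure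
    obtain ⟨η, hη, hsη⟩ := Set.mem_iUnion₂.mp (hcover (f.denseRange s))
    exact ⟨η, hη, (closure_mem_irreducibleComponents_iff s).mp hs _
      (specializes_iff_mem_closure.mpr hsη)⟩
  refine ⟨⟨fun h s hs => ?_, fun h => ⟨fun s => ?_⟩⟩, fun h => ?_⟩
  · exact Set.image_subset_range _ _ (hmap h s hs)
  · have hZ := irreducibleComponent_mem_irreducibleComponents s
    have hgen := hZ.1.isGenericPoint_genericPoint_closure
    rw [(isClosed_of_mem_irreducibleComponents _ hZ).closure_eq] at hgen
    have hmem := h hZ.1.genericPoint (by rw [hgen.def]; exact hZ)
    exact closure_mono (Set.singleton_subset_iff.mpr hmem)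
      (hgen.specializes mem_irreducibleComponent).mem_closure
  · have hfin : {η : X | closure {η} ∈ irreducibleComponents X}.Finite :=
      hX.preimage fun a _ b _ hab => (IsGenericPoint.eq (S := closure ({a} : Set X)) rfl hab.symm)
    refine ((hfin.image f).image (fun s => closure {s})).subset ?_
    intro Z hZ
    have hgen := hZ.1.isGenericPoint_genericPoint_closure
    rw [(isClosed_of_mem_irreducibleComponents _ hZ).closure_eq] at hgen
    exact ⟨_, hmap h _ (by rw [hgen.def]; exact hZ), hgen.def⟩

end Groth.Agent.S9345
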