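import Groth.Statements.S9346
import Mathlib
-- import your own Groth.Agent.* helpers here

set_option autoImplicit false
universe u
open Dom

namespace Groth.Agent.S9346

open CategoryTheory Limits AlgebraicGeometry TopologicalSpace
set_option backward.isDefEq.respectTransparency false

open AlgebraicGeometry CategoryTheory in
/-- For a morphism f : X → Y between integral schemes, these six conditions coincide: (1) f is dominant;
(2) f sends the generic point of X to that of Y; (3) there exist affine opens U ⊆ X, V ⊆ Y with U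
nonempty and U ⊆ f⁻¹V such that the induced ring map on sections is injective; (4) the same for all
such pairs; (5) for some x ∈ X the map of local rings O_{Y,f x} → O_{X,x} is injective; (6) the same
for all x. -/
theorem result {X Y : Scheme.{u}} [AlgebraicGeometry.IsIntegral X] [AlgebraicGeometry.IsIntegral Y] (f : X ⟶ Y) :
    [IsDominant f,
      f.base (genericPoint ↑X) = genericPoint ↑Y,
      ∃ (U : X.Opens) (V : Y.Opens) (hUV : U ≤ f ⁻¹ᵁ V), IsAffineOpen U ∧ IsAffineOpen V ∧ (U : Set ↑X).Nonempty ∧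
        Function.Injective (f.appLE V U hUV),
      ∀ (U : X.Opens) (V : Y.Opens) (hUV : U ≤ f ⁻¹ᵁ V), IsAffineOpen U → IsAffineOpen V → (U : Set ↑X).Nonempty →
        Function.Injective (f.appLE V U hUV),
      ∃ x : ↑X, Function.Injective (f.stalkMap x),
      ∀ x : ↑X, Function.Injective (f.stalkMap x)].TFAE := by
  -- sections killed by `f` on a nonempty open are killed by a dominant `f`
  have hne : Nonempty X := inferInstance
  have h12 : IsDominant f → f.base (genericPoint ↑X) = genericPoint ↑Y := by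
    intro h
    refine (IsGenericPoint.eq ?_ (genericPoint_spec Y))
    have := (genericPoint_spec X).image f.continuous
    rwa [Set.image_univ, f.denseRange.closure_range] at this
  have h21 : f.base (genericPoint ↑X) = genericPoint ↑Y → IsDominant f := by
    refine fun h => ⟨fun y => ?_⟩
    have := (genericPoint_spec Y).def
    have hmem : genericPoint ↑Y ∈ Set.range f := ⟨_, h⟩
    exact closure_mono (Set.singleton_subset_iff.mpr hmem) (this.ge trivial)
  have hzero : IsDominant f → ∀ (V : Y.Opens) (s : Γ(Y, V)) (U : X.Opens) (e : U ≤ f ⁻¹ᵁ V),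
      (U : Set X).Nonempty → f.appLE V U e s = 0 → s = 0 := by
    intro h V s U e hU hs
    by_contra hs0
    have hD : (Y.basicOpen s : Set Y).Nonempty := by
      rw [Set.nonempty_iff_ne_empty]
      intro hemp
      exact hs0 ((basicOpen_eq_bot_iff s).mp (SetLike.ext' hemp))
    obtain ⟨_, hy, x, rfl⟩ := dense_iff_inter_open.mp f.denseRange _ (Y.basicOpen s).isOpen hD
    obtain ⟨z, hzU, hz⟩ := nonempty_preirreducible_inter U.isOpen
      ((Y.basicOpen s).isOpen.preimage f.continuous) hU ⟨x, hy⟩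
    have : X.basicOpen (f.appLE V U e s) = U ⊓ f ⁻¹ᵁ Y.basicOpen s := Scheme.basicOpen_appLE f U V e s
    rw [hs, Scheme.basicOpen_zero] at this
    exact this.ge ⟨hzU, hz⟩
  have hbad : ¬ IsDominant f → ∀ (V : Y.Opens), IsAffineOpen V → (V : Set Y).Nonempty →
      ∃ s : Γ(Y, V), s ≠ 0 ∧ f.app V s = 0 := by
    intro h V hV hVne
    have hW : ((closure (Set.range f))ᶜ : Set Y).Nonempty := by
      rw [Set.nonempty_compl]
      exact fun hh => h ⟨denseRange_iff_closure_range.mpr hh⟩
    obtain ⟨y, hyV, hyW⟩ := nonempty_preirreducible_inter V.isOpen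
      isClosed_closure.isOpen_compl hVne hW
    obtain ⟨s, hs, hys⟩ := hV.exists_basicOpen_le
      (V := ⟨_, isClosed_closure.isOpen_compl⟩) ⟨y, hyW⟩ hyV
    refine ⟨s, fun h0 => ?_, ?_⟩
    · rw [h0, Scheme.basicOpen_zero] at hys; exact hys
    · rw [← basicOpen_eq_bot_iff, ← f.preimage_basicOpen]
      ext x
      simp only [Opens.coe_bot, Set.mem_empty_iff_false, iff_false]
      exact fun hx => hs hx (subset_closure (Set.mem_range_self x))
  tfae_have 1 → 2 := h12
  tfae_have 2 → 1 := h21
  tfae_have 1 → 4 := by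
    intro h U V hUV hU hV hne
    rw [injective_iff_map_eq_zero]
    exact fun s hs => hzero h V s U hUV hne hs
  tfae_have 4 → 3 := by
    intro h
    obtain ⟨x⟩ := hne
    obtain ⟨_, ⟨V, hV, rfl⟩, hxV, -⟩ :=
      Y.isBasis_affineOpens.exists_subset_of_mem_open (Set.mem_univ (f x)) isOpen_univ
    obtain ⟨_, ⟨U, hU, rfl⟩, hxU, hUV⟩ :=
      X.isBasis_affineOpens.exists_subset_of_mem_open (show x ∈ f ⁻¹ᵁ V from hxV) (f ⁻¹ᵁ V).isOpen
    exact ⟨U, V, hUV, hU, hV, ⟨x, hxU⟩, h U V hUV hU hV ⟨x, hxU⟩⟩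
  tfae_have 3 → 1 := by
    rintro ⟨U, V, hUV, hU, hV, ⟨x, hx⟩, hinj⟩
    by_contra hd
    obtain ⟨s, hs, hs0⟩ := hbad hd V hV ⟨f x, hUV hx⟩
    refine hs (hinj ?_)
    rw [map_zero]
    show (X.presheaf.map (homOfLE hUV).op).hom ((f.app V).hom s) = 0
    rw [hs0, map_zero]
  tfae_have 1 → 6 := by
    intro h x
    rw [injective_iff_map_eq_zero]
    intro a ha
    obtain ⟨V, hV, s, rfl⟩ := Y.presheaf.exists_germ_eq a
    rw [Scheme.Hom.germ_stalkMap_apply, ← map_zero (X.presheaf.germ (f ⁻¹ᵁ V) x hV).hom] at ha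
    have h0 := germ_injective_of_isIntegral X x hV ha
    have : s = 0 := hzero h V s (f ⁻¹ᵁ V) le_rfl ⟨x, hV⟩ (by
      show (X.presheaf.map (homOfLE le_rfl).op).hom ((f.app V).hom s) = 0
      rw [show (f.app V).hom s = 0 from h0, map_zero])
    rw [this, map_zero]
  tfae_have 6 → 5 := fun h => ⟨hne.some, h _⟩
  tfae_have 5 → 1 := by
    rintro ⟨x, hinj⟩
    by_contra hd
    obtain ⟨_, ⟨V, hV, rfl⟩, hxV, -⟩ :=
      Y.isBasis_affineOpens.exists_subset_of_mem_open (Set.mem_univ (f x)) isOpen_univ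
    obtain ⟨s, hs, hs0⟩ := hbad hd V hV ⟨f x, hxV⟩
    refine hs (germ_injective_of_isIntegral Y (f x) hxV (hinj ?_))
    rw [Scheme.Hom.germ_stalkMap_apply, hs0]; simp
  tfae_finish

end Groth.Agent.S9346
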