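import Groth.Statements.S9347
import Groth.Agent.SchemeMorphisms.Points
-- import your own Groth.Agent.* helpers here

set_option autoImplicit false
universe u
open Dom

namespace Groth.Agent.S9347

open CategoryTheory Limits AlgebraicGeometry TopologicalSpace Groth.SchemeMorphisms
set_option backward.isDefEq.respectTransparency false

open AlgebraicGeometry CategoryTheory in
/-- Let f : X → S be quasi-compact and let η ∈ S be a point whose closure is an irreducible component of
S (a maximal point of S). If η is not in the image of f, then η has an open neighbourhood V with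
f⁻¹(V) empty. -/
theorem result {X S : Scheme.{u}} (f : X ⟶ S) [QuasiCompact f]
    (η : ↑S) (hη : closure {η} ∈ irreducibleComponents (↑S : Type u)) (hnot : η ∉ Set.range f.base) :
    ∃ V : S.Opens, η ∈ V ∧ f ⁻¹ᵁ V = ⊥ := by
  have : η ∉ closure (Set.range f) := by
    intro h
    obtain ⟨x, hx⟩ := exists_specializes_of_mem_closure_range f h
    exact hnot ⟨x, (closure_mem_irreducibleComponents_iff η).mp hη _ hx⟩
  refine ⟨⟨_, isClosed_closure.isOpen_compl⟩, this, ?_⟩
  ext x
  simp only [Opens.coe_bot, Set.mem_empty_iff_false, iff_false]
  exact fun h => h (subset_closure (Set.mem_range_self x))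

end Groth.Agent.S9347
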