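import Groth.Statements.S9348
import Groth.Agent.SchemeMorphisms.Points
-- import your own Groth.Agent.* helpers here

set_option autoImplicit false
universe u
open Dom

namespace Groth.Agent.S9348

open CategoryTheory Limits AlgebraicGeometry TopologicalSpace Groth.SchemeMorphisms
set_option backward.isDefEq.respectTransparency false

open AlgebraicGeometry CategoryTheory in
/-- Let f : X → Y be a morphism and g : Y' → Y open and surjective. If the base change f' : X ×_Y Y' →
Y' of f is quasi-compact, then so is f. -/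
theorem result {X Y X' Y' : Scheme.{u}} (f : X ⟶ Y) (g : Y' ⟶ Y) [Surjective g]
    (hg : IsOpenMap g.base) (g' : X' ⟶ X) (f' : X' ⟶ Y') (hsq : IsPullback g' f' f g) [QuasiCompact f'] :
    QuasiCompact f := by
  refine ⟨fun U hU hUc => ?_⟩
  have hsub : ∀ t : g ⁻¹' U, ∃ V : Y'.Opens, IsAffineOpen V ∧ t.1 ∈ V ∧ (V : Set Y') ⊆ g ⁻¹' U := by
    intro t
    obtain ⟨_, ⟨V, hV, rfl⟩, htV, hVU⟩ :=
      Y'.isBasis_affineOpens.exists_subset_of_mem_open t.2 (hU.preimage g.continuous)
    exact ⟨V, hV, htV, hVU⟩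
  choose V hV htV hVU using hsub
  obtain ⟨F, hF⟩ := hUc.elim_finite_subcover (fun t => g '' (V t : Set Y'))
    (fun t => hg _ (V t).isOpen) (fun y hy => by
      obtain ⟨t, rfl⟩ := g.surjective y
      exact Set.mem_iUnion.mpr ⟨⟨t, hy⟩, t, htV ⟨t, hy⟩, rfl⟩)
  have hc : IsCompact (⋃ t ∈ F, (V t : Set Y')) := F.isCompact_biUnion fun t _ => (hV t).isCompact
  have ho : IsOpen (⋃ t ∈ F, (V t : Set Y')) := isOpen_biUnion fun t _ => (V t).isOpen
  convert (QuasiCompact.isCompact_preimage (f := f') _ ho hc).image g'.continuous using 1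
  ext x
  constructor
  · intro hx
    obtain ⟨t, htF, t', ht', htt⟩ := Set.mem_iUnion₂.mp (hF hx)
    obtain ⟨p, hp, hp'⟩ := Scheme.exists_preimage_of_isPullback hsq x t' htt.symm
    exact ⟨p, by rw [Set.mem_preimage, hp']; exact Set.mem_biUnion htF ht', hp⟩
  · rintro ⟨p, hp, rfl⟩
    obtain ⟨t, -, ht⟩ := Set.mem_iUnion₂.mp hp
    have := hVU t ht
    rwa [Set.mem_preimage, ← Scheme.Hom.comp_apply, ← hsq.w, Scheme.Hom.comp_apply] at this

end Groth.Agent.S9348
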