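import Groth.Statements.S9356
import Groth.Agent.FibreDim.Semicontinuity

set_option autoImplicit false
universe u
open FibDim

namespace Groth.Agent.S9356

open AlgebraicGeometry CategoryTheory in
/-- Let f : X → S be locally of finite type and x ⤳ x' a nontrivial specialization of points of the
fibre X_s. Then dim_x(X_s) ≤ dim_{x'}(X_s) and dim O_{X_s,x} < dim O_{X_s,x'}. (The assertion on
transcendence degrees of residue fields is a separate statement.) -/
theorem result {X S : Scheme.{u}} (f : X ⟶ S) [LocallyOfFiniteType f] (s : S)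
    (x x' : ↑(f.fiber s)) (hsp : x ⤳ x') (hne : x ≠ x') :
    FlatMor.localDim ↑(f.fiber s) x ≤ FlatMor.localDim ↑(f.fiber s) x' ∧
      ringKrullDim ((f.fiber s).presheaf.stalk x) < ringKrullDim ((f.fiber s).presheaf.stalk x') := by
  refine ⟨?_, ?_⟩
  · obtain ⟨U, hU, hd⟩ := Groth.SpectralTopology.exists_localDim_eq x'
    rw [← hd]
    exact Groth.SpectralTopology.localDim_le_of_mem (hsp.mem_open U.isOpen hU)
  · have : LocallyOfFiniteType (f.fiberToSpecResidueField s) := inferInstance
    have : IsLocallyNoetherian (f.fiber s) :=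
      LocallyOfFiniteType.isLocallyNoetherian (f.fiberToSpecResidueField s)
    have hlt : x' < x := lt_of_le_not_ge (show x' ≤ x from hsp)
      fun h => hne ((show x ⤳ x' from hsp).antisymm (show x' ⤳ x from h)).eq
    have hfin : ringKrullDim ((f.fiber s).presheaf.stalk x) < ⊤ :=
      ringKrullDim_lt_top
    rw [ringKrullDim_stalk_eq_coheight] at hfin ⊢
    rw [ringKrullDim_stalk_eq_coheight]
    exact WithBot.coe_lt_coe.2 (Order.coheight_strictAnti hlt (WithBot.coe_lt_coe.1 hfin))

end Groth.Agent.S9356
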