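import Groth.Statements.S9359
import Groth.Agent.FibreDim.DimStalk

set_option autoImplicit false
universe u
open FibDim

namespace Groth.Agent.S9359

open AlgebraicGeometry CategoryTheory in
/-- Let f : X → Y be flat, locally of finite type and of relative dimension d, with X and Y locally
Noetherian. Then dim_x(X) = dim_y(Y) + d for every x ∈ X with image y. -/
theorem result {X Y : Scheme.{u}} [IsLocallyNoetherian X] [IsLocallyNoetherian Y] (f : X ⟶ Y)
    [Flat f] [LocallyOfFiniteType f] (d : ℕ) (hd : Cyc.HasRelDim f d) (x : X) :
    FlatMor.localDim ↑X x = FlatMor.localDim ↑Y (f.base x) + (d : WithBot ℕ∞) := by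
  exact Groth.FibreDim.localDim_eq_add_of_flat f d ((Groth.FibreDim.hasRelDim_iff f d).1 hd) x

end Groth.Agent.S9359
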