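import Groth.Statements.S9360
import Groth.Agent.Misc3Dense.Restrict
import Groth.Agent.AlgSp3.ImmersionImage
-- import your own Groth.Agent.* helpers here

set_option autoImplicit false
universe u
open SchDense

namespace Groth.Agent.S9360

open AlgebraicGeometry CategoryTheory in
/-- Let U ⊆ X be a reduced open subscheme. Then the scheme-theoretic closure of U in X is X if and only
if U is scheme-theoretically dense in X (for every open W the scheme-theoretic closure of U ∩ W in W
is W); and in that case X is reduced. -/
theorem result (X : Scheme.{u}) (U : X.Opens) [IsReduced (↑U : Scheme.{u})] :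
    (IsSchemeTheoreticallyDominant U.ι ↔
        ∀ W : X.Opens, IsSchemeTheoreticallyDominant (X.homOfLE (inf_le_right : U ⊓ W ≤ W))) ∧
      (IsSchemeTheoreticallyDominant U.ι → IsReduced X) := by
  have key : IsSchemeTheoreticallyDominant U.ι → IsReduced X ∧ Dense (U : Set X) := by
    intro h
    have hk := h.ker_eq_bot
    rw [Groth.AlgSp3.ker_eq_vanishingIdeal_of_isReduced] at hk
    have hd : Dense (U : Set X) := by
      have h1 := congrArg Scheme.IdealSheafData.support hk
      rw [Scheme.IdealSheafData.support_bot] at h1
      have h2 := congrArg (fun s : TopologicalSpace.Closeds X => (s : Set X)) h1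
      simp only [Scheme.IdealSheafData.coe_support_vanishingIdeal, TopologicalSpace.Closeds.coe_top,
        Scheme.Opens.range_ι, TopologicalSpace.Closeds.coe_mk] at h2
      exact dense_iff_closure_eq.2 h2
    refine ⟨?_, hd⟩
    have : (⟨closure (Set.range U.ι), isClosed_closure⟩ : TopologicalSpace.Closeds X) = ⊤ := by
      ext1
      simp [hd.closure_eq]
    rw [this, Scheme.IdealSheafData.vanishingIdeal_top] at hk
    exact Groth.Misc3Dense.isReduced_of_nilradical_eq_bot hk
  refine ⟨⟨fun h W => ?_, fun h => ?_⟩, fun h => (key h).1⟩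
  · obtain ⟨hr, hd⟩ := key h
    exact Groth.Misc3Dense.isSchemeTheoreticallyDominant_homOfLE (Groth.AlgSp3.isSchematicallyDense_of_dense hd) W
  · have := h ⊤
    have he : U.ι = (X.isoOfEq (inf_top_eq U)).inv ≫ X.homOfLE (inf_le_right : U ⊓ ⊤ ≤ ⊤) ≫ (⊤ : X.Opens).ι := by
      simp
    rw [he]
    haveI : IsIso (⊤ : X.Opens).ι := inferInstanceAs (IsIso X.topIso.hom)
    infer_instance

end Groth.Agent.S9360
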