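import Groth.Statements.S9361
import Mathlib.AlgebraicGeometry.Morphisms.SchemeTheoreticallyDominant
import Mathlib.AlgebraicGeometry.Morphisms.Separated
import Mathlib.AlgebraicGeometry.Morphisms.ClosedImmersion
-- import your own Groth.Agent.* helpers here

set_option autoImplicit false
universe u
open SchImage

namespace Groth.Agent.S9361

open AlgebraicGeometry CategoryTheory in
/-- Let f : X → Y be separated, V ⊆ Y a retrocompact open and s : V → X a section of f over V. If Y' ⊆ X
is the scheme-theoretic image of s, then Y' → Y is an isomorphism over V. -/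
theorem result {X Y : Scheme.{u}} (f : X ⟶ Y) [IsSeparated f] (V : Y.Opens) [QuasiCompact V.ι]
    (s : (↑V : Scheme.{u}) ⟶ X) (hs : s ≫ f = V.ι) :
    IsIso ((s.imageι ≫ f) ∣_ V) := by
  haveI : QuasiCompact (s ≫ f) := hs ▸ inferInstance
  haveI : QuasiCompact s := QuasiCompact.of_comp s f
  haveI : IsSchemeTheoreticallyDominant s.toImage := by
    rw [isSchemeTheoreticallyDominant_iff]
    refine Scheme.IdealSheafData.ext_of_iSup_eq_top (fun U : X.affineOpens => ⟨s.imageι ⁻¹ᵁ U.1, U.2.preimage s.imageι⟩)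
      ?_ fun U => ?_
    · rw [← Scheme.Hom.preimage_iSup, iSup_affineOpens_eq_top, Scheme.Hom.preimage_top]
    · rw [Scheme.Hom.ker_apply, Scheme.IdealSheafData.ideal_bot]
      exact (RingHom.injective_iff_ker_eq_bot _).mp (s.toImage_app_injective U)
  let W := (s.imageι ≫ f) ⁻¹ᵁ V
  have hc : s.toImage ≫ s.imageι ≫ f = V.ι := by rw [Scheme.Hom.toImage_imageι_assoc, hs]
  have hrange : Set.range s.toImage ⊆ Set.range W.ι := by
    rintro _ ⟨v, rfl⟩
    rw [Scheme.Opens.range_ι]
    show (s.imageι ≫ f) (s.toImage v) ∈ V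
    rw [← Scheme.Hom.comp_apply, hc]
    exact v.2
  let σ := IsOpenImmersion.lift W.ι s.toImage hrange
  have hσ : σ ≫ ((s.imageι ≫ f) ∣_ V) = 𝟙 _ := by
    rw [← cancel_mono V.ι]
    simp only [Category.assoc, morphismRestrict_ι, σ, W]
    rw [IsOpenImmersion.lift_fac_assoc, hc, Category.id_comp]
  have hpb : IsPullback (𝟙 (↑V : Scheme.{u})) σ s.toImage W.ι :=
    IsPullback.of_horiz_isIso_mono ⟨by rw [IsOpenImmersion.lift_fac, Category.id_comp]⟩
  haveI : QuasiCompact s.toImage := inferInstance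
  haveI : IsSchemeTheoreticallyDominant σ := IsSchemeTheoreticallyDominant.of_isPullback hpb
  haveI : IsClosedImmersion (σ ≫ ((s.imageι ≫ f) ∣_ V)) := hσ ▸ inferInstance
  haveI : IsClosedImmersion σ := IsClosedImmersion.of_comp σ ((s.imageι ≫ f) ∣_ V)
  haveI : IsIso σ := IsClosedImmersion.isIso_iff_ker_eq_bot.mpr σ.ker_eq_bot
  haveI : IsIso (σ ≫ ((s.imageι ≫ f) ∣_ V)) := hσ ▸ inferInstance
  exact IsIso.of_isIso_comp_left σ _

end Groth.Agent.S9361
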