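import Groth.Statements.S9362
import Groth.Agent.QCohMod.Category
import Groth.Agent.SiteCohomology.SchemeModules
import Mathlib.CategoryTheory.Abelian.GrothendieckCategory.Basic

set_option autoImplicit false
universe u
open QCohSub

open CategoryTheory CategoryTheory.Limits Opposite TopologicalSpace

namespace Groth.Agent.S9362

open AlgebraicGeometry CategoryTheory in
/-- Let F be a quasi-coherent O_X-module and G ⊆ F an O_X-submodule. There is a quasi-coherent submodule
G' ⊆ G such that Hom(H, G') → Hom(H, G) is bijective for every quasi-coherent O_X-module H; in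
particular G' is the largest quasi-coherent submodule of F contained in G (it is unique up to unique
isomorphism over G). -/
theorem result (X : Scheme.{u}) (F G : X.Modules) (hF : Coh.IsQCoh F) (j : G ⟶ F) [Mono j] :
    ∃ (G' : X.Modules) (k : G' ⟶ G), Coh.IsQCoh G' ∧ Mono k ∧
      ∀ H : X.Modules, Coh.IsQCoh H → Function.Bijective (fun φ : H ⟶ G' => φ ≫ k) := by
  have : F.IsQuasicoherent := hF
  have himg : ∀ {H : X.Modules} (_ : H.IsQuasicoherent) (φ : H ⟶ G),
      (Abelian.coimage φ).IsQuasicoherent := by
    intro H hH φ
    have : (kernel φ).IsQuasicoherent :=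
      (Groth.QCohMod.isQCoh_iff_of_iso (kernelCompMono φ j)).mp inferInstance
    exact inferInstanceAs (cokernel (kernel.ι φ)).IsQuasicoherent
  have : WellPowered.{u} X.Modules := inferInstance
  let S : Type u := Shrink.{u} {P : Subobject G // (P : X.Modules).IsQuasicoherent}
  let P : S → Subobject G := fun s => ((equivShrink _).symm s).1
  have : ∀ s : S, ((P s : X.Modules)).IsQuasicoherent := fun s => ((equivShrink _).symm s).2
  let σ : (∐ fun s => (P s : X.Modules)) ⟶ G := Sigma.desc fun s => (P s).arrow
  refine ⟨Abelian.coimage σ, Abelian.factorThruCoimage σ, himg inferInstance σ, inferInstance,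
    fun H hH => ⟨fun a b hab => (cancel_mono (Abelian.factorThruCoimage σ)).mp hab, fun φ => ?_⟩⟩
  have hq : ((Subobject.mk (Abelian.factorThruCoimage φ) : Subobject G) : X.Modules).IsQuasicoherent :=
    (Groth.QCohMod.isQCoh_iff_of_iso (Subobject.underlyingIso _)).mpr (himg hH φ)
  let s : S := equivShrink _ ⟨Subobject.mk (Abelian.factorThruCoimage φ), hq⟩
  have hP : P s = Subobject.mk (Abelian.factorThruCoimage φ) := by
    simp only [P, s, Equiv.symm_apply_apply]
  have hfac : (P s).Factors φ := by
    rw [hP, Subobject.mk_factors_iff]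
    exact ⟨Abelian.coimage.π φ, Abelian.coimage.fac φ⟩
  refine ⟨(P s).factorThru φ hfac ≫ Sigma.ι (fun s => (P s : X.Modules)) s ≫
    Abelian.coimage.π σ, ?_⟩
  simp only [Category.assoc, Abelian.coimage.fac]
  rw [Sigma.ι_desc, Subobject.factorThru_arrow]

end Groth.Agent.S9362
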