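import Groth.Statements.S9364
import Groth.Agent.Syntomic.StableBC

set_option autoImplicit false
universe u
open Synt

namespace Groth.Agent.S9364

open AlgebraicGeometry CategoryTheory in
/-- Let f : X → S, x ∈ X and V ⊆ S an affine open neighbourhood of f x. Then f is syntomic at x if and
only if some affine open U ∋ x with f(U) ⊆ V has f|_U : U → V standard syntomic. -/
theorem result {X S : Scheme.{u}} (f : X ⟶ S) (x : X) (V : S.affineOpens)
    (hV : f.base x ∈ V.1) :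
    Synt.IsSyntomicAt f x ↔
      ∃ (U : X.affineOpens) (e : U.1 ≤ f ⁻¹ᵁ V.1), x ∈ U.1 ∧ Synt.IsStandardSyntomic (f.resLE V.1 U.1 e) := by
  constructor
  · rintro ⟨U₁, V₁, e₁, hx, hs⟩
    obtain ⟨U, hU, hxU, hUle⟩ :=
      exists_isAffineOpen_mem_and_subset (x := x) (U := U₁.1 ⊓ f ⁻¹ᵁ V.1) ⟨hx, hV⟩
    have e : U ≤ f ⁻¹ᵁ V.1 := fun y hy => (hUle hy).2
    have h1 : Groth.Syntomic.MorSyn (f.resLE V₁.1 U₁.1 e₁) := by
      rw [Groth.Syntomic.morSyn_resLE_iff]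
      letI := (f.appLE V₁.1 U₁.1 e₁).hom.toAlgebra
      exact Groth.Syntomic.ringSyn_algebraMap.mpr hs
    have h2 : Groth.Syntomic.MorSyn (X.homOfLE (show U ≤ U₁.1 from fun y hy => (hUle hy).1) ≫
        f.resLE V₁.1 U₁.1 e₁ ≫ V₁.1.ι) := by
      refine (Groth.Syntomic.morSyn_iff _).mpr (Groth.Syntomic.isSyntomicMor_comp
        (Groth.Syntomic.isSyntomicMor_of_smooth _) (Groth.Syntomic.isSyntomicMor_comp
          ((Groth.Syntomic.morSyn_iff _).mp h1) (Groth.Syntomic.isSyntomicMor_of_smooth _)))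
    rw [Scheme.Hom.resLE_comp_ι, Scheme.homOfLE_ι_assoc, ← Scheme.Hom.resLE_comp_ι f e] at h2
    have h3 := (Groth.Syntomic.morSyn_resLE_iff f ⟨U, hU⟩ V e).mp (Groth.Syntomic.morSyn_of_comp_ι _ h2)
    letI := (f.appLE V.1 U e).hom.toAlgebra
    obtain ⟨t, ht, n, c, F, hF, ⟨φ⟩⟩ := Groth.Syntomic.isLocRelGCI_of_isSyntomic
      (Groth.Syntomic.ringSyn_algebraMap.mp h3) (hU.primeIdealOf ⟨x, hxU⟩).asIdeal inferInstance
    have e' : X.basicOpen t ≤ f ⁻¹ᵁ V.1 := (X.basicOpen_le t).trans e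
    refine ⟨⟨X.basicOpen t, hU.basicOpen t⟩, e', ?_, ?_⟩
    · have h3 : hU.primeIdealOf ⟨x, hxU⟩ ∈ hU.fromSpec ⁻¹ᵁ X.basicOpen t := by
        rw [hU.fromSpec_preimage_basicOpen]
        exact ht
      have h4 : hU.fromSpec (hU.primeIdealOf ⟨x, hxU⟩) ∈ X.basicOpen t := h3
      rw [hU.fromSpec_primeIdealOf ⟨x, hxU⟩] at h4
      exact h4
    letI : Algebra Γ(S, V.1) Γ(X, X.basicOpen t) := (f.appLE V.1 (X.basicOpen t) e').hom.toAlgebra
    have := hU.isLocalization_basicOpen t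
    have : IsScalarTower Γ(S, V.1) Γ(X, U) Γ(X, X.basicOpen t) := by
      refine IsScalarTower.of_algebraMap_eq' ?_
      change (f.appLE V.1 (X.basicOpen t) e').hom =
        (f.appLE V.1 U e ≫ X.presheaf.map (homOfLE (X.basicOpen_le t)).op).hom
      rw [Scheme.Hom.appLE_map]
    let ψ : Synt.RelGCIRing Γ(S, V.1) n c F ≃ₐ[Γ(S, V.1)] Γ(X, X.basicOpen t) :=
      φ.trans ((IsLocalization.algEquiv (Submonoid.powers t) (Localization.Away t)
        Γ(X, X.basicOpen t)).restrictScalars Γ(S, V.1))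
    refine ⟨Γ(S, V.1), inferInstance, n, c, F, hF,
      (hU.basicOpen t).isoSpec ≪≫ Scheme.Spec.mapIso ψ.toRingEquiv.toCommRingCatIso.op, V.2.isoSpec, ?_⟩
    rw [Iso.trans_hom, Category.assoc, IsAffineOpen.isoSpec_hom, IsAffineOpen.isoSpec_hom,
      ← Scheme.Opens.toSpecΓ_SpecMap_appLE]
    congr 1
    change Spec.map _ ≫ Spec.map _ = _
    rw [← Spec.map_comp]
    congr 1
    ext r
    exact ψ.commutes r
  · rintro ⟨U, e, hx, R, _, n, c, F, hF, e₁, e₂, he⟩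
    refine ⟨U, V, e, hx, ?_⟩
    have h1 : Groth.Syntomic.MorSyn (Spec.map (CommRingCat.ofHom (algebraMap R (Synt.RelGCIRing R n c F)))) := by
      rw [HasRingHomProperty.Spec_iff (P := Groth.Syntomic.MorSyn)]
      exact Groth.Syntomic.ringSyn_algebraMap.mpr (Groth.Calg5.RelGCI.isSyntomic_of_isRelGCI hF)
    rw [← Groth.Syntomic.MorSyn.cancel_left_of_respectsIso e₁.hom, he,
      Groth.Syntomic.MorSyn.cancel_right_of_respectsIso] at h1
    letI := (f.appLE V.1 U.1 e).hom.toAlgebra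
    exact Groth.Syntomic.ringSyn_algebraMap.mp ((Groth.Syntomic.morSyn_resLE_iff f U V e).mp h1)

end Groth.Agent.S9364
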