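import Groth.Statements.S9365
import Groth.Agent.Syntomic.CIFibre

set_option autoImplicit false
universe u
open Synt

namespace Groth.Agent.S9365

open AlgebraicGeometry CategoryTheory in
/-- If f : X → S is flat, locally of finite presentation, and every fibre X_s → Spec κ(s) is syntomic
(X_s is a local complete intersection over κ(s)), then f is syntomic. -/
theorem result {X S : Scheme.{u}} (f : X ⟶ S) [Flat f] [LocallyOfFinitePresentation f]
    (hfib : ∀ s : S, Synt.IsSyntomicMor (f.fiberToSpecResidueField s)) :
    Synt.IsSyntomicMor f := by
  refine (Groth.Syntomic.isSyntomicMor_iff_isCIMorphism f).mpr ⟨inferInstance, inferInstance, fun x => ?_⟩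
  exact (Groth.Syntomic.isCompleteIntersection_fiberStalk_iff_stalk (Field.toIsField (S.residueField (f x)))
    (f.fiberToSpecResidueField (f x)) (f.asFiber x)).mp
    (((Groth.Syntomic.isSyntomicMor_iff_isCIMorphism _).mp (hfib (f x))).2.2 _)

end Groth.Agent.S9365
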