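import Groth.Statements.S9368
import Groth.Agent.Syntomic.CIFibre

set_option autoImplicit false
universe u
open Synt

namespace Groth.Agent.S9368

open AlgebraicGeometry CategoryTheory in
/-- For X locally of finite type over a field k with structure morphism p, the following are equivalent:
(1) p is syntomic; (2) every x ∈ X has an affine open neighbourhood whose coordinate ring is a
global complete intersection over k; (3) each stalk O_{X,x} is a complete intersection ring over k
(k-algebra structures induced by p). -/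
theorem result (k : Type u) [Field k] (X : Scheme.{u}) (p : X ⟶ Spec (CommRingCat.of k)) [LocallyOfFiniteType p] :
    [Synt.IsSyntomicMor p,
      ∀ x : ↑X, ∃ U : X.affineOpens, x ∈ U.1 ∧
        letI := ((Scheme.ΓSpecIso (CommRingCat.of k)).inv ≫ p.appLE ⊤ U.1 le_top).hom.toAlgebra
        Synt.IsGlobalCI k Γ(X, U.1),
      ∀ x : ↑X,
        letI := ((Scheme.ΓSpecIso (CommRingCat.of k)).inv ≫ p.appLE ⊤ ⊤ le_top ≫ X.presheaf.germ ⊤ x trivial).hom.toAlgebra
        Synt.IsCIOver k (X.presheaf.stalk x)].TFAE := by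
  have : IsLocallyNoetherian (Spec (CommRingCat.of k)) := inferInstance
  have hlfp : LocallyOfFinitePresentation p := by
    refine (HasRingHomProperty.iff_appLE (P := @LocallyOfFinitePresentation)).mpr fun V U e => ?_
    have := IsLocallyNoetherian.component_noetherian V
    exact RingHom.FinitePresentation.of_finiteType.mp
      (HasRingHomProperty.appLE (P := @LocallyOfFiniteType) p inferInstance V U e)
  have hflat : Flat p := inferInstance
  have hsyn : Synt.IsSyntomicMor p ↔ ∀ x : ↑X, Pi1.IsCompleteIntersection (X.presheaf.stalk x) := by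
    rw [Groth.Syntomic.isSyntomicMor_iff_isCIMorphism]
    exact ⟨fun h x => (Groth.Syntomic.isCompleteIntersection_fiberStalk_iff_stalk
        (K := CommRingCat.of k) (Field.toIsField k) p x).mp (h.2.2 x),
      fun h => ⟨hflat, hlfp, fun x => (Groth.Syntomic.isCompleteIntersection_fiberStalk_iff_stalk
        (K := CommRingCat.of k) (Field.toIsField k) p x).mpr (h x)⟩⟩
  let α : ∀ U : X.Opens, k →+* Γ(X, U) := fun U =>
    ((Scheme.ΓSpecIso (CommRingCat.of k)).inv ≫ p.appLE ⊤ U le_top).hom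
  have hft : ∀ U : X.affineOpens, (α U.1).FiniteType := fun U => by
    have h1 := HasRingHomProperty.appLE (P := @LocallyOfFiniteType) p inferInstance
      ⟨⊤, isAffineOpen_top _⟩ U le_top
    exact h1.comp (RingHom.FiniteType.of_surjective _
      (Scheme.ΓSpecIso (CommRingCat.of k)).symm.commRingCatIsoToRingEquiv.surjective)
  -- the local rings as localizations of affine charts
  have hchart : ∀ (U : X.affineOpens) (x : ↑X) (hx : x ∈ U.1),
      letI := (α U.1).toAlgebra
      letI := ((Scheme.ΓSpecIso (CommRingCat.of k)).inv ≫ p.appLE ⊤ ⊤ le_top ≫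
        X.presheaf.germ ⊤ x trivial).hom.toAlgebra
      Nonempty (Localization.AtPrime (U.2.primeIdealOf ⟨x, hx⟩).asIdeal ≃ₐ[k] X.presheaf.stalk x) := by
    intro U x hx
    letI := (α U.1).toAlgebra
    letI := ((Scheme.ΓSpecIso (CommRingCat.of k)).inv ≫ p.appLE ⊤ ⊤ le_top ≫
      X.presheaf.germ ⊤ x trivial).hom.toAlgebra
    letI := X.presheaf.algebra_section_stalk ⟨x, hx⟩
    have := U.2.isLocalization_stalk ⟨x, hx⟩
    have : IsScalarTower k Γ(X, U.1) (X.presheaf.stalk x) := by
      refine IsScalarTower.of_algebraMap_eq' ?_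
      change ((Scheme.ΓSpecIso (CommRingCat.of k)).inv ≫ p.appLE ⊤ ⊤ le_top ≫
        X.presheaf.germ ⊤ x trivial).hom = ((Scheme.ΓSpecIso (CommRingCat.of k)).inv ≫
          p.appLE ⊤ U.1 le_top ≫ X.presheaf.germ U.1 x hx).hom
      rw [← X.presheaf.germ_res (homOfLE (le_top : U.1 ≤ ⊤)) x hx, Scheme.Hom.appLE_map_assoc]
    exact ⟨(IsLocalization.algEquiv (U.2.primeIdealOf ⟨x, hx⟩).asIdeal.primeCompl
      (Localization.AtPrime (U.2.primeIdealOf ⟨x, hx⟩).asIdeal) (X.presheaf.stalk x)).restrictScalars k⟩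
  have hess : ∀ x : ↑X,
      letI := ((Scheme.ΓSpecIso (CommRingCat.of k)).inv ≫ p.appLE ⊤ ⊤ le_top ≫
        X.presheaf.germ ⊤ x trivial).hom.toAlgebra
      Algebra.EssFiniteType k (X.presheaf.stalk x) := by
    intro x
    letI := ((Scheme.ΓSpecIso (CommRingCat.of k)).inv ≫ p.appLE ⊤ ⊤ le_top ≫
      X.presheaf.germ ⊤ x trivial).hom.toAlgebra
    obtain ⟨U, hU, hx, -⟩ := exists_isAffineOpen_mem_and_subset (x := x) (U := ⊤) trivial
    obtain ⟨e⟩ := hchart ⟨U, hU⟩ x hx
    letI := (α U).toAlgebra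
    have : Algebra.FiniteType k Γ(X, U) := hft ⟨U, hU⟩
    have : Algebra.EssFiniteType Γ(X, U) (Localization.AtPrime (hU.primeIdealOf ⟨x, hx⟩).asIdeal) :=
      .of_isLocalization _ (hU.primeIdealOf ⟨x, hx⟩).asIdeal.primeCompl
    have := Algebra.EssFiniteType.comp k Γ(X, U) (Localization.AtPrime (hU.primeIdealOf ⟨x, hx⟩).asIdeal)
    exact Algebra.EssFiniteType.of_surjective e.toAlgHom e.surjective
  tfae_have 1 → 3 := fun h x => by
    letI := ((Scheme.ΓSpecIso (CommRingCat.of k)).inv ≫ p.appLE ⊤ ⊤ le_top ≫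
      X.presheaf.germ ⊤ x trivial).hom.toAlgebra
    have := hess x
    exact Groth.Syntomic.isCIOver_iff.mpr (hsyn.mp h x)
  tfae_have 3 → 2 := by
    intro h x
    obtain ⟨U, hU, hx, -⟩ := exists_isAffineOpen_mem_and_subset (x := x) (U := ⊤) trivial
    obtain ⟨e⟩ := hchart ⟨U, hU⟩ x hx
    letI := (α U).toAlgebra
    letI := ((Scheme.ΓSpecIso (CommRingCat.of k)).inv ≫ p.appLE ⊤ ⊤ le_top ≫
      X.presheaf.germ ⊤ x trivial).hom.toAlgebra
    have : Algebra.FiniteType k Γ(X, U) := hft ⟨U, hU⟩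
    obtain ⟨g, hg, hG⟩ := (Groth.Syntomic.exists_isGlobalCI_nhd_iff (k := k)
      (hU.primeIdealOf ⟨x, hx⟩).asIdeal).mpr (Groth.CI.isCompleteIntersection_of_ringEquiv
        e.symm.toRingEquiv (Groth.Syntomic.isCompleteIntersection_of_isCIOver (h x)))
    refine ⟨⟨X.basicOpen g, hU.basicOpen g⟩, ?_, ?_⟩
    · by_contra hxg
      apply hg
      have h2 : hU.fromSpec (hU.primeIdealOf ⟨x, hx⟩) = x := hU.fromSpec_primeIdealOf ⟨x, hx⟩
      by_contra hgq
      have h3 : hU.primeIdealOf ⟨x, hx⟩ ∈ hU.fromSpec ⁻¹ᵁ X.basicOpen g := by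
        rw [hU.fromSpec_preimage_basicOpen]
        exact hgq
      exact hxg (h2 ▸ h3)
    · letI : Algebra k Γ(X, X.basicOpen g) :=
        ((Scheme.ΓSpecIso (CommRingCat.of k)).inv ≫ p.appLE ⊤ (X.basicOpen g) le_top).hom.toAlgebra
      have := hU.isLocalization_basicOpen g
      have : IsScalarTower k Γ(X, U) Γ(X, X.basicOpen g) := by
        refine IsScalarTower.of_algebraMap_eq' ?_
        change ((Scheme.ΓSpecIso (CommRingCat.of k)).inv ≫ p.appLE ⊤ (X.basicOpen g) le_top).hom =
          ((Scheme.ΓSpecIso (CommRingCat.of k)).inv ≫ p.appLE ⊤ U le_top ≫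
            X.presheaf.map (homOfLE (X.basicOpen_le g)).op).hom
        rw [Scheme.Hom.appLE_map]
      exact Groth.Calg5.RelGCI.isGlobalCI_of_algEquiv ((IsLocalization.algEquiv (Submonoid.powers g)
        (Localization.Away g) Γ(X, X.basicOpen g)).restrictScalars k) hG
  tfae_have 2 → 1 := fun h => hsyn.mpr fun x => by
    obtain ⟨⟨U, hU⟩, hx, hG⟩ := h x
    obtain ⟨e⟩ := hchart ⟨U, hU⟩ x hx
    letI := (α U).toAlgebra
    letI := ((Scheme.ΓSpecIso (CommRingCat.of k)).inv ≫ p.appLE ⊤ ⊤ le_top ≫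
      X.presheaf.germ ⊤ x trivial).hom.toAlgebra
    have : Algebra.FiniteType k Γ(X, U) := hft ⟨U, hU⟩
    exact Groth.CI.isCompleteIntersection_of_ringEquiv e.toRingEquiv
      (Groth.Syntomic.isLCIOver_iff_isCompleteIntersection.mp
        (Groth.Syntomic.isLCIOver_iff_isLCI.mpr (Groth.Syntomic.isLCI_of_isGlobalCI hG))
        (hU.primeIdealOf ⟨x, hx⟩).asIdeal)
  tfae_finish

end Groth.Agent.S9368
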