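import Groth.Statements.S9369
import Groth.Agent.OmegaSheaf.Receptacle
import Groth.Agent.OmegaSheaf.AffineHom

set_option autoImplicit false
universe u
open OmegaSh

namespace Groth.Agent.S9369

open AlgebraicGeometry CategoryTheory in
/-- For a morphism of affine schemes f : X → S and an O_X-module F, restricting an S-derivation O_X → F
to global sections is a bijection onto the derivations of Γ(X, O_X) into Γ(X, F) over Γ(S, O_S)
(additive, Leibniz, killing the image of Γ(S, O_S)). -/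
theorem result {X S : Scheme.{u}} [IsAffine X] [IsAffine S] (f : X ⟶ S) (F : X.Modules) :
    Function.Injective (fun D : OmegaSh.Der f F => D.app ⊤) ∧
      ∀ δ : Γ(X, ⊤) →+ Γ(F, ⊤),
        ((∀ a b : Γ(X, ⊤), δ (a * b) = a • δ b + b • δ a) ∧ ∀ c : Γ(S, ⊤), δ (f.appTop c) = 0) ↔
          ∃ D : OmegaSh.Der f F, D.app ⊤ = δ := by
  have e : (⊤ : X.Opens) ≤ f ⁻¹ᵁ ⊤ := le_rfl
  refine ⟨fun D D' hDD' ↦ ?_, fun δ ↦ ⟨fun ⟨hmul, hzero⟩ ↦ ?_, ?_⟩⟩
  · change D.app ⊤ = D'.app ⊤ at hDD'
    obtain ⟨α, hα⟩ := Groth.OmegaSheaf.exists_hom_of_isUniversal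
      (Groth.OmegaSheaf.isUniversal_dOmega f) D
    obtain ⟨α', hα'⟩ := Groth.OmegaSheaf.exists_hom_of_isUniversal
      (Groth.OmegaSheaf.isUniversal_dOmega f) D'
    have : α = α' := Groth.OmegaSheaf.hom_ext_of_top fun m ↦ by
      have hm : m ∈ Submodule.span Γ(X, ⊤) (Set.range ((OmegaSh.dOmega f).app ⊤)) := by
        rw [Groth.OmegaSheaf.span_d f (isAffineOpen_top S) (isAffineOpen_top X) e]; trivial
      induction hm using Submodule.span_induction with
      | mem w hw => obtain ⟨s, rfl⟩ := hw; rw [hα, hα', hDD']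
      | zero => rw [map_zero, map_zero]
      | add a b _ _ ha hb => rw [map_add, map_add, ha, hb]
      | smul r a _ ha => rw [Scheme.Modules.Hom.app_smul, Scheme.Modules.Hom.app_smul, ha]
    exact Groth.OmegaSheaf.der_ext fun U s ↦ by rw [← hα, ← hα', this]
  · let _ := Groth.OmegaSheaf.chartAlg f e
    let _ := Groth.OmegaSheaf.chartModule f e F
    have : IsScalarTower Γ(S, ⊤) Γ(X, ⊤) Γ(F, ⊤) := IsScalarTower.of_algebraMap_smul fun _ _ ↦ rfl
    let δ' : Derivation Γ(S, ⊤) Γ(X, ⊤) Γ(F, ⊤) := Derivation.mk'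
      { toFun := δ
        map_add' := map_add δ
        map_smul' := fun r a ↦ by
          change δ (f.appLE ⊤ ⊤ e r * a) = f.appLE ⊤ ⊤ e r • δ a
          rw [hmul, show δ (f.appLE ⊤ ⊤ e r) = 0 from ?_, smul_zero, add_zero]
          refine Eq.trans (congrArg δ ?_) (hzero r)
          exact congr($((f.app_eq_appLE (U := ⊤))).hom r).symm }
      hmul
    let E := Groth.OmegaSheaf.chartEquiv f e (isAffineOpen_top S) (isAffineOpen_top X)
    let L := δ'.liftKaehlerDifferential ∘ₗ E.symm.toLinearMap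
    obtain ⟨α, hα⟩ := Groth.OmegaSheaf.exists_hom_of_linear (M := Omega.sheaf f) (F := F)
      L.toAddMonoidHom (map_smul L)
    refine ⟨(OmegaSh.dOmega f).postcomp α.val, ?_⟩
    ext s
    rw [Groth.OmegaSheaf.postcomp_app, hα]
    change δ'.liftKaehlerDifferential (E.symm _) = _
    rw [← Groth.OmegaSheaf.chartEquiv_D f e (isAffineOpen_top S) (isAffineOpen_top X)]
    erw [E.symm_apply_apply]
    exact δ'.liftKaehlerDifferential_comp_D s
  · rintro ⟨D, rfl⟩
    exact ⟨Groth.OmegaSheaf.der_mul D ⊤, fun c ↦ D.d_app (X := Opposite.op ⊤) c⟩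

end Groth.Agent.S9369
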