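import Groth.Statements.S9373
import Groth.Agent.QCohMod.Affine

set_option autoImplicit false
universe u
open QCohSub

namespace Groth.Agent.S9373

open AlgebraicGeometry CategoryTheory in
/-- The support of a quasi-coherent O_X-module is closed under specialization. -/
theorem result (X : Scheme.{u}) (F : X.Modules) (hF : Coh.IsQCoh F) :
    StableUnderSpecialization (CohB1.support F) := by
  have : F.IsQuasicoherent := hF
  exact Groth.QCohMod.stableUnderSpecialization_support F

end Groth.Agent.S9373
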