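import Groth.Statements.S9375
import Groth.Agent.OmegaSheaf.ConormalTriangle

set_option autoImplicit false
universe u
open OmegaSh

namespace Groth.Agent.S9375

open AlgebraicGeometry CategoryTheory Limits in
/-- For quasi-compact immersions i : Z → X and j : Z → Y with j = i ≫ p for p : X → Y, there is an exact
sequence C_{Z/Y} → C_{Z/X} → i^*Ω_{X/Y} → 0 with the canonical maps; Ω_{X/Y} is any receptacle of a
universal derivation. (The published statement allows arbitrary immersions; this row assumes i and j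
quasi-compact.) -/
theorem result {Z X Y : Scheme.{u}} (p : X ⟶ Y) (i : Z ⟶ X) (j : Z ⟶ Y) [IsImmersion i] [IsImmersion j]
    [QuasiCompact i] [QuasiCompact j] (hij : i ≫ p = j)
    (Ω : X.Modules) (d : OmegaSh.Der p Ω) (hd : OmegaSh.IsUniversal d)
    (ψ : (Scheme.Modules.pullback (𝟙 Z)).obj (Omega.conormal j) ⟶ Omega.conormal i) (hψ : OmegaSh.IsConormalMap i j p (𝟙 Z) ψ)
    (φ : Omega.conormal i ⟶ (Scheme.Modules.pullback i).obj Ω) (hφ : OmegaSh.IsConormalDiff i d φ) :
    ∃ w : ψ ≫ φ = 0, (ShortComplex.mk ψ φ w).Exact ∧ Epi φ := by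
  subst hij
  exact ⟨Groth.OmegaSheaf.conormalMap_comp_conormalDiff hψ hφ,
    Groth.OmegaSheaf.conormalMap_exact hd hψ hφ _,
    Groth.OmegaSheaf.conormalDiff_epi hd hφ⟩

end Groth.Agent.S9375
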