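import Groth.Statements.S9378
import Groth.Agent.QCohMod.ClosedImm
import Groth.Agent.QCohMod.PullbackSections
import Groth.Agent.BlowUpBasics.IdealComap
import Mathlib.RingTheory.Flat.Basic
import Mathlib.LinearAlgebra.TensorProduct.Pi

set_option autoImplicit false
universe u
open QCohSub

namespace Groth.Agent.S9378

section
open TensorProduct

lemma annihilator_baseChange {A B M : Type*} [CommRing A] [CommRing B] [Algebra A B]
    [Module.Flat A B] [AddCommGroup M] [Module A M] [Module.Finite A M] :
    Module.annihilator B (B ⊗[A] M) = (Module.annihilator A M).map (algebraMap A B) := by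
  classical
  refine le_antisymm (fun b hb => ?_) (Ideal.map_le_iff_le_comap.mpr fun a ha => ?_)
  · obtain ⟨n, g, hg⟩ := Module.Finite.exists_fin (R := A) (M := M)
    let φ : A →ₗ[A] (Fin n → M) := LinearMap.toSpanSingleton A _ g
    have hφ : LinearMap.ker φ = Module.annihilator A M := by
      ext a
      simp only [φ, LinearMap.mem_ker, LinearMap.toSpanSingleton_apply, funext_iff, Pi.smul_apply,
        Pi.zero_apply, Module.mem_annihilator]
      refine ⟨fun h m => ?_, fun h i => h _⟩
      have hm : m ∈ Submodule.span A (Set.range g) := hg ▸ Submodule.mem_top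
      induction hm using Submodule.span_induction with
      | mem x hx => obtain ⟨i, rfl⟩ := hx; exact h i
      | zero => exact smul_zero _
      | add x y _ _ hx hy => rw [smul_add, hx, hy, add_zero]
      | smul r x _ hx => rw [smul_comm, hx, smul_zero]
    have hex := Module.Flat.lTensor_exact B (LinearMap.exact_subtype_ker_map φ)
    have h0 : φ.lTensor B (b ⊗ₜ[A] (1 : A)) = 0 := by
      apply (TensorProduct.piRight A A B (fun _ : Fin n => M)).injective
      rw [map_zero, LinearMap.lTensor_tmul]
      funext i
      simp only [φ, LinearMap.toSpanSingleton_apply, one_smul, piRight_apply, piRightHom_tmul,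
        Pi.zero_apply]
      have := Module.mem_annihilator.mp hb ((1 : B) ⊗ₜ g i)
      rwa [smul_tmul', smul_eq_mul, mul_one] at this
    obtain ⟨z, hz⟩ := (hex (b ⊗ₜ[A] (1 : A))).mp h0
    suffices key : ∀ z : B ⊗[A] (LinearMap.ker φ),
        TensorProduct.rid A B ((LinearMap.ker φ).subtype.lTensor B z) ∈
          (Module.annihilator A M).map (algebraMap A B) by
      have := key z
      rwa [hz, TensorProduct.rid_tmul, one_smul] at this
    intro z
    induction z using TensorProduct.induction_on with
    | zero => simp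
    | add x y hx hy => rw [map_add, map_add]; exact add_mem hx hy
    | tmul c a =>
      rw [LinearMap.lTensor_tmul, TensorProduct.rid_tmul, Submodule.coe_subtype, Algebra.smul_def]
      exact Ideal.mul_mem_right _ _ (Ideal.mem_map_of_mem _ (hφ ▸ a.2))
  · refine Module.mem_annihilator.mpr fun z => ?_
    induction z using TensorProduct.induction_on with
    | zero => exact smul_zero _
    | add x y hx hy => rw [smul_add, hx, hy, add_zero]
    | tmul c m =>
      rw [algebraMap_smul, smul_tmul', smul_tmul, Module.mem_annihilator.mp ha, tmul_zero]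

end

open AlgebraicGeometry CategoryTheory Opposite in
/-- Let f : Y → X be flat and F a quasi-coherent O_X-module of finite type, where the ideal sheaf J
(given by annihilators on affine opens) defines the scheme-theoretic support of F. Then the inverse
image ideal sheaf of J along f cuts out the scheme-theoretic support of f^*F. -/
theorem result {Y X : Scheme.{u}} (f : Y ⟶ X) [Flat f] (F : X.Modules)
    (hq : Coh.IsQCoh F) (hft : CohB1.IsFT F) (J : X.IdealSheafData)
    (hJ : ∀ U : X.affineOpens, J.ideal U = Module.annihilator Γ(X, U.1) Γ(F, U.1)) :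
    ∀ V : Y.affineOpens, (J.comap f).ideal V =
      Module.annihilator Γ(Y, V.1) Γ((Scheme.Modules.pullback f).obj F, V.1) := by
  have : F.IsQuasicoherent := hq
  have hpq : ((Scheme.Modules.pullback f).obj F).IsQuasicoherent :=
    Groth.QCohMod.isQCoh_pullback_obj f F
  have hpf := Groth.QCohMod.isFT_pullback f F hft
  suffices h : J.comap f = Groth.QCohMod.annIdeal _ hpf by
    intro V; rw [h]; rfl
  have hcov : ∀ y : Y, ∃ (U : X.affineOpens) (V : Y.affineOpens), y ∈ V.1 ∧ V.1 ≤ f ⁻¹ᵁ U.1 := by
    intro y
    obtain ⟨U, hU, hy⟩ := Groth.QCohMod.exists_affine_mem (f y)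
    obtain ⟨_, ⟨V, hV, rfl⟩, hyV, hVU⟩ := Y.isBasis_affineOpens.exists_subset_of_mem_open
      (show y ∈ f ⁻¹ᵁ U from hy) (f ⁻¹ᵁ U).2
    exact ⟨⟨U, hU⟩, ⟨V, hV⟩, hyV, hVU⟩
  choose U V hyV hVU using hcov
  refine Scheme.IdealSheafData.ext_of_iSup_eq_top V
    (TopologicalSpace.Opens.ext (Set.eq_univ_of_forall fun y =>
      TopologicalSpace.Opens.mem_iSup.mpr ⟨y, hyV y⟩)) fun y => ?_
  let _ := Groth.QCohMod.sectionsAlg f (hVU y)
  have : Module.Flat Γ(X, (U y).1) Γ(Y, (V y).1) := f.flat_appLE (U y).2 (V y).2 (hVU y)
  have := Groth.QCohMod.finite_sections F hft (U y).2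
  rw [Groth.BlowUpBasics.ideal_comap f J (U y) (V y) (hVU y), hJ, Groth.QCohMod.annIdeal_ideal]
  refine (annihilator_baseChange (B := Γ(Y, (V y).1))).symm.trans ?_
  exact (LinearEquiv.ofBijective _ (Groth.QCohMod.pullSecTensor_bijective f F (hVU y) (U y).2
    (V y).2)).annihilator_eq

end Groth.Agent.S9378
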