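import Groth.Statements.S9380
import Groth.Agent.Ega2Proj.QAffFactor
import Groth.Agent.Limits.RelSpecColimit
-- import your own Groth.Agent.* helpers here

set_option autoImplicit false
universe u
open QAff

namespace Groth.Agent.S9380


open AlgebraicGeometry CategoryTheory Opposite TopologicalSpace

theorem algHom_app {X Y S : Scheme.{u}} (f : X ⟶ S) (g : Y ⟶ S) (h : Y ⟶ X) (w : h ≫ f = g) (U : S.Opens) :
    (AffAlg.algHom f g h w).app (op U) =
      h.appLE (f ⁻¹ᵁ U) (g ⁻¹ᵁ U) (by rw [← Scheme.Hom.comp_preimage, w]) := by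
  subst w
  simp [AffAlg.algHom, Scheme.Hom.appLE]
  exact (Category.comp_id _).symm



open AlgebraicGeometry CategoryTheory in
/-- A quasi-compact quasi-separated morphism f : X → S is quasi-affine if and only if the canonical
S-morphism X → Spec_S(f_*O_X) (the one inducing the comparison map on direct-image algebras) exists
as a quasi-compact open immersion. -/
theorem result {X S : Scheme.{u}} (f : X ⟶ S) [QuasiCompact f] [QuasiSeparated f] :
    MoreMor.IsQuasiAffineHom f ↔
      ∃ (c : X ⟶ (RelSpec.QCAlg.directImage f).spec) (e : c ≫ (RelSpec.QCAlg.directImage f).π = f),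
        (RelSpec.QCAlg.directImage f).gammaMap = AffAlg.algHom (RelSpec.QCAlg.directImage f).π f c e ∧
          QuasiCompact c ∧ IsOpenImmersion c := by
  set A := RelSpec.QCAlg.directImage f
  constructor
  · intro hqa
    obtain ⟨c, hc⟩ := Groth.Limits.RelSpecColimit.exists_isLift f (𝟙 A)
    have e : c ≫ A.π = f := hc.comp_π
    have hqc : QuasiCompact c := by
      haveI : QuasiCompact (c ≫ A.π) := e ▸ inferInstance
      exact QuasiCompact.of_comp c A.π
    refine ⟨c, e, ?_, hqc, ?_⟩
    · apply (Functor.IsCoverDense.restrictHomEquivHom (G := Scheme.AffineZariskiSite.toOpensFunctor S)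
        (K := Opens.grothendieckTopology S) (ℱ := A.π.base _* A.spec.presheaf)
        (ℱ' := (⟨A.presheaf, A.isSheaf⟩ : TopCat.Sheaf CommRingCat.{u} S.carrier))).symm.injective
      ext U : 2
      show A.gammaMap.app (op U.unop.toOpens) = (AffAlg.algHom A.π f c e).app (op U.unop.toOpens)
      rw [A.gammaMap_app U.unop.1 U.unop.2, algHom_app]
      ext b
      exact (Groth.Ega2Proj.QAff.lift_appLE hc U.unop.2 _ b).symm
    · have hcov : ⨆ U : S.affineOpens, A.π ⁻¹ᵁ U.1 = ⊤ := by
        rw [← Scheme.Hom.preimage_iSup, iSup_affineOpens_eq_top, Scheme.Hom.preimage_top]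
      refine (IsZariskiLocalAtTarget.iff_of_iSup_eq_top (P := @IsOpenImmersion) _ hcov).mpr fun U => ?_
      suffices h : ∀ W : X.Opens, W = f ⁻¹ᵁ U.1 → IsOpenImmersion (W.ι ≫ c) by
        haveI : IsOpenImmersion ((c ∣_ A.π ⁻¹ᵁ U.1) ≫ (A.π ⁻¹ᵁ U.1).ι) := by
          rw [morphismRestrict_ι]
          exact h _ (by rw [← Scheme.Hom.comp_preimage, e])
        exact IsOpenImmersion.of_comp _ (A.π ⁻¹ᵁ U.1).ι
      rintro _ rfl
      haveI := hqa.2 U.1 U.2
      haveI : IsOpenImmersion (f ⁻¹ᵁ U.1).toSpecΓ := by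
        delta Scheme.Opens.toSpecΓ
        infer_instance
      rw [hc U.1 U.2]
      exact MorphismProperty.comp_mem _ _ _ inferInstance
        (MorphismProperty.comp_mem _ _ _ (inferInstanceAs (IsOpenImmersion (Spec.map (𝟙 _)))) inferInstance)
  · rintro ⟨c, e, -, hqc, hoi⟩
    refine ⟨inferInstance, fun V hV => ?_⟩
    haveI : IsAffine (A.π ⁻¹ᵁ V : Scheme.{u}) := hV.preimage A.π
    haveI : CompactSpace (f ⁻¹ᵁ V : Scheme.{u}) :=
      isCompact_iff_compactSpace.mp (QuasiCompact.isCompact_preimage (f := f) _ V.2 hV.isCompact)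
    exact Scheme.IsQuasiAffine.of_isImmersion
      (c.resLE (A.π ⁻¹ᵁ V) (f ⁻¹ᵁ V) (by rw [← Scheme.Hom.comp_preimage, e]))

end Groth.Agent.S9380
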