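import Groth.Statements.S9381
import Groth.Agent.FibreDim.LowerSemicont

set_option autoImplicit false
universe u
open FibDim

namespace Groth.Agent.S9381

open AlgebraicGeometry CategoryTheory in
/-- Let f : X → S be locally of finite type and x ⤳ x' a nontrivial specialization of points of X in the
same fibre (f x = f x'). Then trdeg_{κ(f x)} κ(x) > trdeg_{κ(f x')} κ(x'). -/
theorem result {X S : Scheme.{u}} (f : X ⟶ S) [LocallyOfFiniteType f] (x x' : X)
    (hsp : x ⤳ x') (hne : x ≠ x') (hfx : f.base x = f.base x') :
    @Algebra.trdeg (S.residueField (f.base x')) (X.residueField x') _ _ (f.residueFieldMap x').hom.toAlgebra <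
      @Algebra.trdeg (S.residueField (f.base x)) (X.residueField x) _ _ (f.residueFieldMap x).hom.toAlgebra := by
  open Groth.FibreDim in
    obtain ⟨n, hn, hn'⟩ := exists_relTrdeg_eq_height f x
    obtain ⟨m, hm, hm'⟩ := exists_relTrdeg_eq_height f x'
    show Groth.Variety2.Dim.relTrdeg f x' < Groth.Variety2.Dim.relTrdeg f x
    rw [hn, hm, Nat.cast_lt]
    obtain ⟨z, hz⟩ : ∃ z : f.fiber (f.base x), (f.fiberι _).base z = x' :=
      (f.range_fiberι _).ge hfx.symm
    have hzm : Order.height z = m := by
      suffices key : ∀ (y : S) (_ : f.base x' = y) (w : f.fiber y),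
          (f.fiberι y).base w = x' → Order.height w = m from key _ hfx.symm z hz
      rintro _ rfl w hw
      rw [(f.fiberι _).isEmbedding.injective (hw.trans (f.fiberι_asFiber x').symm)]
      exact hm'
    have hs : f.asFiber x ⤳ z := (f.fiberι _).isEmbedding.toIsInducing.specializes_iff.1
      (by rw [f.fiberι_asFiber, hz]; exact hsp)
    have hlt : z < f.asFiber x := lt_of_le_not_ge (show z ≤ f.asFiber x from hs) fun h => hne (by
      have := ((show f.asFiber x ⤳ z from hs).antisymm (show z ⤳ f.asFiber x from h)).eq
      rw [← hz, ← this, f.fiberι_asFiber])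
    have h := Order.height_strictMono hlt (by rw [hzm]; exact ENat.coe_lt_top m)
    rw [hzm, hn'] at h
    exact_mod_cast h

end Groth.Agent.S9381
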