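import Groth.Statements.S9382
import Mathlib.AlgebraicGeometry.Morphisms.ClosedImmersion

set_option autoImplicit false
universe u
open QCohSub

open CategoryTheory CategoryTheory.Limits Opposite TopologicalSpace

namespace Groth.Agent.S9382

open AlgebraicGeometry CategoryTheory in
/-- For closed subschemes Z, Y ⊆ X with ideal sheaves I, J, the scheme-theoretic intersection (ideal
sheaf I ⊔ J) together with its inclusions into Z and Y forms a cartesian square over X. -/
theorem result (X : Scheme.{u}) (I J : X.IdealSheafData) :
    IsPullback (Scheme.IdealSheafData.inclusion (le_sup_left : I ≤ I ⊔ J))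
      (Scheme.IdealSheafData.inclusion (le_sup_right : J ≤ I ⊔ J)) I.subschemeι J.subschemeι := by
  refine IsPullback.of_isLimit (c := PullbackCone.mk _ _
    ((Scheme.IdealSheafData.inclusion_subschemeι (le_sup_left : I ≤ I ⊔ J)).trans
      (Scheme.IdealSheafData.inclusion_subschemeι (le_sup_right : J ≤ I ⊔ J)).symm)) ?_
  have hle : ∀ c : PullbackCone I.subschemeι J.subschemeι,
      I ⊔ J ≤ (c.fst ≫ I.subschemeι).ker := fun c => sup_le
    (I.ker_subschemeι.symm.le.trans (Scheme.Hom.le_ker_comp _ _))
    (by rw [c.condition]; exact J.ker_subschemeι.symm.le.trans (Scheme.Hom.le_ker_comp _ _))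
  refine PullbackCone.IsLimit.mk _ (fun c => IsClosedImmersion.lift (I ⊔ J).subschemeι
    (c.fst ≫ I.subschemeι) ((I ⊔ J).ker_subschemeι.le.trans (hle c))) (fun c => ?_) (fun c => ?_)
    (fun c m h₁ _ => ?_)
  · rw [← cancel_mono I.subschemeι, Category.assoc, Scheme.IdealSheafData.inclusion_subschemeι,
      IsClosedImmersion.lift_fac]
  · rw [← cancel_mono J.subschemeι, Category.assoc, Scheme.IdealSheafData.inclusion_subschemeι,
      IsClosedImmersion.lift_fac, c.condition]
  · rw [← cancel_mono (I ⊔ J).subschemeι, IsClosedImmersion.lift_fac, ← h₁, Category.assoc,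
      Scheme.IdealSheafData.inclusion_subschemeι]

end Groth.Agent.S9382
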