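import Groth.Statements.S9383
import Groth.Agent.ClosedGlue.Union

set_option autoImplicit false
universe u
open QCohSub

namespace Groth.Agent.S9383

open AlgebraicGeometry CategoryTheory in
/-- For closed subschemes X, Y ⊆ S with ideal sheaves I, J, the scheme-theoretic union (ideal sheaf I ⊓
J) is the pushout, in the category of schemes, of X and Y along the scheme-theoretic intersection
(ideal sheaf I ⊔ J). The exact sequence 0 → O_{X∪Y} → O_X × O_Y → O_{X∩Y} → 0 is not stated. -/
theorem result (S : Scheme.{u}) (I J : S.IdealSheafData) :
    IsPushout (Scheme.IdealSheafData.inclusion (le_sup_left : I ≤ I ⊔ J))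
      (Scheme.IdealSheafData.inclusion (le_sup_right : J ≤ I ⊔ J))
      (Scheme.IdealSheafData.inclusion (inf_le_left : I ⊓ J ≤ I))
      (Scheme.IdealSheafData.inclusion (inf_le_right : I ⊓ J ≤ J)) := by
  exact (Groth.ClosedGlue.unionData I J).isPushout

end Groth.Agent.S9383
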