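import Groth.Statements.S9384
import Groth.Agent.OmegaSheaf.ConormalSplit

set_option autoImplicit false
universe u
open OmegaSh

namespace Groth.Agent.S9384

open AlgebraicGeometry CategoryTheory Limits in
/-- Let i : Z → X be a quasi-compact immersion of schemes over S admitting a left inverse g : X → Z over
S. Then the canonical sequence 0 → C_{Z/X} → i^*Ω_{X/S} → Ω_{Z/S} → 0 is split exact (receptacle
form; the maps are pinned by their values on sections). (The published statement also covers
immersions with only a local left inverse, where the sequence is locally split, and arbitrary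
immersions; this row assumes a global left inverse over S and i quasi-compact. The case of a section
s of a morphism p : X → S, where Ω_{S/S} = 0 and the map C_{S/X} → s^*Ω_{X/S} is an isomorphism, is
the instance Z = S, i = s, g = p.) -/
theorem result {Z X S : Scheme.{u}} (f : X ⟶ S) (i : Z ⟶ X) [IsImmersion i] [QuasiCompact i]
    (g : X ⟶ Z) (hgi : i ≫ g = 𝟙 Z) (hgS : g ≫ i ≫ f = f)
    (ΩX : X.Modules) (dX : OmegaSh.Der f ΩX) (hX : OmegaSh.IsUniversal dX)
    (ΩZ : Z.Modules) (dZ : OmegaSh.Der (i ≫ f) ΩZ) (hZ : OmegaSh.IsUniversal dZ)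
    (φ : Omega.conormal i ⟶ (Scheme.Modules.pullback i).obj ΩX) (hφ : OmegaSh.IsConormalDiff i dX φ)
    (c : (Scheme.Modules.pullback i).obj ΩX ⟶ ΩZ) (hc : OmegaSh.IsDiffCompat i dX dZ c) :
    ∃ w : φ ≫ c = 0, (ShortComplex.mk φ c w).Exact ∧ (∃ r : (Scheme.Modules.pullback i).obj ΩX ⟶ Omega.conormal i, φ ≫ r = 𝟙 _) ∧
      ∃ σ : ΩZ ⟶ (Scheme.Modules.pullback i).obj ΩX, σ ≫ c = 𝟙 _ := by
  exact ⟨Groth.OmegaSheaf.conormalDiff_comp_eq_zero hφ hc,
    Groth.OmegaSheaf.conormalDiff_exact hX hZ hφ hc _,
    Groth.OmegaSheaf.exists_retraction_conormal hgi hgS hX hφ,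
    Groth.OmegaSheaf.exists_section_of_retraction hgi hgS hZ hc⟩

end Groth.Agent.S9384
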