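import Groth.Statements.S9394
import Groth.Agent.Calg4.Japanese

set_option autoImplicit false
universe u
open CAlg

namespace Groth.Agent.S9394

/-- Being N-2 (Japanese) can be checked on a finite cover of Spec R by principal opens whose rings are
N-2 domains. -/
theorem result (R : Type u) [CommRing R] [IsDomain R]
    {ι : Type u} [Finite ι] (f : ι → R) (hf : Ideal.span (Set.range f) = ⊤)
    (Rf : ι → Type u) [∀ i, CommRing (Rf i)] [∀ i, IsDomain (Rf i)] [∀ i, Algebra R (Rf i)]
    [∀ i, IsLocalization.Away (f i) (Rf i)] (h : ∀ i, CAlg.IsN2 (Rf i)) : CAlg.IsN2 R := by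
  intro L _ _ _ _ hfin
  refine Groth.Calg4.finite_ic_of_span f hf fun i => ?_
  have h0 : f i ≠ 0 := fun h0 => not_subsingleton (Rf i) (@Unique.instSubsingleton _ (IsLocalization.uniqueOfZeroMem (M := Submonoid.powers (f i)) (h0 ▸ Submonoid.mem_powers (f i))))
  have hu : IsUnit (algebraMap R (FractionRing R) (f i)) := IsUnit.mk0 _
    ((map_ne_zero_iff _ (IsFractionRing.injective R _)).mpr h0)
  let : Algebra (Rf i) (FractionRing R) := (IsLocalization.Away.lift (f i) hu).toAlgebra
  have : IsScalarTower R (Rf i) (FractionRing R) := IsScalarTower.of_algebraMap_eq fun r =>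
    (IsLocalization.Away.lift_eq (f i) hu r).symm
  have : IsFractionRing (Rf i) (FractionRing R) :=
    IsFractionRing.isFractionRing_of_isDomain_of_isLocalization (Submonoid.powers (f i)) (Rf i) _
  let : Algebra (Rf i) L := ((algebraMap (FractionRing R) L).comp (algebraMap (Rf i) (FractionRing R))).toAlgebra
  have : IsScalarTower (Rf i) (FractionRing R) L := IsScalarTower.of_algebraMap_eq fun _ => rfl
  have : IsScalarTower R (Rf i) L := IsScalarTower.of_algebraMap_eq fun r => by
    simp [IsScalarTower.algebraMap_apply (Rf i) (FractionRing R) L,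
      ← IsScalarTower.algebraMap_apply R (Rf i) (FractionRing R),
      ← IsScalarTower.algebraMap_apply R (FractionRing R) L]
  exact Or.inr (Groth.Calg4.fgAway_of_isLocalizationAway (f i) (Rf i)
    (Groth.Calg4.finite_ic_of_isN2 (h i) (FractionRing R) L))

end Groth.Agent.S9394
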