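import Groth.Statements.S9395
import Mathlib
-- import your own Groth.Agent.* helpers here

set_option autoImplicit false
universe u
open CAlg

namespace Groth.Agent.S9395

/-- For a Noetherian domain R, if the Laurent polynomial ring R[X, 1/X] (the localization of R[X] away
from X) is N-1, then R is N-1. -/
theorem result (R : Type u) [CommRing R] [IsDomain R] [IsNoetherianRing R]
    (S : Type u) [CommRing S] [IsDomain S] [Algebra (Polynomial R) S]
    [IsLocalization.Away (Polynomial.X : Polynomial R) S] (h : CAlg.IsN1 S) : CAlg.IsN1 R := by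
  classical
  let K := FractionRing R
  let L := FractionRing S
  let j : R →+* S := (algebraMap (Polynomial R) S).comp Polynomial.C
  have hjS : Function.Injective (algebraMap (Polynomial R) S) :=
    IsLocalization.injective S (powers_le_nonZeroDivisors_of_noZeroDivisors Polynomial.X_ne_zero)
  let φ : Polynomial R →+* L := (algebraMap S L).comp (algebraMap (Polynomial R) S)
  have hφ : Function.Injective φ := (IsFractionRing.injective S L).comp hjS
  have hφC : Function.Injective (φ.comp Polynomial.C) := hφ.comp Polynomial.C_injective
  let g : K →+* L := IsFractionRing.lift hφC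
  have hg : ∀ r, g (algebraMap R K r) = φ (Polynomial.C r) := fun r =>
    IsFractionRing.lift_algebraMap hφC r
  let ι : Polynomial K →+* L := Polynomial.eval₂RingHom g (φ Polynomial.X)
  have hι : ∀ q : Polynomial R, ι (q.map (algebraMap R K)) = φ q := by
    intro q
    show (ι.comp (Polynomial.mapRingHom (algebraMap R K))) q = φ q
    congr 1
    exact Polynomial.ringHom_ext (fun r => by simp [ι, hg]) (by simp [ι])
  have hinj : Function.Injective ι := by
    rw [injective_iff_map_eq_zero]
    intro p hp
    obtain ⟨b, hb, hq⟩ := IsLocalization.integerNormalization_spec (nonZeroDivisors R) p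
    have h1 : φ (IsLocalization.integerNormalization (nonZeroDivisors R) p) = 0 := by
      rw [← hι, hq, Algebra.smul_def, map_mul, hp, mul_zero]
    rw [(injective_iff_map_eq_zero φ).1 hφ _ h1, Polynomial.map_zero] at hq
    exact (smul_eq_zero.1 hq.symm).resolve_left (nonZeroDivisors.ne_zero hb)
  letI algRS : Algebra R S := j.toAlgebra
  have hRL : ∀ r : R, algebraMap R L r = φ (Polynomial.C r) := fun r =>
    IsScalarTower.algebraMap_apply R S L r
  let gA : K →ₐ[R] L := { g with commutes' := fun r => (hg r).trans (hRL r).symm }
  haveI : IsNoetherianRing S := IsLocalization.isNoetherianRing (Submonoid.powers (Polynomial.X : Polynomial R)) S inferInstance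
  haveI : Module.Finite S (integralClosure S L) := h
  haveI : IsNoetherian S (integralClosure S L) := isNoetherian_of_isNoetherianRing_of_finite S _
  have hint : ∀ r : integralClosure R K, gA (r : K) ∈ integralClosure S L :=
    fun r => (r.2.map gA).tower_top
  let F : integralClosure R K → integralClosure S L := fun r => ⟨gA (r : K), hint r⟩
  obtain ⟨t, ht, hspan⟩ := Submodule.fg_span_iff_fg_span_finset_subset (R := S) (Set.range F) |>.1
    (IsNoetherian.noetherian (Submodule.span S (Set.range F)))
  choose pre hpre using fun x : t => ht x.2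
  constructor
  refine ⟨Finset.univ.image pre, eq_top_iff.2 fun r _ => ?_⟩
  have hr : F r ∈ Submodule.span S (t : Set (integralClosure S L)) :=
    hspan ▸ Submodule.subset_span ⟨r, rfl⟩
  obtain ⟨w, hw⟩ := Submodule.mem_span_set'.1 hr |> fun ⟨n, f, g', hg'⟩ =>
    (⟨⟨n, f, g'⟩, hg'⟩ : ∃ w : Σ n : ℕ, (Fin n → S) × (Fin n → (t : Set (integralClosure S L))),
      ∑ i, w.2.1 i • ((w.2.2 i : integralClosure S L)) = F r)
  obtain ⟨n, f, g'⟩ := w
  simp only at hw
  obtain ⟨⟨b, hb⟩, hbf⟩ := IsLocalization.exist_integer_multiples_of_finite
    (Submonoid.powers (Polynomial.X : Polynomial R)) f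
  obtain ⟨N, rfl⟩ := hb
  choose q hq using hbf
  have hqL : ∀ i, φ (q i) = φ (Polynomial.X ^ N) * algebraMap S L (f i) := fun i => by
    show algebraMap S L (algebraMap (Polynomial R) S (q i)) = _
    rw [hq i, Algebra.smul_def, map_mul]
    rfl
  have hw' : ∑ i, algebraMap S L (f i) * g (pre (g' i) : K) = g (r : K) := by
    have := congrArg (Subalgebra.val (integralClosure S L)) hw
    simp only [map_sum, Subalgebra.coe_val, SetLike.val_smul, Algebra.smul_def] at this
    refine Eq.trans (Finset.sum_congr rfl fun i _ => ?_) this
    congr 1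
    exact (congrArg (Subtype.val) (hpre (g' i)))
  have hKX : Polynomial.X ^ N * Polynomial.C (r : K) =
      ∑ i, (q i).map (algebraMap R K) * Polynomial.C (pre (g' i) : K) := by
    apply hinj
    have hC : ∀ c : K, ι (Polynomial.C c) = g c := fun c => by simp [ι]
    have hX : ι (Polynomial.X ^ N) = φ (Polynomial.X ^ N) := by simp [ι]
    simp only [map_mul, map_sum, hι, hqL, hC, hX]
    rw [← hw']
    simp [Finset.mul_sum, mul_assoc]
  have hcoef : (r : K) = ∑ i, algebraMap R K ((q i).coeff N) * (pre (g' i) : K) := by
    have := congrArg (fun p : Polynomial K => p.coeff N) hKX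
    simpa [Polynomial.finsetSum_coeff, Polynomial.coeff_mul_C, Polynomial.coeff_map] using this
  have : r = ∑ i, (q i).coeff N • pre (g' i) := by
    apply Subtype.ext
    rw [hcoef]
    simp [Algebra.smul_def]
  rw [this]
  exact Submodule.sum_mem _ fun i _ => Submodule.smul_mem _ _
    (Submodule.subset_span (Finset.mem_coe.2 (Finset.mem_image_of_mem _ (Finset.mem_univ _))))

end Groth.Agent.S9395
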