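import Groth.Statements.S9396
import Groth.Agent.Calg2.CompleteNagata

set_option autoImplicit false
universe u
open CAlg

namespace Groth.Agent.S9396


theorem isN2_of_birational {A B : Type u} [CommRing A] [IsDomain A] [IsNoetherianRing A] [CommRing B]
    [IsDomain B] [Algebra A B] [Module.Finite A B] (hinj : Function.Injective (algebraMap A B))
    (hB : CAlg.IsN2 B) (d : A) (hd : d ≠ 0) (h : ∀ b : B, ∃ a : A, algebraMap A B a = algebraMap A B d * b) :
    CAlg.IsN2 A := by
  intro L _ _ _ _ hfd
  let F := FractionRing A
  choose a ha using h
  have hd0 : algebraMap A F d ≠ 0 := (map_ne_zero_iff _ (IsFractionRing.injective A F)).2 hd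
  have h1 : a 1 = d := hinj (by rw [ha, mul_one])
  have hmul : ∀ x y, a (x * y) * d = a x * a y := fun x y =>
    hinj (by simp only [map_mul, ha]; ring)
  let χ : B →+* F :=
    { toFun := fun b => algebraMap A F (a b) / algebraMap A F d
      map_one' := by rw [h1, div_self hd0]
      map_mul' := fun x y => by
        rw [div_mul_div_comm, div_eq_div_iff hd0 (mul_ne_zero hd0 hd0), ← map_mul, ← map_mul, ← map_mul,
          ← map_mul, ← hmul x y]
        congr 1
        ring
      map_zero' := by
        rw [show a 0 = 0 from hinj (by rw [ha, mul_zero, map_zero]), map_zero, zero_div]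
      map_add' := fun x y => by
        rw [show a (x + y) = a x + a y from hinj (by simp only [map_add, ha]; ring), map_add, add_div] }
  have hχA : ∀ x : A, χ (algebraMap A B x) = algebraMap A F x := fun x => by
    change algebraMap A F (a (algebraMap A B x)) / algebraMap A F d = algebraMap A F x
    rw [show a (algebraMap A B x) = d * x from hinj (by rw [ha, map_mul]), map_mul, mul_div_cancel_left₀ _ hd0]
  letI : Algebra B F := χ.toAlgebra
  haveI : IsScalarTower A B F := IsScalarTower.of_algebraMap_eq fun x => (hχA x).symm
  haveI : FaithfulSMul B F := (faithfulSMul_iff_algebraMap_injective B F).2 <|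
    (injective_iff_map_eq_zero _).2 fun b hb => by
      have h0 : a b = 0 := by
        have hb' : algebraMap A F (a b) / algebraMap A F d = 0 := hb
        rcases div_eq_zero_iff.1 hb' with h' | h'
        · exact (map_eq_zero_iff _ (IsFractionRing.injective A F)).1 h'
        · exact absurd h' hd0
      have := ha b
      rw [h0, map_zero] at this
      exact (mul_eq_zero.1 this.symm).resolve_left ((map_ne_zero_iff _ hinj).2 hd)
  haveI : IsFractionRing B F := IsFractionRing.of_field B F fun z => by
    obtain ⟨x, y, -, rfl⟩ := IsFractionRing.div_surjective (A := A) z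
    exact ⟨algebraMap A B x, algebraMap A B y, congrArg₂ _ (hχA x).symm (hχA y).symm⟩
  letI : Algebra B L := ((algebraMap F L).comp (algebraMap B F)).toAlgebra
  haveI : IsScalarTower B F L := IsScalarTower.of_algebraMap_eq' rfl
  haveI : IsScalarTower A B L := IsScalarTower.of_algebraMap_eq fun x => by
    change algebraMap A L x = algebraMap F L (χ (algebraMap A B x))
    rw [hχA, ← IsScalarTower.algebraMap_apply]
  haveI : Module.Finite B (integralClosure B L) := Groth.Calg4.finite_ic_of_isN2 hB F L
  haveI : Module.Finite A (integralClosure B L) := Module.Finite.trans B _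
  haveI : IsNoetherian A (integralClosure B L) := isNoetherian_of_isNoetherianRing_of_finite A _
  let i : integralClosure A L →ₗ[A] integralClosure B L :=
    { toFun := fun x => ⟨x.1, IsIntegral.tower_top (A := B) x.2⟩
      map_add' := fun _ _ => rfl
      map_smul' := fun _ _ => rfl }
  exact Module.Finite.of_injective i fun x y hxy => Subtype.ext (congrArg (fun z : integralClosure B L => (z : L)) hxy)


/-- If R is a Noetherian N-2 (Japanese) domain, then the power series ring R[[X]] is an N-2 domain. (R
is not assumed integrally closed.) -/
theorem result (R : Type u) [CommRing R] [IsDomain R] [IsNoetherianRing R]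
    (h : CAlg.IsN2 R) : CAlg.IsN2 (PowerSeries R) := by
  classical
  have hfin : Module.Finite R (integralClosure R (FractionRing R)) := h (FractionRing R) inferInstance
  let R' := integralClosure R (FractionRing R)
  haveI : IsNoetherianRing R' := IsNoetherianRing.of_finite R R'
  haveI : IsIntegrallyClosed R' := integralClosure.isIntegrallyClosedOfFiniteExtension (FractionRing R)
  have hinj : Function.Injective (algebraMap R R') := fun x y hxy =>
    IsFractionRing.injective R (FractionRing R) (congrArg Subtype.val hxy)
  obtain ⟨-, hN⟩ := Calg2.CompleteNagata.powerSeries_normal_isN2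
    (Groth.Calg1.isN2_of_finite (A := R) (B := R') hinj h)
  letI : Algebra (PowerSeries R) (PowerSeries R') := (PowerSeries.map (algebraMap R R')).toAlgebra
  obtain ⟨n, g, hg⟩ := Module.Finite.exists_fin (R := R) (M := R')
  haveI : Module.Finite (PowerSeries R) (PowerSeries R') := by
    refine Module.Finite.of_surjective
      (Fintype.linearCombination (PowerSeries R) (fun i => PowerSeries.C (g i))) fun f => ?_
    choose c hc using fun k => (Submodule.mem_span_range_iff_exists_fun R).1
      (show PowerSeries.coeff k f ∈ Submodule.span R (Set.range g) from hg ▸ Submodule.mem_top)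
    refine ⟨fun i => PowerSeries.mk fun k => c k i, PowerSeries.ext fun k => ?_⟩
    rw [← hc k]
    simp [Fintype.linearCombination_apply, Algebra.smul_def, RingHom.algebraMap_toAlgebra,
      PowerSeries.coeff_mul_C]
  obtain ⟨d, hd⟩ := IsLocalization.exist_integer_multiples (nonZeroDivisors R)
    (Finset.univ : Finset (Fin n)) (fun i => ((g i : R') : FractionRing R))
  have hd' : ∀ b : R', ∃ a : R, algebraMap R R' a = (d : R) • b := by
    intro b
    have hb : b ∈ Submodule.span R (Set.range g) := hg ▸ Submodule.mem_top
    induction hb using Submodule.span_induction with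
    | mem x hx =>
      obtain ⟨i, rfl⟩ := hx
      obtain ⟨a, ha⟩ := hd i (Finset.mem_univ i)
      exact ⟨a, Subtype.ext ha⟩
    | zero => exact ⟨0, by simp⟩
    | add x y _ _ hx hy =>
      obtain ⟨a, ha⟩ := hx
      obtain ⟨b, hb⟩ := hy
      exact ⟨a + b, by rw [map_add, ha, hb, smul_add]⟩
    | smul r x _ hx =>
      obtain ⟨a, ha⟩ := hx
      exact ⟨r * a, by rw [map_mul, ha, ← Algebra.smul_def, smul_comm]⟩
  refine isN2_of_birational (PowerSeries.map_injective _ hinj) hN (PowerSeries.C (d : R))
    (fun h0 => nonZeroDivisors.ne_zero d.2 (PowerSeries.C_injective (h0.trans (map_zero _).symm))) fun f => ?_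
  choose a ha using fun k => hd' (PowerSeries.coeff k f)
  refine ⟨PowerSeries.mk a, PowerSeries.ext fun k => ?_⟩
  simp [RingHom.algebraMap_toAlgebra, ha, Algebra.smul_def]

end Groth.Agent.S9396
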