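import Groth.Statements.S9397
import Groth.Agent.Calg4.Japanese

set_option autoImplicit false
universe u
open CAlg

namespace Groth.Agent.S9397

/-- A ring R is universally Japanese provided that each R-algebra of finite type which is a domain is
N-1. -/
theorem result (R : Type u) [CommRing R]
    (h : ∀ (S : Type u) [CommRing S] [IsDomain S] [Algebra R S], Algebra.FiniteType R S → CAlg.IsN1 S) :
    CAlg.IsUniversallyJapanese R := by
  intro S _ _ _ hft L _ _ _ _ hfin
  let K := FractionRing S
  classical
  let s : Finset L := Finset.univ.image (Module.finBasis K L)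
  obtain ⟨y, hy0, hy⟩ := exists_integral_multiples S K (L := L) s
  let t : Finset L := s.image (y • ·)
  let S' : Subalgebra S L := Algebra.adjoin S (t : Set L)
  have hti : ∀ x ∈ (t : Set L), IsIntegral S x := by
    intro x hx
    obtain ⟨z, hz, rfl⟩ := Finset.mem_image.mp (Finset.mem_coe.mp hx)
    exact hy z hz
  let : Algebra R S' := ((algebraMap S S').comp (algebraMap R S)).toAlgebra
  have : IsScalarTower R S S' := IsScalarTower.of_algebraMap_eq fun _ => rfl
  have hft' : Algebra.FiniteType S S' := (Subalgebra.fg_iff_finiteType S').mp ⟨t, rfl⟩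
  have hftR : Algebra.FiniteType R S' := Algebra.FiniteType.trans hft hft'
  have : Module.Finite S S' := Module.Finite.iff_fg.mpr (fg_adjoin_of_finite t.finite_toSet hti)
  have : IsFractionRing S' L := by
    refine IsFractionRing.of_field _ L fun z => ?_
    have hz : z ∈ Submodule.span K (Set.range (Module.finBasis K L)) := by
      rw [(Module.finBasis K L).span_eq]; trivial
    obtain ⟨q, hq⟩ : ∃ q : S, q ≠ 0 ∧ q • z ∈ Algebra.adjoin S (t : Set L) := by
      induction hz using Submodule.span_induction with
      | mem x hx =>
        obtain ⟨j, rfl⟩ := hx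
        exact ⟨y, hy0, Algebra.subset_adjoin (Finset.mem_coe.mpr
          (Finset.mem_image_of_mem _ (Finset.mem_image_of_mem _ (Finset.mem_univ j))))⟩
      | zero => exact ⟨1, one_ne_zero, by rw [smul_zero]; exact zero_mem _⟩
      | add a b _ _ ha hb =>
        obtain ⟨p, hp0, hp⟩ := ha
        obtain ⟨q, hq0, hq⟩ := hb
        refine ⟨p * q, mul_ne_zero hp0 hq0, ?_⟩
        rw [smul_add, mul_smul, mul_smul, smul_comm p q a]
        exact add_mem (Subalgebra.smul_mem _ hp q) (Subalgebra.smul_mem _ hq p)
      | smul c a _ ha =>
        obtain ⟨p, hp0, hp⟩ := ha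
        obtain ⟨n, d, hd, rfl⟩ := IsFractionRing.div_surjective S c
        refine ⟨d * p, mul_ne_zero (nonZeroDivisors.ne_zero hd) hp0, ?_⟩
        have : (d * p) • (algebraMap S K n / algebraMap S K d) • a = n • p • a := by
          have hd' : algebraMap S K d ≠ 0 :=
            (map_ne_zero_iff _ (IsFractionRing.injective S K)).mpr (nonZeroDivisors.ne_zero hd)
          rw [← IsScalarTower.algebraMap_smul K (d * p), ← IsScalarTower.algebraMap_smul K n,
            ← IsScalarTower.algebraMap_smul K p a, smul_smul, smul_smul, map_mul]
          congr 1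
          rw [mul_comm (algebraMap S K n) (algebraMap S K p)]
          calc _ = algebraMap S K p * (algebraMap S K n / algebraMap S K d * algebraMap S K d) := by ring
            _ = _ := by rw [div_mul_cancel₀ _ hd']
        rw [this]
        exact Subalgebra.smul_mem _ hp n
    refine ⟨⟨_, hq.2⟩, algebraMap S S' q, ?_⟩
    rw [← IsScalarTower.algebraMap_apply S S' L, eq_div_iff]
    · change z * _ = q • z
      rw [Algebra.smul_def, mul_comm]
    · rw [IsScalarTower.algebraMap_apply S K L]
      exact (map_ne_zero _).mpr ((map_ne_zero_iff _ (IsFractionRing.injective S K)).mpr hq.1)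
  have h1 : Module.Finite S' (integralClosure S' L) := Groth.Calg4.finite_ic_of_isN1 (h S' hftR) L
  have : Algebra.IsIntegral S S' := Algebra.IsIntegral.of_finite S S'
  have : Module.Finite S (integralClosure S' L) := Module.Finite.trans S' _
  let g : integralClosure S' L →ₗ[S] integralClosure S L :=
    { toFun := fun x => ⟨x.1, isIntegral_trans x.1 x.2⟩
      map_add' := fun _ _ => rfl
      map_smul' := fun r x => Subtype.ext rfl }
  exact Module.Finite.of_surjective g fun x => ⟨⟨x.1, x.2.tower_top⟩, rfl⟩

end Groth.Agent.S9397
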