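import Groth.Statements.S9398
import Groth.Agent.Calg4.Japanese

set_option autoImplicit false
universe u
open CAlg

namespace Groth.Agent.S9398

/-- An algebra essentially of finite type over a universally Japanese ring is universally Japanese. -/
theorem result (R : Type u) [CommRing R]
    (hR : CAlg.IsUniversallyJapanese R) (T : Type u) [CommRing T] [Algebra R T]
    [Algebra.EssFiniteType R T] : CAlg.IsUniversallyJapanese T := by
  intro S _ _ _ hft
  let : Algebra R S := ((algebraMap T S).comp (algebraMap R T)).toAlgebra
  have : IsScalarTower R T S := IsScalarTower.of_algebraMap_eq fun _ => rfl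
  have : Algebra.EssFiniteType R S := Algebra.EssFiniteType.comp R T S
  have h1 := hR (Algebra.EssFiniteType.subalgebra R S) inferInstance
  intro L _ _ _ _ hfin
  let S₀ := Algebra.EssFiniteType.subalgebra R S
  let M := Algebra.EssFiniteType.submonoid R S
  have : IsScalarTower S₀ S L := inferInstance
  have : IsScalarTower S₀ S (FractionRing S) := inferInstance
  have : IsScalarTower S₀ (FractionRing S) L := IsScalarTower.of_algebraMap_eq fun r => by
    simp [IsScalarTower.algebraMap_apply S₀ S L, IsScalarTower.algebraMap_apply S₀ S (FractionRing S),
      ← IsScalarTower.algebraMap_apply S (FractionRing S) L]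
  have : IsFractionRing S₀ (FractionRing S) := Groth.Calg4.isFractionRing_comp S₀ M S _
  exact Groth.Calg4.finite_ic_of_isLocalization M S _
    (Groth.Calg4.finite_ic_of_isN2 h1 (FractionRing S) L)

end Groth.Agent.S9398
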