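import Groth.Statements.S9399
import Groth.Agent.Calg4.Japanese

set_option autoImplicit false
universe u
open CAlg

namespace Groth.Agent.S9399

/-- Being universally Japanese can be checked on a finite cover of Spec R by principal opens. -/
theorem result (R : Type u) [CommRing R]
    {ι : Type u} [Finite ι] (f : ι → R) (hf : Ideal.span (Set.range f) = ⊤)
    (h : ∀ i, CAlg.IsUniversallyJapanese (Localization.Away (f i))) :
    CAlg.IsUniversallyJapanese R := by
  intro S _ _ _ hft L _ _ _ _ hfin
  refine Groth.Calg4.finite_ic_of_span (fun i => algebraMap R S (f i)) ?_ fun i => ?_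
  · rw [Set.range_comp' (algebraMap R S) f, ← Ideal.map_span, hf, Ideal.map_top]
  set g := algebraMap R S (f i) with hg
  rcases eq_or_ne g 0 with h0 | h0
  · exact Or.inl (by simp [h0])
  let Sg := Localization.Away g
  have hu : IsUnit (algebraMap R Sg (f i)) := by
    rw [IsScalarTower.algebraMap_apply R S Sg]
    exact IsLocalization.map_units Sg ⟨g, Submonoid.mem_powers g⟩
  let : Algebra (Localization.Away (f i)) Sg := (IsLocalization.Away.lift (f i) hu).toAlgebra
  have : IsScalarTower R (Localization.Away (f i)) Sg := IsScalarTower.of_algebraMap_eq fun r =>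
    (IsLocalization.Away.lift_eq (f i) hu r).symm
  have hS : Algebra.FiniteType S Sg := IsLocalization.finiteType_of_monoid_fg (Submonoid.powers g) Sg
  have hRS : Algebra.FiniteType R Sg := Algebra.FiniteType.trans hft hS
  have hfA : Algebra.FiniteType (Localization.Away (f i)) Sg :=
    Algebra.FiniteType.of_restrictScalars_finiteType R _ Sg
  have : IsDomain Sg := IsLocalization.isDomain_localization
    (powers_le_nonZeroDivisors_of_noZeroDivisors h0)
  have h2 : IsN2 Sg := h i Sg hfA
  let K := FractionRing S
  have hu' : IsUnit (algebraMap S K g) :=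
    IsUnit.mk0 _ ((map_ne_zero_iff _ (IsFractionRing.injective S K)).mpr h0)
  let : Algebra Sg K := (IsLocalization.Away.lift g hu').toAlgebra
  have : IsScalarTower S Sg K := IsScalarTower.of_algebraMap_eq fun r =>
    (IsLocalization.Away.lift_eq g hu' r).symm
  have : IsFractionRing Sg K :=
    IsFractionRing.isFractionRing_of_isDomain_of_isLocalization (Submonoid.powers g) Sg _
  let : Algebra Sg L := ((algebraMap K L).comp (algebraMap Sg K)).toAlgebra
  have : IsScalarTower Sg K L := IsScalarTower.of_algebraMap_eq fun _ => rfl
  have : IsScalarTower S Sg L := IsScalarTower.of_algebraMap_eq fun r => by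
    simp [IsScalarTower.algebraMap_apply Sg K L, ← IsScalarTower.algebraMap_apply S Sg K,
      ← IsScalarTower.algebraMap_apply S K L]
  exact Or.inr (Groth.Calg4.fgAway_of_isLocalizationAway g Sg (Groth.Calg4.finite_ic_of_isN2 h2 K L))

end Groth.Agent.S9399
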