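import Groth.Statements.S9401
import Groth.Agent.Calg4.NagataDescent

set_option autoImplicit false
universe u
open CAlg

namespace Groth.Agent.S9401

open scoped TensorProduct

/-- The Nagata property descends along smooth ring maps that are surjective on spectra. -/
theorem result (R : Type u) [CommRing R] (S : Type u)
    [CommRing S] [Algebra R S] [Algebra.Smooth R S]
    (hs : Function.Surjective (PrimeSpectrum.comap (algebraMap R S))) (hS : CAlg.IsNagata S) :
    CAlg.IsNagata R := by
  have : Module.FaithfullyFlat R S := Module.FaithfullyFlat.of_comap_surjective hs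
  have : IsNoetherianRing S := hS.1
  refine ⟨isNoetherianRing_iff.2 (isNoetherian_iff'.2 (StrictMono.wellFoundedGT (f := Ideal.map (algebraMap R S))
    fun I J h => (Ideal.map_mono h.le).lt_of_ne fun e => h.ne (Ideal.map_injective_of_faithfullyFlat e))),
    fun p _ => ?_⟩
  refine Groth.Calg4.isN2_of_smooth_faithfullyFlat (B := (R ⧸ p) ⊗[R] S)
    (Groth.Calg1.isNagata_of_surjective
      (Algebra.TensorProduct.includeRight (R := R) (A := R ⧸ p) (B := S)).toRingHom ?_ hS)
  intro z
  induction z using TensorProduct.induction_on with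
  | zero => exact ⟨0, map_zero _⟩
  | tmul r s =>
    obtain ⟨r, rfl⟩ := Ideal.Quotient.mk_surjective r
    refine ⟨r • s, ?_⟩
    change (1 : R ⧸ p) ⊗ₜ[R] (r • s) = _
    rw [← TensorProduct.smul_tmul, Algebra.smul_def, mul_one]
    rfl
  | add x y hx hy =>
    obtain ⟨a, rfl⟩ := hx
    obtain ⟨b, rfl⟩ := hy
    exact ⟨a + b, map_add _ _ _⟩

end Groth.Agent.S9401
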