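import Groth.Statements.S9403
import Mathlib

set_option autoImplicit false
universe u
open CAlg

namespace Groth.Agent.S9403

/-- Let R → S be a ring map with S a Noetherian local ring which is an algebra over the rationals, and f
∈ S such that some S-linear form on the module of differentials of S over R sends df to 1 (df spans
a free direct summand of rank one). Then f is a nonzerodivisor of S. (The published statement asks
only that S·df be a direct summand of the module of differentials, which also holds for the
rationals with a square-zero element adjoined, where f is a zero divisor; this row asks for an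
S-linear form on the differentials sending df to 1, as the published proof uses.) -/
theorem result (R : Type u) [CommRing R]
    (S : Type u) [CommRing S] [IsLocalRing S] [IsNoetherianRing S] [Algebra R S] [Algebra ℚ S]
    (f : S) (θ : Ω[S⁄R] →ₗ[S] S) (hθ : θ (KaehlerDifferential.D R S f) = 1) : f ∈ nonZeroDivisors S := by
  rw [mem_nonZeroDivisors_iff_right]
  intro g hg
  by_cases hf : IsUnit f
  · exact (IsUnit.mul_left_eq_zero hf).mp hg
  have hk : ∀ k : ℕ, g ∈ Ideal.span {f} ^ k := by
    intro k
    induction k with
    | zero => simp
    | succ k ih =>
      rw [Ideal.span_singleton_pow, Ideal.mem_span_singleton] at ih ⊢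
      obtain ⟨h, rfl⟩ := ih
      have h0 : f ^ (k + 1) * h = 0 := by rw [← hg]; ring
      have h1 := congrArg θ (congrArg (KaehlerDifferential.D R S) h0)
      rw [Derivation.leibniz, Derivation.leibniz_pow, map_zero, map_zero, map_add, map_smul, map_smul,
        map_nsmul, map_smul, hθ, smul_eq_mul, smul_eq_mul, smul_eq_mul, mul_one,
        Nat.add_sub_cancel, nsmul_eq_mul] at h1
      have hu : IsUnit ((k + 1 : ℕ) : S) := by
        have h2 := (IsUnit.mk0 ((k + 1 : ℕ) : ℚ) (by positivity)).map (algebraMap ℚ S)
        rwa [map_natCast] at h2
      rw [← hu.dvd_mul_left]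
      exact ⟨-θ (KaehlerDifferential.D R S h), by linear_combination h1⟩
  have : g ∈ ⨅ k : ℕ, Ideal.span {f} ^ k := Submodule.mem_iInf _ |>.mpr hk
  rwa [Ideal.iInf_pow_eq_bot_of_isLocalRing _ (by simpa [Ideal.span_singleton_eq_top] using hf),
    Ideal.mem_bot] at this

end Groth.Agent.S9403
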