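import Groth.Statements.S9404
import Mathlib
-- import your own Groth.Agent.* helpers here

set_option autoImplicit false
universe u
open CAlg

namespace Groth.Agent.S9404

open TensorProduct in
theorem eq_of_comap {A B C T : Type u} [CommRing A] [IsLocalRing A] [CommRing B] [IsLocalRing B]
    [Algebra A B] [CommRing C] [IsLocalRing C] [Algebra A C] [IsLocalHom (algebraMap A C)]
    [CommRing T] (f : B →+* T) (g : C →+* T) (hfg : f.comp (algebraMap A B) = g.comp (algebraMap A C))
    (hgen : Subring.closure (Set.range f ∪ Set.range g) = ⊤)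
    [IsPurelyInseparable (IsLocalRing.ResidueField A) (IsLocalRing.ResidueField C)]
    (M M' : Ideal T) [M.IsMaximal] [M'.IsMaximal]
    (hM : IsLocalRing.maximalIdeal B ≤ M.comap f) (hM' : IsLocalRing.maximalIdeal B ≤ M'.comap f)
    (hMC : IsLocalRing.maximalIdeal C ≤ M.comap g) (hMC' : IsLocalRing.maximalIdeal C ≤ M'.comap g)
    (hA : IsLocalRing.maximalIdeal A ≤ (M ⊓ M').comap (f.comp (algebraMap A B))) :
    M = M' := by
  let k := IsLocalRing.ResidueField A
  let q := ringExpChar k
  let π := Ideal.Quotient.mk (M ⊓ M')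
  let φ : k →+* T ⧸ (M ⊓ M') := Ideal.Quotient.lift (IsLocalRing.maximalIdeal A)
    (π.comp (f.comp (algebraMap A B))) (fun a ha => Ideal.Quotient.eq_zero_iff_mem.2 (hA ha))
  haveI : Nontrivial (T ⧸ (M ⊓ M')) := Ideal.Quotient.nontrivial_iff.2 (fun h =>
    Ideal.IsPrime.ne_top (inferInstance : M.IsPrime) (eq_top_iff.2 (h ▸ inf_le_left)))
  haveI : ExpChar (T ⧸ (M ⊓ M')) q := expChar_of_injective_ringHom φ.injective q
  have key : ∀ x : T, ∃ (n : ℕ) (b : B), π x ^ q ^ n = π (f b) := by
    intro x
    have hx : x ∈ Subring.closure (Set.range f ∪ Set.range g) := hgen ▸ Subring.mem_top x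
    induction hx using Subring.closure_induction with
    | mem y hy =>
      rcases hy with ⟨b, rfl⟩ | ⟨c, rfl⟩
      · exact ⟨0, b, by simp⟩
      · obtain ⟨n, a', ha'⟩ := IsPurelyInseparable.pow_mem k q (IsLocalRing.residue C c)
        obtain ⟨a, rfl⟩ := IsLocalRing.residue_surjective a'
        refine ⟨n, algebraMap A B a, ?_⟩
        have hres : algebraMap A C a - c ^ q ^ n ∈ IsLocalRing.maximalIdeal C := by
          have : IsLocalRing.residue C (algebraMap A C a) = IsLocalRing.residue C (c ^ q ^ n) := by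
            rw [map_pow, ← ha', IsLocalRing.ResidueField.algebraMap_residue]
          exact Ideal.Quotient.eq.1 this
        have h2 : g (algebraMap A C a - c ^ q ^ n) ∈ M ⊓ M' := ⟨hMC hres, hMC' hres⟩
        rw [map_sub, map_pow, ← RingHom.comp_apply g, ← hfg] at h2
        rw [← map_pow]
        exact (Ideal.Quotient.eq.2 h2).symm
    | zero => exact ⟨0, 0, by simp⟩
    | one => exact ⟨0, 1, by simp⟩
    | add y z _ _ hy hz =>
      obtain ⟨n, b, hb⟩ := hy
      obtain ⟨m, c, hc⟩ := hz
      refine ⟨n + m, b ^ q ^ m + c ^ q ^ n, ?_⟩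
      rw [map_add π, add_pow_expChar_pow, pow_add, pow_mul, hb, mul_comm, pow_mul, hc]
      simp
    | neg y _ hy =>
      obtain ⟨n, b, hb⟩ := hy
      refine ⟨n, (-1) ^ q ^ n * b, ?_⟩
      rw [map_neg, neg_pow, hb]
      simp
    | mul y z _ _ hy hz =>
      obtain ⟨n, b, hb⟩ := hy
      obtain ⟨m, c, hc⟩ := hz
      refine ⟨n + m, b ^ q ^ m * c ^ q ^ n, ?_⟩
      rw [map_mul π, mul_pow, pow_add, pow_mul, hb, mul_comm (q ^ n) (q ^ m), pow_mul, hc]
      simp
  have hb : ∀ (N : Ideal T) [N.IsMaximal], IsLocalRing.maximalIdeal B ≤ N.comap f →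
      ∀ b, f b ∈ N ↔ b ∈ IsLocalRing.maximalIdeal B := by
    intro N hN hle b
    refine ⟨fun h => ?_, fun h => hle h⟩
    by_contra hb
    exact hN.ne_top (Ideal.eq_top_of_isUnit_mem _ h
      ((IsLocalRing.notMem_maximalIdeal.1 hb).map f))
  have hmem : ∀ x, x ∈ M ↔ x ∈ M' := by
    intro x
    obtain ⟨n, b, hxb⟩ := key x
    have hpos : 0 < q ^ n := pow_pos (expChar_pos k q) n
    rw [← map_pow] at hxb
    have h := Ideal.Quotient.eq.1 hxb
    have e : ∀ (N : Ideal T) [N.IsMaximal], x ^ q ^ n - f b ∈ N → (x ∈ N ↔ f b ∈ N) := by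
      intro N hN hd
      rw [← (inferInstance : N.IsPrime).pow_mem_iff_mem _ hpos]
      exact ⟨fun h => by simpa using N.sub_mem h hd, fun h => by simpa using N.add_mem hd h⟩
    rw [e M h.1, e M' h.2, hb M hM b, hb M' hM' b]
  exact Ideal.ext hmem

open TensorProduct in
/-- For local homomorphisms of local rings A → B and A → C with A → C integral, if the residue field of
C or that of B is purely inseparable over the residue field of A, then B ⊗_A C is local and both
structure maps into it are local. -/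
theorem result (A : Type u) [CommRing A]
    [IsLocalRing A] (B : Type u) [CommRing B] [IsLocalRing B] [Algebra A B]
    [IsLocalHom (algebraMap A B)] (C : Type u) [CommRing C] [IsLocalRing C] [Algebra A C]
    [IsLocalHom (algebraMap A C)] [Algebra.IsIntegral A C]
    (h : IsPurelyInseparable (IsLocalRing.ResidueField A) (IsLocalRing.ResidueField C) ∨
      IsPurelyInseparable (IsLocalRing.ResidueField A) (IsLocalRing.ResidueField B)) :
    IsLocalRing (B ⊗[A] C) ∧
      IsLocalHom (Algebra.TensorProduct.includeLeft : B →ₐ[A] B ⊗[A] C).toRingHom ∧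
      IsLocalHom (Algebra.TensorProduct.includeRight : C →ₐ[A] B ⊗[A] C).toRingHom := by
  let T := B ⊗[A] C
  let f : B →+* T := (Algebra.TensorProduct.includeLeft : B →ₐ[A] T).toRingHom
  let g : C →+* T := (Algebra.TensorProduct.includeRight : C →ₐ[A] T).toRingHom
  have hfg : f.comp (algebraMap A B) = g.comp (algebraMap A C) := by
    simp [f, g, AlgHom.comp_algebraMap]
  have hgen : Subring.closure (Set.range f ∪ Set.range g) = ⊤ := by
    rw [eq_top_iff]
    intro x _
    induction x using TensorProduct.induction_on with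
    | zero => exact zero_mem _
    | tmul b c =>
      have : b ⊗ₜ[A] c = f b * g c := by show b ⊗ₜ[A] c = (b ⊗ₜ[A] (1:C) : B ⊗[A] C) * ((1:B) ⊗ₜ[A] c); rw [Algebra.TensorProduct.tmul_mul_tmul, mul_one, one_mul]
      rw [this]
      exact mul_mem (Subring.subset_closure (Or.inl ⟨b, rfl⟩)) (Subring.subset_closure (Or.inr ⟨c, rfl⟩))
    | add y z hy hz => exact add_mem (hy trivial) (hz trivial)
  have hgen' : Subring.closure (Set.range g ∪ Set.range f) = ⊤ := by rw [Set.union_comm]; exact hgen
  haveI : Nontrivial T := by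
    let W := IsLocalRing.ResidueField B ⊗[IsLocalRing.ResidueField A] IsLocalRing.ResidueField C
    let fB : B →ₐ[A] W :=
      ((Algebra.TensorProduct.includeLeft : IsLocalRing.ResidueField B →ₐ[IsLocalRing.ResidueField A] W).restrictScalars A).comp
        (IsScalarTower.toAlgHom A B (IsLocalRing.ResidueField B))
    let gC : C →ₐ[A] W :=
      ((Algebra.TensorProduct.includeRight : IsLocalRing.ResidueField C →ₐ[IsLocalRing.ResidueField A] W).restrictScalars A).comp
        (IsScalarTower.toAlgHom A C (IsLocalRing.ResidueField C))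
    exact (Algebra.TensorProduct.lift fB gC (fun _ _ => Commute.all _ _)).toRingHom.domain_nontrivial
  have hcB : ∀ (M : Ideal T), M.IsMaximal → M.comap f = IsLocalRing.maximalIdeal B := by
    intro M hM
    exact IsLocalRing.eq_maximalIdeal (Ideal.isMaximal_comap_of_isIntegral_of_isMaximal (R := B) M)
  have hcA : ∀ (M : Ideal T), M.IsMaximal →
      IsLocalRing.maximalIdeal A ≤ M.comap (f.comp (algebraMap A B)) := by
    intro M hM
    rw [← Ideal.comap_comap, hcB M hM, IsLocalRing.maximalIdeal_comap]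
  have hcC : ∀ (M : Ideal T), M.IsMaximal → M.comap g = IsLocalRing.maximalIdeal C := by
    intro M hM
    haveI : (M.comap g).IsPrime := Ideal.IsPrime.comap g
    refine IsLocalRing.eq_maximalIdeal (Ideal.isMaximal_of_isIntegral_of_isMaximal_comap (R := A) _ ?_)
    rw [Ideal.comap_comap, ← hfg, ← Ideal.comap_comap, hcB M hM, IsLocalRing.maximalIdeal_comap]
    infer_instance
  have huniq : ∀ M M' : Ideal T, M.IsMaximal → M'.IsMaximal → M = M' := by
    intro M M' hM hM'
    rcases h with h | h
    · exact eq_of_comap f g hfg hgen M M' (hcB M hM).ge (hcB M' hM').ge (hcC M hM).ge (hcC M' hM').ge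
        (fun a ha => ⟨hcA M hM ha, hcA M' hM' ha⟩)
    · exact eq_of_comap g f hfg.symm hgen' M M' (hcC M hM).ge (hcC M' hM').ge (hcB M hM).ge (hcB M' hM').ge
        (by rw [← hfg]; exact fun a ha => ⟨hcA M hM ha, hcA M' hM' ha⟩)
  obtain ⟨M, hM⟩ := Ideal.exists_maximal T
  haveI hloc : IsLocalRing T := IsLocalRing.of_unique_max_ideal ⟨M, hM, fun M' hM' => huniq M' M hM' hM⟩
  refine ⟨hloc, ⟨fun b hb => ?_⟩, ⟨fun c hc => ?_⟩⟩
  · by_contra hn
    exact hM.ne_top (Ideal.eq_top_of_isUnit_mem _
      ((hcB M hM).ge ((IsLocalRing.mem_maximalIdeal b).2 hn) : f b ∈ M) hb)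
  · by_contra hn
    exact hM.ne_top (Ideal.eq_top_of_isUnit_mem _
      ((hcC M hM).ge ((IsLocalRing.mem_maximalIdeal c).2 hn) : g c ∈ M) hc)

end Groth.Agent.S9404
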