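import Groth.Statements.S9411
import Groth.Agent.Ega4Algebra2.NormalTensor
-- import your own Groth.Agent.* helpers here

set_option autoImplicit false
universe u
open EGA4

namespace Groth.Agent.S9411

open TensorProduct

/-- `K ⊗_k k' → K ⊗_{k'}` is a localization when `k'` is separable over `k`. -/
lemma isNormalRing_tensor_overField (k k' A K : Type u) [Field k] [Field k'] [Algebra k k']
    [Algebra.IsSeparable k k'] [CommRing A] [Algebra k' A] [Algebra k A] [IsScalarTower k k' A]
    [CommRing K] [Algebra k' K] [Algebra k K] [IsScalarTower k k' K]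
    (h : EGA4.IsNormalRing (K ⊗[k] A)) : EGA4.IsNormalRing (K ⊗[k'] A) := by
  haveI : Algebra.FormallyEtale k k' := Algebra.FormallyEtale.of_isSeparable k k'
  haveI := (Groth.Ega41Sep.formallySmooth_iff_isGeometricallyReduced k k').mp inferInstance
  let R := k' ⊗[k] k'
  let μ := Algebra.TensorProduct.lmul' k (S := k')
  let θ : R →ₐ[k] K ⊗[k] A :=
    Algebra.TensorProduct.map (IsScalarTower.toAlgHom k k' K) (IsScalarTower.toAlgHom k k' A)
  let π : K ⊗[k] A →ₐ[k] K ⊗[k'] A :=
    Algebra.TensorProduct.lift ((Algebra.TensorProduct.includeLeft (R := k') (S := k') (A := K) (B := A)).restrictScalars k)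
      ((Algebra.TensorProduct.includeRight (R := k') (A := K) (B := A)).restrictScalars k) fun _ _ => Commute.all _ _
  letI : Algebra (K ⊗[k] A) (K ⊗[k'] A) := π.toRingHom.toAlgebra
  -- the diagonal ideal of the reduced zero dimensional ring `k' ⊗ k'`
  haveI : IsReduced R :=
    Groth.VarietyBC.isReduced_tensor_of_isGeometricallyReduced
  haveI : Algebra.IsIntegral k k' := inferInstance
  haveI : Algebra.IsIntegral k' R := Algebra.IsIntegral.tensorProduct k k' k'
  haveI : Ring.KrullDimLE 0 R := Ring.KrullDimLE.mk₀ fun q _ =>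
    Ideal.isMaximal_of_isIntegral_of_isMaximal_comap (R := k') q
      (by rw [(IsSimpleOrder.eq_bot_or_eq_top (q.comap (algebraMap k' R))).resolve_right
        (Ideal.IsPrime.ne_top inferInstance)]; exact Ideal.bot_isMaximal)
  let m : Ideal R := RingHom.ker μ.toRingHom
  haveI : m.IsPrime := RingHom.ker_isPrime _
  have hkill : ∀ r ∈ m, ∃ s ∉ m, s * r = 0 := fun r hr => by
    have h0 : IsNilpotent (algebraMap R (Localization.AtPrime m) r) := by
      haveI : Ring.KrullDimLE 0 (Localization.AtPrime m) := Ring.KrullDimLE.mk₀ fun Q hQ => by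
        have h1 : Q.comap (algebraMap R (Localization.AtPrime m)) ≤ m := fun x hx => by
          by_contra hxm
          exact hQ.ne_top (Ideal.eq_top_of_isUnit_mem _ hx (IsLocalization.map_units (Localization.AtPrime m) (⟨x, hxm⟩ : m.primeCompl)))
        haveI : (Q.comap (algebraMap R (Localization.AtPrime m))).IsPrime := inferInstance
        have h2 := (Ideal.isMaximal_of_isPrime (Q.comap (algebraMap R (Localization.AtPrime m)))).eq_of_le (Ideal.IsPrime.ne_top ‹m.IsPrime›) h1
        have h3 : Q = IsLocalRing.maximalIdeal (Localization.AtPrime m) := by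
          rw [← IsLocalization.map_comap m.primeCompl (Localization.AtPrime m) Q, show Q.under R = m from h2,
            Localization.AtPrime.map_eq_maximalIdeal]
        rw [h3]; infer_instance
      rw [← mem_nilradical, Ring.KrullDimLE.nilradical_eq_maximalIdeal, IsLocalization.AtPrime.to_map_mem_maximal_iff (Localization.AtPrime m) m r]
      exact hr
    haveI : IsReduced (Localization.AtPrime m) :=
      @isReduced_localizationPreserves R _ m.primeCompl (Localization.AtPrime m) _ _ _ inferInstance
    obtain ⟨⟨s, hs⟩, hs0⟩ := (IsLocalization.map_eq_zero_iff m.primeCompl _ r).mp h0.eq_zero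
    exact ⟨s, hs, hs0⟩
  have hπθ : ∀ r, π (θ r) = algebraMap k' (K ⊗[k'] A) (μ r) := by
    intro r
    induction r using TensorProduct.induction_on with
    | zero => simp
    | add a b ha hb => simp [map_add, ha, hb]
    | tmul a b =>
      show (algebraMap k' K a ⊗ₜ[k'] (1 : A)) * ((1 : K) ⊗ₜ[k'] algebraMap k' A b) = algebraMap k' (K ⊗[k'] A) (a * b)
      rw [map_mul]
      congr 1
      exact (Algebra.TensorProduct.includeRight (R := k') (A := K) (B := A)).commutes b
  -- the kernel
  let J : Ideal (K ⊗[k] A) := m.map θ.toRingHom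
  let q := Ideal.Quotient.mk J
  have hdiag : ∀ c : k', q ((1 : K) ⊗ₜ algebraMap k' A c) = q (algebraMap k' K c ⊗ₜ (1 : A)) := fun c => by
    rw [Ideal.Quotient.eq]
    have hm : (1 : k') ⊗ₜ[k] c - c ⊗ₜ[k] (1 : k') ∈ m := by simp [m, μ]
    have h2 := Ideal.mem_map_of_mem θ.toRingHom hm
    rwa [show θ.toRingHom ((1 : k') ⊗ₜ[k] c - c ⊗ₜ[k] (1 : k')) =
      (1 : K) ⊗ₜ[k] algebraMap k' A c - algebraMap k' K c ⊗ₜ[k] (1 : A) by
        show θ _ = _
        rw [map_sub]
        show algebraMap k' K 1 ⊗ₜ[k] algebraMap k' A c - algebraMap k' K c ⊗ₜ[k] algebraMap k' A 1 = _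
        rw [map_one, map_one]] at h2
  let inv : K ⊗[k'] A →ₐ[k'] (K ⊗[k] A) ⧸ J :=
    Algebra.TensorProduct.lift
      { q.comp (Algebra.TensorProduct.includeLeftRingHom (R := k) (A := K) (B := A)) with commutes' := fun c => rfl }
      { q.comp (Algebra.TensorProduct.includeRight (R := k) (A := K) (B := A)).toRingHom with
        commutes' := fun c => hdiag c }
      fun _ _ => Commute.all _ _
  have hinv : ∀ z, inv (π z) = q z := by
    intro z
    induction z with
    | zero => simp
    | add a b ha hb => simp [map_add, ha, hb]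
    | tmul a b =>
      show inv ((a ⊗ₜ[k'] (1 : A)) * ((1 : K) ⊗ₜ[k'] b)) = q (a ⊗ₜ[k] b)
      rw [Algebra.TensorProduct.tmul_mul_tmul, mul_one, one_mul]
      show q (a ⊗ₜ[k] (1 : A)) * q ((1 : K) ⊗ₜ[k] b) = q (a ⊗ₜ[k] b)
      rw [← map_mul, Algebra.TensorProduct.tmul_mul_tmul, mul_one, one_mul]
  have hsurj : Function.Surjective π := by
    intro z
    induction z with
    | zero => exact ⟨0, map_zero _⟩
    | tmul a b => exact ⟨a ⊗ₜ b, by simp [π]⟩
    | add a b ha hb =>
      obtain ⟨a, rfl⟩ := ha; obtain ⟨b, rfl⟩ := hb; exact ⟨a + b, map_add _ _ _⟩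
  let M : Submonoid (K ⊗[k] A) := m.primeCompl.map θ.toRingHom
  have hJker : J ≤ RingHom.ker π.toRingHom := Ideal.map_le_iff_le_comap.mpr fun r hr => by
    show π (θ r) = 0
    rw [hπθ, show μ r = 0 from hr, map_zero]
  have hker : ∀ z, π z = 0 → ∃ s : M, (s : K ⊗[k] A) * z = 0 := by
    intro z hz
    have hzJ : z ∈ J := Ideal.Quotient.eq_zero_iff_mem.mp (by rw [← hinv, hz, map_zero])
    induction hzJ using Submodule.span_induction with
    | mem y hy =>
      obtain ⟨r, hr, rfl⟩ := hy
      obtain ⟨s, hs, hsr⟩ := hkill r hr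
      exact ⟨⟨θ s, s, hs, rfl⟩, by show θ s * θ r = 0; rw [← map_mul, hsr, map_zero]⟩
    | zero => exact ⟨1, mul_zero _⟩
    | add a b ha hb iha ihb =>
      obtain ⟨s, hs⟩ := iha (by rw [← RingHom.mem_ker]; exact hJker ha)
      obtain ⟨t, ht⟩ := ihb (by rw [← RingHom.mem_ker]; exact hJker hb)
      exact ⟨s * t, by rw [Submonoid.coe_mul]; linear_combination (t : K ⊗[k] A) * hs + (s : K ⊗[k] A) * ht⟩
    | smul c a ha iha =>
      obtain ⟨s, hs⟩ := iha (by rw [← RingHom.mem_ker]; exact hJker ha)
      exact ⟨s, by rw [smul_eq_mul, mul_left_comm, hs, mul_zero]⟩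
  haveI : IsLocalization M (K ⊗[k'] A) := by
    refine { map_units := ?_, surj := fun z => ?_, exists_of_eq := fun {x y} hxy => ?_ }
    · rintro ⟨_, s, hs, rfl⟩
      show IsUnit (π (θ s))
      rw [hπθ]
      exact (Ne.isUnit hs).map _
    · obtain ⟨z, rfl⟩ := hsurj z
      exact ⟨⟨z, 1⟩, by rw [OneMemClass.coe_one, map_one, mul_one]; rfl⟩
    · obtain ⟨s, hs⟩ := hker (x - y) (by rw [map_sub, sub_eq_zero]; exact hxy)
      exact ⟨s, by rwa [mul_sub, sub_eq_zero] at hs⟩
  exact Groth.Ega4b.isNormalRing_of_isLocalization M _ h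

/-- Let k'/k be a separable algebraic field extension and A a k'-algebra. Geometric normality of A over
k' is equivalent to geometric normality of A over k. -/
theorem result (k : Type u) [Field k] (k' : Type u) [Field k']
    [Algebra k k'] [Algebra.IsSeparable k k'] (A : Type u) [CommRing A] [Algebra k' A]
    [Algebra k A] [IsScalarTower k k' A] :
    EGA4.IsGeomNormal k A ↔ EGA4.IsGeomNormal k' A := by
  haveI hgr : Algebra.IsGeometricallyReduced k k' := by
    haveI : Algebra.FormallyEtale k k' := Algebra.FormallyEtale.of_isSeparable k k'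
    exact (Groth.Ega41Sep.formallySmooth_iff_isGeometricallyReduced k k').mp inferInstance
  constructor
  · intro h K _ _ _
    letI : Algebra k K := ((algebraMap k' K).comp (algebraMap k k')).toAlgebra
    haveI : IsScalarTower k k' K := IsScalarTower.of_algebraMap_eq fun _ => rfl
    exact isNormalRing_tensor_overField k k' A K
      (Groth.Ega4b.isNormalRing_of_ringEquiv (Algebra.TensorProduct.comm k A K).toRingEquiv
        (Groth.Ega4b.isNormalRing_tensor_field k A K h))
  · intro h K _ _ hK
    have hB : EGA4.IsNormalRing (k' ⊗[k] K) := Groth.Ega4b.isNormalRing_of_ringEquiv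
      (Algebra.TensorProduct.comm k K k').toRingEquiv
      (Groth.Ega4b.isNormalRing_tensor_separable k K k' (Groth.Ega4b.isNormalRing_of_isRegularRing K))
    exact Groth.Ega4b.isNormalRing_of_ringEquiv
      ((Algebra.TensorProduct.cancelBaseChange k k' k' A K).toRingEquiv.trans
        (Algebra.TensorProduct.comm k A K).toRingEquiv)
      (Groth.Ega4b.isNormalRing_tensor_of_isGeomNormal k' A (k' ⊗[k] K) h hB)

end Groth.Agent.S9411
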