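import Groth.Statements.S9414
import Groth.Agent.Calg4.SmoothRegularField

set_option autoImplicit false
universe u
open CAlg

namespace Groth.Agent.S9414

open TensorProduct in
/-- For an algebraically closed field k, a finite type k-algebra S and a maximal ideal m of S with
residue field κ = S/m, the κ-vector spaces κ ⊗_S Ω_{S/k} and m/m² have the same dimension. -/
theorem result (k : Type u) [Field k]
    [IsAlgClosed k] (S : Type u) [CommRing S] [Algebra k S] [Algebra.FiniteType k S]
    (m : Ideal S) [m.IsMaximal] :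
    Module.finrank (S ⧸ m) ((S ⧸ m) ⊗[S] Ω[S⁄k]) = Module.finrank (S ⧸ m) m.Cotangent := by
  let _ : Field (S ⧸ m) := Ideal.Quotient.field m
  have : Module.Finite k (S ⧸ m) := finite_of_finite_type_of_isJacobsonRing k (S ⧸ m)
  have hbij : Function.Bijective (algebraMap k (S ⧸ m)) :=
    IsAlgClosed.algebraMap_bijective_of_isIntegral
  have : Algebra.Etale k (S ⧸ m) := Algebra.Etale.of_equiv
    (AlgEquiv.ofBijective (Algebra.ofId k (S ⧸ m)) hbij)
  have hs : Function.Surjective (algebraMap S (S ⧸ m)) := Ideal.Quotient.mk_surjective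
  have hk : RingHom.ker (algebraMap S (S ⧸ m)) = m := Ideal.mk_ker
  let f := KaehlerDifferential.kerCotangentToTensor k S (S ⧸ m)
  have hinj : Function.Injective f :=
    Groth.Calg4.injective_kerCotangentToTensor_of_formallySmooth k S (S ⧸ m) hs
  have hsurjf : Function.Surjective f := fun z => by
    refine ((KaehlerDifferential.exact_kerCotangentToTensor_mapBaseChange k S (S ⧸ m) hs) z).mp ?_
    exact Subsingleton.elim _ _
  let e := Ideal.mapCotangent m (RingHom.ker (algebraMap S (S ⧸ m))) (AlgHom.id S S) hk.ge
  have he : Function.Bijective e := by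
    let e' := Ideal.mapCotangent (RingHom.ker (algebraMap S (S ⧸ m))) m (AlgHom.id S S) hk.le
    refine Function.bijective_iff_has_inverse.mpr ⟨e', fun z => ?_, fun z => ?_⟩ <;>
    · obtain ⟨z, rfl⟩ := Ideal.toCotangent_surjective _ z
      rfl
  let g : m.Cotangent →ₗ[S] (S ⧸ m) ⊗[S] Ω[S⁄k] := f.comp e
  let g' := g.extendScalarsOfSurjective Ideal.Quotient.mk_surjective (S := S ⧸ m)
  exact (LinearEquiv.ofBijective g' (show Function.Bijective g from
    (Function.Bijective.comp (g := f) ⟨hinj, hsurjf⟩ he))).finrank_eq.symm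

end Groth.Agent.S9414
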