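import Groth.Statements.S9415
import Mathlib
import Groth.Agent.Ega41Sep.Separable

set_option autoImplicit false
universe u
open CAlg

namespace Groth.Agent.S9415

/-- Let R be a Noetherian local algebra over a field k whose residue field κ is a finitely generated,
separable (that is, geometrically reduced) field extension of k. Then the map from m/m² (m the
maximal ideal, realised as the kernel of R → κ) to κ ⊗_R Ω_{R/k} sending the class of x to 1 ⊗ dx is
injective. -/
theorem result (k : Type u) [Field k] (R : Type u)
    [CommRing R] [IsLocalRing R] [IsNoetherianRing R] [Algebra k R]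
    [Algebra.EssFiniteType k (IsLocalRing.ResidueField R)]
    [Algebra.IsGeometricallyReduced k (IsLocalRing.ResidueField R)] :
    Function.Injective
      (KaehlerDifferential.kerCotangentToTensor k R (IsLocalRing.ResidueField R)) := by
  classical
  have : Algebra.FormallySmooth k (IsLocalRing.ResidueField R) :=
    (Groth.Ega41Sep.formallySmooth_iff_isGeometricallyReduced k _).mpr inferInstance
  let K := IsLocalRing.ResidueField R
  have hf : Function.Surjective (algebraMap R K) := IsLocalRing.residue_surjective
  let g : R ⧸ RingHom.ker (algebraMap R K) ^ 2 →ₐ[k] K :=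
    (IsScalarTower.toAlgHom k R K).kerSquareLift
  have hg : Function.Surjective g := fun y => by
    obtain ⟨r, rfl⟩ := hf y
    exact ⟨Ideal.Quotient.mk _ r, rfl⟩
  have hnil : IsNilpotent (RingHom.ker (g : (R ⧸ RingHom.ker (algebraMap R K) ^ 2) →+* K)) := by
    refine ⟨2, ?_⟩
    have h : RingHom.ker (g : (R ⧸ RingHom.ker (algebraMap R K) ^ 2) →+* K)
        = (RingHom.ker (algebraMap R K)).cotangentIdeal :=
      AlgHom.ker_kerSquareLift (IsScalarTower.toAlgHom k R K)
    rw [h, Ideal.cotangentIdeal_square]
    rfl
  obtain ⟨l, hl⟩ := (retractionKerCotangentToTensorEquivSection hf).symm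
    ⟨Algebra.FormallySmooth.liftOfSurjective (AlgHom.id k K) g hg hnil,
      Algebra.FormallySmooth.comp_liftOfSurjective _ g hg hnil⟩
  exact Function.LeftInverse.injective (g := l) fun x => LinearMap.congr_fun hl x

end Groth.Agent.S9415
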