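import Groth.Statements.S9416
import Mathlib

set_option autoImplicit false
universe u
open CAlg

namespace Groth.Agent.S9416


open Polynomial in
theorem bound {R K : Type u} [CommRing R] [IsDomain R] [IsIntegrallyClosed R] [Field K] [Algebra R K]
    [IsFractionRing R K] (p : ℕ) [hp : Fact p.Prime] [CharP K p] (D : Derivation ℤ K K)
    (hD : ∀ r : R, ∃ s : R, D (algebraMap R K r) = algebraMap R K s) (a : K)
    (hc : a ∈ (algebraMap R K).range) (α : ℕ → K)
    (h0 : ∑ i ∈ Finset.range p, α i ^ p * a ^ i ∈ (algebraMap R K).range) (i : ℕ) (hi : i < p) :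
    D a ^ 2 * α i ∈ (algebraMap R K).range := by
  set R' := (algebraMap R K).range
  set c := D a
  have hDR : ∀ z ∈ R', D z ∈ R' := by
    rintro _ ⟨r, rfl⟩
    obtain ⟨s, hs⟩ := hD r
    exact ⟨s, hs.symm⟩
  have hcR : c ∈ R' := hDR a hc
  have hDp : ∀ z : K, D (z ^ p) = 0 := fun z => by
    rw [Derivation.leibniz_pow, ← Nat.cast_smul_eq_nsmul K, CharP.cast_eq_zero K p, zero_smul]
  let f : ℕ → K := fun j => ∑ l ∈ Finset.range p, (l.descFactorial j : K) * α l ^ p * a ^ (l - j)
  have hDf : ∀ j, D (f j) = f (j + 1) * c := by
    intro j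
    simp only [f, map_sum, Finset.sum_mul]
    refine Finset.sum_congr rfl fun l _ => ?_
    rw [Derivation.leibniz, Derivation.leibniz, Derivation.map_natCast, hDp, smul_zero, smul_zero,
      add_zero, smul_zero, add_zero, Derivation.leibniz_pow, Nat.descFactorial_succ, Nat.cast_mul,
      Nat.sub_add_eq, nsmul_eq_mul]
    simp only [smul_eq_mul, c]
    ring
  have hf : ∀ j, c ^ (2 * j) * f j ∈ R' := by
    intro j
    induction j with
    | zero => simpa [f] using h0
    | succ j ih =>
      have h1 := hDR _ ih
      rw [Derivation.leibniz, hDf, Derivation.leibniz_pow, nsmul_eq_mul] at h1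
      simp only [smul_eq_mul] at h1
      have h2 : c ^ (2 * (j + 1)) * f (j + 1) = c * (c ^ (2 * j) * (f (j + 1) * c) +
          f j * ((2 * j : ℕ) * (c ^ (2 * j - 1) * D c))) - (2 * j : ℕ) * D c * (c ^ (2 * j) * f j) := by
        rcases j with _ | j
        · simp; ring
        · rw [show 2 * (j + 1) - 1 = 2 * j + 1 by omega]
          push_cast
          ring
      rw [h2]
      exact sub_mem (mul_mem hcR h1) (mul_mem (mul_mem (natCast_mem _ _) (hDR _ hcR)) ih)
  have key : ∀ d l, l < p → p - l ≤ d → c ^ (2 * p) * α l ^ p ∈ R' := by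
    intro d
    induction d with
    | zero => intro l hl h; omega
    | succ d ih =>
      intro l hl _
      have h1 : c ^ (2 * p) * f l ∈ R' := by
        rw [show 2 * p = (2 * p - 2 * l) + 2 * l by omega, pow_add, mul_assoc]
        exact mul_mem (pow_mem hcR _) (hf l)
      rw [show c ^ (2 * p) * f l = (l.factorial : K) * (c ^ (2 * p) * α l ^ p) +
          ∑ m ∈ (Finset.range p).erase l,
            (m.descFactorial l : K) * (c ^ (2 * p) * α m ^ p) * a ^ (m - l) by
        simp only [f]
        rw [← Finset.add_sum_erase _ _ (Finset.mem_range.mpr hl), Nat.descFactorial_self,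
          Nat.sub_self, mul_add, Finset.mul_sum]
        congr 1
        · ring
        · exact Finset.sum_congr rfl fun m _ => by ring] at h1
      have h2 : (l.factorial : K) * (c ^ (2 * p) * α l ^ p) ∈ R' := by
        refine ((R'.add_mem_cancel_right) ?_).mp h1
        refine Subring.sum_mem _ fun m hm => ?_
        obtain ⟨hne, hm⟩ := Finset.mem_erase.mp hm
        rcases lt_or_gt_of_ne hne with hlt | hgt
        · rw [Nat.descFactorial_eq_zero_iff_lt.mpr hlt]
          simp
        · exact mul_mem (mul_mem (natCast_mem _ _) (ih m (Finset.mem_range.mp hm) (by omega)))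
            (pow_mem hc _)
      have hcop : (l.factorial).Coprime p := Nat.coprime_comm.mp
        (hp.out.coprime_iff_not_dvd.mpr fun h => absurd (hp.out.dvd_factorial.mp h) (by omega))
      obtain ⟨u, v, huv⟩ := (Nat.isCoprime_iff_coprime.mpr hcop : IsCoprime (l.factorial : ℤ) (p : ℤ))
      have huv' : (u : K) * (l.factorial : K) = 1 := by
        have := congrArg (fun z : ℤ => (z : K)) huv
        simpa [CharP.cast_eq_zero K p] using this
      rw [← one_mul (c ^ (2 * p) * α l ^ p), ← huv', mul_assoc]
      exact mul_mem (intCast_mem _ _) h2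
  obtain ⟨r, hr⟩ := key p i hi (by omega)
  refine IsIntegrallyClosed.algebraMap_eq_of_integral (R := R) ?_
  refine IsIntegral.of_pow hp.out.pos ?_
  rw [mul_pow, ← pow_mul, ← hr]
  exact isIntegral_algebraMap

/-- Suppose R is a normal Noetherian domain whose field of fractions K has prime characteristic p > 0, D
a derivation of K preserving R, and a ∈ K with D(a) ≠ 0. For a field L generated over K by an
element x with x^p = a, the integral closure of R in L is module-finite over R. -/
theorem result (R : Type u) [CommRing R]
    [IsDomain R] [IsNoetherianRing R] [IsIntegrallyClosed R] (K : Type u) [Field K] [Algebra R K]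
    [IsFractionRing R K] (p : ℕ) [Fact p.Prime] [CharP K p] (D : Derivation ℤ K K)
    (hD : ∀ r : R, ∃ s : R, D (algebraMap R K r) = algebraMap R K s) (a : K) (ha : D a ≠ 0)
    (L : Type u) [Field L] [Algebra K L] [Algebra R L] [IsScalarTower R K L] (x : L)
    (hx : x ^ p = algebraMap K L a) (hgen : IntermediateField.adjoin K {x} = ⊤) :
    Module.Finite R (integralClosure R L) := by
  classical
  have hp := (Fact.out : p.Prime)
  have : CharP L p := charP_of_injective_algebraMap (algebraMap K L).injective p
  obtain ⟨b, s, hs, hbs⟩ := IsFractionRing.div_surjective (A := R) a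
  have hs0 : algebraMap R K s ≠ 0 := IsFractionRing.to_map_ne_zero_of_mem_nonZeroDivisors hs
  let a' : K := a * algebraMap R K s ^ p
  have ha' : a' ∈ (algebraMap R K).range := ⟨b * s ^ (p - 1), by
    simp only [a', map_mul, map_pow, ← hbs]
    rw [← mul_pow_sub_one hp.ne_zero (algebraMap R K s), ← mul_assoc, div_mul_cancel₀ _ hs0]⟩
  have hDa' : D a' ≠ 0 := by
    simp only [a', Derivation.leibniz, Derivation.leibniz_pow, nsmul_eq_mul,
      CharP.cast_eq_zero K p, zero_mul, smul_eq_mul, mul_zero, zero_add]
    exact mul_ne_zero (pow_ne_zero _ hs0) ha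
  let x' : L := x * algebraMap R L s
  have hx' : x' ^ p = algebraMap K L a' := by
    simp only [x', a', mul_pow, map_mul, map_pow, hx, ← IsScalarTower.algebraMap_apply]
  have hsL : algebraMap R L s ≠ 0 := by
    rw [IsScalarTower.algebraMap_apply R K L]
    exact fun h => hs0 ((algebraMap K L).injective (h.trans (map_zero _).symm))
  have hgen' : IntermediateField.adjoin K {x'} = ⊤ := by
    rw [eq_top_iff, ← hgen, IntermediateField.adjoin_simple_le_iff]
    have h1 := IntermediateField.mem_adjoin_simple_self K x'
    have h2 := IntermediateField.smul_mem _ h1 (x := (algebraMap R K s)⁻¹)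
    rwa [Algebra.smul_def, map_inv₀, ← IsScalarTower.algebraMap_apply,
      show (algebraMap R L s)⁻¹ * x' = x from by simp only [x']; field_simp] at h2
  have hint : IsIntegral K x' := IsIntegral.of_pow hp.pos (hx' ▸ isIntegral_algebraMap)
  let c := D a'
  let g : Fin p → L := fun i => (algebraMap K L (c ^ 2))⁻¹ * x' ^ (i : ℕ)
  let M := Submodule.span R (Set.range g)
  have : Module.Finite R M := Module.Finite.span_of_finite R (Set.finite_range g)
  have : IsNoetherian R M := isNoetherian_of_isNoetherianRing_of_finite R M
  have hle : Subalgebra.toSubmodule (integralClosure R L) ≤ M := by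
    intro y hy
    obtain ⟨q, hq⟩ : ∃ q : Polynomial K, Polynomial.aeval x' q = y := by
      have hmem : y ∈ (IntermediateField.adjoin K {x'}).toSubalgebra := by rw [hgen']; trivial
      rw [IntermediateField.adjoin_simple_toSubalgebra_of_isAlgebraic hint.isAlgebraic,
        Algebra.adjoin_singleton_eq_range_aeval] at hmem
      exact hmem
    let m : Polynomial K := Polynomial.X ^ p - Polynomial.C a'
    have hm : m.Monic := Polynomial.monic_X_pow_sub_C a' hp.ne_zero
    have hq' : Polynomial.aeval x' (q %ₘ m) = y := by
      rw [Polynomial.modByMonic_eq_sub_mul_div, map_sub, map_mul, hq]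
      simp [m, hx']
    have hdeg : (q %ₘ m).natDegree < p := by
      have := Polynomial.natDegree_modByMonic_lt q hm (fun h => hp.ne_zero (by
        simpa [m] using (congrArg Polynomial.natDegree h)))
      simpa [m] using this
    let α : ℕ → K := (q %ₘ m).coeff
    have hy' : y = ∑ i ∈ Finset.range p, algebraMap K L (α i) * x' ^ i := by
      rw [← hq', Polynomial.aeval_eq_sum_range' hdeg]
      simp [Algebra.smul_def, α]
    have h0 : ∑ i ∈ Finset.range p, α i ^ p * a' ^ i ∈ (algebraMap R K).range := by
      refine IsIntegrallyClosed.algebraMap_eq_of_integral (R := R) ?_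
      have : IsIntegral R (algebraMap K L (∑ i ∈ Finset.range p, α i ^ p * a' ^ i)) := by
        have e : algebraMap K L (∑ i ∈ Finset.range p, α i ^ p * a' ^ i) = y ^ p := by
          rw [hy', sum_pow_char, map_sum]
          refine Finset.sum_congr rfl fun i _ => ?_
          rw [map_mul, map_pow, map_pow, mul_pow, ← pow_mul, mul_comm i p, pow_mul, hx']
        rw [e]
        exact IsIntegral.pow hy p
      exact (isIntegral_algHom_iff (IsScalarTower.toAlgHom R K L) (algebraMap K L).injective).mp this
    rw [hy']
    refine Submodule.sum_mem _ fun i hi => ?_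
    obtain ⟨r, hr⟩ := bound p D hD a' ha' α h0 i (Finset.mem_range.mp hi)
    have : algebraMap K L (α i) * x' ^ i = r • g ⟨i, Finset.mem_range.mp hi⟩ := by
      rw [Algebra.smul_def, IsScalarTower.algebraMap_apply R K L, hr, map_mul]
      simp only [g]
      have : algebraMap K L (c ^ 2) ≠ 0 := by simpa [c] using hDa'
      field_simp
      rfl
    rw [this]
    exact Submodule.smul_mem _ _ (Submodule.subset_span ⟨_, rfl⟩)
  exact Module.Finite.of_injective (Submodule.inclusion hle) (Submodule.inclusion_injective hle)

end Groth.Agent.S9416
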