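import Groth.Statements.S9425
import Mathlib

set_option autoImplicit false
universe u
open CAlg

namespace Groth.Agent.S9425

/-- A directed colimit of formally étale R-algebras is formally étale over R. The colimit is encoded by
compatible R-algebra maps S_i → S which are jointly surjective and whose kernels die further along
the system. -/
theorem result {ι : Type u} [Preorder ι] [IsDirected ι (· ≤ ·)] [Nonempty ι]
    (R : Type u) [CommRing R] (G : ι → Type u) [∀ i, CommRing (G i)] [∀ i, Algebra R (G i)]
    (f : ∀ i j, i ≤ j → (G i →ₐ[R] G j)) (S : Type u) [CommRing S] [Algebra R S]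
    (g : ∀ i, G i →ₐ[R] S) (hg : ∀ i j (h : i ≤ j), (g j).comp (f i j h) = g i)
    (hsurj : ∀ s : S, ∃ i, ∃ x : G i, g i x = s)
    (hker : ∀ i (x : G i), g i x = 0 → ∃ j, ∃ h : i ≤ j, f i j h x = 0)
    (h : ∀ i, Algebra.FormallyEtale R (G i)) : Algebra.FormallyEtale R S := by
  refine Algebra.FormallyEtale.iff_comp_bijective.mpr fun P _ _ I hI => ?_
  have huniq : ∀ i (a b : G i →ₐ[R] P),
      (Ideal.Quotient.mkₐ R I).comp a = (Ideal.Quotient.mkₐ R I).comp b → a = b :=
    fun i a b he => (Algebra.FormallyEtale.iff_comp_bijective.mp (h i) I hI).injective he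
  constructor
  · intro a b hab
    ext s
    obtain ⟨i, x, rfl⟩ := hsurj s
    exact AlgHom.congr_fun (huniq i (a.comp (g i)) (b.comp (g i))
      (by rw [← AlgHom.comp_assoc, ← AlgHom.comp_assoc]; exact congrArg (fun φ : S →ₐ[R] P ⧸ I => φ.comp (g i)) hab)) x
  · intro ψ
    choose χ hχ using fun i =>
      (Algebra.FormallyEtale.iff_comp_bijective.mp (h i) I hI).surjective (ψ.comp (g i))
    have hcompat : ∀ i j (hij : i ≤ j) (x : G i), χ j (f i j hij x) = χ i x := by
      intro i j hij x
      have hc := huniq i ((χ j).comp (f i j hij)) (χ i) (by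
        have h1 : (Ideal.Quotient.mkₐ R I).comp (χ j) = ψ.comp (g j) := hχ j
        have h2 : (Ideal.Quotient.mkₐ R I).comp (χ i) = ψ.comp (g i) := hχ i
        rw [← AlgHom.comp_assoc, h1, h2, AlgHom.comp_assoc, hg i j hij])
      exact AlgHom.congr_fun hc x
    have hwd : ∀ i j (x : G i) (y : G j), g i x = g j y → χ i x = χ j y := by
      intro i j x y hxy
      obtain ⟨k, hik, hjk⟩ := exists_ge_ge i j
      obtain ⟨l, hkl, hl⟩ := hker k (f i k hik x - f j k hjk y) (by
        rw [map_sub, ← AlgHom.comp_apply, ← AlgHom.comp_apply, hg, hg, hxy, sub_self])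
      rw [← hcompat i k hik x, ← hcompat j k hjk y, ← hcompat k l hkl (f i k hik x),
        ← hcompat k l hkl (f j k hjk y)]
      rw [map_sub, sub_eq_zero] at hl
      rw [hl]
    choose idx el hel using hsurj
    have hev : ∀ i (x : G i) s, g i x = s → χ (idx s) (el s) = χ i x := fun i x s hs =>
      hwd _ _ _ _ (by rw [hel, hs])
    let F : S →ₐ[R] P :=
      { toFun := fun s => χ (idx s) (el s)
        map_one' := (hev (idx 0) 1 1 (map_one _)).trans (map_one _)
        map_zero' := (hev (idx 0) 0 0 (map_zero _)).trans (map_zero _)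
        map_mul' := fun a b => by
          obtain ⟨k, hik, hjk⟩ := exists_ge_ge (idx a) (idx b)
          rw [hev k (f _ k hik (el a) * f _ k hjk (el b)) (a * b) (by
            rw [map_mul, ← AlgHom.comp_apply, ← AlgHom.comp_apply, hg, hg, hel, hel]),
            map_mul, hcompat, hcompat]
        map_add' := fun a b => by
          obtain ⟨k, hik, hjk⟩ := exists_ge_ge (idx a) (idx b)
          rw [hev k (f _ k hik (el a) + f _ k hjk (el b)) (a + b) (by
            rw [map_add, ← AlgHom.comp_apply, ← AlgHom.comp_apply, hg, hg, hel, hel]),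
            map_add, hcompat, hcompat]
        commutes' := fun r =>
          (hev (idx 0) (algebraMap R _ r) _ (AlgHom.commutes _ _)).trans (AlgHom.commutes _ _) }
    refine ⟨F, AlgHom.ext fun s => ?_⟩
    have := AlgHom.congr_fun (hχ (idx s)) (el s)
    rw [AlgHom.comp_apply, AlgHom.comp_apply, hel] at this
    exact this

end Groth.Agent.S9425
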