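import Groth.Statements.S9426
import Groth.Agent.OmegaSheaf.UnivThickRing

set_option autoImplicit false
universe u
open OmegaSh

namespace Groth.Agent.S9426

/-- A formally unramified R-algebra S admits a universal first order thickening: an R-algebra surjection
S' → S with square-zero kernel through which every R-algebra map from S into a square-zero quotient
A/I lifts uniquely to A. -/
theorem result (R : Type u) [CommRing R]
    (S : Type u) [CommRing S] [Algebra R S] [Algebra.FormallyUnramified R S] :
    ∃ (S' : Type u) (_ : CommRing S') (_ : Algebra R S') (π : S' →ₐ[R] S),
      OmegaSh.IsUnivThickeningRing R S S' π := by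
  exact Groth.OmegaSheaf.exists_univThickeningRing R S

end Groth.Agent.S9426
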