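import Groth.Statements.S9427
import Groth.Agent.OmegaSheaf.UnivThick.Unramified

set_option autoImplicit false
universe u
open OmegaSh

namespace Groth.Agent.S9427

/-- Let R → A → B be ring maps with A → B formally unramified, and let B' → B be a universal first order
thickening of B relative to A (B a B'-algebra through it). Then A → B' is formally unramified, and
base changing to B the natural B'-linear map B' ⊗_A Ω_{A/R} → Ω_{B'/R} gives a bijection B ⊗_{B'}
(B' ⊗_A Ω_{A/R}) → B ⊗_{B'} Ω_{B'/R}. -/
theorem result
    (R : Type u) [CommRing R] (A : Type u) [CommRing A] [Algebra R A] (B : Type u) [CommRing B]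
    [Algebra A B] [Algebra.FormallyUnramified A B] (B' : Type u) [CommRing B'] [Algebra A B']
    [Algebra R B'] [IsScalarTower R A B'] [Algebra B' B] [IsScalarTower A B' B]
    (h : OmegaSh.IsUnivThickeningRing A B B' (IsScalarTower.toAlgHom A B' B)) :
    Algebra.FormallyUnramified A B' ∧
      Function.Bijective ((KaehlerDifferential.mapBaseChange R A B').baseChange B) := by
  exact ⟨Groth.OmegaSheaf.UnivThick.formallyUnramified_of_ring h,
    Groth.OmegaSheaf.UnivThick.mapBaseChange_baseChange_bijective R A B B' h⟩

end Groth.Agent.S9427
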