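import Groth.Statements.S9430
import Groth.Agent.Syntomic.CIField

set_option autoImplicit false
universe u
open Synt

namespace Groth.Agent.S9430

/-- For a field extension K/k, every finite subset of K lies in a k-subalgebra of K which is a global
complete intersection over k; so K is the directed union of its k-subalgebras that are global
complete intersections over k. -/
theorem result (k : Type u) [Field k] (K : Type u)
    [Field K] [Algebra k K] (E : Finset K) :
    ∃ A : Subalgebra k K, (↑E : Set K) ⊆ (A : Set K) ∧ Synt.IsGlobalCI k A := by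
  classical
  let B := Algebra.adjoin k (↑E : Set K)
  haveI : Algebra.FiniteType k B := Algebra.FiniteType.adjoin_of_finite E.finite_toSet
  haveI : (⊥ : Ideal B).IsPrime := Ideal.isPrime_bot
  haveI : IsNoetherianRing B := Algebra.FiniteType.isNoetherianRing k B
  letI : IsFractionRing B (Localization.AtPrime (⊥ : Ideal B)) := by
    have : (⊥ : Ideal B).primeCompl = nonZeroDivisors B :=
      Submonoid.ext fun x => mem_nonZeroDivisors_iff_ne_zero.symm
    show IsLocalization (nonZeroDivisors B) _
    rw [← this]
    infer_instance
  haveI : IsRegularLocalRing (Localization.AtPrime (⊥ : Ideal B)) := by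
    letI : Field (Localization.AtPrime (⊥ : Ideal B)) := IsFractionRing.toField B
    infer_instance
  obtain ⟨g, hg, hG⟩ := (Groth.Syntomic.exists_isGlobalCI_nhd_iff (k := k) (⊥ : Ideal B)).2
    Groth.CI.isCompleteIntersection_of_isRegularLocalRing
  have hg0 : (g : K) ≠ 0 := fun h => hg (Ideal.mem_bot.2 (Subtype.ext h))
  let l : Localization.Away g →ₐ[k] K :=
    IsLocalization.Away.liftAlgHom g (f := B.val) (isUnit_iff_ne_zero.2 hg0)
  have hl : ∀ b : B, l (algebraMap B _ b) = b := fun b =>
    IsLocalization.Away.lift_eq g (isUnit_iff_ne_zero.2 hg0) b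
  have hinj : Function.Injective l := by
    rw [injective_iff_map_eq_zero]
    intro z hz
    obtain ⟨b, s, rfl⟩ := IsLocalization.exists_mk'_eq (Submonoid.powers g) z
    have h1 := congrArg l (IsLocalization.mk'_spec (Localization.Away g) b s)
    rw [map_mul, hz, zero_mul, hl] at h1
    have hb : b = 0 := Subtype.ext h1.symm
    rw [hb, IsLocalization.mk'_zero]
  refine ⟨l.range, fun x hx => ?_, Groth.Calg5.RelGCI.isGlobalCI_of_algEquiv
    (AlgEquiv.ofInjective l hinj) hG⟩
  exact ⟨algebraMap B _ ⟨x, Algebra.subset_adjoin hx⟩, hl _⟩

end Groth.Agent.S9430
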