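import Groth.Statements.S9431
import Mathlib
import Groth.Agent.Ega41Sep.Separable

set_option autoImplicit false
universe u
open CAlg

namespace Groth.Agent.S9431

/-- For a separable (geometrically reduced) field extension K/k, every finite subset of K lies in a
k-subalgebra of K which is smooth over k; in particular K is a filtered colimit of smooth
k-algebras. -/
theorem result (k : Type u) [Field k]
    (K : Type u) [Field K] [Algebra k K] [Algebra.IsGeometricallyReduced k K] (E : Finset K) :
    ∃ A : Subalgebra k K, (↑E : Set K) ⊆ (A : Set K) ∧ Algebra.Smooth k A := by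
  classical
  let A0 := Algebra.adjoin k (↑E : Set K)
  let F := FractionRing A0
  let j : F →ₐ[k] K := IsFractionRing.liftAlgHom (g := A0.val) Subtype.val_injective
  have : Algebra.IsGeometricallyReduced k F :=
    Algebra.IsGeometricallyReduced.of_injective j j.toRingHom.injective
  have : Algebra.FormallySmooth k F :=
    (Groth.Ega41Sep.formallySmooth_iff_isGeometricallyReduced k F).mpr inferInstance
  have : Algebra.FiniteType k A0 := (Subalgebra.fg_iff_finiteType _).mp (Subalgebra.fg_adjoin_finset E)
  have : Algebra.FinitePresentation k A0 := Algebra.FinitePresentation.of_finiteType.mp inferInstance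
  have hp : (⊥ : Ideal A0).IsPrime := Ideal.isPrime_bot
  have : IsLocalization (nonZeroDivisors A0) (Localization.AtPrime (⊥ : Ideal A0)) := by
    have e : (⊥ : Ideal A0).primeCompl = nonZeroDivisors A0 := by
      ext x; exact ⟨fun hx => mem_nonZeroDivisors_of_ne_zero hx, fun hx => nonZeroDivisors.ne_zero hx⟩
    rw [← e]; infer_instance
  have : Algebra.IsSmoothAt k (⊥ : Ideal A0) :=
    Algebra.FormallySmooth.of_equiv ((IsLocalization.algEquiv (nonZeroDivisors A0) F
      (Localization.AtPrime (⊥ : Ideal A0))).restrictScalars k)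
  obtain ⟨g, hg, hsm⟩ := Algebra.IsSmoothAt.exists_notMem_smooth (R := k) (⊥ : Ideal A0)
  have hg0 : g ≠ 0 := hg
  let φ : Localization.Away g →ₐ[k] K := IsLocalization.Away.liftAlgHom g (f := A0.val)
    (isUnit_iff_ne_zero.mpr fun h => hg0 (Subtype.val_injective h))
  have hφ : ∀ a : A0, φ (algebraMap A0 _ a) = (a : K) := fun a => IsLocalization.lift_eq _ a
  have hinj : Function.Injective φ := by
    rw [injective_iff_map_eq_zero]
    intro z hz
    obtain ⟨a, ⟨s, hs⟩, rfl⟩ := IsLocalization.exists_mk'_eq (Submonoid.powers g) z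
    have h1 := congrArg φ (IsLocalization.mk'_spec (Localization.Away g) a (⟨s, hs⟩ : Submonoid.powers g))
    rw [map_mul, hz, zero_mul, hφ] at h1
    rw [show a = 0 from Subtype.val_injective h1.symm, IsLocalization.mk'_zero]
  refine ⟨φ.range, fun x hx => ⟨algebraMap A0 _ ⟨x, Algebra.subset_adjoin hx⟩, hφ _⟩, ?_⟩
  exact @Algebra.Smooth.of_equiv _ _ _ _ _ _ _ _ hsm (AlgEquiv.ofInjective φ hinj)

end Groth.Agent.S9431
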