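import Groth.Statements.S9433
import Mathlib

set_option autoImplicit false
universe u
open CAlg

namespace Groth.Agent.S9433

/-- Let R → S be a local homomorphism of local rings with S the localization of an étale R-algebra at a
prime, inducing an isomorphism of residue fields. Then for some t in the maximal ideal of R the maps
R/t^nR → S/t^nS are bijective for all n ≥ 1. -/
theorem result (R : Type u) [CommRing R] [IsLocalRing R] (T : Type u) [CommRing T] [Algebra R T]
    [Algebra.Etale R T] (q : Ideal T) [q.IsPrime] (S : Type u) [CommRing S] [IsLocalRing S]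
    [Algebra T S] [IsLocalization.AtPrime S q] [Algebra R S] [IsScalarTower R T S]
    [IsLocalHom (algebraMap R S)]
    (hres : Function.Bijective (IsLocalRing.ResidueField.map (algebraMap R S))) :
    ∃ t ∈ IsLocalRing.maximalIdeal R, ∀ n : ℕ, 1 ≤ n →
      Function.Bijective (Ideal.quotientMap ((Ideal.span {t ^ n}).map (algebraMap R S))
        (algebraMap R S) Ideal.le_comap_map) := by
  classical
  obtain ⟨f, hfq, hstd⟩ := Algebra.IsEtaleAt.exists_isStandardEtale (R := R) q
  obtain ⟨P⟩ := hstd.nonempty_standardEtalePresentation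
  let T' := Localization.Away f
  let u : T' →ₐ[R] S := IsLocalization.Away.liftAlgHom f (f := IsScalarTower.toAlgHom R T S)
    (IsLocalization.map_units S (⟨f, hfq⟩ : q.primeCompl))
  have hu : ∀ z : T, u (algebraMap T T' z) = algebraMap T S z := fun z =>
    IsLocalization.lift_eq _ z
  let res : S →ₐ[R] IsLocalRing.ResidueField S := IsScalarTower.toAlgHom R S _
  obtain ⟨a, ha⟩ : ∃ a : R, res (u P.x) = algebraMap R (IsLocalRing.ResidueField S) a := by
    obtain ⟨b, hb⟩ := hres.2 (res (u P.x))
    obtain ⟨a, rfl⟩ := IsLocalRing.residue_surjective b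
    exact ⟨a, hb.symm⟩
  have hev : ∀ h : Polynomial R, algebraMap R (IsLocalRing.ResidueField S) (h.eval a)
      = res (Polynomial.aeval (u P.x) h) := fun h => by
    rw [← Polynomial.aeval_algHom_apply, ha, Polynomial.aeval_algebraMap_apply,
      Polynomial.coe_aeval_eq_eval]
  have hmem : ∀ r : R, r ∈ IsLocalRing.maximalIdeal R ↔
      algebraMap R (IsLocalRing.ResidueField S) r = 0 := by
    intro r
    rw [IsScalarTower.algebraMap_apply R S, IsLocalRing.ResidueField.algebraMap_eq,
      IsLocalRing.residue_eq_zero_iff]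
    simp
  let t : R := P.f.eval a
  have ht : t ∈ IsLocalRing.maximalIdeal R := by
    rw [hmem, hev, Polynomial.aeval_algHom_apply, P.hasMap.1, map_zero, map_zero]
  refine ⟨t, ht, ?_⟩
  have hunitR : ∀ r : R, algebraMap R (IsLocalRing.ResidueField S) r ≠ 0 → IsUnit r :=
    fun r hr => IsLocalRing.notMem_maximalIdeal.mp fun h => hr ((hmem r).mp h)
  -- `u x - a` lies in `t S`
  obtain ⟨h, hh⟩ : (Polynomial.X - Polynomial.C a) ∣ P.f - Polynomial.C t :=
    Polynomial.dvd_iff_isRoot.mpr (by simp [t])
  have hha : h.eval a = P.f.derivative.eval a := by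
    have := congr_arg (fun p => (Polynomial.derivative p).eval a) hh
    simpa [Polynomial.derivative_mul] using this.symm
  have hxa : u P.x - algebraMap R S a ∈ Ideal.span {algebraMap R S t} := by
    have h1 := congr_arg (Polynomial.aeval (u P.x)) hh
    simp only [map_sub, map_mul, Polynomial.aeval_X, Polynomial.aeval_C] at h1
    rw [Polynomial.aeval_algHom_apply u P.x P.f, P.hasMap.1, map_zero, zero_sub] at h1
    have h2 : IsUnit (Polynomial.aeval (u P.x) h) := by
      refine IsLocalRing.residue_ne_zero_iff_isUnit _ |>.mp fun hz => ?_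
      have h3 : res (Polynomial.aeval (u P.x) h) = 0 := hz
      rw [← hev, hha, hev, Polynomial.aeval_algHom_apply] at h3
      exact (P.hasMap.isUnit_derivative_f.map (res.comp u)).ne_zero h3
    refine (Ideal.mul_unit_mem_iff_mem _ h2).mp ?_
    rw [← h1]
    exact neg_mem (Ideal.mem_span_singleton_self _)
  let R1 := R ⧸ Ideal.span {t}
  have hmapa : P.P.HasMap (algebraMap R R1 a) := by
    refine ⟨?_, ?_⟩
    · rw [Polynomial.aeval_algebraMap_apply, Polynomial.coe_aeval_eq_eval]
      exact Ideal.Quotient.eq_zero_iff_mem.mpr (Ideal.mem_span_singleton_self _)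
    · rw [Polynomial.aeval_algebraMap_apply, Polynomial.coe_aeval_eq_eval]
      refine (hunitR _ ?_).map _
      rw [hev, Polynomial.aeval_algHom_apply]
      exact (P.hasMap.2.map (res.comp u)).ne_zero
  let τ : T' →ₐ[R] R1 :=
    (P.P.lift _ hmapa).comp P.equivRing.toAlgHom
  have hτ : τ P.x = algebraMap R R1 a := by simp [τ]
  let π : R1 →ₐ[R] IsLocalRing.ResidueField S :=
    Ideal.Quotient.liftₐ _ (Algebra.ofId R _) (fun r hr => by
      obtain ⟨c, rfl⟩ := Ideal.mem_span_singleton'.mp hr
      exact (hmem _).mp (Ideal.mul_mem_left _ c ht))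
  have hπτ : π.comp τ = res.comp u := P.hom_ext (by
    simp only [AlgHom.comp_apply, hτ, AlgHom.commutes, ha])
  let ι : R1 →ₐ[R] S ⧸ Ideal.span {algebraMap R S t} :=
    Ideal.Quotient.liftₐ _ (Algebra.ofId R _) (fun r hr => by
      obtain ⟨c, rfl⟩ := Ideal.mem_span_singleton'.mp hr
      change Ideal.Quotient.mk _ (algebraMap R S (c * t)) = 0
      rw [map_mul (algebraMap R S)]
      exact Ideal.Quotient.eq_zero_iff_mem.mpr (Ideal.mem_span_singleton'.mpr ⟨_, rfl⟩))
  have hιτ : ι.comp τ = (Ideal.Quotient.mkₐ R _).comp u := P.hom_ext (by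
    simp only [AlgHom.comp_apply, hτ, AlgHom.commutes]
    exact ((Ideal.Quotient.mk_eq_mk_iff_sub_mem _ _).mpr hxa).symm)
  let τ0 : T →ₐ[R] R1 := τ.comp (IsScalarTower.toAlgHom R T T')
  have hτu : ∀ w ∈ q.primeCompl, IsUnit (τ0 w) := by
    intro w hw
    obtain ⟨r, hr⟩ := Ideal.Quotient.mk_surjective (τ0 w)
    rw [← hr]
    refine (hunitR r ?_).map _
    have h1 : π (τ0 w) = res (algebraMap T S w) :=
      (AlgHom.congr_fun hπτ (algebraMap T T' w)).trans (congr_arg res (hu w))
    rw [show algebraMap R (IsLocalRing.ResidueField S) r = π (τ0 w) by rw [← hr]; rfl, h1]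
    exact ((IsLocalization.map_units S (⟨w, hw⟩ : q.primeCompl)).map res).ne_zero
  have hsurj1 : ∀ y : S, ∃ r : R, y - algebraMap R S r ∈ Ideal.span {algebraMap R S t} := by
    intro y
    obtain ⟨z, ⟨w, hw⟩, rfl⟩ := IsLocalization.exists_mk'_eq q.primeCompl y
    obtain ⟨v, hv⟩ := (hτu w hw).exists_left_inv
    obtain ⟨r, hr⟩ := Ideal.Quotient.mk_surjective (τ0 z * v)
    refine ⟨r, (Ideal.Quotient.mk_eq_mk_iff_sub_mem _ _).mp ?_⟩
    have e : ∀ z : T, ι (τ0 z) = Ideal.Quotient.mk _ (algebraMap T S z) := fun z =>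
      (AlgHom.congr_fun hιτ (algebraMap T T' z)).trans (congr_arg _ (hu z))
    have hre : Ideal.Quotient.mk (Ideal.span {algebraMap R S t}) (algebraMap R S r)
        = ι (τ0 z * v) := by rw [← hr]; rfl
    rw [hre, map_mul, e, ← IsLocalization.mk'_spec S z (⟨w, hw⟩ : q.primeCompl), map_mul,
      mul_assoc, ← e w, ← map_mul ι, mul_comm (τ0 w), hv, map_one, mul_one]
  intro n hn
  have hJ : (Ideal.span {t ^ n}).map (algebraMap R S) = Ideal.span {algebraMap R S t ^ n} := by
    rw [Ideal.map_span, Set.image_singleton, map_pow]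
  refine ⟨?_, ?_⟩
  · -- injective: lift `τ0` to `T → R/tⁿ`
    let Rn := R ⧸ Ideal.span {t ^ n}
    have hle : Ideal.span {t ^ n} ≤ Ideal.span {t} :=
      Ideal.span_singleton_le_span_singleton.mpr (dvd_pow_self t (by omega))
    let g : Rn →ₐ[R] R1 := Ideal.Quotient.factorₐ R hle
    have hg : Function.Surjective g := Ideal.Quotient.factor_surjective hle
    have hnil : IsNilpotent (RingHom.ker (g : Rn →+* R1)) := by
      refine ⟨n, ?_⟩
      have : RingHom.ker (g : Rn →+* R1) = (Ideal.span {t}).map (Ideal.Quotient.mk _) := by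
        exact Ideal.Quotient.factor_ker hle
      rw [this, ← Ideal.map_pow, Ideal.span_singleton_pow, Ideal.map_quotient_self]
      rfl
    let σ : T →ₐ[R] Rn := Algebra.FormallySmooth.liftOfSurjective τ0 g hg hnil
    have hσu : ∀ w : q.primeCompl, IsUnit (σ w) := by
      intro w
      obtain ⟨r, hr⟩ := Ideal.Quotient.mk_surjective (σ w)
      rw [← hr]
      refine (IsLocalRing.notMem_maximalIdeal.mp fun hm => ?_).map _
      have h1 : π (g (σ w)) = algebraMap R (IsLocalRing.ResidueField S) r := by
        rw [← hr]; rfl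
      rw [Algebra.FormallySmooth.liftOfSurjective_apply, (hmem r).mp hm] at h1
      exact ((hτu _ w.2).map π).ne_zero h1
    let σS : S →ₐ[R] Rn := IsLocalization.liftAlgHom (M := q.primeCompl) (f := σ) hσu
    rw [injective_iff_map_eq_zero]
    intro z hz
    obtain ⟨r, rfl⟩ := Ideal.Quotient.mk_surjective z
    rw [Ideal.quotientMap_mk, Ideal.Quotient.eq_zero_iff_mem, hJ,
      Ideal.mem_span_singleton'] at hz
    obtain ⟨c, hc⟩ := hz
    have := congr_arg σS hc
    rw [map_mul, ← map_pow, AlgHom.commutes, AlgHom.commutes,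
      show algebraMap R Rn (t ^ n) = 0 from
        Ideal.Quotient.eq_zero_iff_mem.mpr (Ideal.mem_span_singleton_self _), mul_zero] at this
    exact this.symm
  · -- surjective: successive approximation
    have key : ∀ k, ∀ y : S, ∃ r : R, y - algebraMap R S r ∈ Ideal.span {algebraMap R S t ^ k} := by
      intro k
      induction k with
      | zero => exact fun y => ⟨0, by simp [Ideal.span_singleton_one]⟩
      | succ k ih =>
        intro y
        obtain ⟨r, hr⟩ := ih y
        obtain ⟨c, hc⟩ := Ideal.mem_span_singleton'.mp hr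
        obtain ⟨r', hr'⟩ := hsurj1 c
        obtain ⟨c', hc'⟩ := Ideal.mem_span_singleton'.mp hr'
        refine ⟨r + r' * t ^ k, Ideal.mem_span_singleton'.mpr ⟨c', ?_⟩⟩
        rw [map_add, map_mul, map_pow]
        linear_combination (algebraMap R S t ^ k) * hc' + hc
    intro z
    obtain ⟨y, rfl⟩ := Ideal.Quotient.mk_surjective z
    obtain ⟨r, hr⟩ := key n y
    refine ⟨Ideal.Quotient.mk _ r, ?_⟩
    rw [Ideal.quotientMap_mk, eq_comm, Ideal.Quotient.mk_eq_mk_iff_sub_mem, hJ]
    exact hr

end Groth.Agent.S9433
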