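import Groth.Statements.S9434
import Groth.Agent.Calg5.SplitCover
import Mathlib

set_option autoImplicit false
universe u
open CAlg

namespace Groth.Agent.S9434

/-- Let R → S be a local homomorphism of local rings with S the localization of an étale R-algebra at a
prime. Then there is a finite, finitely presented, faithfully flat R-algebra S' such that for every
maximal ideal m' of S' the structure map R → S'_{m'} factors through some R-algebra map S → S'_{m'}. -/
theorem result (R : Type u) [CommRing R] [IsLocalRing R] (T : Type u) [CommRing T] [Algebra R T]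
    [Algebra.Etale R T] (q : Ideal T) [q.IsPrime] (S : Type u) [CommRing S] [IsLocalRing S]
    [Algebra T S] [IsLocalization.AtPrime S q] [Algebra R S] [IsScalarTower R T S]
    [IsLocalHom (algebraMap R S)] :
    ∃ (S' : Type u) (_ : CommRing S') (_ : Algebra R S'),
      Module.Finite R S' ∧ Algebra.FinitePresentation R S' ∧ Module.FaithfullyFlat R S' ∧
        ∀ (m' : Ideal S') [m'.IsMaximal], Nonempty (S →ₐ[R] Localization.AtPrime m') := by
  obtain ⟨t, htq, hst⟩ := Algebra.IsEtaleAt.exists_isStandardEtale (R := R) q
  obtain ⟨P⟩ := hst.nonempty_standardEtalePresentation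
  obtain ⟨S', _, _, hfin, hfree, hinj, s, hs⟩ :=
    Groth.Calg5.SplitCover.exists_split _ R P.f P.monic_f le_rfl
  have : Module.Finite R S' := hfin
  have : Module.Free R S' := hfree
  have : Algebra.FinitePresentation R S' := by
    have : Module.FinitePresentation R S' := Module.finitePresentation_of_projective R S'
    infer_instance
  have : Nontrivial S' := Function.Injective.nontrivial hinj
  have : Module.FaithfullyFlat R S' := inferInstance
  refine ⟨S', inferInstance, inferInstance, hfin, inferInstance, inferInstance, fun m' _ => ?_⟩
  let qf := q.map (algebraMap T (Localization.Away t))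
  have hdisj : Disjoint (Submonoid.powers t : Set T) (q : Set T) :=
    (Ideal.disjoint_powers_iff_notMem_of_isPrime _).mpr htq
  have : qf.IsPrime :=
    IsLocalization.isPrime_of_isPrime_disjoint (Submonoid.powers t) _ q inferInstance hdisj
  have hqf : qf.comap (algebraMap T (Localization.Away t)) = q :=
    IsLocalization.under_map_of_isPrime_disjoint (Submonoid.powers t) _ inferInstance hdisj
  have hqR : qf.under R = IsLocalRing.maximalIdeal R := by
    show qf.comap (algebraMap R (Localization.Away t)) = _
    rw [IsScalarTower.algebraMap_eq R T (Localization.Away t), ← Ideal.comap_comap, hqf,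
      ← (IsLocalization.AtPrime.under_maximalIdeal S q : (IsLocalRing.maximalIdeal S).under T = q)]
    show ((IsLocalRing.maximalIdeal S).comap (algebraMap T S)).comap (algebraMap R T) = _
    rw [Ideal.comap_comap, ← IsScalarTower.algebraMap_eq]
    exact ((IsLocalRing.local_hom_TFAE (algebraMap R S)).out 0 4 rfl rfl).mp inferInstance
  have hm' : m'.under R = IsLocalRing.maximalIdeal R := by
    have : (m'.under R).IsMaximal := Ideal.isMaximal_comap_of_isIntegral_of_isMaximal m'
    exact IsLocalRing.eq_maximalIdeal this
  obtain ⟨g', hg', φ, hφ⟩ :=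
    Groth.Calg5.SplitCover.exists_lift P s hs qf m' (hm'.trans hqR.symm)
  let j : Localization.Away g' →ₐ[R] Localization.AtPrime m' :=
    IsLocalization.liftAlgHom (M := Submonoid.powers g')
      (f := IsScalarTower.toAlgHom R S' (Localization.AtPrime m')) (by
        rintro ⟨_, n, rfl⟩
        simp only [map_pow]
        exact (IsLocalization.map_units (M := m'.primeCompl) (Localization.AtPrime m') ⟨g', hg'⟩).pow n)
  let a : T →ₐ[R] Localization.AtPrime m' :=
    (j.comp φ).comp (IsScalarTower.toAlgHom R T (Localization.Away t))
  have hunit : ∀ u : q.primeCompl, IsUnit (a u) := by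
    intro u
    obtain ⟨c, ⟨_, n, rfl⟩, hc⟩ := IsLocalization.exists_mk'_eq (Submonoid.powers g')
      (φ (algebraMap T (Localization.Away t) u))
    have hc' := IsLocalization.mk'_spec (Localization.Away g') c (⟨g' ^ n, n, rfl⟩ : Submonoid.powers g')
    rw [hc] at hc'
    have hcm : c ∉ m' := fun h => u.2 <| by
      suffices h0 : algebraMap T (Localization.Away t) u ∈ qf from hqf.le h0
      rw [← hφ, Ideal.mem_comap]
      have h1 : algebraMap S' (Localization.Away g') c ∈ m'.map (algebraMap S' _) :=
        Ideal.mem_map_of_mem _ h
      rw [← hc'] at h1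
      exact (Ideal.mul_unit_mem_iff_mem _ (IsLocalization.map_units (Localization.Away g')
        (⟨g' ^ n, n, rfl⟩ : Submonoid.powers g'))).mp h1
    have hj : ∀ z, j (algebraMap S' (Localization.Away g') z) = algebraMap S' _ z := fun z =>
      IsLocalization.lift_eq _ z
    have h2 := congrArg j hc'
    rw [map_mul, hj, hj] at h2
    exact isUnit_of_mul_isUnit_left
      (h2 ▸ IsLocalization.map_units (M := m'.primeCompl) (Localization.AtPrime m') ⟨c, hcm⟩)
  exact ⟨IsLocalization.liftAlgHom (M := q.primeCompl) (f := a) hunit⟩

end Groth.Agent.S9434
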