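import Groth.Statements.S9435
import Mathlib

set_option autoImplicit false
universe u
open CAlg

namespace Groth.Agent.S9435

/-- Given a prime p of a ring R and a finite separable extension L of κ(p), there is an étale R-algebra
R' with a prime p' over p whose residue field is κ(p)-isomorphic to L. Stated through an R-algebra
map ψ : R' → L whose image generates the field L: its kernel is such a prime p' and the induced
κ(p') → L is then an isomorphism over κ(p). -/
theorem result (R : Type u) [CommRing R]
    (p : Ideal R) [p.IsPrime] (L : Type u) [Field L] [Algebra p.ResidueField L] [Algebra R L]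
    [IsScalarTower R p.ResidueField L] [Module.Finite p.ResidueField L]
    [Algebra.IsSeparable p.ResidueField L] :
    ∃ (R' : Type u) (_ : CommRing R') (_ : Algebra R R') (_ : Algebra.Etale R R') (ψ : R' →ₐ[R] L),
      Subfield.closure (Set.range ψ) = ⊤ := by
  classical
  let κ := p.ResidueField
  obtain ⟨β, hβ⟩ := Field.exists_primitive_element κ L
  let μ := minpoly κ β
  have hμ : μ.Monic := minpoly.monic (IsIntegral.of_finite κ β)
  -- a common denominator for the coefficients
  have hfrac : ∀ x : κ, ∃ r s : R, s ∉ p ∧ x * algebraMap R κ s = algebraMap R κ r := by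
    intro x
    obtain ⟨a, b, hb, rfl⟩ := IsFractionRing.div_surjective (A := R ⧸ p) x
    obtain ⟨r, rfl⟩ := Ideal.Quotient.mk_surjective a
    obtain ⟨s, rfl⟩ := Ideal.Quotient.mk_surjective b
    have hs : s ∉ p := fun h => nonZeroDivisors.ne_zero hb (Ideal.Quotient.eq_zero_iff_mem.mpr h)
    refine ⟨r, s, hs, ?_⟩
    rw [IsScalarTower.algebraMap_apply R (R ⧸ p) κ, IsScalarTower.algebraMap_apply R (R ⧸ p) κ,
      Ideal.Quotient.algebraMap_eq, div_mul_cancel₀ _ (IsFractionRing.to_map_ne_zero_of_mem_nonZeroDivisors hb)]
  choose num den hden hnum using fun i : ℕ => hfrac (μ.coeff i)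
  let k := μ.natDegree
  let d : R := ∏ i ∈ Finset.range k, den i
  have hd : d ∉ p := fun h => by
    obtain ⟨i, -, hi⟩ := (Ideal.IsPrime.prod_mem_iff (p := p)).mp h
    exact hden i hi
  let dk : κ := algebraMap R κ d
  have hdk : dk ≠ 0 := fun h => hd ((Ideal.algebraMap_residueField_eq_zero).mp h)
  let α : L := dk • β
  let q := μ.scaleRoots dk
  have hq : q.Monic := Polynomial.monic_scaleRoots_iff dk |>.mpr hμ
  have hlift : q ∈ Polynomial.lifts (algebraMap R κ) := by
    rw [Polynomial.lifts_iff_coeff_lifts]
    intro i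
    rw [Polynomial.coeff_scaleRoots]
    rcases lt_trichotomy i k with hi | hi | hi
    · have hdvd : den i ∣ d := Finset.dvd_prod_of_mem den (Finset.mem_range.mpr hi)
      obtain ⟨c, hc⟩ := hdvd
      refine ⟨num i * c * d ^ (k - i - 1), ?_⟩
      rw [map_mul, map_mul, ← hnum, map_pow,
        show (k : ℕ) - i = (k - i - 1) + 1 by omega, pow_succ]
      simp only [dk, hc, map_mul, Nat.add_sub_cancel]
      ring
    · subst hi
      exact ⟨1, by simp [k, hμ.coeff_natDegree]⟩
    · exact ⟨0, by rw [Polynomial.coeff_eq_zero_of_natDegree_lt hi]; simp⟩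
  obtain ⟨f, hfq, -, hf⟩ := Polynomial.lifts_and_degree_eq_and_monic hlift hq
  have hqα : Polynomial.aeval α q = 0 := by
    have : α = algebraMap κ L dk * β := Algebra.smul_def _ _
    rw [this]
    exact Polynomial.scaleRoots_aeval_eq_zero (minpoly.aeval κ β)
  have htop : IntermediateField.adjoin κ {α} = ⊤ := by
    rw [eq_top_iff, ← hβ, IntermediateField.adjoin_simple_le_iff]
    have h1 : α ∈ IntermediateField.adjoin κ {α} := IntermediateField.mem_adjoin_simple_self κ α
    have h2 := IntermediateField.smul_mem _ h1 (x := dk⁻¹)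
    rwa [show dk⁻¹ • α = β from inv_smul_smul₀ hdk β] at h2
  have hmin : q = minpoly κ α := by
    refine Polynomial.eq_of_monic_of_dvd_of_natDegree_le (minpoly.monic (IsIntegral.of_finite κ α))
      hq (minpoly.dvd κ α hqα) ?_
    rw [Polynomial.natDegree_scaleRoots, (Field.primitive_element_iff_minpoly_natDegree_eq κ α).mp htop,
      (Field.primitive_element_iff_minpoly_natDegree_eq κ β).mp hβ]
  let P : StandardEtalePair R := ⟨f, hf, f.derivative, 1, 0, 1, by simp⟩
  have hmap : P.HasMap α := by
    refine ⟨?_, ?_⟩
    · rw [← Polynomial.aeval_map_algebraMap κ α f, hfq, hqα]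
    · have h := (Algebra.IsSeparable.isSeparable κ α).aeval_derivative_ne_zero (minpoly.aeval κ α)
      rw [← hmin, ← hfq, Polynomial.derivative_map, Polynomial.aeval_map_algebraMap] at h
      exact isUnit_iff_ne_zero.mpr h
  refine ⟨P.Ring, inferInstance, inferInstance, inferInstance, P.lift α hmap, ?_⟩
  set K := Subfield.closure (Set.range (P.lift α hmap))
  have hR : ∀ r : R, algebraMap R L r ∈ K := fun r =>
    Subfield.subset_closure ⟨algebraMap R _ r, AlgHom.commutes _ r⟩
  have hκ : ∀ x : κ, algebraMap κ L x ∈ K := by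
    intro x
    obtain ⟨r, s, hs, hx⟩ := hfrac x
    have hs0 : algebraMap R κ s ≠ 0 := fun h => hs ((Ideal.algebraMap_residueField_eq_zero).mp h)
    rw [← mul_div_cancel_right₀ x hs0, hx, map_div₀, ← IsScalarTower.algebraMap_apply,
      ← IsScalarTower.algebraMap_apply]
    exact div_mem (hR r) (hR s)
  let K' : IntermediateField κ L := K.toIntermediateField hκ
  have : IntermediateField.adjoin κ {α} ≤ K' := IntermediateField.adjoin_simple_le_iff.mpr
    (Subfield.subset_closure ⟨P.X, P.lift_X α hmap⟩)
  rw [htop] at this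
  exact eq_top_iff.mpr fun x _ => this (IntermediateField.mem_top (x := x))

end Groth.Agent.S9435
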