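import Groth.Statements.S9439
import Groth.Agent.Calg1.CompletionLocal
import Mathlib

set_option autoImplicit false
universe u
open CAlg

namespace Groth.Agent.S9439

/-- Let R be a Noetherian local ring, R^ its completion and p a prime with R_p a discrete valuation ring
and with R^/pR^ reduced (p analytically unramified: the completion of R/p, which is R^/pR^, is
reduced). Then the localization of R^ at any associated prime of R^/pR^ is a discrete valuation
ring. -/
theorem result
    (R : Type u) [CommRing R] [IsLocalRing R] [IsNoetherianRing R] (p : Ideal R) [p.IsPrime]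
    [IsDomain (Localization.AtPrime p)] [IsDiscreteValuationRing (Localization.AtPrime p)]
    (hp : IsReduced (AdicCompletion (IsLocalRing.maximalIdeal R) R ⧸
      p.map (algebraMap R (AdicCompletion (IsLocalRing.maximalIdeal R) R))))
    (q : Ideal (AdicCompletion (IsLocalRing.maximalIdeal R) R)) [q.IsPrime]
    (hq : q ∈ associatedPrimes (AdicCompletion (IsLocalRing.maximalIdeal R) R)
      (AdicCompletion (IsLocalRing.maximalIdeal R) R ⧸
        p.map (algebraMap R (AdicCompletion (IsLocalRing.maximalIdeal R) R)))) :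
    ∃ _ : IsDomain (Localization.AtPrime q), IsDiscreteValuationRing (Localization.AtPrime q) := by
  classical
  let T := AdicCompletion (IsLocalRing.maximalIdeal R) R
  haveI : IsNoetherianRing T := Groth.Calg1.isNoetherianRing_adicCompletion _ (IsNoetherian.noetherian _)
  set f := algebraMap R T with hf
  obtain ⟨-, w, hw⟩ := isAssociatedPrime_iff.1 hq
  obtain ⟨w, rfl⟩ := Ideal.Quotient.mk_surjective w
  have hmem : ∀ z, z ∈ q ↔ z * w ∈ p.map f := fun z => by
    rw [hw, Submodule.mem_colon_singleton, Submodule.mem_bot, ← Ideal.Quotient.mk_eq_mk,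
      ← Submodule.Quotient.mk_smul, Submodule.Quotient.mk_eq_zero, smul_eq_mul]
  have hpq : p.map f ≤ q := fun z hz => (hmem z).2 (Ideal.mul_mem_right _ _ hz)
  have hrad : (p.map f).IsRadical := (Ideal.isRadical_iff_quotient_reduced _).2 hp
  have hwp : w ∉ p.map f := fun h => (inferInstance : q.IsPrime).ne_top
    ((Ideal.eq_top_iff_one _).2 ((hmem 1).2 (by rwa [one_mul])))
  have hwq : w ∉ q := fun h => hwp (hrad ⟨2, by rw [sq]; exact (hmem w).1 h⟩)
  -- the elements outside `p` stay outside `q`
  have hout : ∀ r ∉ p, f r ∉ q := by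
    intro r hr hrq
    obtain ⟨G, hG⟩ := IsNoetherian.noetherian p
    have h1 : f r * w ∈ Ideal.span (f '' (G : Set R)) := by
      rw [← Ideal.map_span, show Ideal.span (G : Set R) = p from hG]; exact (hmem _).1 hrq
    obtain ⟨c, hc⟩ := (Submodule.mem_span_image_finset_iff_exists_fun (R := T)).1 h1
    have hrel : ∑ i : Option G, (fun o : Option G => o.elim r fun g => -(g : R)) i •
        (fun o : Option G => o.elim w c) i = 0 := by
      simp only [Fintype.sum_option, Option.elim_none, Option.elim_some, Algebra.smul_def, map_neg,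
        neg_mul, Finset.sum_neg_distrib, ← hf]
      rw [← sub_eq_add_neg, sub_eq_zero, ← hc]
      exact Finset.sum_congr rfl fun i _ => by rw [smul_eq_mul, mul_comm]
    obtain ⟨k, a, y, hxy, hfa⟩ := Module.Flat.isTrivialRelation_of_sum_smul_eq_zero hrel
    apply hwp
    have h2 := hxy none
    simp only [Option.elim_none] at h2
    rw [h2]
    refine Ideal.sum_mem _ fun j _ => ?_
    rw [Algebra.smul_def]
    refine Ideal.mul_mem_right _ _ (Ideal.mem_map_of_mem f ?_)
    refine ((inferInstance : p.IsPrime).mem_or_mem (x := r) ?_).resolve_left hr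
    have h3 := hfa j
    simp only [Fintype.sum_option, Option.elim_none, Option.elim_some, neg_mul, Finset.sum_neg_distrib,
      ← sub_eq_add_neg, sub_eq_zero] at h3
    rw [h3]
    exact Ideal.sum_mem _ fun i _ => Ideal.mul_mem_right _ _ (hG ▸ Submodule.subset_span i.2)
  -- the uniformiser
  obtain ⟨g, hg⟩ := (IsPrincipalIdealRing.principal (IsLocalRing.maximalIdeal (Localization.AtPrime p))).principal
  rw [Ideal.submodule_span_eq] at hg
  obtain ⟨π, s₀, rfl⟩ := IsLocalization.exists_mk'_eq p.primeCompl g
  have hπ : π ∈ p := by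
    refine (IsLocalization.AtPrime.mk'_mem_maximal_iff (Localization.AtPrime p) p π s₀).1 ?_
    rw [hg]; exact Ideal.mem_span_singleton_self _
  have hy : ∀ y ∈ p, ∃ s, s ∉ p ∧ ∃ t, s * y = π * t := by
    intro y hy
    have : algebraMap R (Localization.AtPrime p) y ∈ IsLocalRing.maximalIdeal (Localization.AtPrime p) :=
      (IsLocalization.AtPrime.to_map_mem_maximal_iff (Localization.AtPrime p) p y).2 hy
    rw [hg, Ideal.mem_span_singleton'] at this
    obtain ⟨c, hc⟩ := this
    obtain ⟨t, s₁, rfl⟩ := IsLocalization.exists_mk'_eq p.primeCompl c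
    rw [← IsLocalization.mk'_mul, IsLocalization.mk'_eq_iff_eq_mul, ← map_mul] at hc
    obtain ⟨u, hu⟩ := (IsLocalization.eq_iff_exists p.primeCompl _).1 hc
    exact ⟨(u : R) * ((s₁ * s₀ : p.primeCompl) : R), (p.primeCompl.mul_mem u.2 (s₁ * s₀).2),
      (u : R) * t, by linear_combination -hu⟩
  let S := Localization.AtPrime q
  haveI : IsNoetherianRing S := IsLocalization.isNoetherianRing q.primeCompl S inferInstance
  let πS : S := algebraMap T S (f π)
  have hunit : ∀ r ∉ p, IsUnit (algebraMap T S (f r)) := fun r hr =>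
    IsLocalization.map_units S (⟨f r, hout r hr⟩ : q.primeCompl)
  have hmax : IsLocalRing.maximalIdeal S = Ideal.span {πS} := by
    refine le_antisymm ?_ ((Ideal.span_singleton_le_iff_mem _).2 ?_)
    · rw [← Localization.AtPrime.map_eq_maximalIdeal, Ideal.map_le_iff_le_comap]
      intro z hz
      rw [Ideal.mem_comap]
      have h1 : algebraMap T S (z * w) ∈ Ideal.span {πS} := by
        suffices H : ∀ v ∈ p.map f, algebraMap T S v ∈ Ideal.span {πS} from H _ ((hmem z).1 hz)
        intro v hv
        induction hv using Submodule.span_induction with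
        | mem a ha =>
          obtain ⟨y, hyp, rfl⟩ := ha
          obtain ⟨s, hs, t, ht⟩ := hy y hyp
          rw [← Ideal.unit_mul_mem_iff_mem _ (hunit s hs), ← map_mul, ← map_mul, ht, map_mul, map_mul]
          exact Ideal.mul_mem_right _ _ (Ideal.mem_span_singleton_self _)
        | zero => rw [map_zero]; exact zero_mem _
        | add a b _ _ ha hb => rw [map_add]; exact add_mem ha hb
        | smul c a _ ha => rw [smul_eq_mul, map_mul]; exact Ideal.mul_mem_left _ _ ha
      rw [map_mul, mul_comm] at h1
      exact (Ideal.unit_mul_mem_iff_mem _ (IsLocalization.map_units S (⟨w, hwq⟩ : q.primeCompl))).1 h1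
    · exact (IsLocalization.AtPrime.to_map_mem_maximal_iff S q _).2 (hpq (Ideal.mem_map_of_mem f hπ))
  -- the uniformiser is regular
  have hπ0 : algebraMap R (Localization.AtPrime p) π ≠ 0 := by
    intro h0
    refine IsDiscreteValuationRing.not_a_field (Localization.AtPrime p) ?_
    rw [hg, Ideal.span_singleton_eq_bot, IsLocalization.mk'_eq_mul_mk'_one, h0, zero_mul]
  have hreg : IsSMulRegular S πS := by
    refine isSMulRegular_iff_right_eq_zero_of_smul.2 fun z hz => ?_
    obtain ⟨a, t, rfl⟩ := IsLocalization.exists_mk'_eq q.primeCompl z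
    rw [smul_eq_mul, IsLocalization.mul_mk'_eq_mk'_of_mul, IsLocalization.mk'_eq_zero_iff] at hz
    obtain ⟨u, hu⟩ := hz
    obtain ⟨k, c, y, hxy, hfa⟩ := Module.Flat.isTrivialRelation_of_sum_smul_eq_zero (R := R) (M := T)
      (f := fun _ : Fin 1 => π) (x := fun _ : Fin 1 => (u : T) * a) (by
        simp only [Fin.sum_univ_one, Algebra.smul_def]
        rw [← hu]; ring)
    have hkill : ∀ j, ∃ s, s ∉ p ∧ s * c 0 j = 0 := fun j => by
      have h1 := hfa j
      rw [Fin.sum_univ_one] at h1
      have h2 : algebraMap R (Localization.AtPrime p) (c 0 j) = 0 := by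
        have h3 := congrArg (algebraMap R (Localization.AtPrime p)) h1
        rw [map_mul, map_zero, mul_eq_zero] at h3
        exact h3.resolve_left hπ0
      obtain ⟨s, hs⟩ := (IsLocalization.map_eq_zero_iff p.primeCompl _ _).1 h2
      exact ⟨s, s.2, hs⟩
    choose s hs hs0 using hkill
    refine (IsLocalization.mk'_eq_zero_iff (S := S) a t).2
      ⟨⟨f (∏ j, s j) * u, q.primeCompl.mul_mem (hout _ fun hm => ?_) u.2⟩, ?_⟩
    · obtain ⟨j, -, hj⟩ := (Ideal.IsPrime.prod_mem_iff (p := p)).1 hm
      exact hs j hj
    · change f (∏ j, s j) * (u : T) * a = 0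
      rw [mul_assoc, show (u : T) * a = _ from hxy 0, Finset.mul_sum]
      refine Finset.sum_eq_zero fun j _ => ?_
      obtain ⟨d, hd⟩ := Finset.dvd_prod_of_mem s (Finset.mem_univ j)
      rw [Algebra.smul_def, ← mul_assoc, ← map_mul, hd,
        show s j * d * c 0 j = 0 by linear_combination d * hs0 j, map_zero, zero_mul]
  have hπm : πS ∈ IsLocalRing.maximalIdeal S := hmax ▸ Ideal.mem_span_singleton_self _
  have hd1 : ringKrullDim S ≤ 1 := by
    rw [← IsLocalRing.maximalIdeal_height_eq_ringKrullDim]
    exact_mod_cast Ideal.height_le_one_of_isPrincipal_of_mem_minimalPrimes (Ideal.span {πS}) _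
      ⟨⟨inferInstance, hmax.ge⟩, fun b hb _ => hmax.le.trans hb.2⟩
  have hd2 : 1 ≤ ringKrullDim S := by
    haveI : Nontrivial (S ⧸ Ideal.span {πS}) := Ideal.Quotient.nontrivial_iff.2
      (hmax ▸ (IsLocalRing.maximalIdeal.isMaximal S).ne_top)
    refine le_trans ?_ (ringKrullDim_quotient_succ_le_of_nonZeroDivisor
      (mem_nonZeroDivisors_iff_right.2 fun z hz => isSMulRegular_iff_right_eq_zero_of_smul.1 hreg z (by rw [smul_eq_mul, mul_comm]; exact hz)))
    exact le_add_of_nonneg_left ringKrullDim_nonneg_of_nontrivial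
  have hdim : ringKrullDim S = 1 := le_antisymm hd1 hd2
  refine (Groth.Calg1.isDVR_iff_regular_dim_one S).2 ⟨?_, hdim⟩
  rw [isRegularLocalRing_iff, hdim]
  have h1 : (IsLocalRing.maximalIdeal S).spanFinrank ≤ 1 := by
    rw [hmax]
    exact (Submodule.spanFinrank_span_le_ncard_of_finite (Set.finite_singleton _)).trans
      (Set.ncard_singleton _).le
  have h2 : (IsLocalRing.maximalIdeal S).spanFinrank ≠ 0 := fun h0 => by
    rw [Submodule.spanFinrank_eq_zero_iff_eq_bot (IsNoetherian.noetherian _)] at h0
    rw [h0, Submodule.mem_bot] at hπm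
    have h1 : (1 : S) = 0 := hreg (show πS • (1 : S) = πS • 0 by rw [hπm, zero_smul, zero_smul])
    exact one_ne_zero h1
  have : (IsLocalRing.maximalIdeal S).spanFinrank = 1 := by omega
  rw [this]; rfl

end Groth.Agent.S9439
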