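import Groth.Statements.S9441
import Groth.Agent.Calg5.RelGCIFlat
import Groth.Agent.Ega41Jac.Localization

set_option autoImplicit false
universe u
open Synt

namespace Groth.Agent.S9441

/-- For a relative global complete intersection S = R[x_1, …, x_n]/(f_1, …, f_c) and a prime q of S, the
map R → S is smooth at q if and only if some c × c minor of the Jacobian matrix (∂f_j/∂x_i), taken
on c distinct variables, has image outside q. -/
theorem result (R : Type u) [CommRing R] (n c : ℕ)
    (F : Fin c → MvPolynomial (Fin n) R) (hF : Synt.IsRelGCI R n c F)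
    (q : Ideal (Synt.RelGCIRing R n c F)) [q.IsPrime] :
    Algebra.IsSmoothAt R q ↔ ∃ I : Fin c ↪ Fin n,
      Ideal.Quotient.mk (Ideal.span (Set.range F))
        (Matrix.det (Matrix.of fun j i => MvPolynomial.pderiv (I i) (F j))) ∉ q := by
  classical
  set Ib := Ideal.span (Set.range F)
  set S := Synt.RelGCIRing R n c F
  let π : MvPolynomial (Fin n) R →ₐ[R] S := Ideal.Quotient.mkₐ R Ib
  let val : Fin n → S := fun i => π (MvPolynomial.X i)
  have hval : MvPolynomial.aeval val = π := MvPolynomial.algHom_ext fun i => by simp [val]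
  let G : Algebra.Generators R S (Fin n) := Algebra.Generators.ofSurjective val
    (by rw [hval]; exact Ideal.Quotient.mkₐ_surjective R Ib)
  let P := G.toExtension
  have hGπ : ∀ x, MvPolynomial.aeval G.val x = π x := fun x => AlgHom.congr_fun hval x
  have hker : P.ker = Ib := by
    change G.ker = Ib
    rw [Algebra.Generators.ker_eq_ker_aeval_val]
    ext x
    rw [RingHom.mem_ker, hGπ]
    exact Ideal.Quotient.eq_zero_iff_mem
  let μ : Fin c → P.Cotangent := fun j =>
    Algebra.Extension.Cotangent.mk ⟨F j, hker.ge (Ideal.subset_span ⟨j, rfl⟩)⟩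
  have hsmul : ∀ (a : MvPolynomial (Fin n) R) (x : P.Cotangent), π a • x = (show P.Ring from a) • x := by
    intro a x
    rw [← hGπ]
    exact algebraMap_smul S (show P.Ring from a) x
  have hspan : ∀ z : P.Cotangent, ∃ g : Fin c → S, ∑ j, g j • μ j = z := by
    intro z
    obtain ⟨⟨x, hx⟩, rfl⟩ := Algebra.Extension.Cotangent.mk_surjective z
    obtain ⟨a, ha⟩ := Ideal.mem_span_range_iff_exists_fun.mp (hker.le hx)
    refine ⟨fun j => π (a j), ?_⟩
    simp only [μ, hsmul, ← map_smul, ← map_sum]
    congr 1
    exact Subtype.ext (by simp only [AddSubmonoidClass.coe_finsetSum, SetLike.val_smul, smul_eq_mul]; exact ha)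
  have hind : LinearIndependent S μ := by
    refine Fintype.linearIndependent_iff.mpr fun g hg j => ?_
    have hli := Fintype.linearIndependent_iff.mp (Groth.Calg5.RelGCI.linearIndependent_toCotangent F
      (Groth.Calg5.RelGCI.isKoszulRegularSeq_of_isRelGCI hF)) g ?_ j
    · exact hli
    choose a ha using fun i => Ideal.Quotient.mk_surjective (g i)
    have h1 : ∑ i, a i * F i ∈ Ib ^ 2 := by
      have h2 : Algebra.Extension.Cotangent.mk (P := P)
          (∑ i, (show P.Ring from a i) • (⟨F i, hker.ge (Ideal.subset_span ⟨i, rfl⟩)⟩ : P.ker)) = 0 := by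
        rw [map_sum, ← hg]
        refine Finset.sum_congr rfl fun i _ => ?_
        rw [map_smul, ← hsmul, ← ha i]
        rfl
      rw [Algebra.Extension.Cotangent.mk_eq_zero_iff] at h2
      rw [← hker]
      simp only [AddSubmonoidClass.coe_finsetSum, SetLike.val_smul, smul_eq_mul] at h2
      exact h2
    calc ∑ i, g i • Ib.toCotangent ⟨F i, Ideal.subset_span (Set.mem_range_self i)⟩
        = Ib.toCotangent (∑ i, a i • (⟨F i, Ideal.subset_span (Set.mem_range_self i)⟩ : Ib)) := by
          rw [map_sum]
          refine Finset.sum_congr rfl fun i _ => ?_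
          rw [map_smul, ← ha i, ← Ideal.Quotient.algebraMap_eq, algebraMap_smul]
      _ = 0 := by
          rw [Ideal.toCotangent_eq_zero]
          simpa using h1
  let e := G.cotangentSpaceBasis
  let M : Matrix (Fin c) (Fin n) S := Matrix.of fun j i => π (MvPolynomial.pderiv i (F j))
  have hu : ∀ j, P.cotangentComplex (μ j) = ∑ i, M j i • e i := by
    intro j
    conv_lhs => rw [← e.sum_repr (P.cotangentComplex (μ j))]
    refine Finset.sum_congr rfl fun i _ => ?_
    congr 1
    rw [Algebra.Extension.cotangentComplex_mk]
    exact (G.cotangentSpaceBasis_repr_one_tmul (F j) i).trans (hGπ _)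
  have hminor : ∀ I : Fin c ↪ Fin n, Ideal.Quotient.mk Ib
      (Matrix.det (Matrix.of fun j i => MvPolynomial.pderiv (I i) (F j))) = (M.submatrix id I).det := by
    intro I
    rw [RingHom.map_det]
    rfl
  haveI : Module.Finite S P.Cotangent := Module.Finite.of_fg_top (Submodule.fg_def.mpr
    ⟨Set.range μ, Set.finite_range μ, eq_top_iff.mpr fun z _ => by
      obtain ⟨g, rfl⟩ := hspan z
      exact Submodule.sum_mem _ fun j _ => Submodule.smul_mem _ _ (Submodule.subset_span ⟨j, rfl⟩)⟩)
  haveI : Algebra.FormallySmooth R P.Ring := inferInstanceAs (Algebra.FormallySmooth R (MvPolynomial (Fin n) R))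
  refine (Groth.Ega41Jac.formallySmooth_iff_splitBy P q.primeCompl (Localization.AtPrime q)).trans ?_
  constructor
  · rintro ⟨a, haq, w, hw⟩
    choose b hb using fun i => hspan (w (e i))
    have hMb : ∀ j k, ∑ i, M j i * b i k = if j = k then a else 0 := by
      intro j
      have h1 : ∑ k, (∑ i, M j i * b i k) • μ k = ∑ k, (if j = k then a else 0) • μ k := by
        calc ∑ k, (∑ i, M j i * b i k) • μ k = ∑ i, M j i • ∑ k, b i k • μ k := by
              simp only [Finset.sum_smul, Finset.smul_sum, mul_smul]; exact Finset.sum_comm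
          _ = w (P.cotangentComplex (μ j)) := by simp only [hu, map_sum, map_smul, hb]
          _ = a • μ j := by rw [← LinearMap.comp_apply, hw]; rfl
          _ = _ := by simp [ite_smul]
      intro k
      have h2 := Fintype.linearIndependent_iff.mp hind (fun k => (∑ i, M j i * b i k) -
        (if j = k then a else 0)) (by simp only [sub_smul, Finset.sum_sub_distrib, h1, sub_self]) k
      exact sub_eq_zero.mp h2
    -- reduce to the residue field
    let K := q.ResidueField
    let φ := algebraMap S K
    have ha : φ a ≠ 0 := fun h => haq (Ideal.algebraMap_residueField_eq_zero.mp h)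
    let v : Fin n → Fin c → K := fun i j => φ (M j i)
    have hv : Submodule.span K (Set.range v) = ⊤ := by
      refine eq_top_iff.mpr ((Pi.basisFun K (Fin c)).span_eq.ge.trans ?_)
      rw [Submodule.span_le]
      rintro _ ⟨k, rfl⟩
      have h1 : (Pi.basisFun K (Fin c)) k = ∑ i, ((φ a)⁻¹ * φ (b i k)) • v i := by
        funext j
        rw [Pi.basisFun_apply, Finset.sum_apply]
        calc (Pi.single k (1 : K) : Fin c → K) j = (φ a)⁻¹ * φ (if j = k then a else 0) := by
              rw [Pi.single_apply]
              split_ifs
              · exact (inv_mul_cancel₀ ha).symm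
              · rw [map_zero, mul_zero]
          _ = _ := by
              rw [← hMb j k, map_sum, Finset.mul_sum]
              refine Finset.sum_congr rfl fun i _ => ?_
              simp [v]; ring
      rw [SetLike.mem_coe, h1]
      exact Submodule.sum_mem _ fun i _ => Submodule.smul_mem _ _ (Submodule.subset_span ⟨i, rfl⟩)
    obtain ⟨f, hf, -, hli⟩ := Submodule.exists_fun_fin_finrank_span_eq K (Set.range v)
    have hd : Module.finrank K (Submodule.span K (Set.range v)) = c := by
      rw [hv, finrank_top, Module.finrank_fin_fun]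
    choose idx hidx using hf
    let J : Fin c → Fin n := fun k => idx (k.cast hd.symm)
    have hli' : LinearIndependent K (fun k => v (J k)) := by
      have h := hli.comp (Fin.cast hd.symm) (Fin.cast_injective _)
      rw [show (fun k => v (J k)) = f ∘ Fin.cast hd.symm from funext fun k => hidx _]
      exact h
    refine ⟨⟨J, Function.Injective.of_comp (f := v) hli'.injective⟩, ?_⟩
    rw [hminor, ← Ideal.algebraMap_residueField_eq_zero, RingHom.map_det]
    exact ((Matrix.isUnit_iff_isUnit_det _).mp (Matrix.linearIndependent_cols_iff_isUnit.mp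
      (show LinearIndependent K (φ.mapMatrix (M.submatrix id J)).col from hli'))).ne_zero
  · rintro ⟨I, hI⟩
    rw [hminor] at hI
    set N := M.submatrix id I with hN
    refine ⟨N.det, hI, e.constr S (fun l => ∑ i, if I i = l then ∑ k, N.adjugate i k • μ k else 0), ?_⟩
    refine LinearMap.ext fun z => ?_
    obtain ⟨g, rfl⟩ := hspan z
    simp only [map_sum, map_smul]
    refine Finset.sum_congr rfl fun j _ => ?_
    congr 1
    rw [LinearMap.comp_apply, hu, map_sum]
    simp only [map_smul, Module.Basis.constr_basis, LinearMap.smul_apply, LinearMap.id_apply, Finset.smul_sum,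
      smul_ite, smul_zero]
    rw [Finset.sum_comm]
    simp only [Finset.sum_ite_eq, Finset.mem_univ, if_true, smul_smul]
    rw [Finset.sum_comm]
    simp only [← Finset.sum_smul]
    have h2 : ∀ k, ∑ i, M j (I i) * N.adjugate i k = if j = k then N.det else 0 := fun k => by
      rw [show (∑ i, M j (I i) * N.adjugate i k) = (N * N.adjugate) j k by rw [Matrix.mul_apply]; rfl,
        Matrix.mul_adjugate, Matrix.smul_apply, Matrix.one_apply, smul_eq_mul, mul_ite, mul_one, mul_zero]
    simp only [h2]
    rw [Finset.sum_eq_single j]
    · rw [if_pos rfl]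
    · intro k _ hne
      rw [if_neg hne.symm]
      exact zero_smul S (μ k)
    · simp

end Groth.Agent.S9441
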