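import Groth.Statements.S9444
import Mathlib
import Groth.Agent.Calg5.CohenStructure

set_option autoImplicit false
universe u
open CAlg

namespace Groth.Agent.S9444

/-- A complete regular local ring containing a field (that is, containing the prime field F_p or ℚ) is
isomorphic to a power series ring in finitely many variables over its residue field (existence of an
isomorphism only). -/
theorem result (R : Type u)
    [CommRing R] [IsRegularLocalRing R] [IsAdicComplete (IsLocalRing.maximalIdeal R) R]
    (k₀ : Type u) [Field k₀] [Algebra k₀ R] :
    ∃ d : ℕ, Nonempty (R ≃+* MvPowerSeries (Fin d) (IsLocalRing.ResidueField R)) := by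
  exact Groth.Calg5.CohenStructure.exists_ringEquiv_mvPowerSeries R k₀

end Groth.Agent.S9444
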