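import Groth.Statements.S9445
import Mathlib

set_option autoImplicit false
universe u
open CAlg

namespace Groth.Agent.S9445

open TensorProduct in
/-- For ring maps R → S → S' with S → S' formally étale and k ≥ 0, let J' ⊆ S' ⊗_R S' be the kernel of
multiplication and I ⊆ S' ⊗_R S its preimage under the map induced by S → S' (I is the kernel of S'
⊗_R S → S', and (S' ⊗_R S)/I^{k+1} is S' ⊗_S P^k_{S/R}); then (S' ⊗_R S)/I^{k+1} → (S' ⊗_R
S')/J'^{k+1} is bijective. (The consequence S' ⊗_S Ω_{S/R} ≅ Ω_{S'/R} is Mathlib's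
KaehlerDifferential.isBaseChange_of_formallyEtale.) -/
theorem result (R : Type u) [CommRing R]
    (S : Type u) [CommRing S] [Algebra R S] (S' : Type u) [CommRing S'] [Algebra R S']
    [Algebra S S'] [IsScalarTower R S S'] [Algebra.FormallyEtale S S'] (k : ℕ) :
    Function.Bijective (Ideal.quotientMap (KaehlerDifferential.ideal R S' ^ (k + 1))
      (Algebra.TensorProduct.map (AlgHom.id S' S') (IsScalarTower.toAlgHom R S S')).toRingHom
      (Ideal.le_comap_pow
        (Algebra.TensorProduct.map (AlgHom.id S' S') (IsScalarTower.toAlgHom R S S')).toRingHom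
        (K := KaehlerDifferential.ideal R S') (k + 1))) := by
  have hlift : ∀ (Q : Type u) [CommRing Q] (a : S →+* Q) (π : Q →+* S'), Function.Surjective π →
      IsNilpotent (RingHom.ker π) → π.comp a = algebraMap S S' →
      ∃ g : S' →+* Q, π.comp g = RingHom.id S' ∧ g.comp (algebraMap S S') = a := by
    intro Q _ a π hπ hn ha
    letI : Algebra S Q := a.toAlgebra
    let πA : Q →ₐ[S] S' := { π with commutes' := fun s => RingHom.congr_fun ha s }
    let g := Algebra.FormallySmooth.liftOfSurjective (AlgHom.id S S') πA hπ hn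
    exact ⟨g.toRingHom, RingHom.ext fun x =>
      Algebra.FormallySmooth.liftOfSurjective_apply (AlgHom.id S S') πA hπ hn x,
      RingHom.ext fun s => g.commutes s⟩
  have huniq : ∀ (Q : Type u) [CommRing Q] (π : Q →+* S'), IsNilpotent (RingHom.ker π) →
      ∀ g₁ g₂ : S' →+* Q, g₁.comp (algebraMap S S') = g₂.comp (algebraMap S S') →
      π.comp g₁ = π.comp g₂ → g₁ = g₂ := by
    intro Q _ π hn g₁ g₂ h1 h2
    letI : Algebra S Q := (g₁.comp (algebraMap S S')).toAlgebra
    have h := Algebra.FormallyUnramified.ext' (R := S) (A := S') π hn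
      ({ g₁ with commutes' := fun _ => rfl } : S' →ₐ[S] Q)
      ({ g₂ with commutes' := fun s => RingHom.congr_fun h1.symm s } : S' →ₐ[S] Q)
      (fun x => RingHom.congr_fun h2 x)
    exact congrArg (fun g : S' →ₐ[S] Q => g.toRingHom) h
  set f := Algebra.TensorProduct.map (AlgHom.id S' S') (IsScalarTower.toAlgHom R S S') with hf
  set J := KaehlerDifferential.ideal R S' with hJ
  let μ : S' ⊗[R] S' →+* S' := (Algebra.TensorProduct.lmul' R).toRingHom
  have hμJ : RingHom.ker μ = J := rfl
  let K := Ideal.comap f.toRingHom J ^ (k + 1)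
  let Q := (S' ⊗[R] S) ⧸ K
  let π : Q →+* S' := Ideal.Quotient.lift K (μ.comp f.toRingHom) (fun x hx => by
    have h1 : x ∈ Ideal.comap f.toRingHom J := Ideal.pow_le_self (Nat.succ_ne_zero k) hx
    exact RingHom.mem_ker.1 h1)
  let π' : (S' ⊗[R] S') ⧸ J ^ (k + 1) →+* S' := Ideal.Quotient.lift _ μ (fun x hx =>
    RingHom.mem_ker.1 (hμJ.ge (Ideal.pow_le_self (Nat.succ_ne_zero k) hx)))
  have hπmk : ∀ z, π (Ideal.Quotient.mk K z) = μ (f z) := fun z => rfl
  have hkπ : RingHom.ker π = (Ideal.comap f.toRingHom J).map (Ideal.Quotient.mk K) := by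
    rw [Ideal.ker_quotient_lift]; rfl
  have hn : IsNilpotent (RingHom.ker π) := ⟨k + 1, by
    rw [hkπ, ← Ideal.map_pow]; exact Ideal.map_quotient_self K⟩
  have hn' : IsNilpotent (RingHom.ker π') := ⟨k + 1, by
    rw [Ideal.ker_quotient_lift, hμJ, ← Ideal.map_pow]; exact Ideal.map_quotient_self _⟩
  let a : S →+* Q := (Ideal.Quotient.mk K).comp Algebra.TensorProduct.includeRight.toRingHom
  have ha : π.comp a = algebraMap S S' := by
    ext s
    show π (Ideal.Quotient.mk K ((1 : S') ⊗ₜ[R] s)) = _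
    rw [hπmk]
    simp [μ, f]
  have hπ : Function.Surjective π := fun x => ⟨Ideal.Quotient.mk K (x ⊗ₜ 1), by rw [hπmk]; simp [μ, f]⟩
  obtain ⟨g, hg1, hg2⟩ := hlift Q a π hπ hn ha
  let gR : S' →ₐ[R] Q :=
    { g with
      commutes' := fun r => by
        show g (algebraMap R S' r) = _
        rw [IsScalarTower.algebraMap_apply R S S']
        refine (RingHom.congr_fun hg2 _).trans ?_
        show Ideal.Quotient.mk K ((1 : S') ⊗ₜ[R] algebraMap R S r) = _
        rw [← Algebra.TensorProduct.includeRight_apply, AlgHom.commutes]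
        rfl }
  let ψ : S' ⊗[R] S' →ₐ[R] Q := Algebra.TensorProduct.lift
    ((Ideal.Quotient.mkₐ R K).comp Algebra.TensorProduct.includeLeft) gR fun _ _ => Commute.all _ _
  have hψμ : π.comp ψ.toRingHom = μ := by
    refine RingHom.ext fun x => ?_
    induction x with
    | zero => simp
    | tmul p q =>
      have : π (g q) = q := RingHom.congr_fun hg1 q
      show π (Ideal.Quotient.mk K (p ⊗ₜ 1) * g q) = μ (p ⊗ₜ q)
      rw [map_mul, this, hπmk]
      simp [μ, f]
    | add p q hp hq => simp only [map_add, hp, hq]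
  have hψJ : ∀ x ∈ J ^ (k + 1), ψ x = 0 := by
    intro x hx
    have h1 : J.map ψ.toRingHom ≤ RingHom.ker π := Ideal.map_le_iff_le_comap.2 fun y hy => by
      rw [Ideal.mem_comap, RingHom.mem_ker, ← RingHom.comp_apply, hψμ]
      exact RingHom.mem_ker.1 (hμJ.ge hy)
    have h2 : RingHom.ker π ^ (k + 1) = ⊥ := by
      rw [hkπ, ← Ideal.map_pow]; exact Ideal.map_quotient_self K
    have h3 : ψ.toRingHom x ∈ (J.map ψ.toRingHom) ^ (k + 1) := by
      rw [← Ideal.map_pow]; exact Ideal.mem_map_of_mem _ hx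
    exact (Submodule.mem_bot Q).1 (h2 ▸ Ideal.pow_right_mono h1 _ h3)
  have hψf : ∀ z, ψ (f z) = Ideal.Quotient.mk K z := by
    intro z
    induction z with
    | zero => simp
    | tmul p q =>
      have : g (algebraMap S S' q) = a q := RingHom.congr_fun hg2 q
      show Ideal.Quotient.mk K (p ⊗ₜ 1) * g (algebraMap S S' q) = _
      rw [this]
      show Ideal.Quotient.mk K (p ⊗ₜ 1) * Ideal.Quotient.mk K ((1 : S') ⊗ₜ q) = _
      rw [← map_mul, Algebra.TensorProduct.tmul_mul_tmul, mul_one, one_mul]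
    | add p q hp hq => simp only [map_add, hp, hq]
  constructor
  · refine Ideal.quotientMap_injective' ?_
    intro z hz
    have h := hψJ _ hz
    rw [show f.toRingHom z = f z from rfl, hψf, Ideal.Quotient.eq_zero_iff_mem] at h
    exact h
  · intro y
    obtain ⟨y, rfl⟩ := Ideal.Quotient.mk_surjective y
    let fb : Q →+* (S' ⊗[R] S') ⧸ J ^ (k + 1) := Ideal.quotientMap (J ^ (k + 1)) f.toRingHom
      (Ideal.le_comap_pow f.toRingHom (k + 1))
    have hfbmk : ∀ z, fb (Ideal.Quotient.mk K z) = Ideal.Quotient.mk (J ^ (k + 1)) (f z) := fun z => rfl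
    have hfbπ : π'.comp fb = π := Ideal.Quotient.ringHom_ext (RingHom.ext fun z => by simp [π, π', fb, μ])
    have hg' : fb.comp g = (Ideal.Quotient.mk (J ^ (k + 1))).comp Algebra.TensorProduct.includeRight.toRingHom := by
      refine huniq _ π' hn' _ _ ?_ ?_
      · rw [RingHom.comp_assoc, hg2]
        ext s
        show fb (Ideal.Quotient.mk K ((1 : S') ⊗ₜ[R] s)) = _
        rw [hfbmk]
        simp [f]
      · rw [← RingHom.comp_assoc, hfbπ, hg1]
        ext x
        simp [π', μ]
    have key : fb (ψ y) = Ideal.Quotient.mk _ y := by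
      induction y with
      | zero => simp
      | tmul p q =>
        show fb (Ideal.Quotient.mk K (p ⊗ₜ 1) * g q) = _
        rw [map_mul, show fb (g q) = _ from RingHom.congr_fun hg' q]
        rw [hfbmk]
        simp [f, ← map_mul]
      | add p q hp hq => simp only [map_add, hp, hq]
    exact ⟨ψ y, key⟩

end Groth.Agent.S9445
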