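import Groth.Statements.S9446
import Mathlib

set_option autoImplicit false
universe u
open CAlg
open TensorProduct

namespace Groth.Agent.S9446

/-- If S is ind-smooth over R (every R-algebra map into S from a finitely presented R-algebra factors
through a smooth R-algebra) then for every R-algebra B the canonical map S ⊗_R A → A', from the base
change of the integral closure A of R in B to the integral closure A' of S in S ⊗_R B, is bijective. -/
theorem result (R : Type u) [CommRing R] (S : Type u)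
    [CommRing S] [Algebra R S] (hS : Smoothing.IndSmooth R S) (B : Type u) [CommRing B]
    [Algebra R B] : Function.Bijective (TensorProduct.toIntegralClosure R S B) := by
  classical
  let P0 := MvPolynomial S R
  let π : P0 →ₐ[R] S := MvPolynomial.aeval id
  have hπ : Function.Surjective π := fun s => ⟨MvPolynomial.X s, MvPolynomial.aeval_X _ s⟩
  -- descent of finitely many relations to a smooth stage
  have key : ∀ F : Finset P0, ∃ (C : Type u) (_ : CommRing C) (_ : Algebra R C) (_ : Algebra.Smooth R C)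
      (ρ : P0 →ₐ[R] C) (h : C →ₐ[R] S), (∀ f ∈ F, h (ρ f) = π f) ∧ (∀ f ∈ F, π f = 0 → ρ f = 0) := by
    intro F
    let T : Finset S := F.biUnion fun f => f.vars
    let incl : MvPolynomial T R →ₐ[R] P0 := MvPolynomial.rename Subtype.val
    let r : P0 →ₐ[R] MvPolynomial T R :=
      MvPolynomial.aeval fun s => if hs : s ∈ T then MvPolynomial.X ⟨s, hs⟩ else 0
    have hir : ∀ f ∈ F, incl (r f) = f := by
      intro f hf
      obtain ⟨g, hg⟩ : ∃ g, incl g = f := by
        refine MvPolynomial.exists_rename_eq_of_vars_subset_range f _ Subtype.val_injective ?_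
        intro s hs
        exact ⟨⟨s, Finset.mem_biUnion.2 ⟨f, hf, hs⟩⟩, rfl⟩
      have : r.comp incl = AlgHom.id R _ := MvPolynomial.algHom_ext fun t => by
        show MvPolynomial.aeval _ (MvPolynomial.rename Subtype.val (MvPolynomial.X t)) = MvPolynomial.X t
        rw [MvPolynomial.rename_X, MvPolynomial.aeval_X, dif_pos t.2]
      rw [← hg, ← AlgHom.comp_apply r incl, this, AlgHom.id_apply]
    let J : Ideal (MvPolynomial T R) := Ideal.span ((F.filter fun f => π f = 0).image r : Finset _)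
    have hJ : ∀ x ∈ J, (π.comp incl) x = 0 := by
      intro x hx
      refine (Ideal.span_le (I := RingHom.ker (π.comp incl).toRingHom)).2 ?_ hx
      intro y hy
      obtain ⟨f, hf, rfl⟩ := Finset.mem_image.1 (Finset.mem_coe.1 hy)
      obtain ⟨hfF, hf0⟩ := Finset.mem_filter.1 hf
      show π (incl (r f)) = 0
      rw [hir f hfF, hf0]
    let h0 : MvPolynomial T R ⧸ J →ₐ[R] S := Ideal.Quotient.liftₐ J (π.comp incl) hJ
    haveI : Algebra.FinitePresentation R (MvPolynomial T R ⧸ J) :=
      Algebra.FinitePresentation.quotient ⟨_, rfl⟩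
    obtain ⟨C, _, _, hC, g, h, hg⟩ := hS _ inferInstance h0
    refine ⟨C, inferInstance, inferInstance, hC, g.comp ((Ideal.Quotient.mkₐ R J).comp r), h, fun f hf => ?_, fun f hf hf0 => ?_⟩
    · show (h.comp g) (Ideal.Quotient.mk J (r f)) = _
      rw [hg]
      show π (incl (r f)) = _
      rw [hir f hf]
    · show g (Ideal.Quotient.mk J (r f)) = 0
      rw [Ideal.Quotient.eq_zero_iff_mem.2 (Ideal.subset_span (Finset.mem_coe.2
        (Finset.mem_image_of_mem r (Finset.mem_filter.2 ⟨hf, hf0⟩)))), map_zero]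
  let A := integralClosure R B
  let m : ∀ {X Y : Type u} [CommRing X] [CommRing Y] [Algebra R X] [Algebra R Y], (X →ₐ[R] Y) →
      (X ⊗[R] B →ₐ[R] Y ⊗[R] B) := fun f => Algebra.TensorProduct.map f (AlgHom.id R B)
  -- vanishing in S ⊗ B
  have hkill : ∀ y : P0 ⊗[R] B, m π y = 0 → ∃ K : Finset (P0 × B),
      (∀ i ∈ K, π i.1 = 0) ∧ y = ∑ i ∈ K, i.1 ⊗ₜ i.2 := by
    intro y hy
    have hy' : π.toLinearMap.rTensor B y = 0 := hy
    obtain ⟨w, hw⟩ := (rTensor_exact B (LinearMap.exact_subtype_ker_map π.toLinearMap) hπ y).1 hy'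
    obtain ⟨K, hK⟩ := TensorProduct.exists_finset w
    refine ⟨K.image fun i => ((i.1 : P0), i.2), fun i hi => ?_, ?_⟩
    · obtain ⟨j, -, rfl⟩ := Finset.mem_image.1 hi
      exact j.1.2
    · rw [← hw, hK, map_sum, Finset.sum_image]
      · rfl
      · intro a _ b _ hab
        simp only [Prod.mk.injEq] at hab
        exact Prod.ext (Subtype.ext hab.1) hab.2
  have hnat : ∀ {X Y : Type u} [CommRing X] [CommRing Y] [Algebra R X] [Algebra R Y] (f : X →ₐ[R] Y)
      (z : X ⊗[R] A), ((TensorProduct.toIntegralClosure R Y B (Algebra.TensorProduct.map f (AlgHom.id R A) z)) : Y ⊗[R] B) =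
      m f ((TensorProduct.toIntegralClosure R X B z) : X ⊗[R] B) := by
    intro X Y _ _ _ _ f z
    induction z with
    | zero => simp
    | tmul x a => rfl
    | add p q hp hq => simp only [map_add, Subalgebra.coe_add, hp, hq]
  constructor
  · rw [injective_iff_map_eq_zero]
    intro z hz
    obtain ⟨z0, rfl⟩ := LinearMap.rTensor_surjective A (g := π.toLinearMap) hπ z
    obtain ⟨Z, rfl⟩ := TensorProduct.exists_finset z0
    have hz' : m π ((TensorProduct.toIntegralClosure R P0 B (∑ i ∈ Z, i.1 ⊗ₜ i.2)) : P0 ⊗[R] B) = 0 := by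
      rw [← hnat π]
      exact congrArg Subtype.val hz
    obtain ⟨K, hK0, hK⟩ := hkill _ hz'
    obtain ⟨C, _, _, _, ρ, h, hρ, hρ0⟩ := key (Z.image Prod.fst ∪ K.image Prod.fst)
    have h1 : TensorProduct.toIntegralClosure R C B (Algebra.TensorProduct.map ρ (AlgHom.id R A) (∑ i ∈ Z, i.1 ⊗ₜ i.2)) = 0 := by
      apply Subtype.ext
      rw [hnat ρ, hK, map_sum, ZeroMemClass.coe_zero]
      refine Finset.sum_eq_zero fun i hi => ?_
      show ρ i.1 ⊗ₜ[R] i.2 = 0
      rw [hρ0 i.1 (Finset.mem_union_right _ (Finset.mem_image_of_mem _ hi)) (hK0 i hi), zero_tmul]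
    rw [← map_zero (TensorProduct.toIntegralClosure R C B)] at h1
    have h2 := (TensorProduct.toIntegralClosure_bijective_of_smooth (R := R) (S := C) (B := B)).1 h1
    have h3 := congrArg (Algebra.TensorProduct.map h (AlgHom.id R A)) h2
    rw [map_zero] at h3
    refine Eq.trans ?_ h3
    simp only [map_sum]
    refine Finset.sum_congr rfl fun i hi => ?_
    show π i.1 ⊗ₜ[R] i.2 = h (ρ i.1) ⊗ₜ[R] i.2
    rw [hρ i.1 (Finset.mem_union_left _ (Finset.mem_image_of_mem _ hi))]
  · rintro ⟨x, hx⟩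
    obtain ⟨p, hp, hpx⟩ := hx
    obtain ⟨p0, hp0, -, hp0m⟩ := Polynomial.lifts_and_natDegree_eq_and_monic
      ((Polynomial.mem_lifts p).2 (Polynomial.map_surjective π.toRingHom hπ p)) hp
    obtain ⟨x0, hx0⟩ := LinearMap.rTensor_surjective B (g := π.toLinearMap) hπ x
    change m π x0 = x at hx0
    have hy : m π (p0.eval₂ (algebraMap P0 (P0 ⊗[R] B)) x0) = 0 := by
      have e : ((m π).toRingHom).comp (algebraMap P0 (P0 ⊗[R] B)) = (algebraMap S (S ⊗[R] B)).comp π.toRingHom :=
        RingHom.ext fun q => by simp [m]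
      show (m π).toRingHom _ = 0
      rw [Polynomial.hom_eval₂, e, ← Polynomial.eval₂_map, hp0]
      rw [show (m π).toRingHom x0 = x from hx0]
      exact hpx
    obtain ⟨K, hK0, hK⟩ := hkill _ hy
    obtain ⟨X0, hX0⟩ := TensorProduct.exists_finset x0
    obtain ⟨C, _, _, _, ρ, h, hρ, hρ0⟩ := key (X0.image Prod.fst ∪ K.image Prod.fst)
    have hint : IsIntegral C (m ρ x0) := by
      refine ⟨p0.map ρ.toRingHom, hp0m.map _, ?_⟩
      have e : (algebraMap C (C ⊗[R] B)).comp ρ.toRingHom = ((m ρ).toRingHom).comp (algebraMap P0 (P0 ⊗[R] B)) :=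
        RingHom.ext fun q => by simp [m]
      rw [Polynomial.eval₂_map, e]
      show Polynomial.eval₂ _ ((m ρ).toRingHom x0) p0 = 0
      rw [← Polynomial.hom_eval₂, hK, map_sum]
      refine Finset.sum_eq_zero fun i hi => ?_
      show ρ i.1 ⊗ₜ[R] i.2 = 0
      rw [hρ0 i.1 (Finset.mem_union_right _ (Finset.mem_image_of_mem _ hi)) (hK0 i hi), zero_tmul]
    obtain ⟨w, hw⟩ := (TensorProduct.toIntegralClosure_bijective_of_smooth (R := R) (S := C) (B := B)).2 ⟨_, hint⟩
    refine ⟨Algebra.TensorProduct.map h (AlgHom.id R A) w, Subtype.ext ?_⟩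
    rw [hnat h, hw]
    show m h (m ρ x0) = x
    rw [← hx0, hX0]
    simp only [map_sum]
    refine Finset.sum_congr rfl fun i hi => ?_
    show h (ρ i.1) ⊗ₜ[R] i.2 = π i.1 ⊗ₜ[R] i.2
    rw [hρ i.1 (Finset.mem_union_left _ (Finset.mem_image_of_mem _ hi))]

end Groth.Agent.S9446
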