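import Groth.Statements.S9448
import Groth.Agent.EtaleAlgebra.EtaleCriterion
import Groth.Agent.EtaleAlgebra.EtaleCoord
-- import your own Groth.Agent.* helpers here

set_option autoImplicit false
universe u
open Unram

namespace Groth.Agent.S9448

/-- For a field k and a finite type algebra A over the polynomial ring k[x_1, …, x_n] (the variables
mapping to a_1, …, a_n), the structure map is étale if and only if (a) the local rings of A at all
maximal ideals have dimension n and (b) da_1, …, da_n generate the module of differentials of A over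
k. -/
theorem result (k : Type u) [Field k] (n : ℕ)
    (A : Type u) [CommRing A] [Algebra k A] [Algebra (MvPolynomial (Fin n) k) A]
    [IsScalarTower k (MvPolynomial (Fin n) k) A] [Algebra.FiniteType (MvPolynomial (Fin n) k) A] :
    Algebra.Etale (MvPolynomial (Fin n) k) A ↔
      (∀ (m : Ideal A) [m.IsMaximal], ringKrullDim (Localization.AtPrime m) = n) ∧
        Submodule.span A (Set.range fun i : Fin n =>
          KaehlerDifferential.D k A (algebraMap (MvPolynomial (Fin n) k) A (MvPolynomial.X i))) = ⊤ := by
  let P := MvPolynomial (Fin n) k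
  haveI : Algebra.FiniteType k A := Algebra.FiniteType.trans (S := P) inferInstance ‹_›
  have hspan := Groth.Agent.EtaleAlgebra.EtaleCoord.formallyUnramified_iff_span k A (Fin n)
  rw [← hspan]
  refine ⟨fun h => ⟨fun m _ => Groth.Agent.EtaleAlgebra.EtaleCriterion.ringKrullDim_atPrime_of_etale (k := k) (n := n) m,
    inferInstance⟩, fun ⟨hd, hu⟩ => ?_⟩
  haveI : Algebra.FinitePresentation P A :=
    Algebra.FinitePresentation.of_finiteType.mp inferInstance
  suffices h : Algebra.FormallyEtale P A from { }
  rw [← Algebra.etaleLocus_eq_univ_iff]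
  have hmax : ∀ (m : Ideal A) [m.IsMaximal], Algebra.IsEtaleAt P m := by
    intro m _
    haveI : Algebra.IsUnramifiedAt P m := by
      haveI := Algebra.FormallyUnramified.of_isLocalization (R := A) (Rₘ := Localization.AtPrime m) m.primeCompl
      exact Algebra.FormallyUnramified.comp P A _
    exact Groth.Agent.EtaleAlgebra.EtaleCriterion.isEtaleAt_of_isUnramifiedAt m fun f hf =>
      Groth.Agent.EtaleAlgebra.EtaleCriterion.natCast_le_ringKrullDim_of_atPrime m (hd m).ge f hf
  refine Set.eq_univ_of_forall fun q => ?_
  obtain ⟨m, hm, hqm⟩ := Ideal.exists_le_maximal q.asIdeal q.2.ne_top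
  exact (Algebra.isOpen_etaleLocus.stableUnderGeneralization
    ((PrimeSpectrum.le_iff_specializes q ⟨m, hm.isPrime⟩).mp hqm) (hmax m) :)

end Groth.Agent.S9448
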