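import Groth.Statements.S9450
import Mathlib

set_option autoImplicit false
universe u
open CAlg

namespace Groth.Agent.S9450

/-- For ring maps A → B → C with A → C surjective and A → B formally smooth, writing I = ker(A → C) and
J = ker(B → C), the sequence 0 → I/I² → J/J² → C ⊗_B Ω_{B/A} → 0 is split exact: the first map is
injective and admits an A-linear retraction, its range is the kernel of the second map (class of x ↦
1 ⊗ dx), and the second map is surjective. -/
theorem result (A : Type u) [CommRing A]
    (B : Type u) [CommRing B] [Algebra A B] [Algebra.FormallySmooth A B] (C : Type u) [CommRing C]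
    [Algebra B C] [Algebra A C] [IsScalarTower A B C] (hC : Function.Surjective (algebraMap A C)) :
    Function.Injective (Ideal.mapCotangent (RingHom.ker (algebraMap A C))
        (RingHom.ker (algebraMap B C)) (Algebra.ofId A B)
        (le_of_eq (congrArg RingHom.ker (IsScalarTower.algebraMap_eq A B C)))) ∧
      (∃ r : (RingHom.ker (algebraMap B C)).Cotangent →ₗ[A] (RingHom.ker (algebraMap A C)).Cotangent,
        r ∘ₗ (Ideal.mapCotangent (RingHom.ker (algebraMap A C)) (RingHom.ker (algebraMap B C))
          (Algebra.ofId A B)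
          (le_of_eq (congrArg RingHom.ker (IsScalarTower.algebraMap_eq A B C)))) = LinearMap.id) ∧
      LinearMap.range (Ideal.mapCotangent (RingHom.ker (algebraMap A C))
          (RingHom.ker (algebraMap B C)) (Algebra.ofId A B)
          (le_of_eq (congrArg RingHom.ker (IsScalarTower.algebraMap_eq A B C)))) =
        LinearMap.ker ((KaehlerDifferential.kerCotangentToTensor A B C).restrictScalars A) ∧
      Function.Surjective (KaehlerDifferential.kerCotangentToTensor A B C) := by
  classical
  let I : Ideal A := RingHom.ker (algebraMap A C)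
  let J : Ideal B := RingHom.ker (algebraMap B C)
  have hIJ : ∀ a ∈ I, algebraMap A B a ∈ J := fun a ha => by
    rw [RingHom.mem_ker, ← IsScalarTower.algebraMap_apply]; exact ha
  have hI2 : ∀ a ∈ I ^ 2, algebraMap A B a ∈ J ^ 2 := fun a ha => by
    have h : (I ^ 2).map (algebraMap A B) ≤ J ^ 2 := by
      rw [Ideal.map_pow]
      exact Ideal.pow_right_mono (Ideal.map_le_iff_le_comap.mpr hIJ) 2
    exact h (Ideal.mem_map_of_mem _ ha)
  let g : (A ⧸ I ^ 2) →ₐ[A] C := Ideal.Quotient.liftₐ (I ^ 2) (Algebra.ofId A C)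
    fun a ha => (Ideal.pow_le_self two_ne_zero : I ^ 2 ≤ I) ha
  have hgmk : ∀ a, g (Ideal.Quotient.mk _ a) = algebraMap A C a := fun a => rfl
  have hg : Function.Surjective g := fun c => by
    obtain ⟨a, rfl⟩ := hC c; exact ⟨Ideal.Quotient.mk _ a, rfl⟩
  have hnil : IsNilpotent (RingHom.ker (g : (A ⧸ I ^ 2) →+* C)) := by
    refine ⟨2, le_bot_iff.mp ?_⟩
    have hle : RingHom.ker (g : (A ⧸ I ^ 2) →+* C) ≤ I.map (Ideal.Quotient.mk (I ^ 2)) := by
      intro x hx
      obtain ⟨a, rfl⟩ := Ideal.Quotient.mk_surjective x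
      exact Ideal.mem_map_of_mem _ (show a ∈ I from hx)
    refine (Ideal.pow_right_mono hle 2).trans ?_
    rw [← Ideal.map_pow, Ideal.map_quotient_self]
  let f : B →ₐ[A] A ⧸ I ^ 2 :=
    Algebra.FormallySmooth.liftOfSurjective (IsScalarTower.toAlgHom A B C) g hg hnil
  have hgf : ∀ b, g (f b) = algebraMap B C b :=
    Algebra.FormallySmooth.liftOfSurjective_apply _ g hg hnil
  choose s hs using Ideal.Quotient.mk_surjective (I := I ^ 2)
  have hsC : ∀ b, algebraMap A C (s (f b)) = algebraMap B C b := fun b => by
    rw [← hgmk, hs, hgf]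
  have hmem : ∀ b, b - algebraMap A B (s (f b)) ∈ J := fun b => by
    rw [RingHom.mem_ker, map_sub, ← IsScalarTower.algebraMap_apply, hsC, sub_self]
  have hdiff : ∀ a a' : A, Ideal.Quotient.mk (I ^ 2) a = Ideal.Quotient.mk (I ^ 2) a' →
      algebraMap A B a - algebraMap A B a' ∈ J ^ 2 := fun a a' h => by
    rw [← map_sub]; exact hI2 _ (Ideal.Quotient.eq.mp h)
  -- the derivation `b ↦ b - s (f b)`
  let δ₀ : B → J.Cotangent := fun b => J.toCotangent ⟨_, hmem b⟩
  have hδ : ∀ (b : B) (y : J), b - algebraMap A B (s (f b)) - (y : B) ∈ J ^ 2 →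
      δ₀ b = J.toCotangent y := fun b y h => Ideal.toCotangent_eq _ |>.mpr h
  let L₀ : B →ₗ[A] J.Cotangent :=
    { toFun := δ₀
      map_add' := fun b c => by
        show δ₀ (b + c) = δ₀ b + δ₀ c
        rw [← map_add J.toCotangent]
        refine hδ _ _ ?_
        have := hdiff (s (f (b + c))) (s (f b) + s (f c)) (by simp only [map_add, hs])
        convert neg_mem this using 1
        simp only [map_add, Submodule.coe_add]
        ring
      map_smul' := fun a b => by
        show δ₀ (a • b) = a • δ₀ b
        rw [← algebraMap_smul B a (δ₀ b), ← map_smul J.toCotangent]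
        refine hδ _ _ ?_
        have := hdiff (s (f (a • b))) (a * s (f b)) (by
          rw [map_mul, hs, hs, map_smul, Algebra.smul_def]; rfl)
        convert neg_mem this using 1
        simp only [map_mul, Submodule.coe_smul_of_tower, Algebra.smul_def, algebraMap_smul]
        ring }
  let δ : Derivation A B J.Cotangent := Derivation.mk' L₀ fun b c => by
    show δ₀ (b * c) = b • δ₀ c + c • δ₀ b
    rw [← map_smul J.toCotangent, ← map_smul J.toCotangent, ← map_add J.toCotangent]
    refine hδ _ _ ?_
    have h1 := hdiff (s (f (b * c))) (s (f b) * s (f c)) (by simp only [map_mul, hs])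
    have h2 : (b - algebraMap A B (s (f b))) * (c - algebraMap A B (s (f c))) ∈ J ^ 2 := by
      rw [pow_two]; exact Ideal.mul_mem_mul (hmem b) (hmem c)
    convert sub_mem (neg_mem h1) h2 using 1
    simp only [map_mul, Submodule.coe_add, Submodule.coe_smul, smul_eq_mul]
    ring
  have hkill : ∀ (j : B), j ∈ J → ∀ z : J.Cotangent, j • z = 0 := fun j hj z => by
    obtain ⟨y, rfl⟩ := J.toCotangent_surjective z
    rw [← map_smul, Ideal.toCotangent_eq_zero, pow_two]
    exact Ideal.mul_mem_mul hj y.2
  have hsurjB : Function.Surjective (algebraMap B C) := fun c => by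
    obtain ⟨a, rfl⟩ := hC c
    exact ⟨algebraMap A B a, (IsScalarTower.algebraMap_apply A B C a).symm⟩
  have key : ∀ ω : Ω[B⁄A], (1 : C) ⊗ₜ[B] ω = 0 → δ.liftKaehlerDifferential ω = 0 := by
    intro ω h
    let e : (B ⧸ J) ≃ₐ[B] C :=
      Ideal.quotientKerAlgEquivOfSurjective (f := Algebra.ofId B C) hsurjB
    have h1 : (1 : B ⧸ J) ⊗ₜ[B] ω = 0 := by
      have := congrArg (LinearMap.rTensor Ω[B⁄A] e.symm.toLinearMap) h
      simpa using this
    have h2 := congrArg (TensorProduct.quotTensorEquivQuotSMul Ω[B⁄A] J) h1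
    rw [map_zero, show (1 : B ⧸ J) = Ideal.Quotient.mk J 1 from rfl] at h2
    rw [TensorProduct.quotTensorEquivQuotSMul_mk_tmul, one_smul, Submodule.Quotient.mk_eq_zero] at h2
    refine Submodule.smul_induction_on h2 (fun j hj z _ => ?_) fun x y hx hy => ?_
    · rw [map_smul, hkill j hj]
    · rw [map_add, hx, hy, add_zero]
  -- the retraction
  have hr₀ : ∀ y : J, s (f (y : B)) ∈ I := fun y => by
    rw [RingHom.mem_ker, hsC]; exact y.2
  have hrep : ∀ (a : A) (ha : a ∈ I) (y : I), Ideal.Quotient.mk (I ^ 2) a = Ideal.Quotient.mk _ (y : A) →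
      I.toCotangent ⟨a, ha⟩ = I.toCotangent y := fun a ha y h =>
    Ideal.toCotangent_eq _ |>.mpr (Ideal.Quotient.eq.mp h)
  let ρ : J →ₗ[A] I.Cotangent :=
    { toFun := fun y => I.toCotangent ⟨_, hr₀ y⟩
      map_add' := fun y z => by
        rw [← map_add I.toCotangent]
        exact hrep _ _ _ (by simp [hs, map_add])
      map_smul' := fun a y => by
        rw [RingHom.id_apply, ← map_smul I.toCotangent]
        refine hrep _ _ _ ?_
        simp only [Submodule.coe_smul_of_tower, hs, map_smul, smul_eq_mul, map_mul]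
        rw [Algebra.smul_def]; rfl }
  have hρ0 : ((J • ⊤ : Submodule B J).restrictScalars A) ≤ LinearMap.ker ρ := by
    intro y hy
    rw [Submodule.restrictScalars_mem] at hy
    refine Submodule.smul_induction_on hy (fun j hj z _ => ?_) fun x z hx hz => ?_
    · rw [LinearMap.mem_ker]
      show I.toCotangent _ = 0
      refine (hrep _ _ 0 ?_).trans (map_zero _)
      have hp : ∀ w : J, f (w : B) ∈ I.map (Ideal.Quotient.mk (I ^ 2)) := fun w => by
        rw [← hs (f (w : B))]; exact Ideal.mem_map_of_mem _ (hr₀ w)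
      have h3 := Ideal.mul_mem_mul (hp ⟨j, hj⟩) (hp z)
      rw [← Ideal.map_mul, ← pow_two, Ideal.map_quotient_self, Ideal.mem_bot] at h3
      simpa [hs] using h3
    · exact add_mem hx hz
  let r : J.Cotangent →ₗ[A] I.Cotangent :=
    (((J • ⊤ : Submodule B J).restrictScalars A).liftQ ρ hρ0).comp
      (Submodule.Quotient.restrictScalarsEquiv A (J • ⊤ : Submodule B J)).symm.toLinearMap
  have hr : ∀ y : J, r (J.toCotangent y) = I.toCotangent ⟨_, hr₀ y⟩ := fun y => rfl
  have hleft : ∀ (i : I.Cotangent), r (Ideal.mapCotangent I J (Algebra.ofId A B)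
      (le_of_eq (congrArg RingHom.ker (IsScalarTower.algebraMap_eq A B C))) i) = i := by
    intro i
    obtain ⟨a, rfl⟩ := I.toCotangent_surjective i
    rw [Ideal.mapCotangent_toCotangent, hr]
    exact hrep _ _ _ (by rw [hs]; exact f.commutes a)
  refine ⟨Function.LeftInverse.injective hleft, ⟨r, LinearMap.ext hleft⟩, le_antisymm ?_ ?_, ?_⟩
  · rintro _ ⟨i, rfl⟩
    obtain ⟨a, rfl⟩ := I.toCotangent_surjective i
    rw [LinearMap.mem_ker, LinearMap.restrictScalars_apply, Ideal.mapCotangent_toCotangent,
      KaehlerDifferential.kerCotangentToTensor_toCotangent]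
    simp
  · intro z hz
    obtain ⟨y, rfl⟩ := J.toCotangent_surjective z
    rw [LinearMap.mem_ker, LinearMap.restrictScalars_apply,
      KaehlerDifferential.kerCotangentToTensor_toCotangent] at hz
    have h0 := key _ hz
    rw [Derivation.liftKaehlerDifferential_comp_D] at h0
    refine ⟨I.toCotangent ⟨_, hr₀ y⟩, ?_⟩
    rw [Ideal.mapCotangent_toCotangent, Ideal.toCotangent_eq]
    have h1 : (y : B) - algebraMap A B (s (f (y : B))) ∈ J ^ 2 :=
      (J.toCotangent_eq_zero _).mp h0
    convert neg_mem h1 using 1
    rw [neg_sub]; rfl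
  · intro t
    show t ∈ LinearMap.range (KaehlerDifferential.kerCotangentToTensor A B C)
    induction t using TensorProduct.induction_on with
    | zero => exact zero_mem _
    | add a b ha hb => exact add_mem ha hb
    | tmul c ω =>
      obtain ⟨b, rfl⟩ := hsurjB c
      rw [Algebra.algebraMap_eq_smul_one, ← TensorProduct.smul_tmul']
      refine Submodule.smul_mem _ b ?_
      have hω : ω ∈ Submodule.span B (Set.range (KaehlerDifferential.D A B)) := by
        rw [KaehlerDifferential.span_range_derivation]; trivial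
      induction hω using Submodule.span_induction with
      | mem w hw =>
        obtain ⟨b', rfl⟩ := hw
        refine ⟨J.toCotangent ⟨_, hmem b'⟩, ?_⟩
        rw [KaehlerDifferential.kerCotangentToTensor_toCotangent]
        simp
      | zero => rw [TensorProduct.tmul_zero]; exact zero_mem _
      | add p q _ _ hp hq => rw [TensorProduct.tmul_add]; exact add_mem hp hq
      | smul q p _ hp => rw [TensorProduct.tmul_smul]; exact Submodule.smul_mem _ q hp

end Groth.Agent.S9450
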