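import Groth.Statements.S9451
import Mathlib

set_option autoImplicit false
universe u
open CategoryTheory CategoryTheory.Limits TensorProduct
open CAlg

namespace Groth.Agent.S9451

/-- Let (A_i) be a filtered system of rings with colimit A and B a smooth A-algebra. Then some stage A_i
carries a smooth A_i-algebra B_i with B isomorphic to A ⊗_{A_i} B_i as A-algebras (the base change
along the colimit map A_i → A; existence of an isomorphism). -/
theorem result {I : Type u} [SmallCategory I] [IsFiltered I]
    (D : I ⥤ CommRingCat.{u}) (c : Cocone D) (hc : IsColimit c) (B : Type u) [CommRing B]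
    [Algebra c.pt B] [Algebra.Smooth c.pt B] :
    ∃ (i : I) (Bi : Type u) (_ : CommRing Bi) (_ : Algebra (D.obj i) Bi),
      Algebra.Smooth (D.obj i) Bi ∧
      (letI : Algebra (D.obj i) c.pt := (c.ι.app i).hom.toAlgebra
       Nonempty (B ≃ₐ[c.pt] (c.pt ⊗[D.obj i] Bi))) := by
  obtain ⟨A₀, B₀, _, _, hA₀, hB₀, ⟨eB⟩⟩ := Algebra.Smooth.exists_subalgebra_fg ℤ c.pt B
  have : Algebra.FiniteType ℤ A₀ := (Subalgebra.fg_iff_finiteType A₀).mp hA₀
  let R : CommRingCat.{u} := CommRingCat.of (ULift.{u} ℤ)
  let z : ∀ S : CommRingCat.{u}, R ⟶ S := fun S =>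
    CommRingCat.ofHom ((Int.castRingHom S).comp ULift.ringEquiv.toRingHom)
  have zuniq : ∀ (S : CommRingCat.{u}) (φ : R ⟶ S), φ = z S := fun S φ => by
    ext1
    exact (RingHom.ext_int (φ.hom.comp (ULift.ringEquiv.{0, u}.symm.toRingHom)) (Int.castRingHom S)) |>
      fun h => by
        refine RingHom.ext fun x => ?_
        have h1 := congrArg (fun ψ : ℤ →+* S => ψ x.down) h
        exact h1
  let α : (Functor.const I).obj R ⟶ D :=
    { app := fun i => z (D.obj i)
      naturality := fun i j φ => by
        simp only [Functor.const_obj_map, Category.id_comp]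
        exact (zuniq _ _).symm }
  let f : R ⟶ CommRingCat.of A₀ := z _
  have hf : f.hom.FinitePresentation := by
    refine RingHom.FinitePresentation.comp ?_
      (RingHom.FinitePresentation.of_surjective _ ULift.ringEquiv.surjective ?_)
    · rw [show Int.castRingHom (A₀ : Type u) = algebraMap ℤ A₀ from (algebraMap_int_eq _).symm,
        RingHom.finitePresentation_algebraMap]
      exact Algebra.FinitePresentation.of_finiteType.mp inferInstance
    · refine ⟨∅, ?_⟩
      rw [Finset.coe_empty, Ideal.span_empty, eq_comm, eq_bot_iff]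
      exact fun x hx => ULift.ringEquiv.injective ((RingHom.mem_ker.mp hx).trans (map_zero _).symm)
  obtain ⟨i, g, -, hg⟩ := RingHom.EssFiniteType.exists_eq_comp_ι_app_of_isColimit R D α f c hc hf
    (CommRingCat.ofHom A₀.val.toRingHom) (fun i => (zuniq _ _).trans (zuniq _ _).symm)
  let _ : Algebra A₀ (D.obj i) := g.hom.toAlgebra
  let _ : Algebra (D.obj i) c.pt := (c.ι.app i).hom.toAlgebra
  have : IsScalarTower A₀ (D.obj i) c.pt := .of_algebraMap_eq fun x =>
    congrArg (fun φ => φ.hom x) hg
  refine ⟨i, (D.obj i) ⊗[A₀] B₀, inferInstance, inferInstance, inferInstance, ?_⟩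
  exact ⟨eB.trans (Algebra.TensorProduct.cancelBaseChange A₀ (D.obj i) c.pt c.pt B₀).symm⟩

end Groth.Agent.S9451
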