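import Groth.Statements.S9452
import Groth.Agent.EtaleAlgebra.UnramifiedSplitProd
-- import your own Groth.Agent.* helpers here

set_option autoImplicit false
universe u
open Unram

namespace Groth.Agent.S9452

open TensorProduct in
/-- Let R → S be of finite type and unramified at a prime q lying over p. Then there are an étale
R-algebra R', a prime p' of R' over p and an R'-algebra isomorphism e : R' ⊗_R S ≅ A × B with R' → A
surjective and p'A a prime ideal of A lying over p' whose pull-back along S → R' ⊗_R S ≅ A × B → A
is q. -/
theorem result (R : Type u) [CommRing R]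
    (S : Type u) [CommRing S] [Algebra R S] [Algebra.FiniteType R S] (q : Ideal S) [q.IsPrime]
    [Algebra.IsUnramifiedAt R q] :
    ∃ (R' : Type u) (_ : CommRing R') (_ : Algebra R R') (_ : Algebra.Etale R R') (p' : Ideal R')
      (_ : p'.IsPrime) (_ : p'.LiesOver (q.under R)) (A : Type u) (_ : CommRing A) (_ : Algebra R' A)
      (B : Type u) (_ : CommRing B) (_ : Algebra R' B) (e : (R' ⊗[R] S) ≃ₐ[R'] (A × B)),
      Function.Surjective (algebraMap R' A) ∧ (p'.map (algebraMap R' A)).IsPrime ∧
        (p'.map (algebraMap R' A)).comap (algebraMap R' A) = p' ∧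
        (p'.map (algebraMap R' A)).comap (((RingHom.fst A B).comp e.toRingHom).comp
          (Algebra.TensorProduct.includeRight : S →ₐ[R] R' ⊗[R] S).toRingHom) = q := by
  obtain ⟨R', _, _, _, p', _, _, K, I, ε, hK, -, hε, -⟩ :=
    Groth.Agent.EtaleAlgebra.UnramifiedSplitProd.exists_split_one R S q
  have hs := Ideal.Quotient.mk_surjective (I := K)
  refine ⟨R', inferInstance, inferInstance, inferInstance, p', inferInstance, inferInstance,
    R' ⧸ K, inferInstance, inferInstance, _, inferInstance, inferInstance, ε, hs,
    Ideal.map_isPrime_of_surjective hs (by rwa [Ideal.mk_ker]), ?_, ?_⟩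
  · show (p'.map (Ideal.Quotient.mk K)).comap (Ideal.Quotient.mk K) = p'
    rw [Ideal.comap_map_of_surjective _ hs, ← RingHom.ker_eq_comap_bot, Ideal.mk_ker, sup_eq_left.mpr hK]
  · ext s
    exact hε s

end Groth.Agent.S9452
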