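import Groth.Statements.S9455
import Groth.Agent.Calg2.CohenRing

set_option autoImplicit false
universe u
open CAlg

namespace Groth.Agent.S9455

/-- If Λ is a Cohen ring (a complete discrete valuation ring with maximal ideal generated by a prime
number p) then Λ/p^nΛ is formally smooth over ℤ/p^nℤ for every n ≥ 1; the ℤ/p^nℤ-algebra structure
on Λ/p^nΛ is the unique one and is taken as a hypothesis. -/
theorem result (Λ : Type u) [CommRing Λ] [IsDomain Λ]
    [IsDiscreteValuationRing Λ] [IsAdicComplete (IsLocalRing.maximalIdeal Λ) Λ] (p : ℕ)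
    (hp : p.Prime) (hm : IsLocalRing.maximalIdeal Λ = Ideal.span {(p : Λ)}) (n : ℕ) (hn : 1 ≤ n)
    [Algebra (ZMod (p ^ n)) (Λ ⧸ Ideal.span {((p : Λ) ^ n)})] :
    Algebra.FormallySmooth (ZMod (p ^ n)) (Λ ⧸ Ideal.span {((p : Λ) ^ n)}) := by
  classical
  haveI := Fact.mk hp
  haveI : (Ideal.span {(p : Λ)}).IsMaximal := hm ▸ IsLocalRing.maximalIdeal.isMaximal Λ
  have hp0 : (p : Λ) ≠ 0 := fun h0 =>
    IsDiscreteValuationRing.not_a_field Λ (by rw [hm, h0]; exact Ideal.span_singleton_eq_bot.2 rfl)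
  have hreg : ∀ x : Λ, (p : Λ) * x = 0 → x = 0 := fun x hx => (mul_eq_zero.1 hx).resolve_left hp0
  refine Algebra.FormallySmooth.of_comp_surjective fun B _ _ I hI g => ?_
  have hpn : ((p : B)) ^ n = 0 := by
    rw [← Nat.cast_pow, ← map_natCast (algebraMap (ZMod (p ^ n)) B) (p ^ n), ZMod.natCast_self, map_zero]
  let F : ℕ → Ideal B := fun k => Ideal.span {(p : B) ^ k} * I
  have hF0 : F 0 = I := by simp [F, Ideal.span_singleton_one]
  have hFn : F n = ⊥ := by simp [F, hpn, Ideal.span_singleton_zero]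
  have hdec : ∀ k, F (k + 1) ≤ F k := fun k =>
    Ideal.mul_mono_left (Ideal.span_singleton_le_span_singleton.2 (pow_dvd_pow _ k.le_succ))
  have hII : I * I = ⊥ := by
    rw [← hI, show (2 : ℕ) = 1 + 1 from rfl, Submodule.pow_succ, Submodule.pow_one]
  have key : ∀ k, ∃ G : Λ →+* B ⧸ F k, (Ideal.Quotient.factor (Ideal.mul_le_right : F k ≤ I)).comp G =
      (g : (Λ ⧸ Ideal.span {((p : Λ) ^ n)}) →+* B ⧸ I).comp (Ideal.Quotient.mk _) := by
    intro k
    induction k with
    | zero =>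
      refine ⟨(Ideal.quotEquivOfEq hF0.symm).toRingHom.comp
        ((g : (Λ ⧸ Ideal.span {((p : Λ) ^ n)}) →+* B ⧸ I).comp (Ideal.Quotient.mk _)), RingHom.ext fun l => ?_⟩
      obtain ⟨c, hc⟩ := Ideal.Quotient.mk_surjective (g (Ideal.Quotient.mk _ l))
      simp only [RingHom.comp_apply, RingEquiv.toRingHom_eq_coe, RingEquiv.coe_toRingHom, RingHom.coe_coe, ← hc, Ideal.quotEquivOfEq_mk]
      exact Ideal.Quotient.factor_mk _ c
    | succ k ih =>
      obtain ⟨G, hG⟩ := ih
      obtain ⟨G', hG'⟩ := Calg2.CohenRing.exists_lift_square_zero hreg G (Ideal.Quotient.factor (hdec k))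
        (Ideal.Quotient.factor_surjective _) (fun a b ha hb => by
          obtain ⟨a, rfl⟩ := Ideal.Quotient.mk_surjective a
          obtain ⟨b, rfl⟩ := Ideal.Quotient.mk_surjective b
          rw [Ideal.Quotient.factor_mk, Ideal.Quotient.eq_zero_iff_mem] at ha hb
          have : a * b ∈ I * I := Ideal.mul_mem_mul (Ideal.mul_le_right ha) (Ideal.mul_le_right hb)
          rw [hII, Ideal.mem_bot] at this
          rw [← map_mul, this, map_zero])
        (fun a ha => by
          obtain ⟨a, rfl⟩ := Ideal.Quotient.mk_surjective a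
          rw [Ideal.Quotient.factor_mk, Ideal.Quotient.eq_zero_iff_mem] at ha
          rw [← map_natCast (Ideal.Quotient.mk (F (k + 1))), ← map_mul, Ideal.Quotient.eq_zero_iff_mem]
          obtain ⟨z, hz, rfl⟩ := Ideal.mem_span_singleton_mul.1 ha
          exact Ideal.mem_span_singleton_mul.2 ⟨z, hz, by ring⟩)
      refine ⟨G', RingHom.ext fun l => ?_⟩
      rw [← hG, ← hG']
      obtain ⟨c, hc⟩ := Ideal.Quotient.mk_surjective (G' l)
      simp only [RingHom.comp_apply, ← hc]
      exact (Ideal.Quotient.factor_mk _ c).trans (Eq.trans (Ideal.Quotient.factor_mk _ c).symm (congrArg _ (Ideal.Quotient.factor_mk _ c).symm))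
  obtain ⟨G, hG⟩ := key n
  let toB : B ⧸ F n →+* B := Ideal.Quotient.lift (F n) (RingHom.id B) (fun a ha => by
    rw [hFn, Ideal.mem_bot] at ha
    exact ha)
  let G0 : Λ →+* B := toB.comp G
  have hker : ∀ a ∈ Ideal.span {((p : Λ) ^ n)}, G0 a = 0 := by
    intro a ha
    obtain ⟨w, rfl⟩ := Ideal.mem_span_singleton.1 ha
    rw [map_mul, map_pow, map_natCast, hpn, zero_mul]
  let f0 := Ideal.Quotient.lift _ G0 hker
  have hcomm : f0.comp (algebraMap (ZMod (p ^ n)) _) = algebraMap (ZMod (p ^ n)) B := RingHom.ext_zmod _ _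
  refine ⟨{ f0 with commutes' := fun r => RingHom.congr_fun hcomm r }, ?_⟩
  refine AlgHom.ext fun y => ?_
  obtain ⟨l, rfl⟩ := Ideal.Quotient.mk_surjective y
  change Ideal.Quotient.mk I (G0 l) = _
  have h1 := RingHom.congr_fun hG l
  obtain ⟨c, hc⟩ := Ideal.Quotient.mk_surjective (G l)
  rw [RingHom.comp_apply, ← hc, Ideal.Quotient.factor_mk] at h1
  simp only [G0, toB, RingHom.comp_apply, ← hc, Ideal.Quotient.lift_mk, RingHom.id_apply]
  exact h1

end Groth.Agent.S9455
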