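import Groth.Statements.S9456
import Groth.Agent.FlatMorOne.FlatLocusModelFlat

set_option autoImplicit false
universe u
open CAlg

namespace Groth.Agent.S9456

/-- Let R → S be of finite presentation and M a finitely presented S-module which is flat over R. Then
the triple descends to a finite type ℤ-algebra: there are R₀ of finite type over ℤ with R₀ → R, a
finite type R₀-algebra S₀ with a compatible map S₀ → S making S the base change R ⊗_{R₀} S₀, and a
finite S₀-module M₀ flat over R₀ with an S₀-linear map M₀ → M making M the base change S ⊗_{S₀} M₀. -/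
theorem result (R : Type u) [CommRing R]
    (S : Type u) [CommRing S] [Algebra R S] [Algebra.FinitePresentation R S] (M : Type u)
    [AddCommGroup M] [Module S M] [Module R M] [IsScalarTower R S M]
    [Module.FinitePresentation S M] [Module.Flat R M] :
    ∃ (R₀ : Type u) (_ : CommRing R₀) (_ : Algebra R₀ R) (S₀ : Type u) (_ : CommRing S₀)
      (_ : Algebra R₀ S₀) (_ : Algebra S₀ S) (_ : Algebra R₀ S) (_ : IsScalarTower R₀ R S)
      (_ : IsScalarTower R₀ S₀ S) (M₀ : Type u) (_ : AddCommGroup M₀) (_ : Module S₀ M₀)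
      (_ : Module R₀ M₀) (_ : IsScalarTower R₀ S₀ M₀) (_ : Module S₀ M) (_ : IsScalarTower S₀ S M)
      (f : M₀ →ₗ[S₀] M),
      Algebra.FiniteType ℤ R₀ ∧ Algebra.FiniteType R₀ S₀ ∧ Module.Finite S₀ M₀ ∧ Module.Flat R₀ M₀ ∧
        Algebra.IsPushout R₀ R S₀ S ∧ IsBaseChange S f := by
  exact Groth.FlatMorOne.exists_flat_model R S M

end Groth.Agent.S9456
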