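import Groth.Statements.S9457
import Mathlib
import Groth.Agent.Calg5.EtaleSplit

set_option autoImplicit false
universe u
open CAlg

namespace Groth.Agent.S9457

open TensorProduct in
/-- For a finite type ring map R → S and a prime p of R there are an étale R-algebra R', a prime p' of
R' over p with trivial residue field extension κ(p) = κ(p') (the image of R generates κ(p') as a
field), and a decomposition R' ⊗_R S ≅ A_1 × ⋯ × A_n × B of R'-algebras in which every A_i is finite
over R' with exactly one prime lying over p' and R' → B is quasi-finite at no prime of B lying over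
p'. -/
theorem result (R : Type u) [CommRing R]
    (S : Type u) [CommRing S] [Algebra R S] [Algebra.FiniteType R S] (p : Ideal R) [p.IsPrime] :
    ∃ (R' : Type u) (_ : CommRing R') (_ : Algebra R R') (_ : Algebra.Etale R R') (p' : Ideal R')
      (_ : p'.IsPrime) (_ : p'.LiesOver p) (n : ℕ) (A : Fin n → Type u) (_ : ∀ i, CommRing (A i))
      (_ : ∀ i, Algebra R' (A i)) (B : Type u) (_ : CommRing B) (_ : Algebra R' B),
      Subfield.closure (Set.range (algebraMap R p'.ResidueField)) = ⊤ ∧
      Nonempty ((R' ⊗[R] S) ≃ₐ[R'] ((∀ i, A i) × B)) ∧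
        (∀ i, Module.Finite R' (A i) ∧
          ∃! r : Ideal (A i), r.IsPrime ∧ r.comap (algebraMap R' (A i)) = p') ∧
        ∀ (q : Ideal B) [q.IsPrime], q.comap (algebraMap R' B) = p' →
          ¬ Algebra.QuasiFiniteAt R' q := by
  obtain ⟨R', _, _, _, P, _, _, k, _, A, B, hbij, ⟨e⟩, hA, hB⟩ :=
    Groth.Calg5.EtaleSplit.main _ R S p le_rfl
  let σ := Fintype.equivFin k
  let A' : Fin (Fintype.card k) → CommAlgCat.{u} R' := fun i => A (σ.symm i)
  refine ⟨R', inferInstance, inferInstance, inferInstance, P, inferInstance, inferInstance,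
    Fintype.card k, fun i => A' i, fun i => inferInstance, fun i => inferInstance, B, inferInstance,
    inferInstance, ?_, ⟨e.trans (AlgEquiv.prodCongr (AlgEquiv.piCongrLeft' R' (fun i => A i) σ) .refl)⟩,
    fun i => hA (σ.symm i), hB⟩
  rw [eq_top_iff]
  intro x _
  obtain ⟨y, rfl⟩ := hbij.2 x
  obtain ⟨a, b, -, rfl⟩ := IsFractionRing.div_surjective (R ⧸ p) y
  obtain ⟨a, rfl⟩ := Ideal.Quotient.mk_surjective a
  obtain ⟨b, rfl⟩ := Ideal.Quotient.mk_surjective b
  rw [map_div₀]
  refine div_mem (Subfield.subset_closure ⟨a, ?_⟩) (Subfield.subset_closure ⟨b, ?_⟩) <;>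
    exact ((Ideal.ResidueField.mapₐ p P (Algebra.ofId R R') (P.over_def p)).commutes _).symm

end Groth.Agent.S9457
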