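import Groth.Statements.S9458
import Groth.Agent.Hensel1.FiniteMap

set_option autoImplicit false
universe u
open Hensel

namespace Groth.Agent.S9458

/-- Let R → S be of finite type and quasi-finite at a prime q lying over p, and let R_p^h, S_q^h be
henselizations of the local rings, S_q^h carrying the compatible R_p^h-algebra structure (the
canonical local map R_p^h → S_q^h). Then S_q^h is finite over R_p^h. (The published statement also
identifies S_q^h with a localization of R_p^h ⊗_{R_p} S_q; this row states only that S_q^h is finite
over R_p^h.) -/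
theorem result (R : Type u) [CommRing R] (S : Type u)
    [CommRing S] [Algebra R S] [Algebra.FiniteType R S] (p : Ideal R) [p.IsPrime] (q : Ideal S)
    [q.IsPrime] [q.LiesOver p] [Algebra.QuasiFiniteAt R q]
    (Rh : Type u) [CommRing Rh] [IsLocalRing Rh] [Algebra (Localization.AtPrime p) Rh]
    [IsLocalHom (algebraMap (Localization.AtPrime p) Rh)]
    [Hensel.IsHenselization (Localization.AtPrime p) Rh]
    (Sh : Type u) [CommRing Sh] [IsLocalRing Sh] [Algebra (Localization.AtPrime q) Sh]
    [IsLocalHom (algebraMap (Localization.AtPrime q) Sh)]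
    [Hensel.IsHenselization (Localization.AtPrime q) Sh]
    [Algebra (Localization.AtPrime p) (Localization.AtPrime q)]
    [IsScalarTower R (Localization.AtPrime p) (Localization.AtPrime q)]
    [Algebra Rh Sh] [Algebra (Localization.AtPrime p) Sh]
    [IsScalarTower (Localization.AtPrime p) Rh Sh]
    [IsScalarTower (Localization.AtPrime p) (Localization.AtPrime q) Sh] :
    Module.Finite Rh Sh := by
  classical
  have := (inferInstance : Hensel.IsHenselization (Localization.AtPrime p) Rh).henselian
  have := (inferInstance : Hensel.IsHenselization (Localization.AtPrime q) Sh).henselian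
  let _ : Algebra R Rh := ((algebraMap (Localization.AtPrime p) Rh).comp
    (algebraMap R (Localization.AtPrime p))).toAlgebra
  have hpq : IsLocalHom (algebraMap (Localization.AtPrime p) (Localization.AtPrime q)) := ⟨fun z hz => by
    obtain ⟨a, s, rfl⟩ := IsLocalization.exists_mk'_eq p.primeCompl z
    rw [IsLocalization.AtPrime.isUnit_mk'_iff]
    intro ha
    have h1 := congr_arg (algebraMap (Localization.AtPrime p) (Localization.AtPrime q))
      (IsLocalization.mk'_spec (Localization.AtPrime p) a s)
    rw [map_mul, ← IsScalarTower.algebraMap_apply, ← IsScalarTower.algebraMap_apply,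
      IsScalarTower.algebraMap_apply R S (Localization.AtPrime q),
      IsScalarTower.algebraMap_apply R S (Localization.AtPrime q)] at h1
    have h2 : IsUnit (algebraMap S (Localization.AtPrime q) (algebraMap R S (s : R))) :=
      (IsLocalization.AtPrime.isUnit_to_map_iff _ q _).mpr fun h => s.2 ((q.mem_of_liesOver p _).mpr h)
    have h3 := hz.mul h2
    rw [h1] at h3
    exact (IsLocalization.AtPrime.isUnit_to_map_iff _ q _).mp h3 ((q.mem_of_liesOver p a).mp ha)⟩
  have hcomp : (algebraMap Rh Sh).comp (algebraMap (Localization.AtPrime p) Rh) =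
      (algebraMap (Localization.AtPrime q) Sh).comp
        (algebraMap (Localization.AtPrime p) (Localization.AtPrime q)) := by
    rw [← IsScalarTower.algebraMap_eq, ← IsScalarTower.algebraMap_eq]
  have hRS : IsLocalHom (algebraMap Rh Sh) := by
    obtain ⟨M⟩ := Groth.Hensel1.hensModel_of_isHenselization (R := Localization.AtPrime p) (S := Rh)
    refine ((IsLocalRing.local_hom_TFAE (algebraMap Rh Sh)).out 0 2).mpr ?_
    rw [← M.map_maximalIdeal, Ideal.map_map, hcomp, ← Ideal.map_map]
    exact (Ideal.map_mono (((IsLocalRing.local_hom_TFAE _).out 0 2).mp hpq)).trans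
      (((IsLocalRing.local_hom_TFAE (algebraMap (Localization.AtPrime q) Sh)).out 0 2).mp
        ‹IsLocalHom (algebraMap (Localization.AtPrime q) Sh)›)
  let j : S →+* Sh := (algebraMap (Localization.AtPrime q) Sh).comp (algebraMap S _)
  have hj : j.comp (algebraMap R S) = (algebraMap Rh Sh).comp (algebraMap R Rh) := by
    show RingHom.comp (RingHom.comp _ _) _ = RingHom.comp _ (RingHom.comp _ _)
    rw [← RingHom.comp_assoc, hcomp, RingHom.comp_assoc, RingHom.comp_assoc,
      ← IsScalarTower.algebraMap_eq R S (Localization.AtPrime q),
      ← IsScalarTower.algebraMap_eq R (Localization.AtPrime p) (Localization.AtPrime q)]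
  have hq : q = (IsLocalRing.maximalIdeal Sh).comap j := by
    have h4 : (IsLocalRing.maximalIdeal Sh).comap (algebraMap (Localization.AtPrime q) Sh) =
        IsLocalRing.maximalIdeal _ :=
      ((IsLocalRing.local_hom_TFAE (algebraMap (Localization.AtPrime q) Sh)).out 0 4).mp
        ‹IsLocalHom (algebraMap (Localization.AtPrime q) Sh)›
    rw [← Ideal.comap_comap, h4]
    exact (IsLocalization.AtPrime.comap_maximalIdeal _ q).symm
  obtain ⟨T, _, _, _, _, φ, hφ, j', hj', hφj⟩ :=
    Groth.Hensel1.exists_finite_local_factor R S q Rh Sh j hj hq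
  have hu : ∀ s : q.primeCompl, IsUnit (j' s) := fun s => by
    refine isUnit_of_map_unit φ.toRingHom _ ?_
    rw [← RingHom.comp_apply, hφj]
    exact (IsLocalization.map_units (Localization.AtPrime q) s).map
      (algebraMap (Localization.AtPrime q) Sh)
  let f : Localization.AtPrime q →+* T := IsLocalization.lift hu
  have hφf : φ.toRingHom.comp f = algebraMap (Localization.AtPrime q) Sh := by
    refine IsLocalization.ringHom_ext q.primeCompl ?_
    rw [RingHom.comp_assoc, IsLocalization.lift_comp, hφj]
  have hf : IsLocalHom f := ⟨fun z hz => by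
    refine isUnit_of_map_unit (algebraMap _ Sh) _ ?_
    rw [← hφf]
    exact hz.map φ.toRingHom⟩
  obtain ⟨g, hg, -⟩ := (inferInstance : Hensel.IsHenselization (Localization.AtPrime q) Sh).universal T f hf
  obtain ⟨e, -, he⟩ := (inferInstance : Hensel.IsHenselization (Localization.AtPrime q) Sh).universal Sh
    (algebraMap _ Sh) inferInstance
  have hsec : φ.toRingHom.comp g = RingHom.id Sh :=
    (he _ (by show RingHom.comp (RingHom.comp _ g) _ = _; rw [RingHom.comp_assoc, hg, hφf])).trans
      (he _ (RingHom.id_comp _)).symm
  exact Module.Finite.of_surjective φ.toLinearMap fun x => ⟨g x, RingHom.congr_fun hsec x⟩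

end Groth.Agent.S9458
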