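import Groth.Statements.S9459
open scoped TensorProduct

set_option autoImplicit false
universe u
open Hensel

namespace Groth.Agent.S9459

open TensorProduct in
/-- Let R → S be a ring map, q a prime of S over p, and R^h, S^h henselizations of R_p and S_q, S^h
carrying the compatible R^h-algebra structure (the canonical map R^h → S^h). Let φ : R^h ⊗_R S → S^h
be the induced map and Q the preimage under φ of the maximal ideal (a prime lying over the maximal
ideal of R^h and over q). Then S^h is a henselization of the local ring (R^h ⊗_R S)_Q: for every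
henselization E of (R^h ⊗_R S)_Q there is a ring isomorphism E ≅ S^h compatible with the two maps
from R^h ⊗_R S. -/
theorem result (R : Type u) [CommRing R] (S : Type u)
    [CommRing S] [Algebra R S] (p : Ideal R) [p.IsPrime] (q : Ideal S) [q.IsPrime] [q.LiesOver p]
    (Rh : Type u) [CommRing Rh] [IsLocalRing Rh] [Algebra (Localization.AtPrime p) Rh]
    [IsLocalHom (algebraMap (Localization.AtPrime p) Rh)]
    [Hensel.IsHenselization (Localization.AtPrime p) Rh] [Algebra R Rh]
    [IsScalarTower R (Localization.AtPrime p) Rh]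
    (Sh : Type u) [CommRing Sh] [IsLocalRing Sh] [Algebra (Localization.AtPrime q) Sh]
    [IsLocalHom (algebraMap (Localization.AtPrime q) Sh)]
    [Hensel.IsHenselization (Localization.AtPrime q) Sh] [Algebra S Sh]
    [IsScalarTower S (Localization.AtPrime q) Sh] [Algebra R Sh] [IsScalarTower R S Sh]
    [Algebra Rh Sh] [IsScalarTower R Rh Sh]
    (E : Type u) [CommRing E] [IsLocalRing E]
    [Algebra (Localization.AtPrime (Ideal.comap (Algebra.TensorProduct.lift (IsScalarTower.toAlgHom R Rh Sh) (IsScalarTower.toAlgHom R S Sh)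
          (fun _ _ => Commute.all _ _)) (IsLocalRing.maximalIdeal Sh))) E]
    [IsLocalHom (algebraMap (Localization.AtPrime
      (Ideal.comap (Algebra.TensorProduct.lift (IsScalarTower.toAlgHom R Rh Sh) (IsScalarTower.toAlgHom R S Sh)
          (fun _ _ => Commute.all _ _)) (IsLocalRing.maximalIdeal Sh))) E)]
    [Hensel.IsHenselization (Localization.AtPrime
      (Ideal.comap (Algebra.TensorProduct.lift (IsScalarTower.toAlgHom R Rh Sh) (IsScalarTower.toAlgHom R S Sh)
          (fun _ _ => Commute.all _ _)) (IsLocalRing.maximalIdeal Sh))) E] :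
    ∃ e : E ≃+* Sh, ∀ d : Rh ⊗[R] S,
      e (algebraMap (Localization.AtPrime
        (Ideal.comap (Algebra.TensorProduct.lift (IsScalarTower.toAlgHom R Rh Sh) (IsScalarTower.toAlgHom R S Sh)
          (fun _ _ => Commute.all _ _)) (IsLocalRing.maximalIdeal Sh))) E
        (algebraMap (Rh ⊗[R] S) _ d)) = (Algebra.TensorProduct.lift (IsScalarTower.toAlgHom R Rh Sh) (IsScalarTower.toAlgHom R S Sh)
          (fun _ _ => Commute.all _ _)) d := by
  classical
  let φ := Algebra.TensorProduct.lift (IsScalarTower.toAlgHom R Rh Sh) (IsScalarTower.toAlgHom R S Sh)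
    (fun _ _ => Commute.all _ _)
  let Q := Ideal.comap φ (IsLocalRing.maximalIdeal Sh)
  let L := Localization.AtPrime Q
  have hu : ∀ d : Q.primeCompl, IsUnit (φ.toRingHom d) := fun d =>
    IsLocalRing.notMem_maximalIdeal.mp d.2
  let fL : L →+* Sh := IsLocalization.lift hu
  have hfL : ∀ d, fL (algebraMap (Rh ⊗[R] S) L d) = φ d := fun d => IsLocalization.lift_eq hu d
  have : IsLocalHom fL := ⟨fun z hz => by
    obtain ⟨⟨d, s⟩, hds⟩ := IsLocalization.surj Q.primeCompl z
    have h1 : IsUnit (φ d) := by
      rw [← hfL, ← hds, map_mul, hfL]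
      exact hz.mul (hu s)
    have h2 : IsUnit (algebraMap (Rh ⊗[R] S) L d) :=
      (IsLocalization.AtPrime.isUnit_to_map_iff L Q d).mpr fun h => (IsLocalRing.notMem_maximalIdeal.mpr h1) h
    rw [← hds] at h2
    exact isUnit_of_mul_isUnit_left h2⟩
  have := (inferInstance : Hensel.IsHenselization (Localization.AtPrime q) Sh).henselian
  have := (inferInstance : Hensel.IsHenselization L E).henselian
  have hLE : IsLocalHom (algebraMap L E) := by assumption
  obtain ⟨Φ, hΦ, -⟩ := (inferInstance : Hensel.IsHenselization L E).universal Sh fL inferInstance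
  -- the map from `S_q` to `E`
  let ι : Rh ⊗[R] S →+* E := (algebraMap L E).comp (algebraMap (Rh ⊗[R] S) L)
  have hι : ∀ d, IsUnit (ι d) ↔ IsUnit (φ d) := fun d => by
    constructor
    · intro h
      have h1 := (IsLocalization.AtPrime.isUnit_to_map_iff L Q d).mp (isUnit_of_map_unit (algebraMap L E) _ h)
      exact IsLocalRing.notMem_maximalIdeal.mp h1
    · intro h
      exact ((IsLocalization.AtPrime.isUnit_to_map_iff L Q d).mpr
        fun h' => (IsLocalRing.notMem_maximalIdeal.mpr h) h').map (algebraMap L E)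
  let σ : S →+* E := ι.comp Algebra.TensorProduct.includeRight.toRingHom
  have hφS : ∀ s, φ ((1 : Rh) ⊗ₜ[R] s) = algebraMap (Localization.AtPrime q) Sh (algebraMap S _ s) :=
    fun s => by simp [φ, ← IsScalarTower.algebraMap_apply]
  have hσu : ∀ s : q.primeCompl, IsUnit (σ s) := fun s => by
    refine (hι _).mpr ?_
    show IsUnit (φ ((1 : Rh) ⊗ₜ[R] (s : S)))
    rw [hφS]
    exact (IsLocalization.map_units (Localization.AtPrime q) s).map _
  let fS : Localization.AtPrime q →+* E := IsLocalization.lift hσu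
  have : IsLocalHom fS := ⟨fun z hz => by
    obtain ⟨⟨a, s⟩, has⟩ := IsLocalization.surj q.primeCompl z
    have h1 : IsUnit (σ a) := by
      rw [← IsLocalization.lift_eq (S := Localization.AtPrime q) hσu, ← has, map_mul,
        IsLocalization.lift_eq]
      exact hz.mul (hσu s)
    have h2 : IsUnit (algebraMap S (Localization.AtPrime q) a) := by
      refine isUnit_of_map_unit (algebraMap _ Sh) _ ?_
      rw [← hφS]
      exact (hι _).mp h1
    rw [← has] at h2
    exact isUnit_of_mul_isUnit_left h2⟩
  obtain ⟨Ψ, hΨ, -⟩ := (inferInstance : Hensel.IsHenselization (Localization.AtPrime q) Sh).universal E fS inferInstance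
  have hΨS : ∀ s, Ψ (φ ((1 : Rh) ⊗ₜ[R] s)) = ι ((1 : Rh) ⊗ₜ[R] s) := fun s => by
    rw [hφS, ← RingHom.comp_apply, hΨ, IsLocalization.lift_eq]
    rfl
  -- `Ψ ∘ φ = ι`
  have hΨR : ∀ x : Rh, Ψ (φ (x ⊗ₜ[R] (1 : S))) = ι (x ⊗ₜ[R] (1 : S)) := by
    let g₁ : Rh →+* E := Ψ.comp (φ.toRingHom.comp Algebra.TensorProduct.includeLeftRingHom)
    let g₂ : Rh →+* E := ι.comp Algebra.TensorProduct.includeLeftRingHom
    have h12 : g₁.comp (algebraMap (Localization.AtPrime p) Rh) =
        g₂.comp (algebraMap (Localization.AtPrime p) Rh) := by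
      refine IsLocalization.ringHom_ext p.primeCompl (RingHom.ext fun r => ?_)
      have h0 : algebraMap (Localization.AtPrime p) Rh (algebraMap R _ r) ⊗ₜ[R] (1 : S) =
          (1 : Rh) ⊗ₜ[R] algebraMap R S r := by
        rw [← IsScalarTower.algebraMap_apply, Algebra.algebraMap_eq_smul_one,
          Algebra.algebraMap_eq_smul_one, TensorProduct.smul_tmul]
      show Ψ (φ (_ ⊗ₜ[R] (1 : S))) = ι (_ ⊗ₜ[R] (1 : S))
      rw [h0]
      exact hΨS _
    have hloc : IsLocalHom (g₂.comp (algebraMap (Localization.AtPrime p) Rh)) := ⟨fun z hz => by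
      obtain ⟨⟨a, s⟩, has⟩ := IsLocalization.surj p.primeCompl z
      have hs : IsUnit (algebraMap R (Localization.AtPrime p) s) := IsLocalization.map_units _ s
      have h1 : IsUnit (algebraMap R (Localization.AtPrime p) a) := by
        refine (IsLocalization.AtPrime.isUnit_to_map_iff _ p a).mpr fun ha => ?_
        have h2 : IsUnit ((g₂.comp (algebraMap (Localization.AtPrime p) Rh)) (algebraMap R _ a)) := by
          rw [← has, map_mul]; exact hz.mul (hs.map _)
        rw [← h12] at h2
        have h3 : IsUnit (Ψ (φ ((1 : Rh) ⊗ₜ[R] algebraMap R S a))) := by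
          convert h2 using 1
          show Ψ (φ _) = Ψ (φ (algebraMap (Localization.AtPrime p) Rh (algebraMap R _ a) ⊗ₜ[R] (1 : S)))
          rw [← IsScalarTower.algebraMap_apply, Algebra.algebraMap_eq_smul_one,
            Algebra.algebraMap_eq_smul_one, TensorProduct.smul_tmul]
        rw [hΨS] at h3
        have h4 := (hι _).mp h3
        rw [hφS] at h4
        exact (IsLocalization.AtPrime.isUnit_to_map_iff _ q _).mp
          (isUnit_of_map_unit (algebraMap _ Sh) _ h4) ((q.mem_of_liesOver p a).mp ha)
      rw [← has] at h1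
      exact isUnit_of_mul_isUnit_left h1⟩
    obtain ⟨g, -, hu'⟩ := (inferInstance : Hensel.IsHenselization (Localization.AtPrime p) Rh).universal E
      (g₂.comp (algebraMap (Localization.AtPrime p) Rh)) hloc
    exact fun x => RingHom.congr_fun ((hu' g₁ h12).trans (hu' g₂ rfl).symm) x
  have hΨφ : ∀ d, Ψ (φ d) = ι d := by
    intro d
    induction d with
    | zero => rw [map_zero, map_zero, map_zero]
    | tmul x s =>
      have : x ⊗ₜ[R] s = (x ⊗ₜ[R] (1 : S)) * ((1 : Rh) ⊗ₜ[R] s) := by simp
      rw [this, map_mul, map_mul, map_mul, hΨR, hΨS]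
    | add a b ha hb => simp only [map_add, ha, hb]
  have hΦι : ∀ d, Φ (ι d) = φ d := fun d => by
    show Φ (algebraMap L E _) = _
    rw [← RingHom.comp_apply, hΦ, hfL]
  have h1 : Ψ.comp Φ = RingHom.id E := by
    obtain ⟨g, -, hu'⟩ := (inferInstance : Hensel.IsHenselization L E).universal E (algebraMap L E) inferInstance
    refine (hu' _ ?_).trans (hu' _ (RingHom.id_comp _)).symm
    refine IsLocalization.ringHom_ext Q.primeCompl (RingHom.ext fun d => ?_)
    show Ψ (Φ (ι d)) = ι d
    rw [hΦι, hΨφ]
  have h2 : Φ.comp Ψ = RingHom.id Sh := by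
    obtain ⟨g, -, hu'⟩ := (inferInstance : Hensel.IsHenselization (Localization.AtPrime q) Sh).universal Sh
      (algebraMap _ Sh) inferInstance
    refine (hu' _ ?_).trans (hu' _ (RingHom.id_comp _)).symm
    refine IsLocalization.ringHom_ext q.primeCompl (RingHom.ext fun s => ?_)
    show Φ (Ψ (algebraMap _ Sh (algebraMap S _ s))) = algebraMap _ Sh (algebraMap S _ s)
    rw [← hφS, hΨφ, hΦι]
  exact ⟨RingEquiv.ofRingHom Φ Ψ h2 h1, hΦι⟩

end Groth.Agent.S9459
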