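import Groth.Statements.S9460
import Mathlib.FieldTheory.IsSepClosed
import Groth.Agent.Hensel1.Transfer
open scoped TensorProduct

set_option autoImplicit false
universe u
open Hensel

namespace Groth.Agent.S9460

set_option maxHeartbeats 2000000 in
open TensorProduct in
/-- Let R → S be a ring map, q a prime of S over p, and R^{sh}, S^{sh} strict henselizations of R_p and
S_q, S^{sh} carrying a compatible R^{sh}-algebra structure (a map R^{sh} → S^{sh} over R; these
correspond to the embeddings of separable closures in the published statement). Let φ : R^{sh} ⊗_R S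
→ S^{sh} be the induced map and Q the preimage under φ of the maximal ideal (a prime over the
maximal ideal of R^{sh} and over q). Then S^{sh} is a strict henselization of (R^{sh} ⊗_R S)_Q:
every strict henselization E of that local ring admits a ring isomorphism E ≅ S^{sh} compatible with
the two maps from R^{sh} ⊗_R S. -/
theorem result (R : Type u) [CommRing R]
    (S : Type u) [CommRing S] [Algebra R S] (p : Ideal R) [p.IsPrime] (q : Ideal S) [q.IsPrime]
    [q.LiesOver p]
    (Rh : Type u) [CommRing Rh] [IsLocalRing Rh] [Algebra (Localization.AtPrime p) Rh]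
    [IsLocalHom (algebraMap (Localization.AtPrime p) Rh)]
    [Hensel.IsStrictHenselization (Localization.AtPrime p) Rh] [Algebra R Rh]
    [IsScalarTower R (Localization.AtPrime p) Rh]
    (Sh : Type u) [CommRing Sh] [IsLocalRing Sh] [Algebra (Localization.AtPrime q) Sh]
    [IsLocalHom (algebraMap (Localization.AtPrime q) Sh)]
    [Hensel.IsStrictHenselization (Localization.AtPrime q) Sh] [Algebra S Sh]
    [IsScalarTower S (Localization.AtPrime q) Sh] [Algebra R Sh] [IsScalarTower R S Sh]
    [Algebra Rh Sh] [IsScalarTower R Rh Sh]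
    (E : Type u) [CommRing E] [IsLocalRing E]
    [Algebra (Localization.AtPrime (Ideal.comap (Algebra.TensorProduct.lift (IsScalarTower.toAlgHom R Rh Sh) (IsScalarTower.toAlgHom R S Sh)
          (fun _ _ => Commute.all _ _)) (IsLocalRing.maximalIdeal Sh))) E]
    [IsLocalHom (algebraMap (Localization.AtPrime
      (Ideal.comap (Algebra.TensorProduct.lift (IsScalarTower.toAlgHom R Rh Sh) (IsScalarTower.toAlgHom R S Sh)
          (fun _ _ => Commute.all _ _)) (IsLocalRing.maximalIdeal Sh))) E)]
    [Hensel.IsStrictHenselization (Localization.AtPrime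
      (Ideal.comap (Algebra.TensorProduct.lift (IsScalarTower.toAlgHom R Rh Sh) (IsScalarTower.toAlgHom R S Sh)
          (fun _ _ => Commute.all _ _)) (IsLocalRing.maximalIdeal Sh))) E] :
    ∃ e : E ≃+* Sh, ∀ d : Rh ⊗[R] S,
      e (algebraMap (Localization.AtPrime
        (Ideal.comap (Algebra.TensorProduct.lift (IsScalarTower.toAlgHom R Rh Sh) (IsScalarTower.toAlgHom R S Sh)
          (fun _ _ => Commute.all _ _)) (IsLocalRing.maximalIdeal Sh))) E
        (algebraMap (Rh ⊗[R] S) _ d)) = (Algebra.TensorProduct.lift (IsScalarTower.toAlgHom R Rh Sh) (IsScalarTower.toAlgHom R S Sh)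
          (fun _ _ => Commute.all _ _)) d := by
  classical
  let φ := Algebra.TensorProduct.lift (IsScalarTower.toAlgHom R Rh Sh) (IsScalarTower.toAlgHom R S Sh)
    (fun _ _ => Commute.all _ _)
  let Q := Ideal.comap φ (IsLocalRing.maximalIdeal Sh)
  let L := Localization.AtPrime Q
  have hu : ∀ d : Q.primeCompl, IsUnit (φ.toRingHom d) := fun d =>
    IsLocalRing.notMem_maximalIdeal.mp d.2
  let fL : L →+* Sh := IsLocalization.lift hu
  have hfL : ∀ d, fL (algebraMap (Rh ⊗[R] S) L d) = φ d := fun d => IsLocalization.lift_eq hu d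
  have : IsLocalHom fL := ⟨fun z hz => by
    obtain ⟨⟨d, s⟩, hds⟩ := IsLocalization.surj Q.primeCompl z
    have h1 : IsUnit (φ d) := by
      rw [← hfL, ← hds, map_mul, hfL]
      exact hz.mul (hu s)
    have h2 : IsUnit (algebraMap (Rh ⊗[R] S) L d) :=
      (IsLocalization.AtPrime.isUnit_to_map_iff L Q d).mpr fun h => (IsLocalRing.notMem_maximalIdeal.mpr h1) h
    rw [← hds] at h2
    exact isUnit_of_mul_isUnit_left h2⟩
  have := (inferInstance : Hensel.IsStrictHenselization (Localization.AtPrime q) Sh).henselian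
  have := (inferInstance : Hensel.IsStrictHenselization L E).henselian
  have hLE : IsLocalHom (algebraMap L E) := by assumption
  have hSE := (inferInstance : Hensel.IsStrictHenselization L E).isSepClosure
  let fSL : Localization.AtPrime q →+* L := IsLocalization.lift (M := q.primeCompl)
    (S := Localization.AtPrime q) (g :=
    (algebraMap (Rh ⊗[R] S) L).comp Algebra.TensorProduct.includeRight.toRingHom) fun s => by
      refine (IsLocalization.AtPrime.isUnit_to_map_iff L Q _).mpr ?_
      show φ ((1 : Rh) ⊗ₜ[R] (s : S)) ∉ IsLocalRing.maximalIdeal Sh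
      refine IsLocalRing.notMem_maximalIdeal.mpr ?_
      have h := (IsLocalization.map_units (Localization.AtPrime q) s).map
        (algebraMap (Localization.AtPrime q) Sh)
      simpa [φ, ← IsScalarTower.algebraMap_apply] using h
  have hfSL : fL.comp fSL = algebraMap (Localization.AtPrime q) Sh := by
    refine IsLocalization.ringHom_ext q.primeCompl (RingHom.ext fun s => ?_)
    have h1 : fSL (algebraMap S (Localization.AtPrime q) s) =
        algebraMap (Rh ⊗[R] S) L ((1 : Rh) ⊗ₜ[R] s) := IsLocalization.lift_eq _ s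
    rw [RingHom.comp_apply, RingHom.comp_apply, RingHom.comp_apply, h1, hfL,
      ← IsScalarTower.algebraMap_apply]
    simp [φ]
  have : IsLocalHom fSL := ⟨fun z hz => by
    refine isUnit_of_map_unit (algebraMap _ Sh) _ ?_
    rw [← hfSL]
    exact hz.map fL⟩
  let _ : Algebra (IsLocalRing.ResidueField L) (IsLocalRing.ResidueField Sh) :=
    (IsLocalRing.ResidueField.map fL).toAlgebra
  have hSS : IsSepClosure (IsLocalRing.ResidueField L) (IsLocalRing.ResidueField Sh) := by
    have hq := (inferInstance : Hensel.IsStrictHenselization (Localization.AtPrime q) Sh).isSepClosure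
    refine ⟨hq.sep_closed, ?_⟩
    let _ : Algebra (IsLocalRing.ResidueField (Localization.AtPrime q)) (IsLocalRing.ResidueField L) :=
      (IsLocalRing.ResidueField.map fSL).toAlgebra
    have : IsScalarTower (IsLocalRing.ResidueField (Localization.AtPrime q)) (IsLocalRing.ResidueField L)
        (IsLocalRing.ResidueField Sh) := by
      refine IsScalarTower.of_algebraMap_eq fun z => ?_
      obtain ⟨z, rfl⟩ := IsLocalRing.residue_surjective z
      show IsLocalRing.residue Sh (algebraMap _ Sh z) = IsLocalRing.residue Sh (fL (fSL z))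
      rw [← hfSL]
      rfl
    have := hq.separable
    exact Algebra.isSeparable_tower_top_of_isSeparable
      (IsLocalRing.ResidueField (Localization.AtPrime q)) (IsLocalRing.ResidueField L)
      (IsLocalRing.ResidueField Sh)
  let τ := IsSepClosure.equiv (IsLocalRing.ResidueField L) (IsLocalRing.ResidueField E)
    (IsLocalRing.ResidueField Sh)
  have hτ : ∀ z : L, τ (IsLocalRing.residue E (algebraMap L E z)) = IsLocalRing.residue Sh (fL z) :=
    fun z => τ.commutes (IsLocalRing.residue L z)
  obtain ⟨Φ, ⟨hΦ, hΦτ⟩, -⟩ := (inferInstance : Hensel.IsStrictHenselization L E).universal Sh fL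
    τ.toRingEquiv.toRingHom (RingHom.ext fun z => by
      obtain ⟨z, rfl⟩ := IsLocalRing.residue_surjective z
      exact hτ z)
  -- the map from `S_q` to `E`
  let ι : Rh ⊗[R] S →+* E := (algebraMap L E).comp (algebraMap (Rh ⊗[R] S) L)
  have hι : ∀ d, IsUnit (ι d) ↔ IsUnit (φ d) := fun d => by
    constructor
    · intro h
      have h1 := (IsLocalization.AtPrime.isUnit_to_map_iff L Q d).mp (isUnit_of_map_unit (algebraMap L E) _ h)
      exact IsLocalRing.notMem_maximalIdeal.mp h1
    · intro h
      exact ((IsLocalization.AtPrime.isUnit_to_map_iff L Q d).mpr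
        fun h' => (IsLocalRing.notMem_maximalIdeal.mpr h) h').map (algebraMap L E)
  let σ : S →+* E := ι.comp Algebra.TensorProduct.includeRight.toRingHom
  have hφS : ∀ s, φ ((1 : Rh) ⊗ₜ[R] s) = algebraMap (Localization.AtPrime q) Sh (algebraMap S _ s) :=
    fun s => by simp [φ, ← IsScalarTower.algebraMap_apply]
  have hσu : ∀ s : q.primeCompl, IsUnit (σ s) := fun s => by
    refine (hι _).mpr ?_
    show IsUnit (φ ((1 : Rh) ⊗ₜ[R] (s : S)))
    rw [hφS]
    exact (IsLocalization.map_units (Localization.AtPrime q) s).map _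
  let fS : Localization.AtPrime q →+* E := IsLocalization.lift hσu
  have : IsLocalHom fS := ⟨fun z hz => by
    obtain ⟨⟨a, s⟩, has⟩ := IsLocalization.surj q.primeCompl z
    have h1 : IsUnit (σ a) := by
      rw [← IsLocalization.lift_eq (S := Localization.AtPrime q) hσu, ← has, map_mul,
        IsLocalization.lift_eq]
      exact hz.mul (hσu s)
    have h2 : IsUnit (algebraMap S (Localization.AtPrime q) a) := by
      refine isUnit_of_map_unit (algebraMap _ Sh) _ ?_
      rw [← hφS]
      exact (hι _).mp h1
    rw [← has] at h2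
    exact isUnit_of_mul_isUnit_left h2⟩
  have hτi : ∀ d, IsLocalRing.residue E (ι d) = τ.symm (IsLocalRing.residue Sh (φ d)) := fun d => by
    rw [← hfL, ← hτ, τ.symm_apply_apply]
    rfl
  obtain ⟨Ψ, ⟨hΨ, hΨτ⟩, -⟩ := (inferInstance : Hensel.IsStrictHenselization (Localization.AtPrime q) Sh).universal E fS
    τ.symm.toRingEquiv.toRingHom (by
      refine RingHom.cancel_right IsLocalRing.residue_surjective |>.mp (IsLocalization.ringHom_ext q.primeCompl
        (RingHom.ext fun s => ?_))
      show τ.symm (IsLocalRing.residue Sh (algebraMap _ Sh (algebraMap S _ s))) =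
        IsLocalRing.residue E (fS (algebraMap S _ s))
      rw [IsLocalization.lift_eq, ← hφS, ← hτi]
      rfl)
  have hΨS : ∀ s, Ψ (φ ((1 : Rh) ⊗ₜ[R] s)) = ι ((1 : Rh) ⊗ₜ[R] s) := fun s => by
    rw [hφS, ← RingHom.comp_apply, hΨ, IsLocalization.lift_eq]
    rfl
  -- `Ψ ∘ φ = ι`
  have hΨR : ∀ x : Rh, Ψ (φ (x ⊗ₜ[R] (1 : S))) = ι (x ⊗ₜ[R] (1 : S)) := by
    let g₁ : Rh →+* E := Ψ.comp (φ.toRingHom.comp Algebra.TensorProduct.includeLeftRingHom)
    let g₂ : Rh →+* E := ι.comp Algebra.TensorProduct.includeLeftRingHom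
    have h12 : g₁.comp (algebraMap (Localization.AtPrime p) Rh) =
        g₂.comp (algebraMap (Localization.AtPrime p) Rh) := by
      refine IsLocalization.ringHom_ext p.primeCompl (RingHom.ext fun r => ?_)
      have h0 : algebraMap (Localization.AtPrime p) Rh (algebraMap R _ r) ⊗ₜ[R] (1 : S) =
          (1 : Rh) ⊗ₜ[R] algebraMap R S r := by
        rw [← IsScalarTower.algebraMap_apply, Algebra.algebraMap_eq_smul_one,
          Algebra.algebraMap_eq_smul_one, TensorProduct.smul_tmul]
      show Ψ (φ (_ ⊗ₜ[R] (1 : S))) = ι (_ ⊗ₜ[R] (1 : S))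
      rw [h0]
      exact hΨS _
    have hloc : IsLocalHom (g₂.comp (algebraMap (Localization.AtPrime p) Rh)) := ⟨fun z hz => by
      obtain ⟨⟨a, s⟩, has⟩ := IsLocalization.surj p.primeCompl z
      have hs : IsUnit (algebraMap R (Localization.AtPrime p) s) := IsLocalization.map_units _ s
      have h1 : IsUnit (algebraMap R (Localization.AtPrime p) a) := by
        refine (IsLocalization.AtPrime.isUnit_to_map_iff _ p a).mpr fun ha => ?_
        have h2 : IsUnit ((g₂.comp (algebraMap (Localization.AtPrime p) Rh)) (algebraMap R _ a)) := by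
          rw [← has, map_mul]; exact hz.mul (hs.map _)
        rw [← h12] at h2
        have h3 : IsUnit (Ψ (φ ((1 : Rh) ⊗ₜ[R] algebraMap R S a))) := by
          convert h2 using 1
          show Ψ (φ _) = Ψ (φ (algebraMap (Localization.AtPrime p) Rh (algebraMap R _ a) ⊗ₜ[R] (1 : S)))
          rw [← IsScalarTower.algebraMap_apply, Algebra.algebraMap_eq_smul_one,
            Algebra.algebraMap_eq_smul_one, TensorProduct.smul_tmul]
        rw [hΨS] at h3
        have h4 := (hι _).mp h3
        rw [hφS] at h4
        exact (IsLocalization.AtPrime.isUnit_to_map_iff _ q _).mp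
          (isUnit_of_map_unit (algebraMap _ Sh) _ h4) ((q.mem_of_liesOver p a).mp ha)
      rw [← has] at h1
      exact isUnit_of_mul_isUnit_left h1⟩
    have hRS : IsLocalHom (algebraMap Rh Sh) := ⟨fun z hz => by
      obtain ⟨M⟩ := Groth.Hensel1.hensModel_of_isStrictHenselization
        (R := Localization.AtPrime p) (S := Rh)
      by_contra hzu
      have hz' : z ∈ IsLocalRing.maximalIdeal Rh := (IsLocalRing.mem_maximalIdeal _).mpr hzu
      rw [← M.map_maximalIdeal, ← Localization.AtPrime.map_eq_maximalIdeal, Ideal.map_map,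
        ← IsScalarTower.algebraMap_eq] at hz'
      have h1 : (p.map (algebraMap R Rh)) ≤ (IsLocalRing.maximalIdeal Sh).comap (algebraMap Rh Sh) := by
        rw [Ideal.map_le_iff_le_comap]
        intro a ha
        show algebraMap Rh Sh (algebraMap R Rh a) ∈ IsLocalRing.maximalIdeal Sh
        rw [← IsScalarTower.algebraMap_apply, IsScalarTower.algebraMap_apply R S Sh,
          IsScalarTower.algebraMap_apply S (Localization.AtPrime q) Sh, IsLocalRing.mem_maximalIdeal]
        intro hu2
        exact (IsLocalization.AtPrime.isUnit_to_map_iff _ q _).mp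
          (isUnit_of_map_unit (algebraMap _ Sh) _ hu2) ((q.mem_of_liesOver p a).mp ha)
      exact (IsLocalRing.mem_maximalIdeal _).mp (h1 hz') hz⟩
    have hg₂ : IsLocalHom g₂ := ⟨fun z hz => by
      have h : IsUnit (φ (Algebra.TensorProduct.includeLeftRingHom z)) := (hι _).mp hz
      have : φ (Algebra.TensorProduct.includeLeftRingHom z) = algebraMap Rh Sh z := by simp [φ]
      rw [this] at h
      exact isUnit_of_map_unit (algebraMap Rh Sh) z h⟩
    obtain ⟨g, -, hu'⟩ := (inferInstance : Hensel.IsStrictHenselization (Localization.AtPrime p) Rh).universal E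
      (g₂.comp (algebraMap (Localization.AtPrime p) Rh)) (IsLocalRing.ResidueField.map g₂) (by
        exact (RingHom.cancel_right IsLocalRing.residue_surjective).mp (RingHom.ext fun z => rfl))
    refine fun x => RingHom.congr_fun ((hu' g₁ ⟨h12, fun y => ?_⟩).trans
      (hu' g₂ ⟨rfl, fun y => rfl⟩).symm) x
    show IsLocalRing.residue E (Ψ (φ (y ⊗ₜ[R] (1 : S)))) = IsLocalRing.residue E (ι (y ⊗ₜ[R] (1 : S)))
    rw [hΨτ, hτi]
    rfl
  have hΨφ : ∀ d, Ψ (φ d) = ι d := by
    intro d
    induction d with
    | zero => rw [map_zero, map_zero, map_zero]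
    | tmul x s =>
      have : x ⊗ₜ[R] s = (x ⊗ₜ[R] (1 : S)) * ((1 : Rh) ⊗ₜ[R] s) := by simp
      rw [this, map_mul, map_mul, map_mul, hΨR, hΨS]
    | add a b ha hb => simp only [map_add, ha, hb]
  have hΦι : ∀ d, Φ (ι d) = φ d := fun d => by
    show Φ (algebraMap L E _) = _
    rw [← RingHom.comp_apply, hΦ, hfL]
  have h1 : Ψ.comp Φ = RingHom.id E := by
    obtain ⟨g, -, hu'⟩ := (inferInstance : Hensel.IsStrictHenselization L E).universal E (algebraMap L E)
      (RingHom.id _) (RingHom.id_comp _)
    refine (hu' _ ⟨?_, fun x => ?_⟩).trans (hu' _ ⟨RingHom.id_comp _, fun _ => rfl⟩).symm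
    swap
    · show IsLocalRing.residue E (Ψ (Φ x)) = _
      rw [hΨτ, hΦτ]
      exact τ.symm_apply_apply _
    refine IsLocalization.ringHom_ext Q.primeCompl (RingHom.ext fun d => ?_)
    show Ψ (Φ (ι d)) = ι d
    rw [hΦι, hΨφ]
  have h2 : Φ.comp Ψ = RingHom.id Sh := by
    obtain ⟨g, -, hu'⟩ := (inferInstance : Hensel.IsStrictHenselization (Localization.AtPrime q) Sh).universal Sh
      (algebraMap _ Sh) (RingHom.id _) (RingHom.id_comp _)
    refine (hu' _ ⟨?_, fun x => ?_⟩).trans (hu' _ ⟨RingHom.id_comp _, fun _ => rfl⟩).symm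
    swap
    · show IsLocalRing.residue Sh (Φ (Ψ x)) = _
      rw [hΦτ, hΨτ]
      exact τ.apply_symm_apply _
    refine IsLocalization.ringHom_ext q.primeCompl (RingHom.ext fun s => ?_)
    show Φ (Ψ (algebraMap _ Sh (algebraMap S _ s))) = algebraMap _ Sh (algebraMap S _ s)
    rw [← hφS, hΨφ, hΦι]
  exact ⟨RingEquiv.ofRingHom Φ Ψ h2 h1, hΦι⟩

end Groth.Agent.S9460
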