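import Groth.Statements.S9461
import Groth.Agent.Hensel1.FiniteMap
import Mathlib.FieldTheory.PurelyInseparable.Basic

set_option autoImplicit false
universe u
open Hensel

namespace Groth.Agent.S9461

/-- Let R → S be of finite type and quasi-finite at a prime q over p, and R^{sh}, S^{sh} strict
henselizations of R_p and S_q with a compatible local map R^{sh} → S^{sh} (over R). Then R^{sh} →
S^{sh} is finite and its residue field extension is finite and purely inseparable. (The published
statement also identifies S^{sh} with a localization of R^{sh} ⊗_{R_p} S_q; this row states only the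
finiteness and the residue-field assertions.) -/
theorem result (R : Type u) [CommRing R] (S : Type u)
    [CommRing S] [Algebra R S] [Algebra.FiniteType R S] (p : Ideal R) [p.IsPrime] (q : Ideal S)
    [q.IsPrime] [q.LiesOver p] [Algebra.QuasiFiniteAt R q]
    (Rh : Type u) [CommRing Rh] [IsLocalRing Rh] [Algebra (Localization.AtPrime p) Rh]
    [IsLocalHom (algebraMap (Localization.AtPrime p) Rh)]
    [Hensel.IsStrictHenselization (Localization.AtPrime p) Rh] [Algebra R Rh]
    [IsScalarTower R (Localization.AtPrime p) Rh]
    (Sh : Type u) [CommRing Sh] [IsLocalRing Sh] [Algebra (Localization.AtPrime q) Sh]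
    [IsLocalHom (algebraMap (Localization.AtPrime q) Sh)]
    [Hensel.IsStrictHenselization (Localization.AtPrime q) Sh] [Algebra S Sh]
    [IsScalarTower S (Localization.AtPrime q) Sh] [Algebra R Sh] [IsScalarTower R S Sh]
    [Algebra Rh Sh] [IsScalarTower R Rh Sh] [IsLocalHom (algebraMap Rh Sh)] :
    Module.Finite Rh Sh ∧
      Module.Finite (IsLocalRing.ResidueField Rh) (IsLocalRing.ResidueField Sh) ∧
      IsPurelyInseparable (IsLocalRing.ResidueField Rh) (IsLocalRing.ResidueField Sh) := by
  classical
  have hR := (inferInstance : Hensel.IsStrictHenselization (Localization.AtPrime p) Rh)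
  have hS := (inferInstance : Hensel.IsStrictHenselization (Localization.AtPrime q) Sh)
  have := hR.henselian
  have := hS.henselian
  have := hR.isSepClosure.sep_closed
  have := hS.isSepClosure.separable
  have hj : (algebraMap S Sh).comp (algebraMap R S) = (algebraMap Rh Sh).comp (algebraMap R Rh) := by
    rw [← IsScalarTower.algebraMap_eq, ← IsScalarTower.algebraMap_eq]
  have hq : q = (IsLocalRing.maximalIdeal Sh).comap (algebraMap S Sh) := by
    have h4 : (IsLocalRing.maximalIdeal Sh).comap (algebraMap (Localization.AtPrime q) Sh) =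
        IsLocalRing.maximalIdeal _ :=
      ((IsLocalRing.local_hom_TFAE (algebraMap (Localization.AtPrime q) Sh)).out 0 4).mp
        ‹IsLocalHom (algebraMap (Localization.AtPrime q) Sh)›
    rw [IsScalarTower.algebraMap_eq S (Localization.AtPrime q) Sh, ← Ideal.comap_comap, h4]
    exact (IsLocalization.AtPrime.under_maximalIdeal _ q).symm
  obtain ⟨T, _, _, _, _, φ, hφ, j', hj', hφj⟩ :=
    Groth.Hensel1.exists_finite_local_factor R S q Rh Sh (algebraMap S Sh) hj hq
  have hu : ∀ s : q.primeCompl, IsUnit (j' s) := fun s => by
    refine isUnit_of_map_unit φ.toRingHom _ ?_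
    rw [← RingHom.comp_apply, hφj, IsScalarTower.algebraMap_apply S (Localization.AtPrime q) Sh]
    exact (IsLocalization.map_units (Localization.AtPrime q) s).map
      (algebraMap (Localization.AtPrime q) Sh)
  let f : Localization.AtPrime q →+* T := IsLocalization.lift hu
  have hφf : φ.toRingHom.comp f = algebraMap (Localization.AtPrime q) Sh := by
    refine IsLocalization.ringHom_ext q.primeCompl ?_
    rw [RingHom.comp_assoc, IsLocalization.lift_comp, hφj]
    exact IsScalarTower.algebraMap_eq S _ Sh
  have hfloc : IsLocalHom f := ⟨fun z hz => by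
    refine isUnit_of_map_unit (algebraMap (Localization.AtPrime q) Sh) _ ?_
    rw [← hφf]
    exact hz.map φ.toRingHom⟩
  have hTloc : IsLocalHom (algebraMap Rh T) := ⟨fun z hz => by
    refine isUnit_of_map_unit (algebraMap Rh Sh) _ ?_
    rw [← φ.commutes]
    exact hz.map φ⟩
  let kφ := IsLocalRing.ResidueField.map φ.toRingHom
  let _ : Algebra (IsLocalRing.ResidueField T) (IsLocalRing.ResidueField Sh) := kφ.toAlgebra
  let kf := IsLocalRing.ResidueField.map f
  let _ : Algebra (IsLocalRing.ResidueField (Localization.AtPrime q)) (IsLocalRing.ResidueField T) :=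
    kf.toAlgebra
  have : IsScalarTower (IsLocalRing.ResidueField (Localization.AtPrime q)) (IsLocalRing.ResidueField T)
      (IsLocalRing.ResidueField Sh) := by
    refine IsScalarTower.of_algebraMap_eq fun z => ?_
    obtain ⟨z, rfl⟩ := IsLocalRing.residue_surjective z
    show IsLocalRing.residue Sh (algebraMap _ Sh z) = IsLocalRing.residue Sh (φ.toRingHom (f z))
    exact congrArg (IsLocalRing.residue Sh) (RingHom.congr_fun hφf z).symm
  have : IsScalarTower (IsLocalRing.ResidueField Rh) (IsLocalRing.ResidueField T)
      (IsLocalRing.ResidueField Sh) := by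
    refine IsScalarTower.of_algebraMap_eq fun z => ?_
    obtain ⟨z, rfl⟩ := IsLocalRing.residue_surjective z
    show IsLocalRing.residue Sh (algebraMap Rh Sh z) = IsLocalRing.residue Sh (φ (algebraMap Rh T z))
    rw [φ.commutes]
  have : Algebra.IsSeparable (IsLocalRing.ResidueField T) (IsLocalRing.ResidueField Sh) :=
    Algebra.isSeparable_tower_top_of_isSeparable
      (IsLocalRing.ResidueField (Localization.AtPrime q)) (IsLocalRing.ResidueField T)
      (IsLocalRing.ResidueField Sh)
  have : Algebra.IsAlgebraic (IsLocalRing.ResidueField Rh) (IsLocalRing.ResidueField Sh) :=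
    Algebra.IsAlgebraic.trans (IsLocalRing.ResidueField Rh) (IsLocalRing.ResidueField T)
      (IsLocalRing.ResidueField Sh)
  have hins : IsPurelyInseparable (IsLocalRing.ResidueField Rh) (IsLocalRing.ResidueField Sh) :=
    inferInstance
  have : IsPurelyInseparable (IsLocalRing.ResidueField T) (IsLocalRing.ResidueField Sh) :=
    IsPurelyInseparable.tower_top (IsLocalRing.ResidueField Rh) (IsLocalRing.ResidueField T)
      (IsLocalRing.ResidueField Sh)
  let eκ : IsLocalRing.ResidueField T ≃+* IsLocalRing.ResidueField Sh :=
    RingEquiv.ofBijective kφ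
      ⟨kφ.injective, IsPurelyInseparable.surjective_algebraMap_of_isSeparable
        (IsLocalRing.ResidueField T) (IsLocalRing.ResidueField Sh)⟩
  obtain ⟨g, ⟨hg, hgτ⟩, -⟩ := hS.universal T f eκ.symm.toRingHom (by
    refine (RingHom.cancel_right IsLocalRing.residue_surjective).mp (RingHom.ext fun z => ?_)
    show eκ.symm (IsLocalRing.residue Sh (algebraMap _ Sh z)) = IsLocalRing.residue T (f z)
    rw [RingEquiv.symm_apply_eq, ← hφf]
    rfl)
  obtain ⟨e, -, he⟩ := hS.universal Sh (algebraMap (Localization.AtPrime q) Sh) (RingHom.id _)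
    (RingHom.id_comp _)
  have hsec : φ.toRingHom.comp g = RingHom.id Sh := by
    refine (he _ ⟨?_, fun x => ?_⟩).trans (he _ ⟨RingHom.id_comp _, fun _ => rfl⟩).symm
    · show RingHom.comp (RingHom.comp _ g) _ = _
      rw [RingHom.comp_assoc, hg, hφf]
    · show kφ (IsLocalRing.residue T (g x)) = _
      rw [hgτ]
      exact eκ.apply_symm_apply _
  have hfin : Module.Finite Rh Sh :=
    Module.Finite.of_surjective φ.toLinearMap fun x => ⟨g x, RingHom.congr_fun hsec x⟩
  exact ⟨hfin, inferInstance, hins⟩

end Groth.Agent.S9461
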