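import Groth.Statements.S9462
import Mathlib
import Groth.Agent.FlatMor2.Deform

set_option autoImplicit false
universe u
open CAlg

namespace Groth.Agent.S9462

open TensorProduct in
/-- Consider surjections A' → A and B' → B with square-zero kernels I and J and a commutative square A'
→ B', A → B. If A → B is étale and J = I ⊗_A B — that is, J = IB' and the multiplication map B'
⊗_{A'} I → B' is injective — then A' → B' is étale. -/
theorem result (A' : Type u) [CommRing A'] (A : Type u) [CommRing A]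
    [Algebra A' A] (hA : Function.Surjective (algebraMap A' A))
    (hI : RingHom.ker (algebraMap A' A) ^ 2 = ⊥)
    (B' : Type u) [CommRing B'] [Algebra A' B'] (B : Type u) [CommRing B] [Algebra B' B]
    [Algebra A B] [Algebra A' B] [IsScalarTower A' A B] [IsScalarTower A' B' B]
    (hB : Function.Surjective (algebraMap B' B)) (hJ : RingHom.ker (algebraMap B' B) ^ 2 = ⊥)
    [Algebra.Etale A B]
    (hJI : RingHom.ker (algebraMap B' B) = (RingHom.ker (algebraMap A' A)).map (algebraMap A' B'))
    (hinj : Function.Injective ((RingHom.ker (algebraMap A' A)).subtype.baseChange B')) :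
    Algebra.Etale A' B' := by
  set I := RingHom.ker (algebraMap A' A) with hIdef
  let f : A ⊗[A'] B' →ₐ[A] B :=
    Algebra.TensorProduct.lift (Algebra.ofId A B) (IsScalarTower.toAlgHom A' B' B) fun _ _ => Commute.all _ _
  have hone : ∀ b : B', f (1 ⊗ₜ b) = algebraMap B' B b := fun b => by simp [f]
  have hsurj1 : ∀ z : A ⊗[A'] B', ∃ b : B', z = 1 ⊗ₜ b := by
    intro z
    induction z with
    | zero => exact ⟨0, by simp⟩
    | tmul a b =>
      obtain ⟨a', rfl⟩ := hA a
      exact ⟨a' • b, by rw [Algebra.algebraMap_eq_smul_one, smul_tmul]⟩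
    | add x y hx hy =>
      obtain ⟨x, rfl⟩ := hx
      obtain ⟨y, rfl⟩ := hy
      exact ⟨x + y, by rw [tmul_add]⟩
  have hkill : ∀ b ∈ I.map (algebraMap A' B'), (1 : A) ⊗ₜ[A'] b = 0 := by
    intro b hb
    suffices h : ∀ c : B', (1 : A) ⊗ₜ[A'] (b * c) = 0 by simpa using h 1
    refine Submodule.span_induction (p := fun x _ => ∀ c : B', (1 : A) ⊗ₜ[A'] (x * c) = 0) ?_ ?_ ?_ ?_ hb
    · rintro _ ⟨i, hi, rfl⟩ c
      rw [← Algebra.smul_def, ← smul_tmul, Algebra.smul_def, show algebraMap A' A i = 0 from hi]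
      simp
    · intro c; simp
    · intro x y _ _ hx hy c
      rw [add_mul, tmul_add, hx c, hy c, add_zero]
    · intro r x _ hx c
      rw [smul_eq_mul, mul_comm r x, mul_assoc]
      exact hx _
  have hf : Function.Bijective f := by
    refine ⟨(injective_iff_map_eq_zero f).2 fun z hz => ?_, fun b => ?_⟩
    · obtain ⟨b, rfl⟩ := hsurj1 z
      rw [hone] at hz
      exact hkill b (hJI.le hz)
    · obtain ⟨b', rfl⟩ := hB b
      exact ⟨1 ⊗ₜ b', hone b'⟩
  let e : A ⊗[A'] B' ≃ₐ[A] B := AlgEquiv.ofBijective f hf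
  haveI hpo : Algebra.IsPushout A' A B' B :=
    ⟨IsBaseChange.of_equiv e.toLinearEquiv hone⟩
  haveI : Module.Flat A B := inferInstance
  haveI : Module.Flat A (A ⊗[A'] B') := Module.Flat.of_linearEquiv e.toLinearEquiv
  have hinj' : Function.Injective (I.subtype.rTensor B') := by
    have h1 : Function.Injective (I.subtype.lTensor B') := hinj
    rw [← LinearMap.comm_comp_lTensor_comp_comm_eq]
    exact (TensorProduct.comm A' B' A').injective.comp (h1.comp (TensorProduct.comm A' I B').injective)
  haveI hflat : Module.Flat A' B' :=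
    Groth.FlatMor2.flat_of_nilpotent_ker hA ⟨2, hI⟩ hinj'
  have hfp : Algebra.FinitePresentation A' B' := by
    have H : CategoryTheory.IsPushout (CommRingCat.ofHom (algebraMap A' B')) (CommRingCat.ofHom (algebraMap A' A))
        (CommRingCat.ofHom (algebraMap B' B)) (CommRingCat.ofHom (algebraMap A B)) :=
      CommRingCat.isPushout_iff_isPushout.2 (Algebra.IsPushout.symm hpo)
    have hBf : (algebraMap A B).FinitePresentation :=
      (RingHom.finitePresentation_algebraMap).2 inferInstance
    have hfl : ((algebraMap A' B').comp (RingHom.id A')).Flat := by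
      rw [RingHom.comp_id]; exact RingHom.flat_algebraMap_iff.2 hflat
    exact RingHom.finitePresentation_algebraMap.1
      (Groth.FlatMor2.finitePresentation_of_isPushout H hA (RingHom.id A') I ⟨2, hI⟩
        (Ideal.map_id I).symm hfl hBf)
  haveI hsm : Algebra.FormallySmooth A' B' :=
    Algebra.FormallySmooth.of_surjective_of_ker_eq_map_of_flat hA hB hJI hI inferInstance
  haveI : Algebra.FormallyUnramified A' B' := by
    constructor
    haveI : Subsingleton (A ⊗[A'] Ω[B'⁄A']) :=
      (KaehlerDifferential.tensorKaehlerEquivBase A' A B' B).toEquiv.subsingleton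
    let e1 : (A' ⧸ I) ≃ₗ[A'] A :=
      (Submodule.quotEquivOfEq _ _ rfl).trans ((Algebra.linearMap A' A).quotKerEquivOfSurjective hA)
    haveI : Subsingleton ((A' ⧸ I) ⊗[A'] Ω[B'⁄A']) :=
      (TensorProduct.congr e1 (LinearEquiv.refl A' Ω[B'⁄A'])).toEquiv.subsingleton
    haveI h2 : Subsingleton (Ω[B'⁄A'] ⧸ (I • ⊤ : Submodule A' Ω[B'⁄A'])) :=
      (TensorProduct.quotTensorEquivQuotSMul Ω[B'⁄A'] I).symm.toEquiv.subsingleton
    have htop : (I • ⊤ : Submodule A' Ω[B'⁄A']) = ⊤ := Submodule.Quotient.subsingleton_iff.1 h2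
    have h3 : (⊥ : Submodule A' Ω[B'⁄A']) = ⊤ := by
      calc (⊥ : Submodule A' Ω[B'⁄A']) = (I ^ 2) • ⊤ := by rw [hI]; simp
        _ = I • (I • ⊤) := by rw [pow_two, Submodule.mul_smul]
        _ = ⊤ := by rw [htop, htop]
    exact ⟨fun x y => by
      have hx : x ∈ (⊥ : Submodule A' Ω[B'⁄A']) := h3 ▸ trivial
      have hy : y ∈ (⊥ : Submodule A' Ω[B'⁄A']) := h3 ▸ trivial
      rw [(Submodule.mem_bot A').1 hx, (Submodule.mem_bot A').1 hy]⟩
  exact ⟨Algebra.FormallyEtale.of_formallyUnramified_and_formallySmooth, hfp⟩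

end Groth.Agent.S9462
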