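import Groth.Statements.S9467
import Groth.Agent.Hensel1.StrictBaseChange

set_option autoImplicit false
universe u
open Hensel

namespace Groth.Agent.S9467

open TensorProduct in
/-- Let A → B and A → C be ring maps, D = B ⊗_A C, and p_D a prime of D with images p_B, p_C, p_A in B,
C, A. Let A^{sh}, B^{sh}, C^{sh}, D^{sh} be strict henselizations of the local rings A_{p_A},
B_{p_B}, C_{p_C}, D_{p_D}, equipped with local homomorphisms A^{sh} → B^{sh} → D^{sh} and A^{sh} →
C^{sh} → D^{sh} forming a commutative square compatible with A → B → D and A → C → D (such maps are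
the ones attached to a compatible choice of residue-field embeddings into one separably closed
field, and are unique given that choice). If every finite subset of B lies in an A-subalgebra of
finite type that is quasi-finite over A (so that B is a directed union of quasi-finite A-algebras of
finite type), then the induced A^{sh}-algebra map B^{sh} ⊗_{A^{sh}} C^{sh} → D^{sh} is bijective.
(Two further published cases, B integral over A and B_{p_B} a directed union of quasi-finite
A_{p_A}-algebras of finite type, are stated separately.) -/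
theorem result (A B C : Type u) [CommRing A] [CommRing B]
    [CommRing C] [Algebra A B] [Algebra A C]
    (pA : Ideal A) [pA.IsPrime] (pB : Ideal B) [pB.IsPrime] [pB.LiesOver pA]
    (pC : Ideal C) [pC.IsPrime] [pC.LiesOver pA]
    (pD : Ideal (B ⊗[A] C)) [pD.IsPrime] [pD.LiesOver pB]
    (hDC : pD.comap (Algebra.TensorProduct.includeRight : C →ₐ[A] B ⊗[A] C).toRingHom = pC)
    (Ash : Type u) [CommRing Ash] [IsLocalRing Ash] [Algebra (Localization.AtPrime pA) Ash]
    [IsLocalHom (algebraMap (Localization.AtPrime pA) Ash)]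
    [Hensel.IsStrictHenselization (Localization.AtPrime pA) Ash] [Algebra A Ash]
    [IsScalarTower A (Localization.AtPrime pA) Ash]
    (Bsh : Type u) [CommRing Bsh] [IsLocalRing Bsh] [Algebra (Localization.AtPrime pB) Bsh]
    [IsLocalHom (algebraMap (Localization.AtPrime pB) Bsh)]
    [Hensel.IsStrictHenselization (Localization.AtPrime pB) Bsh] [Algebra B Bsh]
    [IsScalarTower B (Localization.AtPrime pB) Bsh] [Algebra A Bsh] [IsScalarTower A B Bsh]
    [Algebra Ash Bsh] [IsScalarTower A Ash Bsh] [IsLocalHom (algebraMap Ash Bsh)]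
    (Csh : Type u) [CommRing Csh] [IsLocalRing Csh] [Algebra (Localization.AtPrime pC) Csh]
    [IsLocalHom (algebraMap (Localization.AtPrime pC) Csh)]
    [Hensel.IsStrictHenselization (Localization.AtPrime pC) Csh] [Algebra C Csh]
    [IsScalarTower C (Localization.AtPrime pC) Csh] [Algebra A Csh] [IsScalarTower A C Csh]
    [Algebra Ash Csh] [IsScalarTower A Ash Csh] [IsLocalHom (algebraMap Ash Csh)]
    (Dsh : Type u) [CommRing Dsh] [IsLocalRing Dsh] [Algebra (Localization.AtPrime pD) Dsh]
    [IsLocalHom (algebraMap (Localization.AtPrime pD) Dsh)]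
    [Hensel.IsStrictHenselization (Localization.AtPrime pD) Dsh] [Algebra (B ⊗[A] C) Dsh]
    [IsScalarTower (B ⊗[A] C) (Localization.AtPrime pD) Dsh]
    [Algebra Bsh Dsh] [IsLocalHom (algebraMap Bsh Dsh)] [Algebra B Dsh] [IsScalarTower B Bsh Dsh]
    [IsScalarTower B (B ⊗[A] C) Dsh]
    [Algebra Csh Dsh] [IsLocalHom (algebraMap Csh Dsh)]
    (hC : ∀ c : C, algebraMap Csh Dsh (algebraMap C Csh c) = algebraMap (B ⊗[A] C) Dsh (1 ⊗ₜ[A] c))
    [Algebra Ash Dsh] [IsScalarTower Ash Bsh Dsh] [IsScalarTower Ash Csh Dsh]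
    (hB : ∀ s : Finset B, ∃ B₀ : Subalgebra A B, (↑s : Set B) ⊆ ↑B₀ ∧
      Algebra.FiniteType A ↥B₀ ∧ Algebra.QuasiFinite A ↥B₀) :
    Function.Bijective (Algebra.TensorProduct.lift (IsScalarTower.toAlgHom Ash Bsh Dsh)
      (IsScalarTower.toAlgHom Ash Csh Dsh) (fun _ _ => Commute.all _ _)) := by
  classical
  have hA := (inferInstance : Hensel.IsStrictHenselization (Localization.AtPrime pA) Ash)
  have hint : ∀ b : B, IsIntegral Ash (algebraMap B Bsh b) := fun b => by
    have := hA.henselian
    obtain ⟨B₀, hb, _, _⟩ := hB {b}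
    exact Groth.Hensel1.isIntegral_of_quasiFiniteAt_centre Ash A B₀ Bsh
      ((algebraMap B Bsh).comp B₀.val.toRingHom)
      (RingHom.ext fun a => by
        show algebraMap B Bsh (algebraMap A B a) = algebraMap Ash Bsh (algebraMap A Ash a)
        rw [← IsScalarTower.algebraMap_apply, ← IsScalarTower.algebraMap_apply])
      ⟨b, hb (Finset.mem_singleton_self b)⟩
  have := hA.henselian
  have := hA.isSepClosure.sep_closed
  have := Groth.Hensel1.isIntegral_of_isStrictHenselization Ash B pB Bsh hint
  let jB : B →ₐ[A] Bsh ⊗[Ash] Csh :=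
    { (Algebra.TensorProduct.includeLeftRingHom (R := Ash) (A := Bsh) (B := Csh)).comp (algebraMap B Bsh) with
      commutes' := fun a => by
        show algebraMap B Bsh (algebraMap A B a) ⊗ₜ[Ash] (1 : Csh) = algebraMap A Bsh a ⊗ₜ[Ash] (1 : Csh)
        rw [← IsScalarTower.algebraMap_apply] }
  let jC : C →ₐ[A] Bsh ⊗[Ash] Csh :=
    { (Algebra.TensorProduct.includeRight (R := Ash) (A := Bsh) (B := Csh)).toRingHom.comp (algebraMap C Csh) with
      commutes' := fun a => by
        show (1 : Bsh) ⊗ₜ[Ash] algebraMap C Csh (algebraMap A C a) = algebraMap A Bsh a ⊗ₜ[Ash] (1 : Csh)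
        rw [← IsScalarTower.algebraMap_apply, IsScalarTower.algebraMap_apply A Ash Csh,
          IsScalarTower.algebraMap_apply A Ash Bsh, Algebra.algebraMap_eq_smul_one (R := Ash) (A := Csh),
          Algebra.algebraMap_eq_smul_one (R := Ash) (A := Bsh), TensorProduct.smul_tmul] }
  let j := Algebra.TensorProduct.lift jB jC fun _ _ => Commute.all _ _
  refine Groth.Hensel1.bijective_lift_of_isIntegral Ash B C (B ⊗[A] C) pB pC pD
    Algebra.TensorProduct.includeLeftRingHom Algebra.TensorProduct.includeRight.toRingHom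
    Bsh Csh Dsh j.toRingHom (fun b => ?_) (fun c => ?_) (fun d => ?_)
  · show j (b ⊗ₜ[A] (1 : C)) = _
    simp [j, jB]
  · show j ((1 : B) ⊗ₜ[A] c) = _
    simp [j, jC]
  · have hb : ∀ b : B, algebraMap Bsh Dsh (algebraMap B Bsh b) =
        algebraMap (B ⊗[A] C) Dsh (b ⊗ₜ[A] (1 : C)) := fun b => by
      rw [← IsScalarTower.algebraMap_apply, IsScalarTower.algebraMap_apply B (B ⊗[A] C) Dsh,
        Algebra.TensorProduct.algebraMap_apply, Algebra.algebraMap_self, RingHom.id_apply]
    induction d with
    | zero => simp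
    | tmul b c =>
      have h3 : b ⊗ₜ[A] c = (b ⊗ₜ[A] (1 : C)) * ((1 : B) ⊗ₜ[A] c) := by simp
      conv_rhs => rw [h3, map_mul, ← hb, ← hC]
      simp [j, jB, jC]
    | add x y hx hy => simp only [map_add, hx, hy]

end Groth.Agent.S9467
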