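import Groth.Statements.S9469
import Groth.Agent.Hensel1.PointPairs

set_option autoImplicit false
universe u
open Hensel

namespace Groth.Agent.S9469

/-- Let R be a ring and p a prime of R. Consider pairs (S, q) with S an étale R-algebra and q a prime of
S lying over p such that κ(p) → κ(q) is bijective; a morphism of pairs is an R-algebra map pulling
the second prime back to the first. Then any two parallel morphisms of pairs φ, ψ : (S₁, q₁) → (S₂,
q₂) are coequalized by a morphism of pairs (S₂, q₂) → (S₃, q₃). -/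
theorem result (R : Type u) [CommRing R]
    (p : Ideal R) [p.IsPrime] (S₁ : Type u) [CommRing S₁] [Algebra R S₁] [Algebra.Etale R S₁] (q₁ : Ideal S₁) [q₁.IsPrime] (hq₁ : p = q₁.comap (algebraMap R S₁))
    (hq₁κ : Function.Bijective (Ideal.ResidueField.map p q₁ (algebraMap R S₁) hq₁))
    (S₂ : Type u) [CommRing S₂] [Algebra R S₂] [Algebra.Etale R S₂] (q₂ : Ideal S₂) [q₂.IsPrime] (hq₂ : p = q₂.comap (algebraMap R S₂))
    (hq₂κ : Function.Bijective (Ideal.ResidueField.map p q₂ (algebraMap R S₂) hq₂))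
    (φ ψ : S₁ →ₐ[R] S₂) (hφ : q₂.comap φ.toRingHom = q₁) (hψ : q₂.comap ψ.toRingHom = q₁) :
    ∃ (S₃ : Type u) (_ : CommRing S₃) (_ : Algebra R S₃) (_ : Algebra.Etale R S₃) (q₃ : Ideal S₃)
      (_ : q₃.IsPrime) (hq₃ : p = q₃.comap (algebraMap R S₃)),
      Function.Bijective (Ideal.ResidueField.map p q₃ (algebraMap R S₃) hq₃) ∧
        ∃ χ : S₂ →ₐ[R] S₃, q₃.comap χ.toRingHom = q₂ ∧ χ.comp φ = χ.comp ψ := by
  obtain ⟨π₂, hπ₂⟩ := Groth.Hensel1.exists_point q₂ hq₂ hq₂κ
  have h : π₂.comp φ = π₂.comp ψ := Groth.Hensel1.point_unique q₁ hq₁ hq₁κ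
    (by rw [← hφ, ← hπ₂, RingHom.comap_ker]; rfl) (by rw [← hψ, ← hπ₂, RingHom.comap_ker]; rfl)
  obtain ⟨e, π, het, hπ, hcoeq⟩ := Groth.Hensel1.exists_pointed_coequalizing π₂ φ ψ h
  have hprime : (RingHom.ker π.toRingHom).IsPrime := RingHom.ker_isPrime _
  obtain ⟨hq, hb⟩ := Groth.Hensel1.residueField_bijective_of_point π _ rfl
  refine ⟨Localization.Away e, inferInstance, inferInstance, het, _, hprime, hq, hb,
    IsScalarTower.toAlgHom R S₂ (Localization.Away e), ?_, hcoeq⟩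
  rw [RingHom.comap_ker, ← hπ₂, ← hπ]
  rfl

end Groth.Agent.S9469
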