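import Groth.Statements.S9470
import Groth.Agent.Hensel1.PointPairs

set_option autoImplicit false
universe u
open Hensel

namespace Groth.Agent.S9470

/-- Let R be a ring, p a prime of R and R^h a henselization of the local ring R_p, regarded as an
R-algebra through R_p. For pairs (S, q) with S an étale R-algebra and q a prime of S over p such
that κ(p) → κ(q) is bijective: (a) there is exactly one R-algebra map f : S → R^h under which the
maximal ideal pulls back to q; (b) every element of R^h is f(s) for some such pair, map f and s ∈ S;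
(c) if such an f sends s to 0, then some R-algebra map S → S' to another such pair (S', q'), pulling
q' back to q, already sends s to 0. Together with filteredness of the category of pairs this
expresses that R^h is canonically the colimit of S over all pairs (S, q). (The published statement
also records the equal colimit of the local rings S_q.) -/
theorem result (R : Type u) [CommRing R]
    (p : Ideal R) [p.IsPrime] (Rh : Type u) [CommRing Rh] [IsLocalRing Rh]
    [Algebra (Localization.AtPrime p) Rh] [IsLocalHom (algebraMap (Localization.AtPrime p) Rh)]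
    [Hensel.IsHenselization (Localization.AtPrime p) Rh] [Algebra R Rh]
    [IsScalarTower R (Localization.AtPrime p) Rh] :
    (∀ (S : Type u) [CommRing S] [Algebra R S] [Algebra.Etale R S] (q : Ideal S) [q.IsPrime]
        (hq : p = q.comap (algebraMap R S)),
        Function.Bijective (Ideal.ResidueField.map p q (algebraMap R S) hq) →
          ∃! f : S →ₐ[R] Rh, (IsLocalRing.maximalIdeal Rh).comap f.toRingHom = q) ∧
    (∀ x : Rh, ∃ (S : Type u) (_ : CommRing S) (_ : Algebra R S) (_ : Algebra.Etale R S) (q : Ideal S)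
        (_ : q.IsPrime) (hq : p = q.comap (algebraMap R S)),
        Function.Bijective (Ideal.ResidueField.map p q (algebraMap R S) hq) ∧
          ∃ (f : S →ₐ[R] Rh) (s : S), (IsLocalRing.maximalIdeal Rh).comap f.toRingHom = q ∧ f s = x) ∧
    (∀ (S : Type u) [CommRing S] [Algebra R S] [Algebra.Etale R S] (q : Ideal S) [q.IsPrime]
        (hq : p = q.comap (algebraMap R S)),
        Function.Bijective (Ideal.ResidueField.map p q (algebraMap R S) hq) →
          ∀ (f : S →ₐ[R] Rh), (IsLocalRing.maximalIdeal Rh).comap f.toRingHom = q → ∀ s : S, f s = 0 →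
            ∃ (S' : Type u) (_ : CommRing S') (_ : Algebra R S') (_ : Algebra.Etale R S') (q' : Ideal S')
              (_ : q'.IsPrime) (hq' : p = q'.comap (algebraMap R S')),
              Function.Bijective (Ideal.ResidueField.map p q' (algebraMap R S') hq') ∧
                ∃ φ : S →ₐ[R] S', q'.comap φ.toRingHom = q ∧ φ s = 0) := by
  have := (inferInstance : Hensel.IsHenselization (Localization.AtPrime p) Rh).henselian
  obtain ⟨τ, Φ, hΦ, hres⟩ := Groth.Hensel1.exists_hens_comparison (p := p) Rh
  have : IsScalarTower R Rh (IsLocalRing.ResidueField Rh) := IsScalarTower.of_algebraMap_eq fun _ => rfl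
  let res : Rh →ₐ[R] IsLocalRing.ResidueField Rh := IsScalarTower.toAlgHom R Rh _
  have kerτ : ∀ {S : Type u} [CommRing S] [Algebra R S] (π : S →ₐ[R] p.ResidueField) (f : S →ₐ[R] Rh),
      (∀ y, IsLocalRing.residue Rh (f y) = τ (π y)) →
      (IsLocalRing.maximalIdeal Rh).comap f.toRingHom = RingHom.ker π.toRingHom := by
    intro S _ _ π f h
    ext y
    show f y ∈ IsLocalRing.maximalIdeal Rh ↔ π y = 0
    rw [← IsLocalRing.residue_eq_zero_iff, h, map_eq_zero_iff τ (RingHom.injective τ.toRingHom)]
  have uniq : ∀ (S : Type u) [CommRing S] [Algebra R S] [Algebra.Etale R S] (q : Ideal S) [q.IsPrime]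
      (hq : p = q.comap (algebraMap R S)) (π : S →ₐ[R] p.ResidueField),
      RingHom.ker π.toRingHom = q →
      Function.Bijective (Ideal.ResidueField.map p q (algebraMap R S) hq) →
      ∀ f : S →ₐ[R] Rh, (IsLocalRing.maximalIdeal Rh).comap f.toRingHom = q →
        ∀ y, IsLocalRing.residue Rh (f y) = τ (π y) := by
    intro S _ _ _ q _ hq π hπ hb f hf y
    have h : res.comp f = τ.comp π := Groth.Hensel1.point_unique q hq hb
      (by rw [← hf]; ext z; exact (IsLocalRing.residue_eq_zero_iff _))
      (by rw [← hπ]; ext z; exact map_eq_zero_iff τ (RingHom.injective τ.toRingHom))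
    exact DFunLike.congr_fun h y
  refine ⟨fun S _ _ _ q _ hq hb => ?_, fun x => ?_, fun S _ _ _ q _ hq hb f hf s hs => ?_⟩
  · obtain ⟨π, hπ⟩ := Groth.Hensel1.exists_point q hq hb
    obtain ⟨f, hf, hu⟩ := Groth.Hensel1.existsUnique_algHom_lift_residue (T := Rh) (τ.comp π)
    exact ⟨f, (kerτ π f hf).trans hπ, fun g hg => hu g (uniq S q hq π hπ hb g hg)⟩
  · obtain ⟨z, rfl⟩ := hΦ.2 x
    obtain ⟨i, y, rfl⟩ := Groth.Hensel1.Hens.exists_of z
    obtain ⟨c, s, rfl⟩ := IsLocalization.exists_mk'_eq i.q.primeCompl y
    let S := Localization.Away (s : i.P.Ring)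
    have := Algebra.Etale.of_isLocalizationAway (R := i.P.Ring) (A := S) (s : i.P.Ring)
    have : Algebra.Etale R S := Algebra.Etale.comp R i.P.Ring S
    have hs : IsUnit ((IsScalarTower.toAlgHom R i.P.Ring i.Obj) (s : i.P.Ring)) :=
      IsLocalization.map_units i.Obj s
    let g : S →ₐ[R] i.Obj :=
      IsLocalization.Away.liftAlgHom (f := IsScalarTower.toAlgHom R i.P.Ring i.Obj) (s : i.P.Ring) hs
    let π : S →ₐ[R] p.ResidueField := i.ptL.comp g
    have hprime : (RingHom.ker π.toRingHom).IsPrime := RingHom.ker_isPrime _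
    obtain ⟨hq, hb⟩ := Groth.Hensel1.residueField_bijective_of_point π _ rfl
    refine ⟨S, inferInstance, inferInstance, inferInstance, _, hprime, hq, hb,
      Φ.comp ((Groth.Hensel1.Hens.of i).comp g), IsLocalization.mk' S c (⟨(s : i.P.Ring), 1, pow_one _⟩ : Submonoid.powers (s : i.P.Ring)),
      kerτ π _ (fun w => hres _), ?_⟩
    show Φ (Groth.Hensel1.Hens.of i (g _)) = _
    congr 2
    refine IsLocalization.eq_mk'_iff_mul_eq.mpr ?_
    have hg : ∀ a : i.P.Ring, g (algebraMap _ S a) = algebraMap _ i.Obj a := fun a => by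
      rw [IsLocalization.Away.liftAlgHom_apply]
      exact IsLocalization.Away.lift_eq (S := S)
        (g := (IsScalarTower.toAlgHom R i.P.Ring i.Obj).toRingHom) (s : i.P.Ring) hs a
    rw [← hg, ← map_mul, ← hg, IsLocalization.mk'_spec S c (⟨(s : i.P.Ring), 1, pow_one _⟩ :
      Submonoid.powers (s : i.P.Ring))]
  · obtain ⟨π, hπ⟩ := Groth.Hensel1.exists_point q hq hb
    obtain ⟨j, ψ, hψ, -⟩ := Groth.Hensel1.HensIdx.exists_dominating S π
    let g : S →ₐ[R] Groth.Hensel1.Hens R p.ResidueField :=
      (Groth.Hensel1.Hens.of j).comp ((IsScalarTower.toAlgHom R j.P.Ring j.Obj).comp ψ)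
    have hgf : Φ.comp g = f := by
      obtain ⟨F, -, hu⟩ := Groth.Hensel1.existsUnique_algHom_lift_residue (T := Rh) (τ.comp π)
      refine (hu _ fun y => ?_).trans (hu f (uniq S q hq π hπ hb f hf)).symm
      show IsLocalRing.residue Rh (Φ (g y)) = τ (π y)
      rw [hres, ← hψ]
      show τ (Groth.Hensel1.Hens.pt (Groth.Hensel1.Hens.of j (algebraMap _ j.Obj (ψ y)))) = _
      rw [Groth.Hensel1.Hens.pt_of, Groth.Hensel1.HensIdx.ptL_algebraMap]
      rfl
    have h0 : algebraMap j.P.Ring j.Obj (ψ s) = 0 := by
      refine Groth.Hensel1.Hens.injective_of j ((hΦ.1 ?_).trans (map_zero _).symm)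
      rw [map_zero]
      exact (DFunLike.congr_fun hgf s).trans hs
    obtain ⟨u, hu⟩ := (IsLocalization.map_eq_zero_iff j.q.primeCompl j.Obj (ψ s)).mp h0
    let S' := Localization.Away (u : j.P.Ring)
    have := Algebra.Etale.of_isLocalizationAway (R := j.P.Ring) (A := S') (u : j.P.Ring)
    have : Algebra.Etale R S' := Algebra.Etale.comp R j.P.Ring S'
    have hu' : IsUnit (j.pt.toRingHom (u : j.P.Ring)) := Groth.Hensel1.HensIdx.isUnit_pt u
    let π' : S' →ₐ[R] p.ResidueField := IsLocalization.Away.liftAlgHom (f := j.pt) (u : j.P.Ring) hu'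
    have hπ' : ∀ a, π' (algebraMap j.P.Ring S' a) = j.pt a := fun a => by
      rw [IsLocalization.Away.liftAlgHom_apply]
      exact IsLocalization.Away.lift_eq (S := S') (g := j.pt.toRingHom) (u : j.P.Ring) hu' a
    have hprime : (RingHom.ker π'.toRingHom).IsPrime := RingHom.ker_isPrime _
    obtain ⟨hq', hb'⟩ := Groth.Hensel1.residueField_bijective_of_point π' _ rfl
    refine ⟨S', inferInstance, inferInstance, inferInstance, _, hprime, hq', hb',
      (IsScalarTower.toAlgHom R j.P.Ring S').comp ψ, ?_, ?_⟩
    · rw [RingHom.comap_ker, ← hπ, ← hψ]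
      congr 1
      exact RingHom.ext fun a => hπ' (ψ a)
    · exact (IsLocalization.map_eq_zero_iff (Submonoid.powers (u : j.P.Ring)) S' (ψ s)).mpr
        ⟨⟨(u : j.P.Ring), 1, pow_one _⟩, hu⟩

end Groth.Agent.S9470
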