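import Groth.Statements.S9474
import Mathlib
import Groth.Agent.Calg5.UnramPoly

set_option autoImplicit false
universe u
open CAlg

namespace Groth.Agent.S9474

open TensorProduct in
/-- If R → S is unramified (of finite type with vanishing module of differentials), then there are a
finite type ℤ-algebra R₀, an unramified R₀-algebra S₀, a ring map R₀ → R, and a surjective R-algebra
map from R ⊗_{R₀} S₀ onto S. -/
theorem result (R : Type u) [CommRing R] (S : Type u)
    [CommRing S] [Algebra R S] [Algebra.Unramified R S] :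
    ∃ (R₀ : Type u) (_ : CommRing R₀) (_ : Algebra.FiniteType ℤ R₀) (S₀ : Type u) (_ : CommRing S₀)
      (_ : Algebra R₀ S₀) (_ : Algebra.Unramified R₀ S₀) (_ : Algebra R₀ R)
      (ψ : R ⊗[R₀] S₀ →ₐ[R] S), Function.Surjective ψ := by
  classical
  obtain ⟨n, φ, hφ⟩ := Algebra.FiniteType.iff_quotient_mvPolynomial''.mp
    (inferInstance : Algebra.FiniteType R S)
  let _ : Algebra (MvPolynomial (Fin n) R) S := φ.toRingHom.toAlgebra
  have : IsScalarTower R (MvPolynomial (Fin n) R) S := .of_algebraMap_eq fun x => (φ.commutes x).symm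
  have hex := KaehlerDifferential.exact_kerCotangentToTensor_mapBaseChange R (MvPolynomial (Fin n) R) S hφ
  let b := (KaehlerDifferential.mvPolynomialBasis R (Fin n)).baseChange S
  have hf : ∀ i : Fin n, ∃ f : (MvPolynomial (Fin n) R), φ f = 0 ∧
      ∀ l, φ (MvPolynomial.pderiv l f) = if i = l then 1 else 0 := by
    intro i
    obtain ⟨y, hy⟩ := (hex ((1 : S) ⊗ₜ[(MvPolynomial (Fin n) R)] KaehlerDifferential.D R (MvPolynomial (Fin n) R) (MvPolynomial.X i))).mp
      (Subsingleton.elim _ _)
    obtain ⟨f, rfl⟩ := Ideal.toCotangent_surjective _ y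
    rw [KaehlerDifferential.kerCotangentToTensor_toCotangent] at hy
    refine ⟨f.1, f.2, fun l => ?_⟩
    have h := congrArg (fun z => b.repr z l) hy
    simp only [b, Module.Basis.baseChange_repr_tmul, Algebra.smul_def, mul_one] at h
    rw [KaehlerDifferential.mvPolynomialBasis_repr_apply,
      KaehlerDifferential.mvPolynomialBasis_repr_apply, MvPolynomial.pderiv_X, Pi.single_apply] at h
    refine h.trans ?_
    rw [apply_ite (algebraMap (MvPolynomial (Fin n) R) S)]
    simp only [map_one, map_zero, eq_comm]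
  choose f hf0 hfd using hf
  let F : Fin n ⊕ (Fin n × Fin n) → (MvPolynomial (Fin n) R) := Sum.elim f
    fun p => MvPolynomial.pderiv p.2 (f p.1) - if p.1 = p.2 then 1 else 0
  have hF : ∀ j, φ (F j) = 0 := by
    rintro (i | p)
    · exact hf0 i
    · simp only [F, Sum.elim_inr, map_sub, hfd, apply_ite φ, map_one, map_zero, sub_self]
  let coeffsF : Finset R := Finset.univ.biUnion fun j => MvPolynomial.coeffs (F j)
  let R₀ : Subalgebra ℤ R := Algebra.adjoin ℤ (coeffsF : Set R)
  have : Algebra.FiniteType ℤ R₀ := (Subalgebra.fg_iff_finiteType R₀).mp ⟨coeffsF, rfl⟩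
  have hmap : ∀ j, ∃ G : MvPolynomial (Fin n) R₀, MvPolynomial.map (algebraMap R₀ R) G = F j := by
    intro j
    refine MvPolynomial.mem_range_map_iff_coeffs_subset.mpr fun c hc => ?_
    exact ⟨⟨c, Algebra.subset_adjoin
      (Finset.mem_biUnion.mpr ⟨j, Finset.mem_univ j, hc⟩)⟩, rfl⟩
  choose G hG using hmap
  let S₀ := MvPolynomial (Fin n) R₀ ⧸ Ideal.span (Set.range G)
  let π : MvPolynomial (Fin n) R₀ →ₐ[R₀] S₀ := Ideal.Quotient.mkₐ R₀ _
  have hπ : Function.Surjective π := Ideal.Quotient.mk_surjective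
  have hπG : ∀ j, π (G j) = 0 := fun j =>
    Ideal.Quotient.eq_zero_iff_mem.mpr (Ideal.subset_span ⟨j, rfl⟩)
  suffices key : ∀ (T : Type u) [CommRing T] [Algebra R₀ T] (π : MvPolynomial (Fin n) R₀ →ₐ[R₀] T),
      Function.Surjective π → (∀ j, π (G j) = 0) → Algebra.Unramified R₀ T by
    have hunram : Algebra.Unramified R₀ S₀ := key S₀ π hπ hπG
    let x : Fin n → S := fun i => φ (MvPolynomial.X i)
    have hφx : ∀ q : (MvPolynomial (Fin n) R), MvPolynomial.aeval x q = φ q := fun q => by
      have : MvPolynomial.aeval x = φ := MvPolynomial.algHom_ext fun i => by simp [x]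
      rw [this]
    let ev : MvPolynomial (Fin n) R₀ →ₐ[R₀] S := MvPolynomial.aeval x
    have hev : ∀ q, ev q = φ (MvPolynomial.map (algebraMap R₀ R) q) := fun q => by
      rw [← hφx, MvPolynomial.aeval_map_algebraMap]
    let ψ₀ : S₀ →ₐ[R₀] S := Ideal.Quotient.liftₐ _ ev fun a ha => by
      refine RingHom.mem_ker.mp (Ideal.span_le.mpr ?_ ha : a ∈ RingHom.ker ev)
      rintro _ ⟨j, rfl⟩
      show ev (G j) = 0
      rw [hev, hG, hF]
    let ψ : R ⊗[R₀] S₀ →ₐ[R] S :=
      Algebra.TensorProduct.lift (Algebra.ofId R S) ψ₀ fun _ _ => Commute.all _ _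
    refine ⟨R₀, inferInstance, inferInstance, S₀, inferInstance, inferInstance, hunram, inferInstance,
      ψ, fun s => ?_⟩
    obtain ⟨p, rfl⟩ := hφ s
    show φ p ∈ ψ.range
    rw [← hφx]
    have : (MvPolynomial.aeval x : (MvPolynomial (Fin n) R) →ₐ[R] S).range ≤ ψ.range := by
      rw [← Algebra.adjoin_range_eq_range_aeval]
      refine Algebra.adjoin_le ?_
      rintro _ ⟨i, rfl⟩
      refine ⟨1 ⊗ₜ π (MvPolynomial.X i), ?_⟩
      show Algebra.TensorProduct.lift (Algebra.ofId R S) ψ₀ _ _ = _
      rw [Algebra.TensorProduct.lift_tmul, map_one, one_mul]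
      exact MvPolynomial.aeval_X x i
    exact this ⟨p, rfl⟩
  intro T _ _ π hπ hπG
  have := Groth.Calg5.formallyUnramified_of_jacobian π hπ (fun i => G (Sum.inl i))
    (fun i => hπG _) fun i l => by
      have e : G (Sum.inr (i, l)) =
          MvPolynomial.pderiv l (G (Sum.inl i)) - if i = l then 1 else 0 := by
        refine MvPolynomial.map_injective (algebraMap R₀ R) Subtype.val_injective ?_
        rw [map_sub, hG, ← MvPolynomial.pderiv_map, hG]
        split_ifs <;> simp [F, *]
      have := hπG (Sum.inr (i, l))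
      rw [e, map_sub, sub_eq_zero] at this
      rw [this]
      split_ifs <;> simp
  exact ⟨this, Algebra.FiniteType.of_surjective π hπ⟩

end Groth.Agent.S9474
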