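import Groth.Statements.S9483
import Groth.Agent.Pi1Lef.GermApply

set_option backward.isDefEq.respectTransparency false
set_option backward.defeqAttrib.useBackward true
set_option linter.style.haveILetI false
-- import your own Groth.Agent.* helpers here

set_option autoImplicit false
universe u
open Pi1

namespace Groth.Agent.S9483

open AlgebraicGeometry CategoryTheory CategoryTheory.Limits in
/-- Let A be a Noetherian local ring with maximal ideal m, f ∈ m, U the punctured spectrum of A and U₀
that of A/fA (realised as U ×_{Spec A} Spec(A/fA)). Assume A is (f)-adically complete, f is a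
nonzerodivisor and H^1_m(A/fA) is a finite A-module. Then restriction to U₀ from the system of open
neighbourhoods of U₀ in U is fully faithful: for every open U' ⊆ U through which U₀ ⟶ Spec A factors
(as u') and finite etale covers V', W' of U': every morphism between the restrictions of V' and W'
along u' is, after shrinking U' to a smaller such open U'' (with U₀ ⟶ U'' ⟶ U' composing to u'), the
restriction of a morphism over U'' (compared through the canonical isomorphism between restricting
along u' and restricting in two steps), and two morphisms V' ⟶ W' with the same restriction along u'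
agree over some such U''. -/
theorem result (A : Type u) [CommRing A] [IsNoetherianRing A] [IsLocalRing A] (f : A) (hf : f ∈ IsLocalRing.maximalIdeal A)
    [IsAdicComplete (Ideal.span {f}) A] (hnz : f ∈ nonZeroDivisors A)
    (h1 : Module.Finite A (LocCoh.H (IsLocalRing.maximalIdeal A) 1 (A ⧸ Ideal.span {f}))) :
    ∀ (U' : (Spec (CommRingCat.of A)).Opens) (_ : U' ≤ (FEt.puncturedSpec A)) (u' : pullback (FEt.puncturedSpec A).ι (Spec.map (CommRingCat.ofHom (Ideal.Quotient.mk (Ideal.span {f})))) ⟶ (U' : Scheme.{u}))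
      (_ : u' ≫ U'.ι = (pullback.fst (FEt.puncturedSpec A).ι (Spec.map (CommRingCat.ofHom (Ideal.Quotient.mk (Ideal.span {f})))) ≫ (FEt.puncturedSpec A).ι)) (V' W' : FEt.Cat (U' : Scheme.{u})),
      (∀ φ₀ : (FEt.restrict u').obj V' ⟶ (FEt.restrict u').obj W',
        ∃ (U'' : (Spec (CommRingCat.of A)).Opens) (h : U'' ≤ U') (u'' : pullback (FEt.puncturedSpec A).ι (Spec.map (CommRingCat.ofHom (Ideal.Quotient.mk (Ideal.span {f})))) ⟶ (U'' : Scheme.{u}))
          (hu : u'' ≫ (Spec (CommRingCat.of A)).homOfLE h = u')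
          (φ : (FEt.restrict ((Spec (CommRingCat.of A)).homOfLE h)).obj V' ⟶ (FEt.restrict ((Spec (CommRingCat.of A)).homOfLE h)).obj W'),
          (FEt.restrict u'').map φ =
            (MorphismProperty.Over.pullbackComp u'' ((Spec (CommRingCat.of A)).homOfLE h) u' hu.symm).inv.app V' ≫ φ₀ ≫
              (MorphismProperty.Over.pullbackComp u'' ((Spec (CommRingCat.of A)).homOfLE h) u' hu.symm).hom.app W') ∧
      (∀ φ ψ : V' ⟶ W', (FEt.restrict u').map φ = (FEt.restrict u').map ψ →
        ∃ (U'' : (Spec (CommRingCat.of A)).Opens) (h : U'' ≤ U') (u'' : pullback (FEt.puncturedSpec A).ι (Spec.map (CommRingCat.ofHom (Ideal.Quotient.mk (Ideal.span {f})))) ⟶ (U'' : Scheme.{u})),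
          u'' ≫ (Spec (CommRingCat.of A)).homOfLE h = u' ∧
          (FEt.restrict ((Spec (CommRingCat.of A)).homOfLE h)).map φ = (FEt.restrict ((Spec (CommRingCat.of A)).homOfLE h)).map ψ) := by
  intro U' hU u' hu' V' W'
  obtain ⟨hci, hr, hsub⟩ := Groth.Pi1Lef.range_lift hU u' hu'
  haveI := hci
  haveI : CompactSpace ↥(U' : Scheme.{u}) := isCompact_iff_compactSpace.1 (TopologicalSpace.NoetherianSpace.isCompact _)
  haveI : IsLocallyNoetherian (U' : Scheme.{u}) := LocallyOfFiniteType.isLocallyNoetherian U'.ι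
  haveI : IsNoetherian (U' : Scheme.{u}) := {}
  refine Groth.Pi1Lef.germ_fullyFaithful u' ?_ V' W'
  intro Z D₁ D₂ hD₁ hD₂ hunion hdisj C hC hC₁ hC₂
  let z : Z.left ⟶ (U' : Scheme.{u}) := Z.hom
  haveI : IsFinite z := Z.prop.1
  haveI : Etale z := Z.prop.2
  obtain ⟨y₁, hy₁C, hy₁⟩ := hC₁
  obtain ⟨y₂, hy₂C, hy₂⟩ := hC₂
  obtain ⟨η, hη⟩ : ∃ η, IsGenericPoint η C := QuasiSober.sober hC.1 (isClosed_of_mem_irreducibleComponents C hC)
  have hunion' : D₁ ∪ D₂ = (z ≫ U'.ι).base ⁻¹' PrimeSpectrum.zeroLocus {f} := by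
    rw [hunion, hr]; rfl
  refine Groth.Pi1Lef.false_of_cover hU hsub z (fun ι _ a hcov hle _ => ?_) hD₁ hD₂ hdisj hunion' hy₁ hy₂
    (hη.specializes hy₁C) (hη.specializes hy₂C)
  haveI : IsFinite (pullback.snd z ((Spec (CommRingCat.of A)).homOfLE hle)) :=
    MorphismProperty.pullback_snd _ _ inferInstance
  haveI : Flat (pullback.snd z ((Spec (CommRingCat.of A)).homOfLE hle)) :=
    MorphismProperty.pullback_snd _ _ inferInstance
  exact Groth.Pi1Lef.colimBij_of_flat a _ _ hnz hcov h1

end Groth.Agent.S9483
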