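import Groth.Statements.S9484
import Groth.Agent.Pi1Lef.GermApply
import Groth.Agent.PropsBasic2.Reduced
import Groth.Agent.CohTwo.PushClosed
import Groth.Prelude.Def_IntMult

set_option backward.isDefEq.respectTransparency false
set_option backward.defeqAttrib.useBackward true
set_option linter.style.haveILetI false
-- import your own Groth.Agent.* helpers here

set_option autoImplicit false
universe u
attribute [local instance] HasDerivedCategory.standard
open Pi1

namespace Groth.Agent.S9484

open AlgebraicGeometry CategoryTheory CategoryTheory.Limits in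
/-- Let A be a Noetherian local ring with maximal ideal m and a dualizing complex, f ∈ m with A complete
for the (f)-adic topology, U the punctured spectrum of A and U₀ that of A/fA (realised as U ×_{Spec
A} Spec(A/fA)). Assume dim(A/p) ≥ 3 for every minimal prime p of A with f ∉ p. Then restriction to
U₀ from the system of open neighbourhoods of U₀ in U is fully faithful: for every open U' ⊆ U
through which U₀ ⟶ Spec A factors (as u') and finite etale covers V', W' of U': every morphism
between the restrictions of V' and W' along u' is, after shrinking U' to a smaller such open U''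
(with U₀ ⟶ U'' ⟶ U' composing to u'), the restriction of a morphism over U'' (compared through the
canonical isomorphism between restricting along u' and restricting in two steps), and two morphisms
V' ⟶ W' with the same restriction along u' agree over some such U''. -/
theorem result (A : Type u) [CommRing A] [IsNoetherianRing A] [IsLocalRing A] (f : A) (hf : f ∈ IsLocalRing.maximalIdeal A)
    (hd : ∃ ω : Dual.D A, Dual.IsDualizing A ω) [IsAdicComplete (Ideal.span {f}) A]
    (hc : ∀ p : Ideal A, p ∈ minimalPrimes A → f ∉ p → (3 : WithBot ℕ∞) ≤ ringKrullDim (A ⧸ p)) :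
    ∀ (U' : (Spec (CommRingCat.of A)).Opens) (_ : U' ≤ (FEt.puncturedSpec A)) (u' : pullback (FEt.puncturedSpec A).ι (Spec.map (CommRingCat.ofHom (Ideal.Quotient.mk (Ideal.span {f})))) ⟶ (U' : Scheme.{u}))
      (_ : u' ≫ U'.ι = (pullback.fst (FEt.puncturedSpec A).ι (Spec.map (CommRingCat.ofHom (Ideal.Quotient.mk (Ideal.span {f})))) ≫ (FEt.puncturedSpec A).ι)) (V' W' : FEt.Cat (U' : Scheme.{u})),
      (∀ φ₀ : (FEt.restrict u').obj V' ⟶ (FEt.restrict u').obj W',
        ∃ (U'' : (Spec (CommRingCat.of A)).Opens) (h : U'' ≤ U') (u'' : pullback (FEt.puncturedSpec A).ι (Spec.map (CommRingCat.ofHom (Ideal.Quotient.mk (Ideal.span {f})))) ⟶ (U'' : Scheme.{u}))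
          (hu : u'' ≫ (Spec (CommRingCat.of A)).homOfLE h = u')
          (φ : (FEt.restrict ((Spec (CommRingCat.of A)).homOfLE h)).obj V' ⟶ (FEt.restrict ((Spec (CommRingCat.of A)).homOfLE h)).obj W'),
          (FEt.restrict u'').map φ =
            (MorphismProperty.Over.pullbackComp u'' ((Spec (CommRingCat.of A)).homOfLE h) u' hu.symm).inv.app V' ≫ φ₀ ≫
              (MorphismProperty.Over.pullbackComp u'' ((Spec (CommRingCat.of A)).homOfLE h) u' hu.symm).hom.app W') ∧
      (∀ φ ψ : V' ⟶ W', (FEt.restrict u').map φ = (FEt.restrict u').map ψ →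
        ∃ (U'' : (Spec (CommRingCat.of A)).Opens) (h : U'' ≤ U') (u'' : pullback (FEt.puncturedSpec A).ι (Spec.map (CommRingCat.ofHom (Ideal.Quotient.mk (Ideal.span {f})))) ⟶ (U'' : Scheme.{u})),
          u'' ≫ (Spec (CommRingCat.of A)).homOfLE h = u' ∧
          (FEt.restrict ((Spec (CommRingCat.of A)).homOfLE h)).map φ = (FEt.restrict ((Spec (CommRingCat.of A)).homOfLE h)).map ψ) := by
  intro U' hU u' hu' V' W'
  obtain ⟨hci, hr, hsub⟩ := Groth.Pi1Lef.range_lift hU u' hu'
  haveI := hci
  haveI : CompactSpace ↥(U' : Scheme.{u}) := isCompact_iff_compactSpace.1 (TopologicalSpace.NoetherianSpace.isCompact _)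
  haveI : IsLocallyNoetherian (U' : Scheme.{u}) := LocallyOfFiniteType.isLocallyNoetherian U'.ι
  haveI : IsNoetherian (U' : Scheme.{u}) := {}
  refine Groth.Pi1Lef.germ_fullyFaithful u' ?_ V' W'
  intro Z D₁ D₂ hD₁ hD₂ hunion hdisj C hC hC₁ hC₂
  let z : Z.left ⟶ (U' : Scheme.{u}) := Z.hom
  haveI : IsFinite z := Z.prop.1
  haveI : Etale z := Z.prop.2
  obtain ⟨y₁, hy₁C, hy₁⟩ := hC₁
  obtain ⟨y₂, hy₂C, hy₂⟩ := hC₂
  obtain ⟨η, hη⟩ : ∃ η, IsGenericPoint η C := QuasiSober.sober hC.1 (isClosed_of_mem_irreducibleComponents C hC)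
  have hunion' : D₁ ∪ D₂ = (z ≫ U'.ι).base ⁻¹' PrimeSpectrum.zeroLocus {f} := by
    rw [hunion, hr]; rfl
  let i := (IntMult.ptIdeal η).subschemeι
  haveI : IsIntegral (IntMult.ptIdeal η).subscheme := Groth.CohTwo.isIntegral_closure_subscheme rfl
  have hir : Set.range i.base = C := by
    rw [← hη.def]
    exact Groth.PropsBasic2.range_vanishingIdeal_subschemeι ⟨closure {η}, isClosed_closure⟩
  have hgen : i (genericPoint (IntMult.ptIdeal η).subscheme) = η :=
    Groth.CohTwo.apply_genericPoint_eq i (hir.trans hη.def.symm)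
  let g := z ≫ U'.ι
  let p₀ : PrimeSpectrum A := g η
  have hfp₀ : f ∉ p₀.asIdeal := by
    intro hf'
    rcases hunion'.ge (show η ∈ g.base ⁻¹' PrimeSpectrum.zeroLocus {f} from Set.singleton_subset_iff.2 hf') with h | h
    · exact Set.disjoint_left.1 hdisj ((hη.specializes hy₂C).mem_closed hD₁ h) hy₂
    · exact Set.disjoint_left.1 hdisj hy₁ ((hη.specializes hy₁C).mem_closed hD₂ h)
  have hmin : p₀.asIdeal ∈ minimalPrimes A := by
    refine ⟨⟨inferInstance, bot_le⟩, fun P hP hle => ?_⟩
    have hsp : (⟨P, hP.1⟩ : PrimeSpectrum A) ⤳ g η := (PrimeSpectrum.le_iff_specializes _ _).1 hle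
    obtain ⟨y, hy, hgy⟩ := (Flat.generalizingMap g) hsp
    have hyη : y = η := by
      have hsub' : C ⊆ closure {y} := hη.def ▸ hy.closure_subset
      exact IsGenericPoint.eq (show IsGenericPoint y C from
        le_antisymm (hC.2 isIrreducible_singleton.closure hsub') hsub') hη
    exact (congrArg PrimeSpectrum.asIdeal (hgy.symm.trans (congrArg g.base hyη))).ge
  obtain ⟨z₁, hz₁⟩ : y₁ ∈ Set.range i.base := hir.ge hy₁C
  obtain ⟨z₂, hz₂⟩ : y₂ ∈ Set.range i.base := hir.ge hy₂C
  refine Groth.Pi1Lef.false_of_cover hU hsub (i ≫ z) (fun ι _ a _ hle hne => ?_)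
    (hD₁.preimage i.continuous) (hD₂.preimage i.continuous) (hdisj.preimage i.base) ?_
    (η := genericPoint (IntMult.ptIdeal η).subscheme) (y₁ := z₁) (y₂ := z₂)
    (show i z₁ ∈ D₁ from hz₁.symm ▸ hy₁) (show i z₂ ∈ D₂ from hz₂.symm ▸ hy₂)
    (genericPoint_specializes _) (genericPoint_specializes _)
  · let j := (Spec (CommRingCat.of A)).homOfLE hle
    haveI := hne
    haveI : IsIntegral (pullback (i ≫ z) j) := isIntegral_of_isOpenImmersion (pullback.fst (i ≫ z) j)
    haveI : IsFinite (pullback.snd (i ≫ z) j) := MorphismProperty.pullback_snd _ _ inferInstance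
    refine Groth.Pi1Lef.colimBij_of_integral a _ hd (p₀ := p₀) ?_ (hc _ hmin hfp₀)
    have e : pullback.snd (i ≫ z) j ≫ (Groth.Pi1Lef.unionD a).ι = pullback.fst (i ≫ z) j ≫ (i ≫ z) ≫ U'.ι := by
      rw [← Category.assoc (pullback.fst (i ≫ z) j), pullback.condition, Category.assoc, Scheme.homOfLE_ι]
    rw [e, Scheme.Hom.comp_apply, genericPoint_eq_of_isOpenImmersion]
    show g (i (genericPoint (IntMult.ptIdeal η).subscheme)) = p₀
    rw [hgen]
  · rw [← Set.preimage_union, hunion']
    rfl

end Groth.Agent.S9484
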