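import Groth.Statements.S9485
import Groth.Agent.Pi1Etale.FEtFaithful
import Mathlib.RingTheory.Ideal.KrullsHeightTheorem

set_option backward.isDefEq.respectTransparency false

set_option autoImplicit false
universe u
open Pi1

namespace Groth.Agent.S9485

open AlgebraicGeometry CategoryTheory CategoryTheory.Limits in
/-- Let A be a Noetherian local ring with maximal ideal m and f ∈ m, U the punctured spectrum of A and
U₀ that of A/fA (realised as U ×_{Spec A} Spec(A/fA)). Let U' ⊆ U be an open through which U₀ ⟶ Spec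
A factors (as u'). If dim(A/p) ≥ 2 for every minimal prime p of A which lies in U' and does not
contain f, then restriction of finite etale covers along u' is faithful. (Such U' exist, e.g. the
complement in U of the one-dimensional irreducible components not meeting U₀, and the condition
passes to smaller such opens, so restriction from the system of these opens is faithful.) -/
theorem result (A : Type u) [CommRing A] [IsNoetherianRing A] [IsLocalRing A] (f : A) (hf : f ∈ IsLocalRing.maximalIdeal A)
    (U' : (Spec (CommRingCat.of A)).Opens) (hU' : U' ≤ FEt.puncturedSpec A)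
    (u' : pullback (FEt.puncturedSpec A).ι (Spec.map (CommRingCat.ofHom (Ideal.Quotient.mk (Ideal.span {f})))) ⟶ (U' : Scheme.{u})) (hu' : u' ≫ U'.ι = (pullback.fst (FEt.puncturedSpec A).ι (Spec.map (CommRingCat.ofHom (Ideal.Quotient.mk (Ideal.span {f})))) ≫ (FEt.puncturedSpec A).ι))
    (hdim : ∀ p : PrimeSpectrum A, p.asIdeal ∈ minimalPrimes A → p ∈ U' → f ∉ p.asIdeal →
      (2 : WithBot ℕ∞) ≤ ringKrullDim (A ⧸ p.asIdeal)) :
    (FEt.restrict u').Faithful := by
  let mk := Ideal.Quotient.mk (Ideal.span ({f} : Set A))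
  have hrange : ∀ q : PrimeSpectrum A, f ∈ q.asIdeal → q ∈ FEt.puncturedSpec A →
      ∃ x, (u'.base x : ↥U').1 = q := by
    intro q hfq hqU
    obtain ⟨q₀, hq₀⟩ : q ∈ Set.range (PrimeSpectrum.comap mk) := by
      rw [range_comap_of_surjective _ mk Ideal.Quotient.mk_surjective]
      rw [PrimeSpectrum.mem_zeroLocus]
      simp only [SetLike.coe_subset_coe, mk, Ideal.mk_ker]
      exact (Ideal.span_singleton_le_iff_mem _).mpr hfq
    obtain ⟨x, hx1, -⟩ := Scheme.Pullback.exists_preimage_pullback
      (f := (FEt.puncturedSpec A).ι) (g := Spec.map (CommRingCat.ofHom mk)) ⟨q, hqU⟩ q₀ hq₀.symm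
    refine ⟨x, ?_⟩
    have := congrArg (fun φ => φ.base x) hu'
    simp only [Scheme.Hom.comp_base, TopCat.hom_comp, ContinuousMap.comp_apply] at this
    refine this.trans ?_
    show (FEt.puncturedSpec A).ι.base _ = q
    erw [hx1]
    rfl
  refine Groth.Pi1Etale.restrict_faithful_of_meets_components u' fun y => ?_
  obtain ⟨p, hp, hpy⟩ := Ideal.exists_minimalPrimes_le (bot_le : (⊥ : Ideal A) ≤ y.1.asIdeal)
  haveI : p.IsPrime := hp.1.1
  let P : PrimeSpectrum A := ⟨p, inferInstance⟩
  have hPy : P ⤳ (y.1 : PrimeSpectrum A) := (PrimeSpectrum.le_iff_specializes P y.1).mp hpy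
  have hPU : P ∈ U' := hPy.mem_open U'.isOpen y.2
  have hsp : ∀ z : ↥U', P ⤳ (z.1 : PrimeSpectrum A) → z ∈ connectedComponent (⟨P, hPU⟩ : ↥U') := by
    intro z hz
    have hz' : (⟨P, hPU⟩ : ↥U') ⤳ z := (Topology.IsInducing.subtypeVal.specializes_iff).mp hz
    exact (isConnected_singleton.closure).subset_connectedComponent
      (subset_closure (Set.mem_singleton _)) hz'.mem_closure
  have hy : connectedComponent y = connectedComponent (⟨P, hPU⟩ : ↥U') :=
    (connectedComponent_eq (hsp y hPy)).symm
  rw [hy]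
  by_cases hfp : f ∈ p
  · obtain ⟨x, hx⟩ := hrange P hfp (hU' hPU)
    exact ⟨u'.base x, hsp _ (by rw [hx]), x, rfl⟩
  · obtain ⟨q, hpq, hfq, hqm⟩ : ∃ q : PrimeSpectrum A, p ≤ q.asIdeal ∧ f ∈ q.asIdeal ∧
        q.asIdeal ≠ IsLocalRing.maximalIdeal A := by
      by_contra hcon
      push Not at hcon
      have h2 := hdim P hp hPU hfp
      haveI : Nontrivial (A ⧸ p) := Ideal.Quotient.nontrivial_iff.mpr (Ideal.IsPrime.ne_top ‹_›)
      haveI : IsLocalRing (A ⧸ p) :=
        IsLocalRing.of_surjective' (Ideal.Quotient.mk p) Ideal.Quotient.mk_surjective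
      have hmin : IsLocalRing.maximalIdeal (A ⧸ p) ∈
          (Ideal.span ({Ideal.Quotient.mk p f} : Set (A ⧸ p))).minimalPrimes := by
        have hmem : Ideal.Quotient.mk p f ∈ IsLocalRing.maximalIdeal (A ⧸ p) := by
          refine IsLocalRing.le_maximalIdeal ?_ (Ideal.mem_map_of_mem (Ideal.Quotient.mk p) hf)
          intro h
          have := congrArg (Ideal.comap (Ideal.Quotient.mk p)) h
          rw [Ideal.comap_map_of_surjective _ Ideal.Quotient.mk_surjective, Ideal.comap_top,
            ← RingHom.ker_eq_comap_bot, Ideal.mk_ker] at this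
          refine (IsLocalRing.maximalIdeal.isMaximal A).ne_top ?_
          rwa [sup_eq_left.mpr (IsLocalRing.le_maximalIdeal (Ideal.IsPrime.ne_top ‹_›))] at this
        refine ⟨⟨inferInstance, (Ideal.span_singleton_le_iff_mem _).mpr hmem⟩, ?_⟩
        intro Q hQ hQle
        haveI := hQ.1
        have hQ' := hcon ⟨Q.comap (Ideal.Quotient.mk p), inferInstance⟩
          (by intro a ha; simp [Ideal.mem_comap, Ideal.Quotient.eq_zero_iff_mem.mpr ha])
          (hQ.2 (Ideal.subset_span rfl))
        intro a ha
        obtain ⟨b, rfl⟩ := Ideal.Quotient.mk_surjective a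
        have hb : b ∈ Q.comap (Ideal.Quotient.mk p) := by
          rw [show Q.comap (Ideal.Quotient.mk p) = IsLocalRing.maximalIdeal A from hQ']
          by_contra hb
          have hu : IsUnit (Ideal.Quotient.mk p b) :=
            (IsLocalRing.notMem_maximalIdeal.mp hb).map _
          exact (IsLocalRing.maximalIdeal.isMaximal (A ⧸ p)).ne_top
            (Ideal.eq_top_of_isUnit_mem _ ha hu)
        exact hb
      have h1 : (IsLocalRing.maximalIdeal (A ⧸ p)).height ≤ 1 :=
        Ideal.height_le_one_of_isPrincipal_of_mem_minimalPrimes _ _ hmin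
      rw [← IsLocalRing.maximalIdeal_height_eq_ringKrullDim] at h2
      have h21 : (2 : ℕ∞) ≤ (IsLocalRing.maximalIdeal (A ⧸ p)).height := WithBot.coe_le_coe.mp h2
      exact absurd (h21.trans h1) (by norm_num)
    obtain ⟨x, hx⟩ := hrange q hfq (fun h => hqm (congrArg PrimeSpectrum.asIdeal h))
    refine ⟨u'.base x, hsp _ ?_, x, rfl⟩
    rw [hx]
    exact (PrimeSpectrum.le_iff_specializes P q).mp hpq

end Groth.Agent.S9485
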