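import Groth.Statements.S9488
import Groth.Agent.NormCard.Core
import Groth.Agent.Ega2Proj.FieldNormalization
import Groth.Agent.Variety2.Normal

set_option autoImplicit false
open CategoryTheory CategoryTheory.Limits AlgebraicGeometry
universe u
open Pi1

namespace Groth.Agent.S9488

set_option backward.isDefEq.respectTransparency false
set_option linter.style.haveILetI false

open scoped TensorProduct
open IsLocalRing (closedPoint)

theorem of_pullback_iso (P : MorphismProperty Scheme.{u}) [P.IsStableUnderBaseChange]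
    {X N T T' : Scheme.{u}} (ν : N ⟶ X) (s : T ⟶ X) (s' : T' ⟶ X) [IsOpenImmersion s] [IsOpenImmersion s']
    (h : Set.range s = Set.range s') (hP : P (pullback.snd ν s)) : P (pullback.snd ν s') := by
  let e := IsOpenImmersion.isoOfRangeEq s' s h.symm
  have he : e.hom ≫ s = s' := IsOpenImmersion.isoOfRangeEq_hom_fac _ _ _
  have hsnd : pullback.snd ν (e.hom ≫ s) =
      (pullbackLeftPullbackSndIso ν s e.hom).inv ≫ pullback.snd _ _ := by
    rw [Iso.eq_inv_comp, pullbackLeftPullbackSndIso_hom_snd]
  rw [← he, hsnd, P.cancel_left_of_respectsIso]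
  exact MorphismProperty.pullback_snd _ _ hP

/-- The criterion by the cardinality of a geometric fibre, in the local form its proof establishes: X is
an integral scheme with integrally closed local rings and function field K; L is a finite field
extension of K and ν : Y ⟶ X the normalization of X in Spec L. Let ξ : Spec Ω ⟶ X be a geometric
point (Ω algebraically closed) such that the fibre of ν over ξ is etale and ν has at least [L : K]
distinct Ω-points lying over ξ. Then ν is finite etale over some open neighbourhood of the image of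
ξ. Consequently ν is finite etale as soon as every scheme-theoretic fibre of ν is etale of degree at
least [L : K]. -/
theorem result {X : Scheme.{u}} [IsIntegral X] (hX : Pi1.IsNormalScheme X)
    (L : Type u) [Field L] [Algebra X.functionField L] [FiniteDimensional X.functionField L]
    [QuasiCompact (Spec.map (CommRingCat.ofHom (algebraMap X.functionField L)) ≫ X.fromSpecStalk (genericPoint X))] [QuasiSeparated (Spec.map (CommRingCat.ofHom (algebraMap X.functionField L)) ≫ X.fromSpecStalk (genericPoint X))]
    (Ω : Type u) [Field Ω] [IsAlgClosed Ω] (ξ : Spec (CommRingCat.of Ω) ⟶ X)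
    (het : Etale (pullback.snd (Spec.map (CommRingCat.ofHom (algebraMap X.functionField L)) ≫ X.fromSpecStalk (genericPoint X)).fromNormalization ξ))
    (hcard : Nonempty (Fin (Module.finrank X.functionField L) ↪
      {η : Spec (CommRingCat.of Ω) ⟶ (Spec.map (CommRingCat.ofHom (algebraMap X.functionField L)) ≫ X.fromSpecStalk (genericPoint X)).normalization // η ≫ (Spec.map (CommRingCat.ofHom (algebraMap X.functionField L)) ≫ X.fromSpecStalk (genericPoint X)).fromNormalization = ξ})) :
    ∃ U : X.Opens, Set.range ξ.base ⊆ (U : Set X) ∧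
      Etale (pullback.snd (Spec.map (CommRingCat.ofHom (algebraMap X.functionField L)) ≫ X.fromSpecStalk (genericPoint X)).fromNormalization U.ι) ∧
      IsFinite (pullback.snd (Spec.map (CommRingCat.ofHom (algebraMap X.functionField L)) ≫ X.fromSpecStalk (genericPoint X)).fromNormalization U.ι) := by
  obtain ⟨j⟩ := hcard
  let φ := algebraMap X.functionField L
  let g := Spec.map (CommRingCat.ofHom φ) ≫ X.fromSpecStalk (genericPoint X)
  let ν := g.fromNormalization
  obtain ⟨_, ⟨V, hV, rfl⟩, hxV, -⟩ :=
    X.isBasis_affineOpens.exists_subset_of_mem_open (Set.mem_univ (ξ default)) isOpen_univ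
  change X.Opens at V
  replace hV : IsAffineOpen V := hV
  have hgen : genericPoint X ∈ V :=
    ((genericPoint_spec X).specializes trivial).mem_open V.2 hxV
  haveI : Nonempty (V : Scheme.{u}) := ⟨⟨_, hgen⟩⟩
  have hW : IsAffineOpen (ν ⁻¹ᵁ V) := hV.preimage ν
  have hgenW : g.toNormalization.base (closedPoint L) ∈ ν ⁻¹ᵁ V :=
    Groth.Ega2Proj.mem_preimage X L φ g rfl hgen
  haveI : Nonempty ((ν ⁻¹ᵁ V : g.normalization.Opens) : Scheme.{u}) := ⟨⟨_, hgenW⟩⟩
  letI : Algebra Γ(X, V) L := (φ.comp (X.presheaf.germ V (genericPoint X) hgen).hom).toAlgebra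
  haveI : IsScalarTower Γ(X, V) X.functionField L := IsScalarTower.of_algebraMap_eq fun _ => rfl
  haveI : IsFractionRing Γ(X, V) X.functionField := functionField_isFractionRing_of_isAffineOpen X V hV
  haveI : IsIntegrallyClosed Γ(X, V) := Groth.Variety2.isIntegrallyClosed_Γ (fun x => (hX x).2) V
  let k := g.normalization.presheaf.germ (ν ⁻¹ᵁ V) (g.toNormalization.base (closedPoint L)) hgenW ≫
    Scheme.stalkClosedPointTo g.toNormalization
  have hk : ν.app V ≫ k = X.presheaf.germ V (genericPoint X) hgen ≫ CommRingCat.ofHom φ := by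
    refine (Scheme.Hom.germ_stalkMap_assoc ν V (g.toNormalization.base (closedPoint L))
      hgenW (Scheme.stalkClosedPointTo g.toNormalization)).symm.trans ?_
    refine Groth.Ega2Proj.germ_comp_eq_of_SpecMap_eq
      (Groth.Ega2Proj.fromNormalization_toNormalization_closedPoint X L φ g rfl) _ _ ?_ V _ hgen
    rw [Spec.map_comp, Category.assoc, Scheme.SpecMap_stalkMap_fromSpecStalk,
      Scheme.Spec_stalkClosedPointTo_fromSpecStalk_assoc, g.toNormalization_fromNormalization]
  have hrange : ∀ z, k.hom z ∈ (integralClosure Γ(X, V) L).toSubring := fun z =>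
    (Groth.Ega2Proj.exists_sections_equiv X L φ g rfl hV hgen (k.hom z)).mp ⟨z, rfl⟩
  have hinj : Function.Injective k.hom :=
    (Groth.Ega2Proj.stalkClosedPointTo_toNormalization_injective X L g).comp
      (germ_injective_of_isIntegral g.normalization _ _)
  let e : Γ(g.normalization, ν ⁻¹ᵁ V) ≃+* integralClosure Γ(X, V) L :=
    RingEquiv.ofBijective (k.hom.codRestrict (integralClosure Γ(X, V) L) hrange)
      ⟨fun a b hab => hinj (congrArg Subtype.val hab), fun z => by
        obtain ⟨b, hb⟩ := (Groth.Ega2Proj.exists_sections_equiv X L φ g rfl hV hgen z.1).mpr z.2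
        exact ⟨b, Subtype.ext hb⟩⟩
  have he : ∀ a, e ((ν.app V).hom a) = algebraMap Γ(X, V) (integralClosure Γ(X, V) L) a := fun a =>
    Subtype.ext (congrArg (fun m => CommRingCat.Hom.hom m a) hk)
  -- the point of the base
  have hξ : Set.range ξ ⊆ Set.range hV.fromSpec := by
    rw [hV.range_fromSpec]
    rintro _ ⟨z, rfl⟩
    rw [Subsingleton.elim z default]
    exact hxV
  obtain ⟨a₀, ha₀⟩ := Spec.map_surjective (IsOpenImmersion.lift hV.fromSpec ξ hξ)
  have ha₀' : Spec.map a₀ ≫ hV.fromSpec = ξ := by rw [ha₀, IsOpenImmersion.lift_fac]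
  letI : Algebra Γ(X, V) Ω := a₀.hom.toAlgebra
  -- the points of the fibre
  have hsq : Spec.map (ν.app V) ≫ hV.fromSpec = hW.fromSpec ≫ ν := by
    rw [Scheme.Hom.app_eq_appLE]
    exact IsAffineOpen.SpecMap_appLE_fromSpec ν hV hW le_rfl
  have hlift : ∀ i, ∃ χ : integralClosure Γ(X, V) L →ₐ[Γ(X, V)] Ω,
      Spec.map (CommRingCat.ofHom (χ.toRingHom.comp e.toRingHom)) ≫ hW.fromSpec = (j i).1 := by
    intro i
    have hr : Set.range (j i).1 ⊆ Set.range hW.fromSpec := by
      rw [hW.range_fromSpec]
      rintro _ ⟨z, rfl⟩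
      show ((j i).1 ≫ ν) z ∈ V
      rw [(j i).2, Subsingleton.elim z default]
      exact hxV
    obtain ⟨ψ, hψ⟩ := Spec.map_surjective (IsOpenImmersion.lift hW.fromSpec (j i).1 hr)
    have hψ' : Spec.map ψ ≫ hW.fromSpec = (j i).1 := by rw [hψ, IsOpenImmersion.lift_fac]
    have hc : ν.app V ≫ ψ = a₀ := by
      apply Spec.map_injective
      rw [← cancel_mono hV.fromSpec, Spec.map_comp, Category.assoc, hsq, ← Category.assoc, hψ', ha₀']
      exact (j i).2
    refine ⟨{ ψ.hom.comp e.symm.toRingHom with commutes' := fun a => ?_ }, ?_⟩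
    · show ψ.hom (e.symm (algebraMap Γ(X, V) (integralClosure Γ(X, V) L) a)) = _
      rw [← he, e.symm_apply_apply]
      exact congrArg (fun m => CommRingCat.Hom.hom m a) hc
    · rw [← hψ']
      congr 2
      refine CommRingCat.hom_ext (RingHom.ext fun z => ?_)
      show ψ.hom (e.symm (e z)) = ψ.hom z
      rw [e.symm_apply_apply]
  choose χ hχ using hlift
  have hχinj : Function.Injective χ := fun i i' h => j.injective (Subtype.ext (by rw [← hχ i, ← hχ i', h]))
  obtain ⟨d, hd, hfin, het'⟩ := Groth.NormCard.exists_etale_away (K := X.functionField) χ hχinj rfl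
  -- the square over the basic open
  let R := Localization.Away d
  let B := integralClosure Γ(X, V) L
  let s := Spec.map (CommRingCat.ofHom (algebraMap Γ(X, V) R)) ≫ hV.fromSpec
  haveI : IsOpenImmersion (Spec.map (CommRingCat.ofHom (algebraMap Γ(X, V) R))) :=
    IsOpenImmersion.of_isLocalization d
  haveI : IsOpenImmersion s := inferInstance
  have hrs : Set.range s = (X.basicOpen d : Set X) := by
    rw [Scheme.Hom.comp_base, TopCat.coe_comp, Set.range_comp, ← hV.fromSpec_image_basicOpen d]
    exact congrArg (hV.fromSpec '' ·) (PrimeSpectrum.localization_away_comap_range R d)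
  have hpbV : IsPullback hW.fromSpec (Spec.map (ν.app V)) ν hV.fromSpec := by
    refine (IsOpenImmersion.isPullback _ _ _ _ hsq.symm ?_).flip
    rw [hV.opensRange_fromSpec, hW.opensRange_fromSpec]
  let ei : Spec (CommRingCat.of B) ≅ Spec Γ(g.normalization, ν ⁻¹ᵁ V) :=
    Scheme.Spec.mapIso e.toCommRingCatIso.op
  have hpbB : IsPullback (ei.hom ≫ hW.fromSpec) (Spec.map (CommRingCat.ofHom (algebraMap Γ(X, V) B)))
      ν hV.fromSpec := by
    refine hpbV.of_iso ei.symm (Iso.refl _) (Iso.refl _) (Iso.refl _) (by simp) ?_ (by simp) (by simp)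
    rw [Iso.refl_hom, Category.comp_id, Iso.symm_hom, Iso.eq_inv_comp]
    show Spec.map e.toCommRingCatIso.hom ≫ Spec.map (ν.app V) = _
    rw [← Spec.map_comp]
    exact congrArg Spec.map (CommRingCat.hom_ext (RingHom.ext he))
  have hpbR := (IsPullback.of_hasPullback (Spec.map (CommRingCat.ofHom (algebraMap Γ(X, V) B)))
    (Spec.map (CommRingCat.ofHom (algebraMap Γ(X, V) R)))).paste_horiz hpbB.flip.flip
  have key : ∀ (P : MorphismProperty Scheme.{u}) [P.IsStableUnderBaseChange],
      P (Spec.map (CommRingCat.ofHom (algebraMap R (R ⊗[Γ(X, V)] B)))) → P (pullback.snd ν s) := by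
    intro P _ hP
    have hP' : P (pullback.fst (Spec.map (CommRingCat.ofHom (algebraMap Γ(X, V) R)))
        (Spec.map (CommRingCat.ofHom (algebraMap Γ(X, V) B)))) := by
      rw [← pullbackSpecIso_hom_fst, P.cancel_left_of_respectsIso]
      exact hP
    have hP'' : P (pullback.snd (Spec.map (CommRingCat.ofHom (algebraMap Γ(X, V) B)))
        (Spec.map (CommRingCat.ofHom (algebraMap Γ(X, V) R)))) := by
      rw [← pullbackSymmetry_hom_comp_fst, P.cancel_left_of_respectsIso]
      exact hP'
    rw [← hpbR.isoPullback_inv_snd, P.cancel_left_of_respectsIso]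
    exact hP''
  refine ⟨X.basicOpen d, ?_, of_pullback_iso @Etale ν s _ (by rw [hrs, Scheme.Opens.range_ι]) ?_,
    of_pullback_iso @IsFinite ν s _ (by rw [hrs, Scheme.Opens.range_ι]) ?_⟩
  · rintro _ ⟨z, rfl⟩
    rw [Subsingleton.elim z default, ← ha₀', Scheme.Hom.comp_apply, ← hV.fromSpec_image_basicOpen d]
    refine ⟨_, fun h => hd ?_, rfl⟩
    have h' : a₀.hom d ∈ (default : Spec (CommRingCat.of Ω)).asIdeal := h
    rw [(Ideal.eq_bot_or_top (default : Spec (CommRingCat.of Ω)).asIdeal).resolve_right
      Ideal.IsPrime.ne_top'] at h'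
    exact Ideal.mem_bot.1 h' 
  · exact key @Etale ((HasRingHomProperty.Spec_iff (P := @Etale)).2 (RingHom.etale_algebraMap.2 het'))
  · exact key @IsFinite ((IsFinite.SpecMap_iff _).2 (RingHom.finite_algebraMap.2 hfin))

end Groth.Agent.S9488
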