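import Groth.Statements.S9490
import Groth.Agent.Pi1Formal.Regular

set_option autoImplicit false
universe u
open Pi1

namespace Groth.Agent.S9490
set_option backward.isDefEq.respectTransparency false
set_option linter.style.haveILetI false

open AlgebraicGeometry CategoryTheory CategoryTheory.Limits in
/-- Let A → B be a local homomorphism of Noetherian local rings. Assume depth A ≥ 2, that the map is
formally smooth when B carries its m_B-adic topology, and that the Krull dimension of A is strictly
below that of B. Let V ⊆ Spec B be an open subset containing every prime q of B whose contraction to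
A is not the maximal ideal m_A, and containing the prime m_A B. Then restriction of finite etale
covers from Spec B to V is an equivalence of categories. (Taking V to be the punctured spectrum
shows that purity holds for B.) -/
theorem result (A B : Type u) [CommRing A] [IsNoetherianRing A] [IsLocalRing A]
    [CommRing B] [IsNoetherianRing B] [IsLocalRing B] [Algebra A B] [IsLocalHom (algebraMap A B)]
    (hdepth : (2 : ℕ∞) ≤ LocCoh.depth A A)
    (hfs : CAlgX.IsAdicFormallySmooth A B (IsLocalRing.maximalIdeal B))
    (hdim : ringKrullDim A < ringKrullDim B)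
    (V : (Spec (CommRingCat.of B)).Opens)
    (hV1 : ∀ q : PrimeSpectrum B, q.asIdeal.comap (algebraMap A B) ≠ IsLocalRing.maximalIdeal A → q ∈ V)
    (hV2 : ∀ q : PrimeSpectrum B, q.asIdeal = (IsLocalRing.maximalIdeal A).map (algebraMap A B) → q ∈ V) :
    (FEt.restrict V.ι).IsEquivalence := by
  refine Groth.Pi1Formal.isEquivalence_of_isPureDeep V fun x hx => ?_
  refine Groth.Pi1Formal.IsPureDeep.of_ringEquiv
    (IsLocalization.algEquiv (x : PrimeSpectrum B).asIdeal.primeCompl
      (Localization.AtPrime (x : PrimeSpectrum B).asIdeal)
      ((Spec.structureSheaf B).presheaf.stalk x)).toRingEquiv ?_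
  let q := (x : PrimeSpectrum B).asIdeal
  have hq : q.comap (algebraMap A B) = IsLocalRing.maximalIdeal A := by_contra fun h => hx (hV1 x h)
  haveI : Module.Flat A B :=
    Groth.Ega41Flat.flat_of_formallySmooth (Groth.Ega41Flat.isAdicFormallySmooth_iff_local.mp hfs)
  let L := Localization.AtPrime q
  haveI : Module.Flat A L := Module.Flat.trans A B L
  haveI : IsNoetherianRing L := IsLocalization.isNoetherianRing q.primeCompl L inferInstance
  haveI : IsLocalHom (algebraMap A L) := ((IsLocalRing.local_hom_TFAE _).out 0 2).mpr (by
    rw [Ideal.map_le_iff_le_comap]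
    intro a ha
    rw [Ideal.mem_comap, IsScalarTower.algebraMap_apply A B L,
      IsLocalization.AtPrime.to_map_mem_maximal_iff L q]
    exact hq.ge ha)
  refine ⟨Groth.Pi1Formal.purityHolds_of_adicFormallySmooth hdepth L ?_ ?_,
    Groth.Pi1Formal.two_le_depth_of_flat hdepth⟩
  · exact Groth.Agent.S2038.result.mp ⟨inferInstance,
      Groth.Pi1Formal.isGeometricallyRegular_fibre_localization q (Groth.Agent.S2038.result.mpr hfs).2⟩
  · intro hmax
    refine hx (hV2 x (le_antisymm (fun b hb => ?_) (Ideal.map_le_iff_le_comap.2 hq.ge)))
    have h1 : algebraMap B L b ∈ IsLocalRing.maximalIdeal L :=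
      (IsLocalization.AtPrime.to_map_mem_maximal_iff L q b).2 hb
    rw [hmax, IsScalarTower.algebraMap_eq A B L, ← Ideal.map_map,
      IsLocalization.algebraMap_mem_map_algebraMap_iff q.primeCompl] at h1
    obtain ⟨z, hz, hzb⟩ := h1
    exact Groth.Pi1Formal.mem_map_maximalIdeal_of_mul hfs q hq hz hzb

end Groth.Agent.S9490
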