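import Groth.Statements.S9491
import Groth.Agent.Purity.GenericFibre
-- import your own Groth.Agent.* helpers here

set_option autoImplicit false
universe u
open Pi1
set_option backward.isDefEq.respectTransparency false

namespace Groth.Agent.S9491

open AlgebraicGeometry CategoryTheory CategoryTheory.Limits in
/-- The essential image of restriction of finite etale covers from a normal integral scheme X to its
generic point Spec K consists of the finite etale K-schemes whose points are spectra of finite
extensions L of K in which X is unramified. Precisely: let L be a finite field extension of K and Y₀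
the object Spec L → Spec K of the category of finite etale covers of Spec K; then Y₀ is isomorphic
to the restriction of a finite etale cover of X if and only if the normalization of X in Spec L is
finite etale over X. (With full faithfulness of this restriction functor for normal X, this says
that the fundamental group of X is the Galois group of the union M of all finite subextensions of a
separable closure in which X is unramified.) -/
theorem result {X : Scheme.{u}} [IsIntegral X] (hX : Pi1.IsNormalScheme X)
    (L : Type u) [Field L] [Algebra X.functionField L] [FiniteDimensional X.functionField L]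
    [QuasiCompact (Spec.map (CommRingCat.ofHom (algebraMap X.functionField L)) ≫ X.fromSpecStalk (genericPoint X))] [QuasiSeparated (Spec.map (CommRingCat.ofHom (algebraMap X.functionField L)) ≫ X.fromSpecStalk (genericPoint X))]
    (Y₀ : FEt.Cat (Spec X.functionField)) (e : Y₀.left ≅ Spec (CommRingCat.of L))
    (he : e.hom ≫ Spec.map (CommRingCat.ofHom (algebraMap X.functionField L)) = Y₀.hom) :
    (FEt.restrict (X.fromSpecStalk (genericPoint X))).essImage Y₀ ↔
      (Etale (Spec.map (CommRingCat.ofHom (algebraMap X.functionField L)) ≫ X.fromSpecStalk (genericPoint X)).fromNormalization ∧ IsFinite (Spec.map (CommRingCat.ofHom (algebraMap X.functionField L)) ≫ X.fromSpecStalk (genericPoint X)).fromNormalization) := by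
  let φ := algebraMap X.functionField L
  set g := Spec.map (CommRingCat.ofHom (algebraMap X.functionField L)) ≫ X.fromSpecStalk (genericPoint X) with hg
  let q := X.fromSpecStalk (genericPoint X)
  constructor
  · rintro ⟨Y, ⟨I⟩⟩
    haveI : IsFinite Y.hom := Y.prop.1
    haveI : Etale Y.hom := Y.prop.2
    let eL : pullback Y.hom q ≅ Y₀.left :=
      (MorphismProperty.Over.forget _ _ _ ⋙ Over.forget _).mapIso I
    have heL : eL.hom ≫ Y₀.hom = pullback.snd Y.hom q := MorphismProperty.Over.w I.hom
    have heL' : eL.inv ≫ pullback.snd Y.hom q = Y₀.hom := by rw [← heL, Iso.inv_hom_id_assoc]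
    let j : Spec (CommRingCat.of L) ⟶ Y.left := e.inv ≫ eL.inv ≫ pullback.fst Y.hom q
    have hw : j ≫ Y.hom = Spec.map (CommRingCat.ofHom φ) ≫ q := by
      simp only [j, Category.assoc]
      rw [pullback.condition, reassoc_of% heL', ← he]
      simp [q, φ]
    have hj : IsPullback j (Spec.map (CommRingCat.ofHom φ)) Y.hom q :=
      IsPullback.of_iso_pullback ⟨hw⟩ (e.symm ≪≫ eL.symm) (by simp [j]) (by
        simp only [Iso.trans_hom, Iso.symm_hom, Category.assoc, heL']
        rw [← he, Iso.inv_hom_id_assoc])
    obtain ⟨σ, hσ⟩ := Groth.Purity.exists_iso_normalization X L φ g hg hX Y.left Y.hom j hj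
    rw [← hσ]
    haveI : IsFinite σ.hom := inferInstance
    haveI : Etale σ.hom := inferInstance
    exact ⟨inferInstance, inferInstance⟩
  · rintro ⟨het, hfin⟩
    haveI := het
    haveI := hfin
    have h := Groth.Purity.isPullback_toNormalization X L φ g hg
      (RingHom.finite_algebraMap.mpr (inferInstance : Module.Finite X.functionField L))
    refine ⟨MorphismProperty.Over.mk ⊤ g.fromNormalization ⟨hfin, het⟩,
      ⟨MorphismProperty.Over.isoMk (h.isoPullback.symm ≪≫ e.symm) ?_⟩⟩
    show (h.isoPullback.symm ≪≫ e.symm).hom ≫ Y₀.hom = pullback.snd g.fromNormalization q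
    rw [← he, Iso.trans_hom, Iso.symm_hom, Iso.symm_hom, Category.assoc, Iso.inv_hom_id_assoc]
    exact h.isoPullback_inv_snd

end Groth.Agent.S9491
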