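import Groth.Statements.S9493
import Groth.Agent.LefAlg.Main
import Groth.Agent.LefSections.FullyFaithfulCompl

set_option autoImplicit false
universe u
open Lef
open AlgebraicGeometry CategoryTheory CategoryTheory.Limits

namespace Groth.Agent.S9493

set_option backward.isDefEq.respectTransparency false

open Groth.PicAux (pullSec)
open Groth.LefAlg (IsTrans isTrans_comp isTrans_completion)

theorem isTrans_transGen {X Z Z' : Scheme.{u}} {ι : Z ⟶ Z'} {i : Z ⟶ X} {i' : Z' ⟶ X} (e : ι ≫ i' = i) (M : X.Modules) :
    IsTrans e ((Scheme.Modules.pullbackComp ι i' ≪≫ Scheme.Modules.pullbackCongr e).app M).hom :=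
  isTrans_comp e M
theorem isTrans_complMod {X : Scheme.{u}} (I : X.IdealSheafData) (F : X.Modules) (n : ℕ) :
    IsTrans (ι := (FSch.completionAlong X I).ι n)
      (i := FSch.completionToX X I n) (i' := FSch.completionToX X I (n + 1))
      (Scheme.IdealSheafData.inclusion_subschemeι (FSch.pow_succ_le X I n))
      ((FSch.complMod I F).e n).hom := by
  rw [FSch.complMod_e, FSch.complTransIso]
  exact isTrans_transGen _ F
theorem isTrans_unique {X Z Z' : Scheme.{u}} {ι : Z ⟶ Z'} {i : Z ⟶ X} {i' : Z' ⟶ X} {e : ι ≫ i' = i} {M : X.Modules}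
    {C C' : (Scheme.Modules.pullback ι).obj ((Scheme.Modules.pullback i').obj M) ⟶ (Scheme.Modules.pullback i).obj M}
    (h : IsTrans e C) (h' : IsTrans e C') : C = C' := by
  apply ((Scheme.Modules.pullbackPushforwardAdjunction ι).homEquiv _ _).injective
  refine Groth.SpecFerrand.pullback_hom_ext i' fun W y => ?_
  rw [Adjunction.homEquiv_unit, Adjunction.homEquiv_unit]
  exact (h W y).trans (h' W y).symm
theorem e_eq {X : Scheme.{u}} (I : X.IdealSheafData) (F : X.Modules) (n : ℕ) :
    ((FSch.completionMod I F).e n).hom = ((FSch.complMod I F).e n).hom :=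
  isTrans_unique (isTrans_completion F n) (isTrans_complMod I F n)

theorem comm_id {X Z Z' : Scheme.{u}} {ι : Z ⟶ Z'} {N : Z'.Modules} {N' : Z.Modules}
    {f g : (Scheme.Modules.pullback ι).obj N ⟶ N'} (h : f = g) :
    (Scheme.Modules.pullback ι).map (𝟙 N) ≫ g = f ≫ 𝟙 N' := by
  rw [CategoryTheory.Functor.map_id, Category.id_comp, Category.comp_id, h]

/-- The two packagings of the completion agree. -/
noncomputable def toCompl {X : Scheme.{u}} (I : X.IdealSheafData) (F : X.Modules) :
    FSch.completionMod I F ⟶ FSch.complMod I F :=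
  ⟨fun n => 𝟙 ((Scheme.Modules.pullback (FSch.completionToX X I n)).obj F),
    fun n => comm_id (X := X) (e_eq I F n)⟩

/-- The inverse. -/
noncomputable def ofCompl {X : Scheme.{u}} (I : X.IdealSheafData) (F : X.Modules) :
    FSch.complMod I F ⟶ FSch.completionMod I F :=
  ⟨fun n => 𝟙 ((Scheme.Modules.pullback (FSch.completionToX X I n)).obj F),
    fun n => comm_id (X := X) (e_eq I F n).symm⟩

theorem nonempty_iso {X : Scheme.{u}} (I : X.IdealSheafData) (F : X.Modules) :
    Nonempty (FSch.completionMod I F ≅ FSch.complMod I F) :=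
  ⟨⟨toCompl I F, ofCompl I F, FSch.ModSys.Hom.ext (funext fun n => Category.id_comp _),
    FSch.ModSys.Hom.ext (funext fun n => Category.id_comp _)⟩⟩

open AlgebraicGeometry CategoryTheory CategoryTheory.Limits in
/-- Let X be a Noetherian scheme and 𝓘 a quasi-coherent ideal sheaf with closed subscheme Y = V(𝓘).
Assume the completion functor along 𝓘 restricts to an equivalence between finite locally free
O_X-modules and levelwise finite locally free systems of modules on the completion of X along 𝓘:
Hom(F, G) → Hom(F^, G^) is bijective for all finite locally free F, G, and every system of modules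
all of whose levels are finite locally free is isomorphic to F^ for some finite locally free F. Then
restriction of finite etale covers from X to Y is an equivalence of categories. -/
theorem result (X : Scheme.{u}) [IsNoetherian X] (𝓘 : X.IdealSheafData)
    (h : (∀ F G : X.Modules, FlatMod.IsFinLocFree F → FlatMod.IsFinLocFree G →
      Function.Bijective (fun φ : F ⟶ G => FSch.complModMap 𝓘 φ)))
    (hess : ∀ 𝔐 : FSch.ModSys (FSch.completionAlong X 𝓘), LefX.LevelwiseFinLocFree 𝔐 →
      ∃ F : X.Modules, FlatMod.IsFinLocFree F ∧ Nonempty (FSch.complMod 𝓘 F ≅ 𝔐)) :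
    (FEt.restrict 𝓘.subschemeι).IsEquivalence := by
  have H : ∀ D : X.Modules, FlatMod.IsFinLocFree D → Lef.HomToFormalBijective 𝓘 D := fun D hD =>
    Groth.LefSections.Compl.homToFormalBijective 𝓘 D (h _ _ hD (Groth.LocFree.isFinLocFree_unit _))
  obtain ⟨hfull, hfaith⟩ := Groth.LefSections.restrict_fullyFaithful 𝓘 fun A => H _ (by
    have : IsFinite A.hom := A.prop.1
    have : Etale A.hom := A.prop.2
    exact Groth.LocFree.isFinLocFree_homSh (Groth.RefRank.push_isFinLocFree A.hom) (Groth.LocFree.isFinLocFree_unit _))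
  have : (FEt.restrict 𝓘.subschemeι).EssSurj := by
    refine ⟨fun R => ?_⟩
    obtain ⟨T⟩ := Groth.LefAlg.nonempty_tower 𝓘 R
    obtain ⟨F, hF, ⟨φ⟩⟩ := hess T.sys T.sys_locFree
    let φ' : FSch.completionMod 𝓘 F ≅ T.sys := (nonempty_iso 𝓘 F).some ≪≫ φ
    obtain ⟨R', hR'⟩ := T.exists_extension (𝟙 X) (by simp) φ' (Iso.refl _)
      (Groth.LocFree.isFinLocFree_pullback _ hF) (by rw [Scheme.IdealSheafData.comap_id]; exact H)
    exact ⟨R', hR' _ (Category.comp_id _)⟩
  exact { }

end Groth.Agent.S9493
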