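import Groth.Statements.S9499
import Groth.Agent.PropsBasic2.MonoFields

set_option autoImplicit false
universe u
open SchMor

namespace Groth.Agent.S9499

open AlgebraicGeometry in
open CategoryTheory in
/-- Let (k_i) be a finite family of fields and f : X → Spec(∏_i k_i) a monomorphism of schemes. Then
there are a subset I of the index set and an isomorphism X ≅ Spec(∏_{i∈I} k_i) over Spec(∏_i k_i),
where Spec(∏_{i∈I} k_i) maps to Spec(∏_i k_i) through the projection ring homomorphism ∏_i k_i →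
∏_{i∈I} k_i. -/
theorem result
    {ι : Type u} [Finite ι] (k : ι → Type u) [∀ i, Field (k i)]
    {X : Scheme.{u}} (f : X ⟶ Spec (CommRingCat.of (Π i, k i))) [Mono f] :
    ∃ (I : Set ι) (e : X ≅ Spec (CommRingCat.of (Π i : I, k i))),
      e.hom ≫ Spec.map (CommRingCat.ofHom (Pi.ringHom fun i : I => Pi.evalRingHom k i.1)) = f := by
  let α : ∀ i, Spec (CommRingCat.of (k i)) ⟶ Spec (CommRingCat.of (Π i, k i)) := fun i =>
    Spec.map (CommRingCat.ofHom (Pi.evalRingHom k i))
  have hdesc : Limits.Sigma.desc α = sigmaSpec (fun i => CommRingCat.of (k i)) := rfl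
  have hd : Pairwise (Function.onFun Disjoint (Set.range <| α ·)) := by
    intro i j hij
    refine Set.disjoint_iff_forall_ne.mpr ?_
    rintro _ ⟨x, rfl⟩ _ ⟨y, rfl⟩ e
    classical
    have h1 : (Pi.single j 1 : Π i, k i) ∈ ((α i) x : PrimeSpectrum (Π i, k i)).asIdeal := by
      show Pi.evalRingHom k i (Pi.single j 1) ∈ x.asIdeal
      simp [Pi.single_eq_of_ne hij]
    rw [e] at h1
    change Pi.evalRingHom k j (Pi.single j 1) ∈ y.asIdeal at h1
    simp only [Pi.evalRingHom_apply, Pi.single_eq_same] at h1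
    exact y.2.ne_top (Ideal.eq_top_of_isUnit_mem _ h1 isUnit_one)
  have hc : ∀ x : ↥(Spec (CommRingCat.of (Π i, k i))), ∃ i, x ∈ Set.range (α i) := by
    intro x
    obtain ⟨z, hz⟩ := (sigmaSpec (fun i => CommRingCat.of (k i))).surjective x
    obtain ⟨⟨i, p⟩, rfl⟩ := (sigmaMk (fun i => Spec (CommRingCat.of (k i)))).surjective z
    rw [sigmaMk_mk, ← Scheme.Hom.comp_apply, ι_sigmaSpec] at hz
    exact ⟨i, p, hz⟩
  obtain ⟨I, e, he⟩ := Groth.PropsBasic2.MonoFields.exists_iso k α hd hc f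
  refine ⟨I, e ≪≫ asIso (sigmaSpec (fun i : I => CommRingCat.of (k i.1))), ?_⟩
  rw [← he, Iso.trans_hom, Category.assoc]
  congr 1
  refine Limits.Sigma.hom_ext _ _ fun i => ?_
  rw [asIso_hom, ι_sigmaSpec_assoc, Limits.Sigma.ι_desc, ← Spec.map_comp]
  all_goals rfl

end Groth.Agent.S9499
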