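import Groth.Statements.S9502
-- import your own Groth.Agent.* helpers here

set_option autoImplicit false
universe u
open SchMor

namespace Groth.Agent.S9502

open AlgebraicGeometry in
open CategoryTheory in
/-- Let f : X → Y be a morphism of schemes such that (1) the underlying continuous map of f is a
homeomorphism onto a closed subset of Y and (2) the map of sheaves of rings O_Y → f_*O_X is
surjective (locally surjective on sections). Then f is a closed immersion in the sense of locally
ringed spaces: (1) and (2) hold and (3) the kernel of O_Y → f_*O_X is locally generated by sections,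
i.e. around every point of Y there are sections of O_Y killed in f_*O_X whose germs generate the
kernel of the stalk map O_{Y,y} → (f_*O_X)_y at every nearby point y. (For a morphism of schemes (1)
and (2) alone already give surjective stalk maps; the content of this row is condition (3).) -/
theorem result
    {X Y : Scheme.{u}} (f : X ⟶ Y) (h1 : Topology.IsClosedEmbedding f)
    (h2 : TopCat.Presheaf.IsLocallySurjective f.c) :
    LRSImm.IsClosedImmersion f.toLRSHom := by
  haveI : QuasiCompact f := ⟨fun U _ hU => h1.isCompact_preimage hU⟩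
  refine ⟨h1, h2, fun x => ?_⟩
  obtain ⟨_, ⟨(U : Y.Opens), hU, rfl⟩, hxU, -⟩ :=
    Y.isBasis_affineOpens.exists_subset_of_mem_open (Set.mem_univ x) isOpen_univ
  refine ⟨U, hxU, RingHom.ker (f.app U).hom, fun a => a.1, fun a => a.2, fun y hy => ?_⟩
  refine le_antisymm (Ideal.span_le.2 ?_) fun t ht => ?_
  · rintro _ ⟨a, rfl⟩
    exact (TopCat.Presheaf.stalkFunctor_map_germ_apply U y hy f.c _).trans
      ((congrArg _ (RingHom.mem_ker.1 a.2)).trans (map_zero _))
  · obtain ⟨W, hyW, b, rfl⟩ := TopCat.Presheaf.exists_germ_eq Y.presheaf t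
    have h0 := (TopCat.Presheaf.stalkFunctor_map_germ_apply W y hyW f.c b).symm.trans ht
    obtain ⟨W', hyW', i₁, i₂, hW'⟩ := TopCat.Presheaf.germ_eq _ y hyW hyW _ 0 (h0.trans (map_zero _).symm)
    obtain ⟨g, hle, hyg⟩ := hU.exists_basicOpen_le (V := W') (⟨y, hyW'⟩ : W') hy
    set c := Y.presheaf.map (homOfLE (hle.trans i₁.le)).op b with hc
    have hcker : c ∈ RingHom.ker (f.app (Y.basicOpen g)).hom := by
      rw [map_zero] at hW'
      rw [RingHom.mem_ker, hc]
      refine (NatTrans.naturality_apply f.c (homOfLE (hle.trans i₁.le)).op b).trans ?_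
      rw [← homOfLE_comp hle i₁.le, op_comp, Functor.map_comp_apply]
      exact (congrArg _ hW').trans (map_zero _)
    have hmap := f.ker.map_ideal_basicOpen ⟨U, hU⟩ g
    rw [f.ker_apply, f.ker_apply] at hmap
    change c ∈ RingHom.ker (f.app (Y.affineBasicOpen (U := ⟨U, hU⟩) g).1).hom at hcker
    rw [← hmap] at hcker
    have hge : Y.presheaf.germ W y hyW b = Y.presheaf.germ (Y.basicOpen g) y hyg c :=
      (TopCat.Presheaf.germ_res_apply Y.presheaf (homOfLE (hle.trans i₁.le)) y hyg b).symm
    refine hge.symm ▸ ?_
    have := Ideal.mem_map_of_mem (Y.presheaf.germ (Y.basicOpen g) y hyg).hom hcker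
    rw [Ideal.map_map] at this
    refine (Ideal.map_le_iff_le_comap.2 fun a ha => Ideal.mem_comap.2 ?_) this
    exact Ideal.subset_span ⟨⟨a, ha⟩,
      (TopCat.Presheaf.germ_res_apply Y.presheaf (homOfLE (Y.basicOpen_le g)) y hyg a).symm⟩

end Groth.Agent.S9502
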