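import Groth.Statements.S9503
import Groth.Agent.SheafExt.TildeHom
import Groth.Agent.LocFree.Hom
-- import your own Groth.Agent.* helpers here

set_option autoImplicit false
set_option linter.style.haveILetI false
universe u
open AffSch

namespace Groth.Agent.S9503

open CategoryTheory AlgebraicGeometry in
theorem isIso_psi_of_fp {R : CommRingCat.{u}} (M N : ModuleCat.{u} R) [Module.FinitePresentation R M]
    [ModSite.HasSheafHom (O := (Spec R).sheaf) (tilde M)] :
    IsIso (Groth.SheafExt.Affine.psi N M) := by
  haveI : IsIso (Groth.SheafExt.Affine.theta N M) :=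
    (ConcreteCategory.isIso_iff_bijective _).2 (Groth.SheafExt.Affine.theta_bijective N M)
  haveI := Groth.CohTwo.LocFreeExt.hasSheafHom (tilde M)
  haveI : ((Groth.SheafExt.Affine.sH (tilde M)).obj (tilde N)).IsQuasicoherent := by
    have := LocFree.isQCoh_homSh (F := tilde M) (G := tilde N)
      (fun U hU => PropsBasic.FPSections.finitePresentation_sections (tilde M)
        (PropsBasic.FPSections.isFP_tilde M) hU)
    exact (SheafOfModules.isQuasicoherent (Spec R).ringCatSheaf).prop_of_iso
      ((Groth.CohTwo.LocFreeExt.msIso (tilde M)).app (tilde N) ≪≫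
        Groth.CohTwo.SheafHomIso.iso _ _).symm this
  haveI : IsIso ((tilde.adjunction (R := R)).counit.app
      ((Groth.SheafExt.Affine.sH (tilde M)).obj (tilde N))) :=
    inferInstanceAs (IsIso ((Groth.SheafExt.Affine.sH (tilde M)).obj (tilde N)).fromTildeΓ)
  haveI : IsIso ((tilde.functor R).map (Groth.SheafExt.Affine.theta N M)) :=
    Functor.map_isIso _ _
  rw [Groth.SheafExt.Affine.psi, Adjunction.homEquiv_counit]
  exact @IsIso.comp_isIso _ _ _ _ _ _ _ ‹_› ‹_›

open AlgebraicGeometry in
open CategoryTheory in
/-- Let A be a commutative ring, M a finitely presented A-module and N an A-module, with associated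
O_X-modules M~ and N~ on X = Spec A, and let Hom_{O_X}(M~, -) denote the sheaf-Hom functor (the
right adjoint of M~ ⊗ -, assumed to exist). Then Hom_{O_X}(M~, N~) is isomorphic to the O_X-module
associated to the A-module Hom_A(M, N) (existence of an isomorphism only; the prelude's sheaf Hom is
a chosen right adjoint, so no particular map is singled out). -/
theorem result
    (A : Type u) [CommRing A] (M N : Type u) [AddCommGroup M] [Module A M]
    [Module.FinitePresentation A M] [AddCommGroup N] [Module A N]
    [DCoh.HasSheafHom (tilde (R := CommRingCat.of A) (ModuleCat.of A M))] :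
    Nonempty ((DCoh.sheafHom (tilde (R := CommRingCat.of A) (ModuleCat.of A M))).obj
        (tilde (R := CommRingCat.of A) (ModuleCat.of A N)) ≅
      tilde (R := CommRingCat.of A) (ModuleCat.of A (M →ₗ[A] N))) := by
  let R := CommRingCat.of A
  let M' : ModuleCat.{u} R := ModuleCat.of A M
  let N' : ModuleCat.{u} R := ModuleCat.of A N
  haveI : Module.FinitePresentation R M' := ‹Module.FinitePresentation A M›
  haveI : ModSite.HasSheafHom (O := (Spec R).sheaf) (tilde M') :=
    Groth.SitesTopoi.ModH.hasSheafHom (O := (Spec R).sheaf) (tilde M')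
  haveI := isIso_psi_of_fp M' N'
  let e : ModuleCat.of A (M →ₗ[A] N) ≅ ModuleCat.of R (M' ⟶ N') :=
    ((ModuleCat.homLinearEquiv (S := A) (M := M') (N := N')).symm).toModuleIso
  exact ⟨((Groth.CohTwo.LocFreeExt.msIso (tilde M')).app (tilde N')).symm ≪≫
    (asIso (Groth.SheafExt.Affine.psi N' M')).symm ≪≫
      (tilde.functor R).mapIso e.symm⟩

end Groth.Agent.S9503
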