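import Groth.Statements.S9509
import Groth.Agent.PropsBasic2.Misc

set_option autoImplicit false
universe u
open SchMor

namespace Groth.Agent.S9509

open AlgebraicGeometry in
open CategoryTheory in
/-- (3) ⇒ (1): Let f : X → S be a morphism of schemes. Suppose S is covered by affine opens W_i, each
preimage f⁻¹(W_i) is covered by affine opens V_{i,j}, and any two V_{i,j}, V_{i,j'} with the same
index i meet in a quasi-compact open (one covered by finitely many affine opens). Then f is
quasi-separated. -/
theorem result
    {X S : Scheme.{u}} (f : X ⟶ S) {ι : Type u} (W : ι → S.affineOpens)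
    (hW : ⨆ i, (W i : S.Opens) = ⊤) {κ : ι → Type u} (V : ∀ i, κ i → X.affineOpens)
    (hV : ∀ i, ⨆ j, (V i j : X.Opens) = f ⁻¹ᵁ (W i : S.Opens))
    (hVV : ∀ i (j j' : κ i), IsCompact ((V i j : Set X) ∩ (V i j' : Set X))) :
    QuasiSeparated f := by
  exact Groth.PropsBasic2.quasiSeparated_of_covers f W hW V hV hVV

end Groth.Agent.S9509
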