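import Groth.Statements.S9510
import Groth.Agent.PropsBasic2.Misc

set_option autoImplicit false
universe u
open SchMor

namespace Groth.Agent.S9510

open AlgebraicGeometry in
open CategoryTheory in
/-- Let X be a scheme, X = ⋃ U_i an affine open covering and V ⊆ X an affine open. Then there is a
standard open covering V = D(f_1) ∪ … ∪ D(f_m), with f_1, …, f_m sections of O_X over V, such that
each D(f_j) is also a standard open D(g) of one of the U_i (g a section over that U_i). -/
theorem result
    (X : Scheme.{u}) {ι : Type u} (U : ι → X.affineOpens) (hU : ⨆ i, (U i : X.Opens) = ⊤)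
    (V : X.affineOpens) :
    ∃ s : Finset Γ(X, (V : X.Opens)),
      (⨆ f ∈ s, X.basicOpen f) = (V : X.Opens) ∧
        ∀ f ∈ s, ∃ (i : ι) (g : Γ(X, (U i : X.Opens))), X.basicOpen f = X.basicOpen g := by
  exact Groth.PropsBasic2.exists_finset_basicOpen X U hU V

end Groth.Agent.S9510
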