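import Groth.Statements.S9511
import Groth.Agent.SchemeMorphisms.LRSImm.Disjoint
-- import your own Groth.Agent.* helpers here

set_option autoImplicit false
universe u
open LRSImm

namespace Groth.Agent.S9511

open AlgebraicGeometry in
open CategoryTheory TopologicalSpace in
/-- Let X be a locally ringed space and U, V ⊆ X open with X = U ⊔ V (they cover X and are disjoint),
such that the open subspaces X|_U and X|_V are affine schemes. Then X is an affine scheme: the
canonical morphism X → Spec Γ(X, O_X) is an isomorphism of locally ringed spaces. -/
theorem result
    (X : LocallyRingedSpace.{u}) (U V : Opens X.toTopCat) (hUV : IsCompl U V)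
    (A B : CommRingCat.{u})
    (eU : X.restrict U.isOpenEmbedding ≅ (Spec A).toLocallyRingedSpace)
    (eV : X.restrict V.isOpenEmbedding ≅ (Spec B).toLocallyRingedSpace) :
    IsIso X.toΓSpec := by
  exact Groth.LRSImmAux.isIso_toΓSpec_of_isCompl X U V hUV A B eU eV

end Groth.Agent.S9511
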