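import Groth.Statements.S9513
import Groth.Agent.SitesTopoi.BasisSheaf

set_option autoImplicit false
universe u
open SchMor

namespace Groth.Agent.S9513

section

open AlgebraicGeometry CategoryTheory TopologicalSpace Opposite
open Groth.SitesTopoi Groth.SitesTopoi.Bas

variable {X : Scheme.{u}} (F : (X.affineOpens)ᵒᵖ ⥤ Type u)

/-- The presheaf on the basis of affine opens attached to a functor. -/
def pre : ShB.Pre (X := (X : Type u)) X.affineOpens where
  obj U := F.obj (op U)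
  res h s := F.map (homOfLE h).op s
  res_id _ s := FunctorToTypes.map_id_apply F s
  res_comp h₁ h₂ s :=
    (FunctorToTypes.map_comp_apply F (homOfLE h₁).op (homOfLE h₂).op s).symm

/-- Injectivity and gluing for a decomposition of an affine open into two basic opens. -/
def PairGlue : Prop :=
  ∀ (U V W VW : X.affineOpens) (f g : Γ(X, (U : X.Opens))),
    (V : X.Opens) = X.basicOpen f → (W : X.Opens) = X.basicOpen g →
    (VW : X.Opens) = X.basicOpen (f * g) → (U : X.Opens) = (V : X.Opens) ⊔ (W : X.Opens) →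
    ∀ (hV : V ≤ U) (hW : W ≤ U) (h1 : VW ≤ V) (h2 : VW ≤ W),
    Function.Injective (fun s : F.obj (op U) => (F.map (homOfLE hV).op s, F.map (homOfLE hW).op s)) ∧
    Set.range (fun s : F.obj (op U) => (F.map (homOfLE hV).op s, F.map (homOfLE hW).op s)) =
      {p | F.map (homOfLE h1).op p.1 = F.map (homOfLE h2).op p.2}

variable {F}

theorem basicOpen_add_le' {U : X.Opens} (a b : Γ(X, U)) :
    X.basicOpen (a + b) ≤ X.basicOpen a ⊔ X.basicOpen b := by
  intro x hx
  have hxU : x ∈ U := X.basicOpen_le _ hx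
  have hx' := (X.mem_basicOpen _ x hxU).1 hx
  rw [map_add] at hx'
  exact (IsLocalRing.isUnit_or_isUnit_of_isUnit_add hx').imp
    (X.mem_basicOpen _ x hxU).2 (X.mem_basicOpen _ x hxU).2

theorem split (H : PairGlue F) {U w : X.affineOpens} (hw : w ≤ U) (f g : Γ(X, (U : X.Opens)))
    (hfg : (U : X.Opens) ≤ X.basicOpen f ⊔ X.basicOpen g) (a b : (pre F).obj w)
    (ha : ∀ (w' : X.affineOpens) (h : (w' : X.Opens) ≤ w), (w' : X.Opens) ≤ X.basicOpen f →
      (pre F).res h a = (pre F).res h b)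
    (hb : ∀ (w' : X.affineOpens) (h : (w' : X.Opens) ≤ w), (w' : X.Opens) ≤ X.basicOpen g →
      (pre F).res h a = (pre F).res h b) : a = b := by
  let ρ : Γ(X, (U : X.Opens)) → Γ(X, (w : X.Opens)) := X.presheaf.map (homOfLE hw).op
  let V₁ : X.affineOpens := ⟨X.basicOpen (ρ f), w.2.basicOpen _⟩
  let V₂ : X.affineOpens := ⟨X.basicOpen (ρ g), w.2.basicOpen _⟩
  let V₁₂ : X.affineOpens := ⟨X.basicOpen (ρ f * ρ g), w.2.basicOpen _⟩
  have e₁ : (V₁ : X.Opens) = (w : X.Opens) ⊓ X.basicOpen f := X.basicOpen_res f _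
  have e₂ : (V₂ : X.Opens) = (w : X.Opens) ⊓ X.basicOpen g := X.basicOpen_res g _
  have h1 : (V₁₂ : X.Opens) ≤ V₁ := (X.basicOpen_mul (ρ f) (ρ g)).trans_le inf_le_left
  have h2 : (V₁₂ : X.Opens) ≤ V₂ := (X.basicOpen_mul (ρ f) (ρ g)).trans_le inf_le_right
  have hcov : (w : X.Opens) = (V₁ : X.Opens) ⊔ (V₂ : X.Opens) := by
    rw [e₁, e₂, ← inf_sup_left, inf_eq_left.2 (le_trans hw hfg)]
  refine (H w V₁ V₂ V₁₂ (ρ f) (ρ g) rfl rfl rfl hcov (X.basicOpen_le _) (X.basicOpen_le _) h1 h2).1 ?_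
  exact Prod.ext (ha V₁ (X.basicOpen_le _) (e₁.trans_le inf_le_right))
    (hb V₂ (X.basicOpen_le _) (e₂.trans_le inf_le_right))

variable {U : X.affineOpens} {ι : Type u} (V : ι → X.affineOpens) (s : ∀ i, (pre F).obj (V i))

/-- A section over `D` agreeing with the family on every affine open. -/
def Compat (D : X.affineOpens) (t : (pre F).obj D) : Prop :=
  ∀ (i : ι) (w : X.affineOpens) (hD : (w : X.Opens) ≤ D) (hi : (w : X.Opens) ≤ V i),
    (pre F).res hD t = (pre F).res hi (s i)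

theorem Compat.res {D D' : X.affineOpens} {t : (pre F).obj D} (ht : Compat V s D t)
    (h : (D' : X.Opens) ≤ D) : Compat V s D' ((pre F).res h t) := by
  intro i w hD hi
  rw [(pre F).res_comp]
  exact ht i w _ hi

variable (U) in
def Good (g : Γ(X, (U : X.Opens))) : Prop :=
  ∀ (h : Γ(X, (U : X.Opens))) (D : X.affineOpens), (D : X.Opens) = X.basicOpen (g * h) →
    ∃! t, Compat V s D t

theorem good_zero (E : X.affineOpens) (hE : (E : X.Opens) = ⊥) (h0 : Nonempty (F.obj (op E)))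
    (h1 : Subsingleton (F.obj (op E))) : Good U V s 0 := by
  intro h D hD
  obtain rfl : D = E := Subtype.ext (hD.trans ((by simp : X.basicOpen (0 * h) = ⊥).trans hE.symm))
  refine ⟨h0.some, fun i w hw hi => ?_, fun t _ => @Subsingleton.elim _ h1 _ _⟩
  obtain rfl : w = D := Subtype.ext (le_antisymm hw (by rw [hE]; exact bot_le))
  exact @Subsingleton.elim _ h1 _ _

theorem good_add (H : PairGlue F) {g₁ g₂ : Γ(X, (U : X.Opens))} (hg₁ : Good U V s g₁)
    (hg₂ : Good U V s g₂) : Good U V s (g₁ + g₂) := by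
  intro h D hD
  have hDU : (D : X.Opens) ≤ U := hD.trans_le (X.basicOpen_le _)
  let ρ : Γ(X, (U : X.Opens)) → Γ(X, (D : X.Opens)) := X.presheaf.map (homOfLE hDU).op
  let k := (g₁ + g₂) * h
  let V₁ : X.affineOpens := ⟨X.basicOpen (ρ (g₁ * h)), D.2.basicOpen _⟩
  let V₂ : X.affineOpens := ⟨X.basicOpen (ρ (g₂ * h)), D.2.basicOpen _⟩
  let V₁₂ : X.affineOpens := ⟨X.basicOpen (ρ (g₁ * h) * ρ (g₂ * h)), D.2.basicOpen _⟩
  have hc : (D : X.Opens) ≤ X.basicOpen (g₁ * h) ⊔ X.basicOpen (g₂ * h) := by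
    rw [hD, add_mul]; exact basicOpen_add_le' _ _
  have e₁ : (V₁ : X.Opens) = X.basicOpen (g₁ * (h * k)) := by
    rw [← mul_assoc, X.basicOpen_mul, inf_comm, ← hD]
    exact X.basicOpen_res _ _
  have e₂ : (V₂ : X.Opens) = X.basicOpen (g₂ * (h * k)) := by
    rw [← mul_assoc, X.basicOpen_mul, inf_comm, ← hD]
    exact X.basicOpen_res _ _
  have e₁₂ : (V₁₂ : X.Opens) = X.basicOpen (g₁ * (h * k * (g₂ * h))) := by
    rw [← mul_assoc, ← mul_assoc g₁ h k, X.basicOpen_mul, X.basicOpen_mul (g₁ * h) k,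
      inf_comm (X.basicOpen (g₁ * h)), ← hD]
    refine (X.basicOpen_mul _ _).trans ?_
    rw [X.basicOpen_res, X.basicOpen_res]
    rw [← inf_inf_distrib_left, inf_assoc]
  have h1 : (V₁₂ : X.Opens) ≤ V₁ := (X.basicOpen_mul _ _).trans_le inf_le_left
  have h2 : (V₁₂ : X.Opens) ≤ V₂ := (X.basicOpen_mul _ _).trans_le inf_le_right
  have l₁ : (V₁ : X.Opens) ≤ D := X.basicOpen_le _
  have l₂ : (V₂ : X.Opens) ≤ D := X.basicOpen_le _
  have hcov : (D : X.Opens) = (V₁ : X.Opens) ⊔ (V₂ : X.Opens) := by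
    change _ = X.basicOpen (ρ (g₁ * h)) ⊔ X.basicOpen (ρ (g₂ * h))
    rw [X.basicOpen_res, X.basicOpen_res, ← inf_sup_left]
    exact (inf_eq_left.2 hc).symm
  obtain ⟨t₁, ht₁, hu₁⟩ := hg₁ _ V₁ e₁
  obtain ⟨t₂, ht₂, hu₂⟩ := hg₂ _ V₂ e₂
  obtain ⟨hinj, hrange⟩ :=
    H D V₁ V₂ V₁₂ (ρ (g₁ * h)) (ρ (g₂ * h)) rfl rfl rfl hcov l₁ l₂ h1 h2
  have hm : (pre F).res h1 t₁ = (pre F).res h2 t₂ :=
    (hg₁ _ V₁₂ e₁₂).unique (ht₁.res V s h1) (ht₂.res V s h2)
  obtain ⟨t, ht⟩ := hrange.symm.subset (show ((t₁, t₂) : F.obj (op V₁) × F.obj (op V₂)) ∈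
    {p | F.map (homOfLE (show V₁₂ ≤ V₁ from h1)).op p.1 = F.map (homOfLE (show V₁₂ ≤ V₂ from h2)).op p.2} from hm)
  have t₁' : (pre F).res l₁ t = t₁ := congrArg Prod.fst ht
  have t₂' : (pre F).res l₂ t = t₂ := congrArg Prod.snd ht
  refine ⟨t, fun i w hw hi => ?_, fun t' ht' => hinj ?_⟩
  · refine split H (U := D) hw (ρ (g₁ * h)) (ρ (g₂ * h)) hcov.le _ _ (fun w' hw' hw₁ => ?_)
      fun w' hw' hw₂ => ?_
    · rw [(pre F).res_comp, (pre F).res_comp, ← (pre F).res_comp l₁ hw₁ t, t₁']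
      exact ht₁ i w' hw₁ _
    · rw [(pre F).res_comp, (pre F).res_comp, ← (pre F).res_comp l₂ hw₂ t, t₂']
      exact ht₂ i w' hw₂ _
  · exact Prod.ext ((hu₁ _ (ht'.res V s l₁)).trans t₁'.symm) ((hu₂ _ (ht'.res V s l₂)).trans t₂'.symm)

theorem isSheaf_pre (E : X.affineOpens) (hE : (E : X.Opens) = ⊥) (h0 : Nonempty (F.obj (op E)))
    (h1 : Subsingleton (F.obj (op E))) (H : PairGlue F) : ShB.IsSheaf (pre F) := by
  refine HasGluingRefinements.isSheaf X.isBasis_affineOpens fun U ι V hV hcov => ?_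
  let c : ShB.Cover (X := (X : Type u)) X.affineOpens :=
    { U := U, ι := ι, V := V, V_le := hV, V_cover := hcov
      κ := fun i j => {w : X.affineOpens // (w : X.Opens) ≤ V i ∧ (w : X.Opens) ≤ V j}
      W := fun i j w => w.1
      W_le_left := fun i j w => w.2.1
      W_le_right := fun i j w => w.2.2
      W_cover := fun i j x hx => by
        obtain ⟨b, hxb, hb⟩ := exists_small_member X.isBasis_affineOpens hx
        exact Opens.mem_iSup.2 ⟨⟨b, hb.trans inf_le_left, hb.trans inf_le_right⟩, hxb⟩ }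
  refine ⟨c, rfl, fun (s : ∀ i, (pre F).obj (V i)) hs => ?_, fun i => ⟨i, le_rfl⟩⟩
  change ∃! t : (pre F).obj U, ∀ i, (pre F).res (hV i) t = s i
  let I : Ideal Γ(X, (U : X.Opens)) :=
    { carrier := {g | Good U V s g}
      zero_mem' := good_zero V s E hE h0 h1
      add_mem' := good_add V s H
      smul_mem' := fun a g hg h D hD => hg (a * h) D (hD.trans (congrArg X.basicOpen (by rw [smul_eq_mul]; ring))) }
  have hI : {g : Γ(X, (U : X.Opens)) | ∃ i, X.basicOpen g ≤ (V i : X.Opens)} ⊆ I := by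
    rintro g ⟨i, hi⟩ h D hD
    have hDi : (D : X.Opens) ≤ V i := hD.trans_le ((X.basicOpen_mul g h).trans_le (inf_le_left.trans hi))
    refine ⟨(pre F).res hDi (s i), fun j w hw hj => ?_, fun t ht => ?_⟩
    · rw [(pre F).res_comp]; exact hs i j w _ _
    · rw [← (pre F).res_id D t]; exact ht i D le_rfl hDi
  have htop : (1 : Γ(X, (U : X.Opens))) ∈ I := by
    refine Ideal.span_le.2 hI ((Ideal.eq_top_iff_one _).1 ((IsAffineOpen.self_le_iSup_basicOpen_iff U.2).1 ?_))
    intro x hx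
    obtain ⟨i, hi⟩ := Opens.mem_iSup.1 (hcov hx)
    obtain ⟨g, hg, hxg⟩ := U.2.exists_basicOpen_le (V := (V i : X.Opens)) ⟨x, hi⟩ hx
    exact Opens.mem_iSup.2 ⟨⟨g, i, hg⟩, hxg⟩
  obtain ⟨t, ht, hu⟩ := htop 1 U (by rw [one_mul, X.basicOpen_of_isUnit isUnit_one])
  refine ⟨t, fun i => ?_, fun t' ht' => hu t' fun i w hw hi => ?_⟩
  · rw [← (pre F).res_id (V i) (s i)]; exact ht i (V i) (hV i) le_rfl
  · rw [← ht' i, (pre F).res_comp]

theorem pairGlue_of_iso (G : TopCat.Sheaf (Type u) X.carrier)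
    (e : (Monotone.functor (f := fun U : X.affineOpens => (U : X.Opens)) (fun _ _ h => h)).op ⋙ G.1 ≅ F) :
    PairGlue F := by
  let η : ∀ U : X.affineOpens, G.1.obj (op (U : X.Opens)) ≃ F.obj (op U) := fun U => (e.app (op U)).toEquiv
  have hη : ∀ (U V : X.affineOpens) (h : V ≤ U) (a : G.1.obj (op (U : X.Opens))),
      F.map (homOfLE h).op (η U a) = η V (res G.1 h a) := fun U V h a =>
    (NatTrans.naturality_apply e.hom (homOfLE h).op a).symm
  intro U V W VW f g hVf hWg hVW hU hV hW h1 h2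
  let Y : ULift.{u} Bool → X.Opens := fun b => bif b.down then V else W
  have hY : ∀ b, Y b ≤ (U : X.Opens) := by rintro ⟨_ | _⟩ <;> assumption
  have hcov : (U : X.Opens) ≤ iSup Y :=
    hU.trans_le (sup_le (le_iSup Y ⟨true⟩) (le_iSup Y ⟨false⟩))
  refine ⟨fun a b hab => ?_, Set.Subset.antisymm ?_ ?_⟩
  · obtain ⟨a, rfl⟩ := (η U).surjective a
    obtain ⟨b, rfl⟩ := (η U).surjective b
    simp only [hη, Prod.mk.injEq, EmbeddingLike.apply_eq_iff_eq] at hab
    refine congrArg (η U) (sheaf_ext G Y hY hcov ?_)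
    rintro ⟨_ | _⟩
    · exact hab.2
    · exact hab.1
  · rintro _ ⟨a, rfl⟩
    obtain ⟨a, rfl⟩ := (η U).surjective a
    simp only [Set.mem_setOf_eq, hη]
    rw [res_res, res_res]
  · rintro ⟨p, q⟩ (hpq : F.map (homOfLE h1).op p = F.map (homOfLE h2).op q)
    obtain ⟨a, rfl⟩ := (η V).surjective p
    obtain ⟨b, rfl⟩ := (η W).surjective q
    rw [hη, hη, EmbeddingLike.apply_eq_iff_eq] at hpq
    have hl : (V : X.Opens) ⊓ W ≤ VW := by rw [hVf, hWg, hVW, X.basicOpen_mul]
    have hab : res G.1 (inf_le_left : (V : X.Opens) ⊓ W ≤ V) a = res G.1 inf_le_right b := by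
      have := congrArg (res G.1 hl) hpq
      rwa [res_res, res_res] at this
    obtain ⟨t, ht, -⟩ := sheaf_glue G Y hY hcov
      (fun b' => match b' with | ⟨true⟩ => a | ⟨false⟩ => b) (by
        rintro ⟨_ | _⟩ ⟨_ | _⟩
        · rfl
        · have := congrArg (res G.1 (le_inf inf_le_right inf_le_left :
            (W : X.Opens) ⊓ V ≤ (V : X.Opens) ⊓ W)) hab
          rw [res_res, res_res] at this
          exact this.symm
        · exact hab
        · rfl)
    exact ⟨η U t, Prod.ext ((hη U V hV t).trans (congrArg (η V) (ht ⟨true⟩)))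
      ((hη U W hW t).trans (congrArg (η W) (ht ⟨false⟩)))⟩

theorem exists_sheaf (H : ShB.IsSheaf (pre F)) :
    ∃ G : TopCat.Sheaf (Type u) X.carrier,
      Nonempty ((Monotone.functor (f := fun U : X.affineOpens => (U : X.Opens)) (fun _ _ h => h)).op ⋙ G.1 ≅ F) := by
  refine ⟨⟨extPresheaf (pre F), extPresheaf_isSheaf X.isBasis_affineOpens H⟩, ⟨NatIso.ofComponents
    (fun U => Equiv.toIso
      { toFun := (extIso (pre F)).hom.app U.unop
        invFun := (extIso (pre F)).inv.app U.unop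
        left_inv := (extIso (pre F)).hom_inv U.unop
        right_inv := (extIso (pre F)).inv_hom U.unop }) fun {U W} i => ?_⟩⟩
  ext a
  exact ((extIso (pre F)).hom.natural (leOfHom i.unop) a).symm

end

open AlgebraicGeometry in
open CategoryTheory TopologicalSpace Opposite in
/-- (1) ⇔ (3): Let X be a scheme and B the set of affine opens of X, ordered by inclusion; let F be a
presheaf of sets on B (a functor on Bᵒᵖ) and E ∈ B the empty open. Then F is isomorphic to the
restriction to B of a sheaf of sets on X if and only if (a) F(∅) is a singleton and (b) for all U ∈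
B and sections f, g of O_X over U with U = D(f) ∪ D(g), writing V = D(f), W = D(g) and V ∩ W = D(fg)
(all in B), the map F(U) → F(V) × F(W) is injective with image exactly the pairs (s, t) whose
restrictions to D(fg) agree. (The order relations V, W ≤ U and D(fg) ≤ V, W are supplied as
hypotheses; they follow from the equations.) -/
theorem result (X : Scheme.{u})
    (F : (X.affineOpens)ᵒᵖ ⥤ Type u) (E : X.affineOpens) (hE : (E : X.Opens) = ⊥) :
    (∃ G : TopCat.Sheaf (Type u) X.carrier,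
        Nonempty ((Monotone.functor (f := fun U : X.affineOpens => (U : X.Opens)) (fun _ _ h => h)).op ⋙ G.1 ≅ F)) ↔
    ((Nonempty (F.obj (op E)) ∧ Subsingleton (F.obj (op E))) ∧
      ∀ (U V W VW : X.affineOpens) (f g : Γ(X, (U : X.Opens))),
        (V : X.Opens) = X.basicOpen f → (W : X.Opens) = X.basicOpen g →
        (VW : X.Opens) = X.basicOpen (f * g) → (U : X.Opens) = (V : X.Opens) ⊔ (W : X.Opens) →
        ∀ (hV : V ≤ U) (hW : W ≤ U) (h1 : VW ≤ V) (h2 : VW ≤ W),
        Function.Injective (fun s : F.obj (op U) => (F.map (homOfLE hV).op s, F.map (homOfLE hW).op s)) ∧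
        Set.range (fun s : F.obj (op U) => (F.map (homOfLE hV).op s, F.map (homOfLE hW).op s)) =
          {p | F.map (homOfLE h1).op p.1 = F.map (homOfLE h2).op p.2}) := by
  constructor
  · rintro ⟨G, ⟨e⟩⟩
    have ee : G.1.obj (op (E : X.Opens)) ≃ F.obj (op E) := (e.app (op E)).toEquiv
    exact ⟨⟨(Groth.SitesTopoi.nonempty_sections_of_eq_bot G hE).map ee,
      ⟨fun a b => ee.symm.injective (Groth.SitesTopoi.unique_sections_of_eq_bot G hE _ _)⟩⟩,
      pairGlue_of_iso G e⟩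
  · rintro ⟨⟨h0, h1⟩, H⟩
    exact exists_sheaf (isSheaf_pre E hE h0 h1 H)

end Groth.Agent.S9513
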