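import Groth.Statements.S9517
import Groth.Agent.CohTwo.SubobjectSections
import Mathlib.RingTheory.Filtration

set_option autoImplicit false
universe u
open CategoryTheory CategoryTheory.Limits AlgebraicGeometry
attribute [local instance] HasDerivedCategory.standard
open Coherent

namespace Groth.Agent.S9517

/-- Monotonicity in the constant of the Artin-Rees identity. -/
theorem artinRees_mono {R M : Type*} [CommRing R] [AddCommGroup M] [Module R M] (I : Ideal R)
    (N : Submodule R M) {k c n : ℕ} (hk : k ≤ c) (hn : c ≤ n)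
    (h : ∀ n ≥ k, I ^ n • ⊤ ⊓ N = I ^ (n - k) • (I ^ k • ⊤ ⊓ N)) :
    I ^ (n - c) • (I ^ c • ⊤ ⊓ N) = I ^ n • ⊤ ⊓ N := by
  rw [h c hk, h n (hk.trans hn), ← Submodule.mul_smul, ← pow_add]
  congr 2
  omega

/-- Let X be a Noetherian scheme, F a coherent O_X-module, G ⊆ F a quasi-coherent submodule (given by a
monomorphism ι : G → F) and I a quasi-coherent sheaf of ideals. Then there is c ≥ 0 such that for
every n ≥ c the two subobjects I^(n-c)·(I^c F ∩ G) and I^n F ∩ G of F are equal. (Products J·M are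
the submodule sheaves Dual3.idealMul J M; intersections are taken in the lattice of subobjects of
F.) -/
theorem result (X : Scheme.{u}) [IsNoetherian X] (F G : X.Modules) (hF : Coh.IsCoh F)
    (hG : Coh.IsQCoh G) (ι : G ⟶ F) [Mono ι] (I : X.IdealSheafData) :
    ∃ c : ℕ, ∀ n : ℕ, c ≤ n →
      Subobject.mk (Dual3.idealMulι (I ^ (n - c))
          (Subobject.underlying.obj (Subobject.mk (Dual3.idealMulι (I ^ c) F) ⊓ Subobject.mk ι)) ≫
        (Subobject.mk (Dual3.idealMulι (I ^ c) F) ⊓ Subobject.mk ι).arrow) =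
      Subobject.mk (Dual3.idealMulι (I ^ n) F) ⊓ Subobject.mk ι := by
  classical
  haveI : G.IsQuasicoherent := hG
  haveI : F.IsQuasicoherent := hF.1
  obtain ⟨s, hs⟩ := Groth.PropsBasic2.exists_finite_affine_cover X
  have key : ∀ V : X.affineOpens, ∃ k : ℕ, ∀ n ≥ k,
      I.ideal V ^ n • ⊤ ⊓ LinearMap.range (Groth.QCohMod.appₗ ι V.1) =
        I.ideal V ^ (n - k) • (I.ideal V ^ k • ⊤ ⊓ LinearMap.range (Groth.QCohMod.appₗ ι V.1)) :=
    fun V => by
      haveI := Groth.QCohMod.finite_sections F hF.2 V.2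
      haveI := IsLocallyNoetherian.component_noetherian (X := X) V
      exact Ideal.exists_pow_inf_eq_pow_smul _ _
  choose k hk using key
  refine ⟨s.sup k, fun n hn => ?_⟩
  let P := Subobject.mk (Dual3.idealMulι (I ^ s.sup k) F) ⊓ Subobject.mk ι
  have hP : P = Subobject.mk (Groth.CohTwo.interι (Dual3.idealMulι (I ^ s.sup k) F) ι) :=
    Groth.CohTwo.mk_inf_mk_eq _ _
  haveI := Groth.CohTwo.isQCoh_idealMul (I ^ s.sup k) F
  haveI := Groth.CohTwo.isQCoh_idealMul (I ^ n) F
  haveI := Groth.CohTwo.isQCoh_inter (Dual3.idealMulι (I ^ s.sup k) F) ι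
  haveI : (Subobject.underlying.obj P).IsQuasicoherent :=
    (Groth.QCohMod.isQCoh_iff_of_iso
      (eqToIso (congrArg Subobject.underlying.obj hP) ≪≫ Subobject.underlyingIso _)).mpr inferInstance
  haveI := Groth.CohTwo.isQCoh_idealMul (I ^ (n - s.sup k)) (Subobject.underlying.obj P)
  haveI := Groth.CohTwo.isQCoh_inter (Dual3.idealMulι (I ^ n) F) ι
  rw [Groth.CohTwo.mk_inf_mk_eq (Dual3.idealMulι (I ^ n) F) ι]
  refine Groth.CohTwo.subobject_mk_eq_of_cover _ _ (fun V : s => (V.1 : X.Opens)) (fun V => V.1.2)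
    (fun x => TopologicalSpace.Opens.mem_iSup.1 (hs.ge (show x ∈ (⊤ : X.Opens) from trivial))) ?_
  intro V
  let N := LinearMap.range (Groth.QCohMod.appₗ ι V.1.1)
  have hPrange : LinearMap.range (Groth.QCohMod.appₗ P.arrow V.1.1) =
      I.ideal V.1 ^ s.sup k • ⊤ ⊓ N := by
    ext y
    have e : Set.range (P.arrow.app V.1.1) = Set.range
        ((Groth.CohTwo.interι (Dual3.idealMulι (I ^ s.sup k) F) ι).app V.1.1) := by
      obtain ⟨a, ha⟩ : ∃ a : _ ⟶ _, a ≫ Groth.CohTwo.interι (Dual3.idealMulι (I ^ s.sup k) F) ι =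
          P.arrow := (Subobject.mk_factors_iff _ _).1 (hP ▸ P.factors_self)
      have hb : P.Factors (Groth.CohTwo.interι (Dual3.idealMulι (I ^ s.sup k) F) ι) := by
        rw [hP]
        exact Subobject.mk_factors_self _
      obtain ⟨b, hb⟩ : ∃ b : _ ⟶ Subobject.underlying.obj P, b ≫ P.arrow =
          Groth.CohTwo.interι (Dual3.idealMulι (I ^ s.sup k) F) ι :=
        ⟨P.factorThru _ hb, P.factorThru_arrow _ hb⟩
      refine Set.Subset.antisymm ?_ ?_
      · rintro _ ⟨z, rfl⟩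
        exact ⟨a.app _ z, congr(($ha).app V.1.1 z)⟩
      · rintro _ ⟨z, rfl⟩
        exact ⟨b.app _ z, congr(($hb).app V.1.1 z)⟩
    refine (Set.ext_iff.1 e y).trans ?_
    rw [Groth.CohTwo.range_interι]
    exact and_congr (Groth.CohTwo.range_idealMulι_pow I _ F V.1.2 y) Iff.rfl
  have hL : LinearMap.range (Groth.QCohMod.appₗ (Dual3.idealMulι (I ^ (n - s.sup k))
      (Subobject.underlying.obj P) ≫ P.arrow) V.1.1) =
      I.ideal V.1 ^ (n - s.sup k) • (I.ideal V.1 ^ s.sup k • ⊤ ⊓ N) := by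
    rw [← hPrange, ← Submodule.map_top (Groth.QCohMod.appₗ P.arrow V.1.1),
      ← Submodule.map_smul'']
    ext y
    constructor
    · rintro ⟨z, rfl⟩
      exact ⟨_, (Groth.CohTwo.range_idealMulι_pow I _ _ V.1.2 _).1 ⟨z, rfl⟩, rfl⟩
    · rintro ⟨w, hw, rfl⟩
      obtain ⟨z, hz⟩ := (Groth.CohTwo.range_idealMulι_pow I _ _ V.1.2 _).2 hw
      exact ⟨z, congrArg (P.arrow.app V.1.1) hz⟩
  rw [artinRees_mono (I.ideal V.1) N (Finset.le_sup V.2) hn (hk V.1)] at hL
  rw [Groth.CohTwo.range_interι]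
  ext y
  refine (SetLike.ext_iff.1 hL y).trans ?_
  exact and_congr (Groth.CohTwo.range_idealMulι_pow I _ F V.1.2 y).symm Iff.rfl

end Groth.Agent.S9517
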