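import Groth.Statements.S9519
import Groth.Agent.CohBase.RelCechBC

set_option autoImplicit false
universe u
open CategoryTheory CategoryTheory.Limits AlgebraicGeometry
attribute [local instance] HasDerivedCategory.standard
open CechOX

namespace Groth.Agent.S9519

/-- Let f : X → S be a morphism of schemes with X quasi-compact and X and S with affine diagonal, F a
quasi-coherent O_X-module, 𝒰 a finite covering of X by affine opens and g : S' → S a morphism; write
X' = X ×_S S' with projections g' : X' → X and f' : X' → S', F' = g'^* F and 𝒰' for the covering of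
X' by the preimages (g')⁻¹(𝒰 i). Then g^* Č(𝒰, f, F) (termwise pullback) is isomorphic as a complex
of O_S'-modules to the relative Čech complex Č(𝒰', f', F'), and its image in the derived category of
O_S'-modules is isomorphic to Rf'_* F'. (The published statement calls the first identification an
equality and states it for g affine, in which case the opens of 𝒰' are affine; this row asserts the
existence of the isomorphisms for any g, with Rf'_* the unbounded derived functor under its
existence binder.) -/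
theorem result {X S S' : Scheme.{u}} (f : X ⟶ S) [CompactSpace X]
    [IsAffineHom (pullback.diagonal (terminal.from X))] [IsAffineHom (pullback.diagonal (terminal.from S))]
    (F : X.Modules) (hF : Coh.IsQCoh F) {ι : Type u} [Finite ι] (𝒰 : ι → X.Opens)
    (h𝒰 : ∀ i, IsAffineOpen (𝒰 i)) (hcov : ⨆ i, 𝒰 i = ⊤) (g : S' ⟶ S)
    [(Scheme.Modules.pullback g).Additive] [DCoh.HasRpush (pullback.snd f g)] :
    Nonempty (((Scheme.Modules.pullback g).mapHomologicalComplex (ComplexShape.up ℕ)).obj
        ((CechOX.relCech 𝒰 f).obj F) ≅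
      (CechOX.relCech (fun i => (pullback.fst f g) ⁻¹ᵁ (𝒰 i)) (pullback.snd f g)).obj
        ((Scheme.Modules.pullback (pullback.fst f g)).obj F)) ∧
    Nonempty (DCoh.toD S' ((((Scheme.Modules.pullback g).mapHomologicalComplex (ComplexShape.up ℕ)).obj
        ((CechOX.relCech 𝒰 f).obj F)).extend ComplexShape.embeddingUpNat) ≅
      (DCoh.Rpush (pullback.snd f g)).obj
        (DCoh.inD _ ((Scheme.Modules.pullback (pullback.fst f g)).obj F))) := by
  haveI : F.IsQuasicoherent := hF
  have sq := IsPullback.of_hasPullback f g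
  have hι : ∀ (p : ℕ) (x : Fin (p + 1) → ι), IsAffineHom (∏ᶜ (𝒰 ∘ x)).ι := fun p x =>
    Groth.CohBase.RelCech.isAffineHom_ι (Groth.CohBase.RelCech.isAffineOpen_prod 𝒰 h𝒰 x)
  have haff : ∀ (p : ℕ) (x : Fin (p + 1) → ι), IsAffineHom ((∏ᶜ (𝒰 ∘ x)).ι ≫ f) := fun p x =>
    Groth.CohBase.RelCech.isAffineHom_ι_comp f (Groth.CohBase.RelCech.isAffineOpen_prod 𝒰 h𝒰 x)
  have hι' : ∀ (p : ℕ) (x : Fin (p + 1) → ι),
      IsAffineHom (∏ᶜ ((fun i => pullback.fst f g ⁻¹ᵁ 𝒰 i) ∘ x)).ι := fun p x => by
    rw [Groth.CohBase.RelCechBC.preimage_prod (pullback.fst f g) 𝒰 x]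
    exact MorphismProperty.of_isPullback (isPullback_morphismRestrict _ _) (hι p x)
  have haff' : ∀ (p : ℕ) (x : Fin (p + 1) → ι),
      IsAffineHom ((∏ᶜ ((fun i => pullback.fst f g ⁻¹ᵁ 𝒰 i) ∘ x)).ι ≫ pullback.snd f g) :=
    fun p x => by
      rw [Groth.CohBase.RelCechBC.preimage_prod (pullback.fst f g) 𝒰 x]
      exact MorphismProperty.of_isPullback
        (Groth.CohBase.RelCechBC.isPullback_restrict sq _) (haff p x)
  obtain ⟨e⟩ := Groth.CohBase.RelCechBC.nonempty_complex_iso 𝒰 sq F haff
  have hcov' : ⨆ i, pullback.fst f g ⁻¹ᵁ 𝒰 i = ⊤ := by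
    rw [← Scheme.Hom.preimage_iSup, hcov, Scheme.Hom.preimage_top]
  obtain ⟨r⟩ := Groth.CohBase.RelCechBC.nonempty_relCechZ_iso'
    (fun i => pullback.fst f g ⁻¹ᵁ 𝒰 i) (pullback.snd f g) hcov' hι' haff'
    ((Scheme.Modules.pullback (pullback.fst f g)).obj F)
  exact ⟨⟨e⟩, ⟨DerivedCategory.Q.mapIso ((ComplexShape.embeddingUpNat.extendFunctor _).mapIso e) ≪≫ r⟩⟩

end Groth.Agent.S9519
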