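import Groth.Statements.S9522
import Groth.Agent.CohTwo.Devissage
-- import your own Groth.Agent.* helpers here

set_option autoImplicit false
universe u
open CategoryTheory CategoryTheory.Limits AlgebraicGeometry
attribute [local instance] HasDerivedCategory.standard
open Coherent

namespace Groth.Agent.S9522

/-- Let X be a Noetherian scheme, Z₀ ⊆ X an irreducible closed subset with generic point ξ, and P an
isomorphism-invariant property of O_X-modules that holds for every zero module and such that (1) for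
every short exact sequence 0 → F₁ → F → F₂ → 0 of coherent modules, P(F₁) and P(F₂) imply P(F); (2)
for coherent F, P(F^⊕r) for some r ≥ 1 implies P(F); (3) P holds for i_*I for every closed immersion
i : Z → X with Z integral, i(Z) a proper subset of Z₀, and every quasi-coherent ideal sheaf I ⊆ O_Z;
(4) there is a coherent module G with support equal to Z₀, whose stalk at ξ is annihilated by the
maximal ideal of O_{X,ξ}, and such that for every quasi-coherent sheaf of ideals J on X with ξ ∉
V(J) there is a quasi-coherent submodule G' ⊆ J·G whose inclusion into G induces an isomorphism on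
stalks at ξ and for which P holds. Then P holds for every coherent O_X-module whose support is
contained in Z₀. (The published statement does not ask that P hold for the zero module, although its
proof uses this for a filtration with no steps; without it the conclusion fails for the zero module
when Z₀ is a closed point: on the spectrum of a field, with P(F) meaning that F is nonzero, every
other hypothesis holds. This row assumes that P holds for every zero module.) -/
theorem result (X : Scheme.{u}) [IsNoetherian X]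
    (Z₀ : Set X) (hZ₀ : IsClosed Z₀) (hirr : IsIrreducible Z₀) (ξ : X) (hξ : ξ ∈ Z₀ ∧ closure {ξ} = Z₀)
    (P : X.Modules → Prop) (hP : ∀ M N : X.Modules, Nonempty (M ≅ N) → P M → P N)
    (h₀ : ∀ M : X.Modules, IsZero M → P M)
    (h₁ : ∀ S : ShortComplex X.Modules, S.ShortExact → Coh.IsCoh S.X₁ → Coh.IsCoh S.X₂ → Coh.IsCoh S.X₃ →
      P S.X₁ → P S.X₃ → P S.X₂)
    (h₂ : ∀ (F : X.Modules) (r : ℕ), Coh.IsCoh F → 1 ≤ r → P (∐ fun _ : Fin r => F) → P F)
    (h₃ : ∀ (Z : Scheme.{u}) (i : Z ⟶ X), IsClosedImmersion i → IsIntegral Z →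
      Set.range ⇑i ⊆ Z₀ → Set.range ⇑i ≠ Z₀ →
      ∀ (I : Z.Modules) (ι : I ⟶ Coh.structureModule Z), Mono ι → Coh.IsQCoh I → P ((Coh.push i).obj I))
    (h₄ : ∃ G : X.Modules, Coh.IsCoh G ∧ CohB1.support G = Z₀ ∧
      (∀ a ∈ IsLocalRing.maximalIdeal (X.presheaf.stalk ξ), ∀ m : ↑(G.presheaf.stalk ξ), a • m = 0) ∧
      ∀ J : X.IdealSheafData, ξ ∉ (J.support : Set X) →
        ∃ (G' : X.Modules) (ι' : G' ⟶ (Dual3.idealMul J).obj G), Mono ι' ∧ Coh.IsQCoh G' ∧
          IsIso ((TopCat.Presheaf.stalkFunctor _ ξ).map (ι' ≫ Dual3.idealMulι J G).mapPresheaf) ∧ P G')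
    (F : X.Modules) (hF : Coh.IsCoh F) (hsupp : CohB1.support F ⊆ Z₀) : P F := by
  obtain ⟨hξZ, hcl⟩ := hξ
  refine Groth.CohTwo.coh_induction P hP h₀ h₁ Z₀ ?_ hZ₀ F hF hsupp
  intro Y ξ' hY hYZ F' hF' hkill hsmall
  haveI := hF'.1
  have hFY : CohB1.support F' ⊆ (Y : Set X) := hkill.support_subset.trans (by simp)
  have hFk : ∀ a ∈ IsLocalRing.maximalIdeal (X.presheaf.stalk ξ'), ∀ m : ↑(F'.presheaf.stalk ξ'),
      a • m = 0 := fun a ha m => hkill.stalk_maximalIdeal hY a ha m
  by_cases hYeq : (Y : Set X) = Z₀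
  · have e : closure ({ξ'} : Set X) = closure {ξ} := hY.symm.trans (hYeq.trans hcl.symm)
    obtain rfl : ξ' = ξ := IsGenericPoint.eq (S := closure ({ξ'} : Set X)) rfl e.symm
    obtain ⟨G, hG, hGs, hGk, hGw⟩ := h₄
    haveI : Nontrivial ↑(G.presheaf.stalk ξ') := not_subsingleton_iff_nontrivial.1 (hGs.ge hξZ)
    refine Groth.CohTwo.step_ext P h₀ h₁ h₂ hsmall hG hGk (fun J hJ => ?_) hF' hFY hFk
    obtain ⟨G', ι', hm, hq, hi, hPG⟩ := hGw J hJ
    exact ⟨G', ι', hm, hq, ConcreteCategory.bijective_of_isIso
      ((TopCat.Presheaf.stalkFunctor _ ξ').map (ι' ≫ Dual3.idealMulι J G).mapPresheaf), hPG⟩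
  · haveI := Groth.CohTwo.isIntegral_closure_subscheme hY
    let i := (Scheme.IdealSheafData.vanishingIdeal Y).subschemeι
    haveI : IsLocallyNoetherian (Scheme.IdealSheafData.vanishingIdeal Y).subscheme :=
      LocallyOfFiniteType.isLocallyNoetherian i
    let η := genericPoint ↥(Scheme.IdealSheafData.vanishingIdeal Y).subscheme
    obtain ⟨hG, -, hne, hGk⟩ := Groth.CohTwo.push_closure_witness hY
      (Coh.structureModule _) Groth.QCohMod.isCoh_unit
      (Groth.CohTwo.bijective_toSpanSingleton_one η).1.nontrivial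
    haveI := hne
    haveI := hG.1
    refine Groth.CohTwo.step_ext P h₀ h₁ h₂ hsmall hG hGk (fun J hJ => ?_) hF' hFY hFk
    refine ⟨_, 𝟙 _, inferInstance, Groth.CohTwo.isQCoh_idealMul J _, ?_, ?_⟩
    · rw [Category.id_comp]
      exact Groth.CohTwo.bijective_stalk_idealMulι J _ hJ
    · obtain ⟨e, -⟩ := Groth.Agent.S9523.result i (Coh.structureModule _)
        Groth.QCohMod.isCoh_unit.1 J
      have hr : Set.range i = (Y : Set X) :=
        Groth.PropsBasic2.range_vanishingIdeal_subschemeι Y
      exact hP _ _ ⟨e.symm⟩ (h₃ _ i inferInstance inferInstance (hr.trans_subset hYZ)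
        (fun h => hYeq (hr.symm.trans h)) _ (Dual3.idealMulι (J.comap i) _) inferInstance
        (Groth.CohTwo.isQCoh_idealMul _ _))

end Groth.Agent.S9522
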