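import Groth.Statements.S9526
import Groth.Agent.CohTwo.HomNhd

set_option autoImplicit false
universe u
open Coherent

namespace Groth.Agent.S9526

open CategoryTheory CategoryTheory.Limits AlgebraicGeometry in
/-- Let X be a locally Noetherian scheme, F and G coherent O_X-modules, x ∈ X and ψ : G_x → F_x an
O_{X,x}-linear map. Then there are an open neighbourhood U of x and a morphism φ : G|_U → F|_U with
φ_x = ψ (the stalk map of φ at x, composed with the canonical identifications of the stalks of G|_U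
and F|_U at x with G_x and F_x, is ψ). -/
theorem result (X : Scheme.{u}) [IsLocallyNoetherian X]
    (F G : X.Modules) (hF : Coh.IsCoh F) (hG : Coh.IsCoh G) (x : X)
    (ψ : ↑(G.presheaf.stalk x) →ₗ[X.presheaf.stalk x] ↑(F.presheaf.stalk x)) :
    ∃ (U : X.Opens) (hx : x ∈ U)
      (φ : (Scheme.Modules.restrictFunctor U.ι).obj G ⟶ (Scheme.Modules.restrictFunctor U.ι).obj F),
      (Scheme.Modules.restrictStalkNatIso U.ι (⟨x, hx⟩ : U)).inv.app G ≫
          (TopCat.Presheaf.stalkFunctor _ (⟨x, hx⟩ : U)).map φ.mapPresheaf ≫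
            (Scheme.Modules.restrictStalkNatIso U.ι (⟨x, hx⟩ : U)).hom.app F =
        AddCommGrpCat.ofHom ψ.toAddMonoidHom := by
  haveI := hF.1
  obtain ⟨U, hxU, φ, hφ⟩ := Groth.CohTwo.exists_hom_nhd G F hG x ψ
  refine ⟨U, hxU, φ, ?_⟩
  ext t
  obtain ⟨W, hxW, a, rfl⟩ := Groth.CohTwo.stalk_exists_germ G x t
  let W' : (U : Scheme.{u}).Opens := U.ι ⁻¹ᵁ W
  let y : (U : Scheme.{u}) := ⟨x, hxU⟩
  have hy : y ∈ W' := hxW
  have hyI : x ∈ U.ι ''ᵁ W' := ⟨y, hy, rfl⟩
  let z : Γ(G.restrict U.ι, W') := Groth.CohTwo.res G (U.ι.image_preimage_le W) a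
  have hg : ∀ (M : X.Modules) (w : Γ(M.restrict U.ι, W')),
      (Scheme.Modules.restrictStalkNatIso U.ι y).hom.app M
          ((M.restrict U.ι).presheaf.germ W' y hy w) =
        M.presheaf.germ (U.ι ''ᵁ W') x hyI (show Γ(M, U.ι ''ᵁ W') from w) := fun M w =>
    congr($(Scheme.Modules.germ_restrictStalkNatIso_hom_app (U := W') U.ι y M hy) w)
  have h1 : (Scheme.Modules.restrictStalkNatIso U.ι y).inv.app G (G.presheaf.germ W x hxW a) =
      (G.restrict U.ι).presheaf.germ W' y hy z := by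
    rw [← Groth.CohTwo.stalk_germ_res G x (U.ι.image_preimage_le W) hyI a]
    refine (congrArg ((Scheme.Modules.restrictStalkNatIso U.ι y).inv.app G) (hg G z).symm).trans ?_
    exact ((Scheme.Modules.restrictStalkNatIso U.ι y).app G).hom_inv_id_apply _
  change (Scheme.Modules.restrictStalkNatIso U.ι y).hom.app F
    ((TopCat.Presheaf.stalkFunctor Ab y).map φ.mapPresheaf
      ((Scheme.Modules.restrictStalkNatIso U.ι y).inv.app G (G.presheaf.germ W x hxW a))) =
      ψ (G.presheaf.germ W x hxW a)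
  rw [h1]
  refine (congrArg ((Scheme.Modules.restrictStalkNatIso U.ι y).hom.app F)
    (TopCat.Presheaf.stalkFunctor_map_germ_apply (F := (G.restrict U.ι).presheaf)
      (G := (F.restrict U.ι).presheaf) W' y hy φ.mapPresheaf z)).trans ?_
  refine (hg F _).trans ?_
  have hle : W ⊓ U ≤ U.ι ''ᵁ W' := by
    rw [Scheme.Hom.image_preimage_eq_opensRange_inf, Scheme.Opens.opensRange_ι, inf_comm]
  have hxWU : x ∈ W ⊓ U := ⟨hxW, hxU⟩
  rw [← Groth.CohTwo.stalk_germ_res F x hle hxWU,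
    ← Groth.CohTwo.stalk_germ_res G x (inf_le_left : W ⊓ U ≤ W) hxWU a, ← hφ _ hxWU inf_le_right]
  congr 1
  unfold Groth.CohTwo.appOn
  let z' : Γ(G.restrict U.ι, U.ι ⁻¹ᵁ (W ⊓ U)) :=
    Groth.CohTwo.res G (U.ι.image_preimage_le _) (Groth.CohTwo.res G inf_le_left a)
  have hpre : U.ι ⁻¹ᵁ (W ⊓ U) ≤ W' := U.ι.preimage_mono inf_le_left
  have hz : z' = Groth.CohTwo.res (G.restrict U.ι) hpre z := by
    change Groth.CohTwo.res G _ (Groth.CohTwo.res G _ a) = Groth.CohTwo.res G
      (U.ι.opensFunctor.map (homOfLE hpre)).le (Groth.CohTwo.res G (U.ι.image_preimage_le W) a)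
    rw [Groth.CohTwo.res_res, Groth.CohTwo.res_res]
  refine Eq.symm ((congrArg (Groth.CohTwo.res F _) ((congrArg (φ.app _) hz).trans
    (Groth.CohTwo.app_res φ hpre z))).trans ?_)
  let w : Γ(F, U.ι ''ᵁ W') := φ.app W' z
  change Groth.CohTwo.res F _ (Groth.CohTwo.res F (U.ι.opensFunctor.map (homOfLE hpre)).le w) =
    Groth.CohTwo.res F hle w
  rw [Groth.CohTwo.res_res]

end Groth.Agent.S9526
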