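import Groth.Statements.S9529
import Groth.Agent.CohTwo.HomDepth

set_option autoImplicit false
universe u
open CategoryTheory CategoryTheory.Limits AlgebraicGeometry
attribute [local instance] HasDerivedCategory.standard
open Coherent

namespace Groth.Agent.S9529

/-- Let X be a locally Noetherian scheme, F and G coherent O_X-modules and H = Hom_{O_X}(F, G). If G has
property (S_1), so has H; if G has property (S_2), so has H. Here a coherent module M has (S_k) when
depth M_x ≥ min(k, dim Supp M_x) for every x ∈ X, with M_x regarded as a module over O_{X,x} (the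
zero module has depth ∞ and support dimension −∞); the sheaf Hom is the right adjoint of F ⊗ − under
its existence binder. -/
theorem result (X : Scheme.{u}) [IsLocallyNoetherian X] (F G : X.Modules)
    (hF : Coh.IsCoh F) (hG : Coh.IsCoh G) [DCoh.HasSheafHom F] (k : ℕ) (hk : k = 1 ∨ k = 2)
    (hS : ∀ x : X, min (k : WithBot ℕ∞) (Module.supportDim (X.presheaf.stalk x) ↑(G.presheaf.stalk x)) ≤
      ((LocCoh.depth (X.presheaf.stalk x) ↑(G.presheaf.stalk x) : ℕ∞) : WithBot ℕ∞)) (x : X) :
    min (k : WithBot ℕ∞)
        (Module.supportDim (X.presheaf.stalk x) ↑(((DCoh.sheafHom F).obj G).presheaf.stalk x)) ≤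
      ((LocCoh.depth (X.presheaf.stalk x) ↑(((DCoh.sheafHom F).obj G).presheaf.stalk x) : ℕ∞) :
        WithBot ℕ∞) := by
  have hle := Groth.CohTwo.HomDepth.supportDim_stalk_sheafHom_le hF hG x
  have key : ∀ n : ℕ, n ≤ 2 → n ≤ k → (n : WithBot ℕ∞) ≤ Module.supportDim (X.presheaf.stalk x)
      ↑(G.presheaf.stalk x) → (n : WithBot ℕ∞) ≤ ((LocCoh.depth (X.presheaf.stalk x)
        ↑(((DCoh.sheafHom F).obj G).presheaf.stalk x) : ℕ∞) : WithBot ℕ∞) := by
    intro n hn2 hnk hnd
    have h := (le_min (Nat.cast_le.2 hnk) hnd).trans (hS x)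
    rw [← WithBot.coe_natCast, WithBot.coe_le_coe] at h
    rw [← WithBot.coe_natCast, WithBot.coe_le_coe]
    exact Groth.CohTwo.HomDepth.le_depth_stalk_sheafHom hF hG x hn2 h
  rcases le_or_gt (k : WithBot ℕ∞) (Module.supportDim (X.presheaf.stalk x)
      ↑(((DCoh.sheafHom F).obj G).presheaf.stalk x)) with h | h
  · exact (min_le_left _ _).trans (key k (by omega) le_rfl (h.trans hle))
  · refine (min_le_right _ _).trans ?_
    generalize hd : Module.supportDim (X.presheaf.stalk x)
      ↑(((DCoh.sheafHom F).obj G).presheaf.stalk x) = d at h hle ⊢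
    induction d using WithBot.recBotCoe with
    | bot => exact bot_le
    | coe d =>
      rw [← WithBot.coe_natCast, WithBot.coe_lt_coe] at h
      obtain ⟨m, rfl⟩ := WithTop.ne_top_iff_exists.1 h.ne_top
      have hm : m < k := ENat.natCast_lt_natCast.1 h
      exact key m (by omega) hm.le ((WithBot.coe_natCast (α := ℕ∞) m).symm.trans_le hle)

end Groth.Agent.S9529
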