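import Groth.Statements.S9531
import Groth.Agent.MiscGeom.AlgzPro
import Groth.Agent.MiscGeom.AlgzCounit
import Groth.Agent.MiscGeom.AlgzTilde
import Groth.Agent.CohC3.QuotSections
import Groth.Agent.QCohMod.QCQS
-- import your own Groth.Agent.* helpers here

set_option autoImplicit false
universe u
open CategoryTheory CategoryTheory.Limits AlgebraicGeometry Opposite
open Algz

namespace Groth.Agent.S9531

/-- Let A be a Noetherian ring, I ⊆ 𝔞 ideals, U = Spec A ∖ V(𝔞), and take (F_n) in Coh(U, I O_U).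
Suppose (F_n) extends canonically to Spec A; then (F_n) extends to Spec A: there is an object of
Coh(Spec A, I O) whose restriction to U is isomorphic to (F_n). (Spec A is regarded over itself
through the identity.) -/
theorem result (A : Type u) [CommRing A] [IsNoetherianRing A] (I 𝔞 : Ideal A) (hI𝔞 : I ≤ 𝔞)
    (G : ℕᵒᵖ ⥤ (↑(LocCoh.puncturedOpen A 𝔞) : Scheme.{u}).Modules) (hG : Formal.IsCohFormal I G)
    (h : Algz.CanonicallyExtends A I (LocCoh.puncturedOpen A 𝔞) G) :
    @Algz.Extends A _ (Spec (CommRingCat.of A)) ⟨𝟙 (Spec (CommRingCat.of A))⟩ I (LocCoh.puncturedOpen A 𝔞) G := by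
  obtain ⟨G', hG', hpro⟩ := h
  let U := LocCoh.puncturedOpen A 𝔞
  let : (Spec (CommRingCat.of A)).Over (Spec (CommRingCat.of A)) := ⟨𝟙 _⟩
  have hs := Groth.CohC3.isSys_of_isCohFormal hG'
  let R := Scheme.Modules.restrictFunctor U.ι
  have hι : U.ι ≫ ((Spec (CommRingCat.of A)) ↘ Spec (CommRingCat.of A)) =
      (U : Scheme.{u}) ↘ Spec (CommRingCat.of A) := by
    exact Category.comp_id _
  have adj : R ⊣ Scheme.Modules.pushforward U.ι := Scheme.Modules.restrictAdjunction U.ι
  have hs' : Groth.CohC3.IsSys I (G' ⋙ R) :=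
    ⟨fun n => by
      have h1 := (Groth.CohC3.isQuot_id (hs.killed n)).map_adj adj hι
      rw [R.map_id] at h1
      exact h1.killedBy,
    fun n => (hs.isQuot_succ n).map_adj adj hι⟩
  have hqc : ∀ k, IsIso ((Scheme.Modules.fromTildeΓNatTrans (R := CommRingCat.of A)).app
      ((Scheme.Modules.pushforward U.ι).obj (G.obj k))) := fun k => by
    have : (G.obj k).IsQuasicoherent := (hG.1 k.unop).1
    have hq := Groth.QCohMod.isQCoh_pushforward (M := G.obj k) U.ι
    exact @Groth.MiscGeom.AlgzTilde.isIso_fromTildeΓ_app (CommRingCat.of A) _ hq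
  obtain ⟨e⟩ : Nonempty (Algz.sectSys A U G ⋙ R ≅ G) :=
    Groth.MiscGeom.AlgzCounit.nonempty_iso G (Scheme.Modules.pushforward U.ι)
      (moduleSpecΓFunctor (R := CommRingCat.of A)) (tilde.functor (CommRingCat.of A)) R
      (Scheme.Modules.fromTildeΓNatTrans (R := CommRingCat.of A))
      (Scheme.Modules.restrictAdjunction U.ι).counit hqc (fun k => inferInstance)
  obtain ⟨i⟩ := Groth.MiscGeom.AlgzPro.nonempty_iso (Groth.CohC3.isSys_of_isCohFormal hG) hs'
    (Groth.MiscGeom.AlgzPro.isProIsomorphic_map R e hpro)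
  exact ⟨G', hG', ⟨i.symm⟩⟩

end Groth.Agent.S9531
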