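import Groth.Statements.S9532
import Groth.Agent.MiscGeom.AlgzCanon
-- import your own Groth.Agent.* helpers here

set_option autoImplicit false
universe u
open CategoryTheory CategoryTheory.Limits AlgebraicGeometry Opposite
open Algz

namespace Groth.Agent.S9532

/-- Let A be a Noetherian ring, I ⊆ 𝔞 ideals, U = Spec A ∖ V(𝔞), and let (F_n) belong to Coh(U, I O_U).
Suppose (F_n) admits a canonical extension to Spec A; then the inverse system of A-modules n ↦
H^0(U, F_n) satisfies the Mittag-Leffler condition. -/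
theorem result (A : Type u) [CommRing A] [IsNoetherianRing A] (I 𝔞 : Ideal A) (hI𝔞 : I ≤ 𝔞)
    (G : ℕᵒᵖ ⥤ (↑(LocCoh.puncturedOpen A 𝔞) : Scheme.{u}).Modules) (hG : Formal.IsCohFormal I G)
    (h : Algz.CanonicallyExtends A I (LocCoh.puncturedOpen A 𝔞) G) :
    ARSys.IsML (Algz.sectMod A (LocCoh.puncturedOpen A 𝔞) G) := by
  obtain ⟨N, hN, m, hm, hle, a, ha⟩ := Groth.MiscGeom.AlgzCanon.exists_modSys h
  exact Groth.MiscGeom.AlgzSys.isML hle hN ha

end Groth.Agent.S9532
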