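import Groth.Statements.S9535
import Groth.Agent.MiscGeom.AlgzCanon
-- import your own Groth.Agent.* helpers here

set_option autoImplicit false
universe u
open CategoryTheory CategoryTheory.Limits AlgebraicGeometry Opposite
open Algz

namespace Groth.Agent.S9535

/-- (6) ⇒ (2): Let A be a Noetherian ring complete for the I-adic topology, I ⊆ 𝔞 ideals, U = Spec A ∖
V(𝔞) and (F_n) an object of Coh(U, I O_U). If (F_n) extends to Spec A, then (F_n) is isomorphic to
the completion of a coherent O_U-module. -/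
theorem result (A : Type u) [CommRing A] [IsNoetherianRing A] (I 𝔞 : Ideal A) (hI𝔞 : I ≤ 𝔞)
    (G : ℕᵒᵖ ⥤ (↑(LocCoh.puncturedOpen A 𝔞) : Scheme.{u}).Modules) (hG : Formal.IsCohFormal I G) [IsAdicComplete I A]
    (h : @Algz.Extends A _ (Spec (CommRingCat.of A)) ⟨𝟙 (Spec (CommRingCat.of A))⟩ I (LocCoh.puncturedOpen A 𝔞) G) :
    ∃ F : (↑(LocCoh.puncturedOpen A 𝔞) : Scheme.{u}).Modules, Coh.IsCoh F ∧ Nonempty (Formal.completion I F ≅ G) := by
  letI : (Spec (CommRingCat.of A)).Over (Spec (CommRingCat.of A)) := ⟨𝟙 _⟩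
  obtain ⟨G', hG', ⟨e⟩⟩ := h
  let U := LocCoh.puncturedOpen A 𝔞
  let R := Scheme.Modules.restrictFunctor U.ι
  let T := tilde.functor (CommRingCat.of A)
  let N := G' ⋙ moduleSpecΓFunctor (R := CommRingCat.of A)
  have hN : Groth.MiscGeom.AlgzSheaf.IsModSys I N := Groth.MiscGeom.AlgzSheaf.isModSys_gamma hG'
  obtain ⟨L, π, hL, hπ'⟩ := Groth.MiscGeom.AlgzSys.exists_finite_lim (IsNoetherian.noetherian I) hN
  let M := T.obj L
  have hM : Coh.IsCoh M := Groth.MiscGeom.AlgzSheaf.isCoh_tilde _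
  have hcoh : ∀ n, Coh.IsCoh (T.obj (N.obj (op n))) := fun n =>
    have := hN.finite n; Groth.MiscGeom.AlgzSheaf.isCoh_tilde _
  have hc : ∀ n, IsIso ((Scheme.Modules.fromTildeΓNatTrans (R := CommRingCat.of A)).app
      (G'.obj (op n))) := fun n =>
    @Groth.MiscGeom.AlgzTilde.isIso_fromTildeΓ_app (CommRingCat.of A) _ (hG'.1 n).1
  let p : ∀ n, M ⟶ G'.obj (op n) := fun n =>
    T.map (π n) ≫ (Scheme.Modules.fromTildeΓNatTrans (R := CommRingCat.of A)).app (G'.obj (op n))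
  have hp : ∀ n, Groth.CohC3.IsQuot (I ^ (n + 1)) (p n) := fun n =>
    haveI := hc n
    (@Groth.MiscGeom.AlgzSheaf.isQuot_of_gMap _ _ _ _ _ hM.1 (hcoh n).1 (T.map (π n))
      (Groth.MiscGeom.AlgzSheaf.gMap_tilde_surjective _ (hπ' n).1)
      (Groth.MiscGeom.AlgzSheaf.ker_gMap_tilde _ (hπ' n).2.1)).comp_iso _
  have hπ : ∀ n, π (n + 1) ≫ N.map (homOfLE (Nat.le_succ n)).op = π n := fun n => (hπ' n).2.2
  have hcomm : ∀ n, p (n + 1) ≫ Groth.CohC3.sysMap G' (Nat.le_succ n) = p n := fun n =>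
    (Category.assoc _ _ _).trans ((congrArg (T.map (π (n + 1)) ≫ ·)
      ((Scheme.Modules.fromTildeΓNatTrans (R := CommRingCat.of A)).naturality
        (Groth.CohC3.sysMap G' (Nat.le_succ n))).symm).trans ((Category.assoc _ _ _).symm.trans
      (congrArg (· ≫ _) ((T.map_comp _ _).symm.trans (congrArg T.map (hπ n))))))
  have hι : U.ι ≫ ((Spec (CommRingCat.of A)) ↘ Spec (CommRingCat.of A)) =
      (U : Scheme.{u}) ↘ Spec (CommRingCat.of A) := Category.comp_id _
  have adj : R ⊣ Scheme.Modules.pushforward U.ι := Scheme.Modules.restrictAdjunction U.ι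
  obtain ⟨e'⟩ := Groth.CohC3.nonempty_completion_iso I (R.obj M) (G' ⋙ R)
    (fun n => R.map (p n)) (fun n => (hp n).map_adj adj hι)
    (fun n => (R.map_comp _ _).symm.trans (congrArg R.map (hcomm n)))
  exact ⟨R.obj M, Groth.RefRank.isCoh_restrict hM _, ⟨e' ≪≫ e⟩⟩

end Groth.Agent.S9535
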