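import Groth.Statements.S9536
import Groth.Agent.MiscGeom.AlgzCanon
import Groth.Agent.CohC3.ModIdeal
-- import your own Groth.Agent.* helpers here

set_option autoImplicit false
universe u
open CategoryTheory CategoryTheory.Limits AlgebraicGeometry Opposite
open Algz

namespace Groth.Agent.S9536

/-- (2) ⇒ (6): Let A be a Noetherian ring, I ⊆ 𝔞 ideals, U = Spec A ∖ V(𝔞) and (F_n) an object of Coh(U,
I O_U). If (F_n) is isomorphic to the completion of a coherent O_U-module, then (F_n) extends to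
Spec A. -/
theorem result (A : Type u) [CommRing A] [IsNoetherianRing A] (I 𝔞 : Ideal A) (hI𝔞 : I ≤ 𝔞)
    (G : ℕᵒᵖ ⥤ (↑(LocCoh.puncturedOpen A 𝔞) : Scheme.{u}).Modules) (hG : Formal.IsCohFormal I G)
    (F : (↑(LocCoh.puncturedOpen A 𝔞) : Scheme.{u}).Modules) (hF : Coh.IsCoh F) (e : Formal.completion I F ≅ G) :
    @Algz.Extends A _ (Spec (CommRingCat.of A)) ⟨𝟙 (Spec (CommRingCat.of A))⟩ I (LocCoh.puncturedOpen A 𝔞) G := by
  letI : (Spec (CommRingCat.of A)).Over (Spec (CommRingCat.of A)) := ⟨𝟙 _⟩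
  let U := LocCoh.puncturedOpen A 𝔞
  let R := Scheme.Modules.restrictFunctor U.ι
  obtain ⟨M, _, _, hM, ⟨eF⟩⟩ := (Groth.Agent.S2269.result A U F).1 hF
  let T := tilde (R := CommRingCat.of A) (ModuleCat.of A M)
  have hT : Coh.IsCoh T := Groth.MiscGeom.AlgzSheaf.isCoh_tilde (ModuleCat.of A M)
  have hs := Groth.CohC3.isSys_completion I T
  have hι : U.ι ≫ ((Spec (CommRingCat.of A)) ↘ Spec (CommRingCat.of A)) =
      (U : Scheme.{u}) ↘ Spec (CommRingCat.of A) := Category.comp_id _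
  have adj : R ⊣ Scheme.Modules.pushforward U.ι := Scheme.Modules.restrictAdjunction U.ι
  obtain ⟨e'⟩ := Groth.CohC3.nonempty_completion_iso I F (Formal.completion I T ⋙ R)
    (fun n => eF.hom ≫ R.map (Formal.modPowπ I (n + 1) T))
    (fun n => ((Groth.CohC3.isQuot_modPowπ I (n + 1) T).map_adj adj hι).iso_comp eF.hom)
    (fun n => (Category.assoc _ _ _).trans (congrArg (eF.hom ≫ ·)
      ((R.map_comp _ _).symm.trans (congrArg R.map (Groth.CohC3.modPowπ_sysMap_succ I T n)))))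
  exact ⟨Formal.completion I T, ⟨fun n => Groth.CohC3.isCoh_modPow' hT I (n + 1), hs.killed,
    fun n => (hs.isQuot_succ n).isIso_desc⟩, ⟨e'.symm ≪≫ e⟩⟩

end Groth.Agent.S9536
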