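import Groth.Statements.S9539
import Groth.Agent.MiscGeom.AlgzDesc
import Groth.Agent.Calg1.Completion
-- import your own Groth.Agent.* helpers here

set_option autoImplicit false
universe u
open CategoryTheory CategoryTheory.Limits AlgebraicGeometry Opposite
open Algz

namespace Groth.Agent.S9539

/-- Let A be a Noetherian ring, I ⊆ 𝔞 ideals, U = Spec A ∖ V(𝔞), (F_n) an object of Coh(U, I O_U); let
A' be the I-adic completion of A, f : Spec A' → Spec A and U' the inverse image of U. Then (F_n)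
extends to Spec A if and only if the pullback of (F_n) to U' is isomorphic to the completion, for
the ideal I A', of a coherent O_{U'}-module. -/
theorem result (A : Type u) [CommRing A] [IsNoetherianRing A] (I 𝔞 : Ideal A) (hI𝔞 : I ≤ 𝔞)
    (G : ℕᵒᵖ ⥤ (↑(LocCoh.puncturedOpen A 𝔞) : Scheme.{u}).Modules) (hG : Formal.IsCohFormal I G) :
    @Algz.Extends A _ (Spec (CommRingCat.of A)) ⟨𝟙 (Spec (CommRingCat.of A))⟩ I (LocCoh.puncturedOpen A 𝔞) G ↔
      ∃ F' : (↑(Spec.map (CommRingCat.ofHom (algebraMap A (AdicCompletion I A))) ⁻¹ᵁ (LocCoh.puncturedOpen A 𝔞)) : Scheme.{u}).Modules, Coh.IsCoh F' ∧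
        Nonempty (Formal.completion (I.map (algebraMap A (AdicCompletion I A))) F' ≅
          G ⋙ Scheme.Modules.pullback (morphismRestrict (Spec.map (CommRingCat.ofHom (algebraMap A (AdicCompletion I A)))) (LocCoh.puncturedOpen A 𝔞))) := by
  let B := AdicCompletion I A
  haveI : IsNoetherianRing B := Groth.Calg1.isNoetherianRing_adicCompletion I (IsNoetherian.noetherian I)
  haveI : IsAdicComplete (I.map (algebraMap A B)) B :=
    Groth.AdicLinTop.CompletionQuot.isAdicComplete_map I (IsNoetherian.noetherian I)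
  haveI : Module.Flat A B := AdicCompletion.flat_of_isNoetherian I
  let U := LocCoh.puncturedOpen A 𝔞
  let g := Spec.map (CommRingCat.ofHom (algebraMap A B))
  haveI : Flat g := by
    rw [HasRingHomProperty.Spec_iff (P := @Flat)]
    exact RingHom.flat_algebraMap_iff.2 ‹_›
  have hφ := Groth.MiscGeom.AlgzDesc.cond_adicCompletion (A := A) I
  have hqG : ∀ k, (G.obj k).IsQuasicoherent := fun k => (hG.1 k.unop).1
  constructor
  · rintro ⟨G0, hG0, ⟨e⟩⟩
    have h0 : @Formal.IsCohFormal B _ (Spec (CommRingCat.of B)) ⟨𝟙 _⟩ (I.map (algebraMap A B))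
        (G0 ⋙ Scheme.Modules.pullback g) :=
      @Groth.MiscGeom.AlgzPull.isCohFormal_pullback A B _ _ (algebraMap A B) _ _ ⟨𝟙 _⟩ ⟨𝟙 _⟩ g
        ((Category.comp_id _).trans (Category.id_comp _).symm) I G0 hG0
    exact Groth.MiscGeom.AlgzDesc.exists_completion_iso (I.map (algebraMap A B)) (g ⁻¹ᵁ U) _
      ⟨_, h0, ⟨Functor.associator _ _ _ ≪≫
        Functor.isoWhiskerLeft G0 (Groth.MiscGeom.AlgzDesc.restrictPullIso U g).symm ≪≫
        (Functor.associator _ _ _).symm ≪≫ Functor.isoWhiskerRight e (Scheme.Modules.pullback (morphismRestrict g U))⟩⟩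
  · rintro ⟨F', hF', ⟨e⟩⟩
    obtain ⟨C, hC, ⟨eC⟩⟩ := Groth.MiscGeom.AlgzDesc.extends_completion (I.map (algebraMap A B)) (g ⁻¹ᵁ U) hF'
    obtain ⟨G0, hG0, ⟨e0⟩⟩ := Groth.MiscGeom.AlgzDesc.exists_cohFormal_pullback_iso hφ hC
    have hq0 : ∀ k, ((G0 ⋙ Scheme.Modules.restrictFunctor U.ι).obj k).IsQuasicoherent := fun k =>
      have := (hG0.1 k.unop).1
      Scheme.Modules.isQuasicoherent_restrictFunctor U.ι (G0.obj k)
    have hk0 : ∀ n, Formal.KilledBy (I ^ (n + 1)) ((G0 ⋙ Scheme.Modules.restrictFunctor U.ι).obj (op n)) := fun n => by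
      letI : (Spec (CommRingCat.of A)).Over (Spec (CommRingCat.of A)) := ⟨𝟙 _⟩
      have h1 := (Groth.CohC3.isQuot_id (hG0.2.1 n)).map_adj (Scheme.Modules.restrictAdjunction U.ι)
        (Category.comp_id _)
      rw [CategoryTheory.Functor.map_id] at h1
      exact h1.killedBy
    obtain ⟨i⟩ := Groth.MiscGeom.AlgzDesc.nonempty_iso_of_pullback hφ U hq0 hqG hk0 hG.2.1
      (Functor.associator _ _ _ ≪≫ Functor.isoWhiskerLeft G0 (Groth.MiscGeom.AlgzDesc.restrictPullIso U g) ≪≫
        (Functor.associator _ _ _).symm ≪≫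
        Functor.isoWhiskerRight e0 (Scheme.Modules.restrictFunctor (g ⁻¹ᵁ U).ι) ≪≫ eC ≪≫ e)
    exact ⟨G0, hG0, ⟨i⟩⟩

end Groth.Agent.S9539
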