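import Groth.Statements.S9537
import Groth.Agent.MiscGeom.AlgzKill
import Groth.Agent.Calg1.Completion
import Groth.Agent.S9539
import Groth.Agent.S0829
import Groth.Agent.S0851
-- import your own Groth.Agent.* helpers here

set_option autoImplicit false
universe u
open CategoryTheory CategoryTheory.Limits AlgebraicGeometry Opposite
open Algz

namespace Groth.Agent.S9537

/-- Let A be a Noetherian ring, I ⊆ 𝔞 ideals, U = Spec A ∖ V(𝔞), and α a morphism between objects (F_n),
(F'_n) of Coh(U, I O_U) such that one fixed power of I kills the kernel and the cokernel of every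
component of α. Then (F_n) extends to Spec A if and only if (F'_n) does. (Part (2), the same
equivalence for being the completion of a coherent module, is the content of the two existence
results for maps into and out of a completion and is not restated.) -/
theorem result (A : Type u) [CommRing A] [IsNoetherianRing A] (I 𝔞 : Ideal A) (hI𝔞 : I ≤ 𝔞)
    (G G' : ℕᵒᵖ ⥤ (↑(LocCoh.puncturedOpen A 𝔞) : Scheme.{u}).Modules) (hG : Formal.IsCohFormal I G) (hG' : Formal.IsCohFormal I G')
    (α : G ⟶ G') (hα : Formal2.KerCokerKilledByIPow I α) :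
    @Algz.Extends A _ (Spec (CommRingCat.of A)) ⟨𝟙 (Spec (CommRingCat.of A))⟩ I (LocCoh.puncturedOpen A 𝔞) G ↔ @Algz.Extends A _ (Spec (CommRingCat.of A)) ⟨𝟙 (Spec (CommRingCat.of A))⟩ I (LocCoh.puncturedOpen A 𝔞) G' := by
  let B := AdicCompletion I A
  haveI : IsNoetherianRing B := Groth.Calg1.isNoetherianRing_adicCompletion I (IsNoetherian.noetherian I)
  let U := LocCoh.puncturedOpen A 𝔞
  let g := Spec.map (CommRingCat.ofHom (algebraMap A B))
  let P := Scheme.Modules.pullback (morphismRestrict g U)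
  have hg : morphismRestrict g U ≫ ((U : Scheme.{u}) ↘ Spec (CommRingCat.of A)) =
      ((g ⁻¹ᵁ U : Scheme.{u}) ↘ Spec (CommRingCat.of B)) ≫ g := morphismRestrict_ι g U
  haveI : IsNoetherian (g ⁻¹ᵁ U : Scheme.{u}) := by
    haveI : IsLocallyNoetherian (g ⁻¹ᵁ U : Scheme.{u}) := isLocallyNoetherian_of_isOpenImmersion (g ⁻¹ᵁ U).ι
    haveI : CompactSpace (g ⁻¹ᵁ U : Scheme.{u}) :=
      isCompact_iff_compactSpace.mp (TopologicalSpace.NoetherianSpace.isCompact _)
    constructor
  have hP : ∀ K : ℕᵒᵖ ⥤ (U : Scheme.{u}).Modules, Formal.IsCohFormal I K →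
      Formal.IsCohFormal (I.map (algebraMap A B)) (K ⋙ P) := fun K hK =>
    Groth.MiscGeom.AlgzPull.isCohFormal_pullback (algebraMap A B) (morphismRestrict g U) hg hK
  have hk := Groth.MiscGeom.AlgzKill.kerCokerKilled_pullback (algebraMap A B) (morphismRestrict g U) hg α hα
  obtain ⟨t, ht⟩ := hk
  rw [Groth.Agent.S9539.result A I 𝔞 hI𝔞 G hG, Groth.Agent.S9539.result A I 𝔞 hI𝔞 G' hG']
  constructor
  · rintro ⟨F, hF, ⟨e⟩⟩
    have hk' : Formal2.KerCokerKilledByIPow (I.map (algebraMap A B)) (e.hom ≫ Functor.whiskerRight α P) :=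
      ⟨t, fun n => ⟨Groth.CohC3.killedBy_of_mono
          (kernelIsIsoComp (e.hom.app (op n)) ((Functor.whiskerRight α P).app (op n))).hom (ht n).1,
        Groth.CohC3.killedBy_of_mono
          (cokernelEpiComp (e.hom.app (op n)) ((Functor.whiskerRight α P).app (op n))).hom (ht n).2⟩⟩
    obtain ⟨F', -, β, hF', -, -⟩ := Groth.Agent.S0851.result B (I.map (algebraMap A B)) _ F hF (G' ⋙ P)
      (hP G' hG') (e.hom ≫ Functor.whiskerRight α P) hk'
    exact ⟨F', hF', ⟨β⟩⟩
  · rintro ⟨F, hF, ⟨e⟩⟩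
    have hk' : Formal2.KerCokerKilledByIPow (I.map (algebraMap A B)) (Functor.whiskerRight α P ≫ e.inv) :=
      ⟨t, fun n => ⟨Groth.CohC3.killedBy_of_mono
          (kernelCompMono ((Functor.whiskerRight α P).app (op n)) (e.inv.app (op n))).hom (ht n).1,
        Groth.CohC3.killedBy_of_mono
          (cokernelCompIsIso ((Functor.whiskerRight α P).app (op n)) (e.inv.app (op n))).hom (ht n).2⟩⟩
    obtain ⟨F', -, β, hF', -, -⟩ := Groth.Agent.S0829.result B (I.map (algebraMap A B)) _ F hF (G ⋙ P)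
      (hP G hG) (Functor.whiskerRight α P ≫ e.inv) hk'
    exact ⟨F', hF', ⟨β.symm⟩⟩

end Groth.Agent.S9537
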