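import Groth.Statements.S9538
import Groth.Agent.MiscGeom.AlgzPull
-- import your own Groth.Agent.* helpers here

set_option autoImplicit false
universe u
open CategoryTheory CategoryTheory.Limits AlgebraicGeometry Opposite
open Algz

namespace Groth.Agent.S9538

/-- Let A be a Noetherian ring, I ⊆ 𝔞 ideals, U = Spec A ∖ V(𝔞), (F_n) an object of Coh(U, I O_U), A →
A' a flat ring map with f : Spec A' → Spec A, U' the inverse image of U, and (F'_n) the pullback of
(F_n) along the restriction of f over U. If (F_n) canonically extends to Spec A, then (F'_n)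
canonically extends to Spec A' for the ideal I A'. (The second assertion, that the canonical
extension pulls back to the canonical extension, is not stated.) -/
theorem result (A : Type u) [CommRing A] [IsNoetherianRing A] (I 𝔞 : Ideal A) (hI𝔞 : I ≤ 𝔞)
    (G : ℕᵒᵖ ⥤ (↑(LocCoh.puncturedOpen A 𝔞) : Scheme.{u}).Modules) (hG : Formal.IsCohFormal I G)
    (A' : Type u) [CommRing A'] [Algebra A A'] [Module.Flat A A']
    (h : Algz.CanonicallyExtends A I (LocCoh.puncturedOpen A 𝔞) G) :
    Algz.CanonicallyExtends A' (I.map (algebraMap A A')) (Spec.map (CommRingCat.ofHom (algebraMap A A')) ⁻¹ᵁ (LocCoh.puncturedOpen A 𝔞))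
      (G ⋙ Scheme.Modules.pullback (morphismRestrict (Spec.map (CommRingCat.ofHom (algebraMap A A'))) (LocCoh.puncturedOpen A 𝔞))) := by
  obtain ⟨G0, hG0, hp⟩ := h
  let U := LocCoh.puncturedOpen A 𝔞
  let g := Spec.map (CommRingCat.ofHom (algebraMap A A'))
  let G' := G ⋙ Scheme.Modules.pullback (morphismRestrict g U)
  have hflat : Flat g := by
    rw [HasRingHomProperty.Spec_iff (P := @Flat)]
    exact RingHom.flat_algebraMap_iff.2 ‹_›
  have hq : ∀ k, (G.obj k).IsQuasicoherent := fun k => (hG.1 k.unop).1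
  have hqS : ∀ k, ((G ⋙ Scheme.Modules.pushforward U.ι).obj k).IsQuasicoherent := fun k => by
    have := hq k
    exact Groth.QCohMod.isQCoh_pushforward (M := G.obj k) U.ι
  have hsq : IsPullback (morphismRestrict g U) (g ⁻¹ᵁ U).ι U.ι g := (isPullback_morphismRestrict g U)
  haveI : QuasiCompact (g ⁻¹ᵁ U).ι := MorphismProperty.of_isPullback hsq (inferInstance : QuasiCompact U.ι)
  obtain ⟨e1⟩ := Groth.MiscGeom.AlgzPull.nonempty_gamma_tilde_iso (R := CommRingCat.of A)
    (G ⋙ Scheme.Modules.pushforward U.ι) hqS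
  obtain ⟨e2⟩ := Groth.MiscGeom.AlgzPull.nonempty_iso_push_pull U.ι g (morphismRestrict g U) (g ⁻¹ᵁ U).ι hsq G hq
  have hqS' : ∀ k, ((G' ⋙ Scheme.Modules.pushforward (g ⁻¹ᵁ U).ι).obj k).IsQuasicoherent := fun k => by
    have := hq k
    have : (G'.obj k).IsQuasicoherent := Groth.QCohMod.isQCoh_pullback_obj (morphismRestrict g U) (G.obj k)
    exact Groth.QCohMod.isQCoh_pushforward (M := G'.obj k) (g ⁻¹ᵁ U).ι
  obtain ⟨e3⟩ := Groth.MiscGeom.AlgzPull.nonempty_gamma_tilde_iso (R := CommRingCat.of A')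
    (G' ⋙ Scheme.Modules.pushforward (g ⁻¹ᵁ U).ι) hqS'
  let e : Algz.sectSys A U G ⋙ Scheme.Modules.pullback g ≅ Algz.sectSys A' (g ⁻¹ᵁ U) G' :=
    Functor.isoWhiskerRight e1 (Scheme.Modules.pullback g) ≪≫ e2 ≪≫ e3.symm
  refine ⟨G0 ⋙ Scheme.Modules.pullback g, ?_,
    Groth.MiscGeom.AlgzPro.isProIsomorphic_map (Scheme.Modules.pullback g) e hp⟩
  exact @Groth.MiscGeom.AlgzPull.isCohFormal_pullback A A' _ _ (algebraMap A A') _ _ ⟨𝟙 _⟩ ⟨𝟙 _⟩ g
    ((Category.comp_id _).trans (Category.id_comp _).symm) I G0 hG0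

end Groth.Agent.S9538
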