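import Groth.Statements.S9553
import Groth.Agent.MiscGeom.AlgzLoc
import Groth.Agent.MiscGeom.AlgzSys
-- import your own Groth.Agent.* helpers here

set_option autoImplicit false
universe u
open CategoryTheory CategoryTheory.Limits AlgebraicGeometry Opposite
open Algz

namespace Groth.Agent.S9553

/-- Let A be a Noetherian ring, I ⊆ 𝔞 ideals, U = Spec A ∖ V(𝔞) with inclusion j, (F_n) an object of
Coh(U, I O_U), M = lim_n H^0(U, F_n) and G_n = (M/I^(n+1)M)~ (positions shifted by one). Assume the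
limit topology of M agrees with the I-adic one: for every k some kernel of M → H^0(U, F_n) lies in
I^k M. Let ℓ_n : M/I^(n+1)M → H^0(U, F_n) = Γ(Spec A, j_*F_n) be the factorisations of the
projections (they exist since F_n is killed by I^(n+1); they are pinned here by that property) and
G_n → j_*F_n the adjoint maps. Then (i) each G_n|_U is coherent, and (ii) the resulting morphism
(G_n|_U) → (F_n) of inverse systems is a monomorphism in Coh(U, I O_U) (an abelian category), in the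
form the printed proof establishes: for every f ∈ 𝔞, a family of sections of the G_n over D(f),
compatible under the transition maps, whose images in the Γ(D(f), j_*F_n) = Γ(D(f) ∩ U, F_n) all
vanish, is zero. -/
theorem result (A : Type u) [CommRing A] [IsNoetherianRing A] (I 𝔞 : Ideal A) (hI𝔞 : I ≤ 𝔞)
    (G : ℕᵒᵖ ⥤ (↑(LocCoh.puncturedOpen A 𝔞) : Scheme.{u}).Modules) (hG : Formal.IsCohFormal I G)
    (hb : ∀ k : ℕ, ∃ n : ℕ, LinearMap.ker (limit.π (Algz.sectMod A (LocCoh.puncturedOpen A 𝔞) G) (op n)).hom ≤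
      I ^ k • (⊤ : Submodule A ↑(limit (Algz.sectMod A (LocCoh.puncturedOpen A 𝔞) G))))
    (ℓ : ∀ n : ℕ, ModuleCat.of A (Formal2.quotPow A I ↑(limit (Algz.sectMod A (LocCoh.puncturedOpen A 𝔞) G)) n) ⟶ (Algz.sectMod A (LocCoh.puncturedOpen A 𝔞) G).obj (op n))
    (hℓ : ∀ n : ℕ, ModuleCat.ofHom (Formal2.quotPowπ A I ↑(limit (Algz.sectMod A (LocCoh.puncturedOpen A 𝔞) G)) n) ≫ ℓ n = limit.π (Algz.sectMod A (LocCoh.puncturedOpen A 𝔞) G) (op n)) :
    (∀ n : ℕ, Coh.IsCoh ((Scheme.Modules.restrictFunctor (LocCoh.puncturedOpen A 𝔞).ι).obj (Formal2.tmod A (Formal2.quotPow A I ↑(limit (Algz.sectMod A (LocCoh.puncturedOpen A 𝔞) G)) n)))) ∧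
    ∀ (f : A), f ∈ 𝔞 →
      ∀ x : (∀ n : ℕ, (Scheme.Modules.presheaf (Formal2.tmod A (Formal2.quotPow A I ↑(limit (Algz.sectMod A (LocCoh.puncturedOpen A 𝔞) G)) n))).obj (op (PrimeSpectrum.basicOpen f : (Spec (CommRingCat.of A)).Opens))),
        (∀ n : ℕ, Scheme.Modules.Hom.app (Formal2.tmodMap A (Formal2.quotPowTrans A I ↑(limit (Algz.sectMod A (LocCoh.puncturedOpen A 𝔞) G)) n)) (PrimeSpectrum.basicOpen f : (Spec (CommRingCat.of A)).Opens) (x (n + 1)) = x n) →
        (∀ n : ℕ, Scheme.Modules.Hom.app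
            (((tilde.adjunction (R := CommRingCat.of A)).homEquiv (ModuleCat.of A (Formal2.quotPow A I ↑(limit (Algz.sectMod A (LocCoh.puncturedOpen A 𝔞) G)) n))
              ((Scheme.Modules.pushforward (LocCoh.puncturedOpen A 𝔞).ι).obj (G.obj (op n)))).symm (ℓ n))
            (PrimeSpectrum.basicOpen f : (Spec (CommRingCat.of A)).Opens) (x n) = 0) →
        ∀ n : ℕ, x n = 0 := by
  let U := LocCoh.puncturedOpen A 𝔞
  let X := Algz.sectMod A U G
  let L := (limit X : ModuleCat.{u} A)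
  have hp : ∀ n, ∃ p, n ≤ p ∧
      LinearMap.ker (limit.π X (op p)).hom ≤ I ^ (n + 1) • (⊤ : Submodule A L) := fun n => by
    obtain ⟨p, hp⟩ := hb (n + 1)
    refine ⟨max n p, le_max_left _ _, fun x hx => hp ?_⟩
    rw [LinearMap.mem_ker] at hx ⊢
    rw [← Groth.MiscGeom.AlgzSys.limit_π_tr (le_max_right n p), hx, map_zero]
  refine ⟨fun n => ?_, fun f hf x hxc hx0 n => ?_⟩
  · obtain ⟨p, -, hp⟩ := hp n
    obtain ⟨W, g, q, hg, hq⟩ := Groth.MiscGeom.AlgzSys.exists_image_quot (limit.π X (op p)) _ hp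
    exact Groth.MiscGeom.AlgzLoc.isCoh_restrict_tilde (R := CommRingCat.of A) U (hG.1 p) (W := W) g hg q hq
  obtain ⟨p, hnp, hp⟩ := hp n
  have hqc : ((Scheme.Modules.pushforward U.ι).obj (G.obj (op p))).IsQuasicoherent := by
    have := (hG.1 p).1
    exact Groth.QCohMod.isQCoh_pushforward (M := G.obj (op p)) U.ι
  refine Groth.MiscGeom.AlgzLoc.eq_zero_of_compatible (R := CommRingCat.of A)
    (Q := fun i => ModuleCat.of A (Formal2.quotPow A I L i))
    (fun i => ModuleCat.ofHom (Formal2.quotPowTrans A I L i)) f x hxc hnp hqc (ℓ p) (hx0 p)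
    (fun q => ?_) (fun z hz t ht => ?_)
  · obtain ⟨y, rfl⟩ := Submodule.mkQ_surjective _ q
    exact ⟨fun i => (I ^ (i + 1) • (⊤ : Submodule A L)).mkQ y, rfl, fun i => rfl⟩
  · obtain ⟨y, hy⟩ := Submodule.mkQ_surjective _ (z p)
    have hzi : ∀ i, i ≤ p → z i = (I ^ (i + 1) • (⊤ : Submodule A L)).mkQ y := by
      intro i hi
      induction hi using Nat.decreasingInduction with
      | of_succ k hk ih => rw [← hz k, ih]; rfl
      | self => exact hy.symm
    have e : (ℓ p).hom ((I ^ (p + 1) • (⊤ : Submodule A L)).mkQ (f ^ t • y)) = 0 := by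
      rw [LinearMap.map_smul, hy, LinearMap.map_smul]
      exact ht
    have hmem : f ^ t • y ∈ I ^ (n + 1) • (⊤ : Submodule A L) := hp (by
      rw [LinearMap.mem_ker]
      exact (LinearMap.congr_fun (congrArg ModuleCat.Hom.hom (hℓ p)) (f ^ t • y)).symm.trans e)
    show f ^ t • z n = 0
    rw [hzi n hnp]
    exact ((I ^ (n + 1) • (⊤ : Submodule A L)).mkQ.map_smul _ _).symm.trans
      ((Submodule.Quotient.mk_eq_zero _).2 hmem)

end Groth.Agent.S9553
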