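import Groth.Statements.S9559
import Groth.Agent.Flatmor4.UnramifiedSplit
import Groth.Agent.S9558

set_option autoImplicit false
open CategoryTheory CategoryTheory.Limits AlgebraicGeometry Opposite
universe u
open EtLocal

namespace Groth.Agent.S9559

/-- A finite étale morphism f : X ⟶ S becomes, after base change to a suitable étale neighbourhood (U,
u) of any point s of S, a finite disjoint union of copies of U: X_U is isomorphic over U to a finite
coproduct of schemes V_j each of which maps isomorphically onto U. -/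
theorem result {X S : Scheme.{u}} (f : X ⟶ S) [IsFinite f] [Etale f] (s : S) :
    ∃ (U : Scheme.{u}) (g : U ⟶ S) (_ : AlgebraicGeometry.Etale g) (u : U) (_ : g.base u = s)
      (n : ℕ) (V : Fin n → Scheme.{u}) (c : ∀ j, V j ⟶ U) (_ : ∀ j, IsIso (c j))
      (e : (∐ V) ≅ pullback f g), ∀ j, Sigma.ι V j ≫ e.hom ≫ pullback.snd f g = c j := by
  obtain ⟨n₀, ⟨e₀⟩⟩ := Finite.exists_equiv_fin (f ⁻¹' {s} : Set X)
    (h := (f.finite_preimage_singleton s).to_subtype)
  let x : Fin n₀ → X := fun i => (e₀.symm i).1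
  obtain ⟨U, g, u, hg, hgu, K, hK, W, V, hcov, hWV, hVV, hI, hW⟩ :=
    Groth.Agent.S9558.result f s x (Subtype.val_injective.comp e₀.symm.injective)
      (fun i => (e₀.symm i).2) (fun i => ⟨⊤, trivial, inferInstance⟩)
  have hWc : IsClosed (W : Set ↑(pullback f g)) := by
    have : (W : Set ↑(pullback f g)) = ((⨆ k, V k : (pullback f g).Opens) : Set ↑(pullback f g))ᶜ := by
      ext z
      constructor
      · intro hz hz'
        obtain ⟨k, hk⟩ := TopologicalSpace.Opens.mem_iSup.mp hz'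
        exact (hWV k).le_bot (x := z) ⟨hz, hk⟩
      · intro hz
        rcases (hcov.ge (Set.mem_univ z) : z ∈ W ⊔ ⨆ k, V k) with h | h
        · exact h
        · exact absurd h hz
    rw [this]
    exact (⨆ k, V k : (pullback f g).Opens).2.isClosed_compl
  let O : U.Opens := ⟨(pullback.snd f g '' W)ᶜ, ((pullback.snd f g).isClosedMap _ hWc).isOpen_compl⟩
  have huO : u ∈ O := by
    rintro ⟨w, hw, hwu⟩
    have hfw : f (pullback.fst f g w) = s := by
      rw [← Scheme.Hom.comp_apply, pullback.condition, Scheme.Hom.comp_apply, hwu, hgu]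
    exact hW w (e₀ ⟨_, hfw⟩) hw hwu (by simp [x])
  let σ : pullback f (O.ι ≫ g) ⟶ pullback f g :=
    pullback.map f (O.ι ≫ g) f g (𝟙 X) O.ι (𝟙 S) (by simp) (by simp)
  have hσ : IsPullback σ (pullback.snd f (O.ι ≫ g)) (pullback.snd f g) O.ι := by
    refine .of_right (t := IsPullback.of_hasPullback f g) ?_ (pullback.lift_snd _ _ _)
    simp only [σ, pullback.lift_fst, Category.comp_id]
    exact IsPullback.of_hasPullback f _
  obtain ⟨n, ⟨e⟩⟩ := Finite.exists_equiv_fin K
  have hiso : ∀ k, IsIso ((σ ⁻¹ᵁ V k).ι ≫ pullback.snd f (O.ι ≫ g)) := fun k =>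
    MorphismProperty.of_isPullback (P := MorphismProperty.isomorphisms Scheme)
      ((isPullback_morphismRestrict σ (V k)).paste_vert hσ) (hI k)
  obtain ⟨hc⟩ := nonempty_isColimit_cofanMk_of (fun j : Fin n => (σ ⁻¹ᵁ V (e.symm j)).ι)
    (by
      rw [eq_top_iff]
      intro z _
      have hz : σ z ∉ W := fun h => (pullback.snd f (O.ι ≫ g) z).2 ⟨σ z, h, by
        rw [← Scheme.Hom.comp_apply, hσ.w]; rfl⟩
      obtain ⟨k, hk⟩ := TopologicalSpace.Opens.mem_iSup.mp
        ((hcov.ge (Set.mem_univ (σ z)) : σ z ∈ W ⊔ ⨆ k, V k).resolve_left hz)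
      refine TopologicalSpace.Opens.mem_iSup.mpr ⟨e k, ?_⟩
      simp only [Scheme.Opens.opensRange_ι, Equiv.symm_apply_apply]
      exact hk)
    (fun i j hij => by
      simp only [Function.onFun, Scheme.Opens.opensRange_ι]
      rw [disjoint_iff, ← le_bot_iff]
      rintro z ⟨hz, hz'⟩
      exact (hVV _ _ (fun h => hij (e.symm.injective h))).le_bot (x := σ z) ⟨hz, hz'⟩)
  refine ⟨O, O.ι ≫ g, inferInstance, ⟨u, huO⟩, (Scheme.Hom.comp_apply _ _ _).trans hgu, n,
    fun j => (σ ⁻¹ᵁ V (e.symm j) : Scheme.{u}),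
    fun j => (σ ⁻¹ᵁ V (e.symm j)).ι ≫ pullback.snd f (O.ι ≫ g), fun j => hiso _,
    (coproductIsCoproduct _).coconePointUniqueUpToIso hc, fun j => ?_⟩
  rw [← Category.assoc]
  congr 1
  exact (coproductIsCoproduct _).comp_coconePointUniqueUpToIso_hom hc ⟨j⟩

end Groth.Agent.S9559
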