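import Groth.Statements.S9563
import Groth.Agent.HensPair.StdLocal
import Mathlib.RingTheory.Smooth.Flat
import Mathlib.RingTheory.Flat.Localization

set_option autoImplicit false
universe u
open EtLocal

namespace Groth.Agent.S9563

/-- Let A → B be an étale homomorphism of Noetherian local rings, i.e. a local homomorphism with B
essentially of finite type and flat over A, m_A B = m_B, and residue field of B finite separable
over that of A. Then there are a standard étale A-algebra B' = A[t]_g/(f) (f monic and f' invertible
in B') and a prime 𝔮 of B' such that B is isomorphic as an A-algebra to the localization of B' at 𝔮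
(existence of an isomorphism). -/
theorem result (A B : Type u) [CommRing A] [CommRing B]
    [IsLocalRing A] [IsLocalRing B] [IsNoetherianRing A] [IsNoetherianRing B] [Algebra A B]
    [IsLocalHom (algebraMap A B)] [Algebra.EssFiniteType A B] [Module.Flat A B]
    (hm : (IsLocalRing.maximalIdeal A).map (algebraMap A B) = IsLocalRing.maximalIdeal B)
    [Module.Finite (IsLocalRing.ResidueField A) (IsLocalRing.ResidueField B)]
    [Algebra.IsSeparable (IsLocalRing.ResidueField A) (IsLocalRing.ResidueField B)] :
    ∃ (P : StandardEtalePair A) (𝔮 : Ideal P.Ring) (_ : 𝔮.IsPrime),
      Nonempty (B ≃ₐ[A] Localization.AtPrime 𝔮) := by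
  exact Groth.HensPair.exists_standardEtale_algEquiv A B hm

end Groth.Agent.S9563
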