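import Groth.Statements.S9567
import Groth.Agent.S9722

set_option autoImplicit false
universe u
open EtLocal

namespace Groth.Agent.S9567

open AlgebraicGeometry CategoryTheory in
/-- Let φ : X ⟶ Y be any morphism of schemes, x a point of X and V an affine open neighbourhood of φ(x),
with ring R = Γ(Y, V). If φ is étale on some open neighbourhood of x, then there are an affine open
neighbourhood U of x with φ(U) ⊆ V, a monic polynomial p over R and an open immersion j of U into
Spec of (R[t]/(p))[1/p′] (the localization of R[t]/(p) away from the image of the derivative of p)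
such that j followed by the projection to Spec R is the morphism U → Spec R induced by φ. -/
theorem result {X Y : Scheme.{u}} (φ : X ⟶ Y) (x : X)
    (V : Y.Opens) (hV : IsAffineOpen V) (hxV : φ.base x ∈ V)
    (hφ : ∃ W : X.Opens, x ∈ W ∧ Etale (W.ι ≫ φ)) :
    ∃ (U : X.Opens) (hU : IsAffineOpen U) (_ : x ∈ U) (e : U ≤ φ ⁻¹ᵁ V)
      (p : Polynomial Γ(Y, V)) (_ : p.Monic)
      (j : U.toScheme ⟶ Spec (CommRingCat.of (Localization.Away (AdjoinRoot.mk p (Polynomial.derivative p))))),
      IsOpenImmersion j ∧
        j ≫ Spec.map (CommRingCat.ofHom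
            (algebraMap Γ(Y, V) (Localization.Away (AdjoinRoot.mk p (Polynomial.derivative p))))) =
          hU.isoSpec.hom ≫ Spec.map (φ.appLE V U e) := by
  obtain ⟨U, hU, hxU, e, hstd⟩ := (Groth.Agent.S9722.result φ x V hV hxV).1 hφ
  let := (φ.appLE V U e).hom.toAlgebra
  have : Algebra.IsStandardEtale Γ(Y, V) Γ(X, U) := hstd
  obtain ⟨Q⟩ := Algebra.IsStandardEtale.nonempty_standardEtalePresentation (R := Γ(Y, V)) (S := Γ(X, U))
  let S := AdjoinRoot Q.P.f
  let d : S := AdjoinRoot.mk Q.P.f (Polynomial.derivative Q.P.f)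
  let g : S := AdjoinRoot.mk Q.P.f Q.P.g
  let T := Localization.Away g
  let E : Γ(X, U) ≃ₐ[Γ(Y, V)] T := Q.equivRing.trans Q.P.equivAwayAdjoinRoot
  have hd : IsUnit (algebraMap S T d) := by
    obtain ⟨p₁, p₂, n, h⟩ := Q.P.cond
    have h1 := congrArg (AdjoinRoot.mk Q.P.f) h
    simp only [map_add, map_mul, map_pow, AdjoinRoot.mk_self, zero_mul, add_zero] at h1
    have h2 : IsUnit (algebraMap S T (d * AdjoinRoot.mk Q.P.f p₁)) := by
      show IsUnit (algebraMap S T (AdjoinRoot.mk Q.P.f (Polynomial.derivative Q.P.f) * AdjoinRoot.mk Q.P.f p₁))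
      rw [h1, map_pow]
      exact (IsLocalization.Away.algebraMap_isUnit (S := T) g).pow n
    rw [map_mul] at h2
    exact isUnit_of_mul_isUnit_left h2
  let h : Localization.Away d →ₐ[S] T := IsLocalization.Away.liftAlgHom d (f := Algebra.ofId S T) hd
  let H : Localization.Away d →+* Γ(X, U) := E.symm.toAlgHom.toRingHom.comp h.toRingHom
  refine ⟨U, hU, hxU, e, Q.P.f, Q.P.monic_f, hU.isoSpec.hom ≫ Spec.map (CommRingCat.ofHom H), ?_, ?_⟩
  · have h1 : IsOpenImmersion (Spec.map (CommRingCat.ofHom h.toRingHom)) := by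
      have h3 : IsOpenImmersion (Spec.map (CommRingCat.ofHom (algebraMap S (Localization.Away d)))) :=
        IsOpenImmersion.of_isLocalization d
      have h4 : IsOpenImmersion (Spec.map (CommRingCat.ofHom h.toRingHom) ≫
          Spec.map (CommRingCat.ofHom (algebraMap S (Localization.Away d)))) := by
        rw [← Spec.map_comp, ← CommRingCat.ofHom_comp,
          show h.toRingHom.comp (algebraMap S (Localization.Away d)) = algebraMap S T from h.comp_algebraMap]
        exact IsOpenImmersion.of_isLocalization g
      exact IsOpenImmersion.of_comp _ (Spec.map (CommRingCat.ofHom (algebraMap S (Localization.Away d))))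
    have h2 : IsIso (CommRingCat.ofHom E.symm.toAlgHom.toRingHom) :=
      (ConcreteCategory.isIso_iff_bijective _).mpr E.symm.bijective
    rw [show CommRingCat.ofHom H = CommRingCat.ofHom h.toRingHom ≫ CommRingCat.ofHom E.symm.toAlgHom.toRingHom
      from rfl, Spec.map_comp]
    infer_instance
  · rw [Category.assoc, ← Spec.map_comp, ← CommRingCat.ofHom_comp]
    congr 2
    refine CommRingCat.hom_ext (RingHom.ext fun r => ?_)
    show E.symm (h (algebraMap Γ(Y, V) (Localization.Away d) r)) = algebraMap Γ(Y, V) Γ(X, U) r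
    rw [IsScalarTower.algebraMap_apply Γ(Y, V) S (Localization.Away d), h.commutes,
      ← IsScalarTower.algebraMap_apply, E.symm.commutes]

end Groth.Agent.S9567
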