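import Groth.Statements.S9568
import Mathlib.RingTheory.Kaehler.Basic
import Mathlib.Algebra.Module.LocalizedModule.Submodule

set_option autoImplicit false
universe u
open EtLocal

namespace Groth.Agent.S9568

/-- Let A be a ring, φ a surjection from the polynomial ring P = A[x_1, …, x_n] onto an A-algebra B with
kernel I, q a prime of B and 𝔮 its preimage in P. Then the localization at q of the module of
differentials Ω_{B/A} vanishes if and only if the images of the differentials dg, g ∈ I, span the
localization of Ω_{P/A} at 𝔮 over P_𝔮. (Geometrically: for f locally of finite type, the stalk of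
Ω_{X/Y} at x vanishes iff near x the scheme X is a closed subscheme of an affine space over the base
cut out by an ideal whose germs at the point have differentials generating the stalk of Ω of the
affine space; the published statement also lists the equivalence with f being unramified at x and
with the diagonal being a local isomorphism at x, which this row does not restate. The published
statement asks for one such presentation near the point; this row states the equivalence for every
presentation, which is what the published proof shows and which implies the existential form.) -/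
theorem result {A B : Type u} [CommRing A] [CommRing B]
    [Algebra A B] (n : ℕ) (φ : MvPolynomial (Fin n) A →ₐ[A] B) (hφ : Function.Surjective φ)
    (q : Ideal B) [q.IsPrime] :
    Subsingleton (LocalizedModule q.primeCompl (KaehlerDifferential A B)) ↔
      Submodule.span (Localization.AtPrime (q.comap φ.toRingHom))
        ((LocalizedModule.mkLinearMap (q.comap φ.toRingHom).primeCompl
            (KaehlerDifferential A (MvPolynomial (Fin n) A))) ''
          ((KaehlerDifferential.D A (MvPolynomial (Fin n) A)) '' (RingHom.ker φ.toRingHom : Set (MvPolynomial (Fin n) A)))) = ⊤ := by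
  classical
  let R := MvPolynomial (Fin n) A
  let _ : Algebra R B := φ.toRingHom.toAlgebra
  have : IsScalarTower A R B := IsScalarTower.of_algebraMap_eq fun a => (φ.commutes a).symm
  set 𝔮 := q.comap φ.toRingHom
  let D := KaehlerDifferential.D A R
  let π : KaehlerDifferential A R →ₗ[R] KaehlerDifferential A B := KaehlerDifferential.map A A R B
  have hπ : Function.Surjective π := KaehlerDifferential.map_surjective_of_surjective A A R B hφ
  let I : Ideal R := RingHom.ker φ.toRingHom
  let N : Submodule R (KaehlerDifferential A R) := Submodule.span R (D '' (I : Set R))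
  have hIN : ∀ x ∈ I, ∀ ω, x • ω ∈ N := by
    intro x hx ω
    have hω : ω ∈ Submodule.span R (Set.range D) := by
      rw [KaehlerDifferential.span_range_derivation]; trivial
    induction hω using Submodule.span_induction with
    | mem y hy =>
      obtain ⟨y, rfl⟩ := hy
      rw [show x • D y = D (x * y) - y • D x by rw [Derivation.leibniz]; abel]
      exact sub_mem (Submodule.subset_span ⟨_, I.mul_mem_right y hx, rfl⟩)
        (N.smul_mem _ (Submodule.subset_span ⟨x, hx, rfl⟩))
    | zero => rw [smul_zero]; exact zero_mem _
    | add y z _ _ hy hz => rw [smul_add]; exact add_mem hy hz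
    | smul a y _ hy => rw [smul_comm]; exact N.smul_mem a hy
  have hker : LinearMap.ker π = N := by
    refine le_antisymm ?_ (Submodule.span_le.2 ?_)
    · rw [KaehlerDifferential.ker_map_of_surjective A R B hφ]
      rintro _ ⟨l, hl, rfl⟩
      let σ : B → R := Function.surjInv hφ
      let ψ : R → B := algebraMap R B
      have h1 : Finsupp.linearCombination R (fun x => D x - D (σ (ψ x))) l ∈ N := by
        rw [Finsupp.linearCombination_apply]
        refine sum_mem fun x _ => N.smul_mem _ (Submodule.subset_span ⟨x - σ (ψ x), ?_, map_sub _ _ _⟩)
        show φ (x - σ (ψ x)) = 0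
        rw [map_sub, Function.surjInv_eq hφ]
        exact sub_self _
      have h2 : Finsupp.linearCombination R (fun x => D (σ (ψ x))) l ∈ N := by
        change Finsupp.linearCombination R ((fun b => D (σ b)) ∘ ψ) l ∈ N
        rw [← Finsupp.linearCombination_mapDomain, Finsupp.linearCombination_apply]
        refine sum_mem fun b _ => hIN _ ?_ _
        exact congrArg (fun L : B →₀ B => L b) (LinearMap.mem_ker.1 hl)
      have h3 := add_mem h1 h2
      have h4 : Finsupp.linearCombination R (fun x => D x - D (σ (ψ x))) l +
          Finsupp.linearCombination R (fun x => D (σ (ψ x))) l = Finsupp.linearCombination R D l := by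
        simp only [Finsupp.linearCombination_apply, smul_sub, Finsupp.sum_sub, sub_add_cancel]
      rwa [h4] at h3
    · rintro _ ⟨x, hx, rfl⟩
      rw [SetLike.mem_coe, LinearMap.mem_ker, KaehlerDifferential.map_D]
      show KaehlerDifferential.D A B (φ x) = 0
      rw [show φ x = 0 from hx, map_zero]
  rw [LocalizedModule.subsingleton_iff, show ((LocalizedModule.mkLinearMap 𝔮.primeCompl (KaehlerDifferential A R)) ''
      (D '' (RingHom.ker φ.toRingHom : Set R))) = (LocalizedModule.mkLinearMap 𝔮.primeCompl (KaehlerDifferential A R)) '' (D '' (I : Set R)) from rfl]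
  set g := LocalizedModule.mkLinearMap 𝔮.primeCompl (KaehlerDifferential A R)
  have hspan : Submodule.span (Localization.AtPrime 𝔮) (g '' (D '' (I : Set R))) =
      N.localized' (Localization.AtPrime 𝔮) 𝔮.primeCompl g :=
    (Submodule.localized'_span (Localization.AtPrime 𝔮) 𝔮.primeCompl g _).symm
  rw [hspan]
  constructor
  · intro h
    refine eq_top_iff.2 fun z _ => ?_
    obtain ⟨⟨ω, s⟩, rfl⟩ := IsLocalizedModule.mk'_surjective 𝔮.primeCompl g z
    obtain ⟨r, hr, hr0⟩ := h (π ω)
    obtain ⟨r, rfl⟩ := hφ r
    have hm : r • ω ∈ N := by
      rw [← hker, LinearMap.mem_ker, map_smul, ← algebraMap_smul B r (π ω)]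
      exact hr0
    exact ⟨r • ω, hm, (⟨r, hr⟩ : 𝔮.primeCompl) * s,
      IsLocalizedModule.mk'_cancel_left g ω (⟨r, hr⟩ : 𝔮.primeCompl) s⟩
  · intro h ω
    obtain ⟨ω, rfl⟩ := hπ ω
    have : g ω ∈ N.localized' (Localization.AtPrime 𝔮) 𝔮.primeCompl g := by rw [h]; trivial
    obtain ⟨m, hm, s, hs⟩ := this
    rw [IsLocalizedModule.mk'_eq_iff, Submonoid.smul_def, ← map_smul,
      IsLocalizedModule.eq_iff_exists 𝔮.primeCompl] at hs
    obtain ⟨c, hc⟩ := hs
    refine ⟨φ ((c : R) * s), (c * s).2, ?_⟩
    rw [← LinearMap.mem_ker.1 (hker.ge (N.smul_mem (c : R) hm))]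
    show (algebraMap R B ((c : R) * s)) • π ω = _
    rw [algebraMap_smul, ← map_smul, mul_smul]
    exact congrArg π hc.symm

end Groth.Agent.S9568
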