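import Groth.Statements.S9569
import Groth.Agent.Chow.QcohExtend
import Groth.Agent.PicAux.Powers
import Groth.Agent.PicAux.FreeBasis
import Groth.Agent.QCohMod.ExtendFP
import Groth.Agent.CohTwo.GGNhd
-- import your own Groth.Agent.* helpers here

set_option autoImplicit false
universe u
open CategoryTheory CategoryTheory.Limits AlgebraicGeometry TopologicalSpace Opposite
open Constr

namespace Groth.Agent.S9569

section
open CategoryTheory CategoryTheory.Limits AlgebraicGeometry TopologicalSpace Groth.PicAux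
open Groth.Chow (LocSpan isGloballyGenerated_of_locSpan)
set_option backward.isDefEq.respectTransparency.types false

lemma tmulSec_sum_left {X : Scheme.{u}} {A B : X.Modules} {W : X.Opens} {κ : Type*} (S : Finset κ) (a : κ → Γ(A, W))
    (b : Γ(B, W)) : (tmulSec (∑ i ∈ S, a i) b : Γ(CohB1.tensorMod A B, W)) = ∑ i ∈ S, tmulSec (a i) b := by
  classical
  induction S using Finset.induction_on with
  | empty => simp [tmulSec_zero_left]
  | insert i S hi ih => rw [Finset.sum_insert hi, Finset.sum_insert hi, tmulSec_add_left, ih]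

/-- the kernel of an epimorphism from a free module to an invertible module, twisted, is globally generated -/
lemma gg_kernel {X : Scheme.{u}} {L : X.Modules} (hL : PicF.IsInvertible L) {n : ℕ}
    (φ : FlatMod.freeMod X n ⟶ L) [Epi φ] :
    Curv2.IsGloballyGenerated (CohB1.tensorMod (kernel φ) L) := by
  classical
  let T := DCoh.tensorRightMod L
  haveI : T.IsEquivalence := isEquivalence_tensorRightMod_of_isInvertible hL
  haveI : T.PreservesZeroMorphisms := Functor.preservesZeroMorphisms_of_isLeftAdjoint T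
  refine Groth.CohTwo.GGNhd.gg_of_iso (PreservesKernel.iso T φ).symm ?_
  let K : X.Modules := kernel (T.map φ)
  let ι : K ⟶ T.obj (FlatMod.freeMod X n) := kernel.ι (T.map φ)
  obtain ⟨d⟩ := exists_split_free (X := X) n
  let e : Fin n → Γ(FlatMod.freeMod X n, ⊤) := fun i => (d.s i).app ⊤ (oneSec X ⊤)
  have hB : Basis' (FlatMod.freeMod X n) ⊤ e := d.basis
  let σ : Fin n → Γ(L, ⊤) := fun i => φ.app ⊤ (e i)
  obtain ⟨U, g, -, hxU, hgen⟩ := exists_gen_cover hL
  choose f hf using fun (x : X) (i : Fin n) => (hgen x).exists_coeff le_rfl (res L (le_top : U x ≤ ⊤) (σ i))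
  have hcoef : ∀ (x : X) {V : X.Opens} (h : V ≤ U x) (i : Fin n),
      res L (le_top : V ≤ ⊤) (σ i) = resX X h (f x i) • res L h (g x) := by
    intro x V h i
    rw [← res_res (le_top : U x ≤ ⊤) h, hf x i, res_smul, res_self]
  have hsymm : ∀ i j, (tmulSec (σ i) (σ j) : Γ(CohB1.tensorMod L L, ⊤)) = tmulSec (σ j) (σ i) := by
    intro i j
    refine res_ext (fun x : X => U x) (fun x => le_top) (fun x _ => Opens.mem_iSup.2 ⟨x, hxU x⟩) fun x => ?_
    rw [res_tmulSec, res_tmulSec, hcoef x le_rfl i, hcoef x le_rfl j, tmulSec_smul_left, tmulSec_smul_right,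
      tmulSec_smul_left, tmulSec_smul_right, smul_comm]
  let κ : Fin n × Fin n → Γ(T.obj (FlatMod.freeMod X n), ⊤) := fun q =>
    tmulSec (e q.1) (σ q.2) - tmulSec (e q.2) (σ q.1)
  have hκ : ∀ q, (T.map φ).app ⊤ (κ q) = 0 := by
    intro q
    refine (map_sub ((T.map φ).app ⊤).hom _ _).trans (sub_eq_zero.mpr ?_)
    exact (tensorRightMod_map_tmulSec L φ ⊤ _ _).trans ((hsymm q.1 q.2).trans (tensorRightMod_map_tmulSec L φ ⊤ _ _).symm)
  choose τ hτ using fun q => Groth.QCohMod.kernel_exists_app (T.map φ) (κ q) (hκ q)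
  refine isGloballyGenerated_of_locSpan (ι := ULift.{u} (Fin n × Fin n)) (fun q => τ q.down) fun x => ?_
  -- a coefficient is invertible near `x`
  obtain ⟨a, hxa⟩ : ∃ a : Fin n, IsUnit (X.presheaf.germ (U x) x (hxU x) (f x a)) := by
    obtain ⟨v, hv⟩ := (Groth.QCohMod.epi_iff_stalk φ).mp inferInstance x (Groth.QCohMod.germ L x (hxU x) (g x))
    obtain ⟨V, hxV, m, rfl⟩ := Groth.QCohMod.exists_germ _ x v
    rw [Groth.QCohMod.stalk_map_germ] at hv
    obtain ⟨W, hxW, i, j, hres⟩ := TopCat.Presheaf.germ_eq L.presheaf x hxV (hxU x) _ _ hv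
    obtain ⟨r, hr⟩ := (hB W le_top).2 (res _ i.le m)
    have h1 : (∑ q, r q * resX X j.le (f x q)) • res L j.le (g x) = (1 : Γ(X, W)) • res L j.le (g x) := by
      rw [one_smul, Finset.sum_smul]
      have h2 : φ.app W (res _ i.le m) = res L j.le (g x) := (app_res φ i.le m).trans hres
      refine Eq.trans ?_ h2
      rw [← hr]
      simp only [map_sum]
      refine Finset.sum_congr rfl fun q _ => ?_
      rw [mul_smul, ← hcoef x j.le q, Scheme.Modules.Hom.app_smul, app_res]
    have h3 := congrArg (X.presheaf.germ W x hxW) ((hgen x).smul_inj j.le h1)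
    rw [map_one, map_sum] at h3
    obtain ⟨q, -, hq⟩ : ∃ q ∈ Finset.univ, X.presheaf.germ W x hxW (r q * resX X j.le (f x q)) ∉
        IsLocalRing.maximalIdeal (X.presheaf.stalk x) := by
      by_contra! hall
      exact (IsLocalRing.maximalIdeal.isMaximal _).ne_top ((Ideal.eq_top_iff_one _).mpr (h3 ▸ Ideal.sum_mem _ hall))
    refine ⟨q, ?_⟩
    rw [map_mul] at hq
    have hu := isUnit_of_mul_isUnit_right (IsLocalRing.notMem_maximalIdeal.mp hq)
    rwa [show X.presheaf.germ W x hxW (resX X j.le (f x q)) = X.presheaf.germ (U x) x (hxU x) (f x q) from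
      TopCat.Presheaf.germ_res_apply X.presheaf (homOfLE j.le) x hxW _] at hu
  let W := X.basicOpen (f x a)
  have hWU : W ≤ U x := X.basicOpen_le _
  have hxW : x ∈ W := (Scheme.mem_basicOpen X _ x (hxU x)).mpr hxa
  have hua : IsUnit (resX X hWU (f x a)) := RingedSpace.isUnit_res_basicOpen _ (f x a)
  refine ⟨W, Set.range fun q : Fin n × Fin n => res K le_top (τ q), hxW, ?_, fun s hs => ?_⟩
  swap
  · obtain ⟨q, rfl⟩ := hs
    exact ⟨⟨q⟩, rfl⟩
  intro V hV y z hz
  have hspanF : LocSpan (FlatMod.freeMod X n) W (Set.range fun i => res _ le_top (e i)) := by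
    intro V' hV' y' z' hz'
    refine ⟨V', le_rfl, hV', hz', ?_⟩
    obtain ⟨r, hr⟩ := (hB V' le_top).2 (res _ le_rfl y')
    rw [← hr]
    refine Submodule.sum_mem _ fun i _ => Submodule.smul_mem _ _ (Submodule.subset_span ?_)
    exact ⟨res _ le_top (e i), ⟨i, rfl⟩, res_res _ _ _⟩
  have hgW : Gen L W (res L hWU (g x)) := (hgen x).res hWU
  obtain ⟨V', h, h', hz', hmem⟩ := hspanF.tensor hgW V hV (ι.app V y) z hz
  refine ⟨V', h, h', hz', ?_⟩
  let t : Γ(L, V') := res L (h'.trans hWU) (g x)
  have ht : Gen L V' t := (hgen x).res _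
  let b : Fin n → Γ(T.obj (FlatMod.freeMod X n), V') := fun i => tmulSec (res _ le_top (e i)) t
  have hmem' : res (T.obj (FlatMod.freeMod X n)) h (ι.app V y) ∈ Submodule.span Γ(X, V') (Set.range b) := by
    refine Submodule.span_mono ?_ hmem
    rintro _ ⟨_, ⟨_, ⟨i, rfl⟩, rfl⟩, rfl⟩
    exact ⟨i, ((res_tmulSec _ _ _).trans (by simp only [res_res]; rfl)).symm⟩
  obtain ⟨c, hc⟩ := (Submodule.mem_span_range_iff_exists_fun Γ(X, V')).mp hmem'
  let F : Fin n → Γ(X, V') := fun i => resX X (h'.trans hWU) (f x i)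
  have hF : ∀ i, res L (le_top : V' ≤ ⊤) (σ i) = F i • t := fun i => hcoef x _ i
  have hFa : IsUnit (F a) := by
    have := hua.map (X.presheaf.map (homOfLE h').op).hom
    rwa [show (X.presheaf.map (homOfLE h').op).hom (resX X hWU (f x a)) = F a from resX_resX hWU h' _] at this
  -- the relation
  have hrel : ∑ i, c i * F i = 0 := by
    have h0 : (T.map φ).app V' (∑ i, c i • b i) = 0 := by
      rw [hc, app_res, Groth.QCohMod.kernel_app_zero, res_zero]
    rw [map_sum] at h0
    have hb : ∀ i, (T.map φ).app V' (c i • b i) = (c i * F i) • (tmulSec t t : Γ(CohB1.tensorMod L L, V')) := by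
      intro i
      refine (Scheme.Modules.Hom.app_smul _ _ _).trans ?_
      rw [mul_smul]
      refine congrArg (c i • ·) ?_
      refine (tensorRightMod_map_tmulSec L φ V' _ _).trans ?_
      rw [app_res, hF, tmulSec_smul_left]
    simp only [hb] at h0
    refine (ht.tensor ht).smul_inj (le_refl V') ?_
    rw [res_self, zero_smul]
    exact Finset.sum_smul.trans h0
  obtain ⟨w, hw⟩ := hFa.exists_left_inv
  have key : res K h y = ∑ i, (w * c i) • res K le_top (τ (i, a)) := by
    have : Mono ι := inferInstance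
    refine Groth.QCohMod.app_injective_of_mono ι V' ?_
    rw [map_sum, app_res, ← hc]
    have hk : ∀ i, ι.app V' ((w * c i) • res K le_top (τ (i, a))) =
        c i • b i - (w * (c i * F i)) • b a := by
      intro i
      rw [Scheme.Modules.Hom.app_smul, app_res, hτ]
      have : res (T.obj (FlatMod.freeMod X n)) (le_top : V' ≤ ⊤) (κ (i, a)) = F a • b i - F i • b a := by
        refine (map_sub (((T.obj (FlatMod.freeMod X n)).presheaf.map (homOfLE (le_top : V' ≤ ⊤)).op).hom) _ _).trans ?_
        exact congrArg₂ (· - ·)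
          ((res_tmulSec _ _ _).trans (by rw [hF, tmulSec_smul_right]; rfl))
          ((res_tmulSec _ _ _).trans (by rw [hF, tmulSec_smul_right]; rfl))
      rw [this, smul_sub, ← mul_smul, ← mul_smul,
        show w * c i * F a = c i from (by linear_combination c i * hw), mul_assoc]
    simp only [hk]
    rw [Finset.sum_sub_distrib, ← Finset.sum_smul, ← Finset.mul_sum, hrel, mul_zero, zero_smul, sub_zero]
  rw [key]
  refine Submodule.sum_mem _ fun i _ => Submodule.smul_mem _ _ (Submodule.subset_span ?_)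
  exact ⟨res K le_top (τ (i, a)), ⟨(i, a), rfl⟩, res_res _ _ _⟩

end

/-- Let X be a scheme, L an invertible O_X-module and s_0, …, s_n global sections of L, given as module
maps O_X → L, which generate L: the map O_X^{n+1} → L they induce is an epimorphism. Let F be the
kernel of that map. Then F ⊗ L is globally generated, i.e. it is a quotient of a free O_X-module. -/
theorem result (X : Scheme.{u}) (L : X.Modules) (hL : PicF.IsInvertible L)
    (n : ℕ) (s : Fin (n + 1) → (Coh.structureModule X ⟶ L))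
    (hs : Epi (Sigma.desc s : FlatMod.freeMod X (n + 1) ⟶ L)) :
    Curv2.IsGloballyGenerated (CohB1.tensorMod (kernel (Sigma.desc s : FlatMod.freeMod X (n + 1) ⟶ L)) L) := by
  exact gg_kernel hL (Sigma.desc s)

end Groth.Agent.S9569
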