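import Groth.Statements.S9570
import Groth.Agent.SchemeMorphisms.VanishingForms
import Mathlib.RingTheory.MvPolynomial.Ideal
-- import your own Groth.Agent.* helpers here

set_option autoImplicit false
universe u
open CategoryTheory CategoryTheory.Limits AlgebraicGeometry TopologicalSpace Opposite
open Constr

namespace Groth.Agent.S9570

/-- Let R be a ring and i : Z → P^n_R a closed immersion. For d ≥ 0 let I_d be the kernel of the map
from the degree-d forms of R[T_0, …, T_n] to the global sections of i^*O(d), sending a form F to the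
inverse image of the global section F of O(d). Then I = ⊕ I_d is a graded ideal and Z is the closed
subscheme Proj(R[T_0, …, T_n]/I) of P^n_R: for every surjective homomorphism of graded rings φ from
R[T_0, …, T_n] onto a graded ring B whose kernel in each degree d is exactly I_d, there is an
isomorphism Z ≅ Proj B whose composite with the morphism Proj B → P^n_R induced by φ is i. -/
theorem result {R : Type u} [CommRing R] (n : ℕ)
    {Z : Scheme.{u}} (i : Z ⟶ CohB1.ProjSpace n R) [IsClosedImmersion i]
    {B : Type u} [CommRing B] [Algebra R B] (ℬ : ℕ → Submodule R B) [GradedAlgebra ℬ]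
    (φ : CohB1.polyGrading n R →+*ᵍ ℬ) (hφs : Function.Surjective φ)
    (hker : ∀ (d : ℕ) (F : MvPolynomial (Fin (n + 1)) R) (hF : F ∈ CohB1.polyGrading n R d),
      φ F = 0 ↔ ProjUP.pullSec i (Twist.twistProjSpace n R d) (Twist.globalOf (CohB1.polyGrading n R) ⟨F, hF⟩) = 0)
    (hφ : HomogeneousIdeal.irrelevant ℬ ≤ (HomogeneousIdeal.irrelevant (CohB1.polyGrading n R)).map φ) :
    ∃ e : Z ≅ Proj ℬ, e.hom ≫ Proj.map φ hφ = i := by
  classical
  let s : Finset (MvPolynomial (Fin (n + 1)) R) := Finset.univ.image MvPolynomial.X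
  have hs1 : ∀ f ∈ s, f ∈ CohB1.polyGrading n R 1 := fun f hf => by
    obtain ⟨j, -, rfl⟩ := Finset.mem_image.mp hf
    exact MvPolynomial.isHomogeneous_X R j
  have hs : (HomogeneousIdeal.irrelevant (CohB1.polyGrading n R)).toIdeal = Ideal.span (s : Set _) := by
    refine le_antisymm ?_
      (Ideal.span_le.mpr fun f hf => HomogeneousIdeal.mem_irrelevant_of_mem _ Nat.one_pos (hs1 f hf))
    rw [HomogeneousIdeal.toIdeal_irrelevant_le]
    intro k hk m hm
    rw [show (s : Set (MvPolynomial (Fin (n + 1)) R)) = MvPolynomial.X '' Set.univ by simp [s]]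
    refine MvPolynomial.mem_ideal_span_X_image.mpr fun b hb => ?_
    by_contra h
    push Not at h
    have : b = 0 := Finsupp.ext fun j => h j (Set.mem_univ j)
    subst this
    have := (MvPolynomial.mem_homogeneousSubmodule _ _).mp hm (MvPolynomial.mem_support_iff.mp hb)
    simp at this
    omega
  let i' : Z ⟶ Proj (CohB1.polyGrading n R) := i
  haveI : IsClosedImmersion i' := ‹IsClosedImmersion i›
  exact Groth.SchemeMorphisms.VanishingForms.exists_iso_of_ker (CohB1.polyGrading n R) s hs1 hs i' ℬ φ hφs hφ
    (Groth.SchemeMorphisms.VanishingForms.ker_eq_idealOf (CohB1.polyGrading n R) s hs1 hs i' ℬ φ hker)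

end Groth.Agent.S9570
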