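import Groth.Statements.S9572
import Groth.Agent.Ega2Proj.ConeMaps
import Groth.Agent.Ega2Proj2.ProjMaps

set_option autoImplicit false
universe u
open CategoryTheory CategoryTheory.Limits AlgebraicGeometry TopologicalSpace Opposite
open Constr

namespace Groth.Agent.S9572

/-- Let ψ : A → B be a homomorphism of graded rings such that A_d → B_d is bijective for all d ≥ d₀. Let
U(ψ) ⊆ Proj B be the union of the opens D_+(ψ f) over homogeneous f of positive degree, and r_ψ :
U(ψ) → Proj A the morphism whose restriction to each chart Spec B_(ψ f) is Spec of the induced map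
A_(f) → B_(ψ f) followed by the chart of Proj A. Then U(ψ) = Proj B and r_ψ is an isomorphism. (Here
r_ψ is any morphism with that chart description; it is unique.) -/
theorem result {R A : Type u} [CommRing R] [CommRing A] [Algebra R A] (𝒜 : ℕ → Submodule R A) [GradedAlgebra 𝒜]
    {B : Type u} [CommRing B] [Algebra R B] (ℬ : ℕ → Submodule R B) [GradedAlgebra ℬ] (ψ : 𝒜 →+*ᵍ ℬ)
    (d₀ : ℕ) (hbij : ∀ d : ℕ, d₀ ≤ d → Set.BijOn ψ (𝒜 d) (ℬ d))
    (r : (PCone.dom ψ : Scheme.{u}) ⟶ Proj 𝒜)
    (hr : ∀ (d : ℕ) (f : A) (hd : 0 < d) (hf : f ∈ 𝒜 d),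
      PCone.chart ψ hf hd ≫ r =
        Spec.map (CommRingCat.ofHom (HomogeneousLocalization.Away.map ψ f)) ≫ Proj.awayι 𝒜 f hf hd) :
    PCone.dom ψ = ⊤ ∧ IsIso r := by
  refine ⟨top_le_iff.mp fun y _ => ?_, ?_⟩
  · obtain ⟨e, b, he, hb, hy⟩ := Groth.Ega2Proj.exists_mem_basicOpen ℬ y
    obtain ⟨a, ha, hab⟩ := (hbij ((d₀ + 1) * e) ((Nat.le_succ d₀).trans
      (Nat.le_mul_of_pos_right _ he))).surjOn (show b ^ (d₀ + 1) ∈ ℬ ((d₀ + 1) * e) by
        simpa using SetLike.pow_mem_graded (d₀ + 1) hb)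
    refine Opens.mem_iSup.mpr ⟨⟨a, _, Nat.mul_pos (Nat.succ_pos d₀) he, ha⟩, fun hmem => hy ?_⟩
    change ψ a ∈ y.asHomogeneousIdeal at hmem
    rw [hab] at hmem
    exact y.isPrime.mem_of_pow_mem _ hmem
  · change MorphismProperty.isomorphisms Scheme r
    refine IsZariskiLocalAtTarget.of_iSup_eq_top
      (fun i : Groth.Ega2Proj.PosHom 𝒜 => (Proj.awayι 𝒜 i.1.2 i.2.2 i.2.1).opensRange) ?_ ?_
    · refine top_le_iff.mp fun x _ => ?_
      obtain ⟨d, f, hd, hf, hx⟩ := Groth.Ega2Proj.exists_mem_basicOpen 𝒜 x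
      refine Opens.mem_iSup.mpr ⟨⟨(d, f), hd, hf⟩, ?_⟩
      rw [Proj.opensRange_awayι]
      exact hx
    · rintro ⟨⟨d, f⟩, hd, hf⟩
      dsimp only at hd hf ⊢
      have hpre : r ⁻¹ᵁ (Proj.awayι 𝒜 f hf hd).opensRange = (PCone.chart ψ hf hd).opensRange := by
        rw [Proj.opensRange_awayι, Groth.Ega2Proj.dom_map_preimage ψ r hr hd hf]
        ext z
        exact (Groth.Ega2Proj.mem_range_pchart ψ hf hd z).symm
      have hp := IsOpenImmersion.isPullback (Spec.map (CommRingCat.ofHom
          (HomogeneousLocalization.Away.map ψ f))) (PCone.chart ψ hf hd)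
          (Proj.awayι 𝒜 f hf hd) r (hr d f hd hf) hpre
      have : IsIso (CommRingCat.ofHom (HomogeneousLocalization.Away.map ψ f)) :=
        (ConcreteCategory.isIso_iff_bijective _).mpr
          ⟨Groth.Ega2P2.awayMap_injective_of_eventually ψ (N := d₀)
            (fun k hk x hx h0 => (hbij k hk).injOn hx (zero_mem _) (h0.trans (map_zero ψ).symm)) hf hd,
           Groth.Ega2P2.awayMap_surjective_of_eventually ψ (N := d₀)
            (fun k hk y hy => (hbij k hk).surjOn hy) hf hd⟩
      have h2 : MorphismProperty.isomorphisms Scheme (pullback.snd r (Proj.awayι 𝒜 f hf hd)) := by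
        rw [← hp.flip.isoPullback_inv_snd]
        exact ((MorphismProperty.isomorphisms Scheme).cancel_left_of_respectsIso _ _).mpr
          (show IsIso (Spec.map (CommRingCat.ofHom (HomogeneousLocalization.Away.map ψ f))) by
            infer_instance)
      exact ((MorphismProperty.isomorphisms Scheme).arrow_mk_iso_iff
        (morphismRestrictOpensRange r (Proj.awayι 𝒜 f hf hd))).mpr h2

end Groth.Agent.S9572
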