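import Groth.Statements.S9576
import Groth.Agent.Misc1.ProjSpaceCharts

set_option autoImplicit false
universe u
open CategoryTheory CategoryTheory.Limits AlgebraicGeometry TopologicalSpace Opposite
open Constr

namespace Groth.Agent.S9576

/-- For a ring R and n ≥ 0, projective n-space Proj R[T_0, …, T_n] is covered by the n + 1 standard
opens D_+(T_i), and each D_+(T_i) = Spec R[T_0, …, T_n]_(T_i) is an affine n-space: the ring
homomorphism from the polynomial ring over R in the variables T_j, j ≠ i, to the degree-zero
localization R[T_0, …, T_n]_(T_i), sending T_j to T_j/T_i and a constant r to r/1, is bijective.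
(The published statement is over ℤ; this row is over any ring R.) -/
theorem result (n : ℕ) (R : Type u) [CommRing R] :
    (⨆ i : Fin (n + 1), Proj.basicOpen (CohB1.polyGrading n R) (MvPolynomial.X i)) = ⊤ ∧
      ∀ i : Fin (n + 1), Function.Bijective
        (MvPolynomial.eval₂Hom
          ((HomogeneousLocalization.fromZeroRingHom (CohB1.polyGrading n R) (Submonoid.powers (MvPolynomial.X i))).comp
            (algebraMap R (CohB1.polyGrading n R 0)))
          (fun j : {j : Fin (n + 1) // j ≠ i} =>
            (HomogeneousLocalization.mk ⟨1, ⟨MvPolynomial.X j.1, MvPolynomial.isHomogeneous_X R j.1⟩,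
              ⟨MvPolynomial.X i, MvPolynomial.isHomogeneous_X R i⟩, ⟨1, pow_one _⟩⟩ :
              HomogeneousLocalization.Away (CohB1.polyGrading n R) (MvPolynomial.X i)))) := by
  exact ⟨Groth.Misc1.ProjChart.iSup_basicOpen_X, fun i => Groth.Misc1.ProjChart.chart_bijective i⟩

end Groth.Agent.S9576
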