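import Groth.Statements.S9581
import Groth.Agent.Calg5.WeakAss

set_option autoImplicit false
universe u
open CAlg

namespace Groth.Agent.S9581

/-- (1) ⇔ (3): for a ring R, an R-module M and a prime p of R, the prime p is weakly associated to M
(minimal among the primes containing the annihilator of some element of M) if and only if the
localization M_p contains an element whose annihilator in R_p has radical equal to the maximal ideal
p R_p. -/
theorem result {R : Type u} [CommRing R] (M : Type u) [AddCommGroup M] [Module R M] (p : Ideal R) [p.IsPrime] :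
    p ∈ FlatCA.weakAss R M ↔ IsAssociatedPrime (IsLocalRing.maximalIdeal (Localization.AtPrime p)) (LocalizedModule p.primeCompl M) := by
  rw [Groth.Calg5.mem_weakAss_localized_iff p.primeCompl
    (LocalizedModule.mkLinearMap p.primeCompl M) (p := p)
    (Set.disjoint_left.mpr fun x hx hx' => hx hx'),
    Groth.Calg5.weakAss_eq_image_of_isLocalization (R := R) (S := Localization.AtPrime p)
      p.primeCompl]
  constructor
  · rintro ⟨q, ⟨x, hq⟩, hqp⟩
    have hqprime := hq.isPrime
    have hqmax : q = IsLocalRing.maximalIdeal _ := by
      rw [← IsLocalization.map_under p.primeCompl (Localization.AtPrime p) q, Ideal.under_def, hqp,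
        Localization.AtPrime.map_eq_maximalIdeal]
    subst hqmax
    refine ⟨hqprime, x, ?_⟩
    rw [Submodule.bot_colon']
    refine le_antisymm ?_ (hqprime.radical_le_iff.mpr hq.le)
    rw [Ideal.radical_eq_sInf]
    refine le_sInf fun J hJ => ?_
    have := hJ.2.ne_top
    exact hq.2 ⟨hJ.2, hJ.1⟩ (IsLocalRing.le_maximalIdeal this)
  · rintro ⟨hm, x, hx⟩
    refine ⟨_, ⟨x, ⟨hm, ?_⟩, fun J hJ _ => ?_⟩, Localization.AtPrime.under_maximalIdeal⟩
    · rw [hx, Submodule.bot_colon']; exact Ideal.le_radical
    · rw [hx, Submodule.bot_colon']; exact hJ.1.radical_le_iff.mpr hJ.2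

end Groth.Agent.S9581
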