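import Groth.Statements.S9582
import Groth.Agent.Calg5.WeakAss

set_option autoImplicit false
universe u
open CAlg

namespace Groth.Agent.S9582

/-- For a reduced ring R, the primes weakly associated to the R-module R (primes minimal over the
annihilator of some element) are exactly the minimal primes of R. -/
theorem result {R : Type u} [CommRing R] [IsReduced R] :
    FlatCA.weakAss R R = minimalPrimes R := by
  refine subset_antisymm ?_ ?_
  · intro p hp
    obtain ⟨hpp, m, h1, h2⟩ := Groth.Calg5.mem_weakAss_iff.mp hp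
    have key : ∀ a ∈ p, ∃ s ∉ p, s * a * m = 0 := by
      intro a ha
      obtain ⟨s, hs, n, hn⟩ := h2 a ha
      refine ⟨s, hs, IsReduced.eq_zero _ ⟨n + 1, ?_⟩⟩
      rw [smul_eq_mul] at hn
      calc (s * a * m) ^ (n + 1) = (s * a ^ n * m) * (s ^ n * a * m ^ n) := by ring
        _ = 0 := by rw [hn, zero_mul]
    have hm : m ∉ p := by
      intro hm
      obtain ⟨s, hs, h⟩ := key m hm
      refine hs (h1 s (IsReduced.eq_zero _ ⟨2, ?_⟩))
      calc (s • m) ^ 2 = s * (s * m * m) := by rw [smul_eq_mul]; ring
        _ = 0 := by rw [h, mul_zero]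
    refine ⟨⟨hpp, bot_le⟩, fun q hq hqp a ha => ?_⟩
    obtain ⟨s, hs, h⟩ := key a ha
    have := hq.1
    rcases hq.1.mem_or_mem (h ▸ q.zero_mem : s * a * m ∈ q) with h | h
    · exact (hq.1.mem_or_mem h).resolve_left (fun h => hs (hqp h))
    · exact absurd (hqp h) hm
  · intro p hp
    refine ⟨1, ?_⟩
    rwa [show (Submodule.span R {(1 : R)}).annihilator = ⊥ by
      ext r; rw [Submodule.mem_annihilator_span_singleton, smul_eq_mul, mul_one, Ideal.mem_bot]]

end Groth.Agent.S9582
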