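import Groth.Statements.S9596
import Groth.Agent.Calg5.WeakAss

set_option autoImplicit false
universe u
open CAlg

namespace Groth.Agent.S9596

/-- For a Noetherian ring R and any R-module M, a prime which is minimal among the primes in the support
of M is an associated prime of M. -/
theorem result {R : Type u} [CommRing R] [IsNoetherianRing R] (M : Type u) [AddCommGroup M] [Module R M] (p : PrimeSpectrum R) (hp : Minimal (fun q : PrimeSpectrum R => q ∈ Module.support R M) p) :
    p.asIdeal ∈ associatedPrimes R M := by
  rw [← Groth.Calg5.weakAss_eq_associatedPrimes]
  exact Groth.Calg5.mem_weakAss_of_minimal_support hp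

end Groth.Agent.S9596
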