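import Groth.Statements.S9597
import Mathlib.RingTheory.Ideal.AssociatedPrime.Basic
import Mathlib.RingTheory.Noetherian.Basic
import Mathlib.Tactic

set_option autoImplicit false
universe u
open CAlg

namespace Groth.Agent.S9597

/-- Let R be a Noetherian ring, M a finite R-module whose associated primes are pairwise incomparable
under inclusion (M has no embedded associated primes), and I the annihilator of M. Then the
associated primes of R/I, viewed as a module over itself, are again pairwise incomparable: R/I has
no embedded primes either. -/
theorem result {R : Type u} [CommRing R] [IsNoetherianRing R] (M : Type u) [AddCommGroup M] [Module R M] [Module.Finite R M] (hM : ∀ p ∈ associatedPrimes R M, ∀ q ∈ associatedPrimes R M, p ≤ q → p = q) :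
    ∀ p ∈ associatedPrimes (R ⧸ Module.annihilator R M) (R ⧸ Module.annihilator R M), ∀ q ∈ associatedPrimes (R ⧸ Module.annihilator R M) (R ⧸ Module.annihilator R M), p ≤ q → p = q := by
  classical
  set I := Module.annihilator R M
  have hsub : ∀ P ∈ associatedPrimes (R ⧸ I) (R ⧸ I),
      P.comap (Ideal.Quotient.mk I) ∈ associatedPrimes R M := by
    intro P hP
    obtain ⟨hPp, x, hx⟩ := isAssociatedPrime_iff.mp hP
    obtain ⟨x, rfl⟩ := Ideal.Quotient.mk_surjective x
    have hprime : (P.comap (Ideal.Quotient.mk I)).IsPrime := inferInstance
    obtain ⟨g, hg⟩ := (inferInstance : Module.Finite R M).1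
    have hI : I = g.inf fun m => (⊥ : Submodule R M).colon {m} := by
      ext r
      simp only [I, Module.mem_annihilator, Submodule.mem_finsetInf, Submodule.mem_colon_singleton,
        Submodule.mem_bot]
      refine ⟨fun h m _ => h m, fun h m => ?_⟩
      have hm : m ∈ Submodule.span R (g : Set M) := hg ▸ Submodule.mem_top
      induction hm using Submodule.span_induction with
      | mem y hy => exact h y hy
      | zero => simp
      | add y z _ _ hy hz => rw [smul_add, hy, hz, add_zero]
      | smul a y _ hy => rw [smul_comm, hy, smul_zero]
    have heq : P.comap (Ideal.Quotient.mk I) =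
        g.inf fun m => (⊥ : Submodule R M).colon {x • m} := by
      ext r
      rw [Ideal.mem_comap, hx, Submodule.mem_colon_singleton, Submodule.mem_bot, smul_eq_mul,
        ← map_mul, Ideal.Quotient.eq_zero_iff_mem, hI]
      simp [Submodule.mem_finsetInf, Submodule.mem_colon_singleton, smul_smul]
    obtain ⟨m, hm, hle⟩ := hprime.inf_le'.mp heq.ge
    exact isAssociatedPrime_iff.mpr ⟨hprime, x • m,
      le_antisymm (heq.le.trans (Finset.inf_le hm)) hle⟩
  intro p hp q hq hpq
  exact Ideal.comap_injective_of_surjective _ Ideal.Quotient.mk_surjective
    (hM _ (hsub p hp) _ (hsub q hq) (Ideal.comap_mono hpq))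

end Groth.Agent.S9597
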