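import Groth.Statements.S9600
import Groth.Agent.Calg5.Completion

set_option autoImplicit false
universe u
open CAlg

namespace Groth.Agent.S9600

/-- Let R be a ring, I an ideal of R and 0 → M → N → Q → 0 a short exact sequence of R-modules in which
Q is killed by some power I^c of I. Then on I-adic completions the map M^ → N^ is injective, N^ → Q^
is surjective with kernel equal to the image of M^, and the canonical map Q → Q^ is bijective; so 0
→ M^ → N^ → Q → 0 is again short exact. -/
theorem result {R : Type u} [CommRing R] (I : Ideal R) {M N Q : Type u} [AddCommGroup M] [Module R M] [AddCommGroup N] [Module R N] [AddCommGroup Q] [Module R Q] (i : M →ₗ[R] N) (g : N →ₗ[R] Q) (hi : Function.Injective i) (hg : Function.Surjective g) (hig : Function.Exact i g) (c : ℕ) (hc : ∀ x ∈ I ^ c, ∀ q : Q, x • q = 0) :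
    Function.Injective (AdicCompletion.map I i) ∧ Function.Exact (AdicCompletion.map I i) (AdicCompletion.map I g) ∧ Function.Surjective (AdicCompletion.map I g) ∧ Function.Bijective (AdicCompletion.of I Q) := by
  have H : ∀ n : ℕ, ∃ m, n ≤ m ∧ ∀ a, i a ∈ (I ^ m • ⊤ : Submodule R N) →
      a ∈ (I ^ n • ⊤ : Submodule R M) :=
    fun n => ⟨n + c, Nat.le_add_right n c, Groth.Calg5.hypothesis_of_annihilated I hi hig c hc n⟩
  refine ⟨Groth.Calg5.completion_injective I H, Groth.Calg5.completion_exact I hg hig H,
    AdicCompletion.map_surjective I hg, ?_⟩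
  have hz : ∀ n, c ≤ n → (I ^ n • ⊤ : Submodule R Q) = ⊥ := fun n hn => by
    rw [eq_bot_iff, Submodule.smul_le]
    intro x hx q _
    rw [Submodule.mem_bot]
    exact hc x (Ideal.pow_le_pow_right hn hx) q
  refine ⟨fun x y hxy => ?_, fun y => ?_⟩
  · have h := congrArg (fun z => AdicCompletion.eval I Q c z) hxy
    simp only [AdicCompletion.eval_of, Submodule.mkQ_apply] at h
    rw [Submodule.Quotient.eq, hz c le_rfl, Submodule.mem_bot, sub_eq_zero] at h
    exact h
  · obtain ⟨q, hq⟩ := Groth.Calg5.exists_rep I y c
    refine ⟨q, Groth.Calg5.completion_ext I fun n => ?_⟩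
    rw [AdicCompletion.of_apply, Submodule.mkQ_apply]
    rcases le_total n c with h | h
    · exact (Groth.Calg5.completion_compat I h y hq).symm
    · obtain ⟨q', hq'⟩ := Groth.Calg5.exists_rep I y n
      have h2 := Groth.Calg5.completion_compat I h y hq'
      rw [hq, Submodule.Quotient.eq, hz c le_rfl, Submodule.mem_bot, sub_eq_zero] at h2
      rw [hq', h2]

end Groth.Agent.S9600
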