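import Groth.Statements.S9601
import Groth.Agent.Calg5.Completion

set_option autoImplicit false
universe u
open CAlg

namespace Groth.Agent.S9601

/-- For a ring R, an ideal I of R and an R-module M, let M^ be the I-adic completion and K_n the kernel
of the projection M^ → M/IⁿM. The completion M^ is I-adically complete exactly when K_n = Iⁿ M^
holds for every n ≥ 1. -/
theorem result {R : Type u} [CommRing R] (I : Ideal R) (M : Type u) [AddCommGroup M] [Module R M] :
    IsAdicComplete I (AdicCompletion I M) ↔ ∀ n : ℕ, 1 ≤ n → LinearMap.ker (AdicCompletion.eval I M n) = I ^ n • (⊤ : Submodule R (AdicCompletion I M)) := by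
  have hle : ∀ n, (I ^ n • ⊤ : Submodule R (AdicCompletion I M)) ≤
      LinearMap.ker (AdicCompletion.eval I M n) := fun n => by
    rw [Submodule.smul_le]
    intro r hr x _
    rw [LinearMap.mem_ker, map_smul]
    obtain ⟨a, ha⟩ := Groth.Calg5.exists_rep I x n
    show r • x.val n = 0
    rw [ha, ← Submodule.Quotient.mk_smul, Submodule.Quotient.mk_eq_zero]
    exact Submodule.smul_mem_smul hr Submodule.mem_top
  constructor
  · intro hcomp n hn
    refine le_antisymm (fun x hx => ?_) (hle n)
    choose a ha using fun k => Groth.Calg5.exists_rep I x k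
    have hc : ∀ {m k}, m ≤ k → AdicCompletion.of I M (a m) ≡ AdicCompletion.of I M (a k)
        [SMOD (I ^ m • ⊤ : Submodule R (AdicCompletion I M))] := by
      intro m k hmk
      rw [SModEq.sub_mem, ← map_sub]
      refine Groth.Calg5.map_smul_top_le I (AdicCompletion.of I M) m ?_
      rw [← Submodule.Quotient.eq, ← ha m]
      exact Groth.Calg5.completion_compat I hmk x (ha k)
    obtain ⟨L, hL⟩ := IsPrecomplete.prec hcomp.toIsPrecomplete hc
    have hLx : L = x := by
      refine Groth.Calg5.completion_ext I fun k => ?_
      have h1 := hle k (SModEq.sub_mem.mp (hL k).symm)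
      rw [LinearMap.mem_ker, map_sub, sub_eq_zero, AdicCompletion.eval_of] at h1
      rw [ha k]
      exact h1
    subst hLx
    have h1 : AdicCompletion.of I M (a n) ∈ (I ^ n • ⊤ : Submodule R (AdicCompletion I M)) := by
      refine Groth.Calg5.map_smul_top_le I (AdicCompletion.of I M) n ?_
      rw [← Submodule.Quotient.mk_eq_zero, ← ha n]
      exact hx
    have h2 := SModEq.sub_mem.mp (hL n).symm
    simpa using add_mem h2 h1
  · intro h
    refine { haus' := fun x hx => Groth.Calg5.completion_ext I fun n => ?_, prec' := fun f hf => ?_ }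
    · exact LinearMap.mem_ker.mp (hle n (SModEq.zero.mp (hx n)))
    · refine ⟨⟨fun n => (f n).val n, fun {m n} hmn => ?_⟩, fun n => ?_⟩
      · have h1 := hle m (SModEq.sub_mem.mp (hf hmn))
        rw [LinearMap.mem_ker, map_sub, sub_eq_zero] at h1
        exact ((f n).2 hmn).trans h1.symm
      · rcases Nat.eq_zero_or_pos n with rfl | hn
        · refine SModEq.sub_mem.mpr ?_
          rw [pow_zero, Ideal.one_eq_top, Submodule.top_smul]
          exact Submodule.mem_top
        · refine SModEq.sub_mem.mpr ((h n hn).le (LinearMap.mem_ker.mpr ?_))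
          exact (map_sub (AdicCompletion.eval I M n) _ _).trans (sub_eq_zero.mpr rfl)

end Groth.Agent.S9601
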