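import Groth.Statements.S9602
import Groth.Agent.Calg5.Completion
import Mathlib.RingTheory.Jacobson.Ideal

set_option autoImplicit false
universe u
open CAlg

namespace Groth.Agent.S9602

/-- Let R be a ring, I an ideal of R and R^ = lim R/Iⁿ the I-adic completion. An element of R^ whose
image in R/I is invertible is itself invertible in R^; and the kernel of R^ → R/I as well as the
extended ideal I R^ both lie inside the Jacobson radical of R^. -/
theorem result {R : Type u} [CommRing R] (I : Ideal R) :
    (∀ x : AdicCompletion I R, IsUnit (AdicCompletion.evalOneₐ I x) → IsUnit x) ∧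
      RingHom.ker (AdicCompletion.evalOneₐ I).toRingHom ≤ (⊥ : Ideal (AdicCompletion I R)).jacobson ∧
      I.map (algebraMap R (AdicCompletion I R)) ≤ (⊥ : Ideal (AdicCompletion I R)).jacobson := by
  have hunit : ∀ x : AdicCompletion I R, IsUnit (AdicCompletion.evalOneₐ I x) → IsUnit x := by
    intro x hx
    let φ : ∀ {m n : ℕ}, m ≤ n → (R ⧸ (I ^ n • ⊤ : Ideal R)) →ₐ[R] R ⧸ (I ^ m • ⊤ : Ideal R) :=
      fun h => AdicCompletion.transitionMapₐ I h
    have hn : ∀ n, IsUnit (x.val n) := by
      intro n
      obtain ⟨a, ha⟩ := Groth.Calg5.exists_rep I x n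
      rw [ha]
      rcases Nat.eq_zero_or_pos n with rfl | hpos
      · have : Subsingleton (R ⧸ (I ^ 0 • ⊤ : Ideal R)) := by
          rw [Ideal.Quotient.subsingleton_iff, pow_zero, Ideal.one_eq_top, smul_eq_mul]
          exact Ideal.top_mul _
        exact isUnit_of_subsingleton _
      · have h1 : AdicCompletion.evalOneₐ I x = Ideal.Quotient.mk I a := by
          have h0 : x.val 1 = Submodule.Quotient.mk a := Groth.Calg5.completion_compat I hpos x ha
          have hle : (I ^ 1 • ⊤ : Ideal R) ≤ I ^ 1 := by simp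
          have := AdicCompletion.factor_eval_eq_evalₐ I x hle
          rw [← AdicCompletion.factorₐ_evalₐ_one, ← this]
          show Ideal.Quotient.factor _ (Ideal.Quotient.factor hle (x.val 1)) = _
          rw [h0]
          rfl
        rw [h1] at hx
        obtain ⟨b, hb⟩ := hx.exists_right_inv
        obtain ⟨b, rfl⟩ := Ideal.Quotient.mk_surjective b
        rw [← map_mul, ← (Ideal.Quotient.mk I).map_one, Ideal.Quotient.eq] at hb
        have hnil : IsNilpotent (Ideal.Quotient.mk (I ^ n • ⊤ : Ideal R) (1 - a * b)) := by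
          refine ⟨n, ?_⟩
          rw [← map_pow, Ideal.Quotient.eq_zero_iff_mem]
          simpa using Ideal.pow_mem_pow ((I.neg_mem_iff).mp (by simpa using hb)) n
        have h2 := hnil.isUnit_one_sub
        rw [← map_one (Ideal.Quotient.mk (I ^ n • ⊤ : Ideal R)), ← map_sub, sub_sub_cancel, map_mul] at h2
        exact isUnit_of_mul_isUnit_left h2
    refine isUnit_iff_exists_inv.mpr
      ⟨⟨fun n => (↑(hn n).unit⁻¹ : R ⧸ (I ^ n • ⊤ : Ideal R)), fun {m n} hmn => ?_⟩, ?_⟩
    · have h1 : φ hmn (↑(hn n).unit⁻¹) * φ hmn (x.val n) = 1 := by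
        rw [← map_mul, IsUnit.val_inv_mul, map_one]
      have h2 : φ hmn (x.val n) = x.val m := x.2 hmn
      rw [h2] at h1
      show φ hmn (↑(hn n).unit⁻¹) = _
      calc φ hmn (↑(hn n).unit⁻¹)
          = φ hmn (↑(hn n).unit⁻¹) * (x.val m * ↑(hn m).unit⁻¹) := by
            rw [IsUnit.mul_val_inv, mul_one]
        _ = ↑(hn m).unit⁻¹ := by rw [← mul_assoc, h1, one_mul]
    · refine Groth.Calg5.completion_ext I fun n => ?_
      exact IsUnit.mul_val_inv (hn n)
  refine ⟨hunit, ?_⟩
  have hker : RingHom.ker (AdicCompletion.evalOneₐ I).toRingHom ≤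
      (⊥ : Ideal (AdicCompletion I R)).jacobson := by
    intro x hx
    rw [Ideal.mem_jacobson_bot]
    intro y
    refine hunit _ ?_
    rw [RingHom.mem_ker] at hx
    have hx' : AdicCompletion.evalOneₐ I x = 0 := hx
    simp [hx']
  refine ⟨hker, (Ideal.map_le_iff_le_comap.mpr fun r hr => ?_).trans hker⟩
  rw [Ideal.mem_comap, RingHom.mem_ker]
  show (AdicCompletion.evalOneₐ I) (algebraMap R _ r) = 0
  rw [AlgHom.commutes, Ideal.Quotient.algebraMap_eq, Ideal.Quotient.eq_zero_iff_mem]
  exact hr

end Groth.Agent.S9602
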