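import Groth.Statements.S9603
import Groth.Agent.Calg5.Completion
import Mathlib.RingTheory.Finiteness.Ideal

set_option autoImplicit false
universe u
open CAlg

namespace Groth.Agent.S9603

/-- For a ring A, elements f_1, …, f_r generating an ideal I and an A-module M, if the canonical map
from M to its (f_i)-adic completion is surjective for every i, then the canonical map from M to its
I-adic completion is surjective. -/
theorem result {A : Type u} [CommRing A] {r : ℕ} (f : Fin r → A) (M : Type u) [AddCommGroup M] [Module A M] (h : ∀ i, Function.Surjective (AdicCompletion.of (Ideal.span {f i}) M)) :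
    Function.Surjective (AdicCompletion.of (Ideal.span (Set.range f)) M) := by
  classical
  set J := Ideal.span (Set.range f)
  intro y
  have hex : ∀ n : ℕ, ∃ e : ℕ, J ^ e ≤ Ideal.span (Set.range fun i => f i ^ n) := by
    intro n
    refine Ideal.exists_pow_le_of_le_radical_of_fg ?_ (Submodule.fg_span (Set.finite_range f))
    rw [Ideal.span_le]
    rintro _ ⟨i, rfl⟩
    exact ⟨n, Ideal.subset_span ⟨i, rfl⟩⟩
  choose e he using hex
  let φ : ℕ → ℕ := fun n => (∑ k ∈ Finset.range (n + 1), e k) + n
  have hmono : ∀ n, φ n ≤ φ (n + 1) := fun n => by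
    simp only [φ, Finset.sum_range_succ _ (n + 1)]; omega
  have hφe : ∀ n, e n ≤ φ n := fun n =>
    le_trans (Finset.single_le_sum (f := e) (fun _ _ => Nat.zero_le _) (Finset.self_mem_range_succ n))
      (Nat.le_add_right _ _)
  choose a ha using fun n => Groth.Calg5.exists_rep J y (φ n)
  have hdiff : ∀ n, ∃ z : Fin r → M, a (n + 1) - a n = ∑ i, f i ^ n • z i := by
    intro n
    have h1 : a (n + 1) - a n ∈ (J ^ φ n • ⊤ : Submodule A M) := by
      rw [← Submodule.Quotient.eq, ← ha n]
      exact (Groth.Calg5.completion_compat J (hmono n) y (ha (n + 1))).symm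
    have h2 : a (n + 1) - a n ∈ Ideal.span (Set.range fun i => f i ^ n) • (⊤ : Submodule A M) :=
      Submodule.smul_mono_left ((Ideal.pow_le_pow_right (hφe n)).trans (he n)) h1
    clear h1
    refine Submodule.smul_induction_on h2 ?_ ?_
    · intro c hc m _
      obtain ⟨v, hv⟩ := (Submodule.mem_span_range_iff_exists_fun A).mp hc
      refine ⟨fun i => v i • m, ?_⟩
      rw [← hv, Finset.sum_smul]
      exact Finset.sum_congr rfl fun i _ => by rw [smul_assoc, smul_comm]
    · intro u v hu hv
      obtain ⟨z, hz⟩ := hu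
      obtain ⟨z', hz'⟩ := hv
      exact ⟨z + z', by simp [hz, hz', Finset.sum_add_distrib]⟩
  choose z hz using hdiff
  let P : Fin r → ℕ → M := fun i n => ∑ k ∈ Finset.range n, f i ^ k • z k i
  have hP : ∀ i, ∀ {m n}, m ≤ n → P i m ≡ P i n [SMOD (Ideal.span {f i} ^ m • ⊤ : Submodule A M)] := by
    intro i m n hmn
    rw [SModEq.comm, SModEq.sub_mem]
    simp only [P]
    rw [← Finset.sum_Ico_eq_sub _ hmn]
    refine Submodule.sum_mem _ fun k hk => Submodule.smul_mem_smul ?_ Submodule.mem_top
    exact Ideal.pow_le_pow_right (Finset.mem_Ico.mp hk).1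
      (Ideal.pow_mem_pow (Ideal.mem_span_singleton_self _) k)
  choose w hw using fun i => IsPrecomplete.prec (AdicCompletion.of_surjective_iff.mp (h i)) (hP i)
  refine ⟨a 0 + ∑ i, w i, Groth.Calg5.completion_ext J fun n => ?_⟩
  rw [AdicCompletion.of_apply, Submodule.mkQ_apply,
    Groth.Calg5.completion_compat J (Nat.le_add_left n _ : n ≤ φ n) y (ha n), Submodule.Quotient.eq]
  have htel : a n = a 0 + ∑ i, P i n := by
    simp only [P]
    rw [Finset.sum_comm, ← Finset.sum_congr rfl (fun k _ => hz k), Finset.sum_range_sub]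
    abel
  rw [htel, add_sub_add_left_eq_sub, ← Finset.sum_sub_distrib]
  refine Submodule.sum_mem _ fun i _ => ?_
  have hi := SModEq.sub_mem.mp (hw i n).symm
  refine Submodule.smul_mono_left (Ideal.pow_right_mono ?_ n) hi
  exact (Ideal.span_singleton_le_iff_mem _).mpr (Ideal.subset_span ⟨i, rfl⟩)

end Groth.Agent.S9603
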