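import Groth.Statements.S9605
import Groth.Agent.Calg5.Completion

set_option autoImplicit false
universe u
open CAlg

namespace Groth.Agent.S9605

/-- For a ring R, an ideal I of R, an I-adically complete R-module M and a submodule K of M, the
quotient M/K is I-adically complete if and only if K = ⋂ₙ (K + IⁿM). -/
theorem result {R : Type u} [CommRing R] (I : Ideal R) (M : Type u) [AddCommGroup M] [Module R M] [IsAdicComplete I M] (K : Submodule R M) :
    IsAdicComplete I (M ⧸ K) ↔ K = ⨅ n : ℕ, K ⊔ I ^ n • (⊤ : Submodule R M) := by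
  have hmap : ∀ n : ℕ, Submodule.comap K.mkQ (I ^ n • ⊤ : Submodule R (M ⧸ K)) =
      K ⊔ I ^ n • ⊤ := fun n => by
    have h : (I ^ n • ⊤ : Submodule R (M ⧸ K)) = Submodule.map K.mkQ (I ^ n • ⊤) := by
      rw [Submodule.map_smul'', Submodule.map_top, Submodule.range_mkQ]
    rw [h, Submodule.comap_map_mkQ]
  constructor
  · intro hc
    refine le_antisymm (le_iInf fun n => le_sup_left) fun x hx => ?_
    rw [← Submodule.Quotient.mk_eq_zero]
    refine IsHausdorff.haus hc.toIsHausdorff _ fun n => SModEq.zero.mpr ?_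
    have := ((hmap n).symm ▸ (Submodule.mem_iInf _).mp hx n :
      x ∈ Submodule.comap K.mkQ (I ^ n • ⊤ : Submodule R (M ⧸ K)))
    exact this
  · intro hK
    have h1 : IsPrecomplete I (M ⧸ K) := by
      rw [← AdicCompletion.of_surjective_iff]
      intro y
      obtain ⟨x, rfl⟩ := AdicCompletion.map_surjective I K.mkQ_surjective y
      obtain ⟨m, rfl⟩ := AdicCompletion.of_surjective I M x
      exact ⟨K.mkQ m, (AdicCompletion.map_of (I := I) K.mkQ m).symm⟩
    refine { haus' := fun q hq => ?_, prec' := h1.prec' }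
    obtain ⟨x, rfl⟩ := Submodule.Quotient.mk_surjective K q
    rw [Submodule.Quotient.mk_eq_zero, hK, Submodule.mem_iInf]
    intro n
    rw [← hmap n, Submodule.mem_comap, Submodule.mkQ_apply]
    exact SModEq.zero.mp (hq n)

end Groth.Agent.S9605
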