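import Groth.Statements.S9606
import Mathlib.Tactic
import Mathlib.RingTheory.Spectrum.Prime.Topology
import Mathlib.RingTheory.LocalRing.ResidueField.Ideal
import Mathlib.RingTheory.Ideal.GoingUp
import Mathlib.RingTheory.Nilpotent.Basic

set_option autoImplicit false
universe u
open CAlg

namespace Groth.Agent.S9606

/-- Let R → S be a ring map with locally nilpotent kernel such that S is generated over R by elements x
with x² and x³ in the image of R. Then the induced map on spectra is a homeomorphism and every
residue field map κ(p) → κ(q), for q a prime of S with inverse image p, is bijective. -/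
theorem result {R S : Type u} [CommRing R] [CommRing S] [Algebra R S]
    (hgen : Algebra.adjoin R {x : S | x ^ 2 ∈ Set.range (algebraMap R S) ∧ x ^ 3 ∈ Set.range (algebraMap R S)} = ⊤)
    (hker : ∀ r : R, algebraMap R S r = 0 → IsNilpotent r) :
    IsHomeomorph (PrimeSpectrum.comap (algebraMap R S)) ∧
      ∀ (q : Ideal S) [q.IsPrime], Function.Bijective (Ideal.ResidueField.map (q.comap (algebraMap R S)) q (algebraMap R S) rfl) := by
  have hx : ∀ x ∈ {x : S | x ^ 2 ∈ Set.range (algebraMap R S) ∧ x ^ 3 ∈ Set.range (algebraMap R S)},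
      IsIntegral R x := by
    rintro x ⟨⟨a, ha⟩, -⟩
    exact IsIntegral.of_pow two_pos (ha ▸ isIntegral_algebraMap)
  have hint : Algebra.IsIntegral R S := by
    refine ⟨fun x => ?_⟩
    have h := Algebra.adjoin_le (S := integralClosure R S) (fun x h => hx x h)
    rw [hgen] at h
    exact h Algebra.mem_top
  have hker' : RingHom.ker (algebraMap R S) ≤ nilradical R := fun r hr => hker r hr
  have hres : ∀ (p : Ideal R) [p.IsPrime] (q : Ideal S) [q.IsPrime]
      (hq : p = q.comap (algebraMap R S)) (s : S),
      algebraMap S q.ResidueField s ∈ (Ideal.ResidueField.map p q (algebraMap R S) hq).fieldRange := by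
    intro p _ q _ hq s
    set F := (Ideal.ResidueField.map p q (algebraMap R S) hq).fieldRange
    have hR : ∀ r, algebraMap S q.ResidueField (algebraMap R S r) ∈ F := fun r =>
      ⟨algebraMap R p.ResidueField r, Ideal.ResidueField.map_algebraMap _ _ _ _ r⟩
    have hs : s ∈ Algebra.adjoin R _ := hgen ▸ Algebra.mem_top
    refine Algebra.adjoin_induction ?_ hR ?_ ?_ hs
    · rintro x ⟨⟨a, ha⟩, ⟨b, hb⟩⟩
      rcases eq_or_ne (algebraMap S q.ResidueField x) 0 with h | h
      · rw [h]; exact zero_mem F
      · have h2 := hR a
        have h3 := hR b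
        rw [ha] at h2
        rw [hb] at h3
        have : algebraMap S q.ResidueField x =
            algebraMap S q.ResidueField (x ^ 3) / algebraMap S q.ResidueField (x ^ 2) := by
          rw [map_pow, map_pow, eq_div_iff (pow_ne_zero _ h)]; ring
        rw [this]
        exact div_mem h3 h2
    · intro x y _ _ hx hy; rw [map_add]; exact add_mem hx hy
    · intro x y _ _ hx hy; rw [map_mul]; exact mul_mem hx hy
  refine ⟨?_, fun q _ => ⟨RingHom.injective _, fun z => ?_⟩⟩
  · have hsurj : Function.Surjective (PrimeSpectrum.comap (algebraMap R S)) := by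
      intro p
      have hle : RingHom.ker (algebraMap R S) ≤ p.asIdeal :=
        hker'.trans (nilradical_le_prime p.asIdeal)
      obtain ⟨Q, -, hQp, hQ⟩ :=
        Ideal.exists_ideal_over_prime_of_isIntegral p.asIdeal (⊥ : Ideal S)
          (by rwa [← RingHom.ker_eq_comap_bot])
      exact ⟨⟨Q, hQp⟩, PrimeSpectrum.ext hQ⟩
    have hinj : Function.Injective (PrimeSpectrum.comap (algebraMap R S)) := by
      intro q q' h
      have h1 : q.asIdeal.comap (algebraMap R S) = q'.asIdeal.comap (algebraMap R S) :=
        congrArg PrimeSpectrum.asIdeal h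
      let p := q.asIdeal.comap (algebraMap R S)
      let g := Ideal.ResidueField.map p q.asIdeal (algebraMap R S) rfl
      let g' := Ideal.ResidueField.map p q'.asIdeal (algebraMap R S) h1
      have key : ∀ s : S, ∃ z, g z = algebraMap S _ s ∧ g' z = algebraMap S _ s := by
        intro s
        have hR : ∀ r, ∃ z, g z = algebraMap S _ (algebraMap R S r) ∧
            g' z = algebraMap S _ (algebraMap R S r) :=
          fun r => ⟨algebraMap R p.ResidueField r, Ideal.ResidueField.map_algebraMap _ _ _ _ r,
            Ideal.ResidueField.map_algebraMap _ _ _ _ r⟩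
        have hs : s ∈ Algebra.adjoin R _ := hgen ▸ Algebra.mem_top
        refine Algebra.adjoin_induction ?_ hR ?_ ?_ hs
        · rintro x ⟨⟨a, ha⟩, ⟨b, hb⟩⟩
          obtain ⟨u, hu, hu'⟩ := hR a
          obtain ⟨w, hw, hw'⟩ := hR b
          rw [ha, map_pow] at hu hu'
          rw [hb, map_pow] at hw hw'
          refine ⟨w / u, ?_, ?_⟩
          · rw [map_div₀, hu, hw]
            rcases eq_or_ne (algebraMap S q.asIdeal.ResidueField x) 0 with h | h
            · simp [h]
            · field_simp
          · rw [map_div₀, hu', hw']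
            rcases eq_or_ne (algebraMap S q'.asIdeal.ResidueField x) 0 with h | h
            · simp [h]
            · field_simp
        · rintro x y _ _ ⟨a, ha, ha'⟩ ⟨b, hb, hb'⟩; exact ⟨a + b, by simp [ha, hb], by simp [ha', hb']⟩
        · rintro x y _ _ ⟨a, ha, ha'⟩ ⟨b, hb, hb'⟩; exact ⟨a * b, by simp [ha, hb], by simp [ha', hb']⟩
      ext s
      obtain ⟨z, hz, hz'⟩ := key s
      rw [← Ideal.algebraMap_residueField_eq_zero (I := q.asIdeal),
        ← Ideal.algebraMap_residueField_eq_zero (I := q'.asIdeal), ← hz, ← hz', map_eq_zero, map_eq_zero]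
    exact isHomeomorph_iff_continuous_isClosedMap_bijective.mpr
      ⟨PrimeSpectrum.continuous_comap _,
        PrimeSpectrum.isClosedMap_comap_of_isIntegral _ (algebraMap_isIntegral_iff.mpr hint),
        hinj, hsurj⟩
  · obtain ⟨z, rfl⟩ := IsLocalRing.residue_surjective z
    obtain ⟨⟨a, b⟩, rfl⟩ := IsLocalization.mk'_surjective q.primeCompl z
    have hb : algebraMap S q.ResidueField b ≠ 0 := fun h =>
      b.2 (Ideal.algebraMap_residueField_eq_zero.mp h)
    have h := div_mem (hres _ q rfl a) (hres _ q rfl (b : S))
    have e : IsLocalRing.residue (Localization.AtPrime q) (IsLocalization.mk' _ a b) =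
        algebraMap S q.ResidueField a / algebraMap S q.ResidueField b := by
      rw [eq_div_iff hb, IsScalarTower.algebraMap_apply S (Localization.AtPrime q) q.ResidueField,
        IsScalarTower.algebraMap_apply S (Localization.AtPrime q) q.ResidueField,
        IsLocalRing.ResidueField.algebraMap_eq, ← map_mul, IsLocalization.mk'_spec]
    exact e ▸ h

end Groth.Agent.S9606
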