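import Groth.Statements.S9607
import Mathlib.Tactic
import Mathlib.Data.Nat.Choose.Sum
import Mathlib.Algebra.MvPolynomial.Basic
import Mathlib.RingTheory.Adjoin.Basic

set_option autoImplicit false
universe u
open CAlg

namespace Groth.Agent.S9607

/-- For a prime number p and integers n, m > 0 there exists an integer a such that (x + y)^(p^a) and p^a
(x + y) both belong to the subring ℤ[x^(p^n), p^n x, y^(p^m), p^m y] of the polynomial ring ℤ[x, y]. -/
theorem result (p : ℕ) (hp : p.Prime) (n m : ℕ) (hn : 0 < n) (hm : 0 < m) :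
    ∃ a : ℕ, ((MvPolynomial.X 0 + MvPolynomial.X 1 : MvPolynomial (Fin 2) ℤ) ^ (p ^ a) ∈ Algebra.adjoin ℤ ({MvPolynomial.X 0 ^ (p ^ n), (p : MvPolynomial (Fin 2) ℤ) ^ n * MvPolynomial.X 0, MvPolynomial.X 1 ^ (p ^ m), (p : MvPolynomial (Fin 2) ℤ) ^ m * MvPolynomial.X 1} : Set (MvPolynomial (Fin 2) ℤ)) ∧
      (p : MvPolynomial (Fin 2) ℤ) ^ a * (MvPolynomial.X 0 + MvPolynomial.X 1) ∈ Algebra.adjoin ℤ ({MvPolynomial.X 0 ^ (p ^ n), (p : MvPolynomial (Fin 2) ℤ) ^ n * MvPolynomial.X 0, MvPolynomial.X 1 ^ (p ^ m), (p : MvPolynomial (Fin 2) ℤ) ^ m * MvPolynomial.X 1} : Set (MvPolynomial (Fin 2) ℤ))) := by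
  classical
  set N := n * p ^ n + m * p ^ m with hN
  refine ⟨N + n + m, ?_, ?_⟩
  · set A := Algebra.adjoin ℤ ({MvPolynomial.X 0 ^ (p ^ n), (p : MvPolynomial (Fin 2) ℤ) ^ n * MvPolynomial.X 0,
      MvPolynomial.X 1 ^ (p ^ m), (p : MvPolynomial (Fin 2) ℤ) ^ m * MvPolynomial.X 1} : Set (MvPolynomial (Fin 2) ℤ))
    have hpn : ∀ k : ℕ, (p : MvPolynomial (Fin 2) ℤ) ^ k ∈ A := fun k =>
      pow_mem (natCast_mem A p) k
    have key : ∀ i j : ℕ, (p : MvPolynomial (Fin 2) ℤ) ^ (n * (i % p ^ n) + m * (j % p ^ m)) *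
        (MvPolynomial.X 0 ^ i * MvPolynomial.X 1 ^ j) ∈ A := by
      intro i j
      have e : (p : MvPolynomial (Fin 2) ℤ) ^ (n * (i % p ^ n) + m * (j % p ^ m)) *
          (MvPolynomial.X 0 ^ i * MvPolynomial.X 1 ^ j) =
          ((MvPolynomial.X 0 ^ (p ^ n)) ^ (i / p ^ n) * ((p : MvPolynomial (Fin 2) ℤ) ^ n * MvPolynomial.X 0) ^ (i % p ^ n)) *
          ((MvPolynomial.X 1 ^ (p ^ m)) ^ (j / p ^ m) * ((p : MvPolynomial (Fin 2) ℤ) ^ m * MvPolynomial.X 1) ^ (j % p ^ m)) := by
        conv_lhs => rw [← Nat.div_add_mod i (p ^ n), ← Nat.div_add_mod j (p ^ m)]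
        simp only [pow_add, pow_mul, mul_pow, Nat.mul_add_mod_self_left, Nat.mod_mod]
        ring
      rw [e]
      exact mul_mem (mul_mem (pow_mem (Algebra.subset_adjoin (by simp)) _) (pow_mem (Algebra.subset_adjoin (by simp)) _))
        (mul_mem (pow_mem (Algebra.subset_adjoin (by simp)) _) (pow_mem (Algebra.subset_adjoin (by simp)) _))
    have hdvd : ∀ (k i : ℕ), i ≤ p ^ (N + n + m) → ¬ p ^ k ∣ i →
        p ^ (N + n + m - k) ∣ (p ^ (N + n + m)).choose i := by
      intro k i hi hk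
      have hi0 : i ≠ 0 := by rintro rfl; exact hk (dvd_zero _)
      obtain ⟨e, u, hu, rfl⟩ := Nat.exists_eq_pow_mul_and_not_dvd hi0 p hp.ne_one
      have hek : e < k := by
        by_contra h
        exact hk (Dvd.dvd.mul_right (pow_dvd_pow p (not_lt.mp h)) u)
      have h1 : p ^ (N + n + m) ∣ p ^ e * u * (p ^ (N + n + m)).choose (p ^ e * u) := by
        obtain ⟨q, hq⟩ := Nat.exists_eq_succ_of_ne_zero (pow_ne_zero (N + n + m) hp.ne_zero)
        obtain ⟨l, hl⟩ := Nat.exists_eq_succ_of_ne_zero hi0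
        rw [hq, hl]
        exact ⟨q.choose l, by rw [mul_comm, Nat.add_one_mul_choose_eq]⟩
      have he : e ≤ N + n + m := by
        by_contra h
        have : p ^ e ≤ p ^ (N + n + m) :=
          le_trans (Nat.le_mul_of_pos_right _ (Nat.pos_of_ne_zero fun h => hi0 (by simp [h]))) hi
        exact h ((Nat.pow_le_pow_iff_right hp.one_lt).mp this)
      rw [show p ^ (N + n + m) = p ^ e * p ^ (N + n + m - e) by rw [← pow_add, Nat.add_sub_cancel' he],
        mul_assoc] at h1
      have h2 := (mul_dvd_mul_iff_left (pow_ne_zero e hp.ne_zero)).mp h1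
      have h3 : p ^ (N + n + m - e) ∣ (p ^ (N + n + m)).choose (p ^ e * u) := by
        rw [show p ^ (N + n + m) = p ^ e * p ^ (N + n + m - e) by rw [← pow_add, Nat.add_sub_cancel' he]]
        exact ((hp.coprime_iff_not_dvd.mpr hu).pow_left _).dvd_of_dvd_mul_left h2
      exact dvd_trans (pow_dvd_pow p (by omega)) h3
    rw [add_pow]
    refine sum_mem fun i hi => ?_
    have hi' : i ≤ p ^ (N + n + m) := Nat.lt_succ_iff.mp (Finset.mem_range.mp hi)
    set j := p ^ (N + n + m) - i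
    by_cases hz : i % p ^ n = 0 ∧ j % p ^ m = 0
    · have := key i j
      rw [hz.1, hz.2, Nat.mul_zero, Nat.mul_zero, Nat.add_zero, pow_zero, one_mul] at this
      exact mul_mem this (natCast_mem A _)
    · have hd : p ^ N ∣ (p ^ (N + n + m)).choose i := by
        rcases not_and_or.mp hz with h | h
        · exact dvd_trans (pow_dvd_pow p (by omega))
            (hdvd n i hi' fun hc => h (Nat.mod_eq_zero_of_dvd hc))
        · have := hdvd m j (Nat.sub_le _ _) fun hc => h (Nat.mod_eq_zero_of_dvd hc)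
          rw [Nat.choose_symm hi'] at this
          exact dvd_trans (pow_dvd_pow p (by omega)) this
      obtain ⟨c, hc⟩ := hd
      have hle : n * (i % p ^ n) + m * (j % p ^ m) ≤ N :=
        Nat.add_le_add (Nat.mul_le_mul_left _ (Nat.mod_lt _ (pow_pos hp.pos n)).le)
          (Nat.mul_le_mul_left _ (Nat.mod_lt _ (pow_pos hp.pos m)).le)
      obtain ⟨d, hd⟩ := Nat.exists_eq_add_of_le hle
      rw [hc, Nat.cast_mul, Nat.cast_pow, hd, pow_add]
      have e : ∀ (u v w z : MvPolynomial (Fin 2) ℤ), u * (v * w * z) = (v * u) * (w * z) := by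
        intro u v w z; ring
      rw [e]
      exact mul_mem (key i j) (mul_mem (hpn d) (natCast_mem A _))
  · rw [mul_add]
    refine add_mem ?_ ?_
    · rw [show N + n + m = (N + m) + n by ring, pow_add, mul_assoc]
      exact mul_mem (pow_mem (natCast_mem _ p) _) (Algebra.subset_adjoin (by simp))
    · rw [show N + n + m = (N + n) + m by ring, pow_add, mul_assoc]
      exact mul_mem (pow_mem (natCast_mem _ p) _) (Algebra.subset_adjoin (by simp))

end Groth.Agent.S9607
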