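import Groth.Statements.S9608
import Mathlib.Tactic
import Mathlib.FieldTheory.PurelyInseparable.PerfectClosure

set_option autoImplicit false
universe u
open CAlg

namespace Groth.Agent.S9608

/-- Let k'/k be a field extension and p a prime number. Then k' is generated over k by elements x for
which some n > 0 has x^(p^n) ∈ k and p^n x ∈ k, if and only if either k' = k, or k has
characteristic p and k'/k is purely inseparable. -/
theorem result {k k' : Type u} [Field k] [Field k'] [Algebra k k'] (p : ℕ) (hp : p.Prime) :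
    IntermediateField.adjoin k {x : k' | ∃ n : ℕ, 0 < n ∧ x ^ (p ^ n) ∈ Set.range (algebraMap k k') ∧ (p : k') ^ n * x ∈ Set.range (algebraMap k k')} = ⊤ ↔
      (Function.Surjective (algebraMap k k') ∨ (CharP k p ∧ IsPurelyInseparable k k')) := by
  have hb : (⊥ : IntermediateField k k') ≤
      IntermediateField.adjoin k {x : k' | ∃ n : ℕ, 0 < n ∧ x ^ (p ^ n) ∈ Set.range (algebraMap k k') ∧ (p : k') ^ n * x ∈ Set.range (algebraMap k k')} := bot_le
  constructor
  · intro h
    by_cases hc : (p : k') = 0
    · refine Or.inr ?_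
      haveI : Fact p.Prime := ⟨hp⟩
      have hk0 : (p : k) = 0 := (algebraMap k k').injective (by rw [map_natCast, hc, map_zero])
      haveI hchar : CharP k p := (CharP.charP_iff_prime_eq_zero hp).mpr hk0
      refine ⟨hchar, ?_⟩
      haveI : ExpChar k p := ExpChar.prime hp
      have := (IntermediateField.isPurelyInseparable_adjoin_iff_pow_mem (F := k) (E := k') p (S := {x : k' | ∃ n : ℕ, 0 < n ∧ x ^ (p ^ n) ∈ Set.range (algebraMap k k') ∧ (p : k') ^ n * x ∈ Set.range (algebraMap k k')})).mpr
        (fun x ⟨n, _, hx, _⟩ => ⟨n, hx⟩)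
      rw [h] at this
      exact (IntermediateField.topEquiv (F := k) (E := k')).isPurelyInseparable
    · refine Or.inl fun y => ?_
      have hsub : IntermediateField.adjoin k {x : k' | ∃ n : ℕ, 0 < n ∧ x ^ (p ^ n) ∈ Set.range (algebraMap k k') ∧ (p : k') ^ n * x ∈ Set.range (algebraMap k k')} ≤ ⊥ := by
        rw [IntermediateField.adjoin_le_iff]
        rintro x ⟨n, -, -, c, hcx⟩
        rw [SetLike.mem_coe, IntermediateField.mem_bot]
        refine ⟨c / (p : k) ^ n, ?_⟩
        rw [map_div₀, map_pow, map_natCast, hcx, mul_comm, mul_div_assoc, div_self (pow_ne_zero _ hc), mul_one]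
      rw [h] at hsub
      exact IntermediateField.mem_bot.mp (hsub IntermediateField.mem_top)
  · rintro (hs | ⟨hchar, hpi⟩)
    · exact eq_top_iff.mpr fun y _ => hb (IntermediateField.mem_bot.mpr (hs y))
    · haveI : ExpChar k p := ExpChar.prime hp
      refine eq_top_iff.mpr fun y _ => IntermediateField.subset_adjoin _ _ ?_
      obtain ⟨n, c, hn⟩ := IsPurelyInseparable.pow_mem k p y
      refine ⟨n + 1, Nat.succ_pos n, ⟨c ^ p, by rw [map_pow, hn, ← pow_mul, ← pow_succ]⟩, ⟨0, ?_⟩⟩
      have hp0 : (p : k') = 0 := by rw [← map_natCast (algebraMap k k'), CharP.cast_eq_zero, map_zero]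
      rw [map_zero, hp0, zero_pow (Nat.succ_ne_zero n), zero_mul]

end Groth.Agent.S9608
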