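import Groth.Statements.S9609
import Mathlib

set_option autoImplicit false
universe u
open CAlg

namespace Groth.Agent.S9609

open TensorProduct in
/-- Let R → S be a ring map which is injective on spectra and whose residue field extensions κ(p) → κ(q)
(q a prime of S with inverse image p) are purely inseparable: every element of κ(q) has a power with
exponent a power of the characteristic exponent lying in the image of κ(p). Then, given an arbitrary
R-algebra R', the induced map R' → R' ⊗_R S is likewise injective on spectra and has purely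
inseparable residue field extensions. -/
theorem result {R S R' : Type u} [CommRing R] [CommRing S] [CommRing R'] [Algebra R S] [Algebra R R']
    (hinj : Function.Injective (PrimeSpectrum.comap (algebraMap R S)))
    (hpi : ∀ (q : Ideal S) [q.IsPrime] (x : q.ResidueField), ∃ n : ℕ, x ^ (ringExpChar (q.comap (algebraMap R S)).ResidueField) ^ n ∈ Set.range (Ideal.ResidueField.map (q.comap (algebraMap R S)) q (algebraMap R S) rfl)) :
    Function.Injective (PrimeSpectrum.comap (algebraMap R' (R' ⊗[R] S))) ∧
      ∀ (q' : Ideal (R' ⊗[R] S)) [q'.IsPrime] (x : q'.ResidueField), ∃ n : ℕ, x ^ (ringExpChar (q'.comap (algebraMap R' (R' ⊗[R] S))).ResidueField) ^ n ∈ Set.range (Ideal.ResidueField.map (q'.comap (algebraMap R' (R' ⊗[R] S))) q' (algebraMap R' (R' ⊗[R] S)) rfl) := by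
  classical
  let T := R' ⊗[R] S
  let iS : S →+* T := (Algebra.TensorProduct.includeRight : S →ₐ[R] T).toRingHom
  have hiS : ∀ r, iS (algebraMap R S r) = algebraMap R' T (algebraMap R R' r) := fun r => by
    rw [← IsScalarTower.algebraMap_apply R R' T]
    exact (Algebra.TensorProduct.includeRight : S →ₐ[R] T).commutes r
  have hsum : ∀ x : T, ∃ A : Finset (R' × S), x = ∑ i ∈ A, i.1 ⊗ₜ[R] i.2 := TensorProduct.exists_finset
  -- the main computation
  have main : ∀ (p' : Ideal R') [p'.IsPrime] (q : Ideal S) [q.IsPrime],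
      q.comap (algebraMap R S) = p'.comap (algebraMap R R') → ∀ x : T, ∃ (N : ℕ) (y : p'.ResidueField),
        0 < N ∧ (∃ n, N = (ringExpChar p'.ResidueField) ^ n) ∧
        ∀ (q' : Ideal T) [q'.IsPrime] (h1 : p' = q'.comap (algebraMap R' T)), q = q'.comap iS →
          algebraMap T q'.ResidueField x ^ N = Ideal.ResidueField.map p' q' (algebraMap R' T) h1 y := by
    intro p' _ q _ hp x
    let p := q.comap (algebraMap R S)
    let lp : p.ResidueField →+* p'.ResidueField := Ideal.ResidueField.map p p' (algebraMap R R') hp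
    let lpq : p.ResidueField →+* q.ResidueField := Ideal.ResidueField.map p q (algebraMap R S) rfl
    let e := ringExpChar p.ResidueField
    have : ExpChar p'.ResidueField e := expChar_of_injective_ringHom lp.injective e
    have he' : ringExpChar p'.ResidueField = e := ringExpChar.eq _ e
    obtain ⟨A, hA⟩ := hsum x
    choose n hn using fun i : R' × S => hpi q (algebraMap S q.ResidueField i.2)
    let m := ∑ i ∈ A, n i
    have hc : ∀ i ∈ A, ∃ c : p.ResidueField, algebraMap S q.ResidueField i.2 ^ e ^ m = lpq c := by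
      intro i hi
      obtain ⟨c, hc⟩ := hn i
      refine ⟨c ^ e ^ (m - n i), ?_⟩
      rw [map_pow]
      show _ = (Ideal.ResidueField.map (q.comap (algebraMap R S)) q (algebraMap R S) rfl c) ^ _
      rw [hc, ← pow_mul, ← pow_add, Nat.add_sub_cancel' (Finset.single_le_sum (fun _ _ => Nat.zero_le _) hi)]
    choose c hc using hc
    refine ⟨e ^ m, ∑ i ∈ A.attach, algebraMap R' p'.ResidueField i.1.1 ^ e ^ m * lp (c i.1 i.2),
      Nat.pow_pos (expChar_pos p.ResidueField e), ⟨m, by rw [he']⟩, fun q' _ h1 h2 => ?_⟩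
    let lq : q.ResidueField →+* q'.ResidueField := Ideal.ResidueField.map q q' iS h2
    let l : p'.ResidueField →+* q'.ResidueField := Ideal.ResidueField.map p' q' (algebraMap R' T) h1
    have hcomm : l.comp lp = lq.comp lpq := Ideal.ResidueField.ringHom_ext (RingHom.ext fun r => by
      simp only [RingHom.comp_apply, l, lp, lq, lpq, Ideal.ResidueField.map_algebraMap, hiS])
    have : ExpChar q'.ResidueField e := expChar_of_injective_ringHom l.injective e
    rw [hA, map_sum, sum_pow_char_pow, ← Finset.sum_attach, map_sum]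
    refine Finset.sum_congr rfl fun i _ => ?_
    show _ = l _
    rw [map_mul, map_pow, show l (lp (c i.1 i.2)) = lq (lpq (c i.1 i.2)) from RingHom.congr_fun hcomm _,
      ← hc i.1 i.2, map_pow, ← mul_pow]
    congr 1
    simp only [l, lq, Ideal.ResidueField.map_algebraMap]
    rw [← map_mul]
    congr 1
    show (i.1.1 ⊗ₜ[R] i.1.2 : T) = (i.1.1 ⊗ₜ[R] (1 : S)) * ((1 : R') ⊗ₜ[R] i.1.2)
    rw [Algebra.TensorProduct.tmul_mul_tmul, mul_one, one_mul]
  refine ⟨fun P₁ P₂ h => ?_, fun q' _ x => ?_⟩
  · have hiS' : P₁.asIdeal.comap iS = P₂.asIdeal.comap iS := by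
      refine congrArg PrimeSpectrum.asIdeal (@hinj (PrimeSpectrum.comap iS P₁) (PrimeSpectrum.comap iS P₂) ?_)
      refine PrimeSpectrum.ext (Ideal.ext fun r => ?_)
      show iS (algebraMap R S r) ∈ P₁.asIdeal ↔ iS (algebraMap R S r) ∈ P₂.asIdeal
      rw [hiS]
      exact SetLike.ext_iff.mp (congrArg PrimeSpectrum.asIdeal h) _
    have hpp : ∀ r, algebraMap R' T r ∈ P₁.asIdeal ↔ algebraMap R' T r ∈ P₂.asIdeal := fun r =>
      SetLike.ext_iff.mp (congrArg PrimeSpectrum.asIdeal h) r
    have hp1 : (P₁.asIdeal.comap iS).comap (algebraMap R S) =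
        (P₁.asIdeal.comap (algebraMap R' T)).comap (algebraMap R R') := by
      ext r; simp only [Ideal.mem_comap, hiS]
    refine PrimeSpectrum.ext (Ideal.ext fun x => ?_)
    obtain ⟨N, y, hN, -, hy⟩ := main (P₁.asIdeal.comap (algebraMap R' T)) (P₁.asIdeal.comap iS) hp1 x
    have e1 := hy P₁.asIdeal rfl rfl
    have e2 := hy P₂.asIdeal (Ideal.ext hpp) hiS'
    rw [← Ideal.algebraMap_residueField_eq_zero, ← Ideal.algebraMap_residueField_eq_zero (I := P₂.asIdeal),
      ← pow_eq_zero_iff hN.ne', e1, ← pow_eq_zero_iff (a := algebraMap T P₂.asIdeal.ResidueField x) hN.ne', e2,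
      map_eq_zero, map_eq_zero]
  · have hp1 : (q'.comap iS).comap (algebraMap R S) =
        (q'.comap (algebraMap R' T)).comap (algebraMap R R') := by
      ext r; simp only [Ideal.mem_comap, hiS]
    obtain ⟨a, b, hb, rfl⟩ := IsFractionRing.div_surjective (A := T ⧸ q') x
    obtain ⟨a, rfl⟩ := Ideal.Quotient.mk_surjective a
    obtain ⟨b, rfl⟩ := Ideal.Quotient.mk_surjective b
    obtain ⟨Na, ya, -, ⟨na, hna⟩, hya⟩ := main _ _ hp1 a
    obtain ⟨Nb, yb, -, ⟨nb, hnb⟩, hyb⟩ := main _ _ hp1 b
    refine ⟨na + nb, ya ^ Nb / yb ^ Na, ?_⟩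
    rw [map_div₀, map_pow, map_pow, ← hya q' rfl rfl, ← hyb q' rfl rfl, ← pow_mul, ← pow_mul,
      Ideal.algebraMap_quotient_residueField_mk, Ideal.algebraMap_quotient_residueField_mk, div_pow,
      pow_add, ← hna, ← hnb, mul_comm Nb Na]

end Groth.Agent.S9609
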