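import Groth.Statements.S9610
import Mathlib.LinearAlgebra.Dimension.Finrank
import Mathlib.Algebra.Polynomial.Monic
import Mathlib.Tactic

set_option autoImplicit false
universe u
open CAlg

namespace Groth.Agent.S9610

/-- Let k be a field and V a nonzero k-vector space with dim_k V < #k as cardinals. Then every k-linear
endomorphism T of V admits a monic polynomial P over k for which P(T) is not invertible. -/
theorem result {k V : Type u} [Field k] [AddCommGroup V] [Module k V] [Nontrivial V] (hV : Module.rank k V < Cardinal.mk k) (T : Module.End k V) :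
    ∃ P : Polynomial k, P.Monic ∧ ¬ IsUnit (Polynomial.aeval T P) := by
  classical
  by_contra hc
  push Not at hc
  obtain ⟨v, hv⟩ := exists_ne (0 : V)
  let S : k → Module.End k V := fun a => Polynomial.aeval T (Polynomial.X - Polynomial.C a)
  have hS : ∀ a, IsUnit (S a) := fun a => hc _ (Polynomial.monic_X_sub_C a)
  let w : k → V := fun a => (↑(hS a).unit⁻¹ : Module.End k V) v
  have hw : ∀ a, S a (w a) = v := fun a => by
    show (S a * (↑(hS a).unit⁻¹ : Module.End k V)) v = v
    rw [IsUnit.mul_val_inv]; rfl
  have hli : LinearIndependent k w := by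
    rw [linearIndependent_iff']
    intro s g hsum a ha
    let Q : Polynomial k :=
      ∑ b ∈ s, Polynomial.C (g b) * ∏ c ∈ s.erase b, (Polynomial.X - Polynomial.C c)
    have hfac : ∀ b ∈ s, Polynomial.aeval T (∏ c ∈ s, (Polynomial.X - Polynomial.C c)) (w b) =
        Polynomial.aeval T (∏ c ∈ s.erase b, (Polynomial.X - Polynomial.C c)) v := by
      intro b hb
      rw [← Finset.prod_erase_mul _ _ hb, map_mul, Module.End.mul_apply]
      exact congrArg _ (hw b)
    have hQv : Polynomial.aeval T Q v = 0 := by
      have h0 := congrArg (Polynomial.aeval T (∏ c ∈ s, (Polynomial.X - Polynomial.C c))) hsum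
      rw [map_sum, map_zero] at h0
      rw [← h0]
      simp only [Q, map_sum, LinearMap.sum_apply]
      refine Finset.sum_congr rfl fun b hb => ?_
      rw [map_mul, Polynomial.aeval_C, Module.End.mul_apply, Module.algebraMap_end_apply, map_smul,
        hfac b hb]
    have hQ0 : Q = 0 := by
      by_contra hne
      have hu := hc _ (Polynomial.monic_mul_leadingCoeff_inv hne)
      apply hv
      refine ((Module.End.isUnit_iff _).mp hu).injective ?_
      rw [map_zero, mul_comm, map_mul, Module.End.mul_apply, hQv, map_zero]
    have heval := congrArg (Polynomial.eval a) hQ0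
    simp only [Q, Polynomial.eval_finsetSum, Polynomial.eval_mul, Polynomial.eval_C,
      Polynomial.eval_prod, Polynomial.eval_sub, Polynomial.eval_X, Polynomial.eval_zero] at heval
    rw [Finset.sum_eq_single a] at heval
    · exact (mul_eq_zero.mp heval).resolve_right (Finset.prod_ne_zero_iff.mpr fun c hc =>
        sub_ne_zero.mpr (Finset.mem_erase.mp hc).1.symm)
    · intro b _ hba
      exact mul_eq_zero_of_right _
        (Finset.prod_eq_zero (Finset.mem_erase.mpr ⟨hba.symm, ha⟩) (sub_self a))
    · exact fun h => absurd ha h
  exact absurd hli.cardinal_le_rank (not_le.mpr hV)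

end Groth.Agent.S9610
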