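import Groth.Statements.S9611
import Mathlib.Tactic
import Mathlib.RingTheory.Jacobson.Ring

set_option autoImplicit false
universe u
open CAlg

namespace Groth.Agent.S9611

/-- Let R be a Jacobson ring, p a prime ideal of R which is not maximal, and f an element of R not in p.
Then the set of primes of R containing p and not containing f is infinite. -/
theorem result {R : Type u} [CommRing R] [IsJacobsonRing R] (p : Ideal R) [p.IsPrime] (hp : ¬ p.IsMaximal) (f : R) (hf : f ∉ p) :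
    {q : PrimeSpectrum R | p ≤ q.asIdeal ∧ f ∉ q.asIdeal}.Infinite := by
  intro hfin
  have hinf : p = sInf {m : Ideal R | p ≤ m ∧ m.IsMaximal} :=
    (isJacobsonRing_iff_prime_eq.mp ‹_› p inferInstance).symm
  have hB : {m : Ideal R | p ≤ m ∧ m.IsMaximal ∧ f ∉ m}.Finite :=
    (hfin.image PrimeSpectrum.asIdeal).subset fun m hm =>
      ⟨⟨m, hm.2.1.isPrime⟩, ⟨hm.1, hm.2.2⟩, rfl⟩
  obtain ⟨g, hg, hgp⟩ : ∃ g, g ∈ hB.toFinset.inf id ∧ g ∉ p := by
    by_contra hc
    push Not at hc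
    obtain ⟨m, hm, hmp⟩ :=
      ((‹p.IsPrime›).inf_le' (s := hB.toFinset) (f := id)).mp (fun x hx => hc x hx)
    obtain ⟨hpm, hmax, -⟩ := hB.mem_toFinset.mp hm
    exact hp (le_antisymm hpm hmp ▸ hmax)
  have : f * g ∈ p := by
    rw [hinf, Ideal.mem_sInf]
    rintro m ⟨hpm, hmax⟩
    by_cases hfm : f ∈ m
    · exact Ideal.mul_mem_right _ _ hfm
    · exact Ideal.mul_mem_left _ _ (Submodule.mem_finsetInf.mp hg m (hB.mem_toFinset.mpr ⟨hpm, hmax, hfm⟩))
  exact (‹p.IsPrime›.mem_or_mem this).elim hf hgp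

end Groth.Agent.S9611
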