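import Groth.Statements.S9613
import Mathlib.Tactic
import Mathlib.RingTheory.Jacobson.Ring
import Mathlib.RingTheory.Algebraic.Integral
import Mathlib.RingTheory.Localization.Away.Basic
import Mathlib.RingTheory.Localization.Integral

set_option autoImplicit false
universe u
open CAlg

namespace Groth.Agent.S9613

/-- Let R → K be an injective ring map into a field K which makes K an R-algebra of finite type. Then
for some nonzero f ∈ R the localization R_f is a field over which K is finite; here R_f is realised
as the R-subalgebra of K that is a localization of R away from f. -/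
theorem result {R K : Type u} [CommRing R] [Field K] [Algebra R K] (hinj : Function.Injective (algebraMap R K)) [Algebra.FiniteType R K] :
    ∃ f : R, f ≠ 0 ∧ ∃ Rf : Subalgebra R K, IsLocalization.Away f Rf ∧ IsField Rf ∧ Module.Finite Rf K := by
  classical
  have hdom : IsDomain R := hinj.isDomain (algebraMap R K)
  have : FaithfulSMul R K := (faithfulSMul_iff_algebraMap_injective R K).mpr hinj
  let L := FractionRing R
  let algLK : Algebra L K := FractionRing.liftAlgebra R K
  have : Algebra.FiniteType L K := Algebra.FiniteType.of_restrictScalars_finiteType R L K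
  have : Module.Finite L K := finite_of_finite_type_of_isJacobsonRing L K
  obtain ⟨g, hg⟩ := (inferInstance : Algebra.FiniteType R K).1
  have halg : ∀ x : K, IsAlgebraic R x := fun x =>
    (IsFractionRing.isAlgebraic_iff R L K).mpr (IsAlgebraic.of_finite L x)
  choose c hc hci using fun x => (halg x).exists_integral_multiple
  let f := ∏ x ∈ g, c x
  have hf : f ≠ 0 := Finset.prod_ne_zero_iff.mpr fun x _ => hc x
  have hfK : algebraMap R K f ≠ 0 := (map_ne_zero_iff _ hinj).mpr hf
  let Rf : Subalgebra R K := Algebra.adjoin R {(algebraMap R K f)⁻¹}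
  have hinvmem : (algebraMap R K f)⁻¹ ∈ Rf := Algebra.subset_adjoin rfl
  have hloc : IsLocalization.Away f Rf := by
    refine ⟨⟨?_, ?_, ?_⟩⟩
    · rintro ⟨_, n, rfl⟩
      have hu : IsUnit (algebraMap R Rf f) :=
        IsUnit.of_mul_eq_one (⟨_, hinvmem⟩ : Rf) (Subtype.ext (mul_inv_cancel₀ hfK))
      simpa using hu.pow n
    · intro z
      obtain ⟨z, hz⟩ := z
      have key : ∃ (r : R) (n : ℕ), z * algebraMap R K f ^ n = algebraMap R K r := by
        refine Algebra.adjoin_induction ?_ ?_ ?_ ?_ hz
        · rintro x rfl; exact ⟨1, 1, by simp [hfK]⟩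
        · exact fun r => ⟨r, 0, by simp⟩
        · rintro x y _ _ ⟨r, n, hr⟩ ⟨r', n', hr'⟩
          refine ⟨r * f ^ n' + r' * f ^ n, n + n', ?_⟩
          simp only [map_add, map_mul, map_pow, ← hr, ← hr']; ring
        · rintro x y _ _ ⟨r, n, hr⟩ ⟨r', n', hr'⟩
          refine ⟨r * r', n + n', ?_⟩
          simp only [map_mul, ← hr, ← hr']; ring
      obtain ⟨r, n, h⟩ := key
      exact ⟨⟨r, ⟨f ^ n, n, rfl⟩⟩, Subtype.ext (by simpa using h)⟩
    · intro x y hxy
      exact ⟨1, by simpa using hinj (congrArg Subtype.val hxy)⟩
  have hint : Algebra.IsIntegral Rf K := by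
    have : (⊤ : Subalgebra R K) ≤ (integralClosure Rf K).restrictScalars R := by
      rw [← hg, Algebra.adjoin_le_iff]
      intro x hx
      obtain ⟨u, hu⟩ : c x ∣ f := Finset.dvd_prod_of_mem c hx
      have hcx : algebraMap R K (c x) ≠ 0 := (map_ne_zero_iff _ hinj).mpr (hc x)
      have hmem : algebraMap R K u * (algebraMap R K f)⁻¹ ∈ Rf :=
        mul_mem (Subalgebra.algebraMap_mem _ _) hinvmem
      have h1 : x = algebraMap Rf K ⟨_, hmem⟩ * (c x • x) := by
        show x = algebraMap R K u * (algebraMap R K f)⁻¹ * (c x • x)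
        have hu0 : algebraMap R K u ≠ 0 := fun h => hfK (by rw [hu, map_mul, h, mul_zero])
        rw [Algebra.smul_def, hu, map_mul]; field_simp
      show IsIntegral Rf x
      rw [h1]
      exact isIntegral_algebraMap.mul (hci x).tower_top
    exact ⟨fun x => this Algebra.mem_top⟩
  have : Algebra.FiniteType Rf K := Algebra.FiniteType.of_restrictScalars_finiteType R Rf K
  exact ⟨f, hf, Rf, hloc, isField_of_isIntegral_of_isField (FaithfulSMul.algebraMap_injective Rf K)
    (Field.toIsField K), Algebra.IsIntegral.finite⟩

end Groth.Agent.S9613
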