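import Groth.Statements.S9614
import Groth.Agent.Calg5.Graded

set_option autoImplicit false
universe u
open CAlg

namespace Groth.Agent.S9614

/-- Let S be an ℕ-graded ring and M a finitely generated graded S-module, graded in nonnegative degrees
(the source allows all integer degrees). If x_1, …, x_n are homogeneous elements of M which generate
M modulo S₊ M (S₊ the irrelevant ideal), then x_1, …, x_n generate M. -/
theorem result {R S : Type u} [CommRing R] [CommRing S] [Algebra R S] (𝒜 : ℕ → Submodule R S) [GradedAlgebra 𝒜]
    (M : Type u) [AddCommGroup M] [Module R M] [Module S M] [IsScalarTower R S M] [Module.Finite S M] (ℳ : ℕ → Submodule R M) [DirectSum.Decomposition ℳ] [SetLike.GradedSMul 𝒜 ℳ]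
    {n : ℕ} (x : Fin n → M) (hx : ∀ i, SetLike.IsHomogeneousElem ℳ (x i))
    (h : Submodule.span S (Set.range x) ⊔ (HomogeneousIdeal.irrelevant 𝒜).toIdeal • (⊤ : Submodule S M) = ⊤) :
    Submodule.span S (Set.range x) = ⊤ := by
  set N := Submodule.span S (Set.range x) with hN
  have hNc : ∀ y ∈ N, ∀ n, Groth.Calg5.Graded.comp ℳ n y ∈ N := by
    intro y hy
    induction hy using Submodule.span_induction with
    | mem z hz =>
      intro n
      obtain ⟨i, rfl⟩ := hz
      obtain ⟨d, hd⟩ := hx i
      rcases eq_or_ne d n with rfl | hne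
      · rw [Groth.Calg5.Graded.comp_of_mem ℳ hd]; exact Submodule.subset_span ⟨i, rfl⟩
      · rw [Groth.Calg5.Graded.comp_of_mem_ne ℳ hd hne]; exact zero_mem _
    | zero => intro n; simp
    | add a b _ _ ha hb => intro n; rw [map_add]; exact add_mem (ha n) (hb n)
    | smul s a _ ha =>
      intro n
      rw [Groth.Calg5.Graded.comp_smul_expand 𝒜 ℳ]
      exact Submodule.sum_mem _ fun c _ => N.smul_mem _ (ha _)
  have key : ∀ n, ∀ m : M, Groth.Calg5.Graded.comp ℳ n m ∈ N := by
    intro n
    induction n using Nat.strong_induction_on with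
    | _ n ih =>
      intro m
      obtain ⟨y, hy, z, hz, rfl⟩ := Submodule.mem_sup.mp (h.ge (Submodule.mem_top (x := m)))
      rw [map_add]
      refine add_mem (hNc y hy n) ?_
      clear hy
      refine Submodule.smul_induction_on hz (fun s hs w _ => ?_)
        (fun a b ha hb => by rw [map_add]; exact add_mem ha hb)
      ·
        rw [Groth.Calg5.Graded.comp_smul_expand 𝒜 ℳ]
        refine Submodule.sum_mem _ fun c hc => ?_
        rcases Nat.eq_zero_or_pos c with rfl | hpos
        · rw [Groth.Calg5.Graded.decompose_zero_of_mem_irrelevant 𝒜 hs, zero_smul]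
          exact zero_mem _
        · exact N.smul_mem _ (ih _ (by have := Finset.mem_range.mp hc; omega) w)
  exact eq_top_iff.mpr fun m _ => Groth.Calg5.Graded.mem_of_comp ℳ fun n => key n m

end Groth.Agent.S9614
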