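import Groth.Statements.S9615
import Mathlib

set_option autoImplicit false
universe u
open CAlg

namespace Groth.Agent.S9615

/-- Let R → S be a homomorphism of ℕ-graded rings, i.e. the structure map carries each graded piece R_i
into S_i. If an element s of S is integral over R, then each homogeneous component of s is integral
over R; so the integral closure of R in S is a graded subring of S. -/
theorem result {R S : Type u} [CommRing R] [CommRing S] [Algebra R S] (ℛ : ℕ → AddSubgroup R) [GradedRing ℛ] (𝒮 : ℕ → AddSubgroup S) [GradedRing 𝒮]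
    (hmap : ∀ i : ℕ, ∀ r ∈ ℛ i, algebraMap R S r ∈ 𝒮 i) (s : S) (hs : IsIntegral R s) (i : ℕ) :
    IsIntegral R ((DirectSum.decompose 𝒮 s i : 𝒮 i) : S) := by
  classical
  let σ : S →+* Polynomial S := (DirectSum.toSemiring
      (fun i => (Polynomial.monomial i).toAddMonoidHom.comp (𝒮 i).subtype) (by simp)
      (fun ai aj => by simp [Polynomial.monomial_mul_monomial])).comp
      (DirectSum.decomposeRingEquiv 𝒮).toRingHom
  let τ : R →+* Polynomial R := (DirectSum.toSemiring
      (fun i => (Polynomial.monomial i).toAddMonoidHom.comp (ℛ i).subtype) (by simp)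
      (fun ai aj => by simp [Polynomial.monomial_mul_monomial])).comp
      (DirectSum.decomposeRingEquiv ℛ).toRingHom
  have hσ : ∀ (j : ℕ) (x : S), x ∈ 𝒮 j → σ x = Polynomial.monomial j x := by
    intro j x hx
    have e : (DirectSum.decomposeRingEquiv 𝒮).toRingHom x = DirectSum.of _ j ⟨x, hx⟩ :=
      DirectSum.decompose_of_mem 𝒮 hx
    simp only [σ, RingHom.comp_apply, e]
    erw [DirectSum.toSemiring_of]
    rfl
  have hτ : ∀ (j : ℕ) (x : R), x ∈ ℛ j → τ x = Polynomial.monomial j x := by
    intro j x hx
    have e : (DirectSum.decomposeRingEquiv ℛ).toRingHom x = DirectSum.of _ j ⟨x, hx⟩ :=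
      DirectSum.decompose_of_mem ℛ hx
    simp only [τ, RingHom.comp_apply, e]
    erw [DirectSum.toSemiring_of]
    rfl
  let _ : Algebra (Polynomial R) (Polynomial S) :=
    (Polynomial.mapRingHom (algebraMap R S)).toAlgebra
  have hcomp : (algebraMap (Polynomial R) (Polynomial S)).comp τ = σ.comp (algebraMap R S) := by
    refine RingHom.ext fun r => ?_
    induction r using DirectSum.Decomposition.inductionOn ℛ with
    | zero => simp
    | @homogeneous j m =>
      simp only [RingHom.comp_apply, hτ j m m.2, hσ j _ (hmap j m m.2)]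
      exact Polynomial.map_monomial _
    | add a b ha hb => simp only [map_add, ha, hb]
  have h := Polynomial.isIntegral_iff_isIntegral_coeff.mp (hs.map_of_comp_eq τ σ hcomp) i
  suffices e : (σ s).coeff i = ((DirectSum.decompose 𝒮 s i : 𝒮 i) : S) by rwa [e] at h
  clear hs h
  induction s using DirectSum.Decomposition.inductionOn 𝒮 with
  | zero => simp
  | @homogeneous j m =>
    rw [hσ j m m.2, Polynomial.coeff_monomial]
    split_ifs with hji
    · subst hji; rw [DirectSum.decompose_of_mem_same 𝒮 m.2]
    · rw [DirectSum.decompose_of_mem_ne 𝒮 m.2 hji]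
  | add a b ha hb =>
    rw [map_add, Polynomial.coeff_add, ha, hb, DirectSum.decompose_add, DirectSum.add_apply,
      AddSubgroup.coe_add]

end Groth.Agent.S9615
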