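import Groth.Statements.S9616
import Groth.Agent.Calg5.Graded

set_option autoImplicit false
universe u
open CAlg

namespace Groth.Agent.S9616

/-- Let S be an ℕ-graded ring, p_1, …, p_r homogeneous prime ideals of S and I ⊆ S₊ a homogeneous ideal
not contained in any p_i. Then there is a homogeneous element x ∈ I of positive degree with x ∉ p_i
for all i. -/
theorem result {R S : Type u} [CommRing R] [CommRing S] [Algebra R S] (𝒜 : ℕ → Submodule R S) [GradedAlgebra 𝒜]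
    {r : ℕ} (p : Fin r → HomogeneousIdeal 𝒜) (hp : ∀ i, (p i).toIdeal.IsPrime) (I : HomogeneousIdeal 𝒜) (hI : I ≤ HomogeneousIdeal.irrelevant 𝒜) (h : ∀ i, ¬ I ≤ p i) :
    ∃ x : S, ∃ d : ℕ, 0 < d ∧ x ∈ 𝒜 d ∧ x ∈ I ∧ ∀ i, x ∉ p i := by
  classical
  suffices H : ∀ T : Finset (Fin r), ∃ x : S, ∃ d : ℕ, 0 < d ∧ x ∈ 𝒜 d ∧ x ∈ I ∧ ∀ i ∈ T, x ∉ p i by
    obtain ⟨x, d, hd, hxd, hxI, hx⟩ := H Finset.univ
    exact ⟨x, d, hd, hxd, hxI, fun i => hx i (Finset.mem_univ i)⟩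
  intro T
  induction T using Finset.strongInduction with
  | H T ih =>
    by_cases hc : ∃ i ∈ T, ∃ j ∈ T, i ≠ j ∧ (p i).toIdeal ≤ (p j).toIdeal
    · obtain ⟨i, hi, j, hj, hij, hle⟩ := hc
      obtain ⟨x, d, hd, hxd, hxI, hx⟩ := ih (T.erase i) (Finset.erase_ssubset hi)
      refine ⟨x, d, hd, hxd, hxI, fun l hl => ?_⟩
      rcases eq_or_ne l i with rfl | hli
      · exact fun hxl => hx j (Finset.mem_erase.mpr ⟨hij.symm, hj⟩) (hle hxl)
      · exact hx l (Finset.mem_erase.mpr ⟨hli, hl⟩)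
    push Not at hc
    have hg : ∀ j, ∀ i, ∃ (e : ℕ) (y : S), y ∈ 𝒜 e ∧ (j ∈ T → i ∈ T.erase j →
        y ∈ (p i).toIdeal ∧ y ∉ (p j).toIdeal) := by
      intro j i
      by_cases hh : j ∈ T ∧ i ∈ T.erase j
      · obtain ⟨e, y, h1, h2, h3⟩ := Groth.Calg5.Graded.exists_homogeneous_notMem (p i)
          (hc i (Finset.mem_of_mem_erase hh.2) j hh.1 (Finset.ne_of_mem_erase hh.2))
        exact ⟨e, y, h1, fun _ _ => ⟨h2, h3⟩⟩
      · exact ⟨0, 0, zero_mem _, fun ha hb => absurd ⟨ha, hb⟩ hh⟩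
    choose e g hge hg using hg
    have hh : ∀ j, ∃ (e : ℕ) (y : S), 0 < e ∧ y ∈ 𝒜 e ∧ y ∈ I.toIdeal ∧ y ∉ (p j).toIdeal := by
      intro j
      obtain ⟨e, y, h1, h2, h3⟩ := Groth.Calg5.Graded.exists_homogeneous_notMem I (h j)
      refine ⟨e, y, ?_, h1, h2, h3⟩
      by_contra he
      obtain rfl : e = 0 := by omega
      have := Groth.Calg5.Graded.decompose_zero_of_mem_irrelevant 𝒜 (hI h2)
      rw [DirectSum.decompose_of_mem_same 𝒜 h1] at this
      exact h3 (this ▸ zero_mem _)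
    choose f hf hf0 hfd hfI hfn using hh
    let d : Fin r → ℕ := fun j => f j + ∑ i ∈ T.erase j, e j i
    let z : Fin r → S := fun j => hf j * ∏ i ∈ T.erase j, g j i
    have hzd : ∀ j, z j ∈ 𝒜 (d j) := fun j =>
      SetLike.mul_mem_graded (hfd j) (SetLike.prod_mem_graded _ _ _ fun i _ => hge j i)
    have hdpos : ∀ j, 0 < d j := fun j => lt_of_lt_of_le (hf0 j) (Nat.le_add_right _ _)
    let D := ∏ j ∈ T, d j
    have hDpos : 0 < D := Finset.prod_pos fun j _ => hdpos j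
    refine ⟨∑ j ∈ T, z j ^ (D / d j), D, hDpos, Submodule.sum_mem _ fun j hj => ?_,
      Ideal.sum_mem I.toIdeal fun j hj => ?_, fun i hi hmem => ?_⟩
    · have := SetLike.pow_mem_graded (D / d j) (hzd j)
      rwa [smul_eq_mul, Nat.div_mul_cancel (Finset.dvd_prod_of_mem d hj)] at this
    · exact I.toIdeal.pow_mem_of_mem (I.toIdeal.mul_mem_right _ (hfI j)) _
        (Nat.div_pos (Nat.le_of_dvd hDpos (Finset.dvd_prod_of_mem d hj)) (hdpos j))
    · rw [← HomogeneousIdeal.mem_iff, ← Finset.add_sum_erase T _ hi] at hmem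
      have hrest : ∑ j ∈ T.erase i, z j ^ (D / d j) ∈ (p i).toIdeal := by
        refine Ideal.sum_mem _ fun j hj => Ideal.pow_mem_of_mem _ (Ideal.mul_mem_left _ _ ?_) _ ?_
        · exact Ideal.prod_mem _ (Finset.mem_erase.mpr ⟨(Finset.ne_of_mem_erase hj).symm, hi⟩)
            (hg j i (Finset.mem_of_mem_erase hj)
              (Finset.mem_erase.mpr ⟨(Finset.ne_of_mem_erase hj).symm, hi⟩)).1
        · exact Nat.div_pos (Nat.le_of_dvd hDpos
            (Finset.dvd_prod_of_mem d (Finset.mem_of_mem_erase hj))) (hdpos j)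
      have hz : z i ∈ (p i).toIdeal :=
        (hp i).mem_of_pow_mem _ ((Submodule.add_mem_iff_left _ hrest).mp hmem)
      rcases (hp i).mem_or_mem hz with h1 | h1
      · exact hfn i h1
      · obtain ⟨l, hl, h2⟩ := ((hp i).prod_mem_iff).mp h1
        exact (hg i l hi hl).2 h2

end Groth.Agent.S9616
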