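import Groth.Statements.S9617
import Groth.Agent.Calg5.Graded

set_option autoImplicit false
universe u
open CAlg

namespace Groth.Agent.S9617

/-- Let S be an ℕ-graded ring, presented as a graded algebra over a ring A mapping onto S₀, such that S
is of finite type over A, i.e. over S₀. If M is a finitely generated graded S-module, graded in
nonnegative degrees (the source allows all integer degrees), then each graded piece M_n is a finite
module over A, i.e. over S₀. -/
theorem result {A S : Type u} [CommRing A] [CommRing S] [Algebra A S] (𝒜 : ℕ → Submodule A S) [GradedAlgebra 𝒜]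
    (h0 : ∀ s ∈ 𝒜 0, s ∈ Set.range (algebraMap A S)) [Algebra.FiniteType A S]
    (M : Type u) [AddCommGroup M] [Module A M] [Module S M] [IsScalarTower A S M] [Module.Finite S M] (ℳ : ℕ → Submodule A M) [DirectSum.Decomposition ℳ] [SetLike.GradedSMul 𝒜 ℳ] (n : ℕ) :
    Module.Finite A (ℳ n) := by
  classical
  have : (Algebra.FiniteType A S) := ‹_›
  obtain ⟨T, hT⟩ := Algebra.FiniteType.out (R := A) (A := S)
  let G : Finset (ℕ × S) := (T.biUnion fun t => (DirectSum.decompose 𝒜 t).support.image
    fun i => (i, (DirectSum.decompose 𝒜 t i : S))).filter fun q => 0 < q.1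
  have hGd : ∀ q ∈ G, q.2 ∈ 𝒜 q.1 := by
    intro q hq
    simp only [G, Finset.mem_filter, Finset.mem_biUnion, Finset.mem_image] at hq
    obtain ⟨⟨t, _, i, _, rfl⟩, _⟩ := hq
    exact (DirectSum.decompose 𝒜 t i).2
  let J : Ideal S := Ideal.span ((G.image Prod.snd : Finset S) : Set S)
  have hJ0 : ∀ s ∈ J, (DirectSum.decompose 𝒜 s 0 : S) = 0 := by
    intro s hs
    refine Groth.Calg5.Graded.decompose_zero_of_mem_irrelevant 𝒜 ?_
    refine Ideal.span_le.mpr ?_ hs
    intro g hg
    obtain ⟨q, hq, rfl⟩ := Finset.mem_image.mp hg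
    exact HomogeneousIdeal.mem_irrelevant_of_mem 𝒜 (Finset.mem_filter.mp hq).2 (hGd q hq)
  have hdec : ∀ s : S, ∃ a : A, s - algebraMap A S a ∈ J := by
    intro s
    have hs : s ∈ Algebra.adjoin A (T : Set S) := hT ▸ Algebra.mem_top
    induction hs using Algebra.adjoin_induction with
    | mem t ht =>
      obtain ⟨a, ha⟩ := h0 _ (DirectSum.decompose 𝒜 t 0).2
      refine ⟨a, ?_⟩
      have e := Finset.sum_subset
        (Finset.subset_insert 0 (DirectSum.decompose 𝒜 t).support)
        (f := fun i => (DirectSum.decompose 𝒜 t i : S)) (fun i _ hi => by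
          simp [DFinsupp.notMem_support_iff.mp hi])
      rw [DirectSum.sum_support_decompose, ← Finset.add_sum_erase _ _ (Finset.mem_insert_self 0 _),
        ← ha] at e
      rw [show t - algebraMap A S a = ∑ i ∈ (insert 0 (DirectSum.decompose 𝒜 t).support).erase 0,
        (DirectSum.decompose 𝒜 t i : S) from by linear_combination e]
      refine Ideal.sum_mem _ fun i hi => Ideal.subset_span ?_
      have hi0 := Finset.ne_of_mem_erase hi
      have hisupp : i ∈ (DirectSum.decompose 𝒜 t).support :=
        (Finset.mem_insert.mp (Finset.mem_of_mem_erase hi)).resolve_left hi0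
      exact Finset.mem_image.mpr ⟨(i, _), Finset.mem_filter.mpr
        ⟨Finset.mem_biUnion.mpr ⟨t, ht, Finset.mem_image.mpr ⟨i, hisupp, rfl⟩⟩,
          Nat.pos_of_ne_zero hi0⟩, rfl⟩
    | algebraMap a => exact ⟨a, by simp⟩
    | add x y _ _ hx hy =>
      obtain ⟨a, ha⟩ := hx
      obtain ⟨b, hb⟩ := hy
      exact ⟨a + b, by rw [map_add, add_sub_add_comm]; exact add_mem ha hb⟩
    | mul x y _ _ hx hy =>
      obtain ⟨a, ha⟩ := hx
      obtain ⟨b, hb⟩ := hy
      refine ⟨a * b, ?_⟩
      rw [map_mul, show x * y - algebraMap A S a * algebraMap A S b =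
        (x - algebraMap A S a) * y + algebraMap A S a * (y - algebraMap A S b) by ring]
      exact add_mem (J.mul_mem_right _ ha) (J.mul_mem_left _ hb)
  obtain ⟨U, hU⟩ := Module.Finite.fg_top (R := S) (M := M)
  induction n using Nat.strong_induction_on with
  | _ n ih =>
    let P : Submodule A M :=
      Submodule.span A ((U.image (Groth.Calg5.Graded.comp ℳ n) : Finset M) : Set M) ⊔
        ⨆ q : G, if q.1.1 ≤ n then (ℳ (n - q.1.1)).map
          ((LinearMap.lsmul S M q.1.2).restrictScalars A) else ⊥
    have hPfg : P.FG := by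
      refine (Submodule.fg_span (Finset.finite_toSet _)).sup (Submodule.fg_iSup _ fun q => ?_)
      split_ifs with hq
      · have hpos : 0 < q.1.1 := (Finset.mem_filter.mp q.2).2
        have := ih (n - q.1.1) (by omega)
        exact ((Module.Finite.iff_fg).mp this).map _
      · exact Submodule.fg_bot
    suffices h : ℳ n = P by
      exact Module.Finite.iff_fg.mpr (h ▸ hPfg)
    have hPle : P ≤ ℳ n := by
      refine sup_le (Submodule.span_le.mpr ?_) (iSup_le fun q => ?_)
      · intro m hm
        obtain ⟨u, _, rfl⟩ := Finset.mem_image.mp hm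
        exact Groth.Calg5.Graded.comp_mem ℳ n u
      · split_ifs with hq
        · rintro _ ⟨m, hm, rfl⟩
          have := SetLike.GradedSMul.smul_mem (hGd q.1 q.2) hm
          rwa [show q.1.1 +ᵥ (n - q.1.1) = n from Nat.add_sub_cancel' hq] at this
        · exact bot_le
    refine le_antisymm (fun m hm => ?_) hPle
    suffices H : ∀ y : M, Groth.Calg5.Graded.comp ℳ n y ∈ P by
      simpa [Groth.Calg5.Graded.comp_of_mem ℳ hm] using H m
    intro y
    have hy : y ∈ Submodule.span S (U : Set M) := hU ▸ Submodule.mem_top
    induction hy using Submodule.span_induction with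
    | mem u hu =>
      exact Submodule.mem_sup_left (Submodule.subset_span (Finset.mem_image_of_mem _ hu))
    | zero => simp
    | add a b _ _ ha hb => rw [map_add]; exact add_mem ha hb
    | smul s w _ hw =>
      obtain ⟨a, ha⟩ := hdec s
      rw [show s • w = a • w + (s - algebraMap A S a) • w by
        rw [sub_smul, algebraMap_smul]; abel, map_add, map_smul]
      refine add_mem (P.smul_mem a hw) ?_
      clear hw
      rename_i hwspan
      clear hwspan
      generalize s - algebraMap A S a = g at ha
      induction ha using Submodule.span_induction generalizing w with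
      | mem g hg =>
        obtain ⟨q, hq, rfl⟩ := Finset.mem_image.mp hg
        rw [Groth.Calg5.Graded.comp_smul_of_mem 𝒜 ℳ n (hGd q hq)]
        split_ifs with hqn
        · refine Submodule.mem_sup_right (Submodule.mem_iSup_of_mem ⟨q, hq⟩ ?_)
          rw [if_pos hqn]
          exact ⟨_, Groth.Calg5.Graded.comp_mem ℳ _ w, rfl⟩
        · exact zero_mem _
      | zero => simp
      | add g g' _ _ hg hg' => rw [add_smul, map_add]; exact add_mem (hg w) (hg' w)
      | smul c g _ hg =>
        rw [smul_eq_mul, mul_comm, mul_smul]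
        exact hg _

end Groth.Agent.S9617
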