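import Groth.Statements.S9618
import Groth.Agent.Calg5.ConnComp
import Mathlib.Tactic

set_option autoImplicit false
universe u
open CAlg

namespace Groth.Agent.S9618

/-- For a ring R and a subset T of Spec R the following are equivalent: (1) T is closed and contains the
connected component of each of its points; (2) T can be written as an intersection of subsets of
Spec R that are both open and closed; (3) T is the common zero locus of some set of idempotent
elements of R (equivalently, of the ideal they generate). -/
theorem result {R : Type u} [CommRing R] (T : Set (PrimeSpectrum R)) :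
    [IsClosed T ∧ ∀ x ∈ T, connectedComponent x ⊆ T,
      ∃ U : Set (Set (PrimeSpectrum R)), (∀ u ∈ U, IsClopen u) ∧ T = ⋂₀ U,
      ∃ E : Set R, (∀ e ∈ E, IsIdempotentElem e) ∧ T = PrimeSpectrum.zeroLocus E].TFAE := by
  tfae_have 3 → 2 := by
    rintro ⟨E, hE, rfl⟩
    refine ⟨(fun e => PrimeSpectrum.zeroLocus {e}) '' E, ?_, ?_⟩
    · rintro _ ⟨e, he, rfl⟩
      exact PrimeSpectrum.isClopen_iff_zeroLocus.mpr ⟨e, hE e he, rfl⟩
    · rw [Set.sInter_image, ← PrimeSpectrum.zeroLocus_iUnion₂, Set.biUnion_of_singleton]
  tfae_have 2 → 1 := by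
    rintro ⟨U, hU, rfl⟩
    refine ⟨isClosed_sInter fun u hu => (hU u hu).isClosed, fun x hx y hy u hu => ?_⟩
    exact (hU u hu).connectedComponent_subset (hx u hu) hy
  tfae_have 1 → 3 := by
    rintro ⟨hT, h⟩
    refine ⟨{e | IsIdempotentElem e ∧ T ⊆ PrimeSpectrum.zeroLocus {e}}, fun e he => he.1, ?_⟩
    refine subset_antisymm (fun x hx e he => he.2 hx rfl) fun x hx => ?_
    by_contra hxT
    obtain ⟨e, he, hex, heT⟩ := Groth.Calg5.exists_idempotent_separating hT h hxT
    exact hex (hx ⟨he, heT⟩)
  tfae_finish

end Groth.Agent.S9618
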