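import Groth.Statements.S9619
import Mathlib.RingTheory.Spectrum.Prime.Topology
import Mathlib.Tactic

set_option autoImplicit false
universe u
open CAlg

namespace Groth.Agent.S9619

/-- For a ring R and two sets E, E' of idempotent elements of R with the same zero locus in Spec R, the
ideals generated by E and by E' are equal. -/
theorem result {R : Type u} [CommRing R] (E E' : Set R) (hE : ∀ e ∈ E, IsIdempotentElem e) (hE' : ∀ e ∈ E', IsIdempotentElem e) (h : PrimeSpectrum.zeroLocus E = PrimeSpectrum.zeroLocus E') :
    Ideal.span E = Ideal.span E' := by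
  have key : ∀ E E' : Set R, (∀ e ∈ E', IsIdempotentElem e) →
      PrimeSpectrum.zeroLocus E = PrimeSpectrum.zeroLocus E' → Ideal.span E' ≤ Ideal.span E := by
    intro E E' hE' h
    refine Ideal.span_le.mpr fun e he => ?_
    have he0 : e ∈ PrimeSpectrum.vanishingIdeal (PrimeSpectrum.zeroLocus (Ideal.span E : Set R)) := by
      rw [PrimeSpectrum.zeroLocus_span, h, PrimeSpectrum.mem_vanishingIdeal]
      exact fun x hx => hx he
    rw [PrimeSpectrum.vanishingIdeal_zeroLocus_eq_radical] at he0
    obtain ⟨n, hn⟩ := he0
    rcases Nat.eq_zero_or_pos n with rfl | hpos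
    · have htop : Ideal.span E = ⊤ := (Ideal.eq_top_iff_one _).mpr (by simpa using hn)
      rw [SetLike.mem_coe, htop]; trivial
    · obtain ⟨n, rfl⟩ := Nat.exists_eq_succ_of_ne_zero hpos.ne'
      rwa [(hE' e he).pow_succ_eq n] at hn
  exact le_antisymm (key E' E hE h.symm) (key E E' hE' h)

end Groth.Agent.S9619
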