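import Groth.Statements.S9621
import Groth.Agent.Calg5.WeakAss
import Mathlib.RingTheory.Spectrum.Prime.Topology
import Mathlib.Tactic

set_option autoImplicit false
universe u
open CAlg

namespace Groth.Agent.S9621

/-- Let R be a ring, p a minimal prime of R and W a quasi-compact open subset of Spec R not containing
p. Then there is an f ∈ R, f ∉ p, whose basic open D(f) is disjoint from W. -/
theorem result {R : Type u} [CommRing R] (p : PrimeSpectrum R) (hp : p.asIdeal ∈ minimalPrimes R) (W : Set (PrimeSpectrum R)) (hWo : IsOpen W) (hWc : IsCompact W) (hpW : p ∉ W) :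
    ∃ f : R, f ∉ p.asIdeal ∧ Disjoint (PrimeSpectrum.basicOpen f : Set (PrimeSpectrum R)) W := by
  classical
  obtain ⟨t, ht, htW⟩ := hWc.elim_finite_subcover_image
    (b := {g : R | (PrimeSpectrum.basicOpen g : Set (PrimeSpectrum R)) ⊆ W})
    (c := fun g => (PrimeSpectrum.basicOpen g : Set (PrimeSpectrum R)))
    (fun g _ => (PrimeSpectrum.basicOpen g).isOpen)
    (fun x hx => by
      obtain ⟨u, ⟨_, ⟨g, rfl⟩, rfl⟩, hxu, hu⟩ :=
        PrimeSpectrum.isBasis_basic_opens.exists_subset_of_mem_open hx hWo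
      exact Set.mem_biUnion hu hxu)
  have hg : ∀ g ∈ t, g ∈ p.asIdeal := fun g hg => by
    by_contra h
    exact hpW (ht.trans (Set.Subset.refl _) hg h)
  have h1 : ∀ g ∈ t, ∃ s ∉ p.asIdeal, ∃ n : ℕ, s * g ^ n ∈ (⊥ : Ideal R) := fun g hgt =>
    ((Groth.Calg5.minimalPrimes_iff_forall (I := ⊥) (p := p.asIdeal)).mp hp).2 g (hg g hgt)
  choose! s hs n hn using h1
  refine ⟨∏ g ∈ htW.1.toFinset, s g, ?_, ?_⟩
  · intro hc
    obtain ⟨g, hgt, h⟩ := p.2.prod_mem_iff.mp hc
    exact hs g (htW.1.mem_toFinset.mp hgt) h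
  · rw [Set.disjoint_left]
    intro x hx hxW
    obtain ⟨g, hgt, hgx⟩ := Set.mem_iUnion₂.mp (htW.2 hxW)
    have : s g * g ^ n g = 0 := by simpa using hn g hgt
    have h0 : s g * g ^ n g ∈ x.asIdeal := by rw [this]; exact zero_mem _
    rcases x.2.mem_or_mem h0 with h | h
    · exact hx (Ideal.mem_of_dvd _ (Finset.dvd_prod_of_mem _ (htW.1.mem_toFinset.mpr hgt)) h)
    · exact hgx (x.2.mem_of_pow_mem _ h)

end Groth.Agent.S9621
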