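import Groth.Statements.S9622
import Mathlib.Tactic
import Mathlib.RingTheory.Artinian.Ring
import Mathlib.RingTheory.FiniteType
import Mathlib.RingTheory.Finiteness.NilpotentKer
import Mathlib.RingTheory.HopkinsLevitzki
import Mathlib.RingTheory.LocalRing.MaximalIdeal.Basic

set_option autoImplicit false
universe u
open CAlg

namespace Groth.Agent.S9622

/-- Let R → S be a ring map whose target S is a local Artinian ring, and write m for the maximal ideal
of S. Then S is a finite R-module exactly when S/m is, and S is an R-algebra of finite type exactly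
when S/m is. -/
theorem result {R S : Type u} [CommRing R] [CommRing S] [Algebra R S] [IsArtinianRing S] [IsLocalRing S] :
    (Module.Finite R S ↔ Module.Finite R (S ⧸ IsLocalRing.maximalIdeal S)) ∧
      (Algebra.FiniteType R S ↔ Algebra.FiniteType R (S ⧸ IsLocalRing.maximalIdeal S)) := by
  classical
  set m := IsLocalRing.maximalIdeal S
  obtain ⟨N, hN⟩ : ∃ N, m ^ N = ⊥ := by
    have h := IsArtinianRing.isNilpotent_jacobson_bot (R := S)
    rwa [IsLocalRing.jacobson_eq_maximalIdeal ⊥ bot_ne_top] at h
  have hmk : Function.Surjective (Ideal.Quotient.mkₐ R m) := Ideal.Quotient.mk_surjective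
  refine ⟨⟨fun h => Module.Finite.of_surjective (Ideal.Quotient.mkₐ R m).toLinearMap hmk, fun h => ?_⟩,
    ⟨fun h => Algebra.FiniteType.of_surjective (Ideal.Quotient.mkₐ R m) hmk, fun h => ?_⟩⟩
  · refine Module.finite_of_surjective_of_ker_le_nilradical (Ideal.Quotient.mkₐ R m) hmk ?_
      (IsNoetherian.noetherian _)
    intro x hx
    have hxm : x ∈ m := Ideal.Quotient.eq_zero_iff_mem.mp hx
    exact ⟨N, by simpa [hN] using Ideal.pow_mem_pow hxm N⟩
  · obtain ⟨g, hg⟩ := (inferInstance : Algebra.FiniteType R (S ⧸ m)).1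
    obtain ⟨e, he⟩ : m.FG := IsNoetherian.noetherian _
    choose l hl using fun a => hmk a
    let A := Algebra.adjoin R (((g.image l) ∪ e : Finset S) : Set S)
    have h0 : ∀ s : S, ∃ a ∈ A, s - a ∈ m := by
      intro s
      have hmap : A.map (Ideal.Quotient.mkₐ R m) = ⊤ := by
        rw [eq_top_iff, ← hg, Algebra.adjoin_le_iff]
        intro q hq
        exact ⟨l q, Algebra.subset_adjoin (Finset.mem_union_left _ (Finset.mem_image_of_mem l hq)), hl q⟩
      obtain ⟨a, ha, hae⟩ := (hmap ▸ Algebra.mem_top : Ideal.Quotient.mk m s ∈ A.map (Ideal.Quotient.mkₐ R m))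
      exact ⟨a, ha, Ideal.Quotient.eq.mp hae.symm⟩
    have hstep : ∀ i : ℕ, ∀ x ∈ m ^ i, ∃ a ∈ A, a ∈ m ^ i ∧ x - a ∈ m ^ (i + 1) := by
      intro i
      induction i with
      | zero =>
        intro x _
        obtain ⟨a, ha, hxa⟩ := h0 x
        exact ⟨a, ha, by simp, by simpa using hxa⟩
      | succ i ih =>
        intro x hx
        rw [pow_succ'] at hx
        refine Submodule.mul_induction_on hx (fun u hu v hv => ?_) ?_
        · rw [← he] at hu
          obtain ⟨a, ha, hai, hva⟩ := ih v hv
          induction hu using Submodule.span_induction generalizing v a with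
          | mem u hu =>
            have hum : u ∈ m := he ▸ Submodule.subset_span hu
            refine ⟨u * a, mul_mem (Algebra.subset_adjoin (Finset.mem_union_right _ hu)) ha, ?_, ?_⟩
            · rw [pow_succ']; exact Ideal.mul_mem_mul hum hai
            · rw [← mul_sub, pow_succ']; exact Ideal.mul_mem_mul hum hva
          | zero => exact ⟨0, zero_mem A, zero_mem _, by simp⟩
          | add u w _ _ hu hw =>
            obtain ⟨a₁, h1, h2, h3⟩ := hu v hv a ha hai hva
            obtain ⟨a₂, h4, h5, h6⟩ := hw v hv a ha hai hva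
            exact ⟨a₁ + a₂, add_mem h1 h4, add_mem h2 h5, by
              rw [add_mul, add_sub_add_comm]; exact add_mem h3 h6⟩
          | smul c u _ hu =>
            obtain ⟨a', ha', hai', hva'⟩ := ih (c * v) (Ideal.mul_mem_left _ c hv)
            obtain ⟨a₁, h1, h2, h3⟩ := hu (c * v) (Ideal.mul_mem_left _ c hv) a' ha' hai' hva'
            exact ⟨a₁, h1, h2, by rwa [smul_eq_mul, mul_assoc, mul_left_comm]⟩
        · rintro u w ⟨a₁, h1, h2, h3⟩ ⟨a₂, h4, h5, h6⟩
          exact ⟨a₁ + a₂, add_mem h1 h4, add_mem h2 h5, by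
            rw [add_sub_add_comm]; exact add_mem h3 h6⟩
    have hall : ∀ i : ℕ, ∀ s : S, ∃ a ∈ A, s - a ∈ m ^ i := by
      intro i
      induction i with
      | zero => exact fun s => ⟨0, zero_mem A, by simp⟩
      | succ i ih =>
        intro s
        obtain ⟨a, ha, hsa⟩ := ih s
        obtain ⟨b, hb, _, hb2⟩ := hstep i _ hsa
        exact ⟨a + b, add_mem ha hb, by rwa [← sub_sub]⟩
    refine ⟨⟨(g.image l) ∪ e, eq_top_iff.mpr fun s _ => ?_⟩⟩
    obtain ⟨a, ha, hs⟩ := hall N s
    rw [hN, Ideal.mem_bot, sub_eq_zero] at hs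
    exact hs ▸ ha

end Groth.Agent.S9622
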