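import Groth.Statements.S9623
import Groth.Agent.Calg5.GeomIdem

set_option autoImplicit false
universe u
open CAlg

namespace Groth.Agent.S9623

open TensorProduct in
/-- Let k be a separably closed field and R, S two k-algebras with connected (nonempty) spectra. Then
Spec(R ⊗_k S) is connected. -/
theorem result {k R S : Type u} [Field k] [IsSepClosed k] [CommRing R] [CommRing S] [Algebra k R] [Algebra k S]
    [ConnectedSpace (PrimeSpectrum R)] [ConnectedSpace (PrimeSpectrum S)] :
    ConnectedSpace (PrimeSpectrum (R ⊗[k] S)) := by
  have := PrimeSpectrum.nonempty_iff_nontrivial.mp (‹ConnectedSpace (PrimeSpectrum R)›).toNonempty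
  have := PrimeSpectrum.nonempty_iff_nontrivial.mp (‹ConnectedSpace (PrimeSpectrum S)›).toNonempty
  have : Nontrivial (R ⊗[k] S) := (Algebra.TensorProduct.includeLeft_injective (R := k) (S := k)
    (algebraMap k S).injective).nontrivial
  exact Groth.Calg5.connectedSpace_of_idemTrivial (Groth.Calg5.idemTrivial_tensor
    Groth.Calg5.idemTrivial_of_connectedSpace Groth.Calg5.idemTrivial_of_connectedSpace)

end Groth.Agent.S9623
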