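import Groth.Statements.S9626
import Groth.Agent.Calg5.GeomIdem

set_option autoImplicit false
universe u
open CAlg

namespace Groth.Agent.S9626

open TensorProduct in
/-- Let k be a field, S a k-algebra with Spec(k' ⊗_k S) irreducible for every field extension k'/k, and
R any k-algebra. Then Spec(R ⊗_k S) → Spec(R) induces a bijection on irreducible components: taking
inverse images along R → R ⊗_k S maps the set of minimal primes of R ⊗_k S bijectively onto the set
of minimal primes of R. Here the test fields range over field extensions in the universe of k; this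
is equivalent to the unrestricted notion, since an algebraic closure of k suffices as a test. -/
theorem result {k R S : Type u} [Field k] [CommRing R] [CommRing S] [Algebra k R] [Algebra k S]
    (hS : ∀ (k' : Type u) [Field k'] [Algebra k k'], IrreducibleSpace (PrimeSpectrum (k' ⊗[k] S))) :
    Set.BijOn (Ideal.comap (algebraMap R (R ⊗[k] S))) (minimalPrimes (R ⊗[k] S)) (minimalPrimes R) := by
  classical
  have hS' : ∀ (F : Type u) [Field F] [Algebra k F], (nilradical (F ⊗[k] S)).IsPrime :=
    fun F _ _ => PrimeSpectrum.irreducibleSpace_iff_isPrime_nilradical.mp (hS F)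
  let T := R ⊗[k] S
  -- the largest prime condition: every prime over `p` contains `Q p`
  have key : ∀ p : Ideal R, p.IsPrime → ∃ Q : Ideal T, Q.IsPrime ∧ Q.comap (algebraMap R T) = p ∧
      ∀ P : Ideal T, P.IsPrime → P.comap (algebraMap R T) = p → Q ≤ P := by
    intro p hp
    let g : T →ₐ[k] (R ⧸ p) ⊗[k] S :=
      Algebra.TensorProduct.map (Ideal.Quotient.mkₐ k p) (AlgHom.id k S)
    have hN := Groth.Calg5.nilradical_isPrime_tensor_geomIrred
      (Groth.VarietyBC.nilradical_isPrime_of_isDomain (R ⧸ p)) hS'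
    refine ⟨(nilradical ((R ⧸ p) ⊗[k] S)).comap g.toRingHom, Ideal.comap_isPrime _ _, ?_, ?_⟩
    · ext r
      rw [Ideal.mem_comap, Ideal.mem_comap, mem_nilradical]
      show IsNilpotent (g (r ⊗ₜ 1)) ↔ _
      have hinj : Function.Injective
          (Algebra.TensorProduct.includeLeftRingHom : R ⧸ p →+* (R ⧸ p) ⊗[k] S) := by
        have : Nontrivial (k ⊗[k] S) :=
          PrimeSpectrum.nonempty_iff_nontrivial.mp (hS k).toNonempty
        have : Nontrivial S := (Algebra.TensorProduct.lid k S).symm.toEquiv.nontrivial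
        exact Algebra.TensorProduct.includeLeft_injective (R := k) (S := k) (algebraMap k S).injective
      rw [show g (r ⊗ₜ 1) = Algebra.TensorProduct.includeLeftRingHom (Ideal.Quotient.mk p r) from rfl,
        IsNilpotent.map_iff hinj, isNilpotent_iff_eq_zero, Ideal.Quotient.eq_zero_iff_mem]
    · intro P hP hPp x hx
      obtain ⟨n, hn⟩ := mem_nilradical.mp (Ideal.mem_comap.mp hx)
      refine hP.mem_of_pow_mem n ?_
      have hker : RingHom.ker g = p.map (algebraMap R T) := by
        have h1 := Algebra.TensorProduct.rTensor_ker (R := k) (A := R) (B := R ⧸ p) (C := S)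
          (Ideal.Quotient.mkₐ k p) Ideal.Quotient.mk_surjective
        rw [show RingHom.ker (Ideal.Quotient.mkₐ k p) = p from Ideal.mk_ker] at h1
        exact h1
      exact (hker.trans_le (Ideal.map_le_iff_le_comap.mpr hPp.ge))
        (show g (x ^ n) = 0 by rw [map_pow]; exact hn)
  choose Q hQp hQc hQle using key
  refine ⟨fun P hP => ?_, fun P₁ hP₁ P₂ hP₂ h => ?_, fun p hp => ?_⟩
  · have := hP.1.1
    refine ⟨⟨Ideal.comap_isPrime _ P, bot_le⟩, fun p' hp' hle => ?_⟩
    have := hp'.1
    obtain ⟨P', hP'le, hP', hP'c⟩ := Ideal.exists_ideal_le_liesOver_of_le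
      (p := p') (q := P.comap (algebraMap R T)) P hle
    rw [← le_antisymm hP'le (hP.2 ⟨hP', bot_le⟩ hP'le)]
    exact hP'c.over.ge
  · have := hP₁.1.1
    have hp := Ideal.comap_isPrime (algebraMap R T) P₁
    have e1 := hQle _ hp P₁ hP₁.1.1 rfl
    have e2 := hQle _ hp P₂ hP₂.1.1 h.symm
    exact (le_antisymm (hP₁.2 ⟨hQp _ hp, bot_le⟩ e1) e1).trans
      (le_antisymm e2 (hP₂.2 ⟨hQp _ hp, bot_le⟩ e2))
  · refine ⟨Q p hp.1.1, ⟨⟨hQp p hp.1.1, bot_le⟩, fun P' hP' hle => ?_⟩, hQc p hp.1.1⟩
    have := hP'.1
    have hle' : P'.comap (algebraMap R T) ≤ p :=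
      (Ideal.comap_mono hle).trans (hQc p hp.1.1).le
    exact hQle p hp.1.1 P' hP'.1
      (le_antisymm hle' (hp.2 ⟨Ideal.comap_isPrime _ P' , bot_le⟩ hle'))

end Groth.Agent.S9626
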