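import Groth.Statements.S9632
import Mathlib.Tactic
import Mathlib.LinearAlgebra.Eigenspace.Zero
import Mathlib.RingTheory.LocalRing.ResidueField.Ideal
import Mathlib.LinearAlgebra.Charpoly.BaseChange

set_option autoImplicit false
universe u
open CAlg

namespace Groth.Agent.S9632

open TensorProduct in
/-- Let R → A be a ring map making A a finite free R-module of rank n, let f ∈ A and let P(T) = Tⁿ +
r_{n-1}Tⁿ⁻¹ + ⋯ + r_0 be the characteristic polynomial of multiplication by f on A. Then for a prime
p of R, f acts nilpotently on κ(p) ⊗_R A if and only if p contains r_0, …, r_{n-1}. -/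
theorem result {R A : Type u} [CommRing R] [CommRing A] [Algebra R A] [Module.Free R A] [Module.Finite R A] (f : A) (p : Ideal R) [p.IsPrime] :
    IsNilpotent ((1 : p.ResidueField) ⊗ₜ[R] f : p.ResidueField ⊗[R] A) ↔
      ∀ i : ℕ, i < Module.finrank R A → (LinearMap.mulLeft R f).charpoly.coeff i ∈ p := by
  haveI : Nontrivial R := ⟨⟨0, 1, fun h => (inferInstance : p.IsPrime).ne_top
    ((Ideal.eq_top_iff_one p).mpr (h ▸ p.zero_mem))⟩⟩
  let κ := p.ResidueField
  have hb : LinearMap.mulLeft κ ((1 : κ) ⊗ₜ[R] f) = (LinearMap.mulLeft R f).baseChange κ := by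
    refine LinearMap.ext fun z => ?_
    induction z using TensorProduct.induction_on with
    | zero => simp
    | tmul a b => simp [Algebra.TensorProduct.tmul_mul_tmul]
    | add a b ha hb => simp [map_add, ha, hb]
  rw [← LinearMap.isNilpotent_mulLeft_iff κ, hb, LinearMap.isNilpotent_iff_charpoly,
    LinearMap.charpoly_baseChange, Module.finrank_baseChange]
  set n := Module.finrank R A
  have hdeg : (LinearMap.mulLeft R f).charpoly.natDegree = n := LinearMap.charpoly_natDegree _
  constructor
  · intro h i hi
    have hc := congrArg (fun q => Polynomial.coeff q i) h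
    simp only [Polynomial.coeff_map, Polynomial.coeff_X_pow, hi.ne, if_false] at hc
    exact Ideal.algebraMap_residueField_eq_zero.mp hc
  · intro h
    ext i
    rw [Polynomial.coeff_map, Polynomial.coeff_X_pow]
    rcases lt_trichotomy i n with hi | hi | hi
    · rw [if_neg hi.ne]
      exact Ideal.algebraMap_residueField_eq_zero.mpr (h i hi)
    · subst hi
      rw [if_pos rfl, ← hdeg, (LinearMap.charpoly_monic _).coeff_natDegree, map_one]
    · rw [if_neg hi.ne', Polynomial.coeff_eq_zero_of_natDegree_lt (hdeg ▸ hi), map_zero]

end Groth.Agent.S9632
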