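import Groth.Statements.S9635
import Groth.Agent.VarietyBC.TensorGeom

set_option autoImplicit false
universe u
open CAlg

namespace Groth.Agent.S9635

open TensorProduct in
/-- Let k ⊆ k' be fields with k' separable algebraic over k, and A a k'-algebra. Then A is geometrically
reduced over k (K ⊗_k A reduced for all field extensions K/k) if and only if A is geometrically
reduced over k' (K ⊗_{k'} A reduced for all field extensions K/k'). Here the test fields K range
over field extensions (of k, respectively of k') in the common universe of k and k'; this is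
equivalent to the unrestricted notions, since an algebraic closure of the base field suffices as a
test. -/
theorem result {k k' A : Type u} [Field k] [Field k'] [Algebra k k'] [Algebra.IsSeparable k k'] [CommRing A] [Algebra k' A] [Algebra k A] [IsScalarTower k k' A] :
    (∀ (K : Type u) [Field K] [Algebra k K], IsReduced (K ⊗[k] A)) ↔
      ∀ (K : Type u) [Field K] [Algebra k' K], IsReduced (K ⊗[k'] A) := by
  classical
  constructor
  · intro hk K _ _
    let _ : Algebra k K := ((algebraMap k' K).comp (algebraMap k k')).toAlgebra
    have : IsScalarTower k k' K := .of_algebraMap_eq fun _ => rfl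
    have hred := hk K
    let π : K ⊗[k] A →+* K ⊗[k'] A := (Algebra.TensorProduct.lift
      ((Algebra.TensorProduct.includeLeft : K →ₐ[k'] K ⊗[k'] A).restrictScalars k)
      ((Algebra.TensorProduct.includeRight : A →ₐ[k'] K ⊗[k'] A).restrictScalars k)
      fun _ _ => Commute.all _ _).toRingHom
    have hπ : ∀ u a, π (u ⊗ₜ a) = u ⊗ₜ a := fun u a => by simp [π]
    let J : Ideal (K ⊗[k] A) :=
      { carrier := {y | ∃ s, π s = 1 ∧ s * y = 0}
        zero_mem' := ⟨1, map_one π, by simp⟩
        add_mem' := by
          rintro y z ⟨s, hs, hy⟩ ⟨t, ht, hz⟩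
          exact ⟨s * t, by rw [map_mul, hs, ht, mul_one],
            by linear_combination t * hy + s * hz⟩
        smul_mem' := by
          rintro c y ⟨s, hs, hy⟩
          exact ⟨s, hs, by rw [smul_eq_mul]; linear_combination c * hy⟩ }
    have hgen : ∀ (c : k'), (1 : K) ⊗ₜ[k] (algebraMap k' A c) - algebraMap k' K c ⊗ₜ[k] (1 : A) ∈ J := by
      intro c
      let E : IntermediateField k k' := IntermediateField.adjoin k {c}
      have : FiniteDimensional k E := IntermediateField.adjoin.finiteDimensional
        (Algebra.IsSeparable.isSeparable k c).isIntegral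
      have : Algebra.FormallyUnramified k E := Algebra.FormallyUnramified.of_isSeparable k E
      let ι : E ⊗[k] E →ₐ[k] K ⊗[k] A := Algebra.TensorProduct.map
        ((IsScalarTower.toAlgHom k k' K).comp E.val) ((IsScalarTower.toAlgHom k k' A).comp E.val)
      have h2 : ∀ z : E ⊗[k] E,
          π (ι z) = algebraMap k' (K ⊗[k'] A) (E.val (Algebra.TensorProduct.lmul' (S := E) k z)) := by
        intro z
        induction z using TensorProduct.induction_on with
        | zero => simp
        | tmul a b =>
          simp only [ι, Algebra.TensorProduct.map_tmul, AlgHom.comp_apply, hπ,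
            IsScalarTower.toAlgHom_apply, Algebra.TensorProduct.lmul'_apply_tmul, map_mul,
            IntermediateField.coe_val]
          rw [Algebra.TensorProduct.algebraMap_apply, Algebra.algebraMap_eq_smul_one (A := A),
            TensorProduct.tmul_smul, Algebra.smul_def, mul_comm]
        | add a b ha hb => simp [map_add, ha, hb]
      refine ⟨ι (Algebra.FormallyUnramified.elem k E), ?_, ?_⟩
      · rw [h2, Algebra.FormallyUnramified.lmul_elem, map_one, map_one]
      · have h3 := congrArg ι (Algebra.FormallyUnramified.one_tmul_mul_elem (R := k)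
          (⟨c, IntermediateField.mem_adjoin_simple_self k c⟩ : E))
        simp only [map_mul, ι, Algebra.TensorProduct.map_tmul, map_one] at h3
        rw [mul_sub, sub_eq_zero, mul_comm, mul_comm (ι _)]
        exact h3
    let ψ : K ⊗[k'] A →+ (K ⊗[k] A) ⧸ J := TensorProduct.liftAddHom
      { toFun := fun u =>
          { toFun := fun a => Ideal.Quotient.mk J (u ⊗ₜ a)
            map_zero' := by simp
            map_add' := fun a b => by rw [TensorProduct.tmul_add, map_add] }
        map_zero' := by ext; simp
        map_add' := fun u v => by ext; simp [TensorProduct.add_tmul] }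
      fun c u a => by
        simp only [AddMonoidHom.coe_mk, ZeroHom.coe_mk]
        rw [Ideal.Quotient.eq]
        have := J.mul_mem_left (u ⊗ₜ[k] a) (neg_mem (hgen c))
        convert this using 1
        rw [neg_sub, mul_sub, Algebra.TensorProduct.tmul_mul_tmul,
          Algebra.TensorProduct.tmul_mul_tmul, mul_one, mul_one, Algebra.smul_def,
          Algebra.smul_def, mul_comm u, mul_comm a]
    have hψ : ∀ y, ψ (π y) = Ideal.Quotient.mk J y := by
      intro y
      induction y using TensorProduct.induction_on with
      | zero => simp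
      | tmul u a => rw [hπ]; rfl
      | add y z hy hz => rw [map_add, map_add, hy, hz, map_add]
    have hsurj : Function.Surjective π := by
      intro z
      induction z using TensorProduct.induction_on with
      | zero => exact ⟨0, map_zero π⟩
      | tmul u a => exact ⟨u ⊗ₜ a, hπ u a⟩
      | add y z hy hz =>
        obtain ⟨y', rfl⟩ := hy
        obtain ⟨z', rfl⟩ := hz
        exact ⟨y' + z', map_add π y' z'⟩
    refine ⟨fun x ⟨n, hn⟩ => ?_⟩
    obtain ⟨y, rfl⟩ := hsurj x
    obtain ⟨s, hs, h0⟩ : y ^ n ∈ J := by
      rw [← Ideal.Quotient.eq_zero_iff_mem, ← hψ, map_pow, hn, map_zero]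
    have hy : IsNilpotent (s * y) :=
      ⟨n + 1, by rw [mul_pow, pow_succ' y, pow_succ s]; linear_combination s ^ n * y * h0⟩
    have := congrArg π (hred.eq_zero _ hy)
    rwa [map_mul, hs, one_mul, map_zero] at this
  · intro hk' K₀ _ _
    have : Algebra.IsGeometricallyReduced k k' := by
      refine Algebra.IsGeometricallyReduced.of_forall_fg fun D hD => ?_
      have : Algebra.FiniteType k D := (Subalgebra.fg_iff_finiteType D).mp hD
      have : Algebra.IsIntegral k D := ⟨fun x => (isIntegral_algHom_iff D.val
        Subtype.val_injective).mp (Algebra.IsSeparable.isSeparable k (x : k')).isIntegral⟩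
      let _ := (Subalgebra.isField_of_algebraic D).toField
      have : Module.Finite k D := Algebra.IsIntegral.finite
      have : Algebra.IsSeparable k D := ⟨fun x => by
        have := Algebra.IsSeparable.isSeparable k (x : k')
        rwa [IsSeparable, ← minpoly.algHom_eq D.val Subtype.val_injective x]⟩
      have : Algebra.FormallyUnramified k D := Algebra.FormallyUnramified.of_isSeparable k D
      rw [Algebra.isGeometricallyReduced_field_iff]
      exact Algebra.FormallyUnramified.isReduced_of_field (AlgebraicClosure k)
        (AlgebraicClosure k ⊗[k] D)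
    let K := AlgebraicClosure k
    suffices hK : IsReduced (K ⊗[k] A) by
      have : Algebra.IsGeometricallyReduced k A :=
        (Algebra.isGeometricallyReduced_field_iff k A).mpr hK
      exact Groth.VarietyBC.isReduced_tensor_comm
        Groth.VarietyBC.isReduced_tensor_of_isGeometricallyReduced
    have hred : IsReduced (K ⊗[k] k') := (Algebra.isGeometricallyReduced_field_iff k k').mp ‹_›
    refine ⟨fun x hx => ?_⟩
    obtain ⟨⟨ι, b⟩⟩ := Module.Free.exists_basis (R := k') (M := A)
    let j : K ⊗[k] k' →ₐ[k] K ⊗[k] A :=
      Algebra.TensorProduct.map (AlgHom.id k K) (IsScalarTower.toAlgHom k k' A)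
    have hform : ∀ y : K ⊗[k] A, ∃ f : ι →₀ K ⊗[k] k',
        y = f.sum fun i c => j c * (1 ⊗ₜ b i) := by
      intro y
      induction y using TensorProduct.induction_on with
      | zero => exact ⟨0, by simp⟩
      | tmul u a =>
        refine ⟨(b.repr a).mapRange (fun c => u ⊗ₜ c) (TensorProduct.tmul_zero _ u), ?_⟩
        rw [Finsupp.sum_mapRange_index (by simp)]
        conv_lhs => rw [← b.linearCombination_repr a, Finsupp.linearCombination_apply,
          Finsupp.sum, TensorProduct.tmul_sum]
        refine Finset.sum_congr rfl fun i _ => ?_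
        simp [j, Algebra.smul_def]
      | add y z hy hz =>
        obtain ⟨f, rfl⟩ := hy
        obtain ⟨g, rfl⟩ := hz
        exact ⟨f + g, (Finsupp.sum_add_index' (by simp) fun i c d => by
          rw [map_add, add_mul]).symm⟩
    obtain ⟨f, rfl⟩ := hform x
    suffices h : ∀ i, f i = 0 by simp [Finsupp.ext (g := (0 : ι →₀ K ⊗[k] k')) h]
    intro i
    refine hred.eq_zero _ (mem_nilradical.mp ?_)
    rw [nilradical_eq_sInf]
    refine Submodule.mem_sInf.mpr fun P hP => ?_
    replace hP : Ideal.IsPrime P := hP
    have hKint : Algebra.IsIntegral K ((K ⊗[k] k') ⧸ P) :=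
      Algebra.IsIntegral.of_surjective (Ideal.Quotient.mkₐ K P) Ideal.Quotient.mk_surjective
    have hbij : Function.Bijective (algebraMap K ((K ⊗[k] k') ⧸ P)) :=
      IsAlgClosed.algebraMap_bijective_of_isIntegral
    let q : ((K ⊗[k] k') ⧸ P) ≃ₐ[K] K := (AlgEquiv.ofBijective (Algebra.ofId K _) hbij).symm
    let σ : k' →+* K := (q.toAlgHom.comp (Ideal.Quotient.mkₐ K P)).toRingHom.comp
      (Algebra.TensorProduct.includeRight : k' →ₐ[k] K ⊗[k] k').toRingHom
    let _ : Algebra k' K := σ.toAlgebra
    have : IsScalarTower k k' K := .of_algebraMap_eq fun c => by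
      show _ = σ _
      simp only [σ, RingHom.comp_apply, AlgHom.toRingHom_eq_coe, RingHom.coe_coe,
        AlgHom.comp_apply, Ideal.Quotient.mkₐ_eq_mk, AlgEquiv.coe_algHom]
      rw [AlgHom.commutes, Algebra.TensorProduct.algebraMap_apply]
      exact (q.commutes _).symm
    have hredK := hk' K
    let Φ : K ⊗[k] A →+* K ⊗[k'] A := (Algebra.TensorProduct.lift
      ((Algebra.TensorProduct.includeLeft : K →ₐ[k'] K ⊗[k'] A).restrictScalars k)
      ((Algebra.TensorProduct.includeRight : A →ₐ[k'] K ⊗[k'] A).restrictScalars k)
      fun _ _ => Commute.all _ _).toRingHom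
    have hΦ : ∀ c : K ⊗[k] k', Φ (j c) = q (Ideal.Quotient.mk P c) ⊗ₜ 1 := by
      intro c
      induction c using TensorProduct.induction_on with
      | zero => simp
      | tmul u a =>
        have : q (Ideal.Quotient.mk P (u ⊗ₜ a)) = u * algebraMap k' K a := by
          have e : (u ⊗ₜ[k] a : K ⊗[k] k') = algebraMap K _ u * (1 ⊗ₜ a) := by simp
          rw [e, map_mul, map_mul]
          congr 1
          exact q.commutes u
        rw [this]
        simp only [Φ, j, Algebra.TensorProduct.map_tmul, AlgHom.coe_id, id_eq,
          IsScalarTower.toAlgHom_apply, AlgHom.toRingHom_eq_coe, RingHom.coe_coe,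
          Algebra.TensorProduct.lift_tmul, AlgHom.coe_restrictScalars',
          Algebra.TensorProduct.includeLeft_apply, Algebra.TensorProduct.includeRight_apply,
          Algebra.TensorProduct.tmul_mul_tmul, mul_one, one_mul]
        rw [Algebra.algebraMap_eq_smul_one (A := A), TensorProduct.tmul_smul,
          TensorProduct.smul_tmul', Algebra.smul_def, mul_comm]
      | add y z hy hz => simp only [map_add, hy, hz, TensorProduct.add_tmul]
    have h0 : Φ (f.sum fun i c => j c * (1 ⊗ₜ b i)) = 0 := (hx.map Φ).eq_zero
    rw [map_finsuppSum] at h0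
    have h1 := congrArg (fun z => (b.baseChange K).repr z i) h0
    have h2 : ∀ l c, Φ (j c * (1 ⊗ₜ b l)) = q (Ideal.Quotient.mk P c) • (b.baseChange K) l := by
      intro l c
      rw [map_mul, hΦ, Module.Basis.baseChange_apply, TensorProduct.smul_tmul']
      simp [Φ]
    simp only [h2, map_finsuppSum, map_smul, Module.Basis.repr_self, Finsupp.sum_apply] at h1
    rw [Finsupp.sum, Finset.sum_eq_single i (fun l _ hl => by simp [hl])
      (fun hi => by simp [Finsupp.notMem_support_iff.mp hi])] at h1
    have h3 : q (Ideal.Quotient.mk P (f i)) = 0 := by simpa using h1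
    exact Ideal.Quotient.eq_zero_iff_mem.mp (q.injective (h3.trans (map_zero q).symm))

end Groth.Agent.S9635
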