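import Groth.Statements.S9636
import Mathlib

set_option autoImplicit false
universe u
open CAlg

namespace Groth.Agent.S9636

open TensorProduct in
/-- Let k'/k be a separable algebraic field extension. Then for some multiplicative subset S of k' ⊗_k
k' the multiplication map k' ⊗_k k' → k' is a localization at S: there is a ring isomorphism S⁻¹(k'
⊗_k k') ≅ k' carrying the localization map to the multiplication map. -/
theorem result {k k' : Type u} [Field k] [Field k'] [Algebra k k'] [Algebra.IsSeparable k k'] :
    ∃ (S : Submonoid (k' ⊗[k] k')) (e : Localization S ≃+* k'), ∀ x : k' ⊗[k] k', e (algebraMap (k' ⊗[k] k') (Localization S) x) = Algebra.TensorProduct.lmul' (S := k') k x := by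
  let f : k' ⊗[k] k' →+* k' := (Algebra.TensorProduct.lmul' (S := k') k).toRingHom
  let S : Submonoid (k' ⊗[k] k') := MonoidHom.mker f
  have hu : ∀ y : S, IsUnit (f y) := fun y => by rw [show f y = 1 from y.2]; exact isUnit_one
  have key : ∀ x : k' ⊗[k] k', f x = 0 → ∃ s : S, (s : k' ⊗[k] k') * x = 0 := by
    intro x hx
    obtain ⟨T, hT⟩ := TensorProduct.exists_finset x
    classical
    let E : IntermediateField k k' :=
      IntermediateField.adjoin k ((T.image Prod.fst : Finset k') : Set k')
    haveI : FiniteDimensional k E := IntermediateField.finiteDimensional_adjoin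
      fun a _ => (Algebra.IsSeparable.isSeparable k a).isIntegral
    haveI : Algebra.FormallyUnramified k E := Algebra.FormallyUnramified.of_isSeparable k E
    let ι : E ⊗[k] E →ₐ[k] k' ⊗[k] k' := Algebra.TensorProduct.map E.val E.val
    let s : k' ⊗[k] k' := ι (Algebra.FormallyUnramified.elem k E)
    have hs : s ∈ S := by
      show f (ι (Algebra.FormallyUnramified.elem k E)) = 1
      have h2 : ∀ z : E ⊗[k] E, f (ι z) = E.val (Algebra.TensorProduct.lmul' (S := E) k z) := by
        intro z
        induction z using TensorProduct.induction_on with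
        | zero => simp
        | tmul a b => simp [f, ι]
        | add a b ha hb => simp [map_add, ha, hb]
      rw [h2, Algebra.FormallyUnramified.lmul_elem, map_one]
    have hsa : ∀ a : E, s * ((a : k') ⊗ₜ 1) = s * (1 ⊗ₜ (a : k')) := by
      intro a
      have h3 := congrArg ι (Algebra.FormallyUnramified.one_tmul_mul_elem (R := k) a)
      simp only [map_mul, ι, Algebra.TensorProduct.map_tmul, map_one] at h3
      rw [mul_comm, mul_comm s]
      exact h3.symm
    refine ⟨⟨s, hs⟩, ?_⟩
    show s * x = 0
    have h4 : s * x = s * (1 ⊗ₜ f x) := by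
      rw [hT, map_sum, TensorProduct.tmul_sum, Finset.mul_sum, Finset.mul_sum]
      refine Finset.sum_congr rfl fun i hi => ?_
      have hiE : i.1 ∈ E := IntermediateField.subset_adjoin k _
        (Finset.mem_image.mpr ⟨i, hi, rfl⟩)
      calc s * (i.1 ⊗ₜ i.2) = s * (((⟨i.1, hiE⟩ : E) : k') ⊗ₜ 1) * (1 ⊗ₜ i.2) := by
            simp [mul_assoc]
        _ = s * (1 ⊗ₜ i.1) * (1 ⊗ₜ i.2) := by rw [hsa]
        _ = s * (1 ⊗ₜ f (i.1 ⊗ₜ i.2)) := by simp [f, mul_assoc]
    rw [h4, hx, TensorProduct.tmul_zero, mul_zero]
  let φ : Localization S →+* k' := IsLocalization.lift hu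
  refine ⟨S, RingEquiv.ofBijective φ ⟨?_, ?_⟩, fun x => IsLocalization.lift_eq hu x⟩
  · refine (IsLocalization.lift_injective_iff hu).mpr fun x y => ⟨fun h => ?_, fun h => ?_⟩
    · obtain ⟨c, hc⟩ := IsLocalization.eq_iff_exists S (Localization S) |>.mp h
      have := congrArg f hc
      rwa [map_mul, map_mul, show f c = 1 from c.2, one_mul, one_mul] at this
    · obtain ⟨c, hc⟩ := key (x - y) (by rw [map_sub, h, sub_self])
      exact IsLocalization.eq_iff_exists S (Localization S) |>.mpr
        ⟨c, by rwa [mul_sub, sub_eq_zero] at hc⟩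
  · intro c
    exact ⟨algebraMap _ _ (c ⊗ₜ[k] (1 : k')), by simp [φ, f]⟩

end Groth.Agent.S9636
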