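import Groth.Statements.S9637
import Mathlib.RingTheory.Ideal.AssociatedPrime.Finiteness

set_option autoImplicit false
universe u
open CAlg

namespace Groth.Agent.S9637

/-- Let R be a local Noetherian ring, I an ideal contained in its maximal ideal, and M a finite
R-module. Then I contains an M-regular element (one acting injectively on M) if and only if no
associated prime of M contains I. -/
theorem result {R : Type u} [CommRing R] [IsNoetherianRing R] [IsLocalRing R] (I : Ideal R) (hI : I ≤ IsLocalRing.maximalIdeal R) (M : Type u) [AddCommGroup M] [Module R M] [Module.Finite R M] :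
    (∃ x ∈ I, IsSMulRegular M x) ↔ ∀ q ∈ associatedPrimes R M, ¬ I ≤ q := by
  classical
  constructor
  · rintro ⟨x, hxI, hx⟩ q hq hle
    have := (biUnion_associatedPrimes_eq_zero_divisors R M).subset (Set.mem_biUnion hq (hle hxI))
    obtain ⟨m, hm, hm0⟩ := this
    exact hm (hx.right_eq_zero_of_smul hm0)
  · intro h
    by_contra hc
    push Not at hc
    have hfin : (associatedPrimes R M).Finite := associatedPrimes.finite R M
    have hsub : (I : Set R) ⊆ ⋃ q ∈ (↑hfin.toFinset : Set (Ideal R)), (q : Set R) := by
      intro x hx
      rw [hfin.coe_toFinset, biUnion_associatedPrimes_eq_zero_divisors]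
      have := hc x hx
      rw [isSMulRegular_iff_right_eq_zero_of_smul] at this
      push Not at this
      obtain ⟨m, h1, h2⟩ := this
      exact ⟨m, h2, h1⟩
    obtain ⟨q, hq, hle⟩ := (Ideal.subset_union_prime ⊥ ⊥ (fun q hq _ _ =>
      IsAssociatedPrime.isPrime (hfin.mem_toFinset.mp hq))).mp hsub
    exact h q (hfin.mem_toFinset.mp hq) hle

end Groth.Agent.S9637
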