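import Groth.Statements.S9641
import Mathlib.Tactic
import Mathlib.RingTheory.Flat.Basic
import Mathlib.RingTheory.TensorProduct.Maps

set_option autoImplicit false
universe u
open CAlg

namespace Groth.Agent.S9641

open TensorProduct in
/-- Let k be a field and R, S two k-algebras. If R ⊗_k S is not reduced then there are finitely
generated k-subalgebras R' ⊆ R and S' ⊆ S such that R' ⊗_k S' is not reduced. -/
theorem result {k R S : Type u} [Field k] [CommRing R] [CommRing S] [Algebra k R] [Algebra k S] (h : ¬ IsReduced (R ⊗[k] S)) :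
    ∃ (R' : Subalgebra k R) (S' : Subalgebra k S), R'.FG ∧ S'.FG ∧ ¬ IsReduced (R' ⊗[k] S') := by
  rw [isReduced_iff] at h
  push Not at h
  obtain ⟨x, ⟨n, hn⟩, hx⟩ := h
  obtain ⟨t, ht⟩ := TensorProduct.exists_finset x
  classical
  let R' := Algebra.adjoin k ((t.image Prod.fst : Finset R) : Set R)
  let S' := Algebra.adjoin k ((t.image Prod.snd : Finset S) : Set S)
  let φ : R' ⊗[k] S' →ₐ[k] R ⊗[k] S := Algebra.TensorProduct.map R'.val S'.val
  have hφ : Function.Injective φ := by
    have h1 : Function.Injective (LinearMap.lTensor R' S'.val.toLinearMap) :=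
      Module.Flat.lTensor_preserves_injective_linearMap (M := R') _ Subtype.val_injective
    have h2 : Function.Injective (LinearMap.rTensor S R'.val.toLinearMap) :=
      Module.Flat.rTensor_preserves_injective_linearMap (M := S) _ Subtype.val_injective
    have : (φ : R' ⊗[k] S' →ₗ[k] R ⊗[k] S) =
        LinearMap.rTensor S R'.val.toLinearMap ∘ₗ LinearMap.lTensor R' S'.val.toLinearMap := by
      ext; rfl
    intro a b hab
    refine h1 (h2 ?_)
    have ha := LinearMap.congr_fun this a
    have hb := LinearMap.congr_fun this b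
    exact ha.symm.trans (hab.trans hb)
  refine ⟨R', S', Subalgebra.fg_adjoin_finset _, Subalgebra.fg_adjoin_finset _, fun hred => ?_⟩
  obtain ⟨y, hy⟩ : ∃ y, φ y = x := by
    refine ⟨∑ q ∈ t.attach,
      (⟨q.1.1, Algebra.subset_adjoin (Finset.mem_image_of_mem _ q.2)⟩ : R') ⊗ₜ[k]
      (⟨q.1.2, Algebra.subset_adjoin (Finset.mem_image_of_mem _ q.2)⟩ : S'), ?_⟩
    rw [map_sum, ht, ← Finset.sum_attach t (fun q => q.1 ⊗ₜ[k] q.2)]
    rfl
  apply hx
  have : y = 0 := hred.eq_zero y ⟨n, hφ (by rw [map_pow, hy, hn, map_zero])⟩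
  rw [← hy, this, map_zero]

end Groth.Agent.S9641
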