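import Groth.Statements.S9642
import Mathlib.Tactic
import Mathlib.RingTheory.LocalRing.ResidueField.Fiber

set_option autoImplicit false
universe u
open CAlg

namespace Groth.Agent.S9642

/-- In the general form stated there: let R → S be a ring map inducing an open map Spec(S) → Spec(R),
with Spec(R) irreducible, such that for a dense set of primes p of R the fibre ring κ(p) ⊗_R S has
irreducible spectrum. Then Spec(S) is irreducible. The flat and finitely presented case is the
special case in which the map on spectra is open by fppf-openness. -/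
theorem result {R S : Type u} [CommRing R] [CommRing S] [Algebra R S]
    (hopen : IsOpenMap (PrimeSpectrum.comap (algebraMap R S))) [IrreducibleSpace (PrimeSpectrum R)]
    (D : Set (PrimeSpectrum R)) (hD : Dense D) (hfib : ∀ p ∈ D, IrreducibleSpace (PrimeSpectrum (p.asIdeal.Fiber S))) :
    IrreducibleSpace (PrimeSpectrum S) := by
  obtain ⟨p, hp⟩ : D.Nonempty := hD.nonempty
  have := hfib p hp
  obtain ⟨z⟩ := (inferInstance : Nonempty (PrimeSpectrum (p.asIdeal.Fiber S)))
  have hne : Nonempty (PrimeSpectrum S) :=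
    ⟨((PrimeSpectrum.preimageHomeomorphFiber R S p).symm z).1⟩
  rw [irreducibleSpace_def]
  refine ⟨Set.univ_nonempty, ?_⟩
  rintro U V hU hV ⟨u, -, hu⟩ ⟨v, -, hv⟩
  let f := PrimeSpectrum.comap (algebraMap R S)
  have hne2 : (f '' U ∩ f '' V).Nonempty :=
    nonempty_preirreducible_inter (hopen U hU) (hopen V hV) ⟨f u, u, hu, rfl⟩ ⟨f v, v, hv, rfl⟩
  obtain ⟨q, ⟨⟨a, ha, hfa⟩, b, hb, hfb⟩, hqD⟩ :=
    hD.inter_open_nonempty _ ((hopen U hU).inter (hopen V hV)) hne2
  have := hfib q hqD
  let e := (PrimeSpectrum.preimageHomeomorphFiber R S q).symm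
  have hcont : Continuous fun w => (e w).1 := continuous_subtype_val.comp e.continuous
  obtain ⟨w, hwU, hwV⟩ := nonempty_preirreducible_inter (hU.preimage hcont) (hV.preimage hcont)
    ⟨e.symm ⟨a, hfa⟩, by simp [ha]⟩ ⟨e.symm ⟨b, hfb⟩, by simp [hb]⟩
  exact ⟨_, trivial, hwU, hwV⟩

end Groth.Agent.S9642
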