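import Groth.Statements.S9643
import Mathlib.RingTheory.Support
import Mathlib.Tactic

set_option autoImplicit false
universe u
open CAlg

namespace Groth.Agent.S9643

/-- Let R be a Noetherian ring, M a finite R-module and 0 = M_0 ⊆ M_1 ⊆ ⋯ ⊆ M_n = M a chain of
submodules whose successive quotients M_i/M_{i-1} are isomorphic to R/p_i for prime ideals p_i. Then
the primes minimal among p_1, …, p_n are exactly the primes minimal in the support of M. -/
theorem result {R : Type u} [CommRing R] [IsNoetherianRing R] (M : Type u) [AddCommGroup M] [Module R M] [Module.Finite R M]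
    {n : ℕ} (N : Fin (n + 1) → Submodule R M) (hN : Monotone N) (h0 : N 0 = ⊥) (hlast : N (Fin.last n) = ⊤)
    (p : Fin n → PrimeSpectrum R)
    (hquot : ∀ i : Fin n, Nonempty ((↥(N i.succ) ⧸ Submodule.comap (N i.succ).subtype (N i.castSucc)) ≃ₗ[R] (R ⧸ (p i).asIdeal))) :
    {q : PrimeSpectrum R | Minimal (fun x => x ∈ Set.range p) q} = {q : PrimeSpectrum R | Minimal (fun x => x ∈ Module.support R M) q} := by
  have hsupp : ∀ i : Fin (n + 1), Module.support R (N i) =
      {q | ∃ j : Fin n, (j : ℕ) < (i : ℕ) ∧ p j ≤ q} := by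
    intro i
    induction i using Fin.induction with
    | zero =>
      rw [h0, Module.support_eq_empty_iff.mpr inferInstance]
      ext q; simp
    | succ i ih =>
      let K := Submodule.comap (N i.succ).subtype (N i.castSucc)
      have hex : Function.Exact K.subtype K.mkQ := LinearMap.exact_subtype_mkQ K
      rw [Module.support_of_exact hex K.injective_subtype K.mkQ_surjective]
      let e : K ≃ₗ[R] N i.castSucc := Submodule.comapSubtypeEquivOfLe (hN (Fin.castSucc_le_succ i))
      rw [LinearEquiv.support_eq e, ih, LinearEquiv.support_eq (hquot i).some]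
      ext q
      simp only [Set.mem_union, Module.mem_support_iff_of_finite, Set.mem_setOf_eq, Fin.val_castSucc,
        Fin.val_succ, Ideal.annihilator_quotient]
      constructor
      · rintro (⟨j, hj, hle⟩ | hle)
        · exact ⟨j, by omega, hle⟩
        · exact ⟨i, by omega, hle⟩
      · rintro ⟨j, hj, hle⟩
        rcases Nat.lt_or_eq_of_le (Nat.lt_succ_iff.mp hj) with hj | hj
        · exact Or.inl ⟨j, hj, hle⟩
        · obtain rfl : j = i := Fin.ext hj
          exact Or.inr hle
  have hM : Module.support R M = {q | ∃ j : Fin n, p j ≤ q} := by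
    have h1 := hsupp (Fin.last n)
    rw [hlast, LinearEquiv.support_eq Submodule.topEquiv] at h1
    rw [h1]
    ext q
    simp [Fin.is_lt]
  ext q
  simp only [Set.mem_setOf_eq, hM]
  constructor
  · rintro ⟨⟨j, rfl⟩, hmin⟩
    refine ⟨⟨j, le_rfl⟩, fun y ⟨k, hk⟩ hy => le_trans (hmin ⟨k, rfl⟩ (hk.trans hy)) hk⟩
  · rintro ⟨⟨j, hj⟩, hmin⟩
    have hqj : q ≤ p j := hmin ⟨j, le_rfl⟩ hj
    refine ⟨⟨j, le_antisymm hj hqj⟩, ?_⟩
    rintro _ ⟨k, rfl⟩ hy
    exact hmin ⟨k, le_rfl⟩ hy

end Groth.Agent.S9643
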