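import Groth.Statements.S9644
import Mathlib

set_option autoImplicit false
universe u
open CAlg

namespace Groth.Agent.S9644

/-- Let R be a Noetherian ring and M a finite R-module. Among the submodules K' of M whose support is
nowhere dense inside Supp(M) there is a largest one, K. The quotient M' = M/K then satisfies
Supp(M') = Supp(M), its associated primes are pairwise incomparable (no embedded ones), and whenever
f ∈ R belongs to every embedded associated prime of M the localized map M_f → M'_f is bijective. -/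
theorem result {R : Type u} [CommRing R] [IsNoetherianRing R] (M : Type u) [AddCommGroup M] [Module R M] [Module.Finite R M] :
    ∃ K : Submodule R M,
      IsGreatest {K' : Submodule R M | ∀ U : Set (PrimeSpectrum R), IsOpen U → U ∩ Module.support R M ⊆ closure (Module.support R ↥K') → U ∩ Module.support R M = ∅} K ∧
      Module.support R (M ⧸ K) = Module.support R M ∧
      (∀ p ∈ associatedPrimes R (M ⧸ K), ∀ q ∈ associatedPrimes R (M ⧸ K), p ≤ q → p = q) ∧
      ∀ f : R, (∀ p ∈ associatedPrimes R M, ¬ Minimal (fun x => x ∈ associatedPrimes R M) p → f ∈ p) →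
        Function.Bijective (LocalizedModule.map (Submonoid.powers f) K.mkQ) := by
  classical
  have hann : ∀ {q : PrimeSpectrum R}, q ∈ Module.support R M ↔ Module.annihilator R M ≤ q.asIdeal :=
    Module.mem_support_iff_of_finite
  let K : Submodule R M :=
    { carrier := {m | ∀ p ∈ (Module.annihilator R M).minimalPrimes, ∃ s ∉ p, s • m = 0}
      zero_mem' := fun p hp => ⟨1, fun h1 => hp.isPrime.ne_top ((Ideal.eq_top_iff_one _).2 h1), smul_zero _⟩
      add_mem' := by
        intro a b ha hb p hp
        obtain ⟨s, hs, hsa⟩ := ha p hp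
        obtain ⟨t, ht, htb⟩ := hb p hp
        refine ⟨s * t, fun h => (hp.isPrime.mem_or_mem h).elim hs ht, ?_⟩
        rw [smul_add, mul_smul s t b, htb, smul_zero, mul_comm, mul_smul, hsa, smul_zero, add_zero]
      smul_mem' := by
        intro c a ha p hp
        obtain ⟨s, hs, hsa⟩ := ha p hp
        exact ⟨s, hs, by rw [smul_comm, hsa, smul_zero]⟩ }
  have hK : ∀ {m : M}, m ∈ K ↔ ∀ p ∈ (Module.annihilator R M).minimalPrimes, ∃ s ∉ p, s • m = 0 :=
    fun {m} => Iff.rfl
  have hsup : ∀ q : PrimeSpectrum R, q ∈ Module.support R M →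
      ∃ p : PrimeSpectrum R, p.asIdeal ∈ (Module.annihilator R M).minimalPrimes ∧ p ≤ q := by
    intro q hq
    obtain ⟨p, hp, hpq⟩ := Ideal.exists_minimalPrimes_le (hann.1 hq)
    exact ⟨⟨p, hp.isPrime⟩, hp, hpq⟩
  have hpK : ∀ p : PrimeSpectrum R, p.asIdeal ∈ (Module.annihilator R M).minimalPrimes →
      p ∉ Module.support R ↥K := by
    intro p hp
    rw [Module.notMem_support_iff']
    intro m
    obtain ⟨s, hs, hsm⟩ := hK.1 m.2 p.asIdeal hp
    exact ⟨s, hs, Subtype.ext hsm⟩
  have hclosed : ∀ K' : Submodule R M, IsClosed (Module.support R ↥K') := by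
    intro K'
    rw [Module.support_eq_zeroLocus]
    exact PrimeSpectrum.isClosed_zeroLocus _
  have hmin : ∀ p : Ideal R, p ∈ associatedPrimes R M →
      Minimal (fun x => x ∈ associatedPrimes R M) p → p ∈ (Module.annihilator R M).minimalPrimes := by
    intro p hp hm
    have := hp.isPrime
    have h1 : Module.annihilator R M ≤ p := le_of_eq_of_le Submodule.annihilator_top.symm (IsAssociatedPrime.annihilator_le hp)
    obtain ⟨q, hq, hqp⟩ := Ideal.exists_minimalPrimes_le h1
    have h2 := Module.associatedPrimes.minimalPrimes_annihilator_subset_associatedPrimes R M hq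
    rwa [← le_antisymm hqp (hm.2 h2 hqp)]
  refine ⟨K, ⟨?_, ?_⟩, ?_, ?_, ?_⟩
  · intro U hU hsub
    rw [(hclosed K).closure_eq] at hsub
    by_contra hne
    obtain ⟨q, hqU, hqM⟩ := Set.nonempty_iff_ne_empty.2 hne
    obtain ⟨p, hp, hpq⟩ := hsup q hqM
    have hpU : p ∈ U := hU.stableUnderGeneralization ((PrimeSpectrum.le_iff_specializes p q).1 hpq) hqU
    exact hpK p hp (hsub ⟨hpU, hann.2 hp.1.2⟩)
  · intro K' hK' m hm
    rw [hK]
    intro p hp
    haveI := hp.isPrime
    let T : Set (PrimeSpectrum R) := ⋃ p' ∈ (Module.annihilator R M).minimalPrimes \ {p}, PrimeSpectrum.zeroLocus (p' : Set R)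
    have hT : IsClosed T :=
      ((Ideal.finite_minimalPrimes_of_isNoetherianRing (R := R) (Module.annihilator R M)).sdiff).isClosed_biUnion
        fun p' _ => PrimeSpectrum.isClosed_zeroLocus _
    by_contra hcon
    push Not at hcon
    have hpS : (⟨p, hp.isPrime⟩ : PrimeSpectrum R) ∈ Module.support R ↥K' :=
      Module.mem_support_iff'.2 ⟨⟨m, hm⟩, fun r hr h => hcon r hr (congrArg Subtype.val h)⟩
    have h := hK' Tᶜ hT.isOpen_compl (by
      rintro q ⟨hqT, hqM⟩
      apply subset_closure
      obtain ⟨p', hp', hp'q⟩ := hsup q hqM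
      by_cases hpp : p'.asIdeal = p
      · exact Module.mem_support_mono (show (⟨p, hp.isPrime⟩ : PrimeSpectrum R) ≤ q from hpp ▸ hp'q) hpS
      · exact absurd (Set.mem_biUnion (show p'.asIdeal ∈ (Module.annihilator R M).minimalPrimes \ {p} from ⟨hp', hpp⟩) ((PrimeSpectrum.mem_zeroLocus _ _).2 hp'q) : q ∈ T) hqT)
    refine Set.eq_empty_iff_forall_notMem.1 h ⟨p, hp.isPrime⟩ ⟨?_, hann.2 hp.1.2⟩
    intro hpT
    obtain ⟨p', ⟨hp', hne⟩, hle⟩ := Set.mem_iUnion₂.1 hpT
    have hle' : p' ≤ p := (PrimeSpectrum.mem_zeroLocus _ _).1 hle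
    exact hne (le_antisymm hle' (hp.2 hp'.1 hle'))
  · refine Set.Subset.antisymm (Module.support_subset_of_surjective _ K.mkQ_surjective) ?_
    intro q hq
    obtain ⟨p, hp, hpq⟩ := hsup q hq
    refine Module.mem_support_mono hpq ?_
    have h1 := Module.support_of_exact (LinearMap.exact_subtype_mkQ K) K.subtype_injective K.mkQ_surjective
    have h2 : p ∈ Module.support R ↥K ∪ Module.support R (M ⧸ K) := h1 ▸ hann.2 hp.1.2
    exact h2.resolve_left (hpK p hp)
  · suffices hmem : ∀ p ∈ associatedPrimes R (M ⧸ K), p ∈ (Module.annihilator R M).minimalPrimes by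
      intro p hp q hq hpq
      exact le_antisymm hpq ((hmem q hq).2 (hmem p hp).1 hpq)
    intro p hp
    obtain ⟨hpP, xb, hxb⟩ := isAssociatedPrime_iff.1 hp
    obtain ⟨x, rfl⟩ := Submodule.Quotient.mk_surjective _ xb
    have hx : x ∉ K := by
      intro hx
      apply hpP.ne_top
      rw [hxb, (Submodule.Quotient.mk_eq_zero K).2 hx]
      simp
    simp only [hK, not_forall] at hx
    obtain ⟨q, hq, hx⟩ := hx
    push Not at hx
    have hle : p ≤ q := by
      intro s hs
      rw [hxb, Submodule.mem_colon_singleton, Submodule.mem_bot, ← Submodule.Quotient.mk_smul,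
        Submodule.Quotient.mk_eq_zero] at hs
      obtain ⟨t, ht, hts⟩ := hK.1 hs q hq
      by_contra hsq
      exact hx (t * s) (fun h => (hq.isPrime.mem_or_mem h).elim ht hsq) (by rw [mul_smul, hts])
    have hsubM : Module.annihilator R M ≤ p := le_trans
      (LinearMap.annihilator_le_of_surjective K.mkQ K.mkQ_surjective)
      (le_of_eq_of_le Submodule.annihilator_top.symm (IsAssociatedPrime.annihilator_le hp))
    rwa [le_antisymm hle (hq.2 ⟨hpP, hsubM⟩ hle)]
  · intro f hf
    refine ⟨?_, LocalizedModule.map_surjective _ _ K.mkQ_surjective⟩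
    have key : ∀ k ∈ K, ∃ n : ℕ, f ^ n • k = 0 := by
      intro k hk
      by_contra hcon
      push Not at hcon
      have hfr : f ∉ (Module.annihilator R ↥(Submodule.span R {k})).radical := by
        rintro ⟨n, hn⟩
        exact hcon n (congrArg Subtype.val (Module.mem_annihilator.1 hn ⟨k, Submodule.mem_span_singleton_self k⟩))
      rw [← Ideal.sInf_minimalPrimes, Ideal.mem_sInf] at hfr
      push Not at hfr
      obtain ⟨q, hq, hfq⟩ := hfr
      haveI := hq.isPrime
      have hqA : q ∈ associatedPrimes R M :=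
        IsAssociatedPrime.map_of_injective (Submodule.span R {k}).subtype
          (Module.associatedPrimes.minimalPrimes_annihilator_subset_associatedPrimes R _ hq) (Submodule.subtype_injective _)
      by_cases hm : Minimal (fun x => x ∈ associatedPrimes R M) q
      · obtain ⟨s, hs, hsk⟩ := hK.1 hk q (hmin q hqA hm)
        refine hs (hq.1.2 (Module.mem_annihilator.2 fun y => ?_))
        obtain ⟨c, hc⟩ := Submodule.mem_span_singleton.1 y.2
        apply Subtype.ext
        rw [Submodule.coe_smul, ← hc, smul_comm, hsk, smul_zero]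
        rfl
      · exact hfq (hf q hqA hm)
    rw [injective_iff_map_eq_zero]
    intro z
    induction z using LocalizedModule.induction_on with
    | h m s =>
      intro hz
      rw [LocalizedModule.map_mk, ← LocalizedModule.zero_mk 1, LocalizedModule.mk_eq] at hz
      obtain ⟨⟨t, ht⟩, htm⟩ := hz
      rw [one_smul, smul_zero, smul_zero] at htm
      change t • K.mkQ m = 0 at htm
      rw [Submodule.mkQ_apply, ← Submodule.Quotient.mk_smul, Submodule.Quotient.mk_eq_zero] at htm
      obtain ⟨n, hn⟩ := key _ htm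
      rw [← LocalizedModule.zero_mk 1, LocalizedModule.mk_eq]
      refine ⟨⟨f ^ n * t, mul_mem ⟨n, rfl⟩ ht⟩, ?_⟩
      rw [one_smul, smul_zero, smul_zero]
      change (f ^ n * t) • m = 0
      rw [mul_smul, hn]

end Groth.Agent.S9644
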