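import Groth.Statements.S9645
import Mathlib.RingTheory.Localization.Integral
import Mathlib.Tactic

set_option autoImplicit false
universe u
open CAlg

namespace Groth.Agent.S9645

/-- Integral closure commutes with localization. Let A → B be a ring map, S a multiplicative subset of
A, and A_S, B_S the localizations of A at S and of B at the image of S. Then an element x of B_S is
integral over A_S if and only if x·s = b for some s ∈ S and some b ∈ B integral over A (images taken
in B_S); that is, the integral closure of A_S in B_S is S⁻¹B' for B' the integral closure of A in B. -/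
theorem result {A B As Bs : Type u} [CommRing A] [CommRing B] [CommRing As] [CommRing Bs] [Algebra A B] [Algebra A As] [Algebra B Bs] [Algebra As Bs] [Algebra A Bs] [IsScalarTower A B Bs] [IsScalarTower A As Bs]
    (S : Submonoid A) [IsLocalization S As] [IsLocalization (Algebra.algebraMapSubmonoid B S) Bs] (x : Bs) :
    IsIntegral As x ↔ ∃ b : B, IsIntegral A b ∧ ∃ s ∈ S, x * algebraMap A Bs s = algebraMap B Bs b := by
  constructor
  · intro hx
    obtain ⟨⟨b₀, t⟩, hb⟩ := IsLocalization.surj (Algebra.algebraMapSubmonoid B S) x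
    obtain ⟨_, s₀, hs₀, rfl⟩ := t
    simp only at hb
    obtain ⟨⟨s₁, hs₁⟩, h1⟩ := IsIntegral.exists_multiple_integral_of_isLocalization S x hx
    rw [Submonoid.smul_def] at h1
    have h2 : IsIntegral A (algebraMap B Bs (s₁ • b₀)) := by
      have h3 : algebraMap B Bs (s₁ • b₀) = s₀ • (s₁ • x) := by
        rw [Algebra.smul_def, Algebra.smul_def s₀, Algebra.smul_def, map_mul, ← hb,
          IsScalarTower.algebraMap_apply A B Bs s₁, IsScalarTower.algebraMap_apply A B Bs s₀]
        ring
      rw [h3]
      exact h1.smul s₀
    obtain ⟨m, hm, h4⟩ := IsLocalization.exists_isIntegral_smul_of_isIntegral_map (Sₘ := Bs) S h2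
    refine ⟨m • s₁ • b₀, h4, m * s₁ * s₀, mul_mem (mul_mem hm hs₁) hs₀, ?_⟩
    rw [Algebra.smul_def, Algebra.smul_def, map_mul, map_mul, map_mul, map_mul, ← hb,
      IsScalarTower.algebraMap_apply A B Bs s₁, IsScalarTower.algebraMap_apply A B Bs s₀,
      IsScalarTower.algebraMap_apply A B Bs m]
    ring
  · rintro ⟨b, hb, s, hs, h⟩
    have h1 : IsIntegral As (algebraMap B Bs b) := (hb.map (IsScalarTower.toAlgHom A B Bs)).tower_top
    obtain ⟨u, hu⟩ := (IsLocalization.map_units As (⟨s, hs⟩ : S))
    have h2 : x = algebraMap As Bs ↑u⁻¹ * algebraMap B Bs b := by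
      rw [← h, IsScalarTower.algebraMap_apply A As Bs s, ← hu,
        mul_comm x, ← mul_assoc, ← map_mul, Units.inv_mul, map_one, one_mul]
    rw [h2]
    exact isIntegral_algebraMap.mul h1

end Groth.Agent.S9645
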