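import Groth.Statements.S9646
import Groth.Agent.S9645
import Mathlib.RingTheory.Localization.AtPrime.Basic
import Mathlib.Tactic

set_option autoImplicit false
universe u
open CAlg

namespace Groth.Agent.S9646

/-- (2) ⇒ (1): let R → S be a ring map and x ∈ S. If for every prime ideal p of R the image of x in S_p
(the localization of S at the image of R ∖ p) is integral over R_p, then x is integral over R. Here
R_p and S_p are any rings satisfying the localization universal properties. -/
theorem result {R S : Type u} [CommRing R] [CommRing S] [Algebra R S] (x : S)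
    (h : ∀ (p : Ideal R) [p.IsPrime] (Rp Sp : Type u) [CommRing Rp] [CommRing Sp] [Algebra R Rp] [Algebra S Sp] [Algebra Rp Sp] [Algebra R Sp] [IsScalarTower R S Sp] [IsScalarTower R Rp Sp] [IsLocalization.AtPrime Rp p] [IsLocalization (Algebra.algebraMapSubmonoid S p.primeCompl) Sp], IsIntegral Rp (algebraMap S Sp x)) :
    IsIntegral R x := by
  classical
  let J : Ideal R :=
    Submodule.comap (LinearMap.toSpanSingleton R S x) (integralClosure R S).toSubmodule
  have hJ : J = ⊤ := by
    by_contra hne
    obtain ⟨p, hp, hle⟩ := Ideal.exists_le_maximal J hne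
    have := hp.isPrime
    let Sp := Localization (Algebra.algebraMapSubmonoid S p.primeCompl)
    have h0 := h p (Localization.AtPrime p) Sp
    obtain ⟨b, hb, s, hs, hbs⟩ := (Groth.Agent.S9645.result (A := R) (B := S)
      (As := Localization.AtPrime p) (Bs := Sp) p.primeCompl _).mp h0
    rw [IsScalarTower.algebraMap_apply R S Sp, ← map_mul] at hbs
    obtain ⟨⟨_, t, ht, rfl⟩, heq⟩ :=
      (IsLocalization.eq_iff_exists (Algebra.algebraMapSubmonoid S p.primeCompl) Sp).mp hbs
    refine p.primeCompl.mul_mem ht hs (hle ?_)
    show (t * s) • x ∈ integralClosure R S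
    have : (t * s) • x = algebraMap R S t * (x * algebraMap R S s) := by
      rw [Algebra.smul_def, map_mul]; ring
    rw [this]
    have heq' : algebraMap R S t * (x * algebraMap R S s) = algebraMap R S t * b := heq
    rw [heq']
    exact (isIntegral_algebraMap.mul hb : IsIntegral R _)
  have h1 : (1 : R) ∈ J := hJ ▸ Submodule.mem_top
  have h2 : (1 : R) • x ∈ integralClosure R S := h1
  rwa [one_smul] at h2

end Groth.Agent.S9646
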