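import Groth.Statements.S9647
import Mathlib

set_option autoImplicit false
universe u
open CAlg

namespace Groth.Agent.S9647

open TensorProduct in
/-- Let K/k be a field extension and k^sep a separable algebraic closure of k. Then the automorphism
group of k^sep over k acts transitively on the primes of k^sep ⊗_k K: for any two primes P, Q there
is a k-automorphism σ of k^sep with Q the inverse image of P under σ ⊗ id_K. -/
theorem result {k K : Type u} [Field k] [Field K] [Algebra k K]
    (P Q : Ideal (SeparableClosure k ⊗[k] K)) [P.IsPrime] [Q.IsPrime] :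
    ∃ σ : SeparableClosure k ≃ₐ[k] SeparableClosure k, Q = P.comap (Algebra.TensorProduct.map (σ : SeparableClosure k →ₐ[k] SeparableClosure k) (AlgHom.id k K)) := by
  suffices H : ∀ (L : Type u) [Field L] [Algebra k L] [Normal k L] (P Q : Ideal (L ⊗[k] K)) [P.IsPrime] [Q.IsPrime],
      ∃ σ : L ≃ₐ[k] L, Q = P.comap (Algebra.TensorProduct.map (σ : L →ₐ[k] L) (AlgHom.id k K)) from
    H (SeparableClosure k) P Q
  clear * -
  intro L _ _ _ P Q _ _
  let Ω := AlgebraicClosure K
  have hP : ∀ (P : Ideal (L ⊗[k] K)) [P.IsPrime], ∃ φ : L →ₐ[k] Ω,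
      RingHom.ker (Algebra.TensorProduct.lift φ (IsScalarTower.toAlgHom k K Ω)
        fun _ _ => Commute.all _ _) = P := by
    intro P _
    let B := (L ⊗[k] K) ⧸ P
    let qK : K →ₐ[k] B := (Ideal.Quotient.mkₐ k P).comp Algebra.TensorProduct.includeRight
    let qL : L →ₐ[k] B := (Ideal.Quotient.mkₐ k P).comp Algebra.TensorProduct.includeLeft
    let _ : Algebra K B := qK.toRingHom.toAlgebra
    have : IsScalarTower k K B := .of_algebraMap_eq fun c => (qK.commutes c).symm
    have hint : Algebra.IsIntegral K B := by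
      refine ⟨fun b => ?_⟩
      obtain ⟨z, rfl⟩ := Ideal.Quotient.mk_surjective b
      induction z using TensorProduct.induction_on with
      | zero => rw [map_zero]; exact isIntegral_zero
      | tmul a c =>
        have e : Ideal.Quotient.mk P (a ⊗ₜ[k] c) = qL a * algebraMap K B c := by
          show _ = qL a * qK c
          simp [qL, qK, ← map_mul]
        rw [e]
        exact (((Algebra.IsIntegral.isIntegral (R := k) a).map qL).tower_top).mul isIntegral_algebraMap
      | add a c ha hc => rw [map_add]; exact ha.add hc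
    let _ : Field B := (isField_of_isIntegral_of_isField' (Field.toIsField K)).toField
    let ε : B →ₐ[K] Ω := IsAlgClosed.lift
    refine ⟨(ε.restrictScalars k).comp qL, ?_⟩
    have e : Algebra.TensorProduct.lift ((ε.restrictScalars k).comp qL) (IsScalarTower.toAlgHom k K Ω)
        (fun _ _ => Commute.all _ _) = (ε.restrictScalars k).comp (Ideal.Quotient.mkₐ k P) := by
      refine Algebra.TensorProduct.ext' fun a c => ?_
      have h1 : ε (qK c) = algebraMap K Ω c := ε.commutes c
      simp [qL, qK, ← h1, ← map_mul]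
      rfl
    rw [e]
    ext x
    simp only [RingHom.mem_ker, AlgHom.comp_apply, AlgHom.coe_restrictScalars', Ideal.Quotient.mkₐ_eq_mk]
    rw [map_eq_zero_iff ε ε.toRingHom.injective]
    exact Ideal.Quotient.eq_zero_iff_mem
  obtain ⟨φ, hφ⟩ := hP P
  obtain ⟨ψ, hψ⟩ := hP Q
  let _ : Algebra L Ω := φ.toRingHom.toAlgebra
  have : IsScalarTower k L Ω := .of_algebraMap_eq fun c => (φ.commutes c).symm
  let σ : L ≃ₐ[k] L := ψ.restrictNormal' L
  have hσ : ∀ x, φ (σ x) = ψ x := fun x => ψ.restrictNormal_commutes L x
  refine ⟨σ, ?_⟩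
  rw [← hφ, ← hψ]
  have e : Algebra.TensorProduct.lift ψ (IsScalarTower.toAlgHom k K Ω) (fun _ _ => Commute.all _ _) =
      (Algebra.TensorProduct.lift φ (IsScalarTower.toAlgHom k K Ω) fun _ _ => Commute.all _ _).comp
        (Algebra.TensorProduct.map (σ : L →ₐ[k] L) (AlgHom.id k K)) :=
    Algebra.TensorProduct.ext' fun a c => by simp [hσ]
  rw [e]
  rfl

end Groth.Agent.S9647
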