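import Groth.Statements.S9649
import Groth.Agent.Ega41Sep.Separable

set_option autoImplicit false
universe u
open CAlg

namespace Groth.Agent.S9649

/-- A separably generated field extension is separable. Precisely: let K/k be a field extension
admitting a transcendence basis x over whose generated subfield k(x) the field K is separable
algebraic; then every finitely generated subextension K' of K/k also admits such a transcendence
basis. -/
theorem result {k K : Type u} [Field k] [Field K] [Algebra k K]
    (h : ∃ (ι : Type u) (x : ι → K), IsTranscendenceBasis k x ∧ Algebra.IsSeparable (IntermediateField.adjoin k (Set.range x)) K)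
    (K' : IntermediateField k K) (hK' : ∃ s : Finset K, IntermediateField.adjoin k (s : Set K) = K') :
    ∃ (ι : Type u) (x : ι → K'), IsTranscendenceBasis k x ∧ Algebra.IsSeparable (IntermediateField.adjoin k (Set.range x)) K' := by
  obtain ⟨ι, x, hx, hsep⟩ := h
  obtain ⟨s, hs⟩ := hK'
  let E := IntermediateField.adjoin k (Set.range x)
  have : Algebra.FormallyEtale E K := Algebra.FormallyEtale.of_isSeparable E K
  have : Algebra.FormallySmooth k E := by
    let e := hx.1.aevalEquivField
    have h1 : Algebra.FormallySmooth (MvPolynomial ι k) (FractionRing (MvPolynomial ι k)) :=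
      Algebra.FormallySmooth.of_isLocalization (nonZeroDivisors (MvPolynomial ι k))
    have h2 : Algebra.FormallySmooth k (FractionRing (MvPolynomial ι k)) :=
      Algebra.FormallySmooth.comp k (MvPolynomial ι k) _
    exact Algebra.FormallySmooth.of_equiv e
  have : Algebra.FormallySmooth k K := Algebra.FormallySmooth.comp k E K
  have : Algebra.IsGeometricallyReduced k K :=
    (Groth.Ega41Sep.formallySmooth_iff_isGeometricallyReduced k K).mp inferInstance
  have hK'' : Algebra.IsGeometricallyReduced k K' :=
    Algebra.IsGeometricallyReduced.of_injective K'.val K'.val.toRingHom.injective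
  have : Algebra.EssFiniteType k K' := IntermediateField.essFiniteType_iff.mpr ⟨s, hs⟩
  suffices H : ∃ t : Finset K', IsTranscendenceBasis k ((↑) : t → K') ∧
      Algebra.IsSeparable (IntermediateField.adjoin k (t : Set K')) K' by
    obtain ⟨t, ht, hts⟩ := H
    refine ⟨t, (↑), ht, ?_⟩
    have e : Set.range ((↑) : t → K') = (t : Set K') := by ext; simp
    rw [e]; exact hts
  obtain h0 | ⟨p, hp, hpk⟩ := CharP.exists' k
  · exact exists_isTranscendenceBasis_and_isSeparable_of_perfectField k K'
  · refine exists_isTranscendenceBasis_and_isSeparable_of_linearIndepOn_pow_of_essFiniteType p hp.out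
      fun t ht => ?_
    exact (Groth.Ega41Sep.isGeometricallyReduced_iff_powIndep p k K').mp hK''
      (fun i : t => (i : K')) ht

end Groth.Agent.S9649
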