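import Groth.Statements.S9651
import Groth.Agent.EGA41Two.GenericImage
import Mathlib.RingTheory.Spectrum.Prime.ConstructibleSet
import Mathlib.RingTheory.Localization.InvSubmonoid

set_option autoImplicit false
universe u
open CAlg

namespace Groth.Agent.S9651

/-- Let R → S be a ring map of finite type, f : Spec(S) → Spec(R) the induced map and E ⊆ Spec(S) a
constructible subset. If ξ ∈ f(E) then f(E) ∩ cl{ξ} contains an open dense subset of the closure
cl{ξ}: some open U of Spec(R) has U ∩ cl{ξ} dense in cl{ξ} and contained in f(E). -/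
theorem result {R S : Type u} [CommRing R] [CommRing S] [Algebra R S] [Algebra.FiniteType R S]
    (E : Set (PrimeSpectrum S)) (hE : Topology.IsConstructible E) (ξ : PrimeSpectrum R) (hξ : ξ ∈ PrimeSpectrum.comap (algebraMap R S) '' E) :
    ∃ U : Set (PrimeSpectrum R), IsOpen U ∧ closure ({ξ} : Set (PrimeSpectrum R)) ⊆ closure (U ∩ closure {ξ}) ∧ U ∩ closure {ξ} ⊆ PrimeSpectrum.comap (algebraMap R S) '' E := by
  classical
  obtain ⟨D, rfl⟩ := PrimeSpectrum.exists_constructibleSetData_iff.mpr hE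
  obtain ⟨ζ, hζ, rfl⟩ := hξ
  simp only [PrimeSpectrum.ConstructibleSetData.toSet, Set.mem_iUnion] at hζ
  obtain ⟨C, hC, hζC⟩ := hζ
  set q : Ideal R := ζ.asIdeal.comap (algebraMap R S) with hq
  let J : Ideal S := Ideal.span (Set.range C.g) ⊔ q.map (algebraMap R S)
  have hJζ : J ≤ ζ.asIdeal := sup_le (Ideal.span_le.2 fun x hx => hζC.1 hx) Ideal.map_comap_le
  have hfζ : C.f ∉ ζ.asIdeal := fun h => hζC.2 (fun x hx => by
    rw [Set.mem_singleton_iff] at hx
    exact hx ▸ h)
  let T := Localization.Away (Ideal.Quotient.mk J C.f)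
  letI : Algebra (R ⧸ q) T :=
    ((algebraMap (S ⧸ J) T).comp (Ideal.quotientMap J (algebraMap R S)
      (Ideal.map_le_iff_le_comap.1 le_sup_right))).toAlgebra
  haveI : IsScalarTower R (R ⧸ q) T := IsScalarTower.of_algebraMap_eq fun r => by
    rw [IsScalarTower.algebraMap_apply R (S ⧸ J) T]
    rfl
  haveI : Algebra.FiniteType R T :=
    Algebra.FiniteType.trans (S := S) ‹_› (Algebra.FiniteType.trans (S := S ⧸ J) (Algebra.FiniteType.of_surjective (IsScalarTower.toAlgHom S S (S ⧸ J)) Ideal.Quotient.mk_surjective)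
      (IsLocalization.finiteType_of_monoid_fg (.powers (Ideal.Quotient.mk J C.f)) _))
  haveI : Algebra.FiniteType (R ⧸ q) T := Algebra.FiniteType.of_restrictScalars_finiteType R (R ⧸ q) T
  haveI : q.IsPrime := Ideal.IsPrime.comap _
  obtain ⟨ζ₁, hζ₁⟩ : ζ ∈ Set.range (PrimeSpectrum.comap (algebraMap S T)) := by
    rw [IsScalarTower.algebraMap_eq S (S ⧸ J) T, PrimeSpectrum.comap_comp, Set.range_comp,
      PrimeSpectrum.localization_away_comap_range T (Ideal.Quotient.mk J C.f)]
    have : ζ ∈ Set.range (PrimeSpectrum.comap (algebraMap S (S ⧸ J))) := by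
      rw [Ideal.Quotient.algebraMap_eq, range_comap_of_surjective _ _ Ideal.Quotient.mk_surjective]
      simpa [Ideal.mk_ker] using hJζ
    obtain ⟨ζ₂, hζ₂⟩ := this
    refine ⟨ζ₂, fun h => hfζ ?_, hζ₂⟩
    rw [← hζ₂]
    exact h
  have hbot : ζ₁.asIdeal.comap (algebraMap (R ⧸ q) T) = ⊥ := by
    rw [eq_bot_iff]
    intro x hx
    obtain ⟨r, rfl⟩ := Ideal.Quotient.mk_surjective x
    rw [Ideal.mem_bot, Ideal.Quotient.eq_zero_iff_mem, hq, ← hζ₁]
    rw [Ideal.mem_comap] at hx
    show algebraMap S T (algebraMap R S r) ∈ ζ₁.asIdeal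
    rw [← IsScalarTower.algebraMap_apply]
    rwa [IsScalarTower.algebraMap_apply R (R ⧸ q) T]
  obtain ⟨a, ha, hU⟩ := Groth.EGA41Two.exists_ne_zero_forall_mem_range_comap ζ₁.asIdeal hbot
  obtain ⟨b, rfl⟩ := Ideal.Quotient.mk_surjective a
  have hb : b ∉ q := fun h => ha (Ideal.Quotient.eq_zero_iff_mem.2 h)
  refine ⟨PrimeSpectrum.basicOpen b, (PrimeSpectrum.basicOpen b).2,
    closure_mono (Set.singleton_subset_iff.2 ⟨hb, subset_closure rfl⟩), ?_⟩
  rintro p ⟨hpb, hpq⟩
  rw [← PrimeSpectrum.le_iff_mem_closure] at hpq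
  obtain ⟨p', rfl⟩ : p ∈ Set.range (PrimeSpectrum.comap (Ideal.Quotient.mk q)) := by
    rw [range_comap_of_surjective _ _ Ideal.Quotient.mk_surjective, Ideal.mk_ker]
    exact hpq
  obtain ⟨z, hz⟩ := hU p' hpb
  refine ⟨PrimeSpectrum.comap (algebraMap S T) z, ?_, ?_⟩
  · simp only [PrimeSpectrum.ConstructibleSetData.toSet, Set.mem_iUnion]
    refine ⟨C, hC, fun x hx => ?_, fun h => ?_⟩
    · show algebraMap S T x ∈ z.asIdeal
      rw [IsScalarTower.algebraMap_apply S (S ⧸ J) T, Ideal.Quotient.algebraMap_eq,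
        Ideal.Quotient.eq_zero_iff_mem.2 (le_sup_left (a := Ideal.span (Set.range C.g)) (Ideal.subset_span hx)), map_zero]
      exact zero_mem _
    · have h' : algebraMap (S ⧸ J) T (Ideal.Quotient.mk J C.f) ∈ z.asIdeal := h rfl
      exact z.2.ne_top (Ideal.eq_top_of_isUnit_mem _ h'
        (IsLocalization.Away.algebraMap_isUnit _))
  · rw [← hz, ← PrimeSpectrum.comap_comp_apply, ← PrimeSpectrum.comap_comp_apply]
    congr 1


end Groth.Agent.S9651
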