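import Groth.Statements.S9652
import Mathlib

set_option autoImplicit false
universe u
open CAlg

namespace Groth.Agent.S9652

open PrimeSpectrum in
/-- A nonempty intersection of a constructible set with a locally closed set has a closed point. -/
theorem exists_closed_mem {S : Type u} [CommRing S] [IsJacobsonRing S] (E : Set (PrimeSpectrum S))
    (hE : Topology.IsConstructible E) (Z : Set (PrimeSpectrum S)) (hZ : IsLocallyClosed Z)
    (h : (E ∩ Z).Nonempty) : ∃ y ∈ E ∩ Z, IsClosed ({y} : Set (PrimeSpectrum S)) := by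
  obtain ⟨D, rfl⟩ := exists_constructibleSetData_iff.2 hE
  obtain ⟨y, hy, hyZ⟩ := h
  simp only [ConstructibleSetData.toSet, Set.mem_iUnion] at hy
  obtain ⟨C, hC, hyC⟩ := hy
  have hlc : IsLocallyClosed C.toSet :=
    (isClosed_zeroLocus _).isLocallyClosed.inter (isClosed_zeroLocus _).isOpen_compl.isLocallyClosed
  obtain ⟨w, ⟨hwC, hwZ⟩, hw⟩ := nonempty_inter_closedPoints (Z := C.toSet ∩ Z) ⟨y, hyC, hyZ⟩ (hlc.inter hZ)
  exact ⟨w, ⟨Set.mem_biUnion hC hwC, hwZ⟩, hw⟩

open PrimeSpectrum in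
/-- In a Jacobson spectrum the points closed in a constructible set are its closed points. -/
theorem closedIn_iff {S : Type u} [CommRing S] [IsJacobsonRing S] (E : Set (PrimeSpectrum S))
    (hE : Topology.IsConstructible E) :
    {y | y ∈ E ∧ closure {y} ∩ E = {y}} = {y | IsClosed ({y} : Set (PrimeSpectrum S))} ∩ E := by
  ext y
  refine ⟨fun ⟨hy, hy'⟩ => ?_, fun ⟨hy, hy'⟩ => ⟨hy', ?_⟩⟩
  · obtain ⟨w, ⟨hw, hw'⟩, hwc⟩ := exists_closed_mem E hE _ isClosed_closure.isLocallyClosed
      ⟨y, hy, subset_closure (Set.mem_singleton y)⟩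
    have : w ∈ closure {y} ∩ E := ⟨hw', hw⟩
    rw [hy', Set.mem_singleton_iff] at this
    exact ⟨this ▸ hwc, hy⟩
  · rw [hy.closure_eq]
    exact Set.inter_eq_left.2 (Set.singleton_subset_iff.2 hy')

/-- Closed points map to closed points along finite type maps of Jacobson rings. -/
theorem isClosed_comap {R S : Type u} [CommRing R] [CommRing S] [Algebra R S] [IsJacobsonRing R]
    [Algebra.FiniteType R S] {y : PrimeSpectrum S} (hy : IsClosed ({y} : Set (PrimeSpectrum S))) :
    IsClosed ({PrimeSpectrum.comap (algebraMap R S) y} : Set (PrimeSpectrum R)) := by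
  rw [PrimeSpectrum.isClosed_singleton_iff_isMaximal] at hy ⊢
  letI : Field (S ⧸ y.asIdeal) := Ideal.Quotient.field _
  haveI : Algebra.FiniteType R (S ⧸ y.asIdeal) :=
    Algebra.FiniteType.trans (S := S) ‹_› inferInstance
  haveI : Module.Finite R (S ⧸ y.asIdeal) := finite_of_finite_type_of_isJacobsonRing R _
  have h := Ideal.isMaximal_comap_of_isIntegral_of_isMaximal (R := R) (⊥ : Ideal (S ⧸ y.asIdeal))
  convert h using 1
  ext r
  rw [Ideal.mem_comap, Ideal.mem_bot, IsScalarTower.algebraMap_apply R S (S ⧸ y.asIdeal)]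
  exact (Ideal.Quotient.eq_zero_iff_mem (I := y.asIdeal)).symm


/-- Let R and S be Jacobson rings, R → S a ring map of finite type with induced map f : Spec(S) →
Spec(R), and E ⊆ Spec(S) a constructible subset. Writing T₀ for the set of points of a subspace T
which are closed in T, one has f(E)₀ = f(E₀) = (Spec R)₀ ∩ f(E). -/
theorem result {R S : Type u} [CommRing R] [CommRing S] [Algebra R S] [IsJacobsonRing R] [IsJacobsonRing S] [Algebra.FiniteType R S]
    (E : Set (PrimeSpectrum S)) (hE : Topology.IsConstructible E) :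
    {x | x ∈ PrimeSpectrum.comap (algebraMap R S) '' E ∧ closure {x} ∩ PrimeSpectrum.comap (algebraMap R S) '' E = {x}} =
        PrimeSpectrum.comap (algebraMap R S) '' {y | y ∈ E ∧ closure {y} ∩ E = {y}} ∧
      PrimeSpectrum.comap (algebraMap R S) '' {y | y ∈ E ∧ closure {y} ∩ E = {y}} =
        {x | IsClosed ({x} : Set (PrimeSpectrum R))} ∩ PrimeSpectrum.comap (algebraMap R S) '' E := by
  rw [closedIn_iff E hE]
  set f := PrimeSpectrum.comap (algebraMap R S) with hf
  have h2 : f '' ({y | IsClosed ({y} : Set (PrimeSpectrum S))} ∩ E) =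
      {x | IsClosed ({x} : Set (PrimeSpectrum R))} ∩ f '' E := by
    ext x
    constructor
    · rintro ⟨y, ⟨hy, hy'⟩, rfl⟩
      exact ⟨isClosed_comap hy, y, hy', rfl⟩
    · rintro ⟨hx, y, hy, rfl⟩
      obtain ⟨w, ⟨hw, hw'⟩, hwc⟩ := exists_closed_mem E hE (f ⁻¹' {f y})
        (hx.preimage (PrimeSpectrum.continuous_comap _)).isLocallyClosed ⟨y, hy, rfl⟩
      exact ⟨w, ⟨hwc, hw⟩, hw'⟩
  refine ⟨?_, h2⟩
  rw [h2]
  ext x
  constructor
  · rintro ⟨⟨y, hy, rfl⟩, hx⟩
    obtain ⟨w, ⟨hw, hw'⟩, hwc⟩ := exists_closed_mem E hE (f ⁻¹' closure {f y})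
      (isClosed_closure.preimage (PrimeSpectrum.continuous_comap _)).isLocallyClosed
      ⟨y, hy, subset_closure (Set.mem_singleton _)⟩
    have : f w ∈ closure {f y} ∩ f '' E := ⟨hw', w, hw, rfl⟩
    rw [hx, Set.mem_singleton_iff] at this
    exact ⟨this ▸ isClosed_comap hwc, y, hy, rfl⟩
  · rintro ⟨hx, hx'⟩
    refine ⟨hx', ?_⟩
    rw [IsClosed.closure_eq hx]
    exact Set.inter_eq_left.2 (Set.singleton_subset_iff.2 hx')

end Groth.Agent.S9652
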