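import Groth.Statements.S9653
import Mathlib
import Groth.Agent.S9652

set_option autoImplicit false
universe u
open CAlg

namespace Groth.Agent.S9653

/-- Let R and S be Jacobson rings, R → S a ring map of finite type with induced map f : Spec(S) →
Spec(R), E ⊆ Spec(S) constructible and E₀ the set of points of E closed in E. Then a point ξ of
Spec(R) lies in f(E) if and only if cl{ξ} ∩ f(E₀) is dense in the closure cl{ξ}. -/
theorem result {R S : Type u} [CommRing R] [CommRing S] [Algebra R S] [IsJacobsonRing R] [IsJacobsonRing S] [Algebra.FiniteType R S]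
    (E : Set (PrimeSpectrum S)) (hE : Topology.IsConstructible E) (ξ : PrimeSpectrum R) :
    ξ ∈ PrimeSpectrum.comap (algebraMap R S) '' E ↔
      closure ({ξ} : Set (PrimeSpectrum R)) ⊆ closure (closure {ξ} ∩ PrimeSpectrum.comap (algebraMap R S) '' {y | y ∈ E ∧ closure {y} ∩ E = {y}}) := by
  rw [Groth.Agent.S9652.closedIn_iff E hE]
  set f := PrimeSpectrum.comap (algebraMap R S) with hf
  constructor
  · rintro ⟨y, hy, rfl⟩ x hx
    rw [mem_closure_iff]
    intro U hU hxU
    have hyU : f y ∈ U := by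
      obtain ⟨z, hzU, hz⟩ := mem_closure_iff.1 hx U hU hxU
      exact (Set.mem_singleton_iff.1 hz) ▸ hzU
    have hlc : IsLocallyClosed (f ⁻¹' (closure {f y} ∩ U)) :=
      ((isClosed_closure.preimage (PrimeSpectrum.continuous_comap _)).isLocallyClosed).inter
        (hU.preimage (PrimeSpectrum.continuous_comap _)).isLocallyClosed
    obtain ⟨w, ⟨hw, hw', hwU⟩, hwc⟩ := Groth.Agent.S9652.exists_closed_mem E hE _ hlc
      ⟨y, hy, subset_closure (Set.mem_singleton _), hyU⟩
    exact ⟨f w, hwU, hw', w, ⟨hwc, hw⟩, rfl⟩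
  · intro h
    obtain ⟨S', _, g, hg⟩ := PrimeSpectrum.exists_range_eq_of_isConstructible hE
    let q : S' →+* S' ⧸ ξ.asIdeal.map (g.comp (algebraMap R S)) := Ideal.Quotient.mk _
    let φ : R →+* S' ⧸ ξ.asIdeal.map (g.comp (algebraMap R S)) := q.comp (g.comp (algebraMap R S))
    have hsub : closure {ξ} ∩ f '' ({y | IsClosed ({y} : Set (PrimeSpectrum S))} ∩ E) ⊆
        Set.range (PrimeSpectrum.comap φ) := by
      rintro _ ⟨hξ, y, ⟨-, hy⟩, rfl⟩
      rw [← hg] at hy
      obtain ⟨z, rfl⟩ := hy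
      have hz : ξ.asIdeal.map (g.comp (algebraMap R S)) ≤ z.asIdeal := by
        rw [Ideal.map_le_iff_le_comap]
        exact (PrimeSpectrum.le_iff_mem_closure _ _).2 hξ
      obtain ⟨z', hz'⟩ : z ∈ Set.range (PrimeSpectrum.comap q) := by
        rw [_root_.range_comap_of_surjective _ q Ideal.Quotient.mk_surjective, Ideal.mk_ker]
        exact hz
      exact ⟨z', by subst hz'; rfl⟩
    have hξ : ξ ∈ closure (Set.range (PrimeSpectrum.comap φ)) :=
      closure_mono hsub (h (subset_closure (Set.mem_singleton ξ)))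
    rw [PrimeSpectrum.closure_range_comap] at hξ
    have hker : RingHom.ker φ ≤ ξ.asIdeal := (PrimeSpectrum.mem_zeroLocus ξ _).1 hξ
    have hle : ξ.asIdeal ≤ RingHom.ker φ := fun r hr => by
      rw [RingHom.mem_ker]
      exact Ideal.Quotient.eq_zero_iff_mem.2 (Ideal.mem_map_of_mem _ hr)
    have hmin : ξ.asIdeal ∈ (RingHom.ker φ).minimalPrimes :=
      ⟨⟨ξ.isPrime, hker⟩, fun J hJ _ => hle.trans hJ.2⟩
    obtain ⟨P, hP, hPc⟩ := Ideal.exists_comap_eq_of_mem_minimalPrimes φ (I := ⊥) ξ.asIdeal hmin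
    refine ⟨PrimeSpectrum.comap g (PrimeSpectrum.comap q ⟨P, hP⟩), ?_, PrimeSpectrum.ext hPc.2⟩
    rw [← hg]; exact ⟨_, rfl⟩

end Groth.Agent.S9653
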