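import Groth.Statements.S9654
import Mathlib.Tactic
import Mathlib.RingTheory.IntegralClosure.IntegrallyClosed
import Mathlib.LinearAlgebra.Matrix.Charpoly.LinearMap
import Mathlib.RingTheory.Localization.Away.Basic
import Mathlib.RingTheory.Adjoin.Basic

set_option autoImplicit false
universe u
open CAlg

namespace Groth.Agent.S9654

/-- Let R be a ring and x, y ∈ R nonzerodivisors. In the localization R_{xy} let a = x/y and b = y/x,
and let R[a], R[b], R[a, b] be the R-subalgebras they generate. If R is integrally closed in R_x or
in R_y, then the sequence 0 → R → R[a] ⊕ R[b] → R[a, b] → 0 (difference map, then sum map) is short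
exact; equivalently R[a] ∩ R[b] is the image of R and R[a] + R[b] = R[a, b] inside R_{xy}. -/
theorem result {R : Type u} [CommRing R] (x y : R) (hx : x ∈ nonZeroDivisors R) (hy : y ∈ nonZeroDivisors R)
    (hint : IsIntegrallyClosedIn R (Localization.Away x) ∨ IsIntegrallyClosedIn R (Localization.Away y)) :
    (Algebra.adjoin R {algebraMap R (Localization.Away (x * y)) (x * x) * IsLocalization.Away.invSelf (x * y)}).toSubmodule ⊓
        (Algebra.adjoin R {algebraMap R (Localization.Away (x * y)) (y * y) * IsLocalization.Away.invSelf (x * y)}).toSubmodule =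
        (⊥ : Subalgebra R (Localization.Away (x * y))).toSubmodule ∧
      (Algebra.adjoin R {algebraMap R (Localization.Away (x * y)) (x * x) * IsLocalization.Away.invSelf (x * y)}).toSubmodule ⊔
        (Algebra.adjoin R {algebraMap R (Localization.Away (x * y)) (y * y) * IsLocalization.Away.invSelf (x * y)}).toSubmodule =
        (Algebra.adjoin R {algebraMap R (Localization.Away (x * y)) (x * x) * IsLocalization.Away.invSelf (x * y), algebraMap R (Localization.Away (x * y)) (y * y) * IsLocalization.Away.invSelf (x * y)}).toSubmodule := by
  classical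
  set W := Localization.Away (x * y)
  set a : W := algebraMap R W (x * x) * IsLocalization.Away.invSelf (x * y)
  set b : W := algebraMap R W (y * y) * IsLocalization.Away.invSelf (x * y)
  have hab : a * b = 1 := by
    have h := IsLocalization.Away.mul_invSelf (S := W) (x * y)
    calc a * b = (algebraMap R W (x * y) * IsLocalization.Away.invSelf (x * y)) ^ 2 := by
          simp only [a, b, map_mul]; ring
      _ = 1 := by rw [h, one_pow]
  have hmem : ∀ (c z : W), z ∈ (Algebra.adjoin R ({c} : Set W)).toSubmodule →
      ∃ N : ℕ, z ∈ Submodule.span R ((fun i : ℕ => c ^ i) '' Set.Iic N) := by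
    intro c z hz
    rw [Subalgebra.mem_toSubmodule, Algebra.adjoin_singleton_eq_range_aeval] at hz
    obtain ⟨P, rfl⟩ := hz
    refine ⟨P.natDegree, ?_⟩
    show Polynomial.aeval c P ∈ _
    rw [Polynomial.aeval_eq_sum_range]
    exact Submodule.sum_mem _ fun i hi => Submodule.smul_mem _ _ (Submodule.subset_span
      ⟨i, Nat.lt_succ_iff.mp (Finset.mem_range.mp hi), rfl⟩)
  have hden : ∀ (c z : W) (u v : R) (K : ℕ), c * algebraMap R W v = algebraMap R W u →
      z ∈ Submodule.span R ((fun i : ℕ => c ^ i) '' Set.Iic K) →
      ∃ (r : R) (n : ℕ), z * algebraMap R W v ^ n = algebraMap R W r := by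
    intro c z u v K hcu hzK
    suffices ∃ r : R, z * algebraMap R W v ^ K = algebraMap R W r from
      this.elim fun r h => ⟨r, K, h⟩
    induction hzK using Submodule.span_induction with
    | mem w hw =>
      obtain ⟨i, hi, rfl⟩ := hw
      obtain ⟨d, hd⟩ := Nat.exists_eq_add_of_le (show i ≤ K from hi)
      refine ⟨u ^ i * v ^ d, ?_⟩
      rw [hd, pow_add, ← mul_assoc, ← mul_pow, hcu, map_mul, map_pow, map_pow]
    | zero => exact ⟨0, by simp⟩
    | add w w' _ _ h h' =>
      obtain ⟨r, hr⟩ := h; obtain ⟨r', hr'⟩ := h'
      exact ⟨r + r', by rw [add_mul, hr, hr', map_add]⟩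
    | smul e w _ h =>
      obtain ⟨r, hr⟩ := h
      exact ⟨e * r, by rw [smul_mul_assoc, hr, Algebra.smul_def, map_mul]⟩
  refine ⟨?_, ?_⟩
  · refine le_antisymm ?_ ?_
    · rintro z ⟨hza, hzb⟩
      obtain ⟨N, hN⟩ := hmem a z hza
      obtain ⟨M, hM⟩ := hmem b z hzb
      clear hza hzb
      let G : Set W := ((fun i : ℕ => a ^ i) '' Set.Iic N) ∪ ((fun j : ℕ => b ^ j) '' Set.Iic M)
      let V := Submodule.span R G
      have hab' : ∀ i j : ℕ, i ≤ N → j ≤ M → a ^ i * b ^ j ∈ V := by
        intro i j hi hj
        rcases le_total i j with h | h
        · obtain ⟨d, rfl⟩ := Nat.exists_eq_add_of_le h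
          rw [pow_add, ← mul_assoc, ← mul_pow, hab, one_pow, one_mul]
          exact Submodule.subset_span (Or.inr ⟨d, show d ≤ M by omega, rfl⟩)
        · obtain ⟨d, rfl⟩ := Nat.exists_eq_add_of_le h
          rw [pow_add, mul_right_comm, ← mul_pow, hab, one_pow, one_mul]
          exact Submodule.subset_span (Or.inl ⟨d, show d ≤ N by omega, rfl⟩)
      have hzV : ∀ v ∈ V, z * v ∈ V := by
        intro v hv
        induction hv using Submodule.span_induction with
        | mem v hv =>
          rcases hv with ⟨i, hi, rfl⟩ | ⟨j, hj, rfl⟩
          · clear hN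
            induction hM using Submodule.span_induction with
            | mem w hw => obtain ⟨j, hj, rfl⟩ := hw; exact (mul_comm (b ^ j) (a ^ i)) ▸ hab' i j hi hj
            | zero => simp
            | add w w' _ _ h h' => rw [add_mul]; exact add_mem h h'
            | smul c w _ h => rw [smul_mul_assoc]; exact Submodule.smul_mem _ _ h
          · clear hM
            induction hN using Submodule.span_induction with
            | mem w hw => obtain ⟨i, hi, rfl⟩ := hw; exact hab' i j hi hj
            | zero => simp
            | add w w' _ _ h h' => rw [add_mul]; exact add_mem h h'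
            | smul c w _ h => rw [smul_mul_assoc]; exact Submodule.smul_mem _ _ h
        | zero => simp
        | add v v' _ _ h h' => rw [mul_add]; exact add_mem h h'
        | smul c v _ h => rw [mul_smul_comm]; exact Submodule.smul_mem _ _ h
      have hfin : Module.Finite R V := Module.Finite.of_fg
        (Submodule.fg_span (((Set.finite_Iic N).image _).union ((Set.finite_Iic M).image _)))
      let T : Module.End R V := (LinearMap.mulLeft R z).restrict hzV
      obtain ⟨P, hP, hPT⟩ := LinearMap.exists_monic_and_aeval_eq_zero R T
      have h1 : (1 : W) ∈ V := Submodule.subset_span (Or.inl ⟨0, Nat.zero_le _, pow_zero a⟩)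
      have hev : ∀ (Q : Polynomial R) (v : V),
          ((Polynomial.aeval T Q v : V) : W) = Polynomial.aeval z Q * (v : W) := by
        intro Q
        induction Q using Polynomial.induction_on' with
        | add P Q hP hQ =>
          intro v; simp only [map_add, LinearMap.add_apply, Submodule.coe_add, hP, hQ, add_mul]
        | monomial n c =>
          intro v
          rw [Polynomial.aeval_monomial, Polynomial.aeval_monomial, Module.End.mul_apply,
            Module.algebraMap_end_apply, Submodule.coe_smul, Algebra.smul_def, mul_assoc]
          congr 1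
          induction n generalizing v with
          | zero => simp
          | succ n ih =>
            rw [pow_succ, Module.End.mul_apply, ih (T v), pow_succ, mul_assoc]
            rfl
      have hzint : IsIntegral R z := ⟨P, hP, by
        have h := hev P ⟨1, h1⟩
        rw [hPT] at h
        simpa [Polynomial.aeval_def] using h.symm⟩
      rw [Subalgebra.mem_toSubmodule, Algebra.mem_bot]
      have main : ∀ (u v : R), u ∈ nonZeroDivisors R → v ∈ nonZeroDivisors R →
          IsIntegrallyClosedIn R (Localization.Away v) → (hu : IsUnit (algebraMap R W v)) →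
          (∃ (r : R) (n : ℕ), z * algebraMap R W v ^ n = algebraMap R W r) →
          z ∈ Set.range (algebraMap R W) := by
        intro u v _ _ hic hu ⟨r, n, hr⟩
        let ι : Localization.Away v →ₐ[R] W :=
          IsLocalization.liftAlgHom (M := Submonoid.powers v) (f := Algebra.ofId R W) (by
            rintro ⟨_, k, rfl⟩
            simpa using hu.pow k)
        have hι : Function.Injective ι := by
          have hnz : Submonoid.powers (x * y) ≤ nonZeroDivisors R :=
            Submonoid.powers_le.mpr (mul_mem hx hy)
          refine (injective_iff_map_eq_zero _).mpr fun w hw => ?_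
          obtain ⟨⟨c, t⟩, hct⟩ := IsLocalization.surj (Submonoid.powers v) w
          have h2 := congrArg ι hct
          simp only [map_mul, hw, zero_mul, AlgHom.commutes] at h2
          have hc : c = 0 := IsLocalization.injective W hnz (by rw [map_zero]; exact h2.symm)
          simp only [hc, map_zero] at hct
          exact (IsLocalization.map_units (Localization.Away v) t).mul_left_eq_zero.mp hct
        let w : Localization.Away v := IsLocalization.mk' _ r (⟨v ^ n, n, rfl⟩ : Submonoid.powers v)
        have hwz : ι w = z := by
          apply (hu.pow n).mul_left_injective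
          show ι w * _ = z * _
          rw [hr, ← map_pow, ← ι.commutes (v ^ n), ← map_mul, IsLocalization.mk'_spec (Localization.Away v) r (⟨v ^ n, n, rfl⟩ : Submonoid.powers v),
            AlgHom.commutes]
        have hwint : IsIntegral R w := (isIntegral_algHom_iff ι hι).mp (hwz ▸ hzint)
        obtain ⟨q, hq⟩ := IsIntegrallyClosedIn.isIntegral_iff.mp hwint
        exact ⟨q, by rw [← hwz, ← hq, AlgHom.commutes]⟩
      have hxu : IsUnit (algebraMap R W x) ∧ IsUnit (algebraMap R W y) := by
        have := IsLocalization.Away.algebraMap_isUnit (S := W) (x * y)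
        rw [map_mul] at this
        exact IsUnit.mul_iff.mp this
      have hax : a * algebraMap R W y = algebraMap R W x := by
        calc a * algebraMap R W y = algebraMap R W x * (algebraMap R W (x * y) * IsLocalization.Away.invSelf (x * y)) := by
              simp only [a, map_mul]; ring
          _ = algebraMap R W x := by rw [IsLocalization.Away.mul_invSelf, mul_one]
      have hbx : b * algebraMap R W x = algebraMap R W y := by
        calc b * algebraMap R W x = algebraMap R W y * (algebraMap R W (x * y) * IsLocalization.Away.invSelf (x * y)) := by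
              simp only [b, map_mul]; ring
          _ = algebraMap R W y := by rw [IsLocalization.Away.mul_invSelf, mul_one]
      rcases hint with hic | hic
      · exact main y x hy hx hic hxu.1 (hden b z y x M hbx hM)
      · exact main x y hx hy hic hxu.2 (hden a z x y N hax hN)
    · exact fun z hz => ⟨(bot_le : (⊥ : Subalgebra R W) ≤ _) hz, (bot_le : (⊥ : Subalgebra R W) ≤ _) hz⟩
  · refine le_antisymm (sup_le (Algebra.adjoin_mono (by simp)) (Algebra.adjoin_mono (by simp))) ?_
    intro z hz
    rw [Subalgebra.mem_toSubmodule, ← Subalgebra.mem_toSubmodule, Algebra.adjoin_eq_span] at hz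
    refine (Submodule.span_le.mpr ?_) hz
    intro w hw
    obtain ⟨i, j, rfl⟩ : ∃ i j : ℕ, a ^ i * b ^ j = w := (Submonoid.mem_closure_pair a b w).mp hw
    rcases le_total i j with h | h
    · obtain ⟨d, rfl⟩ := Nat.exists_eq_add_of_le h
      rw [pow_add, ← mul_assoc, ← mul_pow, hab, one_pow, one_mul]
      have hb : b ^ d ∈ Algebra.adjoin R ({b} : Set W) := pow_mem (Algebra.subset_adjoin (Set.mem_singleton b)) d
      exact Submodule.mem_sup_right ((Subalgebra.mem_toSubmodule _).mpr hb)
    · obtain ⟨d, rfl⟩ := Nat.exists_eq_add_of_le h
      rw [pow_add, mul_right_comm, ← mul_pow, hab, one_pow, one_mul]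
      have ha : a ^ d ∈ Algebra.adjoin R ({a} : Set W) := pow_mem (Algebra.subset_adjoin (Set.mem_singleton a)) d
      exact Submodule.mem_sup_left ((Subalgebra.mem_toSubmodule _).mpr ha)

end Groth.Agent.S9654
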