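import Groth.Statements.S9655
import Mathlib.Tactic
import Mathlib.RingTheory.EssentialFiniteness
import Mathlib.RingTheory.Valuation.LocalSubring
import Mathlib.Algebra.MvPolynomial.Equiv
import Mathlib.RingTheory.Localization.AtPrime.Basic

set_option autoImplicit false
universe u
open CAlg

namespace Groth.Agent.S9655

/-- Let R and S be local rings and R → S a ring map, not necessarily local, that is essentially of
finite type. Then for some n there is a maximal ideal m of the polynomial ring R[x_1, …, x_n] lying
over the maximal ideal of R, together with an R-algebra map φ : R[x_1, …, x_n]_m → S making S a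
localization of the image of φ; thus S arises from R[x_1, …, x_n]_m by passing to a quotient and
then localizing. -/
theorem result {R S : Type u} [CommRing R] [CommRing S] [Algebra R S] [IsLocalRing R] [IsLocalRing S] [Algebra.EssFiniteType R S] :
    ∃ (n : ℕ) (m : Ideal (MvPolynomial (Fin n) R)) (_ : m.IsMaximal), m.under R = IsLocalRing.maximalIdeal R ∧
      ∃ (φ : Localization.AtPrime m →ₐ[R] S) (T : Submonoid φ.range), IsLocalization T S := by
  classical
  obtain ⟨σ, hσ⟩ := (Algebra.essFiniteType_iff (R := R) (S := S)).mp inferInstance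
  let κ := IsLocalRing.ResidueField S
  let ψ : R →+* κ := (IsLocalRing.residue S).comp (algebraMap R S)
  obtain ⟨V, hV, hVloc⟩ := IsLocalRing.exists_factor_valuationRing ψ
  let y : S → S := fun a => if IsLocalRing.residue S a ∈ V then a else Ring.inverse a
  have hy : ∀ a, IsLocalRing.residue S (y a) ∈ V := by
    intro a
    by_cases h : IsLocalRing.residue S a ∈ V
    · simpa [y, h] using h
    · have hu : IsUnit a := by
        by_contra hu
        exact h (by rw [(IsLocalRing.residue_eq_zero_iff a).mpr hu]; exact zero_mem V)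
      simp only [y, h, if_false]
      have h1 := (V.mem_or_inv_mem (IsLocalRing.residue S a)).resolve_left h
      obtain ⟨u, rfl⟩ := hu
      rw [Ring.inverse_unit, map_units_inv]
      exact h1
  let n := σ.card
  let v : Fin n → S := fun i => y (σ.equivFin.symm i)
  let χ : MvPolynomial (Fin n) R →ₐ[R] S := MvPolynomial.aeval v
  have hχV : ∀ P, IsLocalRing.residue S (χ P) ∈ V := by
    intro P
    induction P using MvPolynomial.induction_on with
    | C r => rw [MvPolynomial.aeval_C]; exact hV r
    | add P Q hP hQ => rw [map_add, map_add]; exact add_mem hP hQ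
    | mul_X P i hP => rw [map_mul, map_mul, MvPolynomial.aeval_X]; exact mul_mem hP (hy _)
  let θ : MvPolynomial (Fin n) R →+* V :=
    ((IsLocalRing.residue S).comp χ.toRingHom).codRestrict V.toSubring hχV
  let I := Ideal.comap θ (IsLocalRing.maximalIdeal V)
  have hI : I.IsPrime := Ideal.IsPrime.comap θ
  obtain ⟨m, hm, hIm⟩ := Ideal.exists_le_maximal I hI.ne_top
  have hmR : m.under R = IsLocalRing.maximalIdeal R := by
    have hle : IsLocalRing.maximalIdeal R ≤ m.under R := by
      intro r hr
      refine hIm ?_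
      show θ (algebraMap R _ r) ∈ IsLocalRing.maximalIdeal V
      have h : θ (algebraMap R _ r) = ψ.codRestrict V.toSubring hV r :=
        Subtype.ext (congrArg (IsLocalRing.residue S) (χ.commutes r))
      rw [h]
      exact fun hu => hr (hVloc.map_nonunit r hu)
    have hne : m.under R ≠ ⊤ := by
      rw [Ideal.under_def]; exact Ideal.comap_ne_top _ hm.ne_top
    exact ((IsLocalRing.maximalIdeal.isMaximal R).eq_of_le hne hle).symm
  have hunit : ∀ t : m.primeCompl, IsUnit (χ t) := by
    rintro ⟨t, ht⟩
    by_contra hu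
    refine ht (hIm ?_)
    show θ t ∈ IsLocalRing.maximalIdeal V
    have : θ t = 0 := Subtype.ext ((IsLocalRing.residue_eq_zero_iff _).mpr hu)
    rw [this]
    exact zero_mem _
  let φ : Localization.AtPrime m →ₐ[R] S := IsLocalization.liftAlgHom (M := m.primeCompl) hunit
  have hφ : ∀ P, φ (algebraMap _ _ P) = χ P := fun P => by simp [φ]
  refine ⟨n, m, hm, hmR, φ, (IsUnit.submonoid S).comap φ.range.val, ?_⟩
  have hmem : ∀ a ∈ Algebra.adjoin R (σ : Set S),
      ∃ t ∈ φ.range, IsUnit t ∧ a * t ∈ φ.range := by
    intro a ha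
    refine Algebra.adjoin_induction ?_ ?_ ?_ ?_ ha
    · intro x hx
      have hyx : y x ∈ φ.range := by
        refine ⟨algebraMap (MvPolynomial (Fin n) R) (Localization.AtPrime m) (MvPolynomial.X (σ.equivFin ⟨x, hx⟩)), ?_⟩
        show φ _ = _
        rw [hφ, MvPolynomial.aeval_X]
        simp [v]
      by_cases h : IsLocalRing.residue S x ∈ V
      · refine ⟨1, one_mem _, isUnit_one, ?_⟩
        simpa [y, h] using hyx
      · have hu : IsUnit x := by
          by_contra hu
          exact h (by rw [(IsLocalRing.residue_eq_zero_iff x).mpr hu]; exact zero_mem V)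
        simp only [y, h, if_false] at hyx
        exact ⟨_, hyx, hu.ringInverse, by rw [Ring.mul_inverse_cancel x hu]; exact one_mem _⟩
    · exact fun r => ⟨1, one_mem _, isUnit_one, by simp [Subalgebra.algebraMap_mem]⟩
    · rintro x x' _ _ ⟨t, ht, htu, hxt⟩ ⟨t', ht', htu', hxt'⟩
      refine ⟨t * t', mul_mem ht ht', htu.mul htu', ?_⟩
      rw [show (x + x') * (t * t') = x * t * t' + x' * t' * t by ring]
      exact add_mem (mul_mem hxt ht') (mul_mem hxt' ht)
    · rintro x x' _ _ ⟨t, ht, htu, hxt⟩ ⟨t', ht', htu', hxt'⟩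
      refine ⟨t * t', mul_mem ht ht', htu.mul htu', ?_⟩
      rw [show x * x' * (t * t') = x * t * (x' * t') by ring]
      exact mul_mem hxt hxt'
  refine ⟨⟨fun t => t.2, fun s => ?_, fun {a b} hab => ⟨1, by simpa using Subtype.ext hab⟩⟩⟩
  obtain ⟨t, ht, htu, hst⟩ := hσ s
  obtain ⟨u, hu, huu, hau⟩ := hmem _ hst
  obtain ⟨w, hw, hwu, htw⟩ := hmem _ ht
  refine ⟨⟨⟨s * t * u * w, mul_mem hau hw⟩, ⟨⟨t * w * u, mul_mem htw hu⟩, (htu.mul hwu).mul huu⟩⟩, ?_⟩
  show s * (t * w * u) = s * t * u * w
  ring

end Groth.Agent.S9655
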