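import Groth.Statements.S9656
import Mathlib.Algebra.Polynomial.Monic
import Mathlib.RingTheory.IntegralClosure.IsIntegral.Defs
import Mathlib.Tactic

set_option autoImplicit false
universe u
open CAlg

namespace Groth.Agent.S9656

/-- Let R_i → S_i be ring maps indexed by a finite type ι, with product map R = Π R_i → S = Π S_i. Then
an element (s_i) of S is integral over R exactly when s_i is integral over R_i for every i; so
integral closure in a finite product is computed factor by factor. -/
theorem result {ι : Type u} [Fintype ι] {R S : ι → Type u} [∀ i, CommRing (R i)] [∀ i, CommRing (S i)] (f : ∀ i, R i →+* S i) (s : ∀ i, S i) :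
    (RingHom.pi fun i => (f i).comp (Pi.evalRingHom R i)).IsIntegralElem s ↔ ∀ i, (f i).IsIntegralElem (s i) := by
  classical
  constructor
  · rintro ⟨P, hP, hPs⟩ i
    refine ⟨P.map (Pi.evalRingHom R i), hP.map _, ?_⟩
    rw [Polynomial.eval₂_map]
    have h := congrArg (Pi.evalRingHom S i) hPs
    rw [Polynomial.hom_eval₂, map_zero] at h
    exact h
  · intro h
    choose p hp hps using h
    let N := ∑ i, (p i).natDegree
    let P : Polynomial (∀ i, R i) := Polynomial.X ^ N + ∑ j ∈ Finset.range N,
      Polynomial.C (fun i => (p i * Polynomial.X ^ (N - (p i).natDegree)).coeff j : ∀ i, R i) * Polynomial.X ^ j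
    have hev : ∀ i, P.map (Pi.evalRingHom R i) = p i * Polynomial.X ^ (N - (p i).natDegree) := by
      intro i
      rcases subsingleton_or_nontrivial (R i) with hsub | hsub
      · exact Subsingleton.elim _ _
      have hle : (p i).natDegree ≤ N :=
        Finset.single_le_sum (f := fun i => (p i).natDegree) (fun _ _ => Nat.zero_le _)
          (Finset.mem_univ i)
      have hm : (p i * Polynomial.X ^ (N - (p i).natDegree)).Monic :=
        (hp i).mul (Polynomial.monic_X_pow _)
      have hd : (p i * Polynomial.X ^ (N - (p i).natDegree)).natDegree = N := by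
        rw [(hp i).natDegree_mul (Polynomial.monic_X_pow _), Polynomial.natDegree_X_pow]
        omega
      conv_rhs => rw [hm.as_sum, hd]
      simp only [P, Polynomial.map_add, Polynomial.map_pow, Polynomial.map_X, Polynomial.map_sum,
        Polynomial.map_mul, Polynomial.map_C, Pi.evalRingHom_apply]
    refine ⟨P, Polynomial.monic_X_pow_add ?_, ?_⟩
    · refine (Polynomial.degree_sum_le _ _).trans_lt
        ((Finset.sup_lt_iff (WithBot.bot_lt_coe _)).mpr fun j hj => ?_)
      exact (Polynomial.degree_C_mul_X_pow_le _ _).trans_lt
        (WithBot.coe_lt_coe.mpr (Finset.mem_range.mp hj))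
    · funext i
      have h0 : Polynomial.eval₂ (f i) (s i) (P.map (Pi.evalRingHom R i)) = 0 := by
        rw [hev, Polynomial.eval₂_mul, hps, zero_mul]
      rw [Polynomial.eval₂_map] at h0
      have h := Polynomial.hom_eval₂ P (RingHom.pi fun i => (f i).comp (Pi.evalRingHom R i))
        (Pi.evalRingHom S i) s
      exact h.trans h0

end Groth.Agent.S9656
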