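import Groth.Statements.S9657
import Groth.Agent.VarietyBC.TensorGeom

set_option autoImplicit false
universe u
open CAlg

namespace Groth.Agent.S9657

open TensorProduct in
/-- Let K/k be a field extension and let k(t) ⊆ K(t) be the purely transcendental extensions in one
variable, realised as fraction fields of k[t] and K[t] compatibly with k[t] → K[t]. Then K is
geometrically irreducible over k (Spec(k' ⊗_k K) irreducible for every field extension k'/k) if and
only if K(t) is geometrically irreducible over k(t). Here the test fields range over field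
extensions of k, respectively of k(t), in the universe of k; this is equivalent to the unrestricted
notions, since an algebraic closure of the base field suffices as a test. -/
theorem result {k K : Type u} [Field k] [Field K] [Algebra k K]
    (kt Kt : Type u) [Field kt] [Field Kt] [Algebra (Polynomial k) kt] [IsFractionRing (Polynomial k) kt] [Algebra (Polynomial K) Kt] [IsFractionRing (Polynomial K) Kt]
    [Algebra kt Kt] (hcompat : ∀ p : Polynomial k, algebraMap kt Kt (algebraMap (Polynomial k) kt p) = algebraMap (Polynomial K) Kt (Polynomial.map (algebraMap k K) p)) :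
    (∀ (k' : Type u) [Field k'] [Algebra k k'], IrreducibleSpace (PrimeSpectrum (k' ⊗[k] K))) ↔
      ∀ (L : Type u) [Field L] [Algebra kt L], IrreducibleSpace (PrimeSpectrum (L ⊗[kt] Kt)) := by
  classical
  let _ : Algebra k kt := ((algebraMap (Polynomial k) kt).comp Polynomial.C).toAlgebra
  let _ : Algebra K Kt := ((algebraMap (Polynomial K) Kt).comp Polynomial.C).toAlgebra
  let _ : Algebra k Kt := ((algebraMap K Kt).comp (algebraMap k K)).toAlgebra
  have : IsScalarTower k K Kt := .of_algebraMap_eq fun _ => rfl
  have : IsScalarTower k kt Kt := .of_algebraMap_eq fun c => by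
    show algebraMap (Polynomial K) Kt (Polynomial.C (algebraMap k K c)) =
      algebraMap kt Kt (algebraMap (Polynomial k) kt (Polynomial.C c))
    rw [hcompat, Polynomial.map_C]
  have hinjK : Function.Injective (algebraMap (Polynomial K) Kt) := IsFractionRing.injective _ _
  constructor
  · intro hK L _ _
    rw [PrimeSpectrum.irreducibleSpace_iff_isPrime_nilradical]
    let _ : Algebra k L := ((algebraMap kt L).comp (algebraMap k kt)).toAlgebra
    have : IsScalarTower k kt L := .of_algebraMap_eq fun _ => rfl
    have hLK := PrimeSpectrum.irreducibleSpace_iff_isPrime_nilradical.mp (hK L)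
    obtain ⟨⟨ι, b⟩⟩ := Module.Free.exists_basis (R := k) (M := K)
    let _ : Algebra (Polynomial k) Kt :=
      ((algebraMap kt Kt).comp (algebraMap (Polynomial k) kt)).toAlgebra
    have : IsScalarTower (Polynomial k) kt Kt := .of_algebraMap_eq fun _ => rfl
    have hli : LinearIndependent kt (fun i => algebraMap K Kt (b i)) := by
      rw [← LinearIndependent.iff_fractionRing (Polynomial k) kt, linearIndependent_iff']
      intro s g hg i hi
      have h1 : ∑ j ∈ s, Polynomial.map (algebraMap k K) (g j) * Polynomial.C (b j) = 0 := by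
        refine hinjK ?_
        rw [map_sum, map_zero]
        refine Eq.trans (Finset.sum_congr rfl fun j _ => ?_) hg
        rw [map_mul, ← hcompat, Algebra.smul_def]
        rfl
      ext n
      have h2 := congrArg (fun f : Polynomial K => f.coeff n) h1
      simp only [Polynomial.finsetSum_coeff, Polynomial.coeff_mul_C, Polynomial.coeff_map,
        Polynomial.coeff_zero, ← Algebra.smul_def] at h2
      exact linearIndependent_iff'.mp b.linearIndependent s _ h2 i hi
    let Θ : L ⊗[k] K →ₐ[k] L ⊗[kt] Kt := Algebra.TensorProduct.lift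
      ((Algebra.TensorProduct.includeLeft : L →ₐ[kt] L ⊗[kt] Kt).restrictScalars k)
      (((Algebra.TensorProduct.includeRight : Kt →ₐ[kt] L ⊗[kt] Kt).restrictScalars k).comp
        (IsScalarTower.toAlgHom k K Kt))
      fun _ _ => Commute.all _ _
    have hΘ : Function.Injective Θ := by
      let Φ : (ι →₀ kt) →ₗ[kt] Kt := Finsupp.linearCombination kt (fun i => algebraMap K Kt (b i))
      have hΦ : Function.Injective (Φ.lTensor L) :=
        Module.Flat.lTensor_preserves_injective_linearMap (M := L) Φ hli
      rw [injective_iff_map_eq_zero]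
      intro w hw
      obtain ⟨c, rfl⟩ : ∃ c : ι →₀ L, w = c.sum fun i l => l ⊗ₜ[k] b i := by
        refine ⟨(b.baseChange L).repr w, ?_⟩
        conv_lhs => rw [← (b.baseChange L).linearCombination_repr w, Finsupp.linearCombination_apply]
        simp [TensorProduct.smul_tmul']
      have h1 : Φ.lTensor L (c.sum fun i l => l ⊗ₜ[kt] Finsupp.single i (1 : kt)) = 0 := by
        rw [← hw, map_finsuppSum, map_finsuppSum]
        simp [Φ, Θ]
      have h2 := congrArg (TensorProduct.finsuppScalarRight kt kt L ι) (hΦ (h1.trans (map_zero _).symm))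
      rw [map_finsuppSum, map_zero] at h2
      have : c = 0 := by
        rw [← Finsupp.sum_single c, ← h2]
        refine Finsupp.sum_congr fun i _ => ?_
        ext j
        simp [Finsupp.single_apply, eq_comm]
      rw [this, Finsupp.sum_zero_index]
    have hpoly : ∀ (l : L) (q : Polynomial K),
        l ⊗ₜ[kt] algebraMap (Polynomial K) Kt q ∈ Θ.range := by
      intro l q
      induction q using Polynomial.induction_on' with
      | add a a' ha ha' => rw [map_add, TensorProduct.tmul_add]; exact add_mem ha ha'
      | monomial n a =>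
        refine ⟨(algebraMap kt L (algebraMap (Polynomial k) kt (Polynomial.X ^ n)) * l) ⊗ₜ a, ?_⟩
        show Θ _ = _
        simp only [Θ, Algebra.TensorProduct.lift_tmul, AlgHom.coe_restrictScalars', AlgHom.comp_apply,
          Algebra.TensorProduct.includeLeft_apply, Algebra.TensorProduct.includeRight_apply,
          Algebra.TensorProduct.tmul_mul_tmul, mul_one, one_mul, IsScalarTower.toAlgHom_apply]
        rw [← Algebra.smul_def, TensorProduct.smul_tmul, Algebra.smul_def, hcompat,
          ← Polynomial.C_mul_X_pow_eq_monomial, Polynomial.map_pow, Polynomial.map_X, map_mul, mul_comm]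
        rfl
    have hform : ∀ z : L ⊗[kt] Kt, ∃ q : Polynomial K, q ≠ 0 ∧
        ((1 : L) ⊗ₜ[kt] algebraMap (Polynomial K) Kt q) * z ∈ Θ.range := by
      intro z
      induction z using TensorProduct.induction_on with
      | zero => exact ⟨1, one_ne_zero, by simp⟩
      | tmul l v =>
        obtain ⟨p, q, hq, rfl⟩ := IsFractionRing.div_surjective (A := Polynomial K) v
        have hq0 : q ≠ 0 := nonZeroDivisors.ne_zero hq
        refine ⟨q, hq0, ?_⟩
        rw [Algebra.TensorProduct.tmul_mul_tmul, one_mul,
          mul_div_cancel₀ _ ((map_ne_zero_iff _ hinjK).mpr hq0)]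
        exact hpoly l p
      | add a a' ha ha' =>
        obtain ⟨q, hq, hw⟩ := ha
        obtain ⟨q', hq', hw'⟩ := ha'
        refine ⟨q * q', mul_ne_zero hq hq', ?_⟩
        rw [map_mul, show ((1 : L) ⊗ₜ[kt] (algebraMap (Polynomial K) Kt q * algebraMap (Polynomial K) Kt q')) =
          ((1 : L) ⊗ₜ[kt] algebraMap (Polynomial K) Kt q) * ((1 : L) ⊗ₜ[kt] algebraMap (Polynomial K) Kt q')
          by rw [Algebra.TensorProduct.tmul_mul_tmul, one_mul], mul_add]
        refine add_mem ?_ ?_
        · rw [mul_assoc, mul_left_comm]
          exact mul_mem (hpoly 1 q') hw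
        · rw [mul_assoc]
          exact mul_mem (hpoly 1 q) hw'
    have : Nontrivial (L ⊗[kt] Kt) := (Algebra.TensorProduct.includeLeft_injective (R := kt) (S := kt)
      (algebraMap kt Kt).injective).nontrivial
    refine ⟨fun h => ?_, fun {z₁ z₂} hz => ?_⟩
    · exact not_isNilpotent_one (mem_nilradical.mp (h.ge (Submodule.mem_top (x := (1 : L ⊗[kt] Kt)))))
    obtain ⟨q₁, hq₁, w₁, hw₁⟩ := hform z₁
    obtain ⟨q₂, hq₂, w₂, hw₂⟩ := hform z₂
    have hunit : ∀ q : Polynomial K, q ≠ 0 → IsUnit ((1 : L) ⊗ₜ[kt] algebraMap (Polynomial K) Kt q) :=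
      fun q hq => ((isUnit_iff_ne_zero.mpr ((map_ne_zero_iff _ hinjK).mpr hq)).map
        (Algebra.TensorProduct.includeRight : Kt →ₐ[kt] L ⊗[kt] Kt))
    have h12 : w₁ * w₂ ∈ nilradical (L ⊗[k] K) := by
      rw [mem_nilradical, ← IsNilpotent.map_iff hΘ, map_mul]
      have : IsNilpotent (z₁ * z₂) := mem_nilradical.mp hz
      rw [show Θ w₁ = _ from hw₁, show Θ w₂ = _ from hw₂, mul_mul_mul_comm]
      exact Commute.isNilpotent_mul_left (Commute.all _ _) this
    rcases hLK.mem_or_mem h12 with h | h
    · refine .inl ((Ideal.unit_mul_mem_iff_mem _ (hunit q₁ hq₁)).mp (mem_nilradical.mpr ?_))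
      exact hw₁ ▸ (mem_nilradical.mp h).map Θ
    · refine .inr ((Ideal.unit_mul_mem_iff_mem _ (hunit q₂ hq₂)).mp (mem_nilradical.mpr ?_))
      exact hw₂ ▸ (mem_nilradical.mp h).map Θ
  · intro h k' _ _
    rw [PrimeSpectrum.irreducibleSpace_iff_isPrime_nilradical]
    refine Groth.VarietyBC.nilradical_isPrime_of_injective
      (Algebra.TensorProduct.comm k k' K).toRingHom (AlgEquiv.injective _)
      (Groth.VarietyBC.nilradical_isPrime_tensor_of_sepClosedIn (fun a ha => ?_) k')
    have hsep : IsSeparable kt (algebraMap K Kt a) := by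
      have : IsSeparable k (algebraMap K Kt a) := by
        unfold IsSeparable at ha ⊢
        rwa [minpoly.algebraMap_eq (algebraMap K Kt).injective a]
      exact this.tower_top kt
    have hE : ∀ (E : Type u) [Field E] [Algebra kt E], (nilradical (Kt ⊗[kt] E)).IsPrime :=
      fun E _ _ => Groth.VarietyBC.nilradical_isPrime_of_injective
        (Algebra.TensorProduct.comm kt Kt E).toRingHom (AlgEquiv.injective _)
        (PrimeSpectrum.irreducibleSpace_iff_isPrime_nilradical.mp (h E))
    obtain ⟨c, hc⟩ := Groth.VarietyBC.mem_range_of_nilradical_isPrime_tensor (k := kt)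
      (algebraMap K Kt a) hsep (hE _)
    obtain ⟨p, q, hq, rfl⟩ := IsFractionRing.div_surjective (A := Polynomial k) c
    have hq0 : q ≠ 0 := nonZeroDivisors.ne_zero hq
    rw [map_div₀, hcompat, hcompat, div_eq_iff ((map_ne_zero_iff _ hinjK).mpr
      (Polynomial.map_ne_zero hq0))] at hc
    have hc' : p.map (algebraMap k K) = Polynomial.C a * q.map (algebraMap k K) :=
      hinjK (hc.trans (map_mul (algebraMap (Polynomial K) Kt) (Polynomial.C a) _).symm)
    have hn := congrArg (fun f : Polynomial K => f.coeff q.natDegree) hc'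
    simp only [Polynomial.coeff_map, Polynomial.coeff_C_mul] at hn
    refine ⟨p.coeff q.natDegree / q.coeff q.natDegree, ?_⟩
    rw [map_div₀, hn, mul_div_cancel_right₀]
    exact (map_ne_zero (algebraMap k K)).mpr (Polynomial.leadingCoeff_ne_zero.mpr hq0)

end Groth.Agent.S9657
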