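import Groth.Statements.S9658
import Mathlib.Algebra.Module.LocalizedModule.Basic
import Mathlib.RingTheory.Ideal.Basic
import Mathlib.Tactic

set_option autoImplicit false
universe u
open CAlg

namespace Groth.Agent.S9658

/-- Let R be a ring, f_1, …, f_n ∈ R generating the unit ideal and M an R-module. With M_i = M_{f_i},
M_ij = M_{f_i f_j} (any localizations, with the canonical compatible maps M → M_i → M_ij), the
sequence 0 → M → ⊕ M_i → ⊕ M_ij is exact: an element of M whose image vanishes in every M_i is zero,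
and every family (m_i ∈ M_i) such that m_i and m_j have the same image in M_ij for all i, j is the
image of an element of M. -/
theorem result {R : Type u} [CommRing R] {ι : Type u} [Fintype ι] (f : ι → R) (hf : Ideal.span (Set.range f) = ⊤)
    (M : Type u) [AddCommGroup M] [Module R M]
    (Mi : ι → Type u) [∀ i, AddCommGroup (Mi i)] [∀ i, Module R (Mi i)] (g : ∀ i, M →ₗ[R] Mi i) [∀ i, IsLocalizedModule (Submonoid.powers (f i)) (g i)]
    (Mij : ι → ι → Type u) [∀ i j, AddCommGroup (Mij i j)] [∀ i j, Module R (Mij i j)] (gij : ∀ i j, M →ₗ[R] Mij i j) [∀ i j, IsLocalizedModule (Submonoid.powers (f i * f j)) (gij i j)]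
    (ρ₁ : ∀ i j, Mi i →ₗ[R] Mij i j) (hρ₁ : ∀ i j, ρ₁ i j ∘ₗ g i = gij i j) (ρ₂ : ∀ i j, Mi j →ₗ[R] Mij i j) (hρ₂ : ∀ i j, ρ₂ i j ∘ₗ g j = gij i j) :
    (∀ m : M, (∀ i, g i m = 0) → m = 0) ∧
      ∀ s : ∀ i, Mi i, (∀ i j, ρ₁ i j (s i) = ρ₂ i j (s j)) → ∃ m : M, ∀ i, g i m = s i := by
  classical
  have hinv : ∀ i (n : ℕ), Function.Injective fun x : Mi i => f i ^ n • x := by
    intro i n
    have := ((Module.End.isUnit_iff _).mp (IsLocalizedModule.map_units (g i)
      ⟨f i ^ n, Submonoid.mem_powers_iff _ _ |>.mpr ⟨n, rfl⟩⟩)).injective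
    exact this
  have hspan : ∀ L : ℕ, Ideal.span (Set.range fun i => f i ^ L) = ⊤ := by
    intro L
    have := Ideal.span_pow_eq_top _ hf L
    rwa [← Set.range_comp] at this
  refine ⟨fun m hm => ?_, fun s hs => ?_⟩
  · have hz : ∀ i, ∃ n : ℕ, f i ^ n • m = 0 := fun i => by
      obtain ⟨⟨c, n, rfl⟩, hc⟩ :=
        (IsLocalizedModule.eq_zero_iff (Submonoid.powers (f i)) (g i)).mp (hm i)
      exact ⟨n, hc⟩
    choose n hn using hz
    let L := ∑ i, n i
    have : ∀ r ∈ Ideal.span (Set.range fun i => f i ^ L), r • m = 0 := by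
      intro r hr
      induction hr using Submodule.span_induction with
      | mem x hx =>
        obtain ⟨i, rfl⟩ := hx
        have hle : n i ≤ L := Finset.single_le_sum (f := n) (fun _ _ => Nat.zero_le _) (Finset.mem_univ i)
        show f i ^ L • m = 0
        rw [← Nat.sub_add_cancel hle, pow_add, ← smul_smul, hn, smul_zero]
      | zero => simp
      | add x y _ _ hx hy => rw [add_smul, hx, hy, add_zero]
      | smul a x _ hx => rw [smul_assoc, hx, smul_zero]
    simpa using this 1 (hspan L ▸ Submodule.mem_top)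
  · have hsurj : ∀ i, ∃ n : ℕ, ∃ m : M, f i ^ n • s i = g i m := fun i => by
      obtain ⟨⟨m, ⟨c, n, rfl⟩⟩, hm⟩ :=
        IsLocalizedModule.surj (Submonoid.powers (f i)) (g i) (s i)
      exact ⟨n, m, hm⟩
    choose n m hm using hsurj
    let N := ∑ i, n i
    have hle : ∀ i, n i ≤ N := fun i =>
      Finset.single_le_sum (f := n) (fun _ _ => Nat.zero_le _) (Finset.mem_univ i)
    let m' : ι → M := fun i => f i ^ (N - n i) • m i
    have hm' : ∀ i, g i (m' i) = f i ^ N • s i := fun i => by
      rw [map_smul, ← hm, smul_smul, ← pow_add, Nat.sub_add_cancel (hle i)]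
    have hK : ∀ q : ι × ι, ∃ k : ℕ,
        (f q.1 * f q.2) ^ k • (f q.2 ^ N • m' q.1 - f q.1 ^ N • m' q.2) = 0 := by
      rintro ⟨i, j⟩
      have h1 : gij i j (f j ^ N • m' i - f i ^ N • m' j) = 0 := by
        have a : gij i j (m' i) = ρ₁ i j (g i (m' i)) := by rw [← hρ₁]; rfl
        have b : gij i j (m' j) = ρ₂ i j (g j (m' j)) := by rw [← hρ₂]; rfl
        rw [map_sub, (gij i j).map_smul (f j ^ N) (m' i), (gij i j).map_smul (f i ^ N) (m' j), a, b, hm', hm', map_smul, map_smul,
          hs i j, smul_smul, smul_smul, mul_comm, sub_self]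
      obtain ⟨⟨c, k, rfl⟩, hc⟩ :=
        (IsLocalizedModule.eq_zero_iff (Submonoid.powers (f i * f j)) (gij i j)).mp h1
      exact ⟨k, hc⟩
    choose k hk using hK
    let K := ∑ q, k q
    let L := N + K
    let a : ι → M := fun i => f i ^ K • m' i
    have ha : ∀ i j, f j ^ L • a i = f i ^ L • a j := by
      intro i j
      have hle : k (i, j) ≤ K :=
        Finset.single_le_sum (f := k) (fun _ _ => Nat.zero_le _) (Finset.mem_univ (i, j))
      have h2 : (f i * f j) ^ K • (f j ^ N • m' i - f i ^ N • m' j) = 0 := by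
        rw [← Nat.sub_add_cancel hle, pow_add, ← smul_smul, hk (i, j), smul_zero]
      rw [smul_sub, sub_eq_zero, smul_smul, smul_smul] at h2
      simp only [a, L]
      rw [smul_smul, smul_smul]
      rw [show f j ^ (N + K) * f i ^ K = (f i * f j) ^ K * f j ^ N by ring, h2]
      simp only [smul_smul]
      congr 1
      ring
    obtain ⟨c, hc⟩ := (Submodule.mem_span_range_iff_exists_fun R).mp
      (show (1 : R) ∈ Ideal.span (Set.range fun i => f i ^ L) from hspan L ▸ Submodule.mem_top)
    refine ⟨∑ i, c i • a i, fun j => hinv j L ?_⟩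
    simp only [← map_smul, Finset.smul_sum]
    have : ∑ i, f j ^ L • c i • a i = a j := by
      calc ∑ i, f j ^ L • c i • a i = ∑ i, (c i • f i ^ L) • a j :=
            Finset.sum_congr rfl fun i _ => by rw [smul_comm, ha i j, smul_assoc]
        _ = a j := by rw [← Finset.sum_smul, hc, one_smul]
    rw [this]
    simp only [a]
    rw [map_smul, hm', smul_smul, ← pow_add, Nat.add_comm]

end Groth.Agent.S9658
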