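import Groth.Statements.S9659
import Mathlib

set_option autoImplicit false
universe u
open CAlg

namespace Groth.Agent.S9659

/-- Let S be a ℤ-graded ring which contains an invertible homogeneous element of positive degree. Then
the set of homogeneous prime ideals of S, with the topology induced from Spec(S), maps
homeomorphically onto Spec(S₀) by p ↦ p ∩ S₀. -/
theorem result {R S : Type u} [CommRing R] [CommRing S] [Algebra R S] (𝒜 : ℤ → Submodule R S) [GradedAlgebra 𝒜]
    (f : S) (d : ℤ) (hd : 0 < d) (hf : f ∈ 𝒜 d) (hu : IsUnit f) :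
    IsHomeomorph (fun p : {p : PrimeSpectrum S // p.asIdeal.IsHomogeneous 𝒜} => PrimeSpectrum.comap (SetLike.GradeZero.subring 𝒜).subtype p.1) := by
  classical
  let dn := d.toNat
  have hdn : (dn : ℤ) = d := Int.toNat_of_nonneg hd.le
  have hdn0 : 0 < dn := by omega
  let u : Sˣ := hu.unit
  have hinv : (↑u⁻¹ : S) ∈ 𝒜 (-d) := by
    have h1 : f * (DirectSum.decompose 𝒜 (↑u⁻¹ : S) (-d) : S) = 1 := by
      rw [← DirectSum.coe_decompose_mul_add_of_left_mem 𝒜 hf, show f = (u : S) from rfl, Units.mul_inv,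
        add_neg_cancel, DirectSum.decompose_of_mem_same 𝒜 (SetLike.one_mem_graded 𝒜)]
    rw [show (↑u⁻¹ : S) = (DirectSum.decompose 𝒜 (↑u⁻¹ : S) (-d) : S) from
      Units.inv_eq_of_mul_eq_one_right (show (u : S) * _ = 1 from h1)]
    exact (DirectSum.decompose 𝒜 (↑u⁻¹ : S) (-d)).2
  have hz : ∀ i : ℤ, (↑(u ^ i) : S) ∈ 𝒜 (d * i) := by
    intro i
    induction i using Int.induction_on with
    | zero => simpa using SetLike.one_mem_graded 𝒜
    | succ n ih =>
      rw [zpow_add_one, Units.val_mul, mul_add, mul_one]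
      exact SetLike.mul_mem_graded ih hf
    | pred n ih =>
      rw [zpow_sub_one, Units.val_mul, mul_sub, mul_one, sub_eq_add_neg]
      exact SetLike.mul_mem_graded ih hinv
  let e : ℤ → S → S := fun i x => (DirectSum.decompose 𝒜 x i : S) ^ dn * ↑(u ^ (-i))
  have he : ∀ i x, e i x ∈ 𝒜 0 := fun i x => by
    have h := SetLike.mul_mem_graded (SetLike.pow_mem_graded dn (DirectSum.decompose 𝒜 x i).2) (hz (-i))
    rwa [show dn • i + d * -i = 0 by rw [nsmul_eq_mul, hdn]; ring] at h
  have hmem : ∀ (p : Ideal S), p.IsPrime → p.IsHomogeneous 𝒜 → ∀ x, x ∈ p ↔ ∀ i, e i x ∈ p := by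
    intro p hp hh x
    refine ⟨fun hx i => p.mul_mem_right _ (p.pow_mem_of_mem (hh i hx) dn hdn0), fun h => ?_⟩
    rw [← DirectSum.sum_support_decompose 𝒜 x]
    refine p.sum_mem fun i _ => ?_
    have hni : (↑(u ^ (-i)) : S) ∉ p := fun hm => hp.ne_top (Ideal.eq_top_of_isUnit_mem _ hm (Units.isUnit _))
    exact hp.mem_of_pow_mem dn ((hp.mem_or_mem (h i)).resolve_right hni)
  suffices hb : Function.Bijective (fun p : {p : PrimeSpectrum S // p.asIdeal.IsHomogeneous 𝒜} =>
      PrimeSpectrum.comap (SetLike.GradeZero.subring 𝒜).subtype p.1) by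
    have hsurj := hb.2
    refine ⟨(PrimeSpectrum.continuous_comap _).comp continuous_subtype_val, ?_, hb⟩
    intro U hU
    obtain ⟨V, hV, rfl⟩ := isOpen_induced_iff.mp hU
    refine isOpen_iff_forall_mem_open.mpr ?_
    rintro _ ⟨p, hp, rfl⟩
    obtain ⟨_, ⟨s, rfl⟩, hps, hsV⟩ :=
      PrimeSpectrum.isTopologicalBasis_basic_opens.exists_subset_of_mem_open hp hV
    obtain ⟨i, hi⟩ : ∃ i, e i s ∉ p.1.asIdeal := by
      by_contra h
      push Not at h
      exact hps ((hmem _ p.1.2 p.2 s).mpr h)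
    refine ⟨PrimeSpectrum.basicOpen (⟨e i s, he i s⟩ : SetLike.GradeZero.subring 𝒜), fun P hP => ?_,
      (PrimeSpectrum.basicOpen _).isOpen, hi⟩
    obtain ⟨q, rfl⟩ := hsurj P
    exact ⟨q, hsV fun hs => hP ((hmem _ q.1.2 q.2 s).mp hs i), rfl⟩
  refine ⟨fun p q h => Subtype.ext (PrimeSpectrum.ext (Ideal.ext fun x => ?_)), fun P => ?_⟩
  · rw [hmem _ p.1.2 p.2, hmem _ q.1.2 q.2]
    refine forall_congr' fun i => ?_
    exact SetLike.ext_iff.mp (congrArg PrimeSpectrum.asIdeal h) ⟨e i x, he i x⟩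
  · let T := SetLike.GradeZero.subring 𝒜
    have hcm : (P.asIdeal.map T.subtype).comap T.subtype = P.asIdeal := by
      refine le_antisymm (fun x hx => ?_) Ideal.le_comap_map
      have key : ∀ z ∈ P.asIdeal.map T.subtype, ∃ y ∈ P.asIdeal, (DirectSum.decompose 𝒜 z 0 : S) = (y : S) := by
        intro z hz
        induction hz using Submodule.span_induction with
        | mem w hw =>
          obtain ⟨y, hy, rfl⟩ := hw
          exact ⟨y, hy, DirectSum.decompose_of_mem_same 𝒜 y.2⟩
        | zero => exact ⟨0, zero_mem _, by simp⟩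
        | add a b _ _ ha hb =>
          obtain ⟨y, hy, hay⟩ := ha
          obtain ⟨w, hw, hbw⟩ := hb
          exact ⟨y + w, add_mem hy hw, by
            rw [DirectSum.decompose_add, DirectSum.add_apply, Submodule.coe_add, hay, hbw]; rfl⟩
        | smul c a hamem ha =>
          clear ha
          induction hamem using Submodule.span_induction generalizing c with
          | mem w hw =>
            obtain ⟨y, hy, rfl⟩ := hw
            refine ⟨⟨_, (DirectSum.decompose 𝒜 c 0).2⟩ * y, P.asIdeal.mul_mem_left _ hy, ?_⟩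
            rw [smul_eq_mul]
            have := DirectSum.coe_decompose_mul_add_of_right_mem 𝒜 (a := c) (i := 0) y.2
            rw [add_zero] at this
            exact this
          | zero => exact ⟨0, zero_mem _, by simp⟩
          | add a b _ _ ha hb =>
            obtain ⟨y, hy, hay⟩ := ha c
            obtain ⟨w, hw, hbw⟩ := hb c
            exact ⟨y + w, add_mem hy hw, by
              rw [smul_add, DirectSum.decompose_add, DirectSum.add_apply, Submodule.coe_add, hay, hbw]; rfl⟩
          | smul c' a _ ha => rw [smul_smul]; exact ha _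
      obtain ⟨y, hy, hxy⟩ := key _ hx
      rw [DirectSum.decompose_of_mem_same 𝒜 (show T.subtype x ∈ 𝒜 0 from x.2)] at hxy
      rwa [show x = y from Subtype.ext hxy]
    obtain ⟨Q, hQ, hQP⟩ := (Ideal.comap_map_eq_self_iff_of_isPrime P.asIdeal).mp hcm
    refine ⟨⟨⟨(Q.homogeneousCore 𝒜).toIdeal, hQ.homogeneousCore⟩, HomogeneousIdeal.isHomogeneous _⟩,
      PrimeSpectrum.ext (Ideal.ext fun y => ?_)⟩
    refine ⟨fun hy => hQP.le (Ideal.toIdeal_homogeneousCore_le 𝒜 Q hy), fun hy => ?_⟩
    exact Ideal.mem_homogeneousCore_of_homogeneous_of_mem ⟨0, y.2⟩ (hQP.ge hy)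

end Groth.Agent.S9659
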