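import Groth.Statements.S9661
import Mathlib
import Groth.Agent.Calg5.HilbertFn

set_option autoImplicit false
universe u
attribute [local instance] MvPolynomial.gradedAlgebra
open CAlg

namespace Groth.Agent.S9661

/-- Let k be a field, d ≥ 1, and I a nonzero homogeneous ideal of the standard-graded polynomial ring
k[X_1, …, X_d]; put M = k[X_1, …, X_d]/I. Then the function n ↦ dim_k M_n (equal to dim_k of the
degree-n part of the polynomial ring minus dim_k of the degree-n part of I) coincides for all large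
n with a polynomial of degree < d - 1, the zero polynomial if d = 1. -/
theorem result {k : Type u} [Field k] (d : ℕ) (hd : 0 < d)
    (I : HomogeneousIdeal (MvPolynomial.homogeneousSubmodule (Fin d) k)) (hI : I ≠ ⊥) :
    ∃ P : Polynomial ℚ, P.degree < ((d - 1 : ℕ) : WithBot ℕ) ∧ ∃ N : ℕ, ∀ n : ℕ, N ≤ n →
      ((Module.finrank k ↥(MvPolynomial.homogeneousSubmodule (Fin d) k n) : ℚ) -
        (Module.finrank k ↥(I.toIdeal.restrictScalars k ⊓ MvPolynomial.homogeneousSubmodule (Fin d) k n) : ℚ)) = P.eval (n : ℚ) := by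
  classical
  obtain ⟨r, rfl⟩ : ∃ r, d = r + 1 := ⟨d - 1, by omega⟩
  let R := MvPolynomial (Fin (r + 1)) k
  let 𝒜 := MvPolynomial.homogeneousSubmodule (Fin (r + 1)) k
  have h0 : ∀ s ∈ 𝒜 0, s ∈ Set.range (algebraMap k R) := fun s hs =>
    ⟨s.coeff 0, (MvPolynomial.totalDegree_eq_zero_iff_eq_C.1 (Nat.le_zero.1
      (MvPolynomial.IsHomogeneous.totalDegree_le hs))).symm⟩
  let X : Finset R := Finset.univ.image MvPolynomial.X
  have hX : ∀ x ∈ X, x ∈ 𝒜 1 := by
    intro x hx
    obtain ⟨i, -, rfl⟩ := Finset.mem_image.1 hx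
    exact MvPolynomial.isHomogeneous_X k i
  have hXc : X.card = r + 1 := by
    rw [Finset.card_image_of_injective _ MvPolynomial.X_injective, Finset.card_univ, Fintype.card_fin]
  have hirr : (HomogeneousIdeal.irrelevant 𝒜).toIdeal ≤ Ideal.span (X : Set R) := by
    intro x hx
    rw [show (X : Set R) = MvPolynomial.X '' (Set.univ : Set (Fin (r + 1))) by simp [X],
      MvPolynomial.mem_ideal_span_X_image]
    intro m hm
    have h := (HomogeneousIdeal.mem_irrelevant_iff 𝒜 x).1 hx
    by_contra hne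
    push Not at hne
    have hm0 : m = 0 := Finsupp.ext fun i => hne i (Set.mem_univ i)
    rw [GradedRing.proj_apply, ← DirectSum.Decomposition.decompose'_eq,
      MvPolynomial.decomposition.decompose'_apply, MvPolynomial.homogeneousComponent_zero] at h
    rw [MvPolynomial.mem_support_iff, hm0] at hm
    exact hm (by simpa using congrArg (MvPolynomial.coeff 0) h)
  let cl : Submodule k R → ℤ := fun p => Module.finrank k p
  have hcl : Groth.Calg5.HilbertFn.IsAdd cl := by
    refine Groth.Calg5.HilbertFn.isAdd_of_additive cl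
      (fun p' q' => Module.finrank k (p' ⧸ q'.comap p'.subtype)) ?_
    intro p q p' q' f hp hq hp' hle hf hk
    haveI : Module.Finite k p := Module.Finite.iff_fg.2 hp
    have h := f.finrank_range_add_finrank_ker
    rw [LinearMap.range_eq_top.2 hf, finrank_top, hk,
      (Submodule.comapSubtypeEquivOfLe hle).finrank_eq] at h
    simp only [cl]
    omega
  have hnum := Groth.Calg5.HilbertFn.num_hilbert 𝒜 𝒜 h0 X hX hirr cl hcl X le_rfl
  rw [hXc] at hnum
  have hbot : Groth.Calg5.HilbertFn.Homog 𝒜 (⊥ : Submodule R R) :=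
    fun n m hm => by simp [(Submodule.mem_bot R).1 hm]
  have hc := hnum ⊥ ⊤ bot_le (fun _ _ _ => trivial) hbot (fun x hx hx' => absurd hx hx')
  have hh := hnum I.toIdeal ⊤ le_top (fun _ _ _ => trivial) (fun n m hm => I.isHomogeneous n hm)
    (fun x hx hx' => absurd hx hx')
  have e1 : ∀ n, Groth.Calg5.HilbertFn.piece 𝒜 (⊤ : Submodule R R) n = 𝒜 n := fun n => by
    simp [Groth.Calg5.HilbertFn.piece]
  have e2 : ∀ n, Groth.Calg5.HilbertFn.piece 𝒜 (⊥ : Submodule R R) n = ⊥ := fun n => by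
    simp [Groth.Calg5.HilbertFn.piece]
  simp only [e1, e2, cl, finrank_bot, Nat.cast_zero, sub_zero] at hc hh
  let c : ℕ → ℤ := fun n => Module.finrank k (𝒜 n)
  let h : ℕ → ℤ := fun n => c n - Module.finrank k (Groth.Calg5.HilbertFn.piece 𝒜 I.toIdeal n)
  obtain ⟨f, e, hfe, hfI, hf0⟩ : ∃ (f : R) (e : ℕ), f ∈ 𝒜 e ∧ f ∈ I.toIdeal ∧ f ≠ 0 := by
    have : I.toIdeal ≠ ⊥ := fun h => hI (HomogeneousIdeal.toIdeal_injective h)
    obtain ⟨x, hx, hx0⟩ := (Submodule.ne_bot_iff _).1 this
    by_contra hne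
    push Not at hne
    apply hx0
    rw [← DirectSum.sum_support_decompose 𝒜 x]
    exact Finset.sum_eq_zero fun i _ => hne _ i (DirectSum.decompose 𝒜 x i).2 (I.isHomogeneous i hx)
  let g : ℕ → ℤ := fun n => c n - c (n - e)
  have hg : Groth.Calg5.HilbertFn.Num r g := by
    refine Groth.Calg5.HilbertFn.Num.of_shift e ?_
    have : ∀ j : ℕ, Groth.Calg5.HilbertFn.Num r fun n => c (n + j) - c n := by
      intro j
      induction j with
      | zero => simpa using Groth.Calg5.HilbertFn.Num.zero (G := ℤ) (r := r)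
      | succ j ih =>
        refine Groth.Calg5.HilbertFn.Num.congr
          (Groth.Calg5.HilbertFn.Num.add (Groth.Calg5.HilbertFn.Num.shift j hc) ih) ⟨0, fun n _ => ?_⟩
        simp only [c, 𝒜, ← add_assoc]
        ring
    refine Groth.Calg5.HilbertFn.Num.congr (this e) ⟨0, fun n _ => ?_⟩
    simp [g]
  have hfin : ∀ N n, Module.Finite k (Groth.Calg5.HilbertFn.piece 𝒜 (N : Submodule R R) n) := fun N n =>
    Module.Finite.iff_fg.2 (Groth.Calg5.HilbertFn.piece_fg 𝒜 𝒜 h0 N n)
  have hhpos : ∀ n, 0 ≤ h n := by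
    intro n
    haveI : Module.Finite k (𝒜 n) := e1 n ▸ hfin ⊤ n
    have := Submodule.finrank_mono (show Groth.Calg5.HilbertFn.piece 𝒜 I.toIdeal n ≤ 𝒜 n from inf_le_right)
    simp only [h, c]
    omega
  have hhle : ∀ n, e ≤ n → h n ≤ g n := by
    intro n hn
    haveI := hfin I.toIdeal n
    let φ : 𝒜 (n - e) →ₗ[k] Groth.Calg5.HilbertFn.piece 𝒜 I.toIdeal n :=
      ((LinearMap.mulRight k f).comp (𝒜 (n - e)).subtype).codRestrict _ fun v =>
        Groth.Calg5.HilbertFn.mem_piece.2 ⟨I.toIdeal.mul_mem_left (v : R) hfI, by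
          have := SetLike.GradedMul.mul_mem (A := 𝒜) v.2 hfe
          rwa [Nat.sub_add_cancel hn] at this⟩
    have hinj : Function.Injective φ := by
      intro a b hab
      exact Subtype.ext (mul_right_cancel₀ hf0 (congrArg Subtype.val hab))
    have := LinearMap.finrank_le_finrank_of_injective hinj
    simp only [h, g, c]
    omega
  let B : ℕ → Polynomial ℚ := fun i => Polynomial.C ((i.factorial : ℚ)⁻¹) * descPochhammer ℚ i
  have hB : ∀ i n : ℕ, (B i).eval (n : ℚ) = (n.choose i : ℚ) := by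
    intro i n
    rw [Nat.cast_choose_eq_descPochhammer_div]
    simp [B, div_eq_inv_mul]
  have hpoly : ∀ (m : ℕ) (u : ℕ → ℤ), Groth.Calg5.HilbertFn.Num m u →
      ∃ P : Polynomial ℚ, P.degree < (m : WithBot ℕ) ∧ ∃ N, ∀ n, N ≤ n → (u n : ℚ) = P.eval (n : ℚ) := by
    intro m u hu
    obtain ⟨a, N, ha⟩ := hu.exists_coeff
    refine ⟨∑ i : Fin m, Polynomial.C (a i : ℚ) * B i, ?_, N, fun n hn => ?_⟩
    · refine lt_of_le_of_lt (Polynomial.degree_sum_le _ _) ((Finset.sup_lt_iff (WithBot.bot_lt_coe m)).2 fun i _ => ?_)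
      refine lt_of_le_of_lt (le_trans Polynomial.degree_le_natDegree (WithBot.coe_le_coe.2
        (le_trans (Polynomial.natDegree_C_mul_le _ _) (le_trans (Polynomial.natDegree_C_mul_le _ _)
          (descPochhammer_natDegree ℚ i).le)))) ?_
      exact WithBot.coe_lt_coe.2 i.2
    · rw [ha n hn, Polynomial.eval_finsetSum]
      push_cast
      refine Finset.sum_congr rfl fun i _ => ?_
      rw [Polynomial.eval_mul, Polynomial.eval_C, hB]
      simp [mul_comm]
  obtain ⟨P, hPd, N₁, hP⟩ := hpoly (r + 1) h hh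
  obtain ⟨Q, hQd, N₂, hQ⟩ := hpoly r g hg
  refine ⟨P, ?_, N₁, fun n hn => by
    rw [← hP n hn]; simp only [h, c, Groth.Calg5.HilbertFn.piece, 𝒜, Int.cast_sub, Int.cast_natCast]; rfl⟩
  rw [show r + 1 - 1 = r from Nat.add_sub_cancel r 1]
  have hev : ∀ n, e + N₁ + N₂ ≤ n → 0 ≤ P.eval (n : ℚ) ∧ P.eval (n : ℚ) ≤ Q.eval (n : ℚ) := by
    intro n hn
    rw [← hP n (by omega), ← hQ n (by omega)]
    exact ⟨Int.cast_nonneg (hhpos n), Int.cast_le.2 (hhle n (by omega))⟩
  by_contra hdeg
  have hPr : (r : WithBot ℕ) ≤ P.degree := not_lt.1 hdeg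
  rcases Nat.eq_zero_or_pos r with rfl | hr
  · have hQ0 : Q = 0 := Polynomial.degree_eq_bot.1 (by simpa using hQd)
    have hP0 : P = 0 := Polynomial.eq_zero_of_infinite_isRoot P
      (Set.Infinite.mono (s := (fun n : ℕ => (n : ℚ)) '' Set.Ici (e + N₁ + N₂)) (by
        rintro _ ⟨n, hn, rfl⟩
        have := hev n hn
        rw [hQ0, Polynomial.eval_zero] at this
        exact le_antisymm this.2 this.1) ((Set.Ici_infinite _).image Nat.cast_injective.injOn))
    rw [hP0, Polynomial.degree_zero] at hPr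
    simp at hPr
  · have hdP : 0 < P.degree := lt_of_lt_of_le (by exact_mod_cast hr) hPr
    have hQP : Q.degree < P.degree := lt_of_lt_of_le hQd hPr
    rcases lt_or_ge P.leadingCoeff 0 with hl | hl
    · obtain ⟨n, hn, hn'⟩ := (((Polynomial.tendsto_atBot_of_leadingCoeff_nonpos P hdP hl.le).comp
        tendsto_natCast_atTop_atTop).eventually_lt_atBot 0 |>.and (Filter.eventually_ge_atTop (e + N₁ + N₂))).exists
      exact absurd (hev n hn').1 (not_le.2 hn)
    · have hd2 : 0 < (Q - P).degree := by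
        rw [Polynomial.degree_sub_eq_right_of_degree_lt hQP]; exact hdP
      have hl2 : (Q - P).leadingCoeff ≤ 0 := by
        rw [Polynomial.leadingCoeff_sub_of_degree_lt' hQP, neg_nonpos]; exact hl
      obtain ⟨n, hn, hn'⟩ := (((Polynomial.tendsto_atBot_of_leadingCoeff_nonpos (Q - P) hd2 hl2).comp
        tendsto_natCast_atTop_atTop).eventually_lt_atBot 0 |>.and (Filter.eventually_ge_atTop (e + N₁ + N₂))).exists
      simp only [Function.comp_apply, Polynomial.eval_sub] at hn
      linarith [(hev n hn').2]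

end Groth.Agent.S9661
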