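import Groth.Statements.S9662
import Mathlib
import Groth.Agent.Calg5.HilbertFn
import Groth.Agent.KTheory.Basic

set_option autoImplicit false
universe u
open CategoryTheory
open CAlg

namespace Groth.Agent.S9662

/-- Let S be a Noetherian ℕ-graded ring, presented as a graded algebra over a ring A mapping onto S₀,
whose irrelevant ideal S₊ is generated as an ideal by the degree-1 part S₁, and let M be a finitely
generated graded S-module, graded in nonnegative degrees. (The published statement allows modules
graded in all integer degrees; this row takes modules graded in degrees ≥ 0, which loses nothing for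
large n.) Write K'₀(A) for the Grothendieck group of finite A-modules (the free abelian group on the
finite A-modules modulo the relations given by short exact sequences) and [M_n] for the class of the
finite A-module M_n. Then n ↦ [M_n] is a numerical polynomial: there are a_0, …, a_{r-1} in K'₀(A)
with [M_n] = Σ_i C(n, i) · a_i for all large n. (When A → S₀ is bijective K'₀(A) is K'₀(S₀), the
group of the published statement; in general the classes are taken after restricting scalars along A
→ S₀.) -/
theorem result {A S : Type u} [CommRing A] [CommRing S] [Algebra A S] [IsNoetherianRing S] (𝒜 : ℕ → Submodule A S) [GradedAlgebra 𝒜]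
    (h0 : ∀ s ∈ 𝒜 0, s ∈ Set.range (algebraMap A S))
    (h1 : (HomogeneousIdeal.irrelevant 𝒜).toIdeal = Ideal.span (𝒜 1 : Set S))
    (M : Type u) [AddCommGroup M] [Module A M] [Module S M] [IsScalarTower A S M] [Module.Finite S M] (ℳ : ℕ → Submodule A M) [DirectSum.Decomposition ℳ] [SetLike.GradedSMul 𝒜 ℳ] :
    ∃ (r : ℕ) (a : Fin r → KZero.K0sub (fun X : ModuleCat.{u} A => Module.Finite A X)) (N : ℕ), ∀ n : ℕ, N ≤ n →
      KZero.clSub (fun X : ModuleCat.{u} A => Module.Finite A X) (ModuleCat.of A ↥(ℳ n)) = ∑ i : Fin r, ((n.choose (i : ℕ) : ℕ) : ℤ) • a i := by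
  classical
  obtain ⟨X, hX, hXs⟩ := (Submodule.fg_span_iff_fg_span_finset_subset (𝒜 1 : Set S)).1
    (IsNoetherian.noetherian (Submodule.span S (𝒜 1 : Set S)))
  let P : ObjectProperty (ModuleCat.{u} A) := fun X => Module.Finite A X
  let cl : Submodule A M → KZero.K0sub P := fun p => KZero.clSub P (ModuleCat.of A p)
  have hcl : Groth.Calg5.HilbertFn.IsAdd cl := by
    refine Groth.Calg5.HilbertFn.isAdd_of_additive cl
      (fun p' q' => KZero.clSub P (ModuleCat.of A (p' ⧸ q'.comap p'.subtype))) ?_
    intro p q p' q' f hp hq hp' hle hf hk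
    let i : q →ₗ[A] p := Submodule.inclusion hle
    have hex : Function.Exact i f := by
      rw [LinearMap.exact_iff, hk, Submodule.range_inclusion]
    let C : ShortComplex (ModuleCat.{u} A) :=
      ShortComplex.mk (ModuleCat.ofHom i) (ModuleCat.ofHom f) (by ext x; exact hex.apply_apply_eq_zero x)
    have hC : C.ShortExact :=
      { exact := (ShortComplex.ShortExact.moduleCat_exact_iff_function_exact C).2 hex
        mono_f := (ModuleCat.mono_iff_injective _).2 (Submodule.inclusion_injective hle)
        epi_g := (ModuleCat.epi_iff_surjective _).2 hf }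
    have : Module.Finite A p := Module.Finite.iff_fg.2 hp
    exact Groth.KTheory.clSub_rel C hC (Module.Finite.iff_fg.2 hq) (Module.Finite.iff_fg.2 hp)
      (Module.Finite.of_surjective f hf)
  have hnum := Groth.Calg5.HilbertFn.num_hilbert 𝒜 ℳ h0 X hX (h1.trans hXs).le cl hcl X le_rfl
    ⊥ ⊤ bot_le (fun _ _ _ => trivial) (fun n m hm => by simp [(Submodule.mem_bot S).1 hm])
    (fun x hx hx' => absurd hx hx')
  obtain ⟨a, N, ha⟩ := hnum.exists_coeff
  refine ⟨_, a, N, fun n hn => ?_⟩
  have e1 : Groth.Calg5.HilbertFn.piece ℳ (⊤ : Submodule S M) n = ℳ n := by simp [Groth.Calg5.HilbertFn.piece]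
  have e2 : Groth.Calg5.HilbertFn.piece ℳ (⊥ : Submodule S M) n = ⊥ := by simp [Groth.Calg5.HilbertFn.piece]
  have h := ha n hn
  rw [e1, e2, show cl ⊥ = 0 from Groth.KTheory.clSub_zero
    (ModuleCat.isZero_of_subsingleton (ModuleCat.of A ↥(⊥ : Submodule A M))) (Module.Finite.iff_fg.2 Submodule.fg_bot),
    sub_zero] at h
  simp only [natCast_zsmul]
  exact h

end Groth.Agent.S9662
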