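import Groth.Statements.S9663
import Mathlib

set_option autoImplicit false
universe u
open CAlg

namespace Groth.Agent.S9663

/-- Let R be a ring and f_i, i in a finite index set, elements of R (no condition on the ideal they
generate). Suppose given for each i an R-module M_i on which f_i acts invertibly, for each pair (i,
j) an R-linear isomorphism ψ_ij : (M_i)_{f_j} → (M_j)_{f_i}, and suppose the cocycle condition ψ_jk
∘ ψ_ij = ψ_ik holds as maps (M_i)_{f_j f_k} → (M_k)_{f_i f_j} for all triples (i, j, k). All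
localizations are given through their universal properties: (M_i)_{f_j} with its map g from M_i;
(M_i)_{f_j f_k} with its map t from M_i and the compatible maps u from (M_i)_{f_j} and v from
(M_i)_{f_k}; and the three localized isomorphisms Ψ₁ (ψ_ij on (M_i)_{f_j f_k}), Ψ₂ (ψ_jk on
(M_j)_{f_i f_k}) and Ψ₃ (ψ_ik on (M_i)_{f_j f_k}) are given as maps compatible with the ψ's. Let M ⊆
Π_i M_i be the submodule of families (m_i) with m_i/1 = ψ_ji(m_j/1) in (M_i)_{f_j} for all i, j.
Then for each i the projection M → M_i exhibits M_i as the localization of M at f_i. -/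
theorem result {R : Type u} [CommRing R] {ι : Type u} [Finite ι] (f : ι → R)
    (Mi : ι → Type u) [∀ i, AddCommGroup (Mi i)] [∀ i, Module R (Mi i)]
    (hMi : ∀ i, IsUnit (algebraMap R (Module.End R (Mi i)) (f i)))
    (Mij : ι → ι → Type u) [∀ i j, AddCommGroup (Mij i j)] [∀ i j, Module R (Mij i j)]
    (g : ∀ i j, Mi i →ₗ[R] Mij i j) [∀ i j, IsLocalizedModule (Submonoid.powers (f j)) (g i j)]
    (ψ : ∀ i j, Mij i j ≃ₗ[R] Mij j i)
    (T : ι → ι → ι → Type u) [∀ i j k, AddCommGroup (T i j k)] [∀ i j k, Module R (T i j k)]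
    (t : ∀ i j k, Mi i →ₗ[R] T i j k) [∀ i j k, IsLocalizedModule (Submonoid.powers (f j * f k)) (t i j k)]
    (u : ∀ i j k, Mij i j →ₗ[R] T i j k) (hu : ∀ i j k, u i j k ∘ₗ g i j = t i j k)
    (v : ∀ i j k, Mij i k →ₗ[R] T i j k) (hv : ∀ i j k, v i j k ∘ₗ g i k = t i j k)
    (Ψ₁ : ∀ i j k, T i j k →ₗ[R] T j i k) (hΨ₁ : ∀ i j k, Ψ₁ i j k ∘ₗ u i j k = u j i k ∘ₗ (ψ i j).toLinearMap)
    (Ψ₂ : ∀ i j k, T j i k →ₗ[R] T k i j) (hΨ₂ : ∀ i j k, Ψ₂ i j k ∘ₗ v j i k = v k i j ∘ₗ (ψ j k).toLinearMap)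
    (Ψ₃ : ∀ i j k, T i j k →ₗ[R] T k i j) (hΨ₃ : ∀ i j k, Ψ₃ i j k ∘ₗ v i j k = u k i j ∘ₗ (ψ i k).toLinearMap)
    (hcoc : ∀ i j k, Ψ₂ i j k ∘ₗ Ψ₁ i j k = Ψ₃ i j k)
    (M : Submodule R (∀ i, Mi i)) (hM : ∀ m : ∀ i, Mi i, m ∈ M ↔ ∀ i j, g i j (m i) = ψ j i (g j i (m j))) (i : ι) :
    IsLocalizedModule (Submonoid.powers (f i)) ((LinearMap.proj i).comp M.subtype : ↥M →ₗ[R] Mi i) := by
  classical
  have _ := Fintype.ofFinite ι
  -- powers act invertibly
  have hinvM : ∀ a (n : ℕ), Function.Injective fun x : Mi a => f a ^ n • x := by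
    intro a n
    have h := ((Module.End.isUnit_iff _).mp ((hMi a).pow n)).injective
    rw [← map_pow] at h
    exact h
  have hinvMij : ∀ a b (n : ℕ), Function.Injective fun x : Mij a b => f b ^ n • x := fun a b n =>
    ((Module.End.isUnit_iff _).mp (IsLocalizedModule.map_units (g a b)
      ⟨f b ^ n, (Submonoid.mem_powers_iff _ _).mpr ⟨n, rfl⟩⟩)).injective
  have hvg : ∀ a b c (x : Mi a), v a b c (g a c x) = t a b c x := fun a b c x =>
    LinearMap.congr_fun (hv a b c) x
  have hug : ∀ a b c (x : Mi a), u a b c (g a b x) = t a b c x := fun a b c x =>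
    LinearMap.congr_fun (hu a b c) x
  -- elements killed in a triple localization
  have hkill : ∀ a b c (z : Mij a c), v a b c z = 0 → ∃ n : ℕ, f b ^ n • z = 0 := by
    intro a b c z hz
    obtain ⟨⟨w, ⟨e, n, rfl⟩⟩, hw⟩ := IsLocalizedModule.surj (Submonoid.powers (f c)) (g a c) z
    have hw' : f c ^ n • z = g a c w := hw
    have ht : t a b c w = 0 := by rw [← hvg, ← hw', map_smul, hz, smul_zero]
    obtain ⟨⟨e, k, rfl⟩, hk⟩ :=
      (IsLocalizedModule.eq_zero_iff (Submonoid.powers (f b * f c)) (t a b c)).mp ht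
    have hk' : (f b * f c) ^ k • w = 0 := hk
    refine ⟨k, hinvMij a c (n + k) ?_⟩
    show f c ^ (n + k) • f b ^ k • z = f c ^ (n + k) • (0 : Mij a c)
    rw [smul_zero, smul_smul, show f c ^ (n + k) * f b ^ k = (f b * f c) ^ k * f c ^ n by ring,
      ← smul_smul, hw', ← map_smul, hk', map_zero]
  have hgii : ∀ a, Function.Injective (g a a) := by
    intro a x y h
    obtain ⟨⟨e, k, rfl⟩, hk⟩ := IsLocalizedModule.exists_of_eq (S := Submonoid.powers (f a)) h
    exact hinvM a k hk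
  have hviij : ∀ a b, Function.Injective (v a a b) := by
    intro a b
    rw [injective_iff_map_eq_zero]
    intro z hz
    obtain ⟨n, hn⟩ := hkill a a b z hz
    obtain ⟨⟨w, ⟨e, m, rfl⟩⟩, hw⟩ := IsLocalizedModule.surj (Submonoid.powers (f b)) (g a b) z
    have hw' : f b ^ m • z = g a b w := hw
    have h0 : g a b (f a ^ n • w) = 0 := by rw [map_smul, ← hw', smul_comm, hn, smul_zero]
    obtain ⟨⟨e, k, rfl⟩, hk⟩ := (IsLocalizedModule.eq_zero_iff (Submonoid.powers (f b)) (g a b)).mp h0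
    have hk' : f a ^ n • (f b ^ k • w) = f a ^ n • (0 : Mi a) := by
      rw [smul_zero, smul_comm]; exact hk
    refine hinvMij a b (k + m) ?_
    show f b ^ (k + m) • z = f b ^ (k + m) • (0 : Mij a b)
    rw [smul_zero, pow_add, ← smul_smul, hw', ← map_smul, hinvM a n hk', map_zero]
  -- the key identity from the cocycle condition
  have hcoc' : ∀ a b c (x : Mi a),
      Ψ₂ a b c (u b a c (ψ a b (g a b x))) = u c a b (ψ a c (g a c x)) := by
    intro a b c x
    have h1 := LinearMap.congr_fun (hcoc a b c) (t a b c x)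
    rw [LinearMap.comp_apply] at h1
    nth_rewrite 1 [← hug] at h1
    rw [← hvg] at h1
    have e1 := LinearMap.congr_fun (hΨ₁ a b c) (g a b x)
    have e3 := LinearMap.congr_fun (hΨ₃ a b c) (g a c x)
    simp only [LinearMap.comp_apply, LinearEquiv.coe_coe] at e1 e3
    rw [e1, e3] at h1
    exact h1
  have huv : ∀ a b (z : Mij a b), u a b b z = v a b b z := by
    intro a b
    have : u a b b = v a b b := by
      refine IsLocalizedModule.ext (Submonoid.powers (f b)) (g a b) ?_ ((hu a b b).trans (hv a b b).symm)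
      rintro ⟨e, k, rfl⟩
      have hu2 := IsLocalizedModule.map_units (t a b b)
        ⟨(f b * f b) ^ k, (Submonoid.mem_powers_iff _ _).mpr ⟨k, rfl⟩⟩
      show IsUnit ((algebraMap R (Module.End R (T a b b))) (f b ^ k))
      have hu3 : IsUnit ((algebraMap R (Module.End R (T a b b))) ((f b * f b) ^ k)) := hu2
      rw [mul_pow, map_mul] at hu3
      exact (((Commute.all (f b ^ k) (f b ^ k)).map (algebraMap R (Module.End R (T a b b)))).isUnit_mul_iff.mp hu3).1
    exact fun z => by rw [this]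
  have hψii : ∀ a (x : Mi a), ψ a a (g a a x) = g a a x := by
    intro a x
    have h1 := hcoc' a a a x
    have e2 := LinearMap.congr_fun (hΨ₂ a a a) (ψ a a (g a a x))
    simp only [LinearMap.comp_apply, LinearEquiv.coe_coe] at e2
    rw [huv, e2] at h1
    exact (ψ a a).injective (hviij a a h1)
  have hinv2 : ∀ a b (x : Mi a), ψ b a (ψ a b (g a b x)) = g a b x := by
    intro a b x
    have h1 := hcoc' a b a x
    have e2 := LinearMap.congr_fun (hΨ₂ a b a) (ψ a b (g a b x))
    simp only [LinearMap.comp_apply, LinearEquiv.coe_coe] at e2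
    rw [huv, e2, hψii, hug, ← hvg] at h1
    exact hviij a b h1
  refine ⟨?_, ?_, ?_⟩
  · rintro ⟨e, n, rfl⟩
    have h := (hMi i).pow n
    rw [← map_pow] at h
    exact h
  · intro x
    have hy : ∀ j, ∃ (n : ℕ) (y : Mi j), f i ^ n • ψ i j (g i j x) = g j i y := fun j => by
      obtain ⟨⟨w, ⟨e, n, rfl⟩⟩, hw⟩ :=
        IsLocalizedModule.surj (Submonoid.powers (f i)) (g j i) (ψ i j (g i j x))
      exact ⟨n, w, hw⟩
    choose n y₀ hy₀ using hy
    let N := ∑ j, n j
    let y : ∀ j, Mi j := fun j => f i ^ (N - n j) • y₀ j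
    have hy : ∀ j, g j i (y j) = f i ^ N • ψ i j (g i j x) := fun j => by
      rw [map_smul, ← hy₀, smul_smul, ← pow_add,
        Nat.sub_add_cancel (Finset.single_le_sum (f := n) (fun _ _ => Nat.zero_le _) (Finset.mem_univ j))]
    have hd : ∀ q : ι × ι, ∃ c : ℕ,
        f i ^ c • (ψ q.1 q.2 (g q.1 q.2 (y q.1)) - g q.2 q.1 (y q.2)) = 0 := by
      rintro ⟨j, l⟩
      refine hkill l i j _ ?_
      have e2 := LinearMap.congr_fun (hΨ₂ i j l) (g j l (y j))
      simp only [LinearMap.comp_apply, LinearEquiv.coe_coe] at e2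
      rw [map_sub, ← e2, hvg j i l, ← hug j i l, hy, map_smul, map_smul, hcoc', hvg l i j,
        ← hug l i j, hy, map_smul, sub_self]
    choose c hc using hd
    let C := ∑ q, c q
    have hm : (fun j => f i ^ C • y j) ∈ M := by
      refine (hM _).mpr fun j l => ?_
      have hle : c (j, l) ≤ C := Finset.single_le_sum (f := c) (fun _ _ => Nat.zero_le _) (Finset.mem_univ (j, l))
      have h0 : f i ^ C • (ψ j l (g j l (y j)) - g l j (y l)) = 0 := by
        rw [← Nat.sub_add_cancel hle, pow_add, ← smul_smul, hc (j, l), smul_zero]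
      rw [smul_sub, sub_eq_zero] at h0
      rw [← hinv2 j l (f i ^ C • y j)]
      congr 1
      simp only [map_smul]
      exact h0
    refine ⟨⟨⟨_, hm⟩, ⟨f i ^ (C + N), (Submonoid.mem_powers_iff _ _).mpr ⟨C + N, rfl⟩⟩⟩, ?_⟩
    show f i ^ (C + N) • x = f i ^ C • y i
    have hyi : y i = f i ^ N • x := hgii i (by rw [hy, hψii, map_smul])
    rw [hyi, smul_smul, ← pow_add]
  · intro m₁ m₂ h
    have hz : ∀ j, ∃ a : ℕ, f i ^ a • (m₁.1 j - m₂.1 j) = 0 := fun j => by
      have h0 : g j i (m₁.1 j - m₂.1 j) = 0 := by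
        rw [map_sub, (hM _).mp m₁.2 j i, (hM _).mp m₂.2 j i, sub_eq_zero]
        have h' : m₁.1 i = m₂.1 i := h
        rw [h']
      obtain ⟨⟨e, a, rfl⟩, ha⟩ := (IsLocalizedModule.eq_zero_iff (Submonoid.powers (f i)) (g j i)).mp h0
      exact ⟨a, ha⟩
    choose a ha using hz
    refine ⟨⟨f i ^ (∑ j, a j), (Submonoid.mem_powers_iff _ _).mpr ⟨_, rfl⟩⟩, Subtype.ext (funext fun j => ?_)⟩
    show f i ^ (∑ j, a j) • m₁.1 j = f i ^ (∑ j, a j) • m₂.1 j
    rw [← sub_eq_zero, ← smul_sub, ← Nat.sub_add_cancel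
      (Finset.single_le_sum (f := a) (fun _ _ => Nat.zero_le _) (Finset.mem_univ j)), pow_add,
      ← smul_smul, ha, smul_zero]

end Groth.Agent.S9663
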