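import Groth.Statements.S9671
import Mathlib

set_option autoImplicit false
universe u
open CAlg

namespace Groth.Agent.S9671

/-- Let R be a ring and R' an R-algebra of finite type. Then there are an ℕ-graded R-algebra S such that
R → S₀ is bijective and S is generated as an R-algebra by a finite set of degree-1 elements, an
element f ∈ S₁, and a ring isomorphism e between the degree-zero part S_(f) of the localization S_f
and R' which matches r/1 with the image of r in R' for every r ∈ R (so R' is identified with S_(f)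
as an R-algebra). The published statement also produces, from a finite R'-module, a finite graded
S-module whose degree-zero localization at f recovers it; that half is not part of this row. -/
theorem result (R R' : Type u) [CommRing R] [CommRing R'] [Algebra R R'] [Algebra.FiniteType R R'] :
    ∃ (S : Type u) (_ : CommRing S) (_ : Algebra R S) (𝒜 : ℕ → Submodule R S) (_ : GradedAlgebra 𝒜) (f : S) (_ : f ∈ 𝒜 1) (s : Finset S)
      (e : HomogeneousLocalization.Away 𝒜 f ≃+* R'),
      Function.Injective (algebraMap R S) ∧ (∀ x ∈ 𝒜 0, x ∈ Set.range (algebraMap R S)) ∧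
      (↑s ⊆ (𝒜 1 : Set S)) ∧ Algebra.adjoin R (s : Set S) = ⊤ ∧
      ∀ r : R, (e.symm (algebraMap R R' r)).val = algebraMap S (Localization.Away f) (algebraMap R S r) := by
  classical
  obtain ⟨G, hG⟩ := (inferInstance : Algebra.FiniteType R R').out
  let v : R' → (R × Polynomial R') := fun g => (0, Polynomial.monomial 1 g)
  let G' : Finset (R × Polynomial R') := insert (v 1) (G.image v)
  let S : Subalgebra R (R × Polynomial R') := Algebra.adjoin R (G' : Set (R × Polynomial R'))
  let f : S := ⟨v 1, Algebra.subset_adjoin (Finset.mem_insert_self _ _)⟩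
  let s : Finset S := G'.attach.image fun x => ⟨x.1, Algebra.subset_adjoin x.2⟩
  have hs : (s : Set S) = ((↑) : S → (R × Polynomial R')) ⁻¹' (G' : Set (R × Polynomial R')) := by
    ext ⟨x, hx⟩
    simp only [s, Finset.coe_image, Set.mem_image, Finset.mem_coe, Set.mem_preimage]
    constructor
    · rintro ⟨⟨y, hy⟩, -, e⟩
      cases e
      exact hy
    · intro h
      exact ⟨⟨x, h⟩, Finset.mem_attach _ _, rfl⟩
  have hstop : Algebra.adjoin R (s : Set S) = ⊤ := by
    rw [hs]; exact Algebra.adjoin_adjoin_coe_preimage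
  let M : Submodule R S := Submodule.span R (s : Set S)
  let 𝒜 : ℕ → Submodule R S := fun n => M ^ n
  let P : ℕ → S → Prop := fun n x =>
    (n ≠ 0 → (x : (R × Polynomial R')).1 = 0) ∧ ∃ a : R', (x : (R × Polynomial R')).2 = Polynomial.monomial n a
  have hP1 : ∀ x ∈ M, P 1 x := by
    intro x hx
    refine Submodule.span_induction ?_ ?_ ?_ ?_ hx
    · intro y hy
      rw [hs] at hy
      obtain h | h := Finset.mem_insert.1 (Finset.mem_coe.1 hy)
      · exact ⟨fun _ => by rw [h], 1, by rw [h]⟩
      · obtain ⟨g, -, h⟩ := Finset.mem_image.1 h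
        exact ⟨fun _ => by rw [← h], g, by rw [← h]⟩
    · exact ⟨fun _ => rfl, 0, by simp⟩
    · rintro y z _ _ ⟨hy, a, ha⟩ ⟨hz, b, hb⟩
      exact ⟨fun h => by simp [hy h, hz h], a + b, by rw [map_add, ← ha, ← hb]; rfl⟩
    · rintro r y _ ⟨hy, a, ha⟩
      exact ⟨fun h => by simp [hy h], r • a, by rw [← Polynomial.smul_monomial, ← ha]; rfl⟩
  have hP : ∀ (n : ℕ), ∀ x ∈ 𝒜 n, P n x := by
    intro n
    induction n with
    | zero =>
      intro x hx
      rw [show 𝒜 0 = 1 from pow_zero M, Submodule.mem_one] at hx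
      obtain ⟨r, rfl⟩ := hx
      exact ⟨fun h => absurd rfl h, algebraMap R R' r, rfl⟩
    | succ n ih =>
      intro x hx
      rw [show 𝒜 (n + 1) = 𝒜 n * M from pow_succ M n] at hx
      refine Submodule.mul_induction_on hx ?_ ?_
      · intro y hy z hz
        obtain ⟨hy1, a, ha⟩ := ih y hy
        obtain ⟨hz1, b, hb⟩ := hP1 z hz
        exact ⟨fun _ => by simp [hz1 one_ne_zero], a * b, by simp [ha, hb, Polynomial.monomial_mul_monomial]⟩
      · rintro y z ⟨hy, a, ha⟩ ⟨hz, b, hb⟩
        exact ⟨fun h => by simp [hy h, hz h], a + b, by simp [ha, hb]⟩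
  have hsup : (⨆ n, 𝒜 n) = ⊤ := by
    rw [eq_top_iff]
    intro x _
    have hx : x ∈ Algebra.adjoin R (s : Set S) := hstop ▸ trivial
    rw [← Subalgebra.mem_toSubmodule, Algebra.adjoin_eq_span] at hx
    refine Submodule.span_le.2 ?_ hx
    intro y hy
    suffices ∃ n, y ∈ 𝒜 n by
      obtain ⟨n, hn⟩ := this
      exact Submodule.mem_iSup_of_mem n hn
    refine Submonoid.closure_induction (fun z hz => ⟨1, ?_⟩) ⟨0, ?_⟩ ?_ hy
    · rw [show 𝒜 1 = M from pow_one M]; exact Submodule.subset_span hz
    · rw [show 𝒜 0 = 1 from pow_zero M]; exact Submodule.mem_one.2 ⟨1, map_one _⟩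
    · rintro a b _ _ ⟨m, hm⟩ ⟨n, hn⟩
      exact ⟨m + n, by rw [show 𝒜 (m + n) = 𝒜 m * 𝒜 n from pow_add M m n]; exact Submodule.mul_mem_mul hm hn⟩
  have hind : iSupIndep 𝒜 := by
    rw [iSupIndep_def]
    intro i
    rw [Submodule.disjoint_def]
    intro x hxi hx
    let N : Submodule R S :=
      { carrier := {y | (i = 0 → (y : (R × Polynomial R')).1 = 0) ∧ (y : (R × Polynomial R')).2.coeff i = 0}
        zero_mem' := ⟨fun _ => rfl, by simp⟩
        add_mem' := fun {a b} ha hb => ⟨fun h => by simp [ha.1 h, hb.1 h], by simp [ha.2, hb.2]⟩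
        smul_mem' := fun r a ha => ⟨fun h => by simp [ha.1 h], by simp [ha.2]⟩ }
    have hle : (⨆ (j) (_ : j ≠ i), 𝒜 j) ≤ N := by
      refine iSup₂_le fun j hj y hy => ?_
      obtain ⟨h1, a, h2⟩ := hP j y hy
      exact ⟨fun h => h1 (h ▸ hj), by rw [h2, Polynomial.coeff_monomial, if_neg hj]⟩
    obtain ⟨hN1, hN2⟩ := hle hx
    obtain ⟨h1, a, h2⟩ := hP i x hxi
    rw [h2, Polynomial.coeff_monomial, if_pos rfl] at hN2
    apply Subtype.ext
    refine Prod.ext ?_ (by rw [h2, hN2]; simp)
    by_cases h : i = 0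
    exacts [hN1 h, h1 h]
  letI : SetLike.GradedMonoid 𝒜 :=
    { one_mem := by rw [show 𝒜 0 = 1 from pow_zero M]; exact Submodule.mem_one.2 ⟨1, map_one _⟩
      mul_mem := fun m n a b ha hb => by
        rw [show 𝒜 (m + n) = 𝒜 m * 𝒜 n from pow_add M m n]; exact Submodule.mul_mem_mul ha hb }
  have hint : DirectSum.IsInternal 𝒜 :=
    (DirectSum.isInternal_submodule_iff_iSupIndep_and_iSup_eq_top 𝒜).2 ⟨hind, hsup⟩
  letI : GradedAlgebra 𝒜 := { hint.chooseDecomposition with }
  have hf : f ∈ 𝒜 1 := by
    rw [show 𝒜 1 = M from pow_one M]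
    apply Submodule.subset_span
    rw [hs]
    exact Finset.mem_insert_self _ _
  let ev : S →+* R' :=
    (Polynomial.evalRingHom 1).comp ((RingHom.snd R (Polynomial R')).comp S.val.toRingHom)
  have hevf : IsUnit (ev f) := by simp [ev, f, v]
  let φ : HomogeneousLocalization.Away 𝒜 f →+* R' :=
    (IsLocalization.Away.lift (S := Localization.Away f) f hevf).comp
      (algebraMap (HomogeneousLocalization.Away 𝒜 f) (Localization.Away f))
  have hφ : ∀ (n : ℕ) (x : S) (hx : x ∈ 𝒜 (n • 1)), φ (HomogeneousLocalization.Away.mk 𝒜 hf n x hx) = ev x := by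
    intro n x hx
    simp only [φ, RingHom.comp_apply, HomogeneousLocalization.algebraMap_apply, HomogeneousLocalization.Away.val_mk]
    rw [Localization.mk_eq_mk', IsLocalization.Away.lift, IsLocalization.lift_mk'_spec]
    simp [ev, f, v]
  have hinj : Function.Injective φ := by
    rw [injective_iff_map_eq_zero]
    intro z hz
    obtain ⟨n, x, hx, rfl⟩ := HomogeneousLocalization.Away.mk_surjective 𝒜 hf z
    rw [hφ] at hz
    obtain ⟨-, a, ha⟩ := hP _ x hx
    have ha0 : a = 0 := by simpa [ev, ha] using hz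
    apply HomogeneousLocalization.val_injective
    rw [HomogeneousLocalization.Away.val_mk, HomogeneousLocalization.val_zero, Localization.mk_eq_mk',
      IsLocalization.mk'_eq_zero_iff]
    refine ⟨⟨f, Submonoid.mem_powers f⟩, Subtype.ext ?_⟩
    apply Prod.ext <;> simp [f, v, ha, ha0]
  have hR : ∀ r : R, φ (HomogeneousLocalization.Away.mk 𝒜 hf 0 (algebraMap R S r)
      (by rw [zero_smul, show 𝒜 0 = 1 from pow_zero M]; exact Submodule.mem_one.2 ⟨r, rfl⟩)) = algebraMap R R' r := by
    intro r
    rw [hφ]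
    simp [ev]
  have hsurj : Function.Surjective φ := by
    intro y
    have hy : y ∈ Algebra.adjoin R (G : Set R') := hG ▸ trivial
    induction hy using Algebra.adjoin_induction with
    | mem g hg =>
      refine ⟨HomogeneousLocalization.Away.mk 𝒜 hf 1 ⟨v g, Algebra.subset_adjoin
        (Finset.mem_insert_of_mem (Finset.mem_image_of_mem v hg))⟩ ?_, ?_⟩
      · rw [one_smul, show 𝒜 1 = M from pow_one M]
        apply Submodule.subset_span
        rw [hs]
        exact Finset.mem_insert_of_mem (Finset.mem_image_of_mem v hg)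
      · rw [hφ]; simp [ev, v]
    | algebraMap r => exact ⟨_, hR r⟩
    | add a b _ _ ha hb =>
      obtain ⟨a', rfl⟩ := ha
      obtain ⟨b', rfl⟩ := hb
      exact ⟨a' + b', map_add φ a' b'⟩
    | mul a b _ _ ha hb =>
      obtain ⟨a', rfl⟩ := ha
      obtain ⟨b', rfl⟩ := hb
      exact ⟨a' * b', map_mul φ a' b'⟩
  refine ⟨S, inferInstance, inferInstance, 𝒜, inferInstance, f, hf, s, RingEquiv.ofBijective φ ⟨hinj, hsurj⟩, ?_, ?_, ?_, hstop, ?_⟩
  · exact fun a b h => congrArg (fun x : S => (x : (R × Polynomial R')).1) h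
  · intro x hx
    rw [show 𝒜 0 = 1 from pow_zero M, Submodule.mem_one] at hx
    exact hx
  · intro x hx
    rw [show 𝒜 1 = M from pow_one M]
    exact Submodule.subset_span hx
  · intro r
    rw [show (RingEquiv.ofBijective φ ⟨hinj, hsurj⟩).symm (algebraMap R R' r) = _ from
      (RingEquiv.symm_apply_eq _).2 (hR r).symm, HomogeneousLocalization.Away.val_mk,
      ← Localization.mk_one_eq_algebraMap]
    congr 1
    exact Subtype.ext (pow_zero f)

end Groth.Agent.S9671
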