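import Groth.Statements.S9682
import Mathlib
import Groth.Agent.PropsBasic2.SchTop

set_option autoImplicit false
universe u
open CategoryTheory CategoryTheory.Limits AlgebraicGeometry
open Mor

namespace Groth.Agent.S9682

set_option backward.isDefEq.respectTransparency.types false in
/-- If every point of the fibre over `η` is maximal, the fibre meets small affine opens in finite sets. -/
theorem finite_fibre_inter {X Y : Scheme.{u}} (f : X ⟶ Y) [LocallyOfFiniteType f] (η : Y)
    (h : ∀ x : X, f.base x = η → closure {x} ∈ irreducibleComponents ↥X) {U : X.Opens}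
    (hU : IsAffineOpen U) {V : Y.Opens} (hV : IsAffineOpen V) (hηV : η ∈ V) (hle : U ≤ f ⁻¹ᵁ V) :
    ((f ⁻¹' {η}) ∩ U).Finite := by
  have : IsAffine U := hU
  have : IsAffine V := hV
  let g := f.resLE V U hle
  have hg : ∀ u : U, (g u).1 = f u.1 := fun u => congr(($(f.resLE_comp_ι hle)).base u)
  let e := g.fiberHomeo ⟨η, hηV⟩
  have hmax : ∀ a b : (g.fiber ⟨η, hηV⟩ : Scheme), a ⤳ b → a = b := fun a b hab => by
    have h1 := ((hab.map e.continuous).map continuous_subtype_val).map continuous_subtype_val
    have h2 : f (e b).1.1 = η := (hg _).symm.trans (congrArg Subtype.val (e b).2)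
    exact e.injective (Subtype.ext (Subtype.ext
      ((Groth.PropsBasic2.closure_mem_irreducibleComponents_iff _).mp (h _ h2) _ h1)))
  have : LocallyOfFiniteType (g.fiberToSpecResidueField ⟨η, hηV⟩) :=
    MorphismProperty.pullback_snd _ _ inferInstance
  have : IsLocallyNoetherian (g.fiber ⟨η, hηV⟩) :=
    LocallyOfFiniteType.isLocallyNoetherian (g.fiberToSpecResidueField ⟨η, hηV⟩)
  have : IsNoetherian (g.fiber ⟨η, hηV⟩) := { }
  have hfin : (Set.univ : Set (g.fiber ⟨η, hηV⟩)).Finite := by
    refine Set.Finite.of_finite_image (f := fun o : (g.fiber ⟨η, hηV⟩) => closure {o})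
      ((TopologicalSpace.NoetherianSpace.finite_irreducibleComponents).subset ?_)
      fun a _ b _ hab => (inseparable_iff_closure_eq.mpr hab).eq
    rintro _ ⟨o, -, rfl⟩
    exact (Groth.PropsBasic2.closure_mem_irreducibleComponents_iff o).mpr fun z hz => hmax _ _ hz
  refine (hfin.image fun o => (e o).1.1).subset fun z hz => ?_
  refine ⟨e.symm ⟨⟨z, hz.2⟩, Subtype.ext ((hg _).trans hz.1)⟩, trivial, ?_⟩
  simp only [Homeomorph.apply_symm_apply]

/-- Take f : X ⟶ Y locally of finite type and η the generic point of some irreducible component of Y.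
Three conditions turn out to coincide: (1) each point of X mapping to η is the generic point of some
irreducible component of X; (2) f is quasi-finite at every point over η; (3) f is quasi-finite at
each point over η that is generic in some irreducible component of X. Stated as (1) iff (2) together
with (1) iff (3). -/
theorem result {X Y : Scheme.{u}} (f : X ⟶ Y)
    [LocallyOfFiniteType f] (η : Y) (hη : closure {η} ∈ irreducibleComponents ↥Y) :
    ((∀ x : X, f.base x = η → closure {x} ∈ irreducibleComponents ↥X) ↔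
      (∀ x : X, f.base x = η → f.QuasiFiniteAt x)) ∧
    ((∀ x : X, f.base x = η → closure {x} ∈ irreducibleComponents ↥X) ↔
      (∀ x : X, f.base x = η → closure {x} ∈ irreducibleComponents ↥X → f.QuasiFiniteAt x)) := by
  have key : (∀ x : X, f.base x = η → closure {x} ∈ irreducibleComponents ↥X) →
      ∀ x : X, f.base x = η → f.QuasiFiniteAt x := fun h x hx => by
    rw [Scheme.Hom.quasiFiniteAt_iff_isOpen_singleton_asFiber]
    obtain ⟨V, U, e, hxU, hxm, hfin⟩ : ∃ (V : Y.Opens) (U : X.Opens) (_ : U ≤ f ⁻¹ᵁ V),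
        x ∈ U ∧ η ∈ V ∧ ((f ⁻¹' {η}) ∩ U).Finite := by
      obtain ⟨_, ⟨V : Y.Opens, hV, rfl⟩, hηV, -⟩ :=
        Y.isBasis_affineOpens.exists_subset_of_mem_open (Set.mem_univ η) isOpen_univ
      obtain ⟨_, ⟨U : X.Opens, hU, rfl⟩, hxU, hUV⟩ := X.isBasis_affineOpens.exists_subset_of_mem_open
        (show x ∈ f ⁻¹ᵁ V by simpa [hx] using hηV) (f ⁻¹ᵁ V).2
      refine ⟨V, U, hUV, hxU, hηV, ?_⟩
      exact finite_fibre_inter f η h hU hV hηV hUV
    have := hfin.to_subtype
    have hcl : ∀ z ∈ (f ⁻¹' {η}) ∩ U, ¬ z ⤳ x ∨ z = x := fun z hz => by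
      by_cases hzx : z ⤳ x
      · exact Or.inr ((Groth.PropsBasic2.closure_mem_irreducibleComponents_iff x).mp (h x hx) z hzx)
      · exact Or.inl hzx
    -- remove the closures of the other points of the finite set
    let T : Set X := ⋃ z ∈ ((f ⁻¹' {η}) ∩ U) \ {x}, closure {z}
    have hT : IsClosed T := hfin.sdiff.isClosed_biUnion fun _ _ => isClosed_closure
    have hxT : x ∉ T := by
      simp only [T, Set.mem_iUnion, not_exists]
      intro z hz hmem
      exact hz.2 ((hcl z hz.1).resolve_left (not_not.mpr (specializes_iff_mem_closure.mpr hmem)))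
    rw [← (f.fiberHomeo (f x)).isOpen_image]
    simp only [Set.image_singleton, Scheme.Hom.asFiber, Homeomorph.apply_symm_apply]
    refine ⟨(U : Set X) ∩ Tᶜ, U.2.inter hT.isOpen_compl, ?_⟩
    ext ⟨z, hz⟩
    simp only [Set.mem_preimage, Set.mem_inter_iff, Set.mem_compl_iff, Set.mem_singleton_iff]
    rw [Subtype.ext_iff]
    refine ⟨fun hh => ?_, fun hh => by change z = x at hh; subst hh; exact ⟨hxU, hxT⟩⟩
    by_contra hne
    exact hh.2 (Set.mem_biUnion (show z ∈ ((f ⁻¹' {η}) ∩ U) \ {x} from
      ⟨⟨(show f z = f x from hz).trans hx, hh.1⟩, hne⟩) (subset_closure rfl))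
  have key' : (∀ x : X, f.base x = η → closure {x} ∈ irreducibleComponents ↥X → f.QuasiFiniteAt x) →
      ∀ x : X, f.base x = η → closure {x} ∈ irreducibleComponents ↥X := fun h x hx => by
    obtain ⟨z, hz, hzx⟩ := Groth.PropsBasic2.exists_genericPoint_specializes x
    have hfz : f z = η :=
      (Groth.PropsBasic2.closure_mem_irreducibleComponents_iff η).mp hη _ (hx ▸ hzx.map f.continuous)
    have hs : (⟨z, show z ∈ f ⁻¹' {f z} from rfl⟩ : f ⁻¹' {f z}) ⤳ ⟨x, by simpa [hfz] using hx⟩ :=
      (subtype_specializes_iff _ _).mpr hzx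
    have hc := ((h z hfz hz).isClopen_singleton_asFiber).1.preimage (f.fiberHomeo (f z)).symm.continuous
    have hxz := hs.mem_closed hc (by simp [Scheme.Hom.asFiber])
    have : (f.fiberHomeo (f z)).symm ⟨x, by simpa [hfz] using hx⟩ = f.asFiber z := hxz
    have := (f.fiberHomeo (f z)).symm.injective this
    have e : x = z := congrArg Subtype.val this
    rw [e]; exact hz
  exact ⟨⟨key, fun h => key' fun x hx _ => h x hx⟩, ⟨fun h x hx _ => key h x hx, key'⟩⟩

end Groth.Agent.S9682
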