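import Groth.Statements.S9685
import Groth.Agent.FibreDim.ComponentDim

set_option autoImplicit false
universe u
open CategoryTheory CategoryTheory.Limits AlgebraicGeometry
open Mor

namespace Groth.Agent.S9685

/-- Let X and Y be integral schemes with Y locally Noetherian and f : X ⟶ Y dominant and locally of
finite type. If n is the transcendence degree of the function field of X over the function field of
Y (computed on residue fields at the generic points), then dim X ≤ dim Y + n, and equality holds
when the underlying map of f is closed. -/
theorem result {X Y : Scheme.{u}} [IsIntegral X] [IsIntegral Y]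
    [IsLocallyNoetherian Y] (f : X ⟶ Y) [IsDominant f] [LocallyOfFiniteType f] (n : ℕ)
    (hn : letI := (f.residueFieldMap (genericPoint ↥X)).hom.toAlgebra
      Algebra.trdeg (Y.residueField (f.base (genericPoint ↥X))) (X.residueField (genericPoint ↥X)) = n) :
    topologicalKrullDim ↥X ≤ topologicalKrullDim ↥Y + n ∧
      (IsClosedMap f.base → topologicalKrullDim ↥X = topologicalKrullDim ↥Y + n) := by
  change Groth.Variety2.Dim.relTrdeg f (genericPoint X) = n at hn
  obtain ⟨m, hm, hmh⟩ := Groth.FibreDim.exists_relTrdeg_eq_height f (genericPoint X)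
  rw [hn, Nat.cast_inj] at hm
  subst hm
  have hle : topologicalKrullDim ↥X ≤ topologicalKrullDim ↥Y + n := by
    rw [Groth.FibreDim.dim_eq_iSup_stalk X]
    refine iSup_le fun x => ?_
    obtain ⟨t, t₀, -, -, ht₀, -, h, -⟩ := Groth.FibreDim.exists_dim_formula f x
    rw [hn, Nat.cast_inj] at ht₀
    subst ht₀
    exact (le_add_of_nonneg_right (by exact_mod_cast Nat.zero_le t)).trans (h.trans (add_le_add
      ((Groth.FibreDim.dim_eq_iSup_stalk Y).symm ▸ le_iSup (fun y : Y => ringKrullDim (Y.presheaf.stalk y)) _)
      le_rfl))
  refine ⟨hle, fun hc => le_antisymm hle ?_⟩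
  have hξ : f.base (genericPoint X) = genericPoint Y := by
    have h1 : IsGenericPoint (f.base (genericPoint X)) (closure (f.base '' Set.univ)) :=
      (genericPoint_spec X).image f.continuous
    rw [Set.image_univ, f.denseRange.closure_range] at h1
    exact h1.eq (genericPoint_spec Y)
  exact Groth.FibreDim.dim_add_le_of_isClosedMap f hc hξ n hmh.ge

end Groth.Agent.S9685
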