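import Groth.Statements.S9689
import Mathlib
import Groth.Agent.VarietyBC.BranchPoints
import Groth.Agent.HTopHyper.UnivHomeo

set_option autoImplicit false
universe u
open CategoryTheory CategoryTheory.Limits AlgebraicGeometry
open Mor

namespace Groth.Agent.S9689

set_option backward.isDefEq.respectTransparency.types false

open Groth.VarietyBC.BranchPoints in
theorem subsingleton_maximal_and_embC (A K : Type u) [CommRing A] [IsLocalRing A] [IsDomain A] [Field K]
    [Algebra A K] [IsFractionRing A K] (hA : CAlg2.IsGeomUnibranch A) :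
    Subsingleton (MaximalSpectrum (integralClosure A K)) ∧
      ∀ M, Subsingleton (EmbC A K M) := by
  obtain ⟨⟨-, hloc⟩, hrad⟩ := hA
  obtain ⟨e, he⟩ := exists_normRedEquiv A K
  have : IsLocalRing (integralClosure A K) := e.isLocalRing
  refine ⟨⟨fun M N => MaximalSpectrum.ext ((IsLocalRing.eq_maximalIdeal M.isMaximal).trans
    (IsLocalRing.eq_maximalIdeal N.isMaximal).symm)⟩, fun M => ⟨fun σ τ => Subtype.ext ?_⟩⟩
  let m' : Ideal (CAlg2.normRed A) := M.asIdeal.comap e.toRingHom
  have : m'.IsMaximal := Ideal.comap_isMaximal_of_surjective e.toRingHom e.surjective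
  let _ : Field (CAlg2.normRed A ⧸ m') := Ideal.Quotient.field m'
  let q := ringExpChar (CAlg2.normRed A ⧸ m')
  let j : CAlg2.normRed A ⧸ m' →+* integralClosure A K ⧸ M.asIdeal :=
    Ideal.quotientMap M.asIdeal e.toRingHom le_rfl
  have : ExpChar (AlgebraicClosure (IsLocalRing.ResidueField A)) q :=
    expChar_of_injective_ringHom (σ.1.comp j).injective q
  apply Ideal.Quotient.ringHom_ext
  refine RingHom.ext fun c => ?_
  simp only [RingHom.comp_apply]
  obtain ⟨n, a, ha⟩ := hrad m' (Ideal.Quotient.mk m' (e.symm c))
  have h2 : Ideal.Quotient.mk M.asIdeal c ^ q ^ n =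
      Ideal.Quotient.mk M.asIdeal (algebraMap A (integralClosure A K) a) := by
    have h1 := congrArg j ha
    rw [map_pow] at h1
    simp only [RingHom.comp_apply, j, Ideal.quotientMap_mk, RingEquiv.toRingHom_eq_coe,
      RingHom.coe_coe, RingEquiv.apply_symm_apply, he] at h1
    exact h1.symm
  have hσ := congr($(σ.2) a)
  have hτ := congr($(τ.2) a)
  simp only [RingHom.comp_apply] at hσ hτ
  refine iterateFrobenius_inj _ q n ?_
  simp only [iterateFrobenius_def, ← map_pow, h2]
  exact hσ.trans hτ.symm

open Groth.VarietyBC.BranchPoints in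
theorem fibres (X : Scheme.{u}) [IsIntegral X] [QuasiCompact (X.fromSpecStalk (genericPoint ↥X))]
    [QuasiSeparated (X.fromSpecStalk (genericPoint ↥X))]
    (hX : ∀ x : X, CAlg2.IsGeomUnibranch (X.presheaf.stalk x)) (x : X) :
    (∃ x', (Curv2.normalizationι X).base x' = x) ∧
    (∀ x' x'', (Curv2.normalizationι X).base x' = x → (Curv2.normalizationι X).base x'' = x → x' = x'') ∧
    ∀ x', (Curv2.normalizationι X).base x' = x →
      ((Curv2.normalizationι X).residueFieldMap x').hom.IsPurelyInseparable := by
  obtain ⟨Φ, hΦ⟩ := exists_fibre_equiv X x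
  obtain ⟨hs, hE⟩ := subsingleton_maximal_and_embC (X.presheaf.stalk x) X.functionField (hX x)
  obtain ⟨M, hM⟩ := Ideal.exists_maximal (integralClosure (X.presheaf.stalk x) X.functionField)
  refine ⟨⟨_, (Φ.symm ⟨M, hM⟩).2⟩, fun a b ha hb => ?_, fun a ha => ?_⟩
  · exact congrArg Subtype.val (Φ.injective (hs.elim (Φ ⟨a, ha⟩) (Φ ⟨b, hb⟩)))
  · obtain ⟨E⟩ := hΦ ⟨a, ha⟩
    have := hE (Φ ⟨a, ha⟩)
    algebraize [((Curv2.normalizationι X).residueFieldMap a).hom]
    rw [RingHom.IsPurelyInseparable, isPurelyInseparable_iff_subsingleton_emb]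
    exact E.symm.subsingleton

/-- For an integral scheme X: if every local ring of X is geometrically unibranch, then the
normalization morphism X^ν ⟶ X is a universal homeomorphism. (The published statement assumes only X
irreducible; this row takes X integral, which loses nothing since the normalization of X equals that
of its reduction.) (The quasi-compactness and quasi-separatedness binders on Spec K(X) ⟶ X always
hold; they are only needed to form the normalization.) -/
theorem result (X : Scheme.{u}) [IsIntegral X] [QuasiCompact (X.fromSpecStalk (genericPoint ↥X))] [QuasiSeparated (X.fromSpecStalk (genericPoint ↥X))]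
    (hX : ∀ x : X, CAlg2.IsGeomUnibranch (X.presheaf.stalk x)) :
    FlatMor.IsUnivHomeo (Curv2.normalizationι X) := by
  have : IsIntegralHom (Curv2.normalizationι X) :=
    inferInstanceAs (IsIntegralHom (X.fromSpecStalk (genericPoint ↥X)).fromNormalization)
  have : Surjective (Curv2.normalizationι X) := ⟨fun x => (fibres X hX x).1⟩
  have hui := (tfae_universallyInjective (Curv2.normalizationι X)).out 0 2
  have : UniversallyInjective (Curv2.normalizationι X) :=
    hui.mpr
      ⟨fun a b hab => (fibres X hX _).2.1 a b hab rfl, fun a => (fibres X hX _).2.2 a rfl⟩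
  exact Groth.HTopHyper.isUnivHomeo_of_closed (Curv2.normalizationι X)

end Groth.Agent.S9689
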