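import Groth.Statements.S9694
import Mathlib
import Groth.Agent.PropsBasic.AmpleUnivClosed
import Groth.Agent.PropsBasic.AmpleBasis

set_option autoImplicit false
universe u
open CategoryTheory CategoryTheory.Limits AlgebraicGeometry
open Mor

namespace Groth.Agent.S9694

set_option backward.isDefEq.respectTransparency.types false

open Groth.PicAux Groth.PropsBasic.Ample in
theorem isAmple_of_iso {Y : Scheme.{u}} {L M : Y.Modules} (e : L ≅ M) (h : CohB1.IsAmple L) :
    CohB1.IsAmple M := by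
  obtain ⟨hL, hc, hcov⟩ := h
  refine ⟨isInvertible_of_iso hL e, hc, fun x => ?_⟩
  obtain ⟨n, s, hx, hs⟩ := hcov x
  obtain ⟨φ⟩ := nonempty_tensorPow_iso e (n + 1)
  have h1 : gloc (φ.hom.app ⊤ (gsec s)) = CohB1.genLocus _ s :=
    (gloc_map φ.hom _).trans (genLocus_eq_gloc s).symm
  exact ⟨n, homOfSection (φ.hom.app ⊤ (gsec s)), h1.ge hx, (congrArg IsAffineOpen h1).mpr hs⟩

open Groth.PicAux in
theorem exists_gen_of_restrict {X : Scheme.{u}} {L : X.Modules} (W : X.Opens)
    (h : PicF.IsInvertible (L.restrict W.ι)) (x : X) (hx : x ∈ W) :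
    ∃ (U : X.Opens) (e : Γ(L, U)), x ∈ U ∧ Gen L U e := by
  obtain ⟨U, e, hxU, he⟩ := (isInvertible_iff_exists_gen _).1 h ⟨x, hx⟩
  refine ⟨W.ι ''ᵁ U, (e : Γ(L, W.ι ''ᵁ U)), ⟨⟨x, hx⟩, hxU, rfl⟩, fun V hV => ?_⟩
  obtain ⟨V', rfl⟩ : ∃ V' : W.toScheme.Opens, W.ι ''ᵁ V' = V :=
    ⟨W.ι ⁻¹ᵁ V, by
      rw [Scheme.Hom.image_preimage_eq_opensRange_inf, Scheme.Opens.opensRange_ι]
      exact inf_eq_right.2 (hV.trans (W.ι_image_le U))⟩
  have hV' : V' ≤ U := by
    intro y hy
    obtain ⟨z, hz, hzy⟩ := hV ⟨y, hy, rfl⟩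
    exact W.ι.isOpenEmbedding.injective hzy ▸ hz
  have hb := he V' hV'
  have e1 : (fun r : Γ(X, W.ι ''ᵁ V') => r • Groth.PicAux.res L hV (e : Γ(L, W.ι ''ᵁ U))) =
      fun r : Γ(W.toScheme, V') => r • Groth.PicAux.res (L.restrict W.ι) hV' e :=
    funext fun r => (restrict_smul W V' r _).symm
  exact (congrArg Function.Bijective e1).mpr hb

/-- Let f : X ⟶ S be universally closed, L an O_X-module ample relative to f and s a global section of
L, viewed as a morphism O_X ⟶ L. Then the open subscheme X_s of X where s generates L is affine over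
S: the inclusion of X_s followed by f is an affine morphism. -/
theorem result {X S : Scheme.{u}} (f : X ⟶ S) [UniversallyClosed f]
    (L : X.Modules) (hL : RelAmple.IsRelAmple f L) (s : Coh.structureModule X ⟶ L) :
    IsAffineHom ((CohB1.genLocus L s).ι ≫ f) := by
  open Groth.PicAux Groth.PropsBasic.Ample in
  obtain ⟨-, hA⟩ := hL
  refine ⟨fun W hW => ?_⟩
  open Groth.PicAux Groth.PropsBasic.Ample in
  let W' : X.Opens := f ⁻¹ᵁ W
  open Groth.PicAux Groth.PropsBasic.Ample in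
  have hM : CohB1.IsAmple ((Scheme.Modules.pullback W'.ι).obj L) :=
    isAmple_of_iso ((Scheme.Modules.restrictFunctorIsoPullback W'.ι).app L) (hA ⟨W, hW⟩)
  have : IsAffine W.toScheme := hW
  have : UniversallyClosed (f ∣_ W) := IsZariskiLocalAtTarget.restrict (P := @UniversallyClosed) inferInstance W
  open Groth.PicAux Groth.PropsBasic.Ample in
  have h := isAffineOpen_gloc_of_universallyClosed (f ∣_ W) hM (pullSec W'.ι L (gsec s))
  open Groth.PicAux Groth.PropsBasic.Ample in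
  rw [← W'.ι.isAffineOpen_iff_of_isOpenImmersion] at h
  rw [← (CohB1.genLocus L s).ι.isAffineOpen_iff_of_isOpenImmersion, Scheme.Hom.comp_preimage,
    Scheme.Hom.image_preimage_eq_opensRange_inf, Scheme.Opens.opensRange_ι]
  have hXinv : PicF.IsInvertible L := by
    rw [Groth.PicAux.isInvertible_iff_exists_gen]
    intro x
    obtain ⟨V, hV, hxV, -⟩ := exists_isAffineOpen_mem_and_subset
      (x := f x) (U := (⊤ : S.Opens)) trivial
    exact exists_gen_of_restrict (f ⁻¹ᵁ V) (hA ⟨V, hV⟩).1 x hxV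
  open Groth.PicAux Groth.PropsBasic.Ample in
  have h2 : gloc (X := W'.toScheme) (L := (Scheme.Modules.pullback W'.ι).obj L)
      (pullSec W'.ι L (gsec s)) = W'.ι ⁻¹ᵁ CohB1.genLocus L s := by
    rw [gloc_pullSec W'.ι hXinv, ← genLocus_eq_gloc]
  rw [show (CohB1.genLocus L s ⊓ f ⁻¹ᵁ W) = W' ⊓ CohB1.genLocus L s from inf_comm _ _]
  rw [h2, Scheme.Hom.image_preimage_eq_opensRange_inf, Scheme.Opens.opensRange_ι] at h
  exact h

end Groth.Agent.S9694
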