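import Groth.Statements.S9695
import Groth.Agent.Chow.VeryAmplePn
import Groth.Agent.Ega2Proj.RelAmple

set_option autoImplicit false
universe u
open CategoryTheory CategoryTheory.Limits AlgebraicGeometry
open Mor

namespace Groth.Agent.S9695

set_option backward.isDefEq.respectTransparency.types false

/-- Suppose f : X ⟶ S is a morphism of finite type and L is an invertible O_X-module. Then L is
f-relatively ample exactly when S can be covered by open subsets V with the following property: for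
every such V there is an integer d ≥ 1 for which the tensor power L^{⊗d}, restricted to f⁻¹(V), is
isomorphic to the pullback of O(1) under some V-immersion of f⁻¹(V) into a projective space P^n_V. -/
theorem result {X S : Scheme.{u}} (f : X ⟶ S)
    [LocallyOfFiniteType f] [QuasiCompact f] (L : X.Modules) (hLinv : PicF.IsInvertible L) :
    RelAmple.IsRelAmple f L ↔
      ∃ (ι : Type u) (V : ι → S.Opens), (⨆ j, V j) = ⊤ ∧
        ∀ j, ∃ d : ℕ, 0 < d ∧
          RelAmple.IsRelVeryAmplePn (f ∣_ V j) ((CohB1.tensorPow L d).restrict (f ⁻¹ᵁ V j).ι) := by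
  have hinv : ∀ O : X.Opens, PicF.IsInvertible (L.restrict O.ι) := fun O =>
    Groth.Ega2Proj.isInvertible_restrict O.ι hLinv
  constructor
  · intro hA
    refine ⟨S.affineOpens, fun V => V.1, iSup_affineOpens_eq_top S, fun V => ?_⟩
    haveI : IsAffine (V.1 : Scheme.{u}) := V.2
    haveI : QuasiCompact (f ∣_ V.1) := MorphismProperty.of_isPullback
      (isPullback_morphismRestrict f V.1).flip inferInstance
    haveI : LocallyOfFiniteType (f ∣_ V.1) := MorphismProperty.of_isPullback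
      (isPullback_morphismRestrict f V.1).flip inferInstance
    obtain ⟨n₀, hn₀⟩ := Groth.Chow.exists_isRelVeryAmplePn (f ∣_ V.1) (hA.2 V)
    obtain ⟨ψ⟩ := Groth.Ega2Proj.exists_tensorPow_restrict (L := L) (f ⁻¹ᵁ V.1).ι (n₀ + 1)
    obtain ⟨m, i, hi, hi2, ⟨e⟩⟩ := hn₀ (n₀ + 1) (Nat.le_succ _)
    exact ⟨n₀ + 1, Nat.succ_pos _, m, i, hi, hi2, ⟨ψ ≪≫ e⟩⟩
  · rintro ⟨κ, V, hV, h⟩
    refine Groth.Ega2Proj.isRelAmple_of_local f fun x => ?_
    obtain ⟨k, hk⟩ := TopologicalSpace.Opens.mem_iSup.1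
      (hV.ge (Set.mem_univ (f x)) : f x ∈ ⨆ j, V j)
    obtain ⟨W, hW, hxW, hWV⟩ := exists_isAffineOpen_mem_and_subset (x := f x) (U := V k) hk
    haveI : IsAffine (W : Scheme.{u}) := hW
    replace hWV : W ≤ V k := hWV
    obtain ⟨d, hd, m, i, hi, hi2, ⟨e⟩⟩ := h k
    refine ⟨W, (f ⁻¹ᵁ W : X.Opens), (f ⁻¹ᵁ W).ι, inferInstance, hxW, by simp, ?_⟩
    refine Groth.Chow.isAmple_of_tensorPow (hinv _) hd ?_
    obtain ⟨ψ⟩ := Groth.Ega2Proj.exists_tensorPow_restrict (L := L) (f ⁻¹ᵁ W).ι d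
    refine Groth.Chow.isAmple_of_iso ψ ?_
    let r : (f ⁻¹ᵁ W : X.Opens).toScheme ⟶ (f ⁻¹ᵁ V k : X.Opens).toScheme :=
      X.homOfLE (f.preimage_mono hWV)
    let g : CohB1.ProjSpaceOver m W ⟶ CohB1.ProjSpaceOver m (V k) :=
      Limits.pullback.lift (Groth.Chow.PEmb.prZ m W)
        (CohB1.ProjSpaceOver.toBase m W ≫ S.homOfLE hWV) (specULiftZIsTerminal.hom_ext _ _)
    let i' : (f ⁻¹ᵁ W : X.Opens).toScheme ⟶ CohB1.ProjSpaceOver m W :=
      Limits.pullback.lift (r ≫ i ≫ Groth.Chow.PEmb.prZ m (V k)) (f ∣_ W)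
        (specULiftZIsTerminal.hom_ext _ _)
    have hi'g : i' ≫ g = r ≫ i := by
      have eg1 : g ≫ Groth.Chow.PEmb.prZ m (V k) = Groth.Chow.PEmb.prZ m W :=
        Limits.pullback.lift_fst _ _ _
      have eg2 : g ≫ CohB1.ProjSpaceOver.toBase m (V k) =
          CohB1.ProjSpaceOver.toBase m W ≫ S.homOfLE hWV := Limits.pullback.lift_snd _ _ _
      have ei1 : i' ≫ Groth.Chow.PEmb.prZ m W = r ≫ i ≫ Groth.Chow.PEmb.prZ m (V k) :=
        Limits.pullback.lift_fst _ _ _
      have ei2 : i' ≫ CohB1.ProjSpaceOver.toBase m W = f ∣_ W := Limits.pullback.lift_snd _ _ _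
      have hi2' : i ≫ CohB1.ProjSpaceOver.toBase m (V k) = f ∣_ V k := hi2
      refine Limits.pullback.hom_ext ?_ ?_
      · change (i' ≫ g) ≫ Groth.Chow.PEmb.prZ m (V k) = (r ≫ i) ≫ Groth.Chow.PEmb.prZ m (V k)
        rw [Category.assoc, eg1, ei1, Category.assoc]
      · change (i' ≫ g) ≫ CohB1.ProjSpaceOver.toBase m (V k) =
          (r ≫ i) ≫ CohB1.ProjSpaceOver.toBase m (V k)
        rw [Category.assoc, eg2, reassoc_of% ei2, Category.assoc, hi2', ← cancel_mono (V k).ι]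
        simp [r]
    haveI : IsImmersion (i' ≫ g) := by rw [hi'g]; infer_instance
    haveI : IsImmersion i' := IsImmersion.of_comp i' g
    haveI : QuasiCompact (f ∣_ W) := MorphismProperty.of_isPullback
      (isPullback_morphismRestrict f W).flip inferInstance
    have hr : r ≫ (f ⁻¹ᵁ V k).ι = (f ⁻¹ᵁ W).ι := X.homOfLE_ι _
    have hi'1 : i' ≫ Groth.Chow.PEmb.prZ m W = r ≫ i ≫ Groth.Chow.PEmb.prZ m (V k) :=
      Limits.pullback.lift_fst _ _ _
    let T := Twist.twist (CohB1.polyGrading m (ULift.{u} ℤ)) (1 : ℤ)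
    refine Groth.Chow.isAmple_of_immersion (f ∣_ W) _ m i' ?_
    let M := CohB1.tensorPow L d
    exact Groth.Ega2Proj.restrictIsoPullback (f ⁻¹ᵁ W).ι M ≪≫
      ((Scheme.Modules.pullbackCongr hr).app M).symm ≪≫
      ((Scheme.Modules.pullbackComp r (f ⁻¹ᵁ V k).ι).app M).symm ≪≫
      (Scheme.Modules.pullback r).mapIso
        ((Groth.Ega2Proj.restrictIsoPullback (f ⁻¹ᵁ V k).ι M).symm ≪≫ e) ≪≫
      (Scheme.Modules.pullback r).mapIso
        ((Scheme.Modules.pullbackComp i (Groth.Chow.PEmb.prZ m (V k))).app T) ≪≫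
      (Scheme.Modules.pullbackComp r (i ≫ Groth.Chow.PEmb.prZ m (V k))).app T ≪≫
      (Scheme.Modules.pullbackCongr hi'1.symm).app T ≪≫
      ((Scheme.Modules.pullbackComp i' (Groth.Chow.PEmb.prZ m W)).app T).symm

end Groth.Agent.S9695
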