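import Groth.Statements.S9698
import Mathlib
import Groth.Agent.PropsBasic2.Spread2

set_option autoImplicit false
universe u
open CategoryTheory CategoryTheory.Limits AlgebraicGeometry
open Mor

namespace Groth.Agent.S9698

set_option backward.isDefEq.respectTransparency.types false

/-- Let π : X ⟶ S be locally of finite type with X quasi-affine. Then there exist n ≥ 0 and an immersion
i : X ⟶ A^n_S over S (affine n-space on the index type Fin n, lifted to the ambient universe). -/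
theorem result {X S : Scheme.{u}} (π : X ⟶ S)
    [LocallyOfFiniteType π] [X.IsQuasiAffine] :
    ∃ (n : ℕ) (i : X ⟶ 𝔸(ULift.{u} (Fin n); S)), IsImmersion i ∧ i ≫ (𝔸(ULift.{u} (Fin n); S) ↘ S) = π := by
  classical
  have hcov : ∀ x : X, ∃ (V : S.Opens) (a : Γ(X, ⊤)), IsAffineOpen V ∧ IsAffineOpen (X.basicOpen a) ∧
      x ∈ X.basicOpen a ∧ X.basicOpen a ≤ π ⁻¹ᵁ V := fun x => by
    obtain ⟨_, ⟨V : S.Opens, hV, rfl⟩, hxV, -⟩ :=
      S.isBasis_affineOpens.exists_subset_of_mem_open (Set.mem_univ (π x)) isOpen_univ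
    obtain ⟨_, ⟨_, ⟨a, ha, rfl⟩, rfl⟩, hxa, haV⟩ :=
      (Scheme.IsQuasiAffine.isBasis_basicOpen X).exists_subset_of_mem_open
        (show x ∈ π ⁻¹ᵁ V from hxV) (π ⁻¹ᵁ V).2
    exact ⟨V, a, hV, ha, hxa, haV⟩
  choose V a hV ha hxa haV using hcov
  obtain ⟨t, ht⟩ := isCompact_univ.elim_finite_subcover (fun x => (X.basicOpen (a x) : Set X))
    (fun x => (X.basicOpen (a x)).2) fun x _ => Set.mem_iUnion.mpr ⟨x, hxa x⟩
  -- generators of the rings of the affine pieces
  have hqs : IsQuasiSeparated ((⊤ : X.Opens) : Set X) := by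
    have : X.IsSeparated := ⟨by
      rw [show Limits.terminal.from X = X.toSpecΓ ≫ Limits.terminal.from _ from Subsingleton.elim _ _]
      infer_instance⟩
    exact isQuasiSeparated_univ
  have hgen : ∀ x : X, ∃ T : Finset Γ(X, ⊤), Subring.closure
      (Set.range (π.appLE (V x) (X.basicOpen (a x)) (haV x)) ∪
        (X.presheaf.map (homOfLE (le_top : X.basicOpen (a x) ≤ ⊤)).op) '' (T : Set Γ(X, ⊤)) ∪
        {w | w * X.presheaf.map (homOfLE (le_top : X.basicOpen (a x) ≤ ⊤)).op (a x) = 1}) = ⊤ :=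
      fun x => by
    let φ := π.appLE (V x) (X.basicOpen (a x)) (haV x)
    let := φ.hom.toAlgebra
    obtain ⟨G, hG⟩ := π.finiteType_appLE (hV x) (ha x) (haV x)
    let ρ := X.presheaf.map (homOfLE (le_top : X.basicOpen (a x) ≤ ⊤)).op
    let := ρ.hom.toAlgebra
    have hloc : IsLocalization.Away (a x) Γ(X, X.basicOpen (a x)) :=
      isLocalization_basicOpen_of_qcqs isCompact_univ hqs (a x)
    choose n b hb using fun g : Γ(X, X.basicOpen (a x)) => IsLocalization.Away.surj (a x) g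
    refine ⟨G.image b, top_le_iff.mp fun z hz0 => ?_⟩
    clear hz0
    have hz : z ∈ Algebra.adjoin Γ(S, V x) (G : Set Γ(X, X.basicOpen (a x))) := by
      rw [hG]; trivial
    obtain ⟨w, hw⟩ := isUnit_iff_exists_inv'.mp
      (IsLocalization.Away.algebraMap_isUnit (S := Γ(X, X.basicOpen (a x))) (a x))
    induction hz using Algebra.adjoin_induction with
    | mem g hg =>
      have hbg : ρ (b g) ∈ ρ '' ((G.image b : Finset _) : Set Γ(X, ⊤)) :=
        ⟨b g, by simpa using ⟨g, hg, rfl⟩, rfl⟩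
      have : g = ρ (b g) * w ^ n g := by
        have h1 : g * algebraMap Γ(X, ⊤) _ (a x) ^ n g = ρ (b g) := hb g
        rw [← h1, mul_assoc, ← mul_pow, mul_comm (algebraMap _ _ _) w, hw, one_pow, mul_one]
      rw [this]
      refine mul_mem ?_ (pow_mem ?_ _)
      · exact Subring.subset_closure (Or.inl (Or.inr hbg))
      · exact Subring.subset_closure
          (Or.inr (show w ∈ {w : Γ(X, X.basicOpen (a x)) | w * ρ (a x) = 1} from hw))
    | algebraMap r => exact Subring.subset_closure (Or.inl (Or.inl ⟨r, rfl⟩))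
    | add _ _ _ _ h1 h2 => exact add_mem h1 h2
    | mul _ _ _ _ h1 h2 => exact mul_mem h1 h2
  choose T hT using hgen
  let N : Finset Γ(X, ⊤) := t.image a ∪ t.biUnion T
  obtain ⟨m, ⟨e⟩⟩ := Finite.exists_equiv_fin N
  let v : ULift.{u} (Fin m) → Γ(X, ⊤) := fun k => (e.symm k.down).1
  let i := AffineSpace.homOfVector π v
  refine ⟨m, i, ?_, AffineSpace.homOfVector_over π v⟩
  let str := 𝔸(ULift.{u} (Fin m); S) ↘ S
  let co : ∀ g ∈ N, Γ(𝔸(ULift.{u} (Fin m); S), ⊤) := fun g hg =>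
    AffineSpace.coord S (ULift.up (e ⟨g, hg⟩))
  have hco : ∀ (g) (hg : g ∈ N), i.appTop (co g hg) = g := fun g hg => by
    simp only [i, co, AffineSpace.homOfVector_appTop_coord, v, Equiv.symm_apply_apply]
  have haN : ∀ x : t, a x.1 ∈ N := fun x => Finset.mem_union_left _ (Finset.mem_image_of_mem _ x.2)
  let W : t → 𝔸(ULift.{u} (Fin m); S).Opens := fun x =>
    str ⁻¹ᵁ V x.1 ⊓ 𝔸(ULift.{u} (Fin m); S).basicOpen (co _ (haN x))
  have hWaff : ∀ x, IsAffineOpen (W x) := fun x => by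
    have h := ((hV x.1).preimage str).basicOpen
      (𝔸(ULift.{u} (Fin m); S).presheaf.map (homOfLE (le_top : str ⁻¹ᵁ V x.1 ≤ ⊤)).op (co _ (haN x)))
    rwa [Scheme.basicOpen_res] at h
  have hpre : ∀ x : t, i ⁻¹ᵁ W x = X.basicOpen (a x.1) := fun x => by
    rw [show i ⁻¹ᵁ W x = i ⁻¹ᵁ (str ⁻¹ᵁ V x.1) ⊓
        i ⁻¹ᵁ 𝔸(ULift.{u} (Fin m); S).basicOpen (co _ (haN x)) from rfl,
      Scheme.preimage_basicOpen_top, hco, ← Scheme.Hom.comp_preimage,
      AffineSpace.homOfVector_over, inf_eq_right.mpr (haV x.1)]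
  have hcl : ∀ x : t, IsClosedImmersion (i ∣_ W x) := fun x => by
    rw [← Scheme.Hom.resLE_eq_morphismRestrict]
    refine Groth.PropsBasic2.Spread.isClosedImmersion_resLE i (hWaff x)
      (by rw [hpre]; exact ha x.1) _ ?_
    intro z
    suffices h : ∀ (U : X.Opens) (hU : U = X.basicOpen (a x.1)) (le : U ≤ i ⁻¹ᵁ W x) (z : Γ(X, U)),
        z ∈ (i.appLE (W x) U le).hom.range from h _ (hpre x) le_rfl z
    rintro _ rfl le z
    have hz : z ∈ (⊤ : Subring _) := trivial
    rw [← hT x.1] at hz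
    have hres : ∀ g (hg : g ∈ N), i.appLE (W x) (X.basicOpen (a x.1)) le
        (𝔸(ULift.{u} (Fin m); S).presheaf.map (homOfLE (le_top : W x ≤ ⊤)).op (co g hg)) =
        X.presheaf.map (homOfLE (le_top : X.basicOpen (a x.1) ≤ ⊤)).op g := fun g hg => by
      rw [← CommRingCat.comp_apply, Scheme.Hom.map_appLE]
      exact congrArg (X.presheaf.map (homOfLE (le_top : X.basicOpen (a x.1) ≤ ⊤)).op) (hco g hg)
    refine Subring.closure_le.mpr ?_ hz
    rintro z ((⟨r, rfl⟩ | ⟨g, hg, rfl⟩) | hw)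
    · refine ⟨str.appLE (V x.1) (W x) inf_le_left r, ?_⟩
      show i.appLE (W x) _ le (str.appLE (V x.1) (W x) inf_le_left r) = _
      rw [← CommRingCat.comp_apply, Scheme.Hom.appLE_comp_appLE]
      congr 2
      simp [i, str]
    · exact ⟨_, hres g (Finset.mem_union_right _ (Finset.mem_biUnion.mpr ⟨x.1, x.2, hg⟩))⟩
    · have hu : IsUnit (𝔸(ULift.{u} (Fin m); S).presheaf.map (homOfLE (le_top : W x ≤ ⊤)).op
          (co _ (haN x))) := by
        apply RingedSpace.isUnit_of_isUnit_germ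
        intro p hp
        rw [TopCat.Presheaf.germ_res_apply]
        exact (Scheme.mem_basicOpen_top _ _ _).mp hp.2
      refine ⟨((hu.unit⁻¹ : _ˣ) : _), ?_⟩
      have h1 := congrArg (i.appLE (W x) (X.basicOpen (a x.1)) le) hu.val_inv_mul
      rw [map_mul, map_one, hres] at h1
      have h2 : z * X.presheaf.map (homOfLE (le_top : X.basicOpen (a x.1) ≤ ⊤)).op (a x.1) = 1 := hw
      calc i.appLE (W x) (X.basicOpen (a x.1)) le ((hu.unit⁻¹ : _ˣ) : _)
          = i.appLE (W x) (X.basicOpen (a x.1)) le ((hu.unit⁻¹ : _ˣ) : _) *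
            (z * X.presheaf.map (homOfLE (le_top : X.basicOpen (a x.1) ≤ ⊤)).op (a x.1)) := by
              rw [h2, mul_one]
        _ = z := by rw [mul_left_comm, h1, mul_one]
  have : IsClosedImmersion (i ∣_ (⨆ x, W x)) := by
    refine IsZariskiLocalAtTarget.of_iSup_eq_top (P := @IsClosedImmersion)
      (fun x => (⨆ x, W x).ι ⁻¹ᵁ W x) ?_ fun x => ?_
    · rw [← Scheme.Hom.preimage_iSup]; exact top_le_iff.mp fun p _ => p.2
    · refine (MorphismProperty.arrow_mk_iso_iff @IsClosedImmersion (morphismRestrictRestrict i _ _)).mpr ?_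
      rw [Scheme.Hom.image_preimage_eq_opensRange_inf, Scheme.Opens.opensRange_ι,
        inf_eq_right.mpr (le_iSup W x)]
      exact hcl x
  have htop : i ⁻¹ᵁ (⨆ x, W x) = ⊤ := top_le_iff.mp fun p _ => by
    obtain ⟨x, hx⟩ := Set.mem_iUnion₂.mp (ht (Set.mem_univ p)) |> fun ⟨x, hxt, hp⟩ =>
      (⟨⟨x, hxt⟩, hp⟩ : ∃ x : t, p ∈ X.basicOpen (a x.1))
    rw [← hpre x] at hx
    exact i.preimage_mono (le_iSup W x) hx
  have : IsImmersion ((i ⁻¹ᵁ (⨆ x, W x)).ι ≫ i) := by
    rw [← morphismRestrict_ι]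
    infer_instance
  rw [htop] at this
  exact (MorphismProperty.cancel_left_of_respectsIso @IsImmersion X.topIso.hom _).mp this

end Groth.Agent.S9698
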