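import Groth.Statements.S9701
import Groth.Agent.PropsBasic.GermInjReduced

set_option autoImplicit false
universe u
open CategoryTheory CategoryTheory.Limits AlgebraicGeometry
open Mor

namespace Groth.Agent.S9701

set_option backward.isDefEq.respectTransparency.types false

/-- Let p : X ⟶ S and q : Y ⟶ S with q proper, let x be a point of X whose local ring is a valuation
ring, U ⊆ X an open with x in the closure of U, and f : U ⟶ Y a morphism over S. Assume that X is
Noetherian, or else that X is reduced and has only finitely many irreducible components. Then there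
are an open U' of X containing U and x and a morphism f' : U' ⟶ Y over S extending f. -/
theorem result {X Y S : Scheme.{u}} (p : X ⟶ S) (q : Y ⟶ S)
    [IsProper q] (x : X) (U : X.Opens) (f : (U : Scheme.{u}) ⟶ Y) (hf : f ≫ q = U.ι ≫ p)
    (hx : x ∈ closure (U : Set ↥X))
    (hX : (IsReduced X ∧ (irreducibleComponents ↥X).Finite) ∨ IsNoetherian X)
    (hdom : IsDomain (X.presheaf.stalk x)) (hval : @ValuationRing (X.presheaf.stalk x) _ hdom) :
    ∃ (U' : X.Opens) (hUU' : U ≤ U'), x ∈ U' ∧
      ∃ f' : (U' : Scheme.{u}) ⟶ Y, f' ≫ q = U'.ι ≫ p ∧ X.homOfLE hUU' ≫ f' = f := by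
  haveI := hdom
  haveI : ValuationRing (X.presheaf.stalk x) := hval
  haveI hgerm : X.IsGermInjectiveAt x := by
    rcases hX with ⟨hred, hfin⟩ | hN
    · exact Groth.PropsBasic.isGermInjectiveAt_of_isReduced hfin x
    · infer_instance
  obtain ⟨V, hxV, hV, hinj⟩ := X.exists_germ_injective x
  haveI : IsDomain Γ(X, V) := hinj.isDomain
  haveI : IsAffine (V : Scheme.{u}) := hV
  haveI : Nonempty (V : Scheme.{u}) := ⟨⟨x, hxV⟩⟩
  haveI : IsIntegral (V : Scheme.{u}) := isIntegral_of_isOpenImmersion hV.isoSpec.hom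
  let O := X.presheaf.stalk x
  let K := FractionRing O
  let j : Spec (.of K) ⟶ Spec O := Spec.map (CommRingCat.ofHom (algebraMap O K))
  haveI : IsDominant j := by
    constructor
    change DenseRange (PrimeSpectrum.comap (algebraMap O K))
    rw [PrimeSpectrum.denseRange_comap_iff_ker_le_nilRadical,
      (RingHom.injective_iff_ker_eq_bot _).1 (IsFractionRing.injective O K)]
    exact bot_le
  let η : Spec (.of K) ⟶ X := j ≫ X.fromSpecStalk x
  -- the generic point of the local ring lands in `U`, and is generic in `V`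
  have hηx : ∀ z, η z ⤳ x := fun z => by
    have : X.fromSpecStalk x (j z) ∈ Set.range (X.fromSpecStalk x) := ⟨_, rfl⟩
    rw [Scheme.range_fromSpecStalk] at this
    exact this
  let z₀ : Spec (.of K) := IsLocalRing.closedPoint K
  let ηV : (V : Scheme.{u}) := ⟨η z₀, (hηx z₀).mem_open V.isOpen hxV⟩
  have hgen : IsGenericPoint ηV Set.univ := by
    -- the generic point of the local ring specializes to every point of `V`
    let g := genericPoint (V : Scheme.{u})
    have hgx : V.ι g ⤳ x := (genericPoint_spec (V : Scheme.{u})).specializes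
      (Set.mem_univ (⟨x, hxV⟩ : (V : Scheme.{u}))) |>.map V.ι.continuous
    obtain ⟨w, hw⟩ : V.ι g ∈ Set.range (X.fromSpecStalk x) := by
      rw [Scheme.range_fromSpecStalk]; exact hgx
    have hzw : j z₀ ⤳ w := by
      have hd := j.denseRange
      rw [DenseRange, Set.range_unique, show (default : Spec (.of K)) = z₀ from
        Subsingleton.elim _ _] at hd
      exact specializes_iff_mem_closure.2 (hd w)
    have h2 : η z₀ ⤳ V.ι g := hw ▸ hzw.map (X.fromSpecStalk x).continuous
    have h3 : ηV ⤳ g := V.ι.isOpenEmbedding.isInducing.specializes_iff.1 h2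
    have := (genericPoint_spec (V : Scheme.{u})).eq
      (x := g) (y := ηV) (isGenericPoint_def.2 (Set.eq_univ_of_forall fun v =>
        (h3.trans ((genericPoint_spec (V : Scheme.{u})).specializes (Set.mem_univ v))).mem_closure))
    exact this ▸ genericPoint_spec (V : Scheme.{u})
  have hηU : η z₀ ∈ U := by
    obtain ⟨w, hwV, hwU⟩ := mem_closure_iff.1 hx V V.isOpen hxV
    exact ((hgen.specializes (Set.mem_univ (⟨w, hwV⟩ : (V : Scheme.{u})))).map
      V.ι.continuous).mem_open U.isOpen hwU
  have hrange : Set.range η ⊆ Set.range U.ι := by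
    rintro _ ⟨z, rfl⟩
    rw [Scheme.Opens.range_ι, show z = z₀ from Subsingleton.elim _ _]
    exact hηU
  let ηU : Spec (.of K) ⟶ (U : Scheme.{u}) := IsOpenImmersion.lift U.ι η hrange
  have hηU' : ηU ≫ U.ι = η := IsOpenImmersion.lift_fac _ _ _
  -- the valuative criterion
  have hsq : (ηU ≫ f) ≫ q = j ≫ (X.fromSpecStalk x ≫ p) := by
    rw [Category.assoc, hf, reassoc_of% hηU']
    rfl
  let sq : ValuativeCommSq q :=
    { R := O, domain := hdom, valuationRing := hval, K := K, i₁ := ηU ≫ f, i₂ := X.fromSpecStalk x ≫ p, commSq := ⟨hsq⟩ }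
  have hv : ValuativeCriterion q := by
    have h : @IsProper _ _ q := inferInstance
    rw [IsProper.eq_valuativeCriterion] at h
    exact h.1.1.1
  obtain ⟨φ, hφ₁, hφ₂⟩ := (hv.existence sq).exists_lift.some
  obtain ⟨W, hxW, f₁, hf₁, hf₁q⟩ := spread_out_of_isGermInjective' (x := x) p q (φ : Spec (X.presheaf.stalk x) ⟶ Y) hφ₂
  -- shrink into `V` and compare with `f`
  let W' : X.Opens := W ⊓ V
  have hxW' : x ∈ W' := ⟨hxW, hxV⟩
  let D : X.Opens := U ⊓ W'
  let a : (D : Scheme.{u}) ⟶ Y := X.homOfLE (inf_le_left : D ≤ U) ≫ f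
  let b : (D : Scheme.{u}) ⟶ Y := X.homOfLE (inf_le_right.trans inf_le_left : D ≤ W) ≫ f₁
  have hab : a = b := by
    haveI : IsReduced (D : Scheme.{u}) :=
      isReduced_of_isOpenImmersion (X.homOfLE (inf_le_right.trans inf_le_right : D ≤ V))
    have hrD : Set.range η ⊆ Set.range D.ι := by
      rintro _ ⟨z, rfl⟩
      rw [Scheme.Opens.range_ι, show z = z₀ from Subsingleton.elim _ _]
      exact ⟨hηU, (hηx z₀).mem_open W.isOpen hxW, (hηx z₀).mem_open V.isOpen hxV⟩
    let ηD : Spec (.of K) ⟶ (D : Scheme.{u}) := IsOpenImmersion.lift D.ι η hrD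
    have hηD : ηD ≫ D.ι = η := IsOpenImmersion.lift_fac _ _ _
    haveI : IsDominant ηD := by
      constructor
      intro d
      have hdV : D.ι d ∈ V := d.2.2.2
      have h1 : η z₀ ⤳ D.ι d :=
        (hgen.specializes (Set.mem_univ (⟨D.ι d, hdV⟩ : (V : Scheme.{u})))).map V.ι.continuous
      have h2 : ηD z₀ ⤳ d := D.ι.isOpenEmbedding.isInducing.specializes_iff.1 (by
        rw [← Scheme.Hom.comp_apply, hηD]; exact h1)
      exact closure_mono (Set.singleton_subset_iff.2 (Set.mem_range_self (f := ηD) z₀)) h2.mem_closure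
    refine ext_of_isDominant_of_isSeparated q ?_ ηD ?_
    · simp only [a, b, Category.assoc, hf, hf₁q, Scheme.homOfLE_ι_assoc]
    · have e1 : ηD ≫ X.homOfLE (inf_le_left : D ≤ U) = ηU := by
        rw [← cancel_mono U.ι, Category.assoc, Scheme.homOfLE_ι, hηD, hηU']
      have e2 : ηD ≫ X.homOfLE (inf_le_right.trans inf_le_left : D ≤ W) =
          j ≫ W.fromSpecStalkOfMem x hxW := by
        rw [← cancel_mono W.ι, Category.assoc, Scheme.homOfLE_ι, hηD, Category.assoc,
          Scheme.Opens.fromSpecStalkOfMem_ι]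
      simp only [a, b, reassoc_of% e1, reassoc_of% e2, ← hf₁]
      exact hφ₁.symm
  -- glue
  obtain ⟨g, hg₁, hg₂⟩ := Groth.PropsBasic.exists_hom_sup f
    (X.homOfLE (inf_le_left : W' ≤ W) ≫ f₁) (by
      rw [Scheme.homOfLE_homOfLE_assoc]; exact hab)
  refine ⟨U ⊔ W', le_sup_left, Or.inr hxW', g, ?_, hg₁⟩
  have hp : ∀ (h : ((U ⊔ W' : X.Opens) : Scheme.{u}) ⟶ S), X.homOfLE (le_sup_left : U ≤ U ⊔ W') ≫ h = U.ι ≫ p →
      X.homOfLE (le_sup_right : W' ≤ U ⊔ W') ≫ h = W'.ι ≫ p → h = (U ⊔ W').ι ≫ p := by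
    intro h h1 h2
    refine Scheme.Cover.hom_ext (Scheme.Cover.mkOfCovers (ULift.{u} Bool)
      (fun t => ((bif t.down then U else W' : X.Opens) : Scheme.{u}))
      (fun t => X.homOfLE (show (bif t.down then U else W' : X.Opens) ≤ U ⊔ W' from by
        rcases t with ⟨_ | _⟩
        · exact le_sup_right
        · exact le_sup_left))
      (fun z => by
        rcases z.2 with hz | hz
        · exact ⟨⟨true⟩, ⟨z.1, hz⟩, by apply Subtype.ext; simp [Scheme.homOfLE_apply]⟩
        · exact ⟨⟨false⟩, ⟨z.1, hz⟩, by apply Subtype.ext; simp [Scheme.homOfLE_apply]⟩)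
      (fun t => inferInstance)) _ _ ?_
    rintro ⟨_ | _⟩
    · exact h2.trans (X.homOfLE_ι_assoc (le_sup_right : W' ≤ U ⊔ W') p).symm
    · exact h1.trans (X.homOfLE_ι_assoc (le_sup_left : U ≤ U ⊔ W') p).symm
  refine hp _ ?_ ?_
  · rw [← Category.assoc, hg₁, hf]
  · rw [← Category.assoc, hg₂, Category.assoc, hf₁q, Scheme.homOfLE_ι_assoc]

end Groth.Agent.S9701
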