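import Groth.Statements.S9703
import Mathlib
import Groth.Agent.PropsBasic.SplitUnion
-- import your own Groth.Agent.* helpers here

set_option autoImplicit false
universe u
open CategoryTheory CategoryTheory.Limits AlgebraicGeometry
open Mor

namespace Groth.Agent.S9703

section Helpers

theorem finite_cover_ring (A B : CommRingCat.{u}) (φ : A ⟶ B) (hφ : φ.hom.Finite) :
    ∃ (S R : CommRingCat.{u}) (β : A ⟶ S) (γ : S ⟶ R) (i : pullback (Spec.map φ) (Spec.map β) ⟶ Spec R),
      Mor2.IsFinLocFree (Spec.map β) ∧ Surjective (Spec.map β) ∧ Mor2.IsFinLocFree (Spec.map γ) ∧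
      IsClosedImmersion i ∧ i ≫ Spec.map γ = pullback.snd _ _ ∧
      ∃ (m : ℕ) (e : Fin m → (R ⟶ S)), (∀ j, γ ≫ e j = 𝟙 S) ∧
        ∀ q : PrimeSpectrum R, ∃ j, RingHom.ker (e j).hom ≤ q.asIdeal := by
  letI := φ.hom.toAlgebra
  haveI : Module.Finite A B := hφ
  obtain ⟨S, _, _, h1, h2, h3, R, _, _, k1, k2, ψ, E, hψ, hψs, hE⟩ := Groth.PropsBasic.SplitUnion.exists_extension A B
  have hflf : ∀ (P Q : Type u) [CommRing P] [CommRing Q] [Algebra P Q] [Module.Finite P Q] [Module.Free P Q],
      Mor2.IsFinLocFree (Spec.map (CommRingCat.ofHom (algebraMap P Q))) := by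
    intro P Q _ _ _ _ _
    refine ⟨(IsFinite.SpecMap_iff _).2 ?_, (HasRingHomProperty.Spec_iff (P := @Flat)).2 ?_,
      (HasRingHomProperty.Spec_iff (P := @LocallyOfFinitePresentation)).2 ?_⟩
    · exact RingHom.finite_algebraMap.2 inferInstance
    · exact RingHom.flat_algebraMap_iff.2 inferInstance
    · haveI : Module.FinitePresentation P Q := Module.finitePresentation_of_projective P Q
      haveI : Algebra.FinitePresentation P Q := inferInstance
      exact RingHom.finitePresentation_algebraMap.2 this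
  refine ⟨CommRingCat.of S, CommRingCat.of R, CommRingCat.ofHom (algebraMap A S), CommRingCat.ofHom (algebraMap S R),
    (pullbackSpecIso A B S).hom ≫ Spec.map (CommRingCat.ofHom ψ), hflf A S, ⟨?_⟩, hflf S R, ?_, ?_,
    E.length, fun j => CommRingCat.ofHom (E.get j).toRingHom, fun j => ?_, fun q => ?_⟩
  · exact (PrimeSpectrum.comap_surjective_iff_injective_of_finite (R := A) (S := S)).2 h3
  · haveI : IsClosedImmersion (Spec.map (CommRingCat.ofHom ψ)) := IsClosedImmersion.spec_of_surjective _ hψ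
    exact inferInstanceAs (IsClosedImmersion ((pullbackSpecIso A B S).hom ≫ Spec.map (CommRingCat.ofHom ψ)))
  · rw [Category.assoc, ← Spec.map_comp, ← CommRingCat.ofHom_comp, hψs]
    exact pullbackSpecIso_hom_snd A B S
  · ext x; exact (E.get j).commutes x
  · obtain ⟨e, he, hek⟩ := hE q.asIdeal q.isPrime
    obtain ⟨j, rfl⟩ := List.get_of_mem he
    exact ⟨j, hek⟩

theorem finite_cover {X Y : Scheme.{u}} [IsAffine X] (f : Y ⟶ X) [IsFinite f] :
    ∃ (X' : Scheme.{u}) (b : X' ⟶ X) (Z' : Scheme.{u}) (c : Z' ⟶ X') (i : pullback f b ⟶ Z'),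
      Mor2.IsFinLocFree b ∧ Surjective b ∧ Mor2.IsFinLocFree c ∧ IsClosedImmersion i ∧
      i ≫ c = pullback.snd f b ∧
      ∃ (m : ℕ) (Zj : Fin m → Scheme.{u}) (ιj : ∀ j, Zj j ⟶ Z'),
        (∀ j, IsClosedImmersion (ιj j)) ∧ (∀ j, IsIso (ιj j ≫ c)) ∧
        (⋃ j, Set.range (ιj j).base) = Set.univ := by
  haveI : IsAffine Y := isAffine_of_isAffineHom f
  have hfin : f.appTop.hom.Finite := ((HasAffineProperty.iff_of_isAffine (P := @IsFinite)).1 ‹_›).2
  obtain ⟨S, R, β, γ, i₀, hb, hbs, hc, hi, hic, m, e, he, hcov⟩ := finite_cover_ring _ _ f.appTop hfin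
  have w1 : f ≫ X.isoSpec.hom = Y.isoSpec.hom ≫ Spec.map f.appTop := (Scheme.isoSpec_hom_naturality f).symm
  let b : Spec S ⟶ X := Spec.map β ≫ X.isoSpec.inv
  let t : pullback f b ⟶ pullback (Spec.map f.appTop) (Spec.map β) :=
    pullback.map f b (Spec.map f.appTop) (Spec.map β) Y.isoSpec.hom (𝟙 _) X.isoSpec.hom w1
      (by simp [b])
  refine ⟨Spec S, b, Spec R, Spec.map γ, t ≫ i₀, ?_, ?_, hc, ?_, ?_, m, fun _ => Spec S,
    fun j => Spec.map (e j), fun j => ?_, fun j => ?_, ?_⟩
  · obtain ⟨q1, q2, q3⟩ := hb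
    exact ⟨inferInstanceAs (IsFinite (Spec.map β ≫ X.isoSpec.inv)), inferInstanceAs (Flat (Spec.map β ≫ X.isoSpec.inv)),
      inferInstanceAs (LocallyOfFinitePresentation (Spec.map β ≫ X.isoSpec.inv))⟩
  · exact inferInstanceAs (Surjective (Spec.map β ≫ X.isoSpec.inv))
  · infer_instance
  · rw [Category.assoc, hic]
    exact (pullback.lift_snd _ _ _).trans (Category.comp_id _)
  · exact IsClosedImmersion.spec_of_surjective _ fun x => ⟨γ x, by
      rw [← CommRingCat.comp_apply, he j]; rfl⟩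
  · rw [← Spec.map_comp, he j, Spec.map_id]
    infer_instance
  · refine Set.eq_univ_of_forall fun q => ?_
    obtain ⟨j, hj⟩ := hcov q
    refine Set.mem_iUnion.2 ⟨j, ?_⟩
    have hsurj : Function.Surjective (e j).hom := fun x => ⟨γ x, by rw [← CommRingCat.comp_apply, he j]; rfl⟩
    show q ∈ Set.range (PrimeSpectrum.comap (e j).hom)
    rw [range_comap_of_surjective _ _ hsurj]
    exact hj

end Helpers

/-- Let f : Y ⟶ X be finite with X affine. Then there exist a surjective finite locally free b : X' ⟶ X,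
a finite locally free c : Z' ⟶ X' and a closed immersion i of Y' = X' ×_X Y into Z' over X' such
that Z' is, as a set, the union of finitely many closed subschemes each mapping isomorphically onto
X'. (The published statement also records that Y' ⟶ Y is surjective finite locally free, which
follows by base change; this row omits it.) -/
theorem result {X Y : Scheme.{u}} [IsAffine X] (f : Y ⟶ X)
    [IsFinite f] :
    ∃ (X' : Scheme.{u}) (b : X' ⟶ X) (Z' : Scheme.{u}) (c : Z' ⟶ X') (i : pullback f b ⟶ Z'),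
      Mor2.IsFinLocFree b ∧ Surjective b ∧ Mor2.IsFinLocFree c ∧ IsClosedImmersion i ∧
      i ≫ c = pullback.snd f b ∧
      ∃ (m : ℕ) (Zj : Fin m → Scheme.{u}) (ιj : ∀ j, Zj j ⟶ Z'),
        (∀ j, IsClosedImmersion (ιj j)) ∧ (∀ j, IsIso (ιj j ≫ c)) ∧
        (⋃ j, Set.range (ιj j).base) = Set.univ := by
  exact finite_cover f

end Groth.Agent.S9703
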