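import Groth.Statements.S9707
import Groth.Agent.RelVA.PnLocal

set_option autoImplicit false
universe u
open CategoryTheory CategoryTheory.Limits AlgebraicGeometry
open Mor

namespace Groth.Agent.S9707

/-- Let S be affine, f : X ⟶ S of finite type and L an invertible O_X-module very ample relative to f
(isomorphic to the inverse image of O(1) along an S-immersion into the projective bundle of a
quasi-coherent O_S-module). Then there exist n ≥ 0 and an immersion i : X ⟶ P^n_S over S with L ≅
i^* O(1). -/
theorem result {X S : Scheme.{u}} [IsAffine S] (f : X ⟶ S)
    [LocallyOfFiniteType f] [QuasiCompact f] (L : X.Modules) (hLinv : PicF.IsInvertible L)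
    (hL : RelProj.IsRelVeryAmple f L) : RelAmple.IsRelVeryAmplePn f L := by
    exact Groth.RelVA.isRelVeryAmplePn_of_hasPnData (Groth.RelVA.hasPnData_of_isRelVeryAmple hLinv hL)

end Groth.Agent.S9707
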