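import Groth.Statements.S9712
import Groth.Agent.Chow.QuasiProjective

set_option autoImplicit false
universe u
open CategoryTheory CategoryTheory.Limits AlgebraicGeometry
open Mor

namespace Groth.Agent.S9712

/-- A morphism f : X ⟶ S is locally quasi-projective (S is covered by opens U with f⁻¹(U) ⟶ U
quasi-projective) if and only if S is covered by opens U such that f⁻¹(U) ⟶ U is H-quasi-projective
(a quasi-compact immersion into some P^n_U followed by the projection). -/
theorem result {X S : Scheme.{u}} (f : X ⟶ S) :
    (∀ s : S, ∃ U : S.Opens, s ∈ U ∧ RelProj.IsQuasiProjective (f ∣_ U)) ↔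
      (∀ s : S, ∃ U : S.Opens, s ∈ U ∧ RelProj.IsHQuasiProjective (f ∣_ U)) := by
    exact Groth.Chow.isLocallyQuasiProjective_iff f

end Groth.Agent.S9712
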