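import Groth.Statements.S9715
import Groth.Agent.SchemeMorphisms.PrinParts.QCoh
import Groth.Agent.SchemeMorphisms.PrinParts.Ops
import Groth.Agent.QCohMod.PullbackSections
import Groth.Agent.OmegaSheaf.AffineHom

set_option autoImplicit false
universe u
open CategoryTheory CategoryTheory.Limits AlgebraicGeometry
open Opposite
open Mor

namespace Groth.Agent.S9715

open CategoryTheory.Limits Opposite TensorProduct
open Groth.OmegaSheaf Groth.QCohMod Groth.PrinPartsAux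

theorem exists_op {X S : Scheme.{u}} [IsAffine X] [IsAffine S] (f : X ⟶ S)
    (F G : X.Modules) [F.IsQuasicoherent] (k : ℕ) (φ : Γ(S, ⊤) →+* Γ(X, ⊤))
    (hφ : φ = (f.appLE ⊤ ⊤ le_top).hom) :
    letI : Algebra Γ(S, ⊤) Γ(X, ⊤) := φ.toAlgebra
    letI : Module Γ(S, ⊤) Γ(F, ⊤) := Module.compHom Γ(F, ⊤) φ
    letI : Module Γ(S, ⊤) Γ(G, ⊤) := Module.compHom Γ(G, ⊤) φ
    haveI : IsScalarTower Γ(S, ⊤) Γ(X, ⊤) Γ(F, ⊤) := IsScalarTower.of_algebraMap_smul fun _ _ => rfl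
    haveI : IsScalarTower Γ(S, ⊤) Γ(X, ⊤) Γ(G, ⊤) := IsScalarTower.of_algebraMap_smul fun _ _ => rfl
    ∀ D' : Γ(F, ⊤) →ₗ[Γ(S, ⊤)] Γ(G, ⊤), Diff16.IsDiffOpLE Γ(S, ⊤) Γ(X, ⊤) Γ(F, ⊤) Γ(G, ⊤) k D' →
      ∃ D : F.presheaf ⟶ G.presheaf, PrinPart.IsDiffOpLE f F G k D ∧
        ∀ m : Γ(F, ⊤), (D.app (op ⊤)).hom m = D' m := by
  subst hφ
  intro D' hD'
  have e : (⊤ : X.Opens) ≤ f ⁻¹ᵁ ⊤ := le_top
  letI := chartAlg f e
  letI := chartModule f e F
  letI := chartModule f e G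
  haveI := chart_tower f e F
  haveI := chart_tower f e G
  have hX : IsAffineOpen (⊤ : X.Opens) := isAffineOpen_top X
  have hS : IsAffineOpen (⊤ : S.Opens) := isAffineOpen_top S
  let e₂ : nbW f k (⊤ : X.Opens) ≤ PrinPart.pr2 f k ⁻¹ᵁ ⊤ := (PrinPart.preimage_pr1 f k ⊤).le
  have hW : IsAffineOpen (nbW f k (⊤ : X.Opens)) := isAffineOpen_nbW f k (U := ⊤) e hS hX
  letI := sectionsAlg (PrinPart.pr2 f k) e₂
  let π' := π f k e hS hX
  have hπ : Function.Surjective π' := π_surjective f k e hS hX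
  choose z hz using hπ
  let B := Groth.PP.bilinearize (A := Γ(S, ⊤)) (B := Γ(X, ⊤)) (M := Γ(F, ⊤)) (N := Γ(G, ⊤)) D'
  have hker : ∀ w, π' w = 0 → B w = 0 :=
    fun w hw => (isDiffOpLE_iff_bilinearize k D').1 hD' w ((π_eq_zero_iff f k e hS hX w).1 hw)
  have hB : ∀ w w', π' w = π' w' → B w = B w' := fun w w' h => by
    rw [← sub_eq_zero, ← map_sub]
    exact hker _ (by rw [map_sub, h, sub_self])
  let qb : Γ(PrinPart.nbhd f k, nbW f k ⊤) →+ (Γ(F, ⊤) →+ Γ(G, ⊤)) :=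
    AddMonoidHom.mk' (fun q => (B (z q)).toAddMonoidHom) fun q q' => by
      rw [hB (z (q + q')) (z q + z q') (by rw [map_add, hz, hz, hz]), map_add]
      rfl
  have hq : ∀ w m, qb (π' w) m = B w m := fun w m => by
    show B (z (π' w)) m = B w m
    rw [hB (z (π' w)) w (hz _)]
  have hbal : ∀ (a : Γ(X, ⊤)) (q : Γ(PrinPart.nbhd f k, nbW f k ⊤)) (m : Γ(F, ⊤)),
      qb (a • q) m = qb q (a • m) := by
    intro a q m
    obtain ⟨w, rfl⟩ : ∃ w, π' w = q := ⟨z q, hz q⟩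
    have h : a • π' w = π' (w * ((1 : Γ(X, ⊤)) ⊗ₜ a)) := by
      rw [map_mul, π_tmul, map_one, one_mul, mul_comm]
      rfl
    rw [h, hq, hq]
    exact Groth.PP.bilinearize_mul_one_tmul D' w a m
  let u₀ : Γ(PrinPart.nbhd f k, nbW f k ⊤) ⊗[Γ(X, ⊤)] Γ(F, ⊤) →+ Γ(G, ⊤) :=
    TensorProduct.liftAddHom qb hbal
  let eq' := pullSecEquiv (PrinPart.pr2 f k) F e₂ hX hW
  let L : Γ(PrinPart.PMod f k F, ⊤) →+ Γ(G, ⊤) :=
    AddMonoidHom.mk' (fun s => u₀ (eq'.symm (toPF f k F s))) fun s s' => by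
      rw [show toPF f k F (s + s') = toPF f k F s + toPF f k F s' from rfl, map_add, map_add]
  have hL : ∀ (r : Γ(X, ⊤)) (s : Γ(PrinPart.PMod f k F, ⊤)), L (r • s) = r • L s := by
    intro r s
    show u₀ (eq'.symm (toPF f k F (r • s))) = r • u₀ (eq'.symm (toPF f k F s))
    rw [PMod_smul, map_smul]
    induction eq'.symm (toPF f k F s) using TensorProduct.induction_on with
    | zero => rw [smul_zero, map_zero, smul_zero]
    | add p q hp hq => rw [smul_add, map_add, map_add, hp, hq, smul_add]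
    | tmul q m =>
      rw [TensorProduct.smul_tmul', TensorProduct.liftAddHom_tmul, TensorProduct.liftAddHom_tmul]
      obtain ⟨w, rfl⟩ : ∃ w, π' w = q := ⟨z q, hz q⟩
      have h : (PrinPart.pr1 f k).app ⊤ r • π' w = π' (r • w) := by
        rw [Algebra.smul_def r w, map_mul, Algebra.TensorProduct.algebraMap_apply, π_tmul, map_one, mul_one,
          smul_eq_mul]
        rfl
      rw [h, hq, hq, map_smul]
      rfl
  haveI : (PrinPart.PMod f k F).IsQuasicoherent := isQCoh_PMod f k F ‹_›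
  obtain ⟨u, hu⟩ := exists_hom_of_linear L hL
  refine ⟨PrinPart.dPHom f k F ≫ u.mapPresheaf, ⟨u, fun U t => rfl⟩, fun m => ?_⟩
  show u.app ⊤ (PrinPart.dP f k F ⊤ m) = D' m
  rw [hu]
  show u₀ (eq'.symm (toPF f k F (PrinPart.dP f k F ⊤ m))) = D' m
  rw [show eq'.symm (toPF f k F (PrinPart.dP f k F ⊤ m)) = (1 : Γ(PrinPart.nbhd f k, nbW f k ⊤)) ⊗ₜ m by
    rw [LinearEquiv.symm_apply_eq]
    show _ = pullSecTensor (PrinPart.pr2 f k) F e₂ _
    rw [pullSecTensor_tmul, one_smul]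
    rfl]
  rw [TensorProduct.liftAddHom_tmul, ← map_one π', hq, Algebra.TensorProduct.one_def]
  show (1 : Γ(X, ⊤)) • D' ((1 : Γ(X, ⊤)) • m) = D' m
  rw [one_smul, one_smul]


/-- Let f : X ⟶ S be a morphism of affine schemes, R = Γ(S, O_S) → A = Γ(X, O_X) the corresponding ring
map, F a quasi-coherent O_X-module and G an O_X-module, with global sections M and N. Every
differential operator M → N of order at most k relative to A over R is induced on global sections by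
a differential operator F → G of order at most k relative to X over S. (The published statement
asserts that D ↦ Γ(X, D) is a bijection between the two sets of operators of order at most k; its
injectivity is not verified in the published proof and is not claimed here. Differential operators
on X/S are taken in the principal-parts sense, those of A/R in the commutator sense.) -/
theorem result {X S : Scheme.{u}} [IsAffine X] [IsAffine S] (f : X ⟶ S)
    (F G : X.Modules) (hF : Coh.IsQCoh F) (k : ℕ) :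
    letI : Algebra Γ(S, ⊤) Γ(X, ⊤) := f.appTop.hom.toAlgebra
    letI : Module Γ(S, ⊤) Γ(F, ⊤) := Module.compHom Γ(F, ⊤) f.appTop.hom
    letI : Module Γ(S, ⊤) Γ(G, ⊤) := Module.compHom Γ(G, ⊤) f.appTop.hom
    haveI : IsScalarTower Γ(S, ⊤) Γ(X, ⊤) Γ(F, ⊤) := IsScalarTower.of_algebraMap_smul fun _ _ => rfl
    haveI : IsScalarTower Γ(S, ⊤) Γ(X, ⊤) Γ(G, ⊤) := IsScalarTower.of_algebraMap_smul fun _ _ => rfl
    ∀ D' : Γ(F, ⊤) →ₗ[Γ(S, ⊤)] Γ(G, ⊤), Diff16.IsDiffOpLE Γ(S, ⊤) Γ(X, ⊤) Γ(F, ⊤) Γ(G, ⊤) k D' →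
      ∃ D : F.presheaf ⟶ G.presheaf, PrinPart.IsDiffOpLE f F G k D ∧
        ∀ m : Γ(F, ⊤), (D.app (op ⊤)).hom m = D' m := by
  haveI : F.IsQuasicoherent := hF
  exact exists_op f F G k f.appTop.hom (congrArg CommRingCat.Hom.hom (Scheme.Hom.app_eq_appLE f))

end Groth.Agent.S9715
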