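import Groth.Statements.S9716
import Groth.Agent.LocFree.Affine
import Groth.Agent.QCohMod.QCQS
import Groth.Agent.QCohMod.Category

set_option autoImplicit false
set_option linter.style.haveILetI false
universe u
open CategoryTheory AlgebraicGeometry
open Mor

namespace Groth.Agent.S9716

set_option backward.isDefEq.respectTransparency.types false

/-- (1) ⇔ (2): a morphism f : X ⟶ S is affine with direct image f_*O_X a finite locally free O_S-module
(locally on S isomorphic to a finite direct sum of copies of the structure sheaf, of possibly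
varying rank) if and only if f is finite, flat and locally of finite presentation. -/
theorem result {X S : Scheme.{u}} (f : X ⟶ S) :
    (IsAffineHom f ∧ FlatMod.IsFinLocFree ((Scheme.Modules.pushforward f).obj (Coh.structureModule X))) ↔
      Mor2.IsFinLocFree f := by
  have e : ∀ V : S.Opens, letI := (f.app V).hom.toAlgebra
      Nonempty (Γ(X, f ⁻¹ᵁ V) ≃ₗ[Γ(S, V)]
        Γ((Scheme.Modules.pushforward f).obj (Coh.structureModule X), V)) := fun V =>
    letI := (f.app V).hom.toAlgebra
    ⟨{ AddEquiv.refl _ with map_smul' := fun _ _ => rfl }⟩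
  constructor
  · rintro ⟨hA, hL⟩
    have key : ∀ V : S.Opens, IsAffineOpen V →
        (f.app V).hom.Finite ∧ (f.app V).hom.Flat ∧ (f.app V).hom.FinitePresentation := by
      intro V hV
      letI := (f.app V).hom.toAlgebra
      obtain ⟨e⟩ := e V
      obtain ⟨h1, h2⟩ := Groth.LocFree.finite_projective_sections hL hV
      haveI : Module.Finite Γ(S, V) Γ(X, f ⁻¹ᵁ V) := Module.Finite.equiv e.symm
      haveI : Module.Projective Γ(S, V) Γ(X, f ⁻¹ᵁ V) := Module.Projective.of_equiv e.symm
      haveI := Module.finitePresentation_of_projective Γ(S, V) Γ(X, f ⁻¹ᵁ V)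
      refine ⟨(inferInstance : Module.Finite Γ(S, V) Γ(X, f ⁻¹ᵁ V)),
        (inferInstance : Module.Flat Γ(S, V) Γ(X, f ⁻¹ᵁ V)), ?_⟩
      exact (Algebra.FinitePresentation.of_finitePresentation Γ(S, V) Γ(X, f ⁻¹ᵁ V) :)
    refine ⟨⟨fun V hV => (key V hV).1⟩, ⟨fun {U} hU {V} hV h => ?_⟩,
      ⟨fun {U} hU {V} hV h => ?_⟩⟩
    · have h1 := (key U hU).2.1.comp ((𝟙 X : X ⟶ X).flat_appLE (hU.preimage f) hV h)
      rwa [← CommRingCat.hom_comp, f.app_eq_appLE, Scheme.Hom.appLE_comp_appLE] at h1
    · have h1 := ((𝟙 X : X ⟶ X).finitePresentation_appLE (hU.preimage f) hV h).comp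
        (key U hU).2.2
      rwa [← CommRingCat.hom_comp, f.app_eq_appLE, Scheme.Hom.appLE_comp_appLE] at h1
  · rintro ⟨hfin, hflat, hfp⟩
    haveI := hfin
    haveI := hflat
    haveI := hfp
    refine ⟨inferInstance, ?_⟩
    haveI : (Coh.structureModule X).IsQuasicoherent := Groth.QCohMod.isQCoh_unit X
    haveI := Groth.QCohMod.isQCoh_pushforward (M := Coh.structureModule X) f
    refine Groth.LocFree.isFinLocFree_of_affine_cover fun x => ?_
    obtain ⟨V, hV, hxV⟩ := Groth.QCohMod.exists_affine_mem x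
    letI := (f.app V).hom.toAlgebra
    obtain ⟨e⟩ := e V
    haveI : Module.Finite Γ(S, V) Γ(X, f ⁻¹ᵁ V) := f.finite_app V hV
    haveI : Module.Flat Γ(S, V) Γ(X, f ⁻¹ᵁ V) := by
      have h1 := f.flat_appLE hV (hV.preimage f) le_rfl
      rw [← f.app_eq_appLE] at h1
      exact h1
    haveI : Algebra.FinitePresentation Γ(S, V) Γ(X, f ⁻¹ᵁ V) := by
      have h1 := f.finitePresentation_appLE hV (hV.preimage f) le_rfl
      rw [← f.app_eq_appLE] at h1
      exact h1
    haveI := Module.FinitePresentation.of_finite_of_finitePresentation Γ(S, V) Γ(X, f ⁻¹ᵁ V)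
    haveI : Module.Projective Γ(S, V) Γ(X, f ⁻¹ᵁ V) := Module.Flat.projective_of_finitePresentation
    exact ⟨V, hV, hxV, Module.Finite.equiv e, Module.Projective.of_equiv e⟩

end Groth.Agent.S9716
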