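import Groth.Statements.S9723
import Groth.Agent.Flatmor4.FormalLift

set_option autoImplicit false
universe u
open FlatMor

namespace Groth.Agent.S9723

open AlgebraicGeometry CategoryTheory in
/-- Let f : X ⟶ S be formally étale (unique infinitesimal lifting against square-zero thickenings of
affine schemes), and let U be an open subscheme of X and V an open subscheme of S such that f maps U
into V. Then the restricted morphism U ⟶ V is formally étale. -/
theorem result {X S : Scheme.{u}} (f : X ⟶ S) (hf : MoreMor.IsFormallyEtaleHom f)
    (U : X.Opens) (V : S.Opens) (h : U ≤ f ⁻¹ᵁ V) : MoreMor.IsFormallyEtaleHom (f.resLE V U h) := by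
  exact Groth.Flatmor4.isFormallyEtaleHom_resLE f hf U V h

end Groth.Agent.S9723
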