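import Groth.Statements.S9724
import Groth.Agent.Flatmor4.SmoothDivisorScheme

set_option autoImplicit false
universe u
open FlatMor

namespace Groth.Agent.S9724

open AlgebraicGeometry CategoryTheory Limits in
/-- Let f : X ⟶ S be a morphism and x a point such that f is smooth on an open neighbourhood of x, the
residue field extension κ(x)/κ(f x) is separable (formally smooth), and x is not the generic point
of any irreducible component of the fibre over f x, i.e. (the fibre being smooth over a field near
x) the maximal ideal of the local ring of the fibre at x is nonzero. Then there are an affine open U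
∋ x and a nonzerodivisor h' of Γ(X, U) vanishing at x such that the closed subscheme V(h') of U, an
effective Cartier divisor through x, is smooth over S. -/
theorem result {X S : Scheme.{u}} (f : X ⟶ S) (x : X)
    (W : X.Opens) (hxW : x ∈ W) (hW : Smooth (W.ι ≫ f))
    (hsep : letI := (f.residueFieldMap x).hom.toAlgebra
      Algebra.FormallySmooth (S.residueField (f x)) (X.residueField x))
    (hgen : IsLocalRing.maximalIdeal ↑((f.fiber (f x)).presheaf.stalk (f.asFiber x)) ≠ ⊥) :
    ∃ (U : X.Opens) (hU : IsAffineOpen U) (hx : x ∈ U) (h' : Γ(X, U)), h' ∈ nonZeroDivisors Γ(X, U) ∧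
      X.presheaf.germ U x hx h' ∈ IsLocalRing.maximalIdeal ↑(X.presheaf.stalk x) ∧
      Smooth (Spec.map (CommRingCat.ofHom (Ideal.Quotient.mk (Ideal.span {h'}))) ≫ hU.fromSpec ≫ f) := by
  letI := (f.stalkMap x).hom.toAlgebra
  obtain ⟨h1, h2⟩ := Groth.Flatmor4.stalk_formallySmooth f x W hxW hW
  haveI := h1
  haveI := h2
  haveI : IsLocalHom (algebraMap (S.presheaf.stalk (f x)) (X.presheaf.stalk x)) :=
    inferInstanceAs (IsLocalHom (f.stalkMap x).hom)
  haveI : Algebra.FormallySmooth (IsLocalRing.ResidueField (S.presheaf.stalk (f x)))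
      (IsLocalRing.ResidueField (X.presheaf.stalk x)) := by
    have e : (IsLocalRing.ResidueField.instAlgebra : Algebra
        (IsLocalRing.ResidueField (S.presheaf.stalk (f x)))
        (IsLocalRing.ResidueField (X.presheaf.stalk x))) = (f.residueFieldMap x).hom.toAlgebra :=
      Algebra.algebra_ext _ _ fun r => by
        obtain ⟨a, rfl⟩ := IsLocalRing.residue_surjective r
        rfl
    exact e.symm ▸ hsep
  have hne : (IsLocalRing.maximalIdeal (S.presheaf.stalk (f x))).map
      (f.stalkMap x).hom ≠ IsLocalRing.maximalIdeal (X.presheaf.stalk x) := by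
    have key : ∀ (x' : X), x' = x →
        (IsLocalRing.maximalIdeal (S.presheaf.stalk (f x))).map (f.stalkMap x).hom =
          IsLocalRing.maximalIdeal (X.presheaf.stalk x) →
        (IsLocalRing.maximalIdeal (S.presheaf.stalk (f x'))).map (f.stalkMap x').hom =
          IsLocalRing.maximalIdeal (X.presheaf.stalk x') := by
      rintro _ rfl h; exact h
    intro heq
    exact hgen (Groth.Flatmor4.maximalIdeal_fiber_eq_bot f (f.asFiber x)
      (key _ (f.fiberι_asFiber x) heq))
  obtain ⟨h, hm, hd⟩ := Groth.Flatmor4.exists_d_ne_zero hne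
  obtain ⟨U, hU, hx, h', hg, hnz, hsm⟩ :=
    Groth.Flatmor4.exists_smooth_divisor f x W hxW hW h hm hd
  exact ⟨U, hU, hx, h', hnz, hg ▸ hm, hsm⟩

end Groth.Agent.S9724
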