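import Groth.Statements.S9728
import Groth.Agent.KoszulLCI.Immersion
import Groth.Agent.KoszulLCI.SchemeBaseChange

set_option autoImplicit false
universe u
open FlatMor

namespace Groth.Agent.S9728

open AlgebraicGeometry CategoryTheory Limits in
/-- Given S-schemes U, P, P' with P and P' smooth over S, immersions i : U ⟶ P and i' : U ⟶ P'
compatible with the structure maps to S, and a point u of U, some restriction of i to an open
neighbourhood of u is a Koszul-regular immersion exactly when some restriction of i' to an open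
neighbourhood of u is. -/
theorem result {S U P P' : Scheme.{u}} (q : U ⟶ S)
    (p : P ⟶ S) (p' : P' ⟶ S) [Smooth p] [Smooth p'] (i : U ⟶ P) (i' : U ⟶ P') [IsImmersion i] [IsImmersion i']
    (hi : i ≫ p = q) (hi' : i' ≫ p' = q) (u : U) :
    (∃ V : U.Opens, u ∈ V ∧ RegImm.IsRegularImmersion RegImm.Kind.koszul (V.ι ≫ i)) ↔
      (∃ V : U.Opens, u ∈ V ∧ RegImm.IsRegularImmersion RegImm.Kind.koszul (V.ι ≫ i')) := by
  have key : ∀ {Q : Scheme.{u}} (π : Q ⟶ S) [Smooth π] (j : U ⟶ Q) [IsImmersion j] (_ : j ≫ π = q) (V : U.Opens),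
      RegImm.IsRegularImmersion RegImm.Kind.koszul (V.ι ≫ j) ↔ Groth.KoszulLCI.MorLCI (V.ι ≫ q) := by
    intro Q π _ j _ hj V
    rw [Groth.KoszulLCI.isRegularImmersion_koszul_iff, ← hj, ← Category.assoc]
    exact ⟨fun h => MorphismProperty.comp_mem _ _ _ h.2 (Groth.KoszulLCI.morLCI_of_smooth π),
      fun h => ⟨inferInstance, Groth.KoszulLCI.morLCI_of_comp_smooth _ π h⟩⟩
  simp only [key p i hi, key p' i' hi']

end Groth.Agent.S9728
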