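import Groth.Statements.S9730
import Groth.Agent.Syntomic.Descent

set_option autoImplicit false
universe u
open FlatMor

namespace Groth.Agent.S9730

open AlgebraicGeometry CategoryTheory Limits in
/-- For g : X' ⟶ X surjective and syntomic and any morphism f : X ⟶ Y, the composite g ≫ f is Koszul at
every point of X' (a local complete intersection morphism) if and only if f is Koszul at every point
of X. The published statement is phrased for syntomic coverings; this row takes a single surjective
syntomic morphism, to which a covering reduces by passing to the disjoint union of its members. -/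
theorem result {X' X Y : Scheme.{u}} (g : X' ⟶ X) (hg : Synt.IsSyntomicMor g) [Surjective g]
    (f : X ⟶ Y) : (∀ x' : X', Synt.IsKoszulAt (g ≫ f) x') ↔ (∀ x : X, Synt.IsKoszulAt f x) := by
  rw [Groth.KoszulLCI.isKoszulAt_iff_morLCI, Groth.KoszulLCI.isKoszulAt_iff_morLCI]
  exact ⟨Groth.Syntomic.morLCI_of_comp_syntomic g f hg, fun h =>
    MorphismProperty.comp_mem Groth.KoszulLCI.MorLCI g f (Groth.Syntomic.morLCI_of_isSyntomicMor hg) h⟩

end Groth.Agent.S9730
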