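import Groth.Statements.S9731
import Groth.Agent.OmegaSheaf.UnivThick.Exists

set_option autoImplicit false
universe u
open OmegaSh

namespace Groth.Agent.S9731

open AlgebraicGeometry CategoryTheory Limits in
/-- A formally unramified morphism h : Z ⟶ X admits a universal first order thickening: a first order
thickening i : Z ⟶ Z' with h' : Z' ⟶ X, i ≫ h' = h, such that for every first order thickening j : T
⟶ T' with b : T' ⟶ X and every a : T ⟶ Z with j ≫ b = a ≫ h there is exactly one a' : T' ⟶ Z' with j
≫ a' = a ≫ i and a' ≫ h' = b. -/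
theorem result {Z X : Scheme.{u}} (h : Z ⟶ X) [FormallyUnramified h] :
    ∃ (Z' : Scheme.{u}) (i : Z ⟶ Z') (h' : Z' ⟶ X), OmegaSh.IsUnivThickening h i h' := by
  exact Groth.OmegaSheaf.UnivThick.exists_isUnivThickening h

end Groth.Agent.S9731
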