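import Groth.Statements.S9736
import Groth.Agent.SyntLift.Descent
import Mathlib.RingTheory.RingHom.FiniteType

set_option autoImplicit false
set_option linter.style.haveILetI false
universe u
open FlatMor

namespace Groth.Agent.S9736

open AlgebraicGeometry CategoryTheory Limits TensorProduct

attribute [local instance] MvPolynomial.algebraMvPolynomial

/-- The square of rings attached to a descended presentation is a pushout. -/
theorem isPullback_relGCI {R₀ R : Type u} [CommRing R₀] [CommRing R] [Algebra R₀ R] {n c : ℕ}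
    (G : Fin c → MvPolynomial (Fin n) R₀) (F : Fin c → MvPolynomial (Fin n) R)
    (hF : ∀ i, MvPolynomial.map (algebraMap R₀ R) (G i) = F i) :
    ∃ g : Spec (.of (Synt.RelGCIRing R n c F)) ⟶ Spec (.of (Synt.RelGCIRing R₀ n c G)),
      IsPullback g (Spec.map (CommRingCat.ofHom (algebraMap R (Synt.RelGCIRing R n c F))))
        (Spec.map (CommRingCat.ofHom (algebraMap R₀ (Synt.RelGCIRing R₀ n c G))))
        (Spec.map (CommRingCat.ofHom (algebraMap R₀ R))) := by
  obtain rfl : (fun i => MvPolynomial.map (algebraMap R₀ R) (G i)) = F := funext hF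
  let B₀ := Synt.RelGCIRing R₀ n c G
  let B := Synt.RelGCIRing R n c fun i => MvPolynomial.map (algebraMap R₀ R) (G i)
  let e := Groth.Calg5.RelGCI.tensorQuotientEquiv R G
  let ρ : B₀ →+* B := (e.toAlgHom.toRingHom.comp Algebra.TensorProduct.includeRight.toRingHom)
  letI : Algebra B₀ B := ρ.toAlgebra
  have : IsScalarTower R₀ B₀ B := IsScalarTower.of_algebraMap_eq (R := R₀) (S := B₀) (A := B) fun r => by
    show algebraMap R₀ B r = e (1 ⊗ₜ algebraMap R₀ B₀ r)
    rw [IsScalarTower.algebraMap_apply R₀ R B, ← e.commutes (algebraMap R₀ R r)]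
    congr 1
    rw [Algebra.TensorProduct.algebraMap_apply, Algebra.algebraMap_self, RingHom.id_apply,
      Algebra.algebraMap_eq_smul_one r, TensorProduct.smul_tmul, ← Algebra.algebraMap_eq_smul_one]
  have hp : Algebra.IsPushout R₀ R B₀ B :=
    ⟨IsBaseChange.of_equiv e.toLinearEquiv fun x => rfl⟩
  exact ⟨_, (isPullback_SpecMap_of_isPushout _ _ _ _
    ((CommRingCat.isPushout_iff_isPushout (R' := R) (S := B₀) (S' := B)).mpr hp)).flip⟩

/-- Let f : X ⟶ S be a standard syntomic morphism of affine schemes. Then f is the base change of a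
morphism of finite type f₀ : X₀ ⟶ S₀ between affine schemes with S₀ of finite type over ℤ and f₀
standard syntomic. -/
theorem result {X S : Scheme.{u}} (f : X ⟶ S) [IsAffine X] [IsAffine S] (hf : Synt.IsStandardSyntomic f) :
    ∃ (X₀ S₀ : Scheme.{u}) (f₀ : X₀ ⟶ S₀) (g : S ⟶ S₀) (g' : X ⟶ X₀), IsAffine X₀ ∧ IsAffine S₀ ∧ IsPullback g' f f₀ g ∧
      Algebra.FiniteType ℤ Γ(S₀, ⊤) ∧ LocallyOfFiniteType f₀ ∧ Synt.IsStandardSyntomic f₀ := by
  obtain ⟨R, _, n, c, F, hF, e₁, e₂, he⟩ := hf
  obtain ⟨R₀, G, hfin, hG, hGCI⟩ := Groth.SyntLift.exists_finiteType_subalgebra_isRelGCI F hF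
  obtain ⟨g, hg⟩ := isPullback_relGCI G F hG
  refine ⟨Spec (.of (Synt.RelGCIRing R₀ n c G)), Spec (.of R₀),
    Spec.map (CommRingCat.ofHom (algebraMap R₀ (Synt.RelGCIRing R₀ n c G))),
    e₂.hom ≫ Spec.map (CommRingCat.ofHom (algebraMap R₀ R)), e₁.hom ≫ g, inferInstance, inferInstance,
    ?_, ?_, ?_, ?_⟩
  · exact (IsPullback.of_horiz_isIso ⟨he⟩).paste_horiz hg
  · rw [← RingHom.finiteType_algebraMap, RingHom.ext_int (algebraMap ℤ Γ(Spec (.of R₀), ⊤))
      ((Scheme.ΓSpecIso (.of R₀)).inv.hom.comp (algebraMap ℤ R₀))]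
    exact RingHom.FiniteType.comp_surjective (f := algebraMap ℤ R₀)
      (g := (Scheme.ΓSpecIso (.of R₀)).inv.hom) (RingHom.finiteType_algebraMap.mpr inferInstance)
      (Scheme.ΓSpecIso (.of R₀)).commRingCatIsoToRingEquiv.symm.surjective
  · rw [HasRingHomProperty.Spec_iff (P := @LocallyOfFiniteType)]
    exact RingHom.finiteType_algebraMap.mpr inferInstance
  · exact ⟨R₀, inferInstance, n, c, G, hGCI, Iso.refl _, Iso.refl _, by simp⟩

end Groth.Agent.S9736
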