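import Groth.Statements.S9737
import Mathlib
import Groth.Agent.Flatmor4.AlgIsoDescent

set_option autoImplicit false
universe u
open FlatMor

namespace Groth.Agent.S9737

open TensorProduct

open AlgebraicGeometry CategoryTheory Limits in
/-- Suppose P and Q are classes of morphisms of schemes preserved by arbitrary pullback, and f : X ⟶ S
is a finitely presented morphism of affine schemes. If f arises by pullback from a finite-type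
morphism f₁ : X₁ ⟶ S₁ satisfying P, and also from a finite-type morphism f₂ : X₂ ⟶ S₂ satisfying Q,
where all four schemes are affine and Γ(S₁), Γ(S₂) are finitely generated ℤ-algebras, then f arises
by pullback from a single finite-type morphism f₀ : X₀ ⟶ S₀ of affine schemes, with Γ(S₀) finitely
generated over ℤ, satisfying both P and Q. -/
theorem result (P Q : MorphismProperty Scheme.{u}) [P.IsStableUnderBaseChange] [Q.IsStableUnderBaseChange]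
    {X S : Scheme.{u}} (f : X ⟶ S) [IsAffine X] [IsAffine S] [LocallyOfFinitePresentation f]
    {X₁ S₁ X₂ S₂ : Scheme.{u}} [IsAffine X₁] [IsAffine S₁] [IsAffine X₂] [IsAffine S₂]
    (f₁ : X₁ ⟶ S₁) (g₁ : S ⟶ S₁) (g₁' : X ⟶ X₁) (h₁ : IsPullback g₁' f f₁ g₁)
    (f₂ : X₂ ⟶ S₂) (g₂ : S ⟶ S₂) (g₂' : X ⟶ X₂) (h₂ : IsPullback g₂' f f₂ g₂)
    (hS₁ : Algebra.FiniteType ℤ Γ(S₁, ⊤)) (hS₂ : Algebra.FiniteType ℤ Γ(S₂, ⊤))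
    [LocallyOfFiniteType f₁] [LocallyOfFiniteType f₂] (hP : P f₁) (hQ : Q f₂) :
    ∃ (X₀ S₀ : Scheme.{u}) (f₀ : X₀ ⟶ S₀) (g : S ⟶ S₀) (g' : X ⟶ X₀), IsAffine X₀ ∧ IsAffine S₀ ∧ IsPullback g' f f₀ g ∧
      Algebra.FiniteType ℤ Γ(S₀, ⊤) ∧ LocallyOfFiniteType f₀ ∧ P f₀ ∧ Q f₀ := by
  haveI : IsAffine X := ‹_›
  let φ₁ := g₁.appTop.hom.toIntAlgHom
  let φ₂ := g₂.appTop.hom.toIntAlgHom
  let A₀ : Subalgebra ℤ Γ(S, ⊤) := φ₁.range ⊔ φ₂.range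
  haveI hfgA₀ : Algebra.FiniteType ℤ A₀ := (Subalgebra.fg_iff_finiteType _).1
    ((((Subalgebra.fg_iff_finiteType _).2 (Algebra.FiniteType.of_surjective φ₁.rangeRestrict φ₁.rangeRestrict_surjective))).sup
      ((Subalgebra.fg_iff_finiteType _).2 (Algebra.FiniteType.of_surjective φ₂.rangeRestrict φ₂.rangeRestrict_surjective)))
  haveI : IsNoetherianRing A₀ := Algebra.FiniteType.isNoetherianRing ℤ A₀
  let : Algebra Γ(S₁, ⊤) A₀ := (g₁.appTop.hom.codRestrict A₀.toSubring fun r =>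
    (le_sup_left : φ₁.range ≤ A₀) ⟨r, rfl⟩).toAlgebra
  let : Algebra Γ(S₂, ⊤) A₀ := (g₂.appTop.hom.codRestrict A₀.toSubring fun r =>
    (le_sup_right : φ₂.range ≤ A₀) ⟨r, rfl⟩).toAlgebra
  let : Algebra Γ(S₁, ⊤) Γ(S, ⊤) := g₁.appTop.hom.toAlgebra
  let : Algebra Γ(S₂, ⊤) Γ(S, ⊤) := g₂.appTop.hom.toAlgebra
  let : Algebra Γ(S₁, ⊤) Γ(X₁, ⊤) := f₁.appTop.hom.toAlgebra
  let : Algebra Γ(S₂, ⊤) Γ(X₂, ⊤) := f₂.appTop.hom.toAlgebra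
  let : Algebra Γ(S, ⊤) Γ(X, ⊤) := f.appTop.hom.toAlgebra
  let : Algebra Γ(X₁, ⊤) Γ(X, ⊤) := g₁'.appTop.hom.toAlgebra
  let : Algebra Γ(X₂, ⊤) Γ(X, ⊤) := g₂'.appTop.hom.toAlgebra
  let : Algebra Γ(S₁, ⊤) Γ(X, ⊤) := (f₁.appTop ≫ g₁'.appTop).hom.toAlgebra
  let : Algebra Γ(S₂, ⊤) Γ(X, ⊤) := (f₂.appTop ≫ g₂'.appTop).hom.toAlgebra
  haveI : IsScalarTower Γ(S₁, ⊤) A₀ Γ(S, ⊤) := .of_algebraMap_eq fun _ => rfl
  haveI : IsScalarTower Γ(S₂, ⊤) A₀ Γ(S, ⊤) := .of_algebraMap_eq fun _ => rfl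
  haveI : IsScalarTower Γ(S₁, ⊤) Γ(X₁, ⊤) Γ(X, ⊤) := .of_algebraMap_eq fun _ => rfl
  haveI : IsScalarTower Γ(S₂, ⊤) Γ(X₂, ⊤) Γ(X, ⊤) := .of_algebraMap_eq fun _ => rfl
  have p₁ := isPushout_appTop_of_isPullback h₁
  have p₂ := isPushout_appTop_of_isPullback h₂
  haveI : IsScalarTower Γ(S₁, ⊤) Γ(S, ⊤) Γ(X, ⊤) := .of_algebraMap_eq fun r => congr($(p₁.w) r)
  haveI : IsScalarTower Γ(S₂, ⊤) Γ(S, ⊤) Γ(X, ⊤) := .of_algebraMap_eq fun r => congr($(p₂.w) r)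
  haveI : Algebra.IsPushout Γ(S₁, ⊤) Γ(S, ⊤) Γ(X₁, ⊤) Γ(X, ⊤) :=
    (CommRingCat.isPushout_iff_isPushout.mp p₁).symm
  haveI : Algebra.IsPushout Γ(S₂, ⊤) Γ(S, ⊤) Γ(X₂, ⊤) Γ(X, ⊤) :=
    (CommRingCat.isPushout_iff_isPushout.mp p₂).symm
  haveI : Algebra.FiniteType Γ(S₁, ⊤) Γ(X₁, ⊤) :=
    (HasRingHomProperty.iff_of_isAffine (P := @LocallyOfFiniteType)).mp ‹LocallyOfFiniteType f₁›
  haveI : Algebra.FiniteType Γ(S₂, ⊤) Γ(X₂, ⊤) :=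
    (HasRingHomProperty.iff_of_isAffine (P := @LocallyOfFiniteType)).mp ‹LocallyOfFiniteType f₂›
  haveI : Algebra.FinitePresentation A₀ (A₀ ⊗[Γ(S₁, ⊤)] Γ(X₁, ⊤)) :=
    Algebra.FinitePresentation.of_finiteType.1 inferInstance
  haveI : Algebra.FinitePresentation A₀ (A₀ ⊗[Γ(S₂, ⊤)] Γ(X₂, ⊤)) :=
    Algebra.FinitePresentation.of_finiteType.1 inferInstance
  let e : Γ(S, ⊤) ⊗[A₀] (A₀ ⊗[Γ(S₁, ⊤)] Γ(X₁, ⊤)) ≃ₐ[Γ(S, ⊤)] Γ(S, ⊤) ⊗[A₀] (A₀ ⊗[Γ(S₂, ⊤)] Γ(X₂, ⊤)) :=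
    ((Algebra.TensorProduct.cancelBaseChange Γ(S₁, ⊤) A₀ Γ(S, ⊤) Γ(S, ⊤) Γ(X₁, ⊤)).trans
      (Algebra.IsPushout.equiv Γ(S₁, ⊤) Γ(S, ⊤) Γ(X₁, ⊤) Γ(X, ⊤))).trans
    ((Algebra.TensorProduct.cancelBaseChange Γ(S₂, ⊤) A₀ Γ(S, ⊤) Γ(S, ⊤) Γ(X₂, ⊤)).trans
      (Algebra.IsPushout.equiv Γ(S₂, ⊤) Γ(S, ⊤) Γ(X₂, ⊤) Γ(X, ⊤))).symm
  obtain ⟨A, hA, ⟨E₀⟩⟩ := Groth.Flatmor4.AlgIsoDescent.exists_algEquiv e
  let : Algebra Γ(S₁, ⊤) A := ((algebraMap A₀ A).comp (algebraMap Γ(S₁, ⊤) A₀)).toAlgebra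
  let : Algebra Γ(S₂, ⊤) A := ((algebraMap A₀ A).comp (algebraMap Γ(S₂, ⊤) A₀)).toAlgebra
  haveI : IsScalarTower Γ(S₁, ⊤) A₀ A := .of_algebraMap_eq fun _ => rfl
  haveI : IsScalarTower Γ(S₂, ⊤) A₀ A := .of_algebraMap_eq fun _ => rfl
  let E : A ⊗[Γ(S₁, ⊤)] Γ(X₁, ⊤) ≃ₐ[A] A ⊗[Γ(S₂, ⊤)] Γ(X₂, ⊤) :=
    ((Algebra.TensorProduct.cancelBaseChange Γ(S₁, ⊤) A₀ A A Γ(X₁, ⊤)).symm.trans E₀).trans
      (Algebra.TensorProduct.cancelBaseChange Γ(S₂, ⊤) A₀ A A Γ(X₂, ⊤))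
  haveI : Algebra.FiniteType A₀ A := (Subalgebra.fg_iff_finiteType _).1 hA
  haveI hAft : Algebra.FiniteType ℤ A := Algebra.FiniteType.trans (S := A₀) inferInstance inferInstance
  let f₀ : Spec (.of (A ⊗[Γ(S₁, ⊤)] Γ(X₁, ⊤))) ⟶ Spec (.of A) :=
    Spec.map (CommRingCat.ofHom (algebraMap A _))
  have sq₁ := isPullback_SpecMap_of_isPushout _ _ _ _ (CommRingCat.isPushout_tensorProduct Γ(S₁, ⊤) A Γ(X₁, ⊤))
  have sq₂ := isPullback_SpecMap_of_isPushout _ _ _ _ (CommRingCat.isPushout_tensorProduct Γ(S₂, ⊤) A Γ(X₂, ⊤))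
  have hP' : P (Spec.map f₁.appTop) :=
    (P.arrow_mk_iso_iff (Arrow.isoMk X₁.isoSpec S₁.isoSpec (Scheme.isoSpec_hom_naturality f₁))).mp hP
  have hQ' : Q (Spec.map f₂.appTop) :=
    (Q.arrow_mk_iso_iff (Arrow.isoMk X₂.isoSpec S₂.isoSpec (Scheme.isoSpec_hom_naturality f₂))).mp hQ
  have hP₀ : P f₀ := P.of_isPullback sq₁.flip hP'
  have hQ₀ : Q f₀ := by
    let εE : Spec (.of (A ⊗[Γ(S₂, ⊤)] Γ(X₂, ⊤))) ≅ Spec (.of (A ⊗[Γ(S₁, ⊤)] Γ(X₁, ⊤))) :=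
      Scheme.Spec.mapIso E.toRingEquiv.toCommRingCatIso.op
    refine (Q.cancel_left_of_respectsIso εE.hom f₀).mp ?_
    have e : εE.hom ≫ f₀ = Spec.map (CommRingCat.ofHom (algebraMap A (A ⊗[Γ(S₂, ⊤)] Γ(X₂, ⊤)))) :=
      (Spec.map_comp _ _).symm.trans (congrArg Spec.map (CommRingCat.hom_ext (RingHom.ext fun a => E.commutes a)))
    rw [e]
    exact Q.of_isPullback sq₂.flip hQ'
  have houter : IsPullback (g₁' ≫ X₁.isoSpec.hom) f (Spec.map f₁.appTop)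
      ((S.isoSpec.hom ≫ Spec.map (CommRingCat.ofHom (algebraMap A Γ(S, ⊤)))) ≫
        Spec.map (CommRingCat.ofHom (algebraMap Γ(S₁, ⊤) A))) := by
    have h : IsPullback (g₁' ≫ X₁.isoSpec.hom) f (Spec.map f₁.appTop) (g₁ ≫ S₁.isoSpec.hom) :=
      h₁.paste_horiz (IsPullback.of_horiz_isIso ⟨Scheme.isoSpec_hom_naturality f₁⟩)
    rw [← Scheme.isoSpec_hom_naturality g₁] at h
    rw [Category.assoc, ← Spec.map_comp]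
    exact h
  refine ⟨_, _, f₀, S.isoSpec.hom ≫ Spec.map (CommRingCat.ofHom (algebraMap A Γ(S, ⊤))),
    sq₁.flip.lift (g₁' ≫ X₁.isoSpec.hom) (f ≫ S.isoSpec.hom ≫ Spec.map (CommRingCat.ofHom (algebraMap A Γ(S, ⊤))))
      (houter.w.trans (Category.assoc _ _ _).symm),
    inferInstance, inferInstance, ?_, ?_, ?_, hP₀, hQ₀⟩
  · refine IsPullback.of_right ?_ (sq₁.flip.lift_snd _ _ _) sq₁.flip
    rw [sq₁.flip.lift_fst]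
    exact houter
  · let e₀ := (Scheme.ΓSpecIso (.of A)).commRingCatIsoToRingEquiv
    exact Algebra.FiniteType.of_surjective (e₀.symm.toRingHom.toIntAlgHom) e₀.symm.surjective
  · exact (HasRingHomProperty.Spec_iff (P := @LocallyOfFiniteType)).mpr
      (RingHom.finiteType_algebraMap.mpr inferInstance)

end Groth.Agent.S9737
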