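import Groth.Statements.S9738
import Groth.Agent.FlatMorOne.FlatnessCriteria
-- import your own Groth.Agent.* helpers here

set_option autoImplicit false
universe u
open FlatMor

namespace Groth.Agent.S9738

open AlgebraicGeometry CategoryTheory Limits in
open scoped TensorProduct in
theorem aux {X S : Scheme.{u}} (f : X ⟶ S) [IsLocallyNoetherian X] [IsLocallyNoetherian S]
    (I : S.IdealSheafData) (h : ∀ n : ℕ, Flat (pullback.snd f (I ^ (n + 1)).subschemeι)) (x : X)
    (hx : f x ∈ I.support) {U : S.Opens} (hU : IsAffineOpen U) {V : X.Opens} (hV : IsAffineOpen V)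
    (hVU : V ≤ f ⁻¹ᵁ U) (hxV : x ∈ V) : (f.stalkMap x).hom.Flat := by
  let φ := f.appLE U V hVU
  have key : ∀ n : ℕ, Flat (pullback.snd (Spec.map φ)
      (Spec.map (CommRingCat.ofHom (Ideal.Quotient.mk ((I.ideal ⟨U, hU⟩) ^ (n + 1)))))) := by
    intro n
    let K := I ^ (n + 1)
    suffices Flat (pullback.snd (Spec.map φ)
        (Spec.map (CommRingCat.ofHom (Ideal.Quotient.mk (K.ideal ⟨U, hU⟩))))) from this
    let q := Spec.map (CommRingCat.ofHom (Ideal.Quotient.mk (K.ideal ⟨U, hU⟩)))
    let j := K.subschemeCover.f ⟨U, hU⟩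
    have hj : j ≫ K.subschemeι = q ≫ hU.fromSpec :=
      (K.subschemeCover_map_subschemeι _).trans (K.glueDataObjι_ι _)
    have h1 : Flat (pullback.snd f (j ≫ K.subschemeι)) := by
      have : Flat (pullback.snd f K.subschemeι) := h n
      have h0 : Flat (pullback.snd (pullback.snd f K.subschemeι) j) := inferInstance
      rw [← pullbackLeftPullbackSndIso_hom_snd f K.subschemeι j,
        MorphismProperty.cancel_left_of_respectsIso @Flat] at h0
      exact h0
    rw [hj] at h1
    have h2 : Flat (pullback.snd (hV.fromSpec ≫ f) (q ≫ hU.fromSpec)) := by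
      have h0 : Flat (pullback.snd hV.fromSpec (pullback.fst f (q ≫ hU.fromSpec)) ≫
        pullback.snd f (q ≫ hU.fromSpec)) := by
        have hA : Flat (pullback.snd hV.fromSpec (pullback.fst f (q ≫ hU.fromSpec))) :=
          MorphismProperty.pullback_snd _ _ inferInstance
        exact MorphismProperty.comp_mem _ _ _ hA h1
      rw [← pullbackRightPullbackFstIso_hom_snd f (q ≫ hU.fromSpec) hV.fromSpec,
        MorphismProperty.cancel_left_of_respectsIso @Flat] at h0
      exact h0
    have e : hV.fromSpec ≫ f = Spec.map φ ≫ hU.fromSpec :=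
      (hU.SpecMap_appLE_fromSpec f hV hVU).symm
    rw [e] at h2
    have hP := IsPullback.of_isLimit (pullbackIsPullbackOfCompMono (Spec.map φ) q hU.fromSpec)
    rw [← MorphismProperty.cancel_left_of_respectsIso @Flat hP.isoPullback.hom] at h2
    rwa [hP.isoPullback_hom_snd] at h2
  have : IsNoetherianRing Γ(S, U) := IsLocallyNoetherian.component_noetherian ⟨U, hU⟩
  have : IsNoetherianRing Γ(X, V) := IsLocallyNoetherian.component_noetherian ⟨V, hV⟩
  let := φ.hom.toAlgebra
  let p := (hU.primeIdealOf ⟨f x, hVU hxV⟩).asIdeal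
  let q := (hV.primeIdealOf ⟨x, hxV⟩).asIdeal
  have : q.LiesOver p :=
    ⟨congr($(IsAffineOpen.comap_primeIdealOf_appLE U hU V hV hVU hxV).1).symm⟩
  let := Localization.AtPrime.algebraOfLiesOver p q
  have hJp : I.ideal ⟨U, hU⟩ ≤ p := by
    intro a ha
    by_contra hap
    have hz := (Scheme.IdealSheafData.mem_support_iff_of_mem (U := ⟨U, hU⟩) (hVU hxV)).mp hx
    rw [Scheme.mem_zeroLocus_iff] at hz
    refine hz a ha ((Scheme.mem_basicOpen S a (f x) (hVU hxV)).mpr ?_)
    let := S.presheaf.algebra_section_stalk ⟨f x, hVU hxV⟩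
    have := hU.isLocalization_stalk ⟨f x, hVU hxV⟩
    exact (IsLocalization.AtPrime.isUnit_to_map_iff (S.presheaf.stalk (f x)) p a).mpr hap
  have hfl : Module.Flat Γ(S, U) (LocalizedModule q.primeCompl Γ(X, V)) := by
    refine Groth.FlatMorOne.flat_localizedModule_of_forall_pow (I.ideal ⟨U, hU⟩) (fun n hn => ?_) q
      (Ideal.map_le_iff_le_comap.mpr (hJp.trans (q.over_def p).le))
    obtain ⟨m, rfl⟩ : ∃ m, n = m + 1 := ⟨n - 1, by omega⟩
    have hk := key m
    set K := I.ideal ⟨U, hU⟩ ^ (m + 1)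
    have h3 := (MorphismProperty.cancel_left_of_respectsIso @Flat
      (pullbackSpecIso Γ(S, U) Γ(X, V) (Γ(S, U) ⧸ K)).inv (pullback.snd _ _)).mpr hk
    rw [pullbackSpecIso_inv_snd, Flat.SpecMap_iff] at h3
    have h4 := h3.comp (RingHom.Flat.of_bijective
      (f := (Algebra.TensorProduct.comm Γ(S, U) Γ(X, V) (Γ(S, U) ⧸ K)).toRingEquiv.toRingHom)
      (AlgEquiv.bijective _))
    rw [← RingHom.flat_algebraMap_iff]
    convert! h4 using 1
  rw [RingHom.Flat.respectsIso.arrow_mk_iso_iff (IsAffineOpen.arrowStalkMapIso f U hU V hV hVU hxV)]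
  change RingHom.Flat (algebraMap (Localization.AtPrime p) (Localization.AtPrime q))
  rw [RingHom.flat_algebraMap_iff]
  exact (Module.flat_iff_of_isLocalization (Localization.AtPrime p) p.primeCompl
    (Localization.AtPrime q)).mpr hfl

open AlgebraicGeometry CategoryTheory Limits in
/-- For a morphism f : X ⟶ S between locally Noetherian schemes, an ideal sheaf I on S with closed
subscheme Z, and Z_n the closed subscheme cut out by I^(n+1): if each base change X ×_S Z_n ⟶ Z_n is
flat, then f is flat at each point of X lying over Z. -/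
theorem result {X S : Scheme.{u}} (f : X ⟶ S) [IsLocallyNoetherian X] [IsLocallyNoetherian S]
    (I : S.IdealSheafData) (h : ∀ n : ℕ, Flat (pullback.snd f (I ^ (n + 1)).subschemeι)) (x : X) (hx : f x ∈ I.support) :
    (f.stalkMap x).hom.Flat := by
  obtain ⟨_, ⟨U, hU, rfl⟩, hxU, -⟩ :=
    S.isBasis_affineOpens.exists_subset_of_mem_open (Set.mem_univ (f x)) isOpen_univ
  obtain ⟨_, ⟨V, hV, rfl⟩, hxV, hVU⟩ :=
    X.isBasis_affineOpens.exists_subset_of_mem_open hxU (U.2.preimage f.continuous)
  exact aux f I h x hx hU hV hVU hxV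

end Groth.Agent.S9738
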