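import Groth.Statements.S9739
import Groth.Agent.Flatmor4.GenericSpecialize

set_option autoImplicit false
universe u
open FlatMor

namespace Groth.Agent.S9739

open AlgebraicGeometry CategoryTheory Limits in
/-- Let f : X ⟶ S be flat and locally of finite presentation, and let x' ⤳ x be points of X. Assume the
closure of x in its fibre is one of that fibre's irreducible components. Then the fibre through x'
has the same local dimension at x' as the fibre through x has at x. -/
theorem result {X S : Scheme.{u}} (f : X ⟶ S) [Flat f] [LocallyOfFinitePresentation f]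
    (x x' : X) (hsp : x' ⤳ x) (hgen : ∃ Z ∈ irreducibleComponents ↥(f.fiber (f x)), IsGenericPoint (f.asFiber x) Z) :
    FlatMor.fibreDimAt f x' = FlatMor.fibreDimAt f x := by
  obtain ⟨Z, hZ, hg⟩ := hgen
  have hmax : IsMax (f.asFiber x) := fun w hw => by
    have h : closure {f.asFiber x} ∈ irreducibleComponents ↥(f.fiber (f x)) := by rwa [hg.def]
    rw [Groth.PropsBasic2.closure_mem_irreducibleComponents_iff] at h
    exact le_of_eq (h w hw)
  refine le_antisymm (Groth.FibreDim.fibreDimAt_le_of_specializes f hsp) ?_
  rw [(Groth.FibreDim.fibreDimAt_eq_height_of_max f ((Groth.FibreDim.isMax_asFiber_iff f x).mp hmax)).1]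
  exact Groth.Flatmor4.height_asFiber_le_fibreDimAt_of_specializes f hsp

end Groth.Agent.S9739
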