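import Groth.Statements.S9741
import Groth.Agent.OmegaSheaf.UnivThick.BaseChange
open Groth.OmegaSheaf.UnivThick

set_option autoImplicit false
universe u
open OmegaSh

namespace Groth.Agent.S9741

open AlgebraicGeometry CategoryTheory Limits in
/-- Let a : Z ⟶ Y and b : Y ⟶ X be formally unramified, let (i : Z ⟶ Z', c : Z' ⟶ X) be universal among
first order thickenings of Z relative to X (for a ≫ b), and (j : Y ⟶ Y', d : Y' ⟶ X) likewise for Y
relative to X (for b). Then there is a morphism of thickenings m : Z' ⟶ Y' over X (i ≫ m = a ≫ j and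
m ≫ d = c) such that Z ⟶ Y ×_{Y'} Z' (components a and i), together with the projection to Y, is
universal among first order thickenings of Z relative to Y (for a). The published statement also
asserts an exact sequence of conormal sheaves; this row states only the thickening assertion. -/
theorem result {Z Y X Z' Y' : Scheme.{u}} (a : Z ⟶ Y) (b : Y ⟶ X)
    [FormallyUnramified a] [FormallyUnramified b] (i : Z ⟶ Z') (c : Z' ⟶ X) (hZ : OmegaSh.IsUnivThickening (a ≫ b) i c)
    (j : Y ⟶ Y') (d : Y' ⟶ X) (hY : OmegaSh.IsUnivThickening b j d) :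
    ∃ (m : Z' ⟶ Y') (hm : i ≫ m = a ≫ j), m ≫ d = c ∧
      OmegaSh.IsUnivThickening a (pullback.lift a i hm.symm) (pullback.fst j m) := by
  obtain ⟨m, ⟨hm₁, hm₂⟩, hmu⟩ := hY.2.2 _ _ i c a hZ.1 hZ.2.1
  refine ⟨m, hm₁, hm₂, ?_, pullback.lift_fst _ _ _, fun T T' k b' a' hk hw ↦ ?_⟩
  · have := isClosedImmersion_of_fot hY.1
    refine fot_of_comp _ (pullback.snd j m) ?_
    rw [pullback.lift_snd]
    exact hZ.1
  obtain ⟨z, ⟨hz₁, hz₂⟩, hzu⟩ := hZ.2.2 T T' k (b' ≫ b) a' hk (by
    rw [← Category.assoc, hw, Category.assoc])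
  have hzm : b' ≫ j = z ≫ m := by
    refine (hY.2.2 T T' k (b' ≫ b) (a' ≫ a) hk ?_).unique ⟨?_, ?_⟩ ⟨?_, ?_⟩
    · rw [← Category.assoc, hw]
    · rw [← Category.assoc, hw]
    · rw [Category.assoc, hY.2.1]
    · rw [← Category.assoc, hz₁, Category.assoc, hm₁, Category.assoc]
    · rw [Category.assoc, hm₂, hz₂]
  refine ⟨pullback.lift b' z hzm, ⟨?_, pullback.lift_fst _ _ _⟩, fun e he ↦ ?_⟩
  · apply pullback.hom_ext
    · rw [Category.assoc, Category.assoc, pullback.lift_fst, pullback.lift_fst, hw]
    · rw [Category.assoc, Category.assoc, pullback.lift_snd, pullback.lift_snd, hz₁]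
  · apply pullback.hom_ext
    · rw [pullback.lift_fst]; exact he.2
    · rw [pullback.lift_snd]
      refine hzu _ ⟨?_, ?_⟩
      · rw [← Category.assoc, he.1, Category.assoc, pullback.lift_snd]
      · calc (e ≫ pullback.snd j m) ≫ c = e ≫ pullback.snd j m ≫ m ≫ d := by
              rw [hm₂, Category.assoc]
          _ = b' ≫ b := by
              rw [← pullback.condition_assoc, hY.2.1, ← Category.assoc, he.2]

end Groth.Agent.S9741
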