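import Groth.Statements.S9742
import Groth.Agent.RelFP.Ops

set_option autoImplicit false
universe u
open Flatn

namespace Groth.Agent.S9742

open AlgebraicGeometry CategoryTheory Limits in
/-- Given a morphism f : X ⟶ S that is locally of finite type and a quasi-coherent O_X-module F, the
module F is relatively finitely presented over S (the defining condition on some affine open covers)
if and only if, for every affine open V of S and every affine open U of X contained in the preimage
of V, the sections F(U) are finitely presented relative to Γ(V) through the induced ring map. The
published statement also asserts that, under these conditions, the restriction of F to any open of X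
mapping into an open V of S is of finite presentation relative to V; this row states only the
equivalence. -/
theorem result {X S : Scheme.{u}} (f : X ⟶ S) [LocallyOfFiniteType f] (F : X.Modules) [Coh.IsQCoh F] :
    Flatn.IsRelFP f F ↔
      ∀ (U : X.affineOpens) (V : S.affineOpens) (h : (U : X.Opens) ≤ f ⁻¹ᵁ (V : S.Opens)), Flatn.RelFPOn f F U V h := by
  exact Groth.RelFP.isRelFP_iff

end Groth.Agent.S9742
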