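import Groth.Statements.S9749
import Groth.Agent.RelFP.Ops

set_option autoImplicit false
universe u
open Flatn

namespace Groth.Agent.S9749

open AlgebraicGeometry CategoryTheory Limits in
/-- For f : X ⟶ S locally of finite type and quasi-coherent O_X-modules F, F', relative finite
presentation over S of the biproduct F ⊞ F' implies the same property for each summand. -/
theorem result {X S : Scheme.{u}} (f : X ⟶ S) [LocallyOfFiniteType f] (F F' : X.Modules) [Coh.IsQCoh F] [Coh.IsQCoh F']
    (h : Flatn.IsRelFP f (F ⊞ F')) : Flatn.IsRelFP f F ∧ Flatn.IsRelFP f F' := by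
  exact ⟨Groth.RelFP.isRelFP_of_retract f biprod.inl biprod.fst biprod.inl_fst h,
    Groth.RelFP.isRelFP_of_retract f biprod.inr biprod.snd biprod.inr_snd h⟩

end Groth.Agent.S9749
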