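import Groth.Statements.S9750
import Groth.Agent.OmegaSheaf.UnivThick.Basic
import Groth.Agent.OmegaSheaf.ConormalSections
import Groth.Agent.OmegaSheaf.PullChart
import Groth.Agent.FlatmorThree.FormalLift
open Groth.OmegaSheaf Groth.OmegaSheaf.UnivThick Groth.FlatmorThree.FormalLift

set_option autoImplicit false
universe u
open FlatMor

namespace Groth.Agent.S9750

open AlgebraicGeometry CategoryTheory Limits in
/-- (1) ⇔ (2) ⇔ (3): a morphism f : X ⟶ S is formally étale (unique infinitesimal lifting against
square-zero thickenings of affine schemes) if and only if f is formally unramified and X, through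
the identity and f, is its own universal square-zero (first order) thickening relative to f; and,
for f formally unramified with universal first order thickening data (i : X ⟶ X', h' : X' ⟶ S), f is
formally étale if and only if the conormal sheaf of i (the conormal sheaf of f) is zero. The
published statement also lists a fourth equivalent condition, the vanishing of both the sheaf of
differentials and the conormal sheaf; this row omits it. -/
theorem result {X S : Scheme.{u}} (f : X ⟶ S) :
    (MoreMor.IsFormallyEtaleHom f ↔ FormallyUnramified f ∧ OmegaSh.IsUnivThickening f (𝟙 X) f) ∧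
    (∀ {X' : Scheme.{u}} (i : X ⟶ X') (h' : X' ⟶ S) [QuasiCompact i], FormallyUnramified f →
      OmegaSh.IsUnivThickening f i h' → (MoreMor.IsFormallyEtaleHom f ↔ IsZero (Omega.conormal i))) := by
  have hfe : MoreMor.IsFormallyEtaleHom f → FormallyUnramified f ∧
      OmegaSh.IsUnivThickening f (𝟙 X) f := by
    intro hf
    refine ⟨formallyUnramified_of_isFormallyEtaleHom hf, fot_of_forall _ fun W _ x y hx _ ↦ ?_,
      Category.id_comp _, fun T T' k b a hk w ↦ ?_⟩
    · rw [show x = 0 from hx, zero_mul]
    · simpa only [Category.comp_id] using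
        (isFormallyEtaleHom_iff.mp hf).existsUnique_lift k hk a b w
  have hfe' : OmegaSh.IsUnivThickening f (𝟙 X) f → MoreMor.IsFormallyEtaleHom f := by
    intro hu A _ I hI a b w
    simpa only [Category.comp_id] using
      hu.2.2 _ _ _ b a (isFirstOrderThickening_specMap_mk I hI) w
  refine ⟨⟨hfe, fun h ↦ hfe' h.2⟩, fun {X'} i h' _ _ hu ↦ ?_⟩
  have := isClosedImmersion_of_fot hu.1
  have hiso : IsIso i ↔ IsZero (Omega.conormal i) := by
    refine ⟨fun _ ↦ ?_, fun hz ↦ ?_⟩
    · rw [IsZero.iff_id_eq_zero]
      refine conormal_hom_ext fun U k ↦ ?_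
      have hk : k = 0 := idealSect_injective _ _ (by
        rw [map_zero]
        exact (map_eq_zero_iff _ (ConcreteCategory.bijective_of_isIso (i.app U)).1).mp
          (app_idealSect i U k))
      rw [hk, map_zero, map_zero, map_zero]
    · rw [IsClosedImmersion.isIso_iff_ker_eq_bot]
      refine Scheme.IdealSheafData.ext (funext fun W ↦ ?_)
      rw [Scheme.IdealSheafData.ideal_bot, Pi.bot_apply, eq_bot_iff]
      intro x hx
      have hc : IsConormalChart i W.1 := ⟨W.2, W.2.preimage i, i.app_surjective W.1 W.2⟩
      obtain ⟨k, hk⟩ := exists_idealSect i.ker W hx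
      have h0 : OmegaSh.conormalSect i W.1 k = 0 := by
        have := congr((Scheme.Modules.Hom.app $((IsZero.iff_id_eq_zero _).mp hz) (i ⁻¹ᵁ W.1))
          (OmegaSh.conormalSect i W.1 k))
        simpa using this
      have h2 := (hc.conormalSect_eq_zero_iff k).mp h0
      rw [hk, pow_two] at h2
      refine (Ideal.mul_le.mpr fun a ha b hb ↦ ?_) h2
      exact Ideal.mem_bot.mpr (mul_eq_zero_of_app hu.1 ha hb)
  rw [← hiso]
  refine ⟨fun hf ↦ ?_, fun _ ↦ hfe' ?_⟩
  · obtain ⟨e, he, -⟩ := exists_iso hu (hfe hf).2
    rw [Category.id_comp] at he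
    rw [← he]
    infer_instance
  · obtain ⟨hi, hih, huniv⟩ := hu
    refine ⟨fot_of_forall _ fun W _ x y hx _ ↦ by rw [show x = 0 from hx, zero_mul],
      Category.id_comp _, fun T T' k b a hk w ↦ ?_⟩
    obtain ⟨a', ⟨h1, h2⟩, h3⟩ := huniv T T' k b a hk w
    refine ⟨a' ≫ inv i, ⟨?_, ?_⟩, fun l hl ↦ ?_⟩
    · rw [← Category.assoc, h1, Category.assoc, IsIso.hom_inv_id]
    · rw [← h2, Category.assoc, ← hih, IsIso.inv_hom_id_assoc]
    · rw [← h3 (l ≫ i) ⟨?_, ?_⟩, Category.assoc, IsIso.hom_inv_id, Category.comp_id]
      · rw [← Category.assoc, hl.1, Category.comp_id]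
      · rw [Category.assoc, hih, hl.2]

end Groth.Agent.S9750
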