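import Groth.Statements.S9751
import Groth.Agent.Flatmor4.SmoothDivisorScheme

set_option autoImplicit false
universe u
open FlatMor

namespace Groth.Agent.S9751

open AlgebraicGeometry CategoryTheory Limits in
/-- Let f : X ⟶ S be a morphism and x a point such that f is smooth on an open neighbourhood of x, and
such that the natural map from Ω_{O_{X,x}/O_{S,f x}} ⊗ κ(x) (the fibre at x of the sheaf of
differentials, equal to that of the fibre X_{f x}) to Ω_{κ(x)/κ(f x)} has a nonzero kernel. Then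
there are an affine open U ∋ x and a nonzerodivisor h' of Γ(X, U) vanishing at x such that the
closed subscheme V(h') of U, an effective Cartier divisor through x, is smooth over S. -/
theorem result {X S : Scheme.{u}} (f : X ⟶ S) (x : X)
    (W : X.Opens) (hxW : x ∈ W) (hW : Smooth (W.ι ≫ f))
    (hker : letI := (f.stalkMap x).hom.toAlgebra
      letI := ((IsLocalRing.residue ↑(X.presheaf.stalk x)).comp (f.stalkMap x).hom).toAlgebra
      haveI : IsScalarTower ↑(S.presheaf.stalk (f x)) ↑(X.presheaf.stalk x) (IsLocalRing.ResidueField ↑(X.presheaf.stalk x)) :=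
        IsScalarTower.of_algebraMap_eq (fun _ => rfl)
      LinearMap.ker (KaehlerDifferential.mapBaseChange ↑(S.presheaf.stalk (f x)) ↑(X.presheaf.stalk x)
        (IsLocalRing.ResidueField ↑(X.presheaf.stalk x))) ≠ ⊥) :
    ∃ (U : X.Opens) (hU : IsAffineOpen U) (hx : x ∈ U) (h' : Γ(X, U)), h' ∈ nonZeroDivisors Γ(X, U) ∧
      X.presheaf.germ U x hx h' ∈ IsLocalRing.maximalIdeal ↑(X.presheaf.stalk x) ∧
      Smooth (Spec.map (CommRingCat.ofHom (Ideal.Quotient.mk (Ideal.span {h'}))) ≫ hU.fromSpec ≫ f) := by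
  letI := (f.stalkMap x).hom.toAlgebra
  letI := ((IsLocalRing.residue ↑(X.presheaf.stalk x)).comp (f.stalkMap x).hom).toAlgebra
  haveI : IsScalarTower ↑(S.presheaf.stalk (f x)) ↑(X.presheaf.stalk x)
      (IsLocalRing.ResidueField ↑(X.presheaf.stalk x)) :=
    IsScalarTower.of_algebraMap_eq (fun _ => rfl)
  obtain ⟨h, hm, hd⟩ : ∃ h ∈ IsLocalRing.maximalIdeal ↑(X.presheaf.stalk x),
      (1 : IsLocalRing.ResidueField ↑(X.presheaf.stalk x)) ⊗ₜ[↑(X.presheaf.stalk x)]
        (KaehlerDifferential.D ↑(S.presheaf.stalk (f x)) ↑(X.presheaf.stalk x) h) ≠ 0 := by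
    by_contra H
    push Not at H
    refine hker (eq_bot_iff.mpr fun z hz => ?_)
    have hex := KaehlerDifferential.exact_kerCotangentToTensor_mapBaseChange
      ↑(S.presheaf.stalk (f x)) ↑(X.presheaf.stalk x)
      (IsLocalRing.ResidueField ↑(X.presheaf.stalk x)) IsLocalRing.residue_surjective
    obtain ⟨w, rfl⟩ := (hex z).mp hz
    obtain ⟨⟨w, hw⟩, rfl⟩ := Ideal.toCotangent_surjective _ w
    rw [Submodule.mem_bot, KaehlerDifferential.kerCotangentToTensor_toCotangent]
    exact H w ((IsLocalRing.residue_eq_zero_iff _).mp hw)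
  obtain ⟨U, hU, hx, h', hg, hnz, hsm⟩ :=
    Groth.Flatmor4.exists_smooth_divisor f x W hxW hW h hm hd
  exact ⟨U, hU, hx, h', hnz, hg ▸ hm, hsm⟩

end Groth.Agent.S9751
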