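import Groth.Statements.S9756
import Groth.Agent.Flatmor4.CMComp
import Groth.Agent.FlatMor2.FibCrit.SliceScheme

set_option autoImplicit false
universe u
open FlatMor

namespace Groth.Agent.S9756

open AlgebraicGeometry CategoryTheory Limits in
/-- Let f : X ⟶ S be locally of finite presentation and flat at a point x, and assume the local ring of
the fibre X_{f x} at x has depth at least 1. Then there are an affine open U ∋ x and a
nonzerodivisor h' of Γ(X, U) vanishing at x such that the closed subscheme V(h') of U, an effective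
Cartier divisor through x, is flat and locally of finite presentation over S. The published
statement concludes that V(h') ⟶ S is of finite presentation; this row concludes only that it is
flat and locally of finite presentation, which is what the published argument (slicing by a lift of
a fibrewise nonzerodivisor) yields, and which is equivalent when S is quasi-separated, V(h') being
affine. -/
theorem result {X S : Scheme.{u}} (f : X ⟶ S) [LocallyOfFinitePresentation f] (x : X)
    (hflat : (f.stalkMap x).hom.Flat)
    (hdepth : 1 ≤ LocCoh.depth ↑((f.fiber (f x)).presheaf.stalk (f.asFiber x)) ↑((f.fiber (f x)).presheaf.stalk (f.asFiber x))) :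
    ∃ (U : X.Opens) (hU : IsAffineOpen U) (hx : x ∈ U) (h' : Γ(X, U)), h' ∈ nonZeroDivisors Γ(X, U) ∧
      X.presheaf.germ U x hx h' ∈ IsLocalRing.maximalIdeal ↑(X.presheaf.stalk x) ∧
      Flat (Spec.map (CommRingCat.ofHom (Ideal.Quotient.mk (Ideal.span {h'}))) ≫ hU.fromSpec ≫ f) ∧
      LocallyOfFinitePresentation (Spec.map (CommRingCat.ofHom (Ideal.Quotient.mk (Ideal.span {h'}))) ≫ hU.fromSpec ≫ f) := by
  obtain ⟨E⟩ := Groth.Flatmor4.exists_fiberStalkEquiv f x
  haveI : LocallyOfFiniteType (f.fiberToSpecResidueField (f x)) :=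
    inferInstanceAs (LocallyOfFiniteType (pullback.snd f (S.fromSpecResidueField (f x))))
  haveI : IsLocallyNoetherian (f.fiber (f x)) :=
    LocallyOfFiniteType.isLocallyNoetherian (f.fiberToSpecResidueField (f x))
  set J := (IsLocalRing.maximalIdeal (S.presheaf.stalk (f x))).map (f.stalkMap x).hom with hJdef
  let A := (f.fiber (f x)).presheaf.stalk (f.asFiber x)
  rw [Groth.Ega4b.one_le_depth_iff] at hdepth
  have hex : ∃ a ∈ IsLocalRing.maximalIdeal A, a ∈ nonZeroDivisors A := by
    by_contra! hc
    have hsub : (IsLocalRing.maximalIdeal A : Set A) ⊆ ⋃ p ∈ (associatedPrimes.finite A A).toFinset, (p : Set A) := by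
      intro a ha
      have : a ∈ (nonZeroDivisors A : Set A)ᶜ := hc a ha
      rw [← biUnion_associatedPrimes_eq_compl_nonZeroDivisors] at this
      simpa using this
    obtain ⟨p, hp, hle⟩ := (Ideal.subset_union_prime (f := id) ⊥ ⊥
      (fun i hi _ _ => ((associatedPrimes.finite A A).mem_toFinset.mp hi).isPrime)).mp hsub
    rw [Set.Finite.mem_toFinset] at hp
    rw [show IsLocalRing.maximalIdeal A = p from
      (IsLocalRing.maximalIdeal.isMaximal A).eq_of_le hp.isPrime.ne_top hle] at hdepth
    exact hdepth hp
  obtain ⟨a, ham, har⟩ := hex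
  obtain ⟨b, hb⟩ := Ideal.Quotient.mk_surjective (E.symm a)
  have hreg : Ideal.Quotient.mk J b ∈ nonZeroDivisors (X.presheaf.stalk x ⧸ J) := by
    rw [hb]
    refine mem_nonZeroDivisors_iff_right.mpr fun z hz => ?_
    have h2 := congrArg E hz
    rw [map_mul, E.apply_symm_apply, map_zero] at h2
    exact E.map_eq_zero_iff.mp (mem_nonZeroDivisors_iff_right.mp har _ h2)
  have hbm : b ∈ IsLocalRing.maximalIdeal (X.presheaf.stalk x) := fun hu =>
    ham (by rw [← E.apply_symm_apply a, ← hb]; exact (hu.map _).map E)
  obtain ⟨U, hU, hx, h', hg, h1, h2, h3⟩ :=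
    Groth.FlatMor2.FibCrit.exists_slice f x hflat b hbm hreg
  exact ⟨U, hU, hx, h', h1, hg ▸ hbm, h2, h3⟩

end Groth.Agent.S9756
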