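import Groth.Statements.S9759
import Groth.Agent.FlatMorOne.FlatLocusModelFlat

set_option autoImplicit false
universe u
open FlatMor

namespace Groth.Agent.S9759

open AlgebraicGeometry CategoryTheory Limits in
/-- Let f : X ⟶ S be a flat morphism of finite presentation between affine schemes. Then f is the base
change of a morphism of finite type f₀ : X₀ ⟶ S₀ between affine schemes with S₀ of finite type over
ℤ and f₀ flat. -/
theorem result {X S : Scheme.{u}} (f : X ⟶ S) [IsAffine X] [IsAffine S] [LocallyOfFinitePresentation f] [Flat f] :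
    ∃ (X₀ S₀ : Scheme.{u}) (f₀ : X₀ ⟶ S₀) (g : S ⟶ S₀) (g' : X ⟶ X₀), IsAffine X₀ ∧ IsAffine S₀ ∧ IsPullback g' f f₀ g ∧
      Algebra.FiniteType ℤ Γ(S₀, ⊤) ∧ LocallyOfFiniteType f₀ ∧ Flat f₀ := by
  algebraize [f.appTop.hom]
  have : Algebra.FinitePresentation Γ(S, ⊤) Γ(X, ⊤) :=
    (HasRingHomProperty.iff_of_isAffine (P := @LocallyOfFinitePresentation)).mp ‹_›
  have : Module.Flat Γ(S, ⊤) Γ(X, ⊤) :=
    (HasRingHomProperty.iff_of_isAffine (P := @Flat)).mp ‹_›
  obtain ⟨R₁, _, _, S₁, _, _, _, _, _, _, hZ, hft, hflat, hpush⟩ :=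
    Groth.FlatMorOne.exists_flat_model_algebra Γ(S, ⊤) Γ(X, ⊤)
  let φ : CommRingCat.of R₁ ⟶ CommRingCat.of S₁ := CommRingCat.ofHom (algebraMap R₁ S₁)
  have hP : IsPullback
      (Spec.map (CommRingCat.ofHom (algebraMap S₁ Γ(X, ⊤))))
      (Spec.map f.appTop)
      (Spec.map φ) (Spec.map (CommRingCat.ofHom (algebraMap R₁ Γ(S, ⊤)))) := by
    refine isPullback_SpecMap_of_isPushout _ _ _ _ ?_
    exact (CommRingCat.isPushout_iff_isPushout.mpr hpush).flip
  refine ⟨Spec (.of S₁), Spec (.of R₁), Spec.map φ,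
    S.isoSpec.hom ≫ Spec.map (CommRingCat.ofHom (algebraMap R₁ Γ(S, ⊤))),
    X.isoSpec.hom ≫ Spec.map (CommRingCat.ofHom (algebraMap S₁ Γ(X, ⊤))), inferInstance, inferInstance, ?_, ?_, ?_, ?_⟩
  · refine IsPullback.of_iso hP X.isoSpec.symm (Iso.refl _) S.isoSpec.symm (Iso.refl _) ?_ ?_ ?_ ?_
    · simp
    · simp [Scheme.isoSpec_inv_naturality]
    · simp
    · simp
  · let e := (Scheme.ΓSpecIso (.of R₁)).commRingCatIsoToRingEquiv
    exact Algebra.FiniteType.of_surjective (e.symm.toRingHom.toIntAlgHom) e.symm.surjective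
  · exact (HasRingHomProperty.Spec_iff (P := @LocallyOfFiniteType)).mpr (RingHom.finiteType_algebraMap.mpr hft)
  · exact (HasRingHomProperty.Spec_iff (P := @Flat)).mpr (RingHom.flat_algebraMap_iff.mpr hflat)

end Groth.Agent.S9759
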