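import Groth.Statements.S9762
import Groth.Agent.Flatmor4.QuasiFiniteSplit

set_option autoImplicit false
universe u
open FlatMor

namespace Groth.Agent.S9762

open AlgebraicGeometry CategoryTheory Limits in
/-- For f : X ⟶ S separated and locally of finite type, and a point s of S such that only finitely many
points of the fibre over s are isolated, some elementary étale neighbourhood (U, u) of (S, s) admits
an open and closed V ⊆ U ×_S X, finite over U, such that no point of the fibre over u lying outside
V is isolated in that fibre. The published statement also asserts that the complement of V has empty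
fibre over u when the fibre over s is finite; this row omits that clause. -/
theorem result {X S : Scheme.{u}} (f : X ⟶ S) [LocallyOfFiniteType f] [IsSeparated f] (s : S)
    (hfin : {x : ↑(f.fiber s) | IsOpen ({x} : Set ↑(f.fiber s))}.Finite) :
    ∃ (U : Scheme.{u}) (g : U ⟶ S) (u : U), Hens2.IsEtaleNbhd g u s ∧
      ∃ V : (pullback f g).Opens, IsClopen (V : Set ↑(pullback f g)) ∧ IsFinite (V.ι ≫ pullback.snd f g) ∧
        ∀ w : ↑((pullback.snd f g).fiber u), (pullback.snd f g).fiberι u w ∉ V →
          ¬ IsOpen ({w} : Set ↑((pullback.snd f g).fiber u)) := by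
  have hqf : ∀ y : ↑(f.fiber s), IsOpen ({y} : Set ↑(f.fiber s)) → f.QuasiFiniteAt (f.fiberι s y) := by
    intro y hy
    have hs : f (f.fiberι s y) = s := by
      have := Set.mem_range_self (f := f.fiberι s) y
      rwa [f.range_fiberι] at this
    suffices ∀ (x : X) (s : S), f x = s → ∀ y : ↑(f.fiber s), f.fiberι s y = x →
        IsOpen ({y} : Set ↑(f.fiber s)) → f.QuasiFiniteAt x from this _ s hs y rfl hy
    rintro x _ rfl y hyx hy
    rw [Scheme.Hom.quasiFiniteAt_iff_isOpen_singleton_asFiber]
    convert hy
    exact (f.fiberι _).isEmbedding.injective ((f.fiberι_asFiber _).trans hyx.symm)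
  let ι := {x : ↑(f.fiber s) | IsOpen ({x} : Set ↑(f.fiber s))}
  have : Finite ι := hfin.to_subtype
  have hs : ∀ y : ι, f (f.fiberι s y.1) = s := fun y => by
    have := Set.mem_range_self (f := f.fiberι s) y.1
    rwa [f.range_fiberι] at this
  obtain ⟨U, g, u, hu, hsplit⟩ := Groth.Flatmor4.exists_split f s (fun y : ι => f.fiberι s y.1) hs
    (fun y => hqf y.1 y.2)
  choose V v hvV hVfin hvx hvu huniq using hsplit
  have hclosed : ∀ i, IsClosed (V i : Set ↑(pullback f g)) := fun i =>
    have := hVfin i
    Groth.Flatmor4.isClosed_of_isFinite_comp (pullback.snd f g) (V i)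
  have hcl : IsClopen ((⨆ i, V i : (pullback f g).Opens) : Set ↑(pullback f g)) := by
    refine ⟨?_, (⨆ i, V i).2⟩
    rw [TopologicalSpace.Opens.coe_iSup]
    exact isClosed_iUnion_of_finite hclosed
  refine ⟨U, g, u, hu, ⨆ i, V i, hcl, ?_, fun w hwV hw => ?_⟩
  · exact Groth.Flatmor4.isFinite_iSup (pullback.snd f g) V hVfin
  · have hbij := hu.residue_bijective
    have := hu.base_eq
    change g u = s at this
    subst this
    have hP := isPullback_fiberToSpecResidueField_of_isPullback (IsPullback.of_hasPullback f g) u
    have : IsIso (g.residueFieldMap u) := (ConcreteCategory.isIso_iff_bijective _).mpr hbij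
    let q : (pullback.snd f g).fiber u ⟶ f.fiber (g u) :=
      pullback.map _ _ _ _ (pullback.fst f g) (Spec.map (g.residueFieldMap u)) g
        pullback.condition.symm (by simp)
    have : IsIso q := hP.isIso_fst_of_isIso
    have hqw : IsOpen ({q w} : Set ↑(f.fiber (g u))) := by
      have := q.homeomorph.isOpen_image.mpr hw
      simpa using this
    have hfx : pullback.fst f g ((pullback.snd f g).fiberι u w) = f.fiberι (g u) (q w) := by
      have e : (pullback.snd f g).fiberι u ≫ pullback.fst f g = q ≫ f.fiberι (g u) :=
        (pullback.lift_fst _ _ _).symm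
      exact congr($e w)
    have hsnd : pullback.snd f g ((pullback.snd f g).fiberι u w) = u := by
      have := Set.mem_range_self (f := (pullback.snd f g).fiberι u) w
      rwa [(pullback.snd f g).range_fiberι] at this
    refine hwV (TopologicalSpace.Opens.mem_iSup.mpr ⟨⟨q w, hqw⟩, ?_⟩)
    have : (pullback.snd f g).fiberι u w = v ⟨q w, hqw⟩ :=
      Groth.Flatmor4.eq_of_residueFieldMap_bijective (hfx.trans (hvx ⟨q w, hqw⟩).symm)
        (hsnd.trans (hvu _).symm) (hsnd.symm ▸ hbij)
    rw [this]
    exact hvV _

end Groth.Agent.S9762
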