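import Groth.Statements.S9770
import Groth.Agent.Flatmor4.UnivOpenDescent

set_option autoImplicit false
universe u
open CategoryTheory AlgebraicGeometry
open FlatMor

namespace Groth.Agent.S9770

/-- Let S = lim S_i be a cofiltered limit of schemes with affine transition morphisms, i₀ an index with
S_{i₀} quasi-compact and quasi-separated, and f₀ : X₀ ⟶ Y₀ a morphism of schemes over S_{i₀} with X₀
and Y₀ quasi-compact and quasi-separated and f₀ locally of finite presentation. Write f : X ⟶ Y for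
the pullback of f₀ along S ⟶ S_{i₀} (all base changes given by pullback squares). Assuming f is
universally open and locally quasi-finite (with locally of finite type, as the book's notion
includes), there is a stage S_i over S_{i₀} where the pulled-back morphism f_i : X_i ⟶ Y_i already
has both properties. -/
theorem result {I : Type u} [SmallCategory I] [IsCofiltered I]
    (D : I ⥤ Scheme.{u}) (c : Limits.Cone D) (hc : Limits.IsLimit c)
    [∀ (i j : I) (φ : i ⟶ j), IsAffineHom (D.map φ)] (i₀ : I) [CompactSpace (D.obj i₀)] [QuasiSeparatedSpace (D.obj i₀)]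
    {X₀ Y₀ : Scheme.{u}} (f₀ : X₀ ⟶ Y₀) (g₀ : Y₀ ⟶ D.obj i₀) [CompactSpace X₀] [QuasiSeparatedSpace X₀]
    [CompactSpace Y₀] [QuasiSeparatedSpace Y₀] [LocallyOfFinitePresentation f₀]
    {X Y : Scheme.{u}} (f : X ⟶ Y) (g : Y ⟶ c.pt) (qY : Y ⟶ Y₀) (qX : X ⟶ X₀)
    (hY : IsPullback qY g g₀ (c.π.app i₀)) (hX : IsPullback qX f f₀ qY)
    [LocallyQuasiFinite f] [LocallyOfFiniteType f] [UniversallyOpen f] :
    ∃ (i : I) (φ : i ⟶ i₀) (Xi Yi : Scheme.{u}) (fi : Xi ⟶ Yi) (gi : Yi ⟶ D.obj i) (pY : Yi ⟶ Y₀) (pX : Xi ⟶ X₀),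
      IsPullback pY gi g₀ (D.map φ) ∧ IsPullback pX fi f₀ pY ∧ LocallyQuasiFinite fi ∧ LocallyOfFiniteType fi ∧ UniversallyOpen fi := by
  exact Groth.Flatmor4.exists_locallyQuasiFinite_universallyOpen_stage D hc hY hX

end Groth.Agent.S9770
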