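import Groth.Statements.S9773
import Groth.Agent.KoszulReg.Weakly
import Mathlib.AlgebraicGeometry.Morphisms.ClosedImmersion
import Mathlib.AlgebraicGeometry.Morphisms.Smooth
-- import your own Groth.Agent.* helpers here

set_option autoImplicit false
universe u
open FlatMor

namespace Groth.Agent.S9773

open AlgebraicGeometry CategoryTheory Limits in
/-- A regular immersion of schemes, and likewise a Koszul-regular immersion, is a local complete
intersection morphism (Koszul at every point). -/
theorem result {Z X : Scheme.{u}} (i : Z ⟶ X) (k : RegImm.Kind)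
    (hk : k = RegImm.Kind.regular ∨ k = RegImm.Kind.koszul) (hi : RegImm.IsRegularImmersion k i) (z : Z) :
    Synt.IsKoszulAt i z := by
  have hi' : RegImm.IsRegularImmersion .koszul i := by
    refine ⟨hi.1, fun z => ?_⟩
    obtain ⟨U, hzU, hci, rs, hrs, hker⟩ := hi.2 z
    rcases hk with rfl | rfl
    · exact ⟨U, hzU, hci, rs,
        Groth.KoszulReg.isKoszulRegularSeq_of_isWeaklyRegular hrs.toIsWeaklyRegular, hker⟩
    · exact ⟨U, hzU, hci, rs, hrs, hker⟩
  have : IsImmersion i := hi'.1
  have htop : IsIso (⊤ : Z.Opens).ι := inferInstanceAs (IsIso Z.topIso.hom)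
  have hci₀ : IsClosedImmersion (⊤ : Z.Opens).ι := inferInstance
  refine ⟨⊤, X, (⊤ : Z.Opens).ι ≫ i, 𝟙 X, trivial, inferInstance, ?_, inferInstance,
    Category.comp_id _⟩
  refine ⟨inferInstance, fun w => ?_⟩
  obtain ⟨U, hwU, hci, rs, hrs, hker⟩ := hi'.2 ((⊤ : Z.Opens).ι w)
  refine ⟨U, hwU, ?_, rs, hrs, ?_⟩
  · rw [morphismRestrict_comp]
    exact MorphismProperty.comp_mem _ _ _
      (IsZariskiLocalAtTarget.restrict (P := @IsClosedImmersion) hci₀ _) hci
  · change RingHom.ker (((⊤ : Z.Opens).ι.app (i ⁻¹ᵁ U.1)).hom.comp (i.app U.1).hom) = _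
    rw [← RingHom.comap_ker, ← hker]
    have hinj : Function.Injective ((⊤ : Z.Opens).ι.app (i ⁻¹ᵁ U.1)).hom :=
      (ConcreteCategory.bijective_of_isIso _).1
    rw [(RingHom.injective_iff_ker_eq_bot _).mp hinj]
    rfl

end Groth.Agent.S9773
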