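import Groth.Statements.S9775
import Groth.Agent.KoszulLCI.RegularFactor
import Groth.Agent.KoszulLCI.SchemeBaseChange

set_option autoImplicit false
universe u
open FlatMor

namespace Groth.Agent.S9775

open AlgebraicGeometry CategoryTheory Limits in
/-- Let S be a locally Noetherian scheme, g : Y ⟶ S locally of finite type with Y regular (all local
rings regular), f : X ⟶ Y a morphism, and assume the composite f ≫ g is Koszul at every point of X
(a local complete intersection morphism). Then f is Koszul at every point of X, and g is Koszul at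
the point f x for each x ∈ X. -/
theorem result {X Y S : Scheme.{u}} (f : X ⟶ Y) (g : Y ⟶ S) [IsLocallyNoetherian S] [LocallyOfFiniteType g]
    (hY : Models.IsRegularScheme Y) (h : ∀ x : X, Synt.IsKoszulAt (f ≫ g) x) :
    (∀ x : X, Synt.IsKoszulAt f x) ∧ ∀ x : X, Synt.IsKoszulAt g (f x) := by
  have h' := Groth.KoszulLCI.morLCI_of_isKoszulAt _ h
  have := LocallyOfFiniteType.isLocallyNoetherian g
  have key : ∀ x : X, ∃ (V : Y.affineOpens) (U : X.affineOpens) (_ : x ∈ U.1) (e : U.1 ≤ f ⁻¹ᵁ V.1),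
      Groth.KoszulLCI.RingLCI (f.appLE V.1 U.1 e).hom ∧ Synt.IsKoszulAt g (f x) := by
    intro x
    obtain ⟨W, hW, hxW, -⟩ := exists_isAffineOpen_mem_and_subset
      (show g (f x) ∈ (⊤ : S.Opens) from trivial)
    obtain ⟨V, hV, hxV, hVW'⟩ := exists_isAffineOpen_mem_and_subset (show f x ∈ g ⁻¹ᵁ W from hxW)
    have hVW : V ≤ g ⁻¹ᵁ W := hVW'
    obtain ⟨U, hU, hxU, hUV'⟩ := exists_isAffineOpen_mem_and_subset (show x ∈ f ⁻¹ᵁ V from hxV)
    have hUV : U ≤ f ⁻¹ᵁ V := hUV'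
    have hUW : U ≤ (f ≫ g) ⁻¹ᵁ W := hUV.trans (f.preimage_mono hVW)
    let _ := (g.appLE W V hVW).hom.toAlgebra
    let _ := (f.appLE V U hUV).hom.toAlgebra
    let _ := ((f ≫ g).appLE W U hUW).hom.toAlgebra
    have : IsScalarTower Γ(S, W) Γ(Y, V) Γ(X, U) := IsScalarTower.of_algebraMap_eq' (by
      change ((f ≫ g).appLE _ _ _).hom = (f.appLE _ _ _).hom.comp (g.appLE _ _ _).hom
      rw [← CommRingCat.hom_comp, Scheme.Hom.appLE_comp_appLE])
    have : IsNoetherianRing Γ(S, W) := IsLocallyNoetherian.component_noetherian ⟨W, hW⟩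
    have : IsNoetherianRing Γ(Y, V) := IsLocallyNoetherian.component_noetherian ⟨V, hV⟩
    have : IsRegularRing Γ(Y, V) := IsRegularRing.mk fun p _ => by
      let _ := (Y.presheaf.germ V (hV.fromSpec ⟨p, inferInstance⟩) (hV.range_fromSpec.le ⟨_, rfl⟩)).hom.toAlgebra
      have : IsLocalization p.primeCompl (Y.presheaf.stalk (hV.fromSpec ⟨p, inferInstance⟩)) :=
        hV.isLocalization_stalk' ⟨p, inferInstance⟩ (hV.range_fromSpec.le ⟨_, rfl⟩)
      have := hY (hV.fromSpec ⟨p, inferInstance⟩)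
      exact IsRegularLocalRing.of_ringEquiv (IsLocalization.algEquiv p.primeCompl
        (Y.presheaf.stalk (hV.fromSpec ⟨p, inferInstance⟩)) (Localization.AtPrime p)).toRingEquiv
    have : Algebra.FiniteType Γ(S, W) Γ(Y, V) :=
      HasRingHomProperty.appLE (P := @LocallyOfFiniteType) g ‹_› ⟨W, hW⟩ ⟨V, hV⟩ hVW
    have hAC := (Groth.KoszulLCI.morLCI_iff _).mp h' U W hU hW hUW
    have := hAC.1
    have : Algebra.FiniteType Γ(Y, V) Γ(X, U) := .of_restrictScalars_finiteType Γ(S, W) _ _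
    obtain ⟨hBC, hAB⟩ := Groth.KoszulLCI.isLCI_factor_regular (B := Γ(Y, V)) hAC
    refine ⟨⟨V, hV⟩, ⟨U, hU⟩, hxU, hUV, hBC, ?_⟩
    obtain ⟨g₀, hg₀, hg₀'⟩ := hAB (hU.primeIdealOf ⟨x, hxU⟩).asIdeal
    let D := Y.basicOpen g₀
    have hD : IsAffineOpen D := hV.basicOpen g₀
    have hxD : f x ∈ D := by
      have h2 : hV.primeIdealOf ⟨f x, hxV⟩ ∈ PrimeSpectrum.basicOpen g₀ := by
        show g₀ ∉ (hV.primeIdealOf ⟨f x, hxV⟩).asIdeal
        rw [← IsAffineOpen.comap_primeIdealOf_appLE V hV U hU hUV hxU]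
        exact hg₀
      rw [← hV.fromSpec_preimage_basicOpen g₀] at h2
      have h3 : hV.fromSpec (hV.primeIdealOf ⟨f x, hxV⟩) ∈ D := h2
      rwa [hV.fromSpec_primeIdealOf] at h3
    have hDW : D ≤ g ⁻¹ᵁ W := (Y.basicOpen_le g₀).trans hVW
    have hring : Groth.KoszulLCI.RingLCI (g.appLE W D hDW).hom := by
      have := hV.isLocalization_basicOpen g₀
      let _ := (g.appLE W D hDW).hom.toAlgebra
      have : IsScalarTower Γ(S, W) Γ(Y, V) Γ(Y, D) := IsScalarTower.of_algebraMap_eq' (by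
        change (g.appLE _ _ _).hom = ((g.appLE _ _ hVW) ≫ Y.presheaf.map (homOfLE (Y.basicOpen_le g₀)).op).hom
        rw [Scheme.Hom.appLE_map])
      exact Groth.KoszulLCI.isLCI_of_algEquiv
        ((IsLocalization.algEquiv (Submonoid.powers g₀) (Localization.Away g₀) Γ(Y, D)).restrictScalars Γ(S, W))
        hg₀'
    have hDg : Groth.KoszulLCI.MorLCI (D.ι ≫ g) := by
      rw [← hD.isoSpec_hom_fromSpec, Category.assoc, ← hW.SpecMap_appLE_fromSpec g hD hDW,
        MorphismProperty.cancel_left_of_respectsIso (P := Groth.KoszulLCI.MorLCI)]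
      exact MorphismProperty.comp_mem _ _ _
        ((HasRingHomProperty.Spec_iff (P := Groth.KoszulLCI.MorLCI)).mpr hring)
        (Groth.KoszulLCI.morLCI_of_smooth _)
    obtain ⟨U', P, i, π, hx', hft, hi, hπ, hfac⟩ := Groth.KoszulLCI.isKoszulAt_of_morLCI (D.ι ≫ g) hDg ⟨f x, hxD⟩
    have hfac' : ((D.ι.isoImage U').inv ≫ i) ≫ π = (D.ι ''ᵁ U').ι ≫ g := by
      rw [Category.assoc, hfac, ← Scheme.Hom.isoImage_inv_ι]
      simp
    refine ⟨D.ι ''ᵁ U', P, (D.ι.isoImage U').inv ≫ i, π, ⟨⟨f x, hxD⟩, hx', rfl⟩, inferInstance, ?_, hπ, hfac'⟩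
    obtain ⟨hi₁, hi₂⟩ := (Groth.KoszulLCI.isRegularImmersion_koszul_iff i).mp hi
    exact (Groth.KoszulLCI.isRegularImmersion_koszul_iff _).mpr ⟨inferInstance,
      (MorphismProperty.cancel_left_of_respectsIso (P := Groth.KoszulLCI.MorLCI) _ _).mpr hi₂⟩
  refine ⟨Groth.KoszulLCI.isKoszulAt_of_morLCI f ?_, fun x => ?_⟩
  · rw [Groth.KoszulLCI.morLCI_iff_exists]
    intro x
    obtain ⟨V, U, hxU, e, hl, -⟩ := key x
    exact ⟨V, U, hxU, e, hl⟩
  · obtain ⟨_, _, _, _, _, hk⟩ := key x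
    exact hk

end Groth.Agent.S9775
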