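import Groth.Statements.S9779
import Groth.Agent.SchemeMorphisms.Points
import Groth.Agent.Flatmor4.CurveCut

set_option autoImplicit false
universe u
open FlatMor

namespace Groth.Agent.S9779

open AlgebraicGeometry CategoryTheory Limits in
/-- Suppose S is locally Noetherian and the morphism f : X ⟶ S is locally of finite type; take x a point
of X closed in its fibre, and U ⊆ X an open subscheme not meeting the fibre through x but with x in
the closure of U. Then there is a closed subscheme Z of X passing through x such that Z ⟶ S is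
quasi-finite at x and Z contains a point z of U specializing to x with f z ≠ f x. -/
theorem result {X S : Scheme.{u}} (f : X ⟶ S) [LocallyOfFiniteType f] [IsLocallyNoetherian S] (x : X)
    (hcl : IsClosed (Subtype.val ⁻¹' {x} : Set ↑(f ⁻¹' {f x}))) (U : X.Opens)
    (hU : ∀ x' ∈ U, f x' ≠ f x) (hxU : x ∈ closure (U : Set ↑X)) :
    ∃ (I : X.IdealSheafData) (z₀ x₀ : ↑I.subscheme), I.subschemeι x₀ = x ∧ (I.subschemeι ≫ f).QuasiFiniteAt x₀ ∧
      I.subschemeι z₀ ∈ U ∧ I.subschemeι z₀ ⤳ x ∧ f (I.subschemeι z₀) ≠ f x := by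
  classical
  obtain ⟨W, hW, hxW, -⟩ := exists_isAffineOpen_mem_and_subset (U := ⊤) (x := f x) trivial
  obtain ⟨V, hV, hxV, hVW⟩ := exists_isAffineOpen_mem_and_subset (U := f ⁻¹ᵁ W) (x := x) hxW
  haveI : IsLocallyNoetherian X := LocallyOfFiniteType.isLocallyNoetherian f
  haveI : IsNoetherianRing Γ(X, V) := IsLocallyNoetherian.component_noetherian ⟨V, hV⟩
  let q : PrimeSpectrum Γ(X, V) := hV.primeIdealOf ⟨x, hxV⟩
  have heq : hV.fromSpec q = x := hV.fromSpec_primeIdealOf ⟨x, hxV⟩
  have hoe := hV.fromSpec.isOpenEmbedding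
  let O : Set (PrimeSpectrum Γ(X, V)) := hV.fromSpec ⁻¹' (U : Set X)
  have hq : q ∈ closure O := by
    rw [show closure O = hV.fromSpec ⁻¹' closure (U : Set X) from
      (hoe.isOpenMap.preimage_closure_eq_closure_preimage hoe.continuous _).symm]
    show hV.fromSpec q ∈ closure (U : Set X)
    rwa [heq]
  obtain ⟨P, hP, hPq, hbtw⟩ := Groth.Flatmor4.exists_mem_le_forall_not_between
    (U.isOpen.preimage hoe.continuous) hq
  let z : X := hV.fromSpec P
  have hzx : z ⤳ x := heq ▸ ((PrimeSpectrum.le_iff_specializes P q).mp hPq).map hoe.continuous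
  let C : TopologicalSpace.Closeds X := ⟨closure {z}, isClosed_closure⟩
  let I : X.IdealSheafData := Scheme.IdealSheafData.vanishingIdeal C
  have hrange : Set.range I.subschemeι = closure {z} := by
    rw [Scheme.IdealSheafData.range_subschemeι]
    simp [I, C]
  obtain ⟨z₀, hz₀⟩ := hrange.ge (subset_closure rfl)
  obtain ⟨x₀, hx₀⟩ := hrange.ge hzx.mem_closure
  have hzU : z ∈ U := hP
  refine ⟨I, z₀, x₀, hx₀, ?_, by rwa [hz₀], by rwa [hz₀], by rw [hz₀]; exact hU z hzU⟩
  let g : I.subscheme ⟶ S := I.subschemeι ≫ f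
  rw [Scheme.Hom.quasiFiniteAt_iff_isOpen_singleton_asFiber]
  haveI := Groth.SchemeMorphisms.isLocallyNoetherian_fiber g (g x₀)
  have hgx : g x₀ = f x := by simp [g, hx₀]
  have hpt : ∀ y : g.fiber (g x₀), f (I.subschemeι (g.fiberι _ y)) = f x := by
    intro y
    have h : g.fiberι _ y ∈ g ⁻¹' {g x₀} := g.range_fiberι _ ▸ ⟨y, rfl⟩
    simpa [g, hx₀] using h
  have hinj : ∀ y : g.fiber (g x₀), I.subschemeι (g.fiberι _ y) = x → y = g.asFiber x₀ := by
    intro y hy
    apply (g.fiberι (g x₀)).isEmbedding.injective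
    rw [g.fiberι_asFiber]
    exact I.subschemeι.isEmbedding.injective (hy.trans hx₀.symm)
  apply Groth.SchemeMorphisms.isOpen_singleton_of_isClosed_of_forall_specializes
  · obtain ⟨K, hK, hKeq⟩ := isClosed_induced_iff.mp hcl
    have : ({g.asFiber x₀} : Set (g.fiber (g x₀))) =
        (fun y => I.subschemeι (g.fiberι _ y)) ⁻¹' K := by
      ext y
      constructor
      · rintro rfl
        show I.subschemeι (g.fiberι _ (g.asFiber x₀)) ∈ K
        rw [g.fiberι_asFiber, hx₀]
        exact (Set.ext_iff.mp hKeq ⟨x, rfl⟩).mpr rfl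
      · intro hy
        exact hinj y ((Set.ext_iff.mp hKeq ⟨_, hpt y⟩).mp hy)
    rw [this]
    exact hK.preimage (I.subschemeι.continuous.comp (g.fiberι _).continuous)
  · intro y hy
    apply hinj
    let w : X := I.subschemeι (g.fiberι _ y)
    have hwx : w ⤳ x := by
      have h := hy.map (I.subschemeι.continuous.comp (g.fiberι _).continuous)
      have e : I.subschemeι (g.fiberι (g x₀) (g.asFiber x₀)) = x := by
        rw [g.fiberι_asFiber, hx₀]
      exact e ▸ h
    have hzw : z ⤳ w := specializes_iff_mem_closure.mpr (hrange.le ⟨_, rfl⟩)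
    obtain ⟨Q, hQ⟩ : ∃ Q : PrimeSpectrum Γ(X, V), hV.fromSpec Q = w := by
      have : w ∈ V := hwx.mem_open V.isOpen hxV
      rwa [← SetLike.mem_coe, ← hV.range_fromSpec] at this
    have hPQ : P ≤ Q := by
      refine (PrimeSpectrum.le_iff_specializes P Q).mpr (hoe.isInducing.specializes_iff.mp ?_)
      exact hQ ▸ hzw
    have hQq : Q ≤ q := by
      refine (PrimeSpectrum.le_iff_specializes Q q).mpr (hoe.isInducing.specializes_iff.mp ?_)
      exact hQ.symm ▸ heq.symm ▸ hwx
    show w = x
    have hne : P ≠ Q := by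
      rintro rfl
      exact hU z hzU ((congrArg (fun t => f t) hQ).trans (hpt y))
    rcases eq_or_lt_of_le hQq with rfl | hlt
    · exact hQ.symm.trans heq
    · exact (hbtw Q (lt_of_le_of_ne hPQ hne) hlt).elim

end Groth.Agent.S9779
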