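import Groth.Statements.S9785
import Groth.Agent.OmegaSheaf.UnivThick.TransMono
open Groth.OmegaSheaf Groth.OmegaSheaf.UnivThick

set_option autoImplicit false
universe u
open OmegaSh

namespace Groth.Agent.S9785

open AlgebraicGeometry CategoryTheory Limits in
/-- Let i : Z ⟶ Y and b : Y ⟶ X be formally unramified, let (i' : Z ⟶ Z', c) be a first order thickening
over X that is universal for i ≫ b, (j : Y ⟶ Y', d) one universal for b, m : Z' ⟶ Y' the morphism of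
thickenings over X compatible with i, (i'' : Z ⟶ Z'', e) a first order thickening over Y that is
universal for i, and n : Z'' ⟶ Z' the morphism of thickenings over X extending the identity of Z.
Let ψ₁ : i^*C_{Y/Y'} ⟶ C_{Z/Z'} and ψ₂ : C_{Z/Z'} ⟶ C_{Z/Z''} be the canonical maps of conormal
sheaves induced by (i, m) and (id, n); these are the conormal sheaves C_{Y/X}, C_{Z/X}, C_{Z/Y} of
the formally unramified morphisms and the canonical maps between them. Assume moreover that i is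
Koszul at every point of Z, i.e. i is lci. Then 0 ⟶ i^*C_{Y/X} ⟶ C_{Z/X} ⟶ C_{Z/Y} ⟶ 0 is a short
exact sequence. -/
theorem result {Z Y X Z' Y' Z'' : Scheme.{u}} (i : Z ⟶ Y) (b : Y ⟶ X)
    [FormallyUnramified i] [FormallyUnramified b]
    (i' : Z ⟶ Z') (c : Z' ⟶ X) (hZ' : OmegaSh.IsUnivThickening (i ≫ b) i' c)
    (j : Y ⟶ Y') (d : Y' ⟶ X) (hY' : OmegaSh.IsUnivThickening b j d)
    (m : Z' ⟶ Y') (hm₁ : i' ≫ m = i ≫ j) (hm₂ : m ≫ d = c)
    (i'' : Z ⟶ Z'') (e : Z'' ⟶ Y) (hZ'' : OmegaSh.IsUnivThickening i i'' e)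
    (n : Z'' ⟶ Z') (hn₁ : i'' ≫ n = i') (hn₂ : n ≫ c = e ≫ b)
    (ψ₁ : (Scheme.Modules.pullback i).obj (Omega.conormal j) ⟶ Omega.conormal i') (hψ₁ : OmegaSh.IsConormalMap i' j m i ψ₁)
    (ψ₂ : (Scheme.Modules.pullback (𝟙 Z)).obj (Omega.conormal i') ⟶ Omega.conormal i'') (hψ₂ : OmegaSh.IsConormalMap i'' i' n (𝟙 Z) ψ₂)
    (hlci : ∀ z : Z, Synt.IsKoszulAt i z) :
    ∃ w : (Scheme.Modules.pullback (𝟙 Z)).map ψ₁ ≫ ψ₂ = 0, (ShortComplex.mk _ _ w).ShortExact := by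
  have := isClosedImmersion_of_fot hZ'.1
  have := isClosedImmersion_of_fot hY'.1
  have := isClosedImmersion_of_fot hZ''.1
  have sq := isPullback_trans hZ' hY' hm₁ hm₂ hZ'' hn₁ hn₂
  obtain ⟨w, hex, hepi⟩ := transMap_exact' hψ₁ hψ₂ sq.w.symm fun z ↦ exists_transChart sq z
  have : Mono ψ₁ := transMap_mono hZ' hY' hm₁ hm₂ hlci hψ₁
  let η := Scheme.Modules.pullbackId Z
  have hnat : (Scheme.Modules.pullback (𝟙 Z)).map ψ₁ =
      η.hom.app _ ≫ ψ₁ ≫ η.inv.app _ := (NatIso.naturality_2 η ψ₁).symm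
  have hmono : Mono ((Scheme.Modules.pullback (𝟙 Z)).map ψ₁) := by
    rw [hnat]
    have h1 : ∀ M, Mono (η.hom.app M) := fun M ↦ (inferInstance : Mono (η.app M).hom)
    have h2 : ∀ M, Mono (η.inv.app M) := fun M ↦ (inferInstance : Mono (η.app M).inv)
    exact mono_comp' (h1 _) (mono_comp' ‹Mono ψ₁› (h2 _))
  exact ⟨w, { exact := hex, mono_f := hmono, epi_g := hepi }⟩

end Groth.Agent.S9785
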