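import Groth.Statements.S9790
import Groth.Agent.RaynaudGruson.ClosureDim

set_option autoImplicit false
set_option linter.style.haveILetI false
universe u
open FlatMor

namespace Groth.Agent.S9790

open AlgebraicGeometry CategoryTheory Limits in
/-- Let f : X ⟶ S be locally of finite type, F a quasi-coherent O_X-module of finite type and y a point
of the relative assassin of F over S. Let Y ⊆ X be the closure of y with its reduced induced
(integral) closed subscheme structure. Suppose F is S-flat at every point of Y that is a generic
point of an irreducible component of its fibre over S (e.g. F flat over S everywhere). Then Y ⟶ S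
has constant fibre dimension: there is d ≥ 0 with dim_x(Y_{f x}) = d for every point x of Y, i.e. Y
has relative dimension d over the closure of f y. The published statement also contains a part (1),
that such generic points are again relative associated points of F; this row states only part (2),
the relative-dimension clause. -/
theorem result {X S : Scheme.{u}} (f : X ⟶ S) [LocallyOfFiniteType f] (F : X.Modules) [Coh.IsQCoh F]
    (hF : CohB1.IsFT F) (y : X) (hy : y ∈ MoreMor.relAss f F)
    (hflat : ∀ x : ↑(Scheme.IdealSheafData.vanishingIdeal (TopologicalSpace.Closeds.closure {y})).subscheme,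
      (∃ Z ∈ irreducibleComponents ↥(((Scheme.IdealSheafData.vanishingIdeal (TopologicalSpace.Closeds.closure {y})).subschemeι ≫ f).fiber (f ((Scheme.IdealSheafData.vanishingIdeal (TopologicalSpace.Closeds.closure {y})).subschemeι x))),
        IsGenericPoint (((Scheme.IdealSheafData.vanishingIdeal (TopologicalSpace.Closeds.closure {y})).subschemeι ≫ f).asFiber x) Z) →
      FlatMod.IsFlatOverAt f F ((Scheme.IdealSheafData.vanishingIdeal (TopologicalSpace.Closeds.closure {y})).subschemeι x)) :
    ∃ d : ℕ, ∀ x : ↑(Scheme.IdealSheafData.vanishingIdeal (TopologicalSpace.Closeds.closure {y})).subscheme, FlatMor.fibreDimAt ((Scheme.IdealSheafData.vanishingIdeal (TopologicalSpace.Closeds.closure {y})).subschemeι ≫ f) x = d := by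
  haveI : F.IsQuasicoherent := ‹Coh.IsQCoh F›
  obtain ⟨d, -, hd⟩ := Groth.FibreDim.exists_relTrdeg_eq_height f y
  refine ⟨d, fun x => ?_⟩
  refine (Groth.RaynaudGruson.ClosureDim.fibreDimAt_incl f y F hF hy x fun w hw1 hw2 hw => hflat w
    ⟨_, (Groth.SchemeMorphisms.closure_mem_irreducibleComponents_iff _).mpr
      fun t ht => (ht.antisymm (hw ht)).eq, isGenericPoint_closure⟩).trans ?_
  rw [hd]
  rfl

end Groth.Agent.S9790
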