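import Groth.Statements.S9791
import Groth.Agent.S2351
import Groth.Agent.S9690
import Groth.Agent.S4989

set_option autoImplicit false
universe u
open CategoryTheory CategoryTheory.Limits AlgebraicGeometry
open FlatMor

namespace Groth.Agent.S9791

/-- In the case of integral schemes: let f : X ⟶ Y be a smooth morphism with X and Y integral, and let
X^ν ⟶ X and Y^ν ⟶ Y be the normalizations (in the function fields). Then X^ν is isomorphic over X to
the fibre product X ×_Y Y^ν, and such an isomorphism is unique. (The published statement requires
only that each quasi-compact open subset of Y meet finitely many irreducible components of Y, and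
also derives this for X; this row assumes X and Y integral, the case in which the normalization used
here is defined. The quasi-compactness and quasi-separatedness binders on Spec K(X) → X and Spec
K(Y) → Y always hold and are needed only to form the normalization.) -/
theorem result {X Y : Scheme.{u}} (f : X ⟶ Y) [Smooth f] [IsIntegral X] [IsIntegral Y]
    [QuasiCompact (X.fromSpecStalk (genericPoint X))] [QuasiSeparated (X.fromSpecStalk (genericPoint X))]
    [QuasiCompact (Y.fromSpecStalk (genericPoint Y))] [QuasiSeparated (Y.fromSpecStalk (genericPoint Y))] :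
    ∃! e : Curv2.normalization X ≅ pullback f (Curv2.normalizationι Y),
      e.hom ≫ pullback.fst f (Curv2.normalizationι Y) = Curv2.normalizationι X := by
  classical
  let ι := Curv2.normalizationι Y
  let P := pullback f ι
  let a₁ := pullback.fst f ι
  let a₂ := pullback.snd f ι
  obtain ⟨hintY, hnY, -, -⟩ := Groth.Agent.S2351.result Y
  obtain ⟨hintX, hnX, -, hgX, -⟩ := Groth.Agent.S2351.result X
  haveI := hintY
  haveI := hintX
  haveI : Smooth a₂ := MorphismProperty.pullback_snd f ι inferInstance
  have hnP : Pi1.IsNormalScheme P := fun z =>
    ((Groth.Agent.S4989.result a₂ z (by rw [Scheme.Hom.smoothLocus_eq_top a₂]; trivial)).2).mpr (hnY _)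
  have hfη : f (genericPoint X) = genericPoint Y := by
    obtain ⟨w, hw, hw'⟩ := Flat.generalizingMap f (genericPoint_specializes (f (genericPoint X)))
    rw [← hw', (hw.antisymm (genericPoint_specializes w)).eq]
  let jY := Y.fromSpecStalk (genericPoint Y)
  let pt : Spec Y.functionField := IsLocalRing.closedPoint Y.functionField
  have hpt : ∀ p : Spec Y.functionField, p = pt := fun p => @Subsingleton.elim (PrimeSpectrum Y.functionField) _ p pt
  have hgenY : jY.toNormalization pt = genericPoint (Curv2.normalization Y) := by
    refine IsGenericPoint.eq (α := Curv2.normalization Y) ?_ (genericPoint_spec _)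
    have h1 : closure (Set.range jY.toNormalization) = Set.univ :=
      (Scheme.Hom.denseRange jY.toNormalization).closure_range
    refine Eq.trans ?_ h1
    refine congrArg closure (Set.eq_of_subset_of_subset ?_ ?_)
    · exact Set.singleton_subset_iff.2 ⟨pt, rfl⟩
    · rintro _ ⟨p, rfl⟩
      exact congrArg _ (hpt p)
  let c : pullback f jY ⟶ P :=
    pullback.lift (pullback.fst f jY) (pullback.snd f jY ≫ jY.toNormalization)
      (pullback.condition.trans ((congrArg _ jY.toNormalization_fromNormalization.symm).trans (Category.assoc _ _ _).symm))
  have hc : IsPullback c (pullback.snd f jY) a₂ jY.toNormalization := by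
    refine IsPullback.of_right ?_ (pullback.lift_snd _ _ _) (IsPullback.of_hasPullback f ι)
    rw [pullback.lift_fst]
    convert IsPullback.of_hasPullback f jY using 1
    exact jY.toNormalization_fromNormalization
  haveI : IsPreimmersion (pullback.fst f jY) := MorphismProperty.pullback_fst _ _ inferInstance
  have hdomP : ∀ z : P, closure {z} ∈ irreducibleComponents ↥P → a₁ z = genericPoint X := by
    intro z hz
    have hmax : ∀ w : P, w ⤳ z → w = z := fun w hw =>
      (hw.antisymm (specializes_iff_mem_closure.2
        (hz.2 isIrreducible_singleton.closure hw.closure_subset (subset_closure rfl)))).eq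
    obtain ⟨w, hw, hw'⟩ := Flat.generalizingMap a₂ (genericPoint_specializes (a₂ z))
    rw [hmax w hw] at hw'
    obtain ⟨p, hp, -⟩ := Scheme.exists_preimage_of_isPullback hc z pt (hw'.trans hgenY.symm)
    obtain ⟨q, hq, -⟩ := Scheme.Pullback.exists_preimage_pullback (f := f) (g := jY) (genericPoint X) pt
      (hfη.trans Scheme.fromSpecStalk_closedPoint.symm)
    have hqp : q ⤳ p := (pullback.fst f jY).isEmbedding.toIsInducing.specializes_iff.1
      (hq ▸ genericPoint_specializes _)
    have h1 : c q = z := hmax _ (hp ▸ hqp.map c.continuous)
    have e1 : c ≫ a₁ = pullback.fst f jY := pullback.lift_fst _ _ _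
    rw [← h1, ← Scheme.Hom.comp_apply, e1]
    exact hq
  obtain ⟨a, ha, -⟩ := Groth.Agent.S9690.result X a₁ hnP hdomP
  have hdomX : ∀ z : Curv2.normalization X, closure {z} ∈ irreducibleComponents ↥(Curv2.normalization X) →
      (Curv2.normalizationι X ≫ f) z = genericPoint Y := by
    intro z hz
    have hzg : z = genericPoint (Curv2.normalization X) :=
      ((genericPoint_specializes z).antisymm (specializes_iff_mem_closure.2
        (hz.2 isIrreducible_singleton.closure (genericPoint_specializes z).closure_subset (subset_closure rfl)))).eq.symm
    rw [Scheme.Hom.comp_apply, hzg, hgX]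
    exact hfη
  obtain ⟨b₂, hb₂, hb₂'⟩ := Groth.Agent.S9690.result Y (Curv2.normalizationι X ≫ f) hnX hdomX
  let b : Curv2.normalization X ⟶ P := pullback.lift (Curv2.normalizationι X) b₂ hb₂.symm
  have hb : b ≫ a₁ = Curv2.normalizationι X := pullback.lift_fst _ _ _
  have hba : b ≫ a = 𝟙 _ := by
    obtain ⟨h, -, huniq⟩ := Groth.Agent.S9690.result X (Curv2.normalizationι X) hnX fun z hz => by
      rw [show z = genericPoint (Curv2.normalization X) from
        ((genericPoint_specializes z).antisymm (specializes_iff_mem_closure.2
          (hz.2 isIrreducible_singleton.closure (genericPoint_specializes z).closure_subset (subset_closure rfl)))).eq.symm]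
      exact hgX
    exact (huniq _ ((Category.assoc _ _ _).trans ((congrArg _ ha).trans hb))).trans
      (huniq _ (Category.id_comp _)).symm
  have hab : a ≫ b = 𝟙 P := by
    have h1 : (a ≫ b) ≫ a₁ = a₁ := (Category.assoc _ _ _).trans ((congrArg _ hb).trans ha)
    refine pullback.hom_ext (h1.trans (Category.id_comp _).symm) ?_
    obtain ⟨h, -, huniq⟩ := Groth.Agent.S9690.result Y (a₁ ≫ f) hnP fun z hz => by
      rw [Scheme.Hom.comp_apply, hdomP z hz]
      exact hfη
    refine (huniq _ ?_).trans ((huniq _ pullback.condition.symm).symm.trans (Category.id_comp _).symm)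
    refine (Category.assoc _ _ _).trans ((congrArg _ pullback.condition.symm).trans ?_)
    exact (Category.assoc _ _ _).symm.trans (congrArg (· ≫ f) h1)
  refine ⟨⟨b, a, hba, hab⟩, hb, fun e he => Iso.ext ?_⟩
  refine pullback.hom_ext (he.trans hb.symm) ?_
  refine (hb₂' _ ?_).trans (pullback.lift_snd _ _ _).symm
  refine (Category.assoc _ _ _).trans ((congrArg _ pullback.condition.symm).trans ?_)
  exact (Category.assoc _ _ _).symm.trans (congrArg (· ≫ f) he)

end Groth.Agent.S9791
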