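import Groth.Statements.S9792
import Groth.Agent.PropsBasic.Generization

set_option autoImplicit false
universe u
open CategoryTheory AlgebraicGeometry TopologicalSpace
open Props

namespace Groth.Agent.S9792

/-- In a Noetherian scheme, every infinite set of points contains an infinite subset no two distinct
members of which are related by specialization. -/
theorem result (S : Scheme.{u}) [IsNoetherian S]
    (T : Set S) (hT : T.Infinite) :
    ∃ T' : Set S, T' ⊆ T ∧ T'.Infinite ∧ ∀ a ∈ T', ∀ b ∈ T', a ⤳ b → a = b := by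
  classical
  -- a minimal closed set meeting `T` in an infinite set
  obtain ⟨Z, hZ, hZmin⟩ : ∃ Z : Closeds S, (T ∩ (Z : Set S)).Infinite ∧
      ∀ Z' < Z, ¬ (T ∩ (Z' : Set S)).Infinite := by
    obtain ⟨Z, hZ, hmin⟩ := (inferInstance : WellFoundedLT (Closeds S)).wf.has_min
      {Z : Closeds S | (T ∩ (Z : Set S)).Infinite} ⟨⊤, by simpa using hT⟩
    exact ⟨Z, hZ, fun Z' h h' => hmin Z' h' h⟩
  let T'' : Set S := {t ∈ T ∩ (Z : Set S) | closure ({t} : Set S) ≠ (Z : Set S)}
  have hsub : (T ∩ (Z : Set S)) ⊆ T'' ∪ {t | closure ({t} : Set S) = (Z : Set S)} := fun t ht => by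
    by_cases h : closure ({t} : Set S) = (Z : Set S)
    exacts [Or.inr h, Or.inl ⟨ht, h⟩]
  have hone : {t : S | closure ({t} : Set S) = (Z : Set S)}.Subsingleton := fun a ha b hb =>
    (inseparable_iff_closure_eq.mpr (ha.trans hb.symm)).eq
  have hinf : T''.Infinite := fun hfin => hZ ((hfin.union hone.finite).subset hsub)
  let M : Set S := {t ∈ T'' | ∀ t' ∈ T'', t' ⤳ t → t' = t}
  refine ⟨M, fun t ht => ht.1.1.1, fun hM => hinf ?_, fun a ha b hb h => hb.2 a ha.1 h⟩
  refine (hM.biUnion (t := fun m => T ∩ closure ({m} : Set S)) fun m hm => ?_).subset fun t ht => ?_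
  · have hlt : (⟨closure {m}, isClosed_closure⟩ : Closeds S) < Z := by
      refine lt_of_le_of_ne (closure_minimal (by simpa using hm.1.1.2) Z.isClosed) fun e => hm.1.2 ?_
      exact congrArg (SetLike.coe) e
    exact Set.not_infinite.mp (hZmin _ hlt)
  · obtain ⟨m, hm, hmin, hmt⟩ := Groth.PropsBasic.exists_minimal_generization T'' ht
    exact Set.mem_biUnion (show m ∈ M from ⟨hm, hmin⟩) ⟨ht.1.1, hmt.mem_closure⟩

end Groth.Agent.S9792
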