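import Groth.Statements.S9793
import Groth.Agent.PropsBasic.Generization

set_option autoImplicit false
universe u
open CategoryTheory AlgebraicGeometry TopologicalSpace
open Props

namespace Groth.Agent.S9793

/-- Let S be a Noetherian scheme and T a set of points of S. Every point of T is a specialization of
some point of T which admits no non-trivial generization lying in T. -/
theorem result (S : Scheme.{u}) [IsNoetherian S]
    (T : Set S) (t : S) (ht : t ∈ T) :
    ∃ t₀ ∈ T, (∀ t' ∈ T, t' ⤳ t₀ → t' = t₀) ∧ t₀ ⤳ t := by
  exact Groth.PropsBasic.exists_minimal_generization T ht

end Groth.Agent.S9793
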