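import Groth.Statements.S9794
import Groth.Agent.PropsBasic.Generization

set_option autoImplicit false
universe u
open CategoryTheory AlgebraicGeometry TopologicalSpace
open Props

namespace Groth.Agent.S9794

/-- In a Noetherian scheme, an infinite dense set of points contains a countable subset which is dense. -/
theorem result (S : Scheme.{u}) [IsNoetherian S]
    (T : Set S) (hT : T.Infinite) (hd : Dense T) :
    ∃ E : Set S, E ⊆ T ∧ E.Countable ∧ Dense E := by
  classical
  let Wset : Set S := {w | ∃ E : Set S, E ⊆ T ∧ E.Countable ∧ closure E = closure {w}}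
  have hTW : T ⊆ Wset := fun t ht =>
    ⟨{t}, Set.singleton_subset_iff.mpr ht, Set.countable_singleton t, rfl⟩
  let M : Set S := {w ∈ Wset | ∀ w' ∈ Wset, w' ⤳ w → w' = w}
  choose! E hET hEc hEw using fun w (hw : w ∈ Wset) => hw
  have hM : M.Finite := by
    by_contra hM
    obtain ⟨w, hw⟩ : ∃ w : ℕ → S, Function.Injective w ∧ ∀ n, w n ∈ M :=
      ⟨fun n => (Set.Infinite.natEmbedding M hM n).1,
        fun a b h => (Set.Infinite.natEmbedding M hM).injective (Subtype.ext h),
        fun n => (Set.Infinite.natEmbedding M hM n).2⟩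
    let U : Set S := ⋃ n, E (w n)
    obtain ⟨𝒵, hfin, hcl, hirr, hU⟩ :=
      TopologicalSpace.NoetherianSpace.exists_finite_set_isClosed_irreducible
        (α := S) (s := closure U) isClosed_closure
    -- each piece is covered, up to the others, by the points of `U` on it
    have : ∀ n, ∃ Z ∈ 𝒵, Z = closure {w n} := by
      intro n
      have hwU : w n ∈ ⋃₀ 𝒵 := by
        rw [← hU]
        refine closure_mono (Set.subset_iUnion (fun n => E (w n)) n) ?_
        rw [hEw _ (hw.2 n).1]
        exact subset_closure rfl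
      obtain ⟨Z₀, hZ₀, hwZ₀⟩ := hwU
      obtain ⟨Z, hZ₀Z, hmax⟩ := hfin.exists_le_maximal hZ₀
      refine ⟨Z, hmax.1, ?_⟩
      obtain ⟨z, hz⟩ := QuasiSober.sober (hirr Z hmax.1) (hcl Z hmax.1)
      -- `Z` is the closure of the part of `U` lying on it
      have hZcl : Z = closure (U ∩ Z) := by
        refine le_antisymm ?_ (closure_minimal Set.inter_subset_right (hcl Z hmax.1))
        by_contra hnot
        have hothers : IsClosed (⋃₀ (𝒵 \ {Z})) := by
          rw [Set.sUnion_eq_biUnion]
          exact hfin.diff.isClosed_biUnion fun A hA => hcl A hA.1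
        have hsub : Z ⊆ closure (U ∩ Z) ∪ ⋃₀ (𝒵 \ {Z}) := by
          intro x hx
          have hxU : x ∈ closure U := hU ▸ ⟨Z, hmax.1, hx⟩
          refine closure_minimal ?_ (isClosed_closure.union hothers) hxU
          intro y hy
          obtain ⟨A, hA, hyA⟩ : y ∈ ⋃₀ 𝒵 := hU ▸ subset_closure hy
          by_cases hAZ : A = Z
          · exact Or.inl (subset_closure ⟨hy, hAZ ▸ hyA⟩)
          · exact Or.inr ⟨A, ⟨hA, hAZ⟩, hyA⟩
        rcases hsub hz.mem with h | ⟨A, ⟨hA, hAZ⟩, h⟩
        · exact hnot (hz.def.symm.trans_subset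
            (closure_minimal (Set.singleton_subset_iff.mpr h) isClosed_closure))
        · have h' : Z ⊆ A := hz.def.symm.trans_subset
            (closure_minimal (Set.singleton_subset_iff.mpr h) (hcl A hA))
          exact hAZ (le_antisymm (hmax.2 hA h') h')
      have hzW : z ∈ Wset := by
        refine ⟨U ∩ Z, fun y hy => ?_, (Set.countable_iUnion fun k => hEc _ (hw.2 k).1).mono
          Set.inter_subset_left, ?_⟩
        · obtain ⟨k, hk⟩ := Set.mem_iUnion.mp hy.1
          exact hET _ (hw.2 k).1 hk
        · rw [← hZcl, hz.def]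
      rw [← (hw.2 n).2 z hzW (hz.specializes (hZ₀Z hwZ₀)), hz.def]
    choose Z hZ hZw using this
    have hinj : Function.Injective Z := fun a b h => hw.1
      ((inseparable_iff_closure_eq.mpr (by rw [← hZw, ← hZw, h])).eq)
    exact Set.infinite_range_of_injective hinj (hfin.subset (Set.range_subset_iff.mpr hZ))
  refine ⟨⋃ w ∈ M, E w, Set.iUnion₂_subset fun w hw => hET w hw.1,
    hM.countable.biUnion fun w hw => hEc w hw.1, ?_⟩
  rw [dense_iff_closure_eq, ← Set.univ_subset_iff, ← hd.closure_eq]
  refine closure_minimal (fun t ht => ?_) isClosed_closure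
  obtain ⟨m, hm, hmin, hmt⟩ := Groth.PropsBasic.exists_minimal_generization Wset (hTW ht)
  have h1 : closure (E m) ⊆ closure (⋃ w ∈ M, E w) :=
    closure_mono (Set.subset_biUnion_of_mem (u := E) (show m ∈ M from ⟨hm, hmin⟩))
  rw [hEw m hm] at h1
  exact h1 hmt.mem_closure

end Groth.Agent.S9794
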