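import Groth.Statements.S9796
import Groth.Agent.PropsBasic.ZeroDim

set_option autoImplicit false
universe u
open CategoryTheory AlgebraicGeometry TopologicalSpace
open Props

namespace Groth.Agent.S9796

open Groth.PropsBasic.ZD

/-- (2) implies (3) with the complement on connected components: a separated scheme of dimension at most
zero is Hausdorff and totally disconnected. -/
theorem result (X : Scheme.{u}) [X.IsSeparated]
    (h : topologicalKrullDim X ≤ 0) : T2Space X ∧ TotallyDisconnectedSpace X := by
  haveI : QuasiSeparatedSpace X := (quasiSeparatedSpace_iff_quasiSeparated X).mpr inferInstance
  exact t2_totallyDisconnected (eq_of_specializes_of_dim_le_zero h)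

end Groth.Agent.S9796
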