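import Groth.Statements.S9799
import Groth.Agent.PropsBasic.Generization

set_option autoImplicit false
universe u
open CategoryTheory AlgebraicGeometry TopologicalSpace
open Props

namespace Groth.Agent.S9799

/-- Let X be a normal scheme (all local rings are integrally closed domains) such that every
quasi-compact open subset has finitely many irreducible components. Then the irreducible components
of X are open and pairwise disjoint; hence X is the disjoint union of its irreducible components,
each an open subscheme which is normal and integral. -/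
theorem result (X : Scheme.{u})
    (hfin : ∀ U : X.Opens, IsCompact (U : Set X) → (irreducibleComponents ↥U).Finite)
    (hN : Pi1.IsNormalScheme X) :
    (∀ Z ∈ irreducibleComponents X, IsOpen Z) ∧
      ∀ Z ∈ irreducibleComponents X, ∀ Z' ∈ irreducibleComponents X, Z ≠ Z' → Disjoint Z Z' := by
  have huniq : ∀ x : X, ∃! Z, Z ∈ irreducibleComponents (X : Type u) ∧ x ∈ Z := fun x =>
    Groth.PropsBasic.existsUnique_irreducibleComponent (hN x).1
  refine ⟨fun Z hZ => isOpen_iff_forall_mem_open.mpr fun x hx => ?_, fun Z hZ Z' hZ' hne =>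
    Set.disjoint_left.mpr fun x h h' => hne ((huniq x).unique ⟨hZ, h⟩ ⟨hZ', h'⟩)⟩
  obtain ⟨U, hU, hxU, -⟩ := TopologicalSpace.Opens.isBasis_iff_nbhd.mp X.isBasis_affineOpens
    (TopologicalSpace.Opens.mem_top x)
  let S : Set (Set X) := {W ∈ irreducibleComponents (X : Type u) | ((U : Set X) ∩ W).Nonempty}
  have hcl : ∀ W ∈ S, closure ((U : Set X) ∩ W) = W := fun W hW => le_antisymm
    ((isClosed_of_mem_irreducibleComponents W hW.1).closure_subset_iff.mpr Set.inter_subset_right)
    (by
      rw [Set.inter_comm]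
      exact subset_closure_inter_of_isPreirreducible_of_isOpen hW.1.1.2 U.isOpen
        (by rw [Set.inter_comm]; exact hW.2))
  have hmaps : Set.MapsTo (fun W => (Subtype.val ⁻¹' W : Set U)) S (irreducibleComponents U) :=
    fun W hW => preimage_mem_irreducibleComponents hW.1 U.isOpenEmbedding'
      (by obtain ⟨y, hyU, hyW⟩ := hW.2; exact ⟨y, hyW, ⟨y, hyU⟩, rfl⟩)
  have hinj : Set.InjOn (fun W => (Subtype.val ⁻¹' W : Set U)) S := fun W hW W' hW' e => by
    rw [← hcl W hW, ← hcl W' hW']
    have := Subtype.preimage_coe_eq_preimage_coe_iff.mp e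
    exact congrArg closure this
  have hS : S.Finite := Set.Finite.of_injOn hmaps hinj (hfin U (IsAffineOpen.isCompact hU))
  refine ⟨(U : Set X) \ ⋃ W ∈ S \ {Z}, W, fun y hy => ?_,
    U.isOpen.sdiff ((hS.sdiff).isClosed_biUnion fun W hW =>
      isClosed_of_mem_irreducibleComponents W hW.1.1), hxU, fun hmem => ?_⟩
  · obtain ⟨W, ⟨hW, hyW⟩, -⟩ := huniq y
    by_contra hyZ
    exact hy.2 (Set.mem_biUnion (show W ∈ S \ {Z} from ⟨⟨hW, y, hy.1, hyW⟩, fun e => hyZ (e ▸ hyW)⟩) hyW)
  · obtain ⟨W, hW, hxW⟩ := Set.mem_iUnion₂.mp hmem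
    exact hW.2 ((huniq x).unique ⟨hW.1.1, hxW⟩ ⟨hZ, hx⟩)

end Groth.Agent.S9799
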