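import Groth.Statements.S9800
import Mathlib
import Groth.Agent.Flatmor4.FlatDedekind

set_option autoImplicit false
universe u
open CategoryTheory AlgebraicGeometry TopologicalSpace
open Props

namespace Groth.Agent.S9800

/-- A locally Noetherian normal scheme of dimension at most one is regular, that is, all of its local
rings are regular local rings. -/
theorem result (X : Scheme.{u})
    [IsLocallyNoetherian X] (hN : Pi1.IsNormalScheme X) (hd : topologicalKrullDim X ≤ 1) (x : X) :
    IsRegularLocalRing (X.presheaf.stalk x) := by
  have : IsDomain (X.presheaf.stalk x) := (hN x).1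
  have : IsIntegrallyClosed (X.presheaf.stalk x) := (hN x).2
  have hdim : ringKrullDim (X.presheaf.stalk x) ≤ 1 :=
    (Groth.Flatmor4.ringKrullDim_stalk_le x).trans hd
  have : Ring.DimensionLEOne (X.presheaf.stalk x) := ⟨fun {p} hp hpp => by
    obtain ⟨m, hm, hpm⟩ := p.exists_le_maximal hpp.ne_top
    rcases eq_or_lt_of_le hpm with rfl | hlt
    · exact hm
    exfalso
    have h1 : 1 ≤ p.height :=
      Order.one_le_iff_ne_zero.mpr fun e => hp (Ideal.height_eq_zero_iff_eq_bot.mp e)
    have h2 : 2 ≤ m.height := le_trans (le_of_eq (by norm_num)) (le_trans (add_le_add h1 le_rfl)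
      (Ideal.height_add_one_le_of_lt_of_isPrime hlt))
    have h3 : (m.height : WithBot ℕ∞) ≤ 1 := (Ideal.height_le_ringKrullDim_of_ne_top hm.ne_top).trans hdim
    have h4 : m.height ≤ 1 := by exact_mod_cast h3
    exact absurd (h2.trans h4) (by decide)⟩
  have : IsDedekindDomain (X.presheaf.stalk x) := { }
  exact IsRegularLocalRing.of_isRegularRing_of_isLocalRing _

end Groth.Agent.S9800
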