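import Groth.Statements.S9801
import Mathlib
import Groth.Agent.Calg1.SerreConditions
import Groth.Agent.FibreDim.DimStalk

set_option autoImplicit false
universe u
open CategoryTheory AlgebraicGeometry TopologicalSpace
open Props

namespace Groth.Agent.S9801

theorem cm_of_normal_dim_le_two {R : Type u} [CommRing R] [IsLocalRing R] [IsNoetherianRing R]
    [IsDomain R] [IsIntegrallyClosed R] (hd : ringKrullDim R ≤ 2) :
    LocCoh.IsCohenMacaulayLocalRing R := by
  have hn : ∀ (p : Ideal R) [p.IsPrime], IsDomain (Localization.AtPrime p) ∧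
      IsIntegrallyClosed (Localization.AtPrime p) := fun p _ =>
    ⟨IsLocalization.isDomain_localization p.primeCompl_le_nonZeroDivisors,
      isIntegrallyClosed_of_isLocalization _ p.primeCompl p.primeCompl_le_nonZeroDivisors⟩
  have hS := (Groth.Calg1.hasSk_self_iff 2).1 (Groth.Calg1.normal_iff.1 hn).2
    (IsLocalRing.maximalIdeal R)
  let e : R ≃+* Localization.AtPrime (IsLocalRing.maximalIdeal R) :=
    (IsLocalization.atUnits R (IsLocalRing.maximalIdeal R).primeCompl
      (fun x hx => IsLocalRing.notMem_maximalIdeal.1 hx)).toRingEquiv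
  have hh : ((IsLocalRing.maximalIdeal R).height : WithBot ℕ∞) = ringKrullDim R :=
    IsLocalRing.maximalIdeal_height_eq_ringKrullDim
  rw [← Groth.Ega4b.depth_eq_of_ringEquiv e, min_eq_right (by
    exact WithBot.coe_le_coe.1 (hh.le.trans hd))] at hS
  have h1 : ringKrullDim R ≤ ((LocCoh.depth R R : ℕ∞) : WithBot ℕ∞) :=
    hh.ge.trans (WithBot.coe_le_coe.2 hS)
  have h2 := Groth.LocCohBase.depth_le_supportDim (R := R) R
  rw [Module.supportDim_self_eq_ringKrullDim] at h2
  exact { supportDim_eq_depth := by
            rw [Module.supportDim_self_eq_ringKrullDim]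
            exact le_antisymm h1 h2 }

/-- A locally Noetherian normal scheme of dimension at most two is Cohen-Macaulay, that is, all of its
local rings are Cohen-Macaulay local rings. -/
theorem result (X : Scheme.{u})
    [IsLocallyNoetherian X] (hN : Pi1.IsNormalScheme X) (hd : topologicalKrullDim X ≤ 2) (x : X) :
    LocCoh.IsCohenMacaulayLocalRing (X.presheaf.stalk x) := by
  have := (hN x).1
  have := (hN x).2
  refine cm_of_normal_dim_le_two (le_trans ?_ hd)
  rw [Groth.FibreDim.dim_eq_iSup_stalk X]
  exact le_iSup (fun y : X => ringKrullDim (X.presheaf.stalk y)) x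

end Groth.Agent.S9801
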