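import Groth.Statements.S9802
import Mathlib
import Groth.Agent.PropsBasic.JapaneseLocal
import Groth.Agent.PropsBasic.IntegralImage

set_option autoImplicit false
universe u
open CategoryTheory AlgebraicGeometry TopologicalSpace
open Props

namespace Groth.Agent.S9802

set_option backward.isDefEq.respectTransparency.types false

/-- A locally Noetherian scheme is Nagata (every affine open has a Nagata coordinate ring) if and only
if every integral closed subscheme is Japanese (every nonempty affine open of it has an N-2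
coordinate ring). -/
theorem result (X : Scheme.{u})
    [IsLocallyNoetherian X] :
    (∀ U : X.Opens, IsAffineOpen U → CAlg.IsNagata Γ(X, U)) ↔
      ∀ (Z : Scheme.{u}) (i : Z ⟶ X) [IsClosedImmersion i] [IsIntegral Z]
        (V : Z.Opens) [Nonempty V], IsAffineOpen V → CAlg.IsN2 Γ(Z, V) := by
  constructor
  · intro hN Z i _ _ V _ hV
    let ι₀ := {U : X.affineOpens // Nonempty (i ⁻¹ᵁ U.1)}
    have : ∀ U : ι₀, Nonempty (i ⁻¹ᵁ U.1.1) := fun U => U.2
    refine Groth.PropsBasic.JapaneseLocal.isN2_of_cover Z (fun U : ι₀ => i ⁻¹ᵁ U.1.1) ?_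
      (fun U => U.1.2.preimage i) (fun U => ?_) V hV
    · refine eq_top_iff.2 fun z _ => TopologicalSpace.Opens.mem_iSup.2 ?_
      obtain ⟨W, hW, hzW, -⟩ := exists_isAffineOpen_mem_and_subset
        (x := i z) (U := (⊤ : X.Opens)) trivial
      exact ⟨⟨⟨W, hW⟩, ⟨⟨z, hzW⟩⟩⟩, hzW⟩
    · have hs : Function.Surjective (i.app U.1.1) :=
        Scheme.Hom.app_surjective i U.1.1 U.1.2
      let p := RingHom.ker (i.app U.1.1).hom
      have hp : p.IsPrime := RingHom.ker_isPrime _
      exact Groth.PropsBasic.JapaneseLocal.isN2_of_equiv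
        (RingHom.quotientKerEquivOfSurjective hs) ((hN _ U.1.2).2 p)
  · intro h U hU
    refine ⟨IsLocallyNoetherian.component_noetherian ⟨U, hU⟩, fun p hp => ?_⟩
    let A := Γ(X, U)
    let q : A ⟶ CommRingCat.of (A ⧸ p) := CommRingCat.ofHom (Ideal.Quotient.mk p)
    let g : Spec (CommRingCat.of (A ⧸ p)) ⟶ X := Spec.map q ≫ hU.fromSpec
    have : QuasiCompact g := inferInstance
    have hint := Groth.PropsBasic.isIntegral_image g
    have hgU : g ⁻¹ᵁ U = ⊤ := by
      rw [Scheme.Hom.comp_preimage, hU.fromSpec_preimage_self, Scheme.Hom.preimage_top]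
    have hne : Nonempty (g.imageι ⁻¹ᵁ U) := by
      obtain ⟨z⟩ : Nonempty (Spec (CommRingCat.of (A ⧸ p))) := inferInstance
      refine ⟨⟨g.toImage z, ?_⟩⟩
      have hz : z ∈ g ⁻¹ᵁ U := hgU.ge trivial
      rwa [← g.toImage_imageι, Scheme.Hom.comp_preimage] at hz
    have hs : Function.Surjective (g.imageι.app U) :=
      Scheme.Hom.app_surjective g.imageι U hU
    have hk : RingHom.ker (g.imageι.app U).hom = p := by
      rw [Groth.PropsBasic.ker_imageι_app g ⟨U, hU⟩]
      ext a
      have e' : g.app U = q ≫ (Scheme.ΓSpecIso (CommRingCat.of (A ⧸ p))).inv ≫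
          (Spec (CommRingCat.of (A ⧸ p))).presheaf.map (eqToHom hgU).op := by
        rw [Scheme.Hom.comp_app, hU.fromSpec_app_self, Category.assoc, Scheme.Hom.naturality,
          ← Category.assoc, Scheme.ΓSpecIso_inv_naturality_assoc q]
        simp only [Category.assoc]
        rfl
      have e : g.app U a = (Spec (CommRingCat.of (A ⧸ p))).presheaf.map (eqToHom hgU).op
          ((Scheme.ΓSpecIso (CommRingCat.of (A ⧸ p))).inv (q a)) := congr($e' a)
      rw [RingHom.mem_ker]
      change g.app U a = 0 ↔ _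
      rw [e, ← Ideal.Quotient.eq_zero_iff_mem]
      have hb : Function.Injective ((Spec (CommRingCat.of (A ⧸ p))).presheaf.map (eqToHom hgU).op) :=
        (ConcreteCategory.bijective_of_isIso _).1
      rw [map_eq_zero_iff _ hb, map_eq_zero_iff _
        (ConcreteCategory.bijective_of_isIso (Scheme.ΓSpecIso (CommRingCat.of (A ⧸ p))).inv).1]
      rfl
    exact Groth.PropsBasic.JapaneseLocal.isN2_of_equiv
      ((RingHom.quotientKerEquivOfSurjective hs).symm.trans (Ideal.quotEquivOfEq hk))
      (h g.image g.imageι (g.imageι ⁻¹ᵁ U) (hU.preimage g.imageι))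

end Groth.Agent.S9802
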