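import Groth.Statements.S9803
import Groth.Agent.PropsBasic.Jouanolou

set_option autoImplicit false
universe u
open CategoryTheory AlgebraicGeometry TopologicalSpace
open Props

namespace Groth.Agent.S9803

set_option backward.isDefEq.respectTransparency.types false

/-- A quasi-affine scheme X admits a morphism from an affine scheme T which, after base change to any
affine scheme over X, becomes isomorphic over that affine scheme to an affine space of fixed
dimension n. -/
theorem result (X : Scheme.{u}) [X.IsQuasiAffine] :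
    ∃ (n : ℕ) (T : Scheme.{u}) (_ : IsAffine T) (p : T ⟶ X),
      ∀ (X' : Scheme.{u}) [IsAffine X'] (g : X' ⟶ X),
        ∃ e : Limits.pullback g p ≅ 𝔸(ULift.{u} (Fin n); X'),
          e.hom ≫ (𝔸(ULift.{u} (Fin n); X') ↘ X') = Limits.pullback.fst g p := by
  classical
  have hc : CompactSpace X := inferInstance
  have hb := Scheme.IsQuasiAffine.isBasis_basicOpen X
  have hcov : ∀ x : X, ∃ r : Γ(X, ⊤), IsAffineOpen (X.basicOpen r) ∧ x ∈ X.basicOpen r := by
    intro x
    obtain ⟨_, ⟨_, ⟨r, hr, rfl⟩, rfl⟩, hxr, -⟩ :=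
      hb.exists_subset_of_mem_open (Set.mem_univ x) isOpen_univ
    exact ⟨r, hr, hxr⟩
  choose r hr hxr using hcov
  obtain ⟨s, hs⟩ := isCompact_univ.elim_finite_subcover (fun x : X => (X.basicOpen (r x) : Set X))
    (fun x => (X.basicOpen (r x)).isOpen) (fun x _ => Set.mem_iUnion.2 ⟨x, hxr x⟩)
  let e0 := s.equivFin
  let f : Fin s.card → Γ(X, ⊤) := fun i => r (e0.symm i).1
  have hf : ∀ x : X, ∃ i, x ∈ X.basicOpen (f i) := by
    intro x
    obtain ⟨y, hy, hxy⟩ := Set.mem_iUnion₂.1 (hs (Set.mem_univ x))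
    exact ⟨e0 ⟨y, hy⟩, by simpa [f] using hxy⟩
  obtain ⟨T, hT, p, α, τ, hα, hex, huniq⟩ :=
    Groth.PropsBasic.Jouanolou.exists_torsor f hf (fun i => hr _)
  refine ⟨s.card, T, hT, p, fun X' _ g => ?_⟩
  -- `g^* f_i` generate the unit ideal
  obtain ⟨b, hb'⟩ : ∃ b : Fin s.card → Γ(X', ⊤), ∑ i, b i * g.appTop (f i) = 1 := by
    rw [← Ideal.mem_span_range_iff_exists_fun, ← Ideal.eq_top_iff_one,
      ← (isAffineOpen_top X').self_le_iSup_basicOpen_iff]
    intro x _
    obtain ⟨i, hi⟩ := hf (g x)
    rw [TopologicalSpace.Opens.mem_iSup]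
    refine ⟨⟨_, i, rfl⟩, ?_⟩
    simp only [← Scheme.preimage_basicOpen_top]
    exact hi
  let P := Limits.pullback g p
  let pf : P ⟶ X' := Limits.pullback.fst g p
  let ps : P ⟶ T := Limits.pullback.snd g p
  have hG : ∀ i, ps.appTop (p.appTop (f i)) = pf.appTop (g.appTop (f i)) := by
    intro i
    rw [← CommRingCat.comp_apply, ← CommRingCat.comp_apply, ← Scheme.Hom.comp_appTop,
      ← Scheme.Hom.comp_appTop, Limits.pullback.condition]
  let A := 𝔸(ULift.{u} (Fin s.card); X')
  let q : A ⟶ X' := A ↘ X'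
  let x : Fin s.card → Γ(A, ⊤) := fun i => AffineSpace.coord X' (ULift.up i)
  let t : Γ(A, ⊤) := ∑ i, x i * q.appTop (g.appTop (f i))
  let a : Fin s.card → Γ(A, ⊤) := fun i => x i - q.appTop (b i) * (t - 1)
  have hbq : ∑ i, q.appTop (b i) * q.appTop (g.appTop (f i)) = 1 := by
    rw [← map_one q.appTop.hom, ← hb', map_sum]
    simp
  have ha : ∑ i, a i * (q ≫ g).appTop (f i) = 1 := by
    simp only [Scheme.Hom.comp_appTop, CommRingCat.comp_apply, a, sub_mul, Finset.sum_sub_distrib]
    have e : ∑ i, q.appTop (b i) * (t - 1) * q.appTop (g.appTop (f i)) = t - 1 := by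
      calc _ = (t - 1) * ∑ i, q.appTop (b i) * q.appTop (g.appTop (f i)) := by
            rw [Finset.mul_sum]; exact Finset.sum_congr rfl fun i _ => by ring
        _ = _ := by rw [hbq, mul_one]
    rw [e]
    exact sub_sub_cancel t 1
  obtain ⟨k, hk, hka, hkt⟩ := hex A (q ≫ g) a t ha
  let fwd : P ⟶ A := AffineSpace.homOfVector pf
    fun i => ps.appTop (α i.down) + pf.appTop (b i.down) * (ps.appTop τ - 1)
  let bwd : A ⟶ P := Limits.pullback.lift q k hk.symm
  have hfq : fwd ≫ q = pf := AffineSpace.homOfVector_over _ _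
  have hfx : ∀ i, fwd.appTop (x i) =
      ps.appTop (α i) + pf.appTop (b i) * (ps.appTop τ - 1) := fun i =>
    AffineSpace.homOfVector_appTop_coord _ _ _
  have hft : fwd.appTop t = ps.appTop τ := by
    simp only [t, map_sum, map_mul, hfx]
    have e : ∀ i, fwd.appTop (q.appTop (g.appTop (f i))) = ps.appTop (p.appTop (f i)) := by
      intro i
      rw [hG, ← CommRingCat.comp_apply, ← Scheme.Hom.comp_appTop, hfq]
    simp only [e, add_mul, Finset.sum_add_distrib]
    have e1 : ∑ i, ps.appTop (α i) * ps.appTop (p.appTop (f i)) = 1 := by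
      simp only [← map_mul, ← map_sum, hα, map_one]
    have e2 : ∑ i, pf.appTop (b i) * (ps.appTop τ - 1) * ps.appTop (p.appTop (f i)) =
        ps.appTop τ - 1 := by
      calc _ = (ps.appTop τ - 1) * ∑ i, pf.appTop (b i) * pf.appTop (g.appTop (f i)) := by
            rw [Finset.mul_sum]; exact Finset.sum_congr rfl fun i _ => by rw [hG]; ring
        _ = _ := by simp only [← map_mul, ← map_sum, hb', map_one, mul_one]
    rw [e1, e2]
    exact add_sub_cancel _ _
  refine ⟨⟨fwd, bwd, ?_, ?_⟩, hfq⟩
  · apply Limits.pullback.hom_ext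
    · rw [Category.assoc, Category.id_comp, Limits.pullback.lift_fst]
      exact hfq
    · rw [Category.assoc, Category.id_comp, Limits.pullback.lift_snd]
      refine huniq _ _ _ ?_ (fun i => ?_) ?_
      · rw [Category.assoc, hk, ← Category.assoc, hfq]
        exact Limits.pullback.condition
      · rw [Scheme.Hom.comp_appTop, CommRingCat.comp_apply, hka]
        simp only [a, map_sub, map_mul, hfx, map_one, hft]
        have e : fwd.appTop (q.appTop (b i)) = pf.appTop (b i) := by
          rw [← CommRingCat.comp_apply, ← Scheme.Hom.comp_appTop, hfq]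
        rw [e]
        exact add_sub_cancel_right _ _
      · rw [Scheme.Hom.comp_appTop, CommRingCat.comp_apply, hkt, hft]
  · apply AffineSpace.hom_ext
    · rw [Category.assoc, Category.id_comp, hfq]
      exact Limits.pullback.lift_fst _ _ _
    · intro i
      rw [Scheme.Hom.comp_appTop, CommRingCat.comp_apply, Scheme.Hom.id_appTop, CommRingCat.id_apply]
      obtain ⟨i⟩ := i
      rw [show AffineSpace.coord X' (ULift.up i) = x i from rfl, hfx]
      simp only [map_add, map_mul, map_sub, map_one]
      have e1 : bwd.appTop (ps.appTop (α i)) = a i := by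
        rw [← CommRingCat.comp_apply, ← Scheme.Hom.comp_appTop, Limits.pullback.lift_snd, hka]
      have e2 : bwd.appTop (ps.appTop τ) = t := by
        rw [← CommRingCat.comp_apply, ← Scheme.Hom.comp_appTop, Limits.pullback.lift_snd, hkt]
      have e3 : bwd.appTop (pf.appTop (b i)) = q.appTop (b i) := by
        rw [← CommRingCat.comp_apply, ← Scheme.Hom.comp_appTop, Limits.pullback.lift_fst]
      rw [e1, e2, e3]
      exact sub_add_cancel _ _

end Groth.Agent.S9803
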