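import Groth.Statements.S9804
import Mathlib

set_option autoImplicit false
universe u
open CategoryTheory AlgebraicGeometry TopologicalSpace
open Props

namespace Groth.Agent.S9804

open CategoryTheory.Limits

/-- For quasi-affine schemes U and V and an open immersion j : U → V, the scheme U is the fibre product
of the composite U → V → Spec Γ(V, O_V) and the morphism Spec Γ(U, O_U) → Spec Γ(V, O_V) induced by
restriction of sections along j: the square whose sides are the identity of U, the canonical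
morphism U → Spec Γ(U, O_U), that composite and that induced morphism is cartesian. -/
theorem result {U V : Scheme.{u}} (j : U ⟶ V)
    [IsOpenImmersion j] [U.IsQuasiAffine] [V.IsQuasiAffine] :
    IsPullback (𝟙 U) U.toSpecΓ (j ≫ V.toSpecΓ) (Spec.map j.appTop) := by
  have key : (Spec.map j.appTop ⁻¹ᵁ (j ≫ V.toSpecΓ).opensRange : Set (Spec Γ(U, ⊤))) ⊆
      Set.range U.toSpecΓ := by
    rintro p ⟨x, hx⟩
    obtain ⟨_, ⟨_, ⟨r, hr, rfl⟩, rfl⟩, hxr, hrj⟩ :=
      (Scheme.IsQuasiAffine.isBasis_basicOpen V).exists_subset_of_mem_open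
        (Set.mem_range_self x) j.isOpenEmbedding.isOpen_range
    have hs : IsAffineOpen (U.basicOpen (j.appTop r)) := by
      rw [← Scheme.preimage_basicOpen_top, ← j.isAffineOpen_iff_of_isOpenImmersion]
      convert hr
      exact TopologicalSpace.Opens.ext ((j.image_preimage_eq_opensRange_inf _).trans
        (inf_eq_right.mpr hrj) |> congrArg SetLike.coe)
    have hp : p ∈ PrimeSpectrum.basicOpen (j.appTop r) := by
      have h1 : V.toSpecΓ (j x) ∈ PrimeSpectrum.basicOpen r :=
        (V.toSpecΓ_preimage_basicOpen r).ge hxr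
      rw [← Scheme.Hom.comp_apply, hx] at h1
      exact h1
    have := isLocalization_basicOpen_of_qcqs (X := U) isCompact_univ isQuasiSeparated_univ
      (j.appTop r)
    replace hp : p ∈ (PrimeSpectrum.basicOpen (j.appTop r) : Set (PrimeSpectrum Γ(U, ⊤))) := hp
    rw [← PrimeSpectrum.localization_away_comap_range Γ(U, U.basicOpen (j.appTop r))
      (j.appTop r)] at hp
    obtain ⟨q, rfl⟩ := hp
    let q' : Spec Γ(U, U.basicOpen (j.appTop r)) := q
    refine ⟨(U.basicOpen (j.appTop r)).ι (hs.isoSpec.inv q'), ?_⟩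
    have e : hs.isoSpec.inv ≫ (U.basicOpen (j.appTop r)).ι ≫ U.toSpecΓ =
        Spec.map (U.presheaf.map (homOfLE le_top).op) := by
      rw [← Scheme.Opens.toSpecΓ_SpecMap_presheaf_map_top, ← hs.isoSpec_hom,
        Iso.inv_hom_id_assoc]
    change (hs.isoSpec.inv ≫ (U.basicOpen (j.appTop r)).ι ≫ U.toSpecΓ) q' = _
    rw [e]
    rfl
  refine ⟨⟨by rw [Category.id_comp, Scheme.toSpecΓ_naturality]⟩,
    ⟨PullbackCone.IsLimit.mk _ (fun s => s.fst) (fun s => Category.comp_id _) (fun s => ?_)
      (fun s m h _ => (Category.comp_id m).symm.trans h)⟩⟩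
  have hsub : Set.range s.snd ⊆ Set.range U.toSpecΓ := by
    rintro _ ⟨t, rfl⟩
    refine key ⟨s.fst t, ?_⟩
    rw [← Scheme.Hom.comp_apply, ← Scheme.Hom.comp_apply, s.condition]
  obtain ⟨c, hc⟩ : ∃ c, c ≫ U.toSpecΓ = s.snd :=
    ⟨IsOpenImmersion.lift _ _ hsub, IsOpenImmersion.lift_fac _ _ _⟩
  have : s.fst = c := by
    rw [← cancel_mono (j ≫ V.toSpecΓ), s.condition, ← hc, Category.assoc]
    exact congrArg (c ≫ ·) (Scheme.toSpecΓ_naturality j).symm
  rw [this, hc]

end Groth.Agent.S9804
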