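import Groth.Statements.S9805
import Mathlib
import Groth.Agent.PropsBasic.LocFree
import Groth.Agent.QCohMod.SupportPullback

set_option autoImplicit false
universe u
open CategoryTheory AlgebraicGeometry TopologicalSpace
open Props

namespace Groth.Agent.S9805

/-- A quasi-coherent module on a scheme is flat and of finite presentation if and only if it is finite
locally free. -/
theorem result (X : Scheme.{u}) (M : X.Modules) (hM : Coh.IsQCoh M) :
    (FlatMod.IsFlat M ∧ CohB1.IsFP M) ↔ FlatMod.IsFinLocFree M := by
  haveI : M.IsQuasicoherent := hM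
  rw [Groth.PropsBasic.LocFree.isFinLocFree_iff M]
  constructor
  · rintro ⟨hfl, hfp⟩
    refine ⟨hfp, fun x => ?_⟩
    obtain ⟨U, hU, hxU, -⟩ := TopologicalSpace.Opens.isBasis_iff_nbhd.mp X.isBasis_affineOpens
      (TopologicalSpace.Opens.mem_top x)
    haveI := Groth.PropsBasic.FPSections.finitePresentation_sections M hfp hU
    haveI : Module.Finite (X.presheaf.stalk x) (M.presheaf.stalk x) :=
      Groth.QCohMod.finite_stalk M (Groth.PropsBasic.LocFree.isFT_of_isFP M hfp) x
    haveI : Module.Flat (X.presheaf.stalk x) (M.presheaf.stalk x) := hfl x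
    exact Module.free_of_flat_of_isLocalRing
  · rintro ⟨hfp, hfree⟩
    exact ⟨fun x => show Module.Flat _ _ from haveI := hfree x; inferInstance, hfp⟩

end Groth.Agent.S9805
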