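import Groth.Statements.S9809
import Groth.Agent.PropsBasic.UnibranchPunctured
import Mathlib.RingTheory.Ideal.KrullsHeightTheorem

set_option autoImplicit false
set_option linter.style.haveILetI false
universe u
open CategoryTheory AlgebraicGeometry TopologicalSpace
open Props

namespace Groth.Agent.S9809

set_option backward.isDefEq.respectTransparency.types false

/-- A Noetherian scheme is geometrically unibranch (all local rings geometrically unibranch) if and only
if at every point which is not the generic point of an irreducible component, the punctured spectrum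
of a strict henselization of the local ring is connected. -/
theorem result
    (X : Scheme.{u}) [IsNoetherian X] :
    (∀ x : X, CAlg2.IsGeomUnibranch (X.presheaf.stalk x)) ↔
      ∀ (x : X), closure ({x} : Set X) ∉ irreducibleComponents X →
        ∀ (Ash : Type u) [CommRing Ash] [IsLocalRing Ash] [Algebra (X.presheaf.stalk x) Ash]
          [IsLocalHom (algebraMap (X.presheaf.stalk x) Ash)]
          [Hensel.IsStrictHenselization (X.presheaf.stalk x) Ash],
          ConnectedSpace ↥({IsLocalRing.closedPoint Ash}ᶜ : Set (PrimeSpectrum Ash)) := by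
  have hsub : ∀ x : X, closure ({x} : Set X) ∉ irreducibleComponents X ↔
      ∃ P : Ideal (X.presheaf.stalk x), P.IsPrime ∧
        P ≠ IsLocalRing.maximalIdeal (X.presheaf.stalk x) := by
    intro x
    rw [Groth.PropsBasic2.closure_mem_irreducibleComponents_iff_subsingleton]
    constructor
    · intro h
      by_contra! hc
      exact h ⟨fun p q => PrimeSpectrum.ext ((hc _ p.2).trans (hc _ q.2).symm)⟩
    · rintro ⟨P, hP, hne⟩ h
      exact hne (congrArg PrimeSpectrum.asIdeal
        (h.elim ⟨P, hP⟩ (IsLocalRing.closedPoint _)))
  constructor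
  · intro h x hx Ash _ _ _ _ _
    exact Groth.PropsBasic.UnibranchPunctured.connectedSpace_punctured _ (h x) ((hsub x).mp hx) Ash
  · intro h x
    obtain ⟨V, hV, hxV, -⟩ := TopologicalSpace.Opens.isBasis_iff_nbhd.mp X.isBasis_affineOpens
      (TopologicalSpace.Opens.mem_top x)
    haveI : IsNoetherianRing Γ(X, V) := IsLocallyNoetherian.component_noetherian ⟨V, hV⟩
    letI : ∀ y : V, Algebra Γ(X, V) (X.presheaf.stalk y.1) := fun y =>
      TopCat.Presheaf.algebra_section_stalk X.presheaf y
    haveI hloc : ∀ y : V, IsLocalization.AtPrime (X.presheaf.stalk y.1) (hV.primeIdealOf y).asIdeal :=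
      fun y => hV.isLocalization_stalk y
    suffices key : ∀ (p : Ideal Γ(X, V)) (y : V), (hV.primeIdealOf y).asIdeal = p →
        CAlg2.IsGeomUnibranch (X.presheaf.stalk y.1) from key _ ⟨x, hxV⟩ rfl
    intro p
    induction hn : p.height using WellFoundedLT.induction generalizing p with
    | _ n ih =>
    rintro y rfl
    haveI := hloc y
    haveI : IsNoetherianRing (X.presheaf.stalk y.1) :=
      IsLocalization.isNoetherianRing (hV.primeIdealOf y).asIdeal.primeCompl _ ‹_›
    refine Groth.PropsBasic.UnibranchPunctured.isGeomUnibranch_of_punctured _ (fun P hP hPm => ?_)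
      (fun hex => h y.1 ((hsub y.1).mpr hex))
    let p' := P.comap (algebraMap Γ(X, V) (X.presheaf.stalk y.1))
    haveI : p'.IsPrime := Ideal.IsPrime.comap _
    have hlt : p' < (hV.primeIdealOf y).asIdeal := by
      refine lt_of_le_of_ne (fun z hz => ?_) (fun he => hPm ?_)
      · by_contra hzp
        exact hP.ne_top (Ideal.eq_top_of_isUnit_mem _ hz
          (IsLocalization.map_units (X.presheaf.stalk y.1) (⟨z, hzp⟩ : (hV.primeIdealOf y).asIdeal.primeCompl)))
      · have h1 := IsLocalization.map_under (hV.primeIdealOf y).asIdeal.primeCompl (X.presheaf.stalk y.1) P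
        have h2 := IsLocalization.map_under (hV.primeIdealOf y).asIdeal.primeCompl (X.presheaf.stalk y.1)
          (IsLocalRing.maximalIdeal (X.presheaf.stalk y.1))
        rw [IsLocalization.AtPrime.under_maximalIdeal _ (hV.primeIdealOf y).asIdeal] at h2
        rw [← h1, ← h2, show P.under Γ(X, V) = (hV.primeIdealOf y).asIdeal from he]
    have hyV : hV.fromSpec.base ⟨p', inferInstance⟩ ∈ V := hV.range_fromSpec.subset ⟨_, rfl⟩
    have hy' : hV.primeIdealOf ⟨_, hyV⟩ = ⟨p', inferInstance⟩ := by
      apply hV.fromSpec.isOpenEmbedding.injective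
      exact hV.fromSpec_primeIdealOf ⟨_, hyV⟩
    have hlt' := Ideal.height_strict_mono_of_isPrime hlt
    let y₁ : V := ⟨_, hyV⟩
    have hgu := ih _ (hn ▸ hlt') p' rfl y₁ (congrArg PrimeSpectrum.asIdeal hy')
    haveI : IsLocalization.AtPrime (X.presheaf.stalk y₁.1) p' := by
      have := hloc y₁
      rwa [show hV.primeIdealOf y₁ = ⟨p', inferInstance⟩ from hy'] at this
    haveI : IsLocalization.AtPrime (Localization.AtPrime P) p' :=
      IsLocalization.isLocalization_isLocalization_atPrime_isLocalization
        (hV.primeIdealOf y).asIdeal.primeCompl (Localization.AtPrime P) P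
    exact Groth.PropsBasic.UnibranchPunctured.isGeomUnibranch_of_isLocalization Γ(X, V) p'
      (X.presheaf.stalk y₁.1) (Localization.AtPrime P) hgu

end Groth.Agent.S9809
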