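import Groth.Statements.S9814
import Mathlib
import Groth.Agent.PropsBasic.AmpleSep

set_option autoImplicit false
universe u
open CategoryTheory CategoryTheory.Limits AlgebraicGeometry TopologicalSpace
open Props

namespace Groth.Agent.S9814

/-- Let L be an invertible module on a scheme X. If the opens X_s (s a global section of a positive
tensor power of L) form a basis for the topology, then so do the affine ones among them. -/
theorem result (X : Scheme.{u}) (L : X.Modules) (hL : PicF.IsInvertible L)
    (hB : Opens.IsBasis {U : X.Opens | ∃ (n : ℕ) (s : Coh.structureModule X ⟶ CohB1.tensorPow L (n + 1)),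
      U = CohB1.genLocus _ s}) :
    Opens.IsBasis {U : X.Opens | IsAffineOpen U ∧ ∃ (n : ℕ) (s : Coh.structureModule X ⟶ CohB1.tensorPow L (n + 1)),
      U = CohB1.genLocus _ s} := by
  rw [TopologicalSpace.Opens.isBasis_iff_nbhd] at hB ⊢
  intro U x hx
  obtain ⟨_, ⟨W, hW, rfl⟩, hxW, hWU⟩ :=
    X.isBasis_affineOpens.exists_subset_of_mem_open hx U.isOpen
  obtain ⟨V, ⟨n, s, rfl⟩, hxV, hVW⟩ := hB (show x ∈ (W : X.Opens) from hxW)
  refine ⟨_, ⟨?_, n, s, rfl⟩, hxV, fun y hy => hWU (hVW hy)⟩
  have h := Groth.PropsBasic.Ample.isAffineOpen_gloc_inf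
    (Groth.PicAux.isInvertible_tensorPow hL (n + 1)) s hW
  rwa [inf_eq_left.2 hVW] at h

end Groth.Agent.S9814
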