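import Groth.Statements.S9818
import Groth.Agent.CohBase.AffineHomCriterion
import Groth.Agent.QCohMod.QCQS

set_option autoImplicit false
universe u
open CategoryTheory CategoryTheory.Limits AlgebraicGeometry TopologicalSpace Opposite
open Props

namespace Groth.Agent.S9818

set_option backward.isDefEq.respectTransparency.types false

/-- For an open subscheme U of a scheme X with quasi-compact inclusion, a quasi-coherent module G on U
with a map to the restriction of a quasi-coherent module F on X extends to a quasi-coherent module H
on X with a map to F restricting to the given one. Taking F = 0, every quasi-coherent module on U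
extends to a quasi-coherent module on X. -/
theorem result {X : Scheme.{u}} (U : X.Opens) [QuasiCompact U.ι]
    (F : X.Modules) [Coh.IsQCoh F] (G : (U : Scheme.{u}).Modules) [Coh.IsQCoh G] (φ : G ⟶ F.restrict U.ι) :
    ∃ (H : X.Modules) (ψ : H ⟶ F) (e : H.restrict U.ι ≅ G), Coh.IsQCoh H ∧
      e.hom ≫ φ = (Scheme.Modules.restrictFunctor U.ι).map ψ := by
  have : F.IsQuasicoherent := ‹Coh.IsQCoh F›
  have : G.IsQuasicoherent := ‹Coh.IsQCoh G›
  have hR : PreservesFiniteLimits (Scheme.Modules.restrictFunctor U.ι) :=
    Groth.CohBase.preservesFiniteLimits_restrictFunctor U.ι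
  let R := Scheme.Modules.restrictFunctor U.ι
  let P := Scheme.Modules.pushforward U.ι
  let adj := Scheme.Modules.restrictAdjunction U.ι
  let a : P.obj G ⟶ P.obj (R.obj F) := P.map φ
  let η : F ⟶ P.obj (R.obj F) := adj.unit.app F
  have : (P.obj G).IsQuasicoherent := Groth.QCohMod.isQCoh_pushforward _ U.ι
  have : (R.obj F).IsQuasicoherent := inferInstanceAs (F.restrict U.ι).IsQuasicoherent
  have : (P.obj (R.obj F)).IsQuasicoherent := Groth.QCohMod.isQCoh_pushforward _ U.ι
  have hη : IsIso (R.map η) := by
    have h := adj.left_triangle_components F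
    have : IsIso (adj.counit.app (R.obj F)) := inferInstance
    have : IsIso (R.map η ≫ adj.counit.app (R.obj F)) := by rw [h]; infer_instance
    exact IsIso.of_isIso_comp_right (R.map η) (adj.counit.app (R.obj F))
  have hsq := (IsPullback.of_hasPullback a η).map R
  have : IsIso (R.map (pullback.fst a η)) := hsq.isIso_fst_of_isIso
  let e : R.obj (pullback a η) ≅ G := asIso (R.map (pullback.fst a η) ≫ adj.counit.app G)
  refine ⟨pullback a η, pullback.snd a η, e, Groth.QCohMod.isQCoh_pullback a η, ?_⟩
  change (R.map (pullback.fst a η) ≫ adj.counit.app G) ≫ φ = R.map (pullback.snd a η)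
  rw [Category.assoc, ← adj.counit_naturality φ, ← Category.assoc, ← R.map_comp, pullback.condition,
    R.map_comp, Category.assoc, adj.left_triangle_components F]
  exact Category.comp_id _

end Groth.Agent.S9818
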