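import Groth.Statements.S9819
import Groth.Agent.QCohMod.ExtendCases

set_option autoImplicit false
universe u
open CategoryTheory CategoryTheory.Limits AlgebraicGeometry TopologicalSpace Opposite
open Props

namespace Groth.Agent.S9819

/-- On a quasi-compact quasi-separated scheme, every local section of a quasi-coherent module over an
affine open lies in some quasi-coherent submodule of finite type; hence the module is the directed
union of its quasi-coherent submodules of finite type. -/
theorem result {X : Scheme.{u}} [CompactSpace X]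
    [QuasiSeparatedSpace X] (F : X.Modules) [Coh.IsQCoh F] (U : X.affineOpens)
    (s : F.val.obj (op (U : X.Opens))) :
    ∃ (G : X.Modules) (i : G ⟶ F), Mono i ∧ Coh.IsQCoh G ∧ CohB1.IsFT G ∧
      ∃ g : G.val.obj (op (U : X.Opens)), (i.val.app (op (U : X.Opens))).hom g = s := by
  have : F.IsQuasicoherent := ‹Coh.IsQCoh F›
  obtain ⟨n, V, hV, hcov, hW, hc⟩ := Groth.QCohMod.exists_finite_cover (X := X)
  let P₀ := Groth.QCohMod.SubMod.locSpan (U : X.Opens) ({s} : Set Γ(F, (U : X.Opens)))
  have hP₀ : P₀.GoodOn U := fun x hx => ⟨U, le_rfl, hx,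
    Groth.QCohMod.SubMod.locSpan_goodAt U.2 _ (Set.finite_singleton _)⟩
  obtain ⟨P, hP, hgood⟩ := Groth.QCohMod.SubMod.exists_extension V hV hcov hW U
    (hc U U.2.isCompact) P₀ hP₀
  obtain ⟨hq, hft⟩ := Groth.QCohMod.SubMod.isQCoh_toMod hgood
  refine ⟨P.toMod, P.ι, inferInstance, hq, hft, ?_⟩
  refine P.exists_ι_app_eq (W := (U : X.Opens)) s ?_
  rw [hP _ le_rfl]
  intro x hx
  exact ⟨U, le_rfl, le_rfl, hx.2, Submodule.subset_span ⟨s, rfl, rfl⟩⟩

end Groth.Agent.S9819
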