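import Groth.Statements.S9820
import Groth.Agent.QCohMod.FPColimit

set_option autoImplicit false
universe u
open CategoryTheory CategoryTheory.Limits AlgebraicGeometry TopologicalSpace Opposite
open Props

namespace Groth.Agent.S9820

set_option backward.isDefEq.respectTransparency.types false

/-- On a quasi-compact quasi-separated scheme, a quasi-coherent module of finite type which is of finite
presentation over a quasi-compact open U is the quotient of a module of finite presentation by a
surjection which is an isomorphism over U. -/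
theorem result {X : Scheme.{u}} [CompactSpace X]
    [QuasiSeparatedSpace X] (F : X.Modules) [Coh.IsQCoh F] (hF : CohB1.IsFT F) (U : X.Opens)
    (hU : IsCompact (U : Set X)) (hFU : CohB1.IsFP (F.restrict U.ι)) :
    ∃ (G : X.Modules) (φ : G ⟶ F), CohB1.IsFP G ∧ Epi φ ∧
      IsIso ((Scheme.Modules.restrictFunctor U.ι).map φ) := by
  haveI : F.IsQuasicoherent := ‹Coh.IsQCoh F›
  obtain ⟨G, hGq, π, hG, hπ⟩ := Groth.QCohMod.exists_fp_epi F hF
  haveI : CompactSpace (U : Scheme.{u}) := isCompact_iff_compactSpace.mp hU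
  have hK : ∀ x ∈ U, ∃ A ≤ U, IsAffineOpen A ∧ x ∈ A ∧
      Module.Finite Γ(X, A) Γ((Limits.kernel π : X.Modules), A) := by
    intro x hx
    obtain ⟨B, hB, hxB⟩ := Groth.QCohMod.exists_affine_mem (X := (U : Scheme.{u})) ⟨x, hx⟩
    have hA := hB.image_of_isOpenImmersion U.ι
    have := Groth.PropsBasic.FPSections.finitePresentation_sections G hG hA
    haveI : (F.restrict U.ι).IsQuasicoherent :=
      Scheme.Modules.isQuasicoherent_restrictFunctor U.ι F
    have : Module.FinitePresentation Γ(X, U.ι ''ᵁ B) Γ(F, U.ι ''ᵁ B) :=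
      (Groth.QCohMod.fp_image_iff F B).1
        (Groth.PropsBasic.FPSections.finitePresentation_sections _ hFU hB)
    exact ⟨_, U.ι_image_le B, hA, ⟨⟨x, hx⟩, hxB, rfl⟩,
      Groth.QCohMod.finite_kernel_sections π (Groth.QCohMod.app_surjective_of_epi π hA)⟩
  obtain ⟨P, hP, hPU⟩ := Groth.QCohMod.exists_good_sub_agree _ hU hK
  obtain ⟨hPq, hPft⟩ := Groth.QCohMod.SubMod.isQCoh_toMod hP
  let v : P.toMod ⟶ G := P.ι ≫ Limits.kernel.ι π
  have hv : v ≫ π = 0 := by rw [Category.assoc, Limits.kernel.condition, Limits.comp_zero]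
  let φ : Limits.cokernel v ⟶ F := Limits.cokernel.desc v π hv
  have hfac : Limits.cokernel.π v ≫ φ = π := Limits.cokernel.π_desc _ _ _
  have hepi : Epi φ := by
    haveI : Epi (Limits.cokernel.π v ≫ φ) := by rw [hfac]; exact hπ
    exact epi_of_epi (Limits.cokernel.π v) φ
  refine ⟨Limits.cokernel v, φ, Groth.QCohMod.isFP_cokernel_of_isFT v hG hPft, hepi, ?_⟩
  have hbij : ∀ Z ≤ U, Function.Bijective (φ.app Z) := by
    refine Groth.QCohMod.bijective_of_basis φ fun x hx Z hxZ => ?_
    obtain ⟨A, hA, hxA, hAsub⟩ := exists_isAffineOpen_mem_and_subset (x := x)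
      (U := Z ⊓ U) (show x ∈ Z ⊓ U from ⟨hxZ, hx⟩)
    refine ⟨A, fun y hy => (hAsub hy).1, hxA, (injective_iff_map_eq_zero _).2 fun c hc => ?_,
      Groth.QCohMod.app_surjective_of_epi φ hA⟩
    obtain ⟨a, rfl⟩ := Groth.QCohMod.app_surjective_of_epi (Limits.cokernel.π v) hA c
    have ha : π.app A a = 0 := by
      rw [← hc]
      exact (congr(($hfac).app A a)).symm
    obtain ⟨q, rfl⟩ := Groth.QCohMod.kernel_exists_app π a ha
    obtain ⟨p, rfl⟩ := P.exists_ι_app_eq q (by rw [hPU A fun y hy => (hAsub hy).2]; trivial)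
    exact congr(($(Limits.cokernel.condition v)).app A p)
  exact Groth.CohTwo.isIso_of_app_bijective _ fun B => hbij _ (U.ι_image_le B)

end Groth.Agent.S9820
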