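import Mathlib
import Groth.Statements.S9822


set_option autoImplicit false
universe u
open CategoryTheory CategoryTheory.Limits AlgebraicGeometry TopologicalSpace Opposite
open Props

namespace Groth.Agent.S9822

/-- A scheme is irreducible if and only if it is nonempty and every nonempty affine open subset is
irreducible. -/
theorem result (X : Scheme.{u}) :
    IrreducibleSpace X ↔ Nonempty X ∧ ∀ U : X.Opens, IsAffineOpen U → (U : Set X).Nonempty → IsIrreducible (U : Set X) := by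
  refine ⟨fun h => ⟨h.2, fun U _ hU => ⟨hU, (PreirreducibleSpace.isPreirreducible_univ
    (X := X)).open_subset U.isOpen (Set.subset_univ _)⟩⟩, fun ⟨hne, h⟩ => ?_⟩
  have key : ∀ U V : X.Opens, IsAffineOpen U → IsAffineOpen V → (U : Set X).Nonempty →
      (V : Set X).Nonempty → ((U : Set X) ∩ V).Nonempty := by
    intro U V hU hV hUne hVne
    by_contra hd
    have hdisj : Disjoint U V := by
      rw [← TopologicalSpace.Opens.coe_disjoint, Set.disjoint_iff_inter_eq_empty]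
      exact Set.not_nonempty_iff_eq_empty.mp hd
    have hW := h (U ⊔ V) (IsAffineOpen.sup_of_disjoint hU hV hdisj) (hUne.mono (SetLike.coe_subset_coe.mpr le_sup_left))
    obtain ⟨x, -, hx⟩ := hW.2 U V U.isOpen V.isOpen
      (hUne.imp fun x hx => ⟨Or.inl hx, hx⟩) (hVne.imp fun x hx => ⟨Or.inr hx, hx⟩)
    exact hd ⟨x, hx⟩
  have : PreirreducibleSpace X := by
    refine ⟨fun u v hu hv hune hvne => ?_⟩
    obtain ⟨x, -, hx⟩ := hune
    obtain ⟨y, -, hy⟩ := hvne
    obtain ⟨U, hU, hxU, hUu⟩ := X.isBasis_affineOpens.exists_subset_of_mem_open hx hu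
    obtain ⟨V, hV, hyV, hVv⟩ := X.isBasis_affineOpens.exists_subset_of_mem_open hy hv
    obtain ⟨U, rfl⟩ : ∃ U' : X.affineOpens, ((U' : X.Opens) : Set X) = U := by
      obtain ⟨U', hU', rfl⟩ := hU; exact ⟨⟨U', hU'⟩, rfl⟩
    obtain ⟨V, rfl⟩ : ∃ V' : X.affineOpens, ((V' : X.Opens) : Set X) = V := by
      obtain ⟨V', hV', rfl⟩ := hV; exact ⟨⟨V', hV'⟩, rfl⟩
    obtain ⟨z, hzU, hzV⟩ := key U V U.2 V.2 ⟨x, hxU⟩ ⟨y, hyV⟩
    exact ⟨z, trivial, hUu hzU, hVv hzV⟩
  exact ⟨hne⟩

end Groth.Agent.S9822
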