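import Groth.Statements.S9823
import Mathlib
import Groth.Agent.FlatMor2.AffineThickening

set_option autoImplicit false
universe u
open CategoryTheory CategoryTheory.Limits AlgebraicGeometry TopologicalSpace Opposite
open Props

namespace Groth.Agent.S9823

open TopologicalSpace in
theorem fg_of_cover {X : Scheme.{u}} (K : X.IdealSheafData) {ι : Type*} (W : ι → X.affineOpens)
    (hW : (⨆ i, (W i : X.Opens)) = ⊤) (h : ∀ i, (K.ideal (W i)).FG) (V : X.affineOpens) :
    (K.ideal V).FG := by
  induction V using of_affine_open_cover W hW with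
  | basicOpen U f hU =>
    rw [← K.map_ideal_basicOpen U f]
    exact hU.map _
  | openCover U s hs hU =>
    refine Ideal.fg_of_localizationSpan (s : Set Γ(X, U.1)) hs fun g => ?_
    have h := hU g
    rw [← K.map_ideal_basicOpen U g.1] at h
    haveI := IsAffineOpen.isLocalization_basicOpen U.2 g.1
    let e : Γ(X, X.basicOpen g.1) ≃ₐ[Γ(X, U.1)] Localization.Away g.1 :=
      IsLocalization.algEquiv (Submonoid.powers g.1) _ _
    have h2 := h.map e.toRingEquiv.toRingHom
    erw [Ideal.map_map] at h2
    convert h2 using 2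
    exact (RingHom.ext fun a => (e.commutes a).symm)
  | hU i => exact h i

/-- In a quasi-compact quasi-separated scheme, an open subset is quasi-compact exactly when its
complement is the support of some quasi-coherent ideal sheaf of finite type. -/
theorem result (X : Scheme.{u}) [CompactSpace X] [QuasiSeparatedSpace X]
    (U : X.Opens) :
    IsCompact (U : Set X) ↔
      ∃ I : X.IdealSheafData, (∀ V : X.affineOpens, (I.ideal V).FG) ∧ (I.support : Set X) = (U : Set X)ᶜ := by
  classical
  obtain ⟨t, ht, htop⟩ := isCompact_iff_finite_and_eq_biUnion_affineOpens.mp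
    (show IsCompact ((⊤ : X.Opens) : Set X) from isCompact_univ)
  haveI := ht.fintype
  have hcov : (⨆ V : t, (V.1 : X.Opens)) = ⊤ := by rw [htop, iSup_subtype]
  constructor
  · intro hU
    let J := Scheme.IdealSheafData.vanishingIdeal (X := X) ⟨(U : Set X)ᶜ, U.isOpen.isClosed_compl⟩
    have hJ : (J.support : Set X) = (U : Set X)ᶜ := by
      simp [J, Scheme.IdealSheafData.coe_support_vanishingIdeal]
    have hpt : ∀ x : U, ∃ (V : X.affineOpens) (f : Γ(X, V.1)), f ∈ J.ideal V ∧
        (x : X) ∈ X.basicOpen f := by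
      intro x
      obtain ⟨V, hV, hxV, -⟩ := TopologicalSpace.Opens.isBasis_iff_nbhd.mp X.isBasis_affineOpens
        (TopologicalSpace.Opens.mem_top x.1)
      have hx : x.1 ∉ (J.support : Set X) := by rw [hJ]; exact fun h => h x.2
      rw [SetLike.mem_coe, Scheme.IdealSheafData.mem_support_iff_of_mem (U := ⟨V, hV⟩) hxV,
        Scheme.mem_zeroLocus_iff] at hx
      push Not at hx
      obtain ⟨f, hf, hxf⟩ := hx
      exact ⟨⟨V, hV⟩, f, hf, hxf⟩
    choose V f hf hxf using hpt
    obtain ⟨s, hs⟩ := hU.elim_finite_subcover (fun x : U => (X.basicOpen (f x) : Set X))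
      (fun x => (X.basicOpen (f x)).isOpen) (fun x hx => Set.mem_iUnion.mpr ⟨⟨x, hx⟩, hxf ⟨x, hx⟩⟩)
    have hK : ∀ x : U, ∃ K : X.IdealSheafData, K ≤ J ∧ f x ∈ K.ideal (V x) ∧
        ∀ W ∈ (Finset.univ : Finset t).image Subtype.val, (K.ideal W).FG :=
      fun x => Groth.FlatMor2.exists_le_fg J (V x) (f x) (hf x) _
    choose K hKJ hfK hKfg using hK
    refine ⟨s.sup K, fg_of_cover _ (fun W : t => W.1) hcov fun W => ?_,
      le_antisymm (fun x hx hxU => ?_) ?_⟩
    · refine Finset.sup_induction (p := fun I : X.IdealSheafData => (I.ideal W.1).FG)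
        (by rw [Scheme.IdealSheafData.ideal_bot]; exact Submodule.fg_bot) (fun a ha b hb => by
          rw [Scheme.IdealSheafData.ideal_sup]; exact Submodule.FG.sup ha hb)
        fun x _ => hKfg x W.1 (Finset.mem_image.mpr ⟨W, Finset.mem_univ _, rfl⟩)
    · obtain ⟨i, hi, hxi⟩ := Set.mem_iUnion₂.mp (hs hxU)
      have hxi' : x ∈ (V i).1 := X.basicOpen_le _ hxi
      rw [SetLike.mem_coe, Scheme.IdealSheafData.mem_support_iff_of_mem hxi',
        Scheme.mem_zeroLocus_iff] at hx
      exact hx (f i) (Scheme.IdealSheafData.ideal_mono (Finset.le_sup hi) _ (hfK i)) hxi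
    · rw [← hJ]
      exact Scheme.IdealSheafData.support_antitone (Finset.sup_le fun x _ => hKJ x)
  · rintro ⟨I, hfg, hI⟩
    have key : ∀ W : t, IsCompact ((U : Set X) ∩ (W.1.1 : Set X)) := fun W => by
      obtain ⟨S, hS⟩ := hfg W.1
      have : (U : Set X) ∩ (W.1.1 : Set X) = ⋃ g ∈ S, (X.basicOpen g : Set X) := by
        ext x
        simp only [Set.mem_inter_iff, Set.mem_iUnion, SetLike.mem_coe, exists_prop]
        constructor
        · rintro ⟨hxU, hxW⟩
          have hx : x ∉ (I.support : Set X) := by rw [hI]; exact fun h => h hxU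
          rw [SetLike.mem_coe, Scheme.IdealSheafData.mem_support_iff_of_mem hxW, ← hS,
            Scheme.zeroLocus_span, Scheme.mem_zeroLocus_iff] at hx
          push Not at hx
          simpa using hx
        · rintro ⟨g, hg, hx⟩
          have hxW : x ∈ W.1.1 := X.basicOpen_le _ hx
          refine ⟨by_contra fun hxU => ?_, hxW⟩
          have hx' : x ∈ (I.support : Set X) := by rw [hI]; exact hxU
          rw [SetLike.mem_coe, Scheme.IdealSheafData.mem_support_iff_of_mem hxW,
            Scheme.mem_zeroLocus_iff] at hx'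
          exact hx' g (hS ▸ Ideal.subset_span hg) hx
      rw [this]
      exact S.finite_toSet.isCompact_biUnion fun g _ => (W.1.2.basicOpen g).isCompact
    have : (U : Set X) = ⋃ W : t, (U : Set X) ∩ (W.1.1 : Set X) := by
      ext x
      simp only [Set.mem_iUnion, Set.mem_inter_iff, SetLike.mem_coe, exists_and_left,
        iff_self_and]
      intro _
      exact TopologicalSpace.Opens.mem_iSup.mp (hcov.ge trivial)
    rw [this]
    exact isCompact_iUnion key

end Groth.Agent.S9823
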