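import Groth.Statements.S9828
import Groth.Agent.QCohMod.FPColimit

set_option autoImplicit false
universe u
open CategoryTheory CategoryTheory.Limits AlgebraicGeometry TopologicalSpace Opposite
open Props

namespace Groth.Agent.S9828

set_option backward.isDefEq.respectTransparency.types false

/-- On a quasi-compact quasi-separated scheme, a quasi-coherent module of finite type is a directed
colimit of modules of finite presentation with surjective transition maps. -/
theorem result {X : Scheme.{u}} [CompactSpace X]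
    [QuasiSeparatedSpace X] (F : X.Modules) [Coh.IsQCoh F] (hF : CohB1.IsFT F) :
    ∃ (J : Type u) (_ : PartialOrder J) (_ : IsDirected J (· ≤ ·)) (_ : Nonempty J) (D : J ⥤ X.Modules)
      (ι : D ⟶ (Functor.const J).obj F), Nonempty (IsColimit (Cocone.mk F ι)) ∧
      (∀ j, CohB1.IsFP (D.obj j)) ∧ ∀ (j j' : J) (h : j ⟶ j'), Epi (D.map h) := by
  haveI : F.IsQuasicoherent := ‹Coh.IsQCoh F›
  obtain ⟨G, hGq, π, hG, hπ⟩ := Groth.QCohMod.exists_fp_epi F hF
  let Gd : PUnit.{u + 1} ⥤ X.Modules := (Functor.const PUnit.{u + 1}).obj G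
  haveI : ∀ i, (Gd.obj i).IsQuasicoherent := fun _ => hGq
  let πd : Gd ⟶ (Functor.const PUnit.{u + 1}).obj F := (Functor.const PUnit.{u + 1}).map π
  refine ⟨Groth.QCohMod.StageIdx Gd πd, inferInstance, inferInstance, inferInstance,
    Groth.QCohMod.StageIdx.diagram Gd πd, Groth.QCohMod.StageIdx.toF Gd πd,
    Groth.QCohMod.StageIdx.isColimit fun V hV s => ⟨PUnit.unit, ?_⟩,
    Groth.QCohMod.StageIdx.isFP_obj fun _ => hG, fun j j' h => ?_⟩
  · exact Groth.QCohMod.app_surjective_of_epi π hV s
  · haveI : ∀ (i j : PUnit.{u + 1}) (h : i ⟶ j), Epi (Gd.map h) := fun i j h =>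
      inferInstanceAs (Epi (𝟙 G))
    exact Groth.QCohMod.StageIdx.epi_map h

end Groth.Agent.S9828
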