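import Groth.Statements.S9832
import Mathlib
import Groth.Agent.S7547

set_option autoImplicit false
universe u
open Props

namespace Groth.Agent.S9832

theorem isMaximal_of_forall_mem {A : Type*} [CommRing A] [IsDomain A] [IsNoetherianRing A] {f : A}
    (hf₀ : f ≠ 0)
    (h : ∀ q : Ideal A, q.IsPrime → q ≠ ⊥ → f ∈ q) (q : Ideal A) [hq : q.IsPrime] (hq0 : q ≠ ⊥) :
    q.IsMaximal := by
  obtain ⟨m, hm, hqm⟩ := q.exists_le_maximal hq.ne_top
  rcases eq_or_lt_of_le hqm with rfl | hlt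
  · exact hm
  exfalso
  have hfin := Ideal.finite_minimalPrimes_of_isNoetherianRing A (Ideal.span {f})
  have hle : ∀ P ∈ (Ideal.span {f}).minimalPrimes, P.height ≤ 1 := fun P hP =>
    haveI := hP.1.1
    Ideal.height_le_one_of_isPrincipal_of_mem_minimalPrimes _ P hP
  have h2 : 2 ≤ m.height := by
    have h1 : 1 ≤ q.height :=
      ENat.one_le_iff_ne_zero.mpr fun e => hq0 (Ideal.height_eq_zero_iff_eq_bot.mp e)
    calc (2 : ℕ∞) = 1 + 1 := by norm_num
      _ ≤ q.height + 1 := add_le_add h1 le_rfl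
      _ ≤ m.height := Ideal.height_add_one_le_of_lt_of_isPrime hlt
  have hav : ¬ ((m : Set A) ⊆ ⋃ P ∈ (Ideal.span {f}).minimalPrimes, (P : Set A)) := fun hsub => by
    obtain ⟨P, hP, hmP⟩ := (Ideal.subset_union_prime_finite hfin ⊥ ⊥ fun P hP _ _ => hP.1.1).mp hsub
    exact absurd ((h2.trans (Ideal.height_mono hmP)).trans (hle P hP)) (by decide)
  obtain ⟨x, hxm, hx⟩ := Set.not_subset.mp hav
  simp only [Set.mem_iUnion, SetLike.mem_coe, not_exists] at hx
  obtain ⟨Q, hQ, hQm⟩ := Ideal.exists_minimalPrimes_le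
    ((Ideal.span_singleton_le_iff_mem _).mpr hxm : Ideal.span {x} ≤ m)
  haveI := hQ.1.1
  have hf : f ∈ m := h m hm.isPrime fun e => by simp [e] at h2
  have hxQ : x ∈ Q := hQ.1.2 (Ideal.mem_span_singleton_self x)
  have hQ0 : Q ≠ ⊥ := fun e => by
    obtain ⟨P, hP, -⟩ := Ideal.exists_minimalPrimes_le
      ((Ideal.span_singleton_le_iff_mem _).mpr hf : Ideal.span {f} ≤ m)
    rw [e, Ideal.mem_bot] at hxQ
    exact hx P hP (hxQ ▸ P.zero_mem)
  obtain ⟨P, hP, hPQ⟩ := Ideal.exists_minimalPrimes_le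
    ((Ideal.span_singleton_le_iff_mem _).mpr (h Q inferInstance hQ0) : Ideal.span {f} ≤ Q)
  haveI := hP.1.1
  rcases eq_or_lt_of_le hPQ with e | hlt'
  · exact hx P hP (e.symm ▸ hxQ)
  by_cases hP0 : P = ⊥
  · have := hP.1.2 (Ideal.mem_span_singleton_self f)
    rw [hP0, Ideal.mem_bot] at this
    exact hf₀ this
  have h1 : 1 ≤ P.height :=
    ENat.one_le_iff_ne_zero.mpr fun e => hP0 (Ideal.height_eq_zero_iff_eq_bot.mp e)
  have hc : (2 : ℕ∞) ≤ 1 :=
    calc (2 : ℕ∞) = 1 + 1 := by norm_num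
      _ ≤ P.height + 1 := add_le_add h1 le_rfl
      _ ≤ Q.height := Ideal.height_add_one_le_of_lt_of_isPrime hlt'
      _ ≤ 1 := Ideal.height_le_one_of_isPrincipal_of_mem_minimalPrimes _ Q hQ
  exact absurd hc (by decide)

/-- For a Noetherian ring R and an ideal I inside the Jacobson radical of R, the complement of V(I) in
Spec R is a Jacobson topological space. -/
theorem result (R : Type u) [CommRing R] [IsNoetherianRing R]
    (I : Ideal R) (hI : I ≤ (⊥ : Ideal R).jacobson) :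
    JacobsonSpace ↥((PrimeSpectrum.zeroLocus (I : Set R))ᶜ) := by
  have hopen : IsOpen ((PrimeSpectrum.zeroLocus (I : Set R))ᶜ) :=
    (PrimeSpectrum.isClosed_zeroLocus _).isOpen_compl
  by_contra hJ
  haveI : TopologicalSpace.NoetherianSpace ↥((PrimeSpectrum.zeroLocus (I : Set R))ᶜ) :=
    TopologicalSpace.NoetherianSpace.set _
  obtain ⟨⟨p, hp⟩, hnc, hlc⟩ := Groth.Agent.S7547.result hJ
  obtain ⟨Y, hYo, hYp⟩ : ∃ Y : Set (PrimeSpectrum R), IsOpen Y ∧ Y ∩ closure {p} = {p} := by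
    have : IsLocallyClosed ({p} : Set (PrimeSpectrum R)) := by
      simpa using hlc.image hopen.isOpenEmbedding_subtypeVal.isInducing
        hopen.isOpenEmbedding_subtypeVal.isOpen_range.isLocallyClosed
    exact ⟨_, this.isOpen_coborder, coborder_inter_closure⟩
  have hpY : p ∈ Y := (hYp.ge rfl).1
  obtain ⟨_, ⟨_, ⟨f, rfl⟩, rfl⟩, hpf, hfY⟩ :=
    PrimeSpectrum.isBasis_basic_opens.exists_subset_of_mem_open hpY hYo
  obtain ⟨q, hpq, hne, hqI⟩ : ∃ q : PrimeSpectrum R, p ⤳ q ∧ q ≠ p ∧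
      q ∈ (PrimeSpectrum.zeroLocus (I : Set R))ᶜ := by
    by_contra h
    push Not at h
    refine hnc ?_
    rw [← closure_subset_iff_isClosed]
    intro z hz
    have : p ⤳ z.1 := (specializes_iff_mem_closure.mpr hz).map continuous_subtype_val
    exact Subtype.ext (by_contra fun hne => h z.1 this hne z.2)
  have key : ∀ r : PrimeSpectrum R, p ⤳ r → r ≠ p → f ∈ r.asIdeal := fun r hr hne => by
    by_contra hf
    exact hne (hYp.le ⟨hfY hf, hr.mem_closure⟩)
  have hle : p.asIdeal ≤ q.asIdeal := (PrimeSpectrum.le_iff_specializes p q).mpr hpq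
  haveI : (q.asIdeal.map (Ideal.Quotient.mk p.asIdeal)).IsPrime :=
    Ideal.map_isPrime_of_surjective Ideal.Quotient.mk_surjective (by simpa using hle)
  have hcomap : (q.asIdeal.map (Ideal.Quotient.mk p.asIdeal)).comap (Ideal.Quotient.mk p.asIdeal) =
      q.asIdeal := by
    rw [Ideal.comap_map_of_surjective _ Ideal.Quotient.mk_surjective,
      show (⊥ : Ideal (R ⧸ p.asIdeal)).comap (Ideal.Quotient.mk p.asIdeal) = p.asIdeal from
        Ideal.mk_ker]
    exact sup_eq_left.mpr hle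
  have hmax : (q.asIdeal.map (Ideal.Quotient.mk p.asIdeal)).IsMaximal := by
    refine isMaximal_of_forall_mem (f := Ideal.Quotient.mk p.asIdeal f)
      (fun e => hpf (Ideal.Quotient.eq_zero_iff_mem.mp e)) (fun r hr hr0 => ?_) _ fun e => hne ?_
    · refine key ⟨r.comap (Ideal.Quotient.mk p.asIdeal), inferInstance⟩ ?_ fun e => hr0 ?_
      · refine (PrimeSpectrum.le_iff_specializes _ _).mp fun a ha => ?_
        change Ideal.Quotient.mk p.asIdeal a ∈ r
        rw [Ideal.Quotient.eq_zero_iff_mem.mpr ha]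
        exact r.zero_mem
      · rw [← Ideal.map_comap_of_surjective _ Ideal.Quotient.mk_surjective r]
        simp [show r.comap (Ideal.Quotient.mk p.asIdeal) = p.asIdeal from congrArg PrimeSpectrum.asIdeal e]
    · ext1
      rw [← hcomap, e]
      exact Ideal.mk_ker
  have hqmax : q.asIdeal.IsMaximal := by
    rw [← hcomap]
    exact Ideal.comap_isMaximal_of_surjective _ Ideal.Quotient.mk_surjective
  exact hqI (show (I : Set R) ⊆ q.asIdeal from hI.trans (sInf_le ⟨bot_le, hqmax⟩))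

end Groth.Agent.S9832
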