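import Groth.Statements.S9834
import Mathlib
import Groth.Agent.S9398
import Groth.Agent.S9399

set_option autoImplicit false
universe u
open CategoryTheory AlgebraicGeometry TopologicalSpace
open Props

namespace Groth.Agent.S9834

/-- If a scheme has an affine open covering by spectra of universally Japanese rings, then the
coordinate ring of every affine open is universally Japanese. -/
theorem result (X : Scheme.{u}) {ι : Type u} (U : ι → X.Opens)
    (hU : iSup U = ⊤) (haff : ∀ i, IsAffineOpen (U i)) (hJ : ∀ i, CAlg.IsUniversallyJapanese Γ(X, U i))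
    (V : X.Opens) (hV : IsAffineOpen V) : CAlg.IsUniversallyJapanese Γ(X, V) := by
  have key : ∀ {A B : Type u} [CommRing A] [CommRing B], A ≃+* B →
      CAlg.IsUniversallyJapanese A → CAlg.IsUniversallyJapanese B := fun {A B} _ _ e h => by
    let _ := e.toRingHom.toAlgebra
    have : Algebra.FiniteType A B :=
      RingHom.finiteType_algebraMap.mp (RingHom.FiniteType.of_surjective e.toRingHom e.surjective)
    exact Groth.Agent.S9398.result A h B
  suffices ∀ W : X.affineOpens, CAlg.IsUniversallyJapanese Γ(X, W.1) from this ⟨V, hV⟩
  intro W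
  induction W using of_affine_open_cover
    (fun i => (⟨U i, haff i⟩ : X.affineOpens)) hU with
  | basicOpen W f hW =>
    change CAlg.IsUniversallyJapanese Γ(X, X.basicOpen f)
    haveI := IsAffineOpen.isLocalization_basicOpen W.2 f
    haveI : Algebra.EssFiniteType Γ(X, W.1) Γ(X, X.basicOpen f) :=
      Algebra.EssFiniteType.of_isLocalization _ (Submonoid.powers f)
    exact Groth.Agent.S9398.result _ hW _
  | openCover W s hs hW =>
    refine Groth.Agent.S9399.result _ (fun f : (s : Set Γ(X, W.1)) => f.1) (by simpa using hs) fun f => ?_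
    haveI := IsAffineOpen.isLocalization_basicOpen W.2 f.1
    obtain ⟨e⟩ : Nonempty (Γ(X, X.basicOpen f.1) ≃+* Localization.Away f.1) :=
      ⟨(IsLocalization.algEquiv (Submonoid.powers f.1) Γ(X, X.basicOpen f.1) _).toRingEquiv⟩
    exact key e (hW f)
  | hU i => exact hJ i

end Groth.Agent.S9834
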