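import Groth.Statements.S9835
import Mathlib
import Groth.Agent.PropsBasic.JapaneseLocal

set_option autoImplicit false
universe u
open CategoryTheory AlgebraicGeometry TopologicalSpace
open Props

namespace Groth.Agent.S9835

/-- If an integral scheme has an affine open covering by spectra of Japanese (N-2) domains, then the
coordinate ring of every nonempty affine open is a Japanese domain. -/
theorem result (X : Scheme.{u}) [IsIntegral X] {ι : Type u}
    (U : ι → X.Opens) [∀ i, Nonempty (U i)] (hU : iSup U = ⊤) (haff : ∀ i, IsAffineOpen (U i))
    (hJ : ∀ i, CAlg.IsN2 Γ(X, U i)) (V : X.Opens) [Nonempty V] (hV : IsAffineOpen V) :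
    CAlg.IsN2 Γ(X, V) := by
  exact Groth.PropsBasic.JapaneseLocal.isN2_of_cover X U hU haff hJ V hV

end Groth.Agent.S9835
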