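import Groth.Statements.S9836
import Groth.Agent.Dual3HomO.Sections
import Groth.Agent.QCohMod.Local
import Groth.Agent.CohTwo.Glue

set_option autoImplicit false
universe u
open CategoryTheory CategoryTheory.Limits AlgebraicGeometry
open Props

namespace Groth.Agent.S9836


open Groth.QCohMod (res resFun res_app res_smul res_res)

theorem fg_ker {Z X : Scheme.{u}} (i : Z ⟶ X) [IsClosedImmersion i]
    [LocallyOfFinitePresentation i] (U : X.affineOpens) : (i.ker.ideal U).FG := by
  rw [Scheme.Hom.ker_apply]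
  have hV : IsAffineOpen (i ⁻¹ᵁ (U : X.Opens)) := U.2.preimage i
  have h := i.finitePresentation_appLE U.2 hV le_rfl
  have hs := i.app_surjective U.1 U.2
  rw [Scheme.Hom.appLE_eq_app] at h
  algebraize [(i.app U.1).hom]
  exact Algebra.FinitePresentation.ker_fG_of_surjective (Algebra.ofId _ _) hs

/-- Sections of a pushforward are killed by the ideal. -/
lemma smul_pushforward_eq_zero {Z X : Scheme.{u}} (i : Z ⟶ X) [IsClosedImmersion i]
    (N : Z.Modules) (U : X.affineOpens)
    (y : Γ((Scheme.Modules.pushforward i).obj N, U.1)) (a : Γ(X, U.1))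
    (ha : a ∈ i.ker.ideal U) : a • y = 0 := by
  rw [Scheme.Hom.ker_apply, RingHom.mem_ker] at ha
  change (i.app U.1).hom a • (show Γ(N, i ⁻¹ᵁ U.1) from y) = 0
  rw [ha, zero_smul]

/-- Finitely many scalars are killed on `D(f)`, hence by a common power of `f`. -/
lemma exists_pow_killed {X : Scheme.{u}} (F : X.Modules) [F.IsQuasicoherent] {U : X.Opens}
    (hU : IsAffineOpen U) (f : Γ(X, U)) (t : Γ(F, U)) (I : Ideal Γ(X, U)) (hI : I.FG)
    (h : ∀ a ∈ I, res F (X.basicOpen_le f) (a • t) = 0) :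
    ∃ k : ℕ, ∀ a ∈ I, a • f ^ k • t = 0 := by
  classical
  obtain ⟨S, rfl⟩ := hI
  choose k hk using fun a : S =>
    Groth.QCohMod.exists_pow_smul_eq_zero F hU f ((a : Γ(X, U)) • t)
      (h a (Submodule.subset_span a.2))
  refine ⟨Finset.univ.sup k, fun a ha => ?_⟩
  induction ha using Submodule.span_induction with
  | mem b hb =>
    obtain ⟨d, hd⟩ := Nat.le.dest (Finset.le_sup (f := k) (Finset.mem_univ (⟨b, hb⟩ : S)))
    rw [← hd, pow_add, mul_comm, mul_smul, smul_comm, smul_comm b (f ^ k ⟨b, hb⟩), hk ⟨b, hb⟩,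
      smul_zero]
  | zero => rw [zero_smul]
  | add b c _ _ hb hc => rw [add_smul, hb, hc, add_zero]
  | smul d b _ hb => rw [smul_eq_mul, mul_smul, hb, smul_zero]

theorem key {Z X : Scheme.{u}} (i : Z ⟶ X) [IsClosedImmersion i] [LocallyOfFinitePresentation i]
    [Dual3.HasHomO i] (F : X.Modules) [F.IsQuasicoherent] :
    ((Scheme.Modules.pushforward i).obj ((Dual3.homO i).obj F)).IsQuasicoherent := by
  let P := (Scheme.Modules.pushforward i).obj ((Dual3.homO i).obj F)
  let ε : P ⟶ F := (Dual3.homOAdj i).counit.app F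
  haveI : Mono ε := Groth.Dual3HomO.mono_counit i F
  refine Groth.QCohMod.isQCoh_of_forall_affine P (fun U hU f s => ?_) (fun U hU f t ht => ?_)
  · obtain ⟨n, t, ht⟩ := Groth.QCohMod.exists_pow_smul_eq_res F hU f (ε.app _ s)
    obtain ⟨k, hk⟩ := exists_pow_killed F hU f t _ (fg_ker i ⟨U, hU⟩) fun a ha => by
      rw [res_smul, ht, smul_comm, ← Scheme.Modules.Hom.app_smul,
        smul_pushforward_eq_zero i _ ⟨_, hU.basicOpen f⟩ s (resFun X (X.basicOpen_le f) a)
          (Scheme.IdealSheafData.ideal_le_comap_ideal i.ker (U := ⟨_, hU.basicOpen f⟩)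
            (V := ⟨U, hU⟩) (X.basicOpen_le f) ha), map_zero, smul_zero]
    obtain ⟨y, hy⟩ := Groth.Dual3HomO.exists_counit_app_eq i F ⟨U, hU⟩ (f ^ k • t) hk
    refine ⟨k + n, y, Groth.CohTwo.app_injective ε _ ?_⟩
    rw [← res_app, Scheme.Modules.Hom.app_smul]
    refine (congrArg (res F (X.basicOpen_le f)) hy).trans ?_
    rw [res_smul, ht, map_pow, pow_add, mul_smul]
  · obtain ⟨n, hn⟩ := Groth.QCohMod.exists_pow_smul_eq_zero F hU f (ε.app U t)
      (by rw [res_app, ht, map_zero])
    exact ⟨n, Groth.CohTwo.app_injective ε _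
      (by rw [Scheme.Modules.Hom.app_smul, hn, map_zero])⟩

/-- For a closed immersion i : Z → X with ideal sheaf of finite type and a quasi-coherent O_X-module F,
the subsheaf of sections of F annihilated by the ideal, namely i_* Hom(O_Z, F) for the right adjoint
Hom(O_Z, -) of i_*, is a quasi-coherent O_X-module. -/
theorem result {Z X : Scheme.{u}} (i : Z ⟶ X)
    [IsClosedImmersion i] [LocallyOfFinitePresentation i] [Dual3.HasHomO i] (F : X.Modules) [Coh.IsQCoh F] :
    Coh.IsQCoh ((Scheme.Modules.pushforward i).obj ((Dual3.homO i).obj F)) := by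
  exact key i F

end Groth.Agent.S9836
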