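import Groth.Statements.S9838
import Groth.Agent.QCohMod.QCQS
import Groth.Agent.QCohMod.FTCriterion

set_option autoImplicit false
open CategoryTheory CategoryTheory.Limits AlgebraicGeometry Opposite
universe u
open Desc

namespace Groth.Agent.S9838

/-- Let f : X ⟶ Y be a finite morphism of schemes and F a quasi-coherent O_X-module. The pushforward
f_*F is of finite type as an O_Y-module exactly when F itself is of finite type as an O_X-module. -/
theorem result {X Y : Scheme.{u}} (f : X ⟶ Y) [IsFinite f]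
    (F : X.Modules) [F.IsQuasicoherent] :
    SheafOfModules.IsFiniteType (R := X.ringCatSheaf) F ↔
      SheafOfModules.IsFiniteType (R := Y.ringCatSheaf) ((Scheme.Modules.pushforward f).obj F) := by
  haveI hq : ((Scheme.Modules.pushforward f).obj F).IsQuasicoherent := Groth.QCohMod.isQCoh_pushforward F f
  have key : ∀ U : Y.Opens, IsAffineOpen U →
      (Module.Finite Γ(X, f ⁻¹ᵁ U) Γ(F, f ⁻¹ᵁ U) ↔
        Module.Finite Γ(Y, U) Γ((Scheme.Modules.pushforward f).obj F, U)) := by
    intro U hU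
    let P := Γ((Scheme.Modules.pushforward f).obj F, U)
    letI : Algebra Γ(Y, U) Γ(X, f ⁻¹ᵁ U) := (f.app U).hom.toAlgebra
    haveI : Module.Finite Γ(Y, U) Γ(X, f ⁻¹ᵁ U) := f.finite_app U hU
    letI : Module Γ(X, f ⁻¹ᵁ U) P := show Module Γ(X, f ⁻¹ᵁ U) Γ(F, f ⁻¹ᵁ U) from inferInstance
    haveI : IsScalarTower Γ(Y, U) Γ(X, f ⁻¹ᵁ U) P := .of_algebraMap_smul fun _ _ => rfl
    exact ⟨fun h => haveI : Module.Finite Γ(X, f ⁻¹ᵁ U) P := h; Module.Finite.trans Γ(X, f ⁻¹ᵁ U) P,
      fun h => show Module.Finite Γ(X, f ⁻¹ᵁ U) P from haveI : Module.Finite Γ(Y, U) P := h; Module.Finite.of_restrictScalars_finite Γ(Y, U) _ _⟩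
  constructor
  · intro h
    refine Groth.QCohMod.isFT_of_affine_cover _ fun y => ?_
    obtain ⟨U, hU, hy⟩ := Groth.QCohMod.exists_affine_mem y
    exact ⟨U, hU, hy, (key U hU).1 (Groth.QCohMod.finite_sections F h (hU.preimage f))⟩
  · intro h
    refine Groth.QCohMod.isFT_of_affine_cover _ fun x => ?_
    obtain ⟨U, hU, hy⟩ := Groth.QCohMod.exists_affine_mem (f x)
    exact ⟨f ⁻¹ᵁ U, hU.preimage f, hy, (key U hU).2 (Groth.QCohMod.finite_sections _ h hU)⟩

end Groth.Agent.S9838
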