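import Groth.Statements.S9839
import Groth.Agent.DescentBase.QCohHom

set_option autoImplicit false
open CategoryTheory CategoryTheory.Limits AlgebraicGeometry Opposite
universe u
open Desc

namespace Groth.Agent.S9839

/-- Let f i : T i ⟶ T be an fpqc covering family of a scheme T (a family in the fpqc precoverage) and W
i ⊆ T i open subsets such that for all i, j the inverse images of W i and W j under the two
projections of T i ×_T T j coincide. Then there is a unique open subset W ⊆ T with (f i)⁻¹(W) = W i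
for every i. -/
theorem result {ι : Type u} {T : Scheme.{u}} {Ti : ι → Scheme.{u}}
    (f : ∀ i, Ti i ⟶ T) (hf : Presieve.ofArrows Ti f ∈ Scheme.fpqcPrecoverage T)
    (W : ∀ i, (Ti i).Opens)
    (hW : ∀ i j, (pullback.fst (f i) (f j)) ⁻¹ᵁ (W i) = (pullback.snd (f i) (f j)) ⁻¹ᵁ (W j)) :
    ∃! V : T.Opens, ∀ i, (f i) ⁻¹ᵁ V = W i := by
  classical
  have hsat : ∀ i j (a : Ti i) (b : Ti j), f i a = f j b → a ∈ W i → b ∈ W j := by
    intro i j a b hab ha
    obtain ⟨z, hz1, hz2⟩ := Scheme.Pullback.exists_preimage_pullback a b hab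
    have : z ∈ pullback.fst (f i) (f j) ⁻¹ᵁ W i := show pullback.fst (f i) (f j) z ∈ W i from hz1.symm ▸ ha
    rw [hW i j] at this
    exact hz2 ▸ this
  let V : Set T := {x | ∃ i y, f i y = x ∧ y ∈ W i}
  have hpre : ∀ i, f i ⁻¹' V = (W i : Set (Ti i)) := fun i => by
    ext y
    exact ⟨fun ⟨j, b, hb, hbW⟩ => hsat j i b y hb hbW, fun hy => ⟨i, y, rfl, hy⟩⟩
  have hV : IsOpen V := by
    refine isOpen_iff_forall_mem_open.mpr fun x hxV => ?_
    obtain ⟨_, ⟨U, hU, rfl⟩, hxU, -⟩ :=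
      T.isBasis_affineOpens.exists_subset_of_mem_open (Set.mem_univ x) isOpen_univ
    change T.Opens at U
    obtain ⟨K, _, Z, p, a, hZ, hfl, ha, hsurj⟩ := Groth.DescentBase.exists_pieces f hf hU
    haveI : IsAffine (U : Scheme.{u}) := hU
    have hr : ∀ k, Set.range (a k ≫ f (p k)).base ⊆ Set.range U.ι.base := by
      rintro k _ ⟨z, rfl⟩
      rw [Scheme.Opens.range_ι]
      exact ha k (Set.mem_univ z)
    let c : ∀ k, Z k ⟶ U := fun k => IsOpenImmersion.lift U.ι (a k ≫ f (p k)) (hr k)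
    have hc : ∀ k, c k ≫ U.ι = a k ≫ f (p k) := fun k => IsOpenImmersion.lift_fac _ _ _
    haveI : Surjective (Sigma.desc c) := ⟨fun u => by
      obtain ⟨k, z, hz⟩ := hsurj u.1 u.2
      refine ⟨Sigma.ι Z k z, U.ι.isOpenEmbedding.injective ?_⟩
      rw [← Scheme.Hom.comp_apply, ← Scheme.Hom.comp_apply, Sigma.ι_desc_assoc, hc]
      exact hz⟩
    haveI : Flat (Sigma.desc c) := (IsZariskiLocalAtSource.iff_of_openCover (P := @Flat)
      (sigmaOpenCover _)).mpr fun k => by
        change Flat (Sigma.ι Z k ≫ Sigma.desc c)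
        rw [Sigma.ι_desc]
        haveI : Flat (c k ≫ U.ι) := hc k ▸ hfl k
        exact MorphismProperty.of_postcomp (W := @Flat) (W' := @IsOpenImmersion) _ U.ι inferInstance inferInstance
    haveI := hZ
    have hq := (Flat.isQuotientMap_of_surjective (Sigma.desc c))
    have : IsOpen (U.ι ⁻¹' V) := by
      rw [← hq.isOpen_preimage]
      rw [(sigmaOpenCover Z).isOpenCover_opensRange.isOpen_iff_inter]
      intro k
      rw [Scheme.Hom.coe_opensRange, ← Set.image_preimage_eq_inter_range]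
      refine (Sigma.ι Z k).isOpenEmbedding.isOpenMap _ ?_
      have : Sigma.ι Z k ⁻¹' (Sigma.desc c ⁻¹' (U.ι ⁻¹' V)) = a k ⁻¹' (f (p k) ⁻¹' V) := by
        ext z
        simp only [Set.mem_preimage]
        rw [← Scheme.Hom.comp_apply (Sigma.ι Z k), Sigma.ι_desc, ← Scheme.Hom.comp_apply (c k), hc,
          Scheme.Hom.comp_apply]
      show IsOpen (Sigma.ι Z k ⁻¹' _)
      rw [this, hpre]
      exact (W (p k)).2.preimage (a k).continuous
    refine ⟨U.ι '' (U.ι ⁻¹' V), Set.image_preimage_subset _ _, U.ι.isOpenEmbedding.isOpenMap _ this, ?_⟩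
    exact ⟨⟨x, hxU⟩, hxV, rfl⟩
  refine ⟨⟨V, hV⟩, fun i => TopologicalSpace.Opens.ext (hpre i), fun V' hV' => ?_⟩
  ext x
  obtain ⟨i, y, rfl⟩ := Groth.DescentBase.exists_mem_range_of_fpqc hf x
  refine ⟨fun h => ⟨i, y, rfl, by rw [← hV' i]; exact h⟩, fun ⟨j, b, hb, hbW⟩ => ?_⟩
  rw [← hV' j] at hbW
  exact hb ▸ hbW

end Groth.Agent.S9839
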