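import Groth.Statements.S9841
import Groth.Agent.Calg4.SmoothReduced

set_option autoImplicit false
open CategoryTheory CategoryTheory.Limits AlgebraicGeometry Opposite
universe u
open Desc

namespace Groth.Agent.S9841

/-- Being reduced is local in the smooth topology: for a jointly surjective family of smooth morphisms f
i : X i ⟶ S, the scheme S is reduced if and only if every X i is reduced. -/
theorem result {ι : Type u} {S : Scheme.{u}} {X : ι → Scheme.{u}} (f : ∀ i, X i ⟶ S)
    (hf : Presieve.ofArrows X f ∈ Scheme.precoverage @Smooth S) :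
    IsReduced S ↔ ∀ i, IsReduced (X i) := by
  rw [Scheme.ofArrows_mem_precoverage_iff] at hf
  obtain ⟨hs, hsm⟩ := hf
  refine ⟨fun hS i => ?_, fun h => ?_⟩
  · haveI : Smooth (f i) := hsm i
    have : ∀ x : X i, _root_.IsReduced ((X i).presheaf.stalk x) := by
      intro x
      obtain ⟨_, ⟨U, hU, rfl⟩, hxU, -⟩ :=
        S.isBasis_affineOpens.exists_subset_of_mem_open (Set.mem_univ (f i x)) isOpen_univ
      obtain ⟨_, ⟨V, hV, rfl⟩, hxV, hVU⟩ :=
        (X i).isBasis_affineOpens.exists_subset_of_mem_open (show x ∈ f i ⁻¹ᵁ U from hxU) (f i ⁻¹ᵁ U).2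
      change S.Opens at U
      change (X i).Opens at V
      letI := ((f i).appLE U V hVU).hom.toAlgebra
      haveI : Algebra.Smooth Γ(S, U) Γ(X i, V) := (f i).smooth_appLE hU hV hVU
      haveI : _root_.IsReduced Γ(X i, V) := Groth.Calg4.isReduced_of_smooth Γ(S, U) _
      haveI : IsAffine (V : Scheme.{u}) := hV
      haveI : _root_.IsReduced Γ((V : Scheme.{u}), ⊤) :=
        isReduced_of_injective V.topIso.hom.hom V.topIso.commRingCatIsoToRingEquiv.injective
      haveI : AlgebraicGeometry.IsReduced (V : Scheme.{u}) := isReduced_of_isAffine_isReduced _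
      exact isReduced_of_injective _
        (asIso (V.ι.stalkMap (⟨x, hxV⟩ : V))).commRingCatIsoToRingEquiv.injective
    exact isReduced_of_isReduced_stalk _
  · have : ∀ x : S, _root_.IsReduced (S.presheaf.stalk x) := by
      intro x
      obtain ⟨i, y, rfl⟩ := hs x
      haveI : Smooth (f i) := hsm i
      haveI := h i
      letI := ((f i).stalkMap y).hom.toAlgebra
      haveI : IsLocalHom (algebraMap (S.presheaf.stalk (f i y)) ((X i).presheaf.stalk y)) :=
        inferInstanceAs (IsLocalHom ((f i).stalkMap y).hom)
      haveI : Module.Flat (S.presheaf.stalk (f i y)) ((X i).presheaf.stalk y) := Flat.stalkMap (f i) y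
      haveI := Module.FaithfullyFlat.of_flat_of_isLocalHom (A := S.presheaf.stalk (f i y)) (B := (X i).presheaf.stalk y)
      exact isReduced_of_injective (algebraMap (S.presheaf.stalk (f i y)) ((X i).presheaf.stalk y))
        (FaithfulSMul.algebraMap_injective _ _)
    exact isReduced_of_isReduced_stalk _

end Groth.Agent.S9841
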