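import Groth.Statements.S9842
import Mathlib.AlgebraicGeometry.Morphisms.UniversallyOpen
import Mathlib.AlgebraicGeometry.PullbackCarrier

set_option autoImplicit false
open CategoryTheory CategoryTheory.Limits AlgebraicGeometry Opposite
universe u
open Desc

namespace Groth.Agent.S9842

/-- Let E/k be a field extension, Y a scheme over k and f : X ⟶ Y a morphism. Writing Y_E = Y ×_k Spec
E, the morphism f is dominant if and only if its base change X ×_Y Y_E ⟶ Y_E is dominant. -/
theorem result {k E : Type u} [Field k] [Field E] [Algebra k E]
    {X Y : Scheme.{u}} (f : X ⟶ Y) (q : Y ⟶ Spec (.of k)) :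
    IsDominant f ↔
      IsDominant (pullback.snd f (pullback.fst q (Spec.map (CommRingCat.ofHom (algebraMap k E))))) := by
  have : UniversallyOpen (pullback.fst q (Spec.map (CommRingCat.ofHom (algebraMap k E)))) := inferInstance
  have : Surjective (pullback.fst q (Spec.map (CommRingCat.ofHom (algebraMap k E)))) :=
    MorphismProperty.pullback_fst (P := @Surjective) _ _
      ⟨fun p => ⟨Classical.arbitrary _, Subsingleton.elim _ _⟩⟩
  set g := pullback.fst q (Spec.map (CommRingCat.ofHom (algebraMap k E)))
  have hr : Set.range (pullback.snd f g) = g ⁻¹' Set.range f := Scheme.Pullback.range_snd _ _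
  have key : closure (Set.range (pullback.snd f g)) = g ⁻¹' closure (Set.range f) := by
    rw [hr, g.isOpenMap.preimage_closure_eq_closure_preimage g.continuous]
  constructor
  · intro hf
    refine ⟨dense_iff_closure_eq.2 ?_⟩
    rw [key, f.denseRange.closure_range, Set.preimage_univ]
  · intro hf
    refine ⟨dense_iff_closure_eq.2 ?_⟩
    rw [← Set.image_preimage_eq (closure (Set.range f)) g.surjective, ← key,
      (pullback.snd f g).denseRange.closure_range, Set.image_univ, g.surjective.range_eq]

end Groth.Agent.S9842
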