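import Groth.Statements.S9843
import Mathlib.AlgebraicGeometry.Morphisms.UniversallyOpen

set_option autoImplicit false
open CategoryTheory CategoryTheory.Limits AlgebraicGeometry Opposite
universe u
open Desc

namespace Groth.Agent.S9843

/-- Being dominant is fppf local on the base: for every fppf covering family Y i ⟶ Y (flat, locally of
finite presentation, jointly surjective), a morphism X ⟶ Y is dominant if and only if all its base
changes X ×_Y Y i ⟶ Y i are. -/
theorem result :
    MorphismProperty.IsLocalAtTarget (@IsDominant : MorphismProperty Scheme.{u}) Scheme.fppfPrecoverage := by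
  haveI : MorphismProperty.RespectsIso (@IsDominant : MorphismProperty Scheme.{u}) :=
    MorphismProperty.RespectsIso.mk _ (fun e f (hf : IsDominant f) => (inferInstance : IsDominant (e.hom ≫ f)))
      (fun e f (hf : IsDominant f) => (inferInstance : IsDominant (f ≫ e.hom)))
  refine MorphismProperty.IsLocalAtTarget.mk_of_iff fun X Y f R hR => ?_
  rw [Scheme.fppfPrecoverage, ← Presieve.ofArrows_category R, Scheme.ofArrows_mem_precoverage_iff] at hR
  obtain ⟨hs, hp⟩ := hR
  constructor
  · intro hf U g _ hg
    obtain ⟨hfl, hfp⟩ := hp ⟨Over.mk g, hg⟩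
    haveI : Flat g := hfl
    haveI : LocallyOfFinitePresentation g := hfp
    refine ⟨fun u => ?_⟩
    rw [mem_closure_iff]
    intro O hO hu
    obtain ⟨y, hy, x, hx⟩ := mem_closure_iff.mp (f.denseRange (g u)) _
      (g.isOpenMap O hO) ⟨u, hu, rfl⟩
    obtain ⟨u', hu', he⟩ := hy
    obtain ⟨z, -, hz⟩ := Scheme.Pullback.exists_preimage_pullback x u' (hx.trans he.symm)
    exact ⟨u', hu', z, hz⟩
  · intro h
    refine ⟨fun y => ?_⟩
    rw [mem_closure_iff]
    intro O hO hy
    obtain ⟨i, u, rfl⟩ := hs y
    have hd : IsDominant (pullback.snd f i.obj.hom) := h i.obj.hom i.property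
    obtain ⟨u', hu', z, hz⟩ := mem_closure_iff.mp ((pullback.snd f i.obj.hom).denseRange u) _
      (hO.preimage i.obj.hom.continuous) hy
    refine ⟨i.obj.hom u', hu', pullback.fst f i.obj.hom z, ?_⟩
    rw [← Scheme.Hom.comp_apply, pullback.condition, Scheme.Hom.comp_apply, hz]

end Groth.Agent.S9843
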