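import Groth.Statements.S9844
import Groth.Agent.GitQuot.FppfSourceScheme
-- import your own Groth.Agent.* helpers here

set_option autoImplicit false
open CategoryTheory CategoryTheory.Limits AlgebraicGeometry Opposite
universe u
open Desc

namespace Groth.Agent.S9844

/-- Being locally of finite type is fppf local on the source: for every fppf covering family g i : X i ⟶
X, a morphism f : X ⟶ Y is locally of finite type if and only if every composite g i ≫ f is. -/
theorem result :
    MorphismProperty.IsLocalAtSource (@LocallyOfFiniteType : MorphismProperty Scheme.{u}) Scheme.fppfPrecoverage := by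
  exact
    { comp := fun {X Y f R} hR {U} g hg hf => by
        have h : Flat g ∧ LocallyOfFinitePresentation g := hR.2 hg
        have := h.2
        have : LocallyOfFiniteType f := hf
        exact inferInstanceAs (LocallyOfFiniteType (g ≫ f))
      of_forall_comp := fun {X Y f R} hR h => by
        have hx : ∀ x : X, ∃ (U : Scheme.{u}) (g : U ⟶ X), R g ∧ x ∈ Set.range g := fun x => by
          obtain ⟨_, g', hg', y, hy⟩ := hR.1 x
          obtain ⟨hg⟩ := hg'
          exact ⟨_, _, hg, y, hy⟩
        choose U g hg hxg using hx
        have hι : ∀ x, Sigma.ι U x ≫ Sigma.desc g = g x := fun x => Sigma.ι_desc g x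
        have : Flat (Sigma.desc g) :=
          (IsZariskiLocalAtSource.iff_of_openCover (P := @Flat) (sigmaOpenCover U)).mpr fun x => by
            change Flat (Sigma.ι U x ≫ Sigma.desc g)
            rw [hι]; exact (hR.2 (hg x)).1
        have : LocallyOfFinitePresentation (Sigma.desc g) :=
          (IsZariskiLocalAtSource.iff_of_openCover (P := @LocallyOfFinitePresentation) (sigmaOpenCover U)).mpr fun x => by
            change LocallyOfFinitePresentation (Sigma.ι U x ≫ Sigma.desc g)
            rw [hι]; exact (hR.2 (hg x)).2
        have : LocallyOfFiniteType (Sigma.desc g ≫ f) :=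
          (IsZariskiLocalAtSource.iff_of_openCover (P := @LocallyOfFiniteType) (sigmaOpenCover U)).mpr fun x => by
            change LocallyOfFiniteType (Sigma.ι U x ≫ Sigma.desc g ≫ f)
            rw [← Category.assoc, hι]; exact h (hg x)
        have : Surjective (Sigma.desc g) := ⟨fun x => by
          obtain ⟨y, hy⟩ := hxg x
          exact ⟨(Sigma.ι U x).base y, by rw [← Scheme.Hom.comp_apply, hι]; exact hy⟩⟩
        exact Groth.GitQuot.FppfSource.locallyOfFiniteType_of_fppf (Sigma.desc g) f }

end Groth.Agent.S9844
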