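import Groth.Statements.S9845
import Mathlib

set_option autoImplicit false
open CategoryTheory CategoryTheory.Limits AlgebraicGeometry Opposite
universe u
open Desc

namespace Groth.Agent.S9845

/-- Being an open morphism (open underlying map) is fppf local on the source: for every fppf covering
family g i : X i ⟶ X, a morphism f : X ⟶ Y has open underlying map if and only if every composite g
i ≫ f does. -/
theorem result :
    MorphismProperty.IsLocalAtSource (topologically (fun f => IsOpenMap f) : MorphismProperty Scheme.{u})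
      Scheme.fppfPrecoverage := by
  refine MorphismProperty.IsLocalAtSource.mk_of_iff_of_zeroHypercover fun {X Y} f 𝒰 => ?_
  have h0 : Presieve.ofArrows 𝒰.X 𝒰.f ∈ Scheme.precoverage (@Flat ⊓ @LocallyOfFinitePresentation) X := 𝒰.mem₀
  rw [Scheme.ofArrows_mem_precoverage_iff] at h0
  constructor
  · intro hf i
    obtain ⟨h1, h2⟩ := h0.2 i
    change IsOpenMap (𝒰.f i ≫ f).base
    exact hf.comp (𝒰.f i).isOpenMap
  · intro h U hU
    have key : f.base '' U = ⋃ i, (𝒰.f i ≫ f).base '' ((𝒰.f i).base ⁻¹' U) := by
      ext y; simp only [Set.mem_image, Set.mem_iUnion, Set.mem_preimage]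
      constructor
      · rintro ⟨x, hx, rfl⟩
        obtain ⟨i, z, rfl⟩ := h0.1 x
        exact ⟨i, z, hx, rfl⟩
      · rintro ⟨i, z, hz, rfl⟩; exact ⟨_, hz, rfl⟩
    change IsOpen (f.base '' U)
    rw [key]
    exact isOpen_iUnion fun i => h i _ (hU.preimage (𝒰.f i).continuous)

end Groth.Agent.S9845
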