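import Groth.Statements.S9846
import Mathlib

set_option autoImplicit false
open CategoryTheory CategoryTheory.Limits AlgebraicGeometry Opposite
universe u
open Desc

namespace Groth.Agent.S9846

/-- Being universally open is fppf local on the source: for every fppf covering family g i : X i ⟶ X, a
morphism f : X ⟶ Y is universally open if and only if every composite g i ≫ f is. -/
theorem result :
    MorphismProperty.IsLocalAtSource (@UniversallyOpen : MorphismProperty Scheme.{u}) Scheme.fppfPrecoverage := by
  refine MorphismProperty.IsLocalAtSource.mk_of_iff_of_zeroHypercover fun {X Y} f 𝒰 => ?_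
  have h0 : Presieve.ofArrows 𝒰.X 𝒰.f ∈ Scheme.precoverage (@Flat ⊓ @LocallyOfFinitePresentation) X := 𝒰.mem₀
  rw [Scheme.ofArrows_mem_precoverage_iff] at h0
  constructor
  · intro hf i
    obtain ⟨h1, h2⟩ := h0.2 i
    infer_instance
  · intro h
    refine ⟨MorphismProperty.universally_mk' _ _ fun {T} g _ U hU => ?_⟩
    -- the projections `T ×_Y X_i → T` are open
    let π := pullback.fst g f
    have hπ : ∀ i, IsOpenMap (pullback.fst g (𝒰.f i ≫ f)).base := fun i =>
      have := h i; (pullback.fst g (𝒰.f i ≫ f)).isOpenMap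
    let m : ∀ i, pullback g (𝒰.f i ≫ f) ⟶ pullback g f := fun i =>
      pullback.map _ _ _ _ (𝟙 T) (𝒰.f i) (𝟙 Y) (by simp) (by simp)
    have key : π.base '' U = ⋃ i, (pullback.fst g (𝒰.f i ≫ f)).base '' ((m i).base ⁻¹' U) := by
      have hm : ∀ i, pullback.fst g (𝒰.f i ≫ f) = m i ≫ π := fun i => by simp only [m, π, pullback.map, pullback.lift_fst, Category.comp_id]
      ext y; simp only [Set.mem_image, Set.mem_iUnion, Set.mem_preimage]
      constructor
      · rintro ⟨x, hx, rfl⟩
        obtain ⟨i, z, hz⟩ := h0.1 ((pullback.snd g f).base x)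
        have hsq : IsPullback (m i) (pullback.snd g (𝒰.f i ≫ f)) (pullback.snd g f) (𝒰.f i) := by
          refine IsPullback.of_right (h₁₂ := pullback.fst g f) (v₁₃ := g) (h₂₂ := f) ?_ (by simp only [m, pullback.map, pullback.lift_snd]) (IsPullback.of_hasPullback g f)
          simpa only [m, pullback.map, pullback.lift_fst, Category.comp_id] using IsPullback.of_hasPullback g (𝒰.f i ≫ f)
        obtain ⟨w, hw1, hw2⟩ := Scheme.exists_preimage_of_isPullback hsq x z hz.symm
        exact ⟨i, w, hw1 ▸ hx, by rw [hm i]; simp [π, hw1]⟩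
      · rintro ⟨i, z, hz, rfl⟩; exact ⟨_, hz, by rw [hm i]; simp [π]⟩
    rw [key]
    exact isOpen_iUnion fun i => hπ i _ (hU.preimage (m i).continuous)

end Groth.Agent.S9846
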