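import Groth.Statements.S9847
import Groth.Agent.DescentBase.SourceLocal

set_option autoImplicit false
open CategoryTheory CategoryTheory.Limits AlgebraicGeometry Opposite
universe u
open Desc

namespace Groth.Agent.S9847

/-- Being etale is etale local on the source: for every etale covering family g i : X i ⟶ X (etale,
jointly surjective), a morphism f : X ⟶ Y is etale if and only if every composite g i ≫ f is. -/
theorem result :
    MorphismProperty.IsLocalAtSource (@Etale : MorphismProperty Scheme.{u}) Scheme.etalePrecoverage := by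
  refine MorphismProperty.IsLocalAtSource.mk_of_iff_of_zeroHypercover fun {X Y} f 𝒰 => ?_
  have h0 : Presieve.ofArrows 𝒰.X 𝒰.f ∈ Scheme.precoverage (@Etale) X := 𝒰.mem₀
  rw [Scheme.ofArrows_mem_precoverage_iff] at h0
  constructor
  · intro hf i
    have := h0.2 i
    infer_instance
  · intro h
    -- use one member around each point
    rw [IsZariskiLocalAtSource.iff_of_iSup_eq_top (P := @Etale)
      (U := fun i : 𝒰.I₀ => (⟨Set.range (𝒰.f i), by
        have := h0.2 i
        exact (𝒰.f i).isOpenMap.isOpen_range⟩ : X.Opens)) (by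
        ext x; simpa using h0.1 x)]
    intro i
    have := h0.2 i
    let U : X.Opens := ⟨Set.range (𝒰.f i), (𝒰.f i).isOpenMap.isOpen_range⟩
    let q : 𝒰.X i ⟶ U := IsOpenImmersion.lift U.ι (𝒰.f i) (by simp [U])
    have hq : q ≫ U.ι = 𝒰.f i := IsOpenImmersion.lift_fac _ _ _
    have : Etale (q ≫ U.ι) := by rw [hq]; infer_instance
    have : Etale q := Etale.of_comp q U.ι
    have : Surjective q := ⟨fun x => by
      obtain ⟨a, ha⟩ := x.2
      exact ⟨a, U.ι.injective (by rw [← Scheme.Hom.comp_apply, hq]; exact ha)⟩⟩
    change Etale (U.ι ≫ f)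
    have hh : Etale (q ≫ U.ι ≫ f) := by rw [← Category.assoc, hq]; exact h i
    rw [Etale.iff_flat_and_formallyUnramified]
    exact ⟨Groth.DescentBase.flat_of_flat_surjective q _,
      Groth.DescentBase.formallyUnramified_of_etale q _,
      Groth.DescentBase.locallyOfFinitePresentation_of_smooth q _⟩

end Groth.Agent.S9847
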