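import Groth.Statements.S9850
import Groth.Agent.Syntomic.Avramov
import Groth.Agent.GitQuot.FppfSourceScheme

set_option autoImplicit false
open CategoryTheory CategoryTheory.Limits AlgebraicGeometry Opposite
universe u
open Desc

namespace Groth.Agent.S9850

/-- Let f : X ⟶ Y be surjective, flat and locally of finite presentation and q : Y ⟶ S a morphism such
that f ≫ q is syntomic. Then q is syntomic, and so is f. -/
theorem result {X Y S : Scheme.{u}} (f : X ⟶ Y) (q : Y ⟶ S)
    [Surjective f] [Flat f] [LocallyOfFinitePresentation f] (h : Synt.IsSyntomicMor (f ≫ q)) :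
    Synt.IsSyntomicMor q ∧ Synt.IsSyntomicMor f := by
  have hflat : Flat q := by
    have := Groth.Syntomic.flat_of_isSyntomicMor h
    exact Groth.DescentBase.flat_of_flat_surjective f q
  have := Groth.Syntomic.locallyOfFinitePresentation_of_isSyntomicMor h
  have hlfp : LocallyOfFinitePresentation q := Groth.GitQuot.FppfSource.locallyOfFinitePresentation_of_fppf f q
  have hci := ((Groth.Syntomic.isSyntomicMor_iff_isCIMorphism _).mp h).2.2
  have key := fun x => (Groth.Syntomic.isCompleteIntersection_fiberStalk_comp_iff f q x).mp (hci x)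
  refine ⟨(Groth.Syntomic.isSyntomicMor_iff_isCIMorphism q).mpr ⟨hflat, hlfp, fun y => ?_⟩,
    (Groth.Syntomic.isSyntomicMor_iff_isCIMorphism f).mpr ⟨inferInstance, inferInstance, fun x => (key x).2⟩⟩
  obtain ⟨x, rfl⟩ := f.surjective y
  exact (key x).1

end Groth.Agent.S9850
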