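import Groth.Statements.S9851
import Groth.Agent.DescPull.Iso
import Groth.Agent.Pi1Desc.Family
import Groth.Agent.Pi1Desc.ToDD

set_option autoImplicit false
open CategoryTheory CategoryTheory.Limits AlgebraicGeometry Opposite
universe u
open Desc

namespace Groth.Agent.S9851

/-- Let f i : X i ⟶ S be a family of morphisms of schemes and X = ∐ X i with its morphism to S. The
canonical functor from descent data for schemes relative to X ⟶ S to descent data relative to the
family, which pulls a datum back along the coprojections X i ⟶ X, is an equivalence of categories.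
(The published statement names the quasi-inverse functor, sending a family (V i, φ ij) to (∐ V i, ∐
φ ij); asserting that the canonical pullback functor is an equivalence is the same result.) -/
theorem result {ι : Type u} {S : Scheme.{u}} {X : ι → Scheme.{u}} (f : ∀ i, X i ⟶ S) :
    (Desc.SchDDFam.ofSchDD (Sigma.desc f) ⋙
      Desc.pullDDFam (f := fun _ : PUnit.{u + 1} => Sigma.desc f) (f' := f) (α := fun _ => PUnit.unit)
        (p := 𝟙 S) (p' := fun i => Sigma.ι X i)
        (fun i => (Sigma.ι_desc f i).trans (Category.comp_id (f i)).symm)).IsEquivalence := by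
  let w : ∀ i, Sigma.ι X i ≫ Sigma.desc f = f i ≫ 𝟙 S :=
    fun i => (Sigma.ι_desc f i).trans (Category.comp_id (f i)).symm
  let F := Desc.pullDDFam (f := fun _ : PUnit.{u + 1} => Sigma.desc f) (f' := f)
    (α := fun _ => PUnit.unit) (p := 𝟙 S) (p' := fun i => Sigma.ι X i) w
  have : (Desc.SchDDFam.ofSchDD.{u} (Sigma.desc f)).IsEquivalence :=
    (Desc.SchDDFam.oneEquiv (Sigma.desc f)).isEquivalence_inverse
  suffices hF : F.IsEquivalence by
    have := hF
    exact Functor.isEquivalence_trans _ F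
  have H : ∀ _ : PUnit.{u + 1},
      Groth.DescPull.lifting f (Sigma.desc f) ∈ Scheme.fpqcTopology (∐ X) := fun _ => by
    refine Scheme.fpqcTopology.superset_covering ?_ (Precoverage.generate_mem_toGrothendieck
      (Scheme.zariskiPrecoverage_le_fpqcPrecoverage _
        (show Presieve.ofArrows X (Sigma.ι X) ∈ Scheme.zariskiPrecoverage (∐ X) from
          (Scheme.ofArrows_mem_precoverage_iff _).2
            ⟨fun x => ?_, fun i => (inferInstance : IsOpenImmersion (Sigma.ι X i))⟩)))
    · rw [Sieve.generate_le_iff]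
      rintro T k ⟨i⟩
      exact ⟨i, 𝟙 _, (Sigma.ι_desc f i).trans (Category.id_comp _).symm⟩
    · obtain ⟨i, hi⟩ := Groth.Pi1Desc.opensRange_sigmaι_cover X x
      exact ⟨i, hi⟩
  obtain ⟨hF, hF'⟩ := Groth.DescPull.full_faithful (v := fun _ : PUnit.{u + 1} => Sigma.desc f) w H
  refine ⟨hF', hF, ⟨fun D => ⟨(Desc.SchDDFam.ofSchDD (Sigma.desc f)).obj
    (Groth.Pi1Desc.ofDDFam D).toSchDD, ?_⟩⟩⟩
  have hl : ∀ {T : Scheme.{u}} {i : ι} {x : T ⟶ X i} (p : Lifts (D.obj i) x),
      (p.1 ≫ Sigma.ι (Groth.Pi1Desc.famV D) i) ≫ Groth.Pi1Desc.famHom D = x ≫ Sigma.ι X i :=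
    fun {T i x} p => by rw [Category.assoc, Sigma.ι_map, ← Category.assoc, p.2]
  have pb := fun i => Groth.Pi1Desc.isPullback_sigma_map (fun i => (D.obj i).hom) i
  refine Groth.DescPull.nonempty_pull_iso (v := fun _ : PUnit.{u + 1} => Sigma.desc f)
    (D := (Desc.SchDDFam.ofSchDD (Sigma.desc f)).obj (Groth.Pi1Desc.ofDDFam D).toSchDD) w (fun T i x =>
    { toFun := fun p => ⟨p.1 ≫ Sigma.ι (Groth.Pi1Desc.famV D) i, hl p⟩
      invFun := fun q => ⟨(pb i).lift q.1 x q.2, (pb i).lift_snd _ _ _⟩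
      left_inv := fun p => Subtype.ext ((cancel_mono (Sigma.ι (Groth.Pi1Desc.famV D) i)).1
        (by exact (pb i).lift_fst _ _ _))
      right_inv := fun q => Subtype.ext (by exact (pb i).lift_fst q.1 x q.2) }) ?_ ?_
  · intro T T' k i x y hy p p' hp
    show p'.1 ≫ _ = k ≫ p.1 ≫ _
    rw [hp, Category.assoc]
  · intro T i j x y h p
    apply Subtype.ext
    show Groth.Pi1Desc.famActFun D (p.1 ≫ Sigma.ι (Groth.Pi1Desc.famV D) i) (y ≫ Sigma.ι X j) _ =
      (D.φ x y h p).1 ≫ Sigma.ι (Groth.Pi1Desc.famV D) j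
    have e' : p.1 ≫ (D.obj i).hom ≫ f i = y ≫ f j := by rw [← Category.assoc, p.2, h]
    refine (Category.id_comp _).symm.trans ((Groth.Pi1Desc.famActFun_comp D _ _ _ (𝟙 T) p.1 y
      (Category.id_comp _) (Category.id_comp _) e').trans (congrArg (· ≫ _) ?_))
    exact Groth.Pi1Desc.φ_val_congr D p.2 rfl _ _ ⟨p.1, rfl⟩ p rfl

end Groth.Agent.S9851
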