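import Groth.Statements.S9852
import Groth.Agent.DescPull.Basic

set_option autoImplicit false
open CategoryTheory CategoryTheory.Limits AlgebraicGeometry Opposite
universe u
open Desc

namespace Groth.Agent.S9852

/-- Let g : X ⟶ X' be a morphism of schemes over S, with structure morphisms a : X ⟶ S and a' : X' ⟶ S,
and assume a is surjective and flat. Then the pullback functor along g, from descent data for
schemes relative to X' ⟶ S to descent data relative to X ⟶ S, is faithful. (Descent data relative to
a single morphism are written as descent data relative to the corresponding one-member family.) -/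
theorem result {X X' S : Scheme.{u}} (a : X ⟶ S) (a' : X' ⟶ S) (g : X ⟶ X')
    (h : g ≫ a' = a) [Surjective a] [Flat a] :
    (Desc.pullDDFam (f := fun _ : PUnit.{u + 1} => a') (f' := fun _ : PUnit.{u + 1} => a) (α := fun j => j)
        (p := 𝟙 S) (p' := fun _ => g) (fun _ => (h).trans (Category.comp_id a).symm)).Faithful := by
  constructor
  intro D D' b b' hb
  refine SchDDFam.hom_ext (funext fun j => Over.OverMorphism.ext ?_)
  let p := pullback.fst ((D.obj j).hom ≫ a') a
  have : Flat p := MorphismProperty.pullback_fst (P := @Flat) _ _ ‹_›
  have : Surjective p := MorphismProperty.pullback_fst (P := @Surjective) _ _ ‹_›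
  have : Epi p := Flat.epi_of_flat_of_surjective p
  rw [← cancel_epi p]
  let w' : ∀ _ : PUnit.{u + 1}, g ≫ a' = a ≫ 𝟙 S := fun _ => h.trans (Category.comp_id a).symm
  have e : (p ≫ (D.obj j).hom) ≫ a' = pullback.snd ((D.obj j).hom ≫ a') a ≫ a :=
    (Category.assoc _ _ _).trans pullback.condition
  have h1 := Groth.DescPull.val_map (α := fun k : PUnit.{u + 1} => k) w' b (⟨p, rfl⟩ : Lifts (D.obj j) _) _ e (i := j)
  rw [hb, Groth.DescPull.val_map] at h1
  exact (congrArg Subtype.val h1).symm

end Groth.Agent.S9852
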