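import Groth.Statements.S9859
import Mathlib.AlgebraicGeometry.Sites.Fpqc
import Mathlib.AlgebraicGeometry.Morphisms.UniversallyOpen

set_option autoImplicit false
open CategoryTheory CategoryTheory.Limits AlgebraicGeometry Opposite
universe u
open Desc

namespace Groth.Agent.S9859

/-- Case τ = fppf: let P be a property of morphisms of schemes which is fppf local on the base and f : X
⟶ Y a morphism. There is a largest open W of Y such that the restriction of f over W has P;
moreover, first, if g : Y' ⟶ Y is flat and locally of finite presentation and the base change of f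
to Y' has P, then the image of g lies in W; and second, for such g the largest open of Y' over which
the base change of f has P is exactly g⁻¹(W). -/
theorem result (P : MorphismProperty Scheme.{u})
    [MorphismProperty.IsLocalAtTarget P Scheme.fppfPrecoverage] {X Y : Scheme.{u}} (f : X ⟶ Y) :
    ∃ W : Y.Opens, P (f ∣_ W) ∧ (∀ W₀ : Y.Opens, P (f ∣_ W₀) → W₀ ≤ W) ∧
      (∀ (Y' : Scheme.{u}) (g : Y' ⟶ Y), Flat g → LocallyOfFinitePresentation g →
        P (pullback.snd f g) → Set.range g.base ⊆ (W : Set Y)) ∧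
      (∀ (Y' : Scheme.{u}) (g : Y' ⟶ Y), Flat g → LocallyOfFinitePresentation g →
        ∀ W' : Y'.Opens, P (pullback.snd f g ∣_ W') → (∀ W₀ : Y'.Opens, P (pullback.snd f g ∣_ W₀) → W₀ ≤ W') →
          W' = g ⁻¹ᵁ W) := by
  let Q : ∀ {T : Scheme.{u}}, (T ⟶ Y) → Prop := fun g => P (pullback.snd f g)
  have hres : ∀ {A B : Scheme.{u}} (p : A ⟶ B) (U : B.Opens), P (p ∣_ U) ↔ P (pullback.snd p U.ι) := fun p U =>
    P.cancel_left_of_respectsIso (pullbackRestrictIsoRestrict p U).inv _
  have hQc : ∀ {T T' : Scheme.{u}} (b : T ⟶ Y) (a : T' ⟶ T) (c : T' ⟶ Y), a ≫ b = c →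
      (P (pullback.snd (pullback.snd f b) a) ↔ Q c) := by
    intro T T' b a c e
    subst e
    rw [← pullbackLeftPullbackSndIso_hom_snd f b a, P.cancel_left_of_respectsIso]
  have hbc : ∀ {T T' : Scheme.{u}} (b : T ⟶ Y) (a : T' ⟶ T), Flat a → LocallyOfFinitePresentation a →
      Q b → Q (a ≫ b) := by
    intro T T' b a ha ha' hb
    let Xs : Option PUnit.{u + 1} → Scheme.{u} := fun o => o.elim T fun _ => T'
    let fs : ∀ o, Xs o ⟶ T := fun o => match o with
      | none => 𝟙 T
      | some _ => a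
    have hR : Presieve.ofArrows Xs fs ∈ Scheme.fppfPrecoverage T := by
      rw [Scheme.fppfPrecoverage, Scheme.ofArrows_mem_precoverage_iff]
      refine ⟨fun x => ⟨none, x, rfl⟩, ?_⟩
      rintro (_ | _)
      · exact ⟨inferInstanceAs (Flat (𝟙 T)), inferInstanceAs (LocallyOfFinitePresentation (𝟙 T))⟩
      · exact ⟨ha, ha'⟩
    have h := MorphismProperty.IsLocalAtTarget.pullbackSnd (P := P) (f := pullback.snd f b) hR
      (g := a) (Presieve.ofArrows.mk (f := fs) (some PUnit.unit)) hb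
    exact (P.cancel_left_of_respectsIso (pullbackLeftPullbackSndIso f b a).hom _).1
      (by rwa [pullbackLeftPullbackSndIso_hom_snd])
  have hdesc : ∀ {T : Scheme.{u}} (g : T ⟶ Y) (V : Y.Opens), Flat g → LocallyOfFinitePresentation g →
      Set.range g = (V : Set Y) → Q g → Q V.ι := by
    intro T g V hg hg' hr hQ
    let g' := IsOpenImmersion.lift V.ι g (by rw [Scheme.Opens.range_ι, hr])
    have hfac : g' ≫ V.ι = g := IsOpenImmersion.lift_fac _ _ _
    have : Flat g' := MorphismProperty.of_isPullback (P := @Flat)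
      (IsPullback.of_vert_isIso_mono (f := V.ι) (fst := g') (snd := 𝟙 T) (g := g) ⟨by simp [hfac]⟩).flip hg
    have : LocallyOfFinitePresentation g' := MorphismProperty.of_isPullback (P := @LocallyOfFinitePresentation)
      (IsPullback.of_vert_isIso_mono (f := V.ι) (fst := g') (snd := 𝟙 T) (g := g) ⟨by simp [hfac]⟩).flip hg'
    have : Surjective g' := ⟨fun v => by
      obtain ⟨t, ht⟩ : v.1 ∈ Set.range g := hr.ge v.2
      exact ⟨t, V.ι.isOpenEmbedding.injective (by rw [← Scheme.Hom.comp_apply, hfac]; exact ht)⟩⟩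
    refine MorphismProperty.IsLocalAtTarget.of_forall_pullbackSnd (P := P) g'.singleton_mem_fppfPrecoverage ?_
    intro U' g'' _ hg''
    obtain ⟨⟩ := hg''
    exact (hQc _ _ _ hfac).2 hQ
  have hrange : ∀ (T : Scheme.{u}) (g : T ⟶ Y), Flat g → LocallyOfFinitePresentation g → Q g →
      ∃ V : Y.Opens, (V : Set Y) = Set.range g ∧ Q V.ι := fun T g hg hg' hQ =>
    ⟨⟨_, g.isOpenMap.isOpen_range⟩, rfl, hdesc g _ hg hg' rfl hQ⟩
  let S := {U : Y.Opens // Q U.ι}
  let W : Y.Opens := ⨆ U : S, U.1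
  have hW : Q W.ι := by
    have hR : Presieve.ofArrows (fun U : S => (U.1.toScheme)) (fun U : S => Y.homOfLE (le_iSup (fun U : S => U.1) U)) ∈
        Scheme.fppfPrecoverage W.toScheme := by
      rw [Scheme.fppfPrecoverage, Scheme.ofArrows_mem_precoverage_iff]
      refine ⟨fun x => ?_, fun U => ⟨inferInstance, inferInstance⟩⟩
      obtain ⟨U, hU⟩ := TopologicalSpace.Opens.mem_iSup.1 x.2
      exact ⟨U, ⟨x.1, hU⟩, W.ι.isOpenEmbedding.injective (by rw [← Scheme.Hom.comp_apply, Scheme.homOfLE_ι]; rfl)⟩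
    refine MorphismProperty.IsLocalAtTarget.of_forall_pullbackSnd (P := P) hR ?_
    intro U' g'' _ hg''
    obtain ⟨U⟩ := hg''
    exact (hQc W.ι _ U.1.ι (Scheme.homOfLE_ι _ _)).2 U.2
  refine ⟨W, (hres f W).2 hW, fun W₀ h₀ => le_iSup (fun U : S => U.1) ⟨W₀, (hres f W₀).1 h₀⟩, ?_, ?_⟩
  · intro Y' g hg hg' hP
    obtain ⟨V, hV, hQ⟩ := hrange Y' g hg hg' hP
    exact hV ▸ SetLike.coe_subset_coe.2 (le_iSup (fun U : S => U.1) ⟨V, hQ⟩)
  · intro Y' g hg hg' W' hW' hmax
    have hQ' : ∀ W₀ : Y'.Opens, P (pullback.snd f g ∣_ W₀) ↔ Q (W₀.ι ≫ g) := fun W₀ => by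
      rw [hres, ← pullbackLeftPullbackSndIso_hom_snd f g W₀.ι, P.cancel_left_of_respectsIso]
    refine le_antisymm ?_ (hmax _ ((hQ' _).2 ?_))
    · obtain ⟨V, hV, hQ⟩ := hrange _ (W'.ι ≫ g) inferInstance inferInstance ((hQ' _).1 hW')
      intro x hx
      exact le_iSup (fun U : S => U.1) ⟨V, hQ⟩
        (show g x ∈ (V : Set Y) from hV.ge ⟨⟨x, hx⟩, rfl⟩)
    · rw [← morphismRestrict_ι g W]
      exact hbc W.ι (g ∣_ W) (IsZariskiLocalAtTarget.restrict hg W) (IsZariskiLocalAtTarget.restrict hg' W) hW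

end Groth.Agent.S9859
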