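import Groth.Statements.S9863
import Groth.Agent.Syntomic.CMSkLocal

set_option autoImplicit false
open CategoryTheory CategoryTheory.Limits AlgebraicGeometry Opposite
universe u
open Desc

namespace Groth.Agent.S9863

/-- The property 'locally Noetherian and (S_k)' is local in the syntomic topology: for a jointly
surjective family of syntomic morphisms f i : X i ⟶ S and k a natural number, S is locally
Noetherian with all local rings satisfying Serre's condition (S_k) if and only if every X i is. -/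
theorem result {ι : Type u} {S : Scheme.{u}} {X : ι → Scheme.{u}} (f : ∀ i, X i ⟶ S)
    (hsurj : ∀ s : S, ∃ i, s ∈ Set.range (f i).base) (hsyn : ∀ i, Synt.IsSyntomicMor (f i)) (k : ℕ) :
    (IsLocallyNoetherian S ∧ ∀ s : S, LocCoh.HasSk k (S.presheaf.stalk s) (S.presheaf.stalk s)) ↔
      ∀ i, IsLocallyNoetherian (X i) ∧ ∀ x : X i, LocCoh.HasSk k ((X i).presheaf.stalk x) ((X i).presheaf.stalk x) := by
  have h := Groth.Syntomic.skLocal_iff f hsurj hsyn {k}
  simp only [Set.mem_singleton_iff, forall_eq] at h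
  constructor
  · rintro ⟨hS, hk⟩ i
    obtain ⟨hX, hx⟩ := h.mp ⟨hS, (Groth.Syntomic.hasSk_stalks_iff k).mp hk⟩ i
    exact ⟨hX, (Groth.Syntomic.hasSk_stalks_iff k).mpr hx⟩
  · intro hh
    obtain ⟨hS, hk⟩ := h.mpr fun i => ⟨(hh i).1, have := (hh i).1; (Groth.Syntomic.hasSk_stalks_iff k).mp (hh i).2⟩
    exact ⟨hS, (Groth.Syntomic.hasSk_stalks_iff k).mpr hk⟩

end Groth.Agent.S9863
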