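import Groth.Statements.S9864


set_option autoImplicit false
open CategoryTheory CategoryTheory.Limits AlgebraicGeometry Opposite
universe u
open Desc

namespace Groth.Agent.S9864

/-- Let a : X ⟶ S be a morphism of schemes and f : X ⟶ X a morphism over S (f ≫ a = a). Then the
pullback functor along f on the category of descent data for schemes relative to X ⟶ S is isomorphic
to the identity functor. (Existence of an isomorphism of functors only; descent data relative to a
single morphism are written as descent data relative to the corresponding one-member family.) -/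
theorem result {X S : Scheme.{u}} (a : X ⟶ S) (f : X ⟶ X) (h : f ≫ a = a) :
    Nonempty (Desc.pullDDFam (f := fun _ : PUnit.{u + 1} => a) (f' := fun _ : PUnit.{u + 1} => a) (α := fun j => j)
        (p := 𝟙 S) (p' := fun _ => f) (fun _ => (h).trans (Category.comp_id a).symm) ≅
      𝟭 (Desc.SchDDFam (fun _ : PUnit.{u + 1} => a))) := by
  let F := Desc.pullDDFam (f := fun _ : PUnit.{u + 1} => a) (f' := fun _ : PUnit.{u + 1} => a) (α := fun j => j)
    (p := 𝟙 S) (p' := fun _ => f) (fun _ => (h).trans (Category.comp_id a).symm)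
  have hfa : ∀ {T : Scheme.{u}} (x : T ⟶ X), (x ≫ f) ≫ a = x ≫ a := fun x => by rw [Category.assoc, h]
  let fwd : ∀ (D : Desc.SchDDFam (fun _ : PUnit.{u + 1} => a)) (j : PUnit.{u + 1}), (F.obj D).obj j ⟶ D.obj j :=
    fun D j => Over.homMk (D.φ (i := j) (j := j) (pullback.snd (D.obj j).hom f ≫ f) (pullback.snd (D.obj j).hom f)
      (hfa _) ⟨pullback.fst (D.obj j).hom f, pullback.condition⟩).1
      (D.φ (i := j) (j := j) (pullback.snd (D.obj j).hom f ≫ f) (pullback.snd (D.obj j).hom f)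
      (hfa _) ⟨pullback.fst (D.obj j).hom f, pullback.condition⟩).2
  have key : ∀ (D : Desc.SchDDFam (fun _ : PUnit.{u + 1} => a)) (j : PUnit.{u + 1}) {T : Scheme.{u}} (x : T ⟶ X)
      (v : Lifts ((F.obj D).obj j) x),
      v.1 ≫ (fwd D j).left = (D.φ (i := j) (j := j) (x ≫ f) x (hfa x) (Desc.liftsPullbackEquiv (D.obj j) f x v)).1 := by
    intro D j T x v
    have e : v.1 ≫ pullback.snd (D.obj j).hom f = x := v.2
    exact (D.φ_natural v.1 (pullback.snd (D.obj j).hom f ≫ f) (pullback.snd (D.obj j).hom f) (hfa _) (x ≫ f) x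
      (by rw [← Category.assoc, e]) e (hfa x) ⟨pullback.fst (D.obj j).hom f, pullback.condition⟩
      (Desc.liftsPullbackEquiv (D.obj j) f x v) rfl).symm
  let bwd : ∀ (D : Desc.SchDDFam (fun _ : PUnit.{u + 1} => a)) (j : PUnit.{u + 1}), D.obj j ⟶ (F.obj D).obj j :=
    fun D j => Over.homMk ((Desc.liftsPullbackEquiv (D.obj j) f (D.obj j).hom).symm
      (D.φ (i := j) (j := j) (D.obj j).hom ((D.obj j).hom ≫ f) (hfa _).symm ⟨𝟙 _, Category.id_comp _⟩)).1
      ((Desc.liftsPullbackEquiv (D.obj j) f (D.obj j).hom).symm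
      (D.φ (i := j) (j := j) (D.obj j).hom ((D.obj j).hom ≫ f) (hfa _).symm ⟨𝟙 _, Category.id_comp _⟩)).2
  have bwd_fwd : ∀ D j, bwd D j ≫ fwd D j = 𝟙 _ := by
    intro D j
    apply Over.OverMorphism.ext
    rw [Over.comp_left]
    refine (key D j (D.obj j).hom ((Desc.liftsPullbackEquiv (D.obj j) f (D.obj j).hom).symm _)).trans ?_
    rw [Equiv.apply_symm_apply, D.φ_comp, D.φ_self]
    rfl
  have fwd_bwd : ∀ D j, fwd D j ≫ bwd D j = 𝟙 _ := by
    intro D j
    let x := pullback.snd (D.obj j).hom f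
    let v : Lifts (D.obj j) (x ≫ f) := ⟨pullback.fst (D.obj j).hom f, pullback.condition⟩
    apply Over.OverMorphism.ext
    apply pullback.hom_ext
    · change (fwd D j).left ≫ pullback.lift _ _ _ ≫ pullback.fst _ _ = 𝟙 _ ≫ pullback.fst _ _
      rw [pullback.lift_fst, Category.id_comp]
      have hw : (fwd D j).left ≫ (D.obj j).hom = x := Over.w (fwd D j)
      have h' := (D.φ_natural (i := j) (j := j) (fwd D j).left (D.obj j).hom ((D.obj j).hom ≫ f) (hfa _).symm x (x ≫ f) hw
        (by rw [← Category.assoc, hw]) (hfa x).symm ⟨𝟙 _, Category.id_comp _⟩ (D.φ (x ≫ f) x (hfa x) v)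
        (by simp only [Category.comp_id]; rfl))
      refine h'.symm.trans ?_
      exact congrArg Subtype.val ((D.φ_comp (x ≫ f) x (x ≫ f) (hfa x) (hfa x).symm v).trans (D.φ_self _ v))
    · change (fwd D j).left ≫ pullback.lift _ _ _ ≫ pullback.snd _ _ = 𝟙 _ ≫ pullback.snd _ _
      rw [pullback.lift_snd, Category.id_comp]
      exact Over.w (fwd D j)
  have comm : ∀ (D : Desc.SchDDFam (fun _ : PUnit.{u + 1} => a)) ⦃T : Scheme.{u}⦄ ⦃i j : PUnit.{u + 1}⦄
      (x₀ : T ⟶ X) (x₁ : T ⟶ X) (hx : x₀ ≫ a = x₁ ≫ a) (v : Lifts ((F.obj D).obj i) x₀) (w : Lifts (D.obj i) x₀),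
      w.1 = v.1 ≫ (fwd D i).left → (D.φ x₀ x₁ hx w).1 = ((F.obj D).φ x₀ x₁ hx v).1 ≫ (fwd D j).left := by
    intro D T i j x₀ x₁ hx v w hw
    have e : w = D.φ (x₀ ≫ f) x₀ (hfa x₀) (Desc.liftsPullbackEquiv (D.obj i) f x₀ v) :=
      Subtype.ext (hw.trans (key D i x₀ v))
    rw [key D j x₁, e]
    change _ = (D.φ (x₁ ≫ f) x₁ _ (Desc.liftsPullbackEquiv (D.obj j) f x₁
      ((Desc.liftsPullbackEquiv (D.obj j) f x₁).symm _))).1
    rw [Equiv.apply_symm_apply]
    refine congrArg Subtype.val ?_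
    change D.φ x₀ x₁ _ (D.φ (x₀ ≫ f) x₀ _ _) = D.φ (x₁ ≫ f) x₁ _ (D.φ (x₀ ≫ f) (x₁ ≫ f) _ _)
    rw [D.φ_comp, D.φ_comp]
  let η : F ⟶ 𝟭 _ :=
    { app := fun D => ⟨fwd D, comm D⟩
      naturality := fun D D' g => by
        refine Desc.SchDDFam.hom_ext (funext fun j => Over.OverMorphism.ext ?_)
        let x := pullback.snd (D.obj j).hom f
        let v : Lifts (D.obj j) (x ≫ f) := ⟨pullback.fst (D.obj j).hom f, pullback.condition⟩
        change ((F.map g).hom j).left ≫ (fwd D' j).left = (fwd D j).left ≫ (g.hom j).left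
        have hx : ((F.map g).hom j).left ≫ pullback.snd (D'.obj j).hom f = x := Over.w ((F.map g).hom j)
        refine (key D' j x ⟨((F.map g).hom j).left, hx⟩).trans ?_
        refine g.comm (x ≫ f) x (hfa x) v _ ?_
        show ((F.map g).hom j).left ≫ pullback.fst (D'.obj j).hom f = v.1 ≫ (g.hom j).left
        exact pullback.lift_fst _ _ _ }
  have : ∀ D, IsIso (η.app D) := by
    intro D
    refine ⟨⟨⟨bwd D, fun T i j x₀ x₁ hx v w hw => ?_⟩, Desc.SchDDFam.hom_ext (funext (fwd_bwd D)),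
      Desc.SchDDFam.hom_ext (funext (bwd_fwd D))⟩⟩
    have hl : ∀ k, (bwd D k).left ≫ (fwd D k).left = 𝟙 _ := fun k => congrArg CommaMorphism.left (bwd_fwd D k)
    have hr : ∀ k, (fwd D k).left ≫ (bwd D k).left = 𝟙 _ := fun k => congrArg CommaMorphism.left (fwd_bwd D k)
    have hv : v.1 = w.1 ≫ (fwd D i).left := by
      rw [hw, Category.assoc, hl]
      exact (Category.comp_id _).symm
    refine ((congrArg (· ≫ (bwd D j).left) (comm D x₀ x₁ hx w v hv)).trans ?_).symm
    rw [Category.assoc, hr]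
    exact Category.comp_id _
  have := NatIso.isIso_of_isIso_app η
  exact ⟨asIso η⟩

end Groth.Agent.S9864
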