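import Groth.Statements.S9865
import Groth.Agent.DescPull.Iso

set_option autoImplicit false
open CategoryTheory CategoryTheory.Limits AlgebraicGeometry Opposite
universe u
open Desc

namespace Groth.Agent.S9865

/-- Let f : X' ⟶ X be a morphism of schemes over S, with structure morphisms a' : X' ⟶ S and a : X ⟶ S,
and assume there exists a morphism g : X ⟶ X' over S (for instance a section of f). Then the
pullback functor along f, from descent data for schemes relative to X ⟶ S to descent data relative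
to X' ⟶ S, is an equivalence of categories. (Descent data relative to a single morphism are written
as descent data relative to the corresponding one-member family.) -/
theorem result {X X' S : Scheme.{u}} (a : X ⟶ S) (a' : X' ⟶ S) (f : X' ⟶ X)
    (h : f ≫ a = a') (hg : ∃ g : X ⟶ X', g ≫ a' = a) :
    (Desc.pullDDFam (f := fun _ : PUnit.{u + 1} => a) (f' := fun _ : PUnit.{u + 1} => a') (α := fun j => j)
        (p := 𝟙 S) (p' := fun _ => f) (fun _ => (h).trans (Category.comp_id a').symm)).IsEquivalence := by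
  obtain ⟨g, hg⟩ := hg
  let w : ∀ _ : PUnit.{u + 1}, f ≫ a = a' ≫ 𝟙 S := fun _ => h.trans (Category.comp_id a').symm
  let wg : ∀ _ : PUnit.{u + 1}, g ≫ a' = a ≫ 𝟙 S := fun _ => hg.trans (Category.comp_id a).symm
  have H : ∀ _ : PUnit.{u + 1}, Groth.DescPull.lifting (fun _ : PUnit.{u + 1} => a') a ∈
      Scheme.fpqcTopology X := fun j =>
    Scheme.fpqcTopology.superset_covering (fun T k _ => ⟨j, k ≫ g, by rw [Category.assoc, hg]⟩)
      (Scheme.fpqcTopology.top_mem X)
  obtain ⟨hF, hF'⟩ := Groth.DescPull.full_faithful w H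
  have hfg : ∀ {T : Scheme.{u}} (x : T ⟶ X'), ((x ≫ f) ≫ g) ≫ a' = x ≫ a' := fun x => by
    rw [Category.assoc, Category.assoc, hg, h]
  refine ⟨hF', hF, ⟨fun D' => ⟨(Desc.pullDDFam (α := fun j => j) (p := 𝟙 S) (p' := fun _ => g) wg).obj D', ?_⟩⟩⟩
  refine Groth.DescPull.nonempty_pull_iso w
    (fun T i x => (D'.φ (i := i) (j := i) x ((x ≫ f) ≫ g) (hfg x).symm).trans
      (Desc.liftsPullbackEquiv (D'.obj i) g (x ≫ f)).symm) ?_ ?_
  · intro T T' k i x y hy p p' hp
    show pullback.lift _ _ _ = k ≫ pullback.lift _ _ _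
    apply pullback.hom_ext
    · refine (pullback.lift_fst _ _ _).trans (Eq.trans ?_
        ((Category.assoc _ _ _).trans (congrArg (k ≫ ·) (pullback.lift_fst _ _ _))).symm)
      exact D'.φ_natural k x ((x ≫ f) ≫ g) (hfg x).symm y ((y ≫ f) ≫ g) hy
        (by rw [← hy]; simp only [Category.assoc]) (hfg y).symm p p' hp
    · refine (pullback.lift_snd _ _ _).trans (Eq.trans ?_
        ((Category.assoc _ _ _).trans (congrArg (k ≫ ·) (pullback.lift_snd _ _ _))).symm)
      rw [← hy, Category.assoc]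
  · intro T i j x y hxy p
    show (Desc.liftsPullbackEquiv (D'.obj j) g (y ≫ f)).symm (D'.φ ((x ≫ f) ≫ g) ((y ≫ f) ≫ g) _
      (Desc.liftsPullbackEquiv (D'.obj i) g (x ≫ f)
        ((Desc.liftsPullbackEquiv (D'.obj i) g (x ≫ f)).symm (D'.φ x ((x ≫ f) ≫ g) _ p)))) =
      (Desc.liftsPullbackEquiv (D'.obj j) g (y ≫ f)).symm (D'.φ y ((y ≫ f) ≫ g) _ (D'.φ x y hxy p))
    rw [Equiv.apply_symm_apply, D'.φ_comp, D'.φ_comp]

end Groth.Agent.S9865
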