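import Groth.Statements.S9867
import Groth.Agent.EtaleBase.FpqcDescent
import Groth.Agent.FlatMor2.FlatComp
import Mathlib.AlgebraicGeometry.Morphisms.FlatRank
import Mathlib.AlgebraicGeometry.Morphisms.LocalFlatDescent

set_option autoImplicit false
open CategoryTheory CategoryTheory.Limits AlgebraicGeometry Opposite
universe u
open Desc

namespace Groth.Agent.S9867

/-- Being finite locally free (finite, flat and locally of finite presentation), and being finite
locally free of a given degree d, are fpqc local on the base; the descent directions, stated as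
descent along surjective flat quasi-compact morphisms: if the base change of f along such a morphism
is finite locally free then so is f, and if moreover that base change has constant rank d (Mathlib's
rank function of a finite flat morphism) then f has constant rank d. (With Zariski-locality on the
target these give the statements for arbitrary fpqc coverings; stability under base change is the
other direction.) -/
theorem result :
    MorphismProperty.DescendsAlong (fun _ _ f => Mor2.IsFinLocFree f : MorphismProperty Scheme.{u})
      (@Surjective ⊓ @Flat ⊓ @QuasiCompact : MorphismProperty Scheme.{u}) ∧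
    ∀ d : ℕ, MorphismProperty.DescendsAlong (fun _ _ f => Mor2.IsFinLocFreeOfDeg d f : MorphismProperty Scheme.{u})
      (@Surjective ⊓ @Flat ⊓ @QuasiCompact : MorphismProperty Scheme.{u}) := by
  have r0 : MorphismProperty.RespectsIso (fun _ _ f => Mor2.IsFinLocFree f : MorphismProperty Scheme.{u}) :=
    MorphismProperty.RespectsIso.of_respects_arrow_iso _ fun a b e ⟨h1, h2, h3⟩ =>
      ⟨(MorphismProperty.arrow_mk_iso_iff @IsFinite e).1 h1, (MorphismProperty.arrow_mk_iso_iff @Flat e).1 h2,
        (MorphismProperty.arrow_mk_iso_iff @LocallyOfFinitePresentation e).1 h3⟩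
  have rd : ∀ d, MorphismProperty.RespectsIso (fun _ _ f => Mor2.IsFinLocFreeOfDeg d f : MorphismProperty Scheme.{u}) := fun d =>
    MorphismProperty.RespectsIso.of_respects_arrow_iso _ fun a b e ⟨⟨h1, h2, h3⟩, hd⟩ => by
      have := h1; have := h2
      refine ⟨(MorphismProperty.arrow_mk_iso_iff _ e).1 (show Mor2.IsFinLocFree a.hom from ⟨h1, h2, h3⟩), fun y => ?_⟩
      rw [Scheme.Hom.finrank_of_isPullback e.inv.left b.hom a.hom e.inv.right
        (IsPullback.of_horiz_isIso ⟨e.inv.w⟩) y]
      exact hd _
  have : MorphismProperty.DescendsAlong @Flat.{u} (@Surjective ⊓ @Flat ⊓ @QuasiCompact) := by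
    refine MorphismProperty.DescendsAlong.mk' fun {X Y Z f g} _ hf h => ?_
    have : Surjective f := hf.1.1
    have : Flat f := hf.1.2
    have : Flat (pullback.fst f g) := h
    have : Flat (pullback.snd f g ≫ g) := by
      rw [← pullback.condition]
      infer_instance
    exact Groth.FlatMor2.flat_of_comp_surjective (pullback.snd f g) g
  refine ⟨MorphismProperty.DescendsAlong.mk' ?_, fun d => ?_⟩
  · intro A B C f g _ hf h
    obtain ⟨h1, h2, h3⟩ := h
    exact ⟨MorphismProperty.of_pullback_fst_of_descendsAlong (Q := @Surjective ⊓ @Flat ⊓ @QuasiCompact) hf h1,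
      MorphismProperty.of_pullback_fst_of_descendsAlong (Q := @Surjective ⊓ @Flat ⊓ @QuasiCompact) hf h2,
      MorphismProperty.of_pullback_fst_of_descendsAlong (Q := @Surjective ⊓ @Flat ⊓ @QuasiCompact) hf h3⟩
  · have := rd d
    refine MorphismProperty.DescendsAlong.mk' ?_
    intro A B C f g _ hf h
    obtain ⟨⟨h1, h2, h3⟩, hd⟩ := h
    have i1 : IsFinite g := MorphismProperty.of_pullback_fst_of_descendsAlong (Q := @Surjective ⊓ @Flat ⊓ @QuasiCompact) hf h1
    have i2 : Flat g := MorphismProperty.of_pullback_fst_of_descendsAlong (Q := @Surjective ⊓ @Flat ⊓ @QuasiCompact) hf h2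
    refine ⟨⟨i1, i2,
      MorphismProperty.of_pullback_fst_of_descendsAlong (Q := @Surjective ⊓ @Flat ⊓ @QuasiCompact) hf h3⟩, fun y => ?_⟩
    have := hf.1.1
    obtain ⟨x, rfl⟩ := f.surjective y
    rw [← Scheme.Hom.finrank_pullback_fst g f x]
    exact hd x

end Groth.Agent.S9867
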