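import Groth.Statements.S9871
import Groth.Agent.AlgSpBasic.DiagProps

set_option autoImplicit false
set_option backward.isDefEq.respectTransparency.types false
universe u
open CategoryTheory CategoryTheory.Limits AlgebraicGeometry
open AlgSp Groth.AlgSpBasic

namespace Groth.Agent.S9871

/-- Let `s, t : R ⟶ U` be an etale equivalence relation on a scheme `U` over `S` and let `g : U' ⟶ U` be
an etale morphism over `S`. Let `s', t' : R' ⟶ U'` be the restriction to `U'`: `R'`, with `(t', s')`
and `R' ⟶ R`, is the fibre product of `U' ×_S U'` and `R` over `U ×_S U`. Then `s', t'` is again an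
etale equivalence relation. -/
theorem result (S : Scheme.{u}) {R U R' U' : Over S} (s t : R ⟶ U)
    (g : U' ⟶ U) (s' t' : R' ⟶ U') (r : R' ⟶ R)
    (hsq : IsPullback (prod.lift t' s') r (prod.map g g) (prod.lift t s))
    (h : AlgSp.IsEtaleEqvRel s t) [Etale g.left] :
    AlgSp.IsEtaleEqvRel s' t' := by
  have he' := h.etale_left
  have he'' := h.etale_right
  have key : ∀ (T : Over S) (a b : T ⟶ U'), (∃ x : T ⟶ R', x ≫ t' = a ∧ x ≫ s' = b) ↔
      ∃ x : T ⟶ R, x ≫ t = a ≫ g ∧ x ≫ s = b ≫ g := by
    intro T a b
    have w₁ := hsq.w =≫ prod.fst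
    have w₂ := hsq.w =≫ prod.snd
    rw [Category.assoc, Category.assoc, prod.map_fst, prod.lift_fst_assoc, prod.lift_fst] at w₁
    rw [Category.assoc, Category.assoc, prod.map_snd, prod.lift_snd_assoc, prod.lift_snd] at w₂
    constructor
    · rintro ⟨x, rfl, rfl⟩
      exact ⟨x ≫ r, by rw [Category.assoc, Category.assoc, w₁],
        by rw [Category.assoc, Category.assoc, w₂]⟩
    · rintro ⟨x, h₁, h₂⟩
      have e : prod.lift a b ≫ prod.map g g = x ≫ prod.lift t s := by
        apply prod.hom_ext
        · rw [Category.assoc, prod.map_fst, prod.lift_fst_assoc, Category.assoc, prod.lift_fst, h₁]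
        · rw [Category.assoc, prod.map_snd, prod.lift_snd_assoc, Category.assoc, prod.lift_snd, h₂]
      refine ⟨hsq.lift _ _ e, ?_, ?_⟩
      · have := hsq.lift_fst _ _ e =≫ prod.fst
        rwa [Category.assoc, prod.lift_fst, prod.lift_fst] at this
      · have := hsq.lift_fst _ _ e =≫ prod.snd
        rwa [Category.assoc, prod.lift_snd, prod.lift_snd] at this
  have hg : Etale g.left := inferInstance
  have hgg : AlgSp.RepWith @Etale ((AlgSp.yon S).map g) := (AlgSp.repWith_yon_map_iff _ _).2 hg
  refine { injective := ?_, equivalence := ?_, etale_left := ?_, etale_right := ?_ }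
  · intro T x x' h₁ h₂
    have e : x ≫ prod.lift t' s' = x' ≫ prod.lift t' s' := by
      apply prod.hom_ext
      · rwa [Category.assoc, Category.assoc, prod.lift_fst]
      · rwa [Category.assoc, Category.assoc, prod.lift_snd]
    refine hsq.hom_ext e (h.injective T _ _ ?_ ?_)
    · have := congrArg (fun k => k ≫ prod.map g g ≫ prod.fst) e
      simp only [Category.assoc] at this
      rw [← Category.assoc (prod.lift t' s'), hsq.w, Category.assoc, prod.lift_fst] at this
      simpa [Category.assoc] using this
    · have := congrArg (fun k => k ≫ prod.map g g ≫ prod.snd) e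
      simp only [Category.assoc] at this
      rw [← Category.assoc (prod.lift t' s'), hsq.w, Category.assoc, prod.lift_snd] at this
      simpa [Category.assoc] using this
  · intro T
    exact ⟨fun a => (key T a a).2 ((h.equivalence T).refl _),
      fun hh => (key _ _ _).2 ((h.equivalence T).symm ((key _ _ _).1 hh)),
      fun hh hh' => (key _ _ _).2 ((h.equivalence T).trans ((key _ _ _).1 hh) ((key _ _ _).1 hh'))⟩
  all_goals
    let P : MorphismProperty (Over S) := MorphismProperty.inverseImage @Etale (Over.forget S)
    have h₁ : P (prod.map g (𝟙 U')) := P.of_isPullback (isPullback_prod_map_fst g U') hg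
    have h₂ : P (prod.map (𝟙 U) g) := P.of_isPullback (isPullback_prod_map_snd g U) hg
    have h₃ : P (prod.map g g) := by
      have := P.comp_mem _ _ h₁ h₂
      rwa [prod.map_map, Category.comp_id, Category.id_comp] at this
    have hr : Etale r.left := P.of_isPullback hsq h₃
  · have e : s' ≫ g = r ≫ s := by
      have := hsq.w =≫ prod.snd
      rwa [Category.assoc, Category.assoc, prod.map_snd, prod.lift_snd_assoc, prod.lift_snd] at this
    have : Etale (s'.left ≫ g.left) := by
      rw [← Over.comp_left, e, Over.comp_left]
      infer_instance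
    exact Etale.of_comp _ g.left
  · have e : t' ≫ g = r ≫ t := by
      have := hsq.w =≫ prod.fst
      rwa [Category.assoc, Category.assoc, prod.map_fst, prod.lift_fst_assoc, prod.lift_fst] at this
    have : Etale (t'.left ≫ g.left) := by
      rw [← Over.comp_left, e, Over.comp_left]
      infer_instance
    exact Etale.of_comp _ g.left

end Groth.Agent.S9871
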