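import Groth.Statements.S9876
import Groth.Agent.AlgSpBasic.AlgSpace
import Groth.Agent.AlgSpBasic.Presheaf

set_option autoImplicit false
universe u
open CategoryTheory CategoryTheory.Limits AlgebraicGeometry
open AlgSp Groth.AlgSpBasic

namespace Groth.Agent.S9876

/-- Let `X` be an algebraic space over `S` and `G` a presheaf of sets on schemes over `S` with a map `a
: G ⟶ X` of presheaves which is representable by schemes. Then `G` is an fppf sheaf and an algebraic
space over `S`. -/
theorem result (S : Scheme.{u}) (X : AlgSp.Space S)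
    (G : AlgSp.PSp S) (a : G ⟶ X.obj.obj) (ha : (AlgSp.pyon S).relativelyRepresentable a) :
    AlgSp.IsAlgSpaceP G := by
  have hG := isSheaf_of_relativelyRepresentable a ha X.obj.property
  refine ⟨hG, isAlgSpace_of_representable X.property (G := ⟨G, hG⟩) (ObjectProperty.homMk a) ?_⟩
  intro U g
  obtain ⟨W, snd, fst, sq⟩ := ha g.hom
  exact ⟨W, snd, (ObjectProperty.homMk fst : (AlgSp.yon S).obj W ⟶ ⟨G, hG⟩),
    IsPullback.of_map_of_faithful (sheafToPresheaf (AlgSp.J S) (Type (u + 1))) sq⟩

end Groth.Agent.S9876
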