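import Groth.Statements.S9884
import Groth.Agent.AlgSpBasic.Topology

set_option autoImplicit false
universe u
open CategoryTheory CategoryTheory.Limits AlgebraicGeometry
open AlgSp Groth.AlgSpBasic

namespace Groth.Agent.S9884

/-- Let `a : F ⟶ G` be a map of fppf sheaves of sets over `S` which is representable by schemes, `b : H
⟶ G` a surjective map of sheaves, and `a' : H ×_G F ⟶ H` the base change of `a` along `b` (a
pullback square in sheaves). Let `P` be a property of morphisms of schemes stable under base change
and fppf local on the base. If `a'` has `P` in the representable sense, then so does `a`. (The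
published statement is for presheaves, with `b` inducing a surjection of fppf sheafifications; this
row is the case of sheaves.) -/
theorem result (S : Scheme.{u}) (F G H : AlgSp.Sp S) (a : F ⟶ G)
    (ha : AlgSp.Representable a) (b : H ⟶ G) [Sheaf.IsLocallySurjective b] (Q : AlgSp.Sp S) (b' : Q ⟶ F)
    (a' : Q ⟶ H) (sq : IsPullback b' a' a b) (P : MorphismProperty Scheme.{u}) [P.IsStableUnderBaseChange]
    [P.IsLocalAtTarget Scheme.fppfPrecoverage] (h : AlgSp.RepWith P a') : AlgSp.RepWith P a := by
  exact repWith_of_isLocallySurjective a ha b b' a' sq h

end Groth.Agent.S9884
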