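import Groth.Statements.S9885
import Groth.Agent.AlgSpBasic.Topology

set_option autoImplicit false
universe u
open CategoryTheory CategoryTheory.Limits AlgebraicGeometry
open AlgSp Groth.AlgSpBasic

namespace Groth.Agent.S9885

/-- Let `a : F ⟶ G` be a map of fppf sheaves of sets over `S` which is representable by schemes, flat,
locally of finite presentation and surjective (in the representable sense). Then `a` is surjective
as a map of sheaves (locally surjective). -/
theorem result (S : Scheme.{u}) (F G : AlgSp.Sp S) (a : F ⟶ G)
    (h₁ : AlgSp.RepWith @Flat a) (h₂ : AlgSp.RepWith @LocallyOfFinitePresentation a)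
    (h₃ : AlgSp.RepWith @Surjective a) : Sheaf.IsLocallySurjective a := by
  exact isLocallySurjective_of_repWith a h₁ h₂ h₃

end Groth.Agent.S9885
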