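import Groth.Statements.S9890
import Groth.Agent.AlgSp3.FreeAction
import Groth.Agent.AlgSpBasic.Quotient
import Groth.Agent.AlgSpBasic.SepLocal
import Groth.Agent.Pi1Quot.SigmaFinite

set_option autoImplicit false
set_option backward.isDefEq.respectTransparency.types false
universe u
open CategoryTheory CategoryTheory.Limits AlgebraicGeometry
open AlgSp

namespace Groth.Agent.S9890

open Groth.AlgSpBasic

/-- Let a finite group `G` act freely (no non-identity element fixes a point together with its residue
field) by `S`-automorphisms on a scheme `U` over `S`, and let `s, t : R = ∐_{g ∈ G} U ⟶ U` be the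
identity and the action. When `U ⟶ S` is quasi-separated, so is the quotient sheaf `U/G = U/R` over
`S`; when `U ⟶ S` is separated, `U/G` is also separated over `S`. -/
theorem result (S : Scheme.{u}) (U : Over S) (G : Type u) [Group G] [Finite G]
    (ρ : G →* Aut U)
    (hfree : ∀ (g : G) (x : U.left), g ≠ 1 →
      U.left.fromSpecResidueField x ≫ (ρ g).hom.left ≠ U.left.fromSpecResidueField x)
    (c : Cofan (fun _ : G => U)) (hc : IsColimit c) (s t : c.pt ⟶ U)
    (hs : ∀ g, c.inj g ≫ s = 𝟙 U) (ht : ∀ g, c.inj g ≫ t = (ρ g).hom) :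
    (QuasiSeparated U.hom → AlgSp.IsQuasiSeparatedSp (QuotSh.quot Scheme.fppfPrecoverage s t)) ∧
      (IsSeparated U.hom → AlgSp.IsSeparatedSp (QuotSh.quot Scheme.fppfPrecoverage s t)) := by
  have h := Groth.AlgSp3.isEtaleEqvRel_of_free ρ hfree c hc s t hs ht
  have := isLocallySurjective_yonQuotπ s t
  have := h.etale_left
  have := h.etale_right
  have sq := isPullback_yonQuot h.toIsEqvRel
  let π := yonQuotπ s t
  let b := prodComparison (yon S) U U ≫ prod.map π π
  have := isLocallySurjective_prod_map (π := π)
  have hd := (isAlgSpace_of_kernelPair sq).1.diag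
  have sqD := isPullback_diag_yon sq
  -- the action map is finite
  have hfin : IsFinite t.left := by
    let e : (∐ fun _ : G => U.left) ≅ c.pt.left :=
      (coproductIsCoproduct fun _ : G => U.left).coconePointUniqueUpToIso
        (isColimitCofanMkObjOfIsColimit (Over.forget S) (fun _ : G => U) (P := c.pt) c.inj
          (IsColimit.ofIsoColimit hc (Cofan.ext (Iso.refl _) (fun i => Category.comp_id _))))
    have he : e.hom ≫ t.left = Limits.Sigma.desc fun g => (ρ g).hom.left := by
      refine Limits.Sigma.hom_ext _ _ fun g => ?_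
      rw [Limits.Sigma.ι_desc]
      have h1 : Limits.Sigma.ι (fun _ : G => U.left) g ≫ e.hom = (c.inj g).left :=
        IsColimit.comp_coconePointUniqueUpToIso_hom (coproductIsCoproduct fun _ : G => U.left) _ ⟨g⟩
      rw [reassoc_of% h1, ← Over.comp_left, ht]
    have : ∀ g : G, IsFinite (ρ g).hom.left := fun g => by
      have : IsIso (ρ g).hom.left := inferInstanceAs (IsIso ((Over.forget S).map (ρ g).hom))
      infer_instance
    rw [← MorphismProperty.cancel_left_of_respectsIso @IsFinite e.hom, he]
    exact Groth.Pi1Quot.isFinite_sigmaDesc _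
  have e1 : (prod.lift t s).left ≫ (prod.fst : U ⨯ U ⟶ U).left = t.left := lift_left_fst t s
  let eP := Over.prodLeftIsoPullback U U
  have e2 : eP.hom ≫ pullback.fst U.hom U.hom = (prod.fst : U ⨯ U ⟶ U).left :=
    Over.prodLeftIsoPullback_hom_fst U U
  refine ⟨fun hq => repWith_of_isLocallySurjective _ hd b _ _ sqD
    ((repWith_yon_map_iff _ _).2 ?_), fun hsep => repWith_of_isLocallySurjective _ hd b _ _ sqD
    ((repWith_yon_map_iff _ _).2 ?_)⟩
  · have : QuasiSeparated (pullback.fst U.hom U.hom) := MorphismProperty.pullback_fst _ _ hq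
    have : QuasiSeparated (prod.fst : U ⨯ U ⟶ U).left := e2 ▸ inferInstance
    have : QuasiCompact ((prod.lift t s).left ≫ (prod.fst : U ⨯ U ⟶ U).left) := by
      rw [e1]; infer_instance
    exact QuasiCompact.of_comp (prod.lift t s).left (prod.fst : U ⨯ U ⟶ U).left
  · have : IsSeparated (pullback.fst U.hom U.hom) := MorphismProperty.pullback_fst _ _ hsep
    have : IsSeparated (prod.fst : U ⨯ U ⟶ U).left := e2 ▸ inferInstance
    have : IsFinite ((prod.lift t s).left ≫ (prod.fst : U ⨯ U ⟶ U).left) := by
      rw [e1]; infer_instance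
    have : IsFinite (prod.lift t s).left := IsFinite.of_comp _ (prod.fst : U ⨯ U ⟶ U).left
    have : Mono (prod.lift t s) := ⟨fun {Z} a a' e => h.injective Z a a'
      (by have := e =≫ prod.fst; rwa [Category.assoc, Category.assoc, prod.lift_fst] at this)
      (by have := e =≫ prod.snd; rwa [Category.assoc, Category.assoc, prod.lift_snd] at this)⟩
    have : Mono (prod.lift t s).left := inferInstanceAs (Mono ((Over.forget S).map (prod.lift t s)))
    exact (IsClosedImmersion.iff_isFinite_and_mono _).2 ⟨inferInstance, inferInstance⟩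

end Groth.Agent.S9890
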