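import Groth.Statements.S9911
import Groth.Agent.AlgSpBasic.UnivTest
import Groth.Agent.DescentBase.UnivOpenField

set_option autoImplicit false
universe u
open CategoryTheory CategoryTheory.Limits AlgebraicGeometry
open AlgSp Groth.AlgSpBasic

namespace Groth.Agent.S9911

/-- A morphism from an algebraic space to the spectrum of a field is universally open. -/
theorem result {S : Scheme.{u}} (X : AlgSp.Space S) {k : Type u} [Field k]
    (str : Spec (CommRingCat.of k) ⟶ S) (p : X ⟶ (AlgSp.ofScheme S).obj (Over.mk str)) :
    AlgSp.IsUnivOpenMor p.hom := by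
  obtain ⟨U, a, ha, has⟩ := X.property.atlas
  obtain ⟨a', ha'⟩ := (yon S).map_surjective (a ≫ p.hom)
  refine isUnivOpenMor_of_affine fun Z _ g P fst snd sq W hW => ?_
  have hY : IsAlgSpace ((ofScheme S).obj (Over.mk str)).obj := IsAlgSpace.yon_obj _
  obtain ⟨W', w₁, w₂, r, hsq, -, hr, hrP⟩ := exists_chart_of_isPullback sq hY.diag a (𝟙 _)
  have hrs : RepWith @Surjective r := hrP @Surjective has (repWith_id _ Z)
  obtain ⟨g', rfl⟩ := (yon S).map_surjective g
  rw [Category.id_comp] at hsq
  have hsq' : IsPullback ((yon S).map w₁) ((yon S).map w₂) ((yon S).map a') ((yon S).map g') := by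
    rw [ha']; exact hsq
  have : UniversallyOpen a'.left := Groth.DescentBase.universallyOpen_of_field k a'.left
  have ho : UniversallyOpen w₂.left := MorphismProperty.of_isPullback (P := @UniversallyOpen)
    (isPullback_left (isPullback_of_yon hsq')) this
  rw [← Set.image_preimage_eq W (surjective_map_of_repWith hrs), ← Set.image_comp]
  have e : Points.map snd ∘ Points.map r =
      Points.schemeHomeo Z ∘ w₂.left ∘ (Points.schemeHomeo W').symm := by
    funext x
    obtain ⟨t, rfl⟩ := (Points.schemeHomeo W').surjective x
    simp only [Function.comp_apply, Homeomorph.symm_apply_apply, ← Points.map_comp, hr,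
      Category.comp_id]
    exact Points.map_yon_map_apply w₂ t
  rw [e]
  exact (((Points.schemeHomeo Z).isOpenMap.comp w₂.left.isOpenMap).comp
    (Points.schemeHomeo W').symm.isOpenMap) _ (hW.preimage (Points.continuous_map r))

end Groth.Agent.S9911
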