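import Groth.Statements.S9918
import Groth.Agent.AlgSpBasic.QComp
import Groth.Agent.AlgSpBasic.LocPInst

set_option autoImplicit false
universe u
open CategoryTheory CategoryTheory.Limits AlgebraicGeometry
open AlgSp Groth.AlgSpBasic

namespace Groth.Agent.S9918

/-- (5) ⇒ (1): quasi-compactness of a morphism of algebraic spaces descends along a surjective etale
base change of algebraic spaces. -/
theorem result {S : Scheme.{u}} {X Y Y' X' : AlgSp.Space S}
    (f : X ⟶ Y) (g : Y' ⟶ Y) (fst : X' ⟶ X) (f' : X' ⟶ Y') (sq : IsPullback fst.hom f'.hom f.hom g.hom)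
    (hg : AlgSp.IsEtaleMor g.hom) (hgs : AlgSp.IsSurjectiveMor g.hom) (hf' : AlgSp.IsQuasiCompactMor f'.hom) :
    AlgSp.IsQuasiCompactMor f.hom := by
  refine isQuasiCompactMor_of_cover X.property Y.property Y'.property X'.property sq ?_ hgs hf'
  intro Z Z' hZ t p q hp
  have hZ' := isAlgSpace_of_isPullback hp Y.property.diag Y'.property hZ
  have h := locP_of_isPullback Y'.property Y.property hZ hp (locP_of_isEtaleMor hg)
  exact isOpenMap_map_of_locP hZ' hZ
    (fun U V a b k ha hb comm => have : Etale k.left := h a b k ha hb comm; inferInstance)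
    (fun U V a b k ha hb comm => have : Etale k.left := h a b k ha hb comm; inferInstance)

end Groth.Agent.S9918
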