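import Groth.Statements.S9927
import Groth.Agent.AlgSpBasic.Topology
import Groth.Agent.AlgSpBasic.RepWith

set_option autoImplicit false
universe u
open CategoryTheory CategoryTheory.Limits AlgebraicGeometry
open AlgSp Groth.AlgSpBasic

namespace Groth.Agent.S9927

/-- (4) ⇒ (1): being a monomorphism descends along a surjective etale base change from a scheme. -/
theorem result {S : Scheme.{u}} {X Y : AlgSp.Space S} (f : X ⟶ Y) (V : Over S)
    (p : (AlgSp.yon S).obj V ⟶ Y.obj) (hp : AlgSp.RepWith @Etale p) (hps : AlgSp.RepWith @Surjective p)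
    {P : AlgSp.Sp S} (fst : P ⟶ X.obj) (snd : P ⟶ (AlgSp.yon S).obj V) (sq : IsPullback fst snd f.hom p)
    [Mono snd] : Mono f.hom := by
  refine ⟨fun {T} a b hab => ?_⟩
  obtain ⟨TV, q, r, hq⟩ : ∃ (TV : Sp S) (q : TV ⟶ T) (r : TV ⟶ (yon S).obj V),
      IsPullback q r (a ≫ f.hom) p := ⟨_, _, _, IsPullback.of_hasPullback _ p⟩
  have hw : (q ≫ a) ≫ f.hom = r ≫ p := by rw [Category.assoc]; exact hq.w
  have hw' : (q ≫ b) ≫ f.hom = r ≫ p := by rw [Category.assoc, ← hab]; exact hq.w
  have e : sq.lift (q ≫ a) r hw = sq.lift (q ≫ b) r hw' := by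
    rw [← cancel_mono snd, sq.lift_snd, sq.lift_snd]
  have := isLocallySurjective_of_etale q (repWith_of_isPullback hq.flip hp)
    (repWith_of_isPullback hq.flip hps)
  have : Epi q := inferInstance
  refine (cancel_epi q).1 ?_
  rw [← sq.lift_fst (q ≫ a) r hw, e, sq.lift_fst]

end Groth.Agent.S9927
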