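import Groth.Statements.S9933
import Groth.Agent.AlgSpBasic.DiagBaseChange
import Groth.Agent.AlgSpBasic.DiagProps

set_option autoImplicit false
universe u
open CategoryTheory CategoryTheory.Limits AlgebraicGeometry
open AlgSp Groth.AlgSpBasic

namespace Groth.Agent.S9933

/-- Permanence for Z -> Y -> X: the five representable finiteness/separation properties of Z -> X pass
to Z -> Y, and a closed immersion Z -> X with Y -> X separated gives a closed immersion Z -> Y. -/
theorem result {S : Scheme.{u}} {Z Y X : AlgSp.Space S} (a : Z ⟶ Y) (b : Y ⟶ X) :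
    ((AlgSp.Representable (a ≫ b).hom ∧ AlgSp.RepWith @LocallyOfFiniteType (a ≫ b).hom ∧
        AlgSp.RepWith (@LocallyQuasiFinite ⊓ @LocallyOfFiniteType) (a ≫ b).hom ∧
        AlgSp.RepWith @IsSeparated (a ≫ b).hom ∧
        AlgSp.RepWith (MorphismProperty.monomorphisms Scheme.{u}) (a ≫ b).hom) →
      (AlgSp.Representable a.hom ∧ AlgSp.RepWith @LocallyOfFiniteType a.hom ∧
        AlgSp.RepWith (@LocallyQuasiFinite ⊓ @LocallyOfFiniteType) a.hom ∧
        AlgSp.RepWith @IsSeparated a.hom ∧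
        AlgSp.RepWith (MorphismProperty.monomorphisms Scheme.{u}) a.hom)) ∧
    (AlgSp.RepWith @IsClosedImmersion (a ≫ b).hom → AlgSp.IsSeparatedMor b.hom →
      AlgSp.RepWith @IsClosedImmersion a.hom) := by
  have hd := monoLFT_diagonal Y.property b.hom
  refine ⟨fun h => ?_, fun h hs => repWith_of_comp_of_diagonal @IsClosedImmersion
    (a := a.hom) (b := b.hom) h hs⟩
  obtain ⟨-, h₁, h₂, h₃, h₄⟩ := h
  have hle := repWith_mono monoLFT_le hd
  have e₁ := repWith_of_comp_of_diagonal @LocallyOfFiniteType (a := a.hom) (b := b.hom) h₁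
    (repWith_inf_iff.1 hd).2
  have e₂ := repWith_of_comp_of_diagonal @LocallyQuasiFinite (a := a.hom) (b := b.hom)
    (repWith_inf_iff.1 h₂).1 (repWith_inf_iff.1 (repWith_inf_iff.1 hle).2).1
  exact ⟨e₁.rep, e₁, repWith_inf_iff.2 ⟨e₂, e₁⟩,
    repWith_of_comp_of_diagonal @IsSeparated (a := a.hom) (b := b.hom) h₃ (repWith_inf_iff.1 hle).1,
    repWith_of_comp_of_diagonal _ (a := a.hom) (b := b.hom) h₄ (repWith_inf_iff.1 hd).1⟩

end Groth.Agent.S9933
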