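import Groth.Statements.S9934
import Groth.Agent.AlgSpBasic.RepWith
import Groth.Agent.AlgSpBasic.Points
import Groth.Agent.AlgSpBasic.Univ

set_option autoImplicit false
universe u
open CategoryTheory CategoryTheory.Limits AlgebraicGeometry
open AlgSp Groth.AlgSpBasic

namespace Groth.Agent.S9934

/-- An immersion of algebraic spaces is a closed immersion exactly when its image on points is closed. -/
theorem result {S : Scheme.{u}} {Z X : AlgSp.Space S} (i : Z ⟶ X)
    (hi : AlgSp.RepWith @IsImmersion i.hom) :
    AlgSp.RepWith @IsClosedImmersion i.hom ↔ IsClosed (Set.range (AlgSp.Points.map i.hom)) := by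
  refine ⟨fun h => (isClosedMap_map_of_repWith (fun _ _ φ (_ : IsClosedImmersion φ) =>
    φ.isClosedEmbedding.isClosedMap) h).isClosed_range, fun h => ?_⟩
  refine repWith_of_representable hi.rep fun T V g fst snd sq => ?_
  have : IsImmersion snd.left := hi.property g fst snd sq
  refine IsClosedImmersion.of_isPreimmersion _ ?_
  have e : Set.range snd.left = Points.ofPt g ⁻¹' Set.range (Points.map i.hom) := by
    ext t
    constructor
    · rintro ⟨v, rfl⟩
      exact ⟨_, (map_eq_ofPt_iff sq (Points.ofPt fst v) _).2 ⟨v, rfl, rfl⟩⟩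
    · rintro ⟨x, hx⟩
      obtain ⟨v, -, hv⟩ := (map_eq_ofPt_iff sq x t).1 hx
      exact ⟨v, hv⟩
  rw [e]
  exact h.preimage (Points.continuous_ofPt g)

end Groth.Agent.S9934
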