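import Groth.Statements.S9939
import Groth.Agent.AlgSpBasic.RepWith

set_option autoImplicit false
universe u
open CategoryTheory CategoryTheory.Limits AlgebraicGeometry
open AlgSp Groth.AlgSpBasic

namespace Groth.Agent.S9939

/-- For a morphism of algebraic spaces representable by schemes, representable universal injectivity is
equivalent to injectivity on K-valued points for every field K. -/
theorem result {S : Scheme.{u}} {X Y : AlgSp.Space S} (f : X ⟶ Y)
    (hf : AlgSp.Representable f.hom) :
    AlgSp.RepWith @UniversallyInjective f.hom ↔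
      ∀ (K : Type u) [Field K] (str : Spec (CommRingCat.of K) ⟶ S),
        Function.Injective (fun a : (AlgSp.yon S).obj (Over.mk str) ⟶ X.obj => a ≫ f.hom) := by
  constructor
  · intro h K _ str a b (e : a ≫ f.hom = b ≫ f.hom)
    obtain ⟨V, snd, fst, sq⟩ := h.rep (a ≫ f.hom)
    obtain ⟨α, hα⟩ := (yon S).map_surjective (sq.lift a (𝟙 _) (Category.id_comp _).symm)
    obtain ⟨β, hβ⟩ := (yon S).map_surjective
      (sq.lift b (𝟙 _) (by rw [← e]; exact (Category.id_comp _).symm))
    have hu : UniversallyInjective snd.left := h.property _ fst snd sq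
    have e₁ : α ≫ snd = 𝟙 _ := (yon S).map_injective (by
      rw [Functor.map_comp, hα, sq.lift_snd, (yon S).map_id])
    have e₂ : β ≫ snd = 𝟙 _ := (yon S).map_injective (by
      rw [Functor.map_comp, hβ, sq.lift_snd, (yon S).map_id])
    have hT : UniversallyInjective snd.left ↔ ∀ (K : Type u) [Field K],
        Function.Injective (fun g : Spec (.of K) ⟶ V.left ↦ g ≫ snd.left) :=
      (tfae_universallyInjective snd.left).out 0 1
    have : α = β := Over.OverMorphism.ext (hT.1 hu K
      (show α.left ≫ snd.left = β.left ≫ snd.left by rw [← Over.comp_left, ← Over.comp_left, e₁, e₂]))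
    rw [← sq.lift_fst a (𝟙 _) (Category.id_comp _).symm, ← hα, this, hβ, sq.lift_fst]
  · intro h
    refine repWith_of_representable hf fun T V g fst snd sq => ?_
    have hT : UniversallyInjective snd.left ↔ ∀ (K : Type u) [Field K],
        Function.Injective (fun g : Spec (.of K) ⟶ V.left ↦ g ≫ snd.left) :=
      (tfae_universallyInjective snd.left).out 0 1
    refine hT.2 fun K _ g₁ g₂ e => ?_
    replace e : g₁ ≫ snd.left = g₂ ≫ snd.left := e
    have hw : g₂ ≫ V.hom = g₁ ≫ V.hom := by
      rw [← Over.w snd, ← Category.assoc, ← e, Category.assoc]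
    let k₁ : Over.mk (g₁ ≫ V.hom) ⟶ V := Over.homMk g₁
    let k₂ : Over.mk (g₁ ≫ V.hom) ⟶ V := Over.homMk g₂ hw
    have ek : k₁ ≫ snd = k₂ ≫ snd := Over.OverMorphism.ext e
    have : (yon S).map k₁ = (yon S).map k₂ := by
      refine sq.hom_ext (h K (g₁ ≫ V.hom) ?_) ?_
      · show ((yon S).map k₁ ≫ fst) ≫ f.hom = ((yon S).map k₂ ≫ fst) ≫ f.hom
        rw [Category.assoc, Category.assoc, sq.w, ← Category.assoc, ← Category.assoc,
          ← Functor.map_comp, ← Functor.map_comp, ek]
      · rw [← Functor.map_comp, ← Functor.map_comp, ek]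
    exact congrArg (fun k => k.left) ((yon S).map_injective this)

end Groth.Agent.S9939
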