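import Groth.Statements.S9945
import Groth.Agent.S9942
import Groth.Agent.S10185
import Groth.Agent.AlgSp2.FiniteImage
-- import your own Groth.Agent.* helpers here

set_option autoImplicit false
universe u
open CategoryTheory CategoryTheory.Limits AlgebraicGeometry
open AlgSp

namespace Groth.Agent.S9945

/-- Over a base scheme with quasi-separated underlying space, every morphism from the spectrum of an
Artinian ring to an algebraic space quasi-separated over S is affine. (The published statement
assumes X quasi-separated in the absolute sense over any base; this row assumes the base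
quasi-separated and X quasi-separated over it, which on such bases is the same condition.) -/
theorem result {S : Scheme.{u}} [QuasiSeparatedSpace ↥S] (X : AlgSp.Space S)
    (hX : AlgSp.IsQuasiSeparatedSp X.obj) (A : Type u) [CommRing A] [IsArtinianRing A]
    (str : Spec (CommRingCat.of A) ⟶ S) (a : (AlgSp.yon S).obj (Over.mk str) ⟶ X.obj) :
    AlgSp.IsAffineMor a := by
  refine Groth.Agent.S9942.result (X := ⟨(AlgSp.yon S).obj (Over.mk str), AlgSp.IsAlgSpace.yon_obj _⟩)
    (ObjectProperty.homMk a) ?_
  intro V hV b hb P fst snd sq
  obtain ⟨W, t, s, sW⟩ := Groth.AlgSpBasic.exists_pullback_yon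
    (Groth.AlgSpBasic.representable_of_diag X.property.diag a) b
  have : CompactSpace ↥(Over.mk str).left :=
    inferInstanceAs (CompactSpace ↥(Spec (CommRingCat.of A)))
  have : CompactSpace ↥W.left := Groth.Agent.S10185.result X hX _ _ W a b t s sW
  have he : Etale t.left := Groth.AlgSpBasic.repWith_fst_of_isPullback sW.flip hb
  have := (Groth.AlgSpBasic.EtaleLocal.of_etale
    (P := (@LocallyQuasiFinite ⊓ @LocallyOfFiniteType : MorphismProperty Scheme.{u})) t.left he).1
  have : IsLocallyArtinian (Over.mk str).left :=
    inferInstanceAs (IsLocallyArtinian (Spec (CommRingCat.of A)))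
  have : IsLocallyArtinian W.left := IsLocallyArtinian.of_locallyQuasiFinite t.left
  have : DiscreteTopology ↥W.left := inferInstance
  have : Finite ↥W.left := finite_of_compact_of_discrete
  exact ⟨W, inferInstance, ⟨sW.isoPullback ≪≫ sq.isoPullback.symm⟩⟩

end Groth.Agent.S9945
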