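import Groth.Statements.S9947
import Groth.Agent.AlgSpBasic.LocPInst

set_option autoImplicit false
universe u
open CategoryTheory CategoryTheory.Limits AlgebraicGeometry
open AlgSp Groth.AlgSpBasic

namespace Groth.Agent.S9947

/-- (2) ⇒ (1): if one chart diagram of f : X -> Y with surjective etale source chart has top arrow in P,
then every chart diagram of f does. -/
theorem result {S : Scheme.{u}} (P : MorphismProperty Scheme.{u})
    (hP : P = @LocallyOfFiniteType ∨ P = @LocallyOfFinitePresentation ∨ P = @Flat ∨ P = @Smooth ∨ P = @Etale ∨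
      (∀ ⦃A B : Scheme.{u}⦄ (g : A ⟶ B), P g ↔ (LocallyQuasiFinite g ∧ LocallyOfFiniteType g)) ∨
      (∀ ⦃A B : Scheme.{u}⦄ (g : A ⟶ B), P g ↔ (LocallyOfFiniteType g ∧ FormallyUnramified g)))
    {X Y : AlgSp.Space S} (f : X ⟶ Y) {U V : Over S} (a : (AlgSp.yon S).obj U ⟶ X.obj)
    (b : (AlgSp.yon S).obj V ⟶ Y.obj) (h : U ⟶ V) (ha : AlgSp.RepWith @Etale a) (has : AlgSp.RepWith @Surjective a)
    (hb : AlgSp.RepWith @Etale b) (comm : a ≫ f.hom = (AlgSp.yon S).map h ≫ b) (hh : P h.left) :
    AlgSp.LocP P f.hom := by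
  have := etaleLocal_of_std P hP
  exact locP_of_chart X.property.diag Y.property.diag ha has hb comm hh

end Groth.Agent.S9947
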