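import Groth.Statements.S9950
import Groth.Agent.AlgSpBasic.LocP

set_option autoImplicit false
universe u
open CategoryTheory CategoryTheory.Limits AlgebraicGeometry
open AlgSp Groth.AlgSpBasic

namespace Groth.Agent.S9950

/-- (6) ⇒ (1): if f ∘ φ is locally of finite type for one surjective etale chart φ of the source, then f
is locally of finite type. -/
theorem result {S : Scheme.{u}} {X Y : AlgSp.Space S} (f : X ⟶ Y) (U : Over S)
    (φ : (AlgSp.yon S).obj U ⟶ X.obj) (hφ : AlgSp.RepWith @Etale φ) (hφs : AlgSp.RepWith @Surjective φ)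
    (h : AlgSp.LocP @LocallyOfFiniteType (φ ≫ f.hom)) : AlgSp.LocP @LocallyOfFiniteType f.hom := by
  exact locP_of_source_cover X.property Y.property hφ hφs h

end Groth.Agent.S9950
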