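import Groth.Statements.S9958
import Groth.Agent.AlgSpBasic.LocPInst
import Groth.Agent.AlgSpBasic.Points
import Groth.Agent.AlgSpBasic.AlgSpace

set_option autoImplicit false
universe u
open CategoryTheory CategoryTheory.Limits AlgebraicGeometry
open AlgSp Groth.AlgSpBasic

namespace Groth.Agent.S9958

/-- Over a locally Noetherian algebraic space, locally of finite type implies locally of finite
presentation. -/
theorem result {S : Scheme.{u}} {X Y : AlgSp.Space S} (f : X ⟶ Y)
    (hY : AlgSp.IsLocNoethSp Y.obj) (hf : AlgSp.LocP @LocallyOfFiniteType f.hom) :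
    AlgSp.LocP @LocallyOfFinitePresentation f.hom := by
  obtain ⟨V, b, hb, hbs, hV⟩ := hY
  obtain ⟨U, a, h, ha, has, comm⟩ := exists_chart_over X.property Y.property.diag f.hom b hb hbs
  have := hV
  have : LocallyOfFiniteType h.left := hf a b h ha hb comm
  exact locP_of_chart (P := @LocallyOfFinitePresentation) X.property.diag Y.property.diag ha has hb comm inferInstance

end Groth.Agent.S9958
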