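import Groth.Statements.S9959
import Groth.Agent.AlgSpBasic.LocP
import Groth.Agent.S4599

set_option autoImplicit false
universe u
open CategoryTheory CategoryTheory.Limits AlgebraicGeometry
open AlgSp Groth.AlgSpBasic

namespace Groth.Agent.S9959

/-- Given X -> Y -> Z with X -> Z locally finitely presented and Y -> Z locally of finite type, X -> Y
is locally finitely presented (all three etale locally on source and target). -/
theorem result {S : Scheme.{u}} {X Y Z : AlgSp.Space S} (f : X ⟶ Y) (g : Y ⟶ Z)
    (hX : AlgSp.LocP @LocallyOfFinitePresentation (f ≫ g).hom) (hY : AlgSp.LocP @LocallyOfFiniteType g.hom) :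
    AlgSp.LocP @LocallyOfFinitePresentation f.hom := by
  have : MorphismProperty.IsMultiplicative @LocallyOfFinitePresentation.{u} :=
    { id_mem := fun _ => inferInstance }
  have : MorphismProperty.HasOfPostcompProperty @LocallyOfFinitePresentation.{u}
      @LocallyOfFiniteType.{u} :=
    MorphismProperty.hasOfPostcompProperty_iff_le_diagonal.mpr fun _ _ g (_ : LocallyOfFiniteType g) =>
      Groth.Agent.S4599.result g
  exact locP_of_comp_of_cancel' (P := @LocallyOfFinitePresentation) (fun _ _ _ f g h hg =>
    MorphismProperty.of_postcomp (W' := @LocallyOfFiniteType) _ f g hg h)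
    X.property Y.property Z.property hX hY

end Groth.Agent.S9959
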