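import Groth.Statements.S9962
import Groth.Agent.AlgSpBasic.LocPInst
import Groth.Agent.AlgSpBasic.Points
import Groth.Agent.AlgSpBasic.AlgSpace

set_option autoImplicit false
universe u
open CategoryTheory CategoryTheory.Limits AlgebraicGeometry
open AlgSp Groth.AlgSpBasic

namespace Groth.Agent.S9962

/-- A flat morphism locally of finite presentation between algebraic spaces is universally open. -/
theorem result {S : Scheme.{u}} {X Y : AlgSp.Space S} (f : X ⟶ Y)
    (hfl : AlgSp.LocP @Flat f.hom) (hfp : AlgSp.LocP @LocallyOfFinitePresentation f.hom) :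
    AlgSp.IsUnivOpenMor f.hom := by
  intro Z Z' hZ g fst snd sq
  have hZ' := isAlgSpace_of_isPullback sq Y.property.diag X.property hZ
  exact isOpenMap_map_of_locP hZ' hZ (locP_of_isPullback X.property Y.property hZ sq hfl)
    (locP_of_isPullback X.property Y.property hZ sq hfp)

end Groth.Agent.S9962
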