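import Groth.Statements.S9963
import Groth.Agent.AlgSp2.FlatSubmersive
-- import your own Groth.Agent.* helpers here

set_option autoImplicit false
universe u
open CategoryTheory CategoryTheory.Limits AlgebraicGeometry
open AlgSp

namespace Groth.Agent.S9963

/-- A morphism of algebraic spaces that is flat, quasi-compact and surjective is submersive, and
universally submersive. -/
theorem result {S : Scheme.{u}} {X Y : AlgSp.Space S} (f : X ⟶ Y)
    (hfl : AlgSp.LocP @Flat f.hom) (hqc : AlgSp.IsQuasiCompactMor f.hom) (hs : AlgSp.IsSurjectiveMor f.hom) :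
    AlgSp.IsSubmersiveMor f.hom ∧ AlgSp.IsUnivSubmersiveMor f.hom := by
  exact ⟨Groth.AlgSp2.isSubmersiveMor_of_flat_qc_surjective X.property Y.property hfl hqc hs,
    Groth.AlgSp2.isUnivSubmersiveMor_of_flat_qc_surjective X.property Y.property hfl hqc hs⟩

end Groth.Agent.S9963
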