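import Groth.Statements.S9965
import Groth.Agent.AlgSp3.SchImage
import Groth.Agent.AlgSpBasic.LocP

set_option autoImplicit false
set_option backward.isDefEq.respectTransparency.types false
universe u
open CategoryTheory CategoryTheory.Limits AlgebraicGeometry
open AlgSp

namespace Groth.Agent.S9965

open CategoryTheory CategoryTheory.Limits AlgebraicGeometry Groth.AlgSpBasic

/-- For a quasi-compact morphism of algebraic spaces, forming the scheme theoretic image commutes with
etale base change, and the image of the morphism is dense in the scheme theoretic image. -/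
theorem result {S : Scheme.{u}} {X Y Z : AlgSp.Space S} (f : X ⟶ Y) (i : Z ⟶ Y)
    (hq : AlgSp.IsQuasiCompactMor f.hom) (hZ : AlgSp.IsSchImage f.hom i.hom) :
    (∀ (V XV ZV : AlgSp.Space S) (b : V ⟶ Y), AlgSp.IsEtaleMor b.hom →
      ∀ (f₁ : XV ⟶ X) (fV : XV ⟶ V) (i₁ : ZV ⟶ Z) (iV : ZV ⟶ V),
        IsPullback f₁.hom fV.hom f.hom b.hom → IsPullback i₁.hom iV.hom i.hom b.hom →
        AlgSp.IsSchImage fV.hom iV.hom) ∧
    Set.range (AlgSp.Points.map i.hom) ⊆ closure (Set.range (AlgSp.Points.map f.hom)) := by
  refine ⟨fun V XV ZV b hb f₁ fV i₁ iV sq₁ sq₂ => ?_,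
    Groth.AlgSp3.range_map_subset_closure_of_isSchImage Y.property X.property Z.property hq hZ⟩
  refine Groth.AlgSp3.isSchImage_of_flat_baseChange Y.property V.property X.property Z.property hq hZ
    (fun U W a c h ha hc e => ?_) sq₁ sq₂
  have : Etale h.left := locP_of_isEtaleMor hb a c h ha hc e
  infer_instance

end Groth.Agent.S9965
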