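import Groth.Agent.AlgSpCartier.ClosedSubProps
-- import your own Groth.Agent.* helpers here

set_option autoImplicit false
universe u
open CategoryTheory CategoryTheory.Limits AlgebraicGeometry
open AlgSp

namespace Groth.Agent.S9966

/-- The scheme theoretic image of a morphism from a reduced algebraic space is the reduced induced
structure on the closure of its image. -/
theorem result {S : Scheme.{u}} {X Y Z : AlgSp.Space S} (f : X ⟶ Y) (i : Z ⟶ Y)
    (hX : AlgSp.IsReducedSp X.obj) (hZ : AlgSp.IsSchImage f.hom i.hom) :
    AlgSp.IsRedInduced (closure (Set.range (AlgSp.Points.map f.hom))) i.hom := by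
  exact Groth.AlgSpCartier.isRedInduced_of_isSchImage Y.property hX hZ

end Groth.Agent.S9966
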