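import Groth.Statements.S9967
import Groth.Agent.AlgSp3.SchImage
import Groth.Agent.AlgSpBasic.DiagProps
import Groth.Agent.AlgSpBasic.DiagBaseChange

set_option autoImplicit false
set_option backward.isDefEq.respectTransparency.types false
universe u
open CategoryTheory CategoryTheory.Limits AlgebraicGeometry
open AlgSp

namespace Groth.Agent.S9967

open CategoryTheory CategoryTheory.Limits AlgebraicGeometry Groth.AlgSpBasic

/-- For a separated f : X -> Y and a section s of f over a quasi-compact open V of Y, the scheme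
theoretic image of s maps isomorphically to Y over V. -/
theorem result {S : Scheme.{u}} {X Y V Y' : AlgSp.Space S} (f : X ⟶ Y) (j : V ⟶ Y)
    (hj : AlgSp.RepWith @IsOpenImmersion j.hom) (hjq : AlgSp.IsQuasiCompactMor j.hom) (hf : AlgSp.IsSeparatedMor f.hom)
    (s : V ⟶ X) (hs : s ≫ f = j) (c : Y' ⟶ X) (hc : AlgSp.IsSchImage s.hom c.hom)
    {P : AlgSp.Sp S} (fst : P ⟶ Y'.obj) (snd : P ⟶ V.obj) (sq : IsPullback fst snd (c ≫ f).hom j.hom) :
    IsIso snd := by
  have hs' : s.hom ≫ f.hom = j.hom := congrArg (fun φ => φ.hom) hs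
  have sqV := IsPullback.of_hasPullback f.hom j.hom
  have : Mono j.hom := mono_of_repWith (fun _ _ g (_ : IsOpenImmersion g) => inferInstance) hj
  let sV : V.obj ⟶ pullback f.hom j.hom := pullback.lift s.hom (𝟙 _) (by rw [hs', Category.id_comp])
  let jX := pullback.fst f.hom j.hom
  have hjX : AlgSp.RepWith @IsOpenImmersion jX := repWith_of_isPullback sqV.flip hj
  have : Mono jX := mono_of_repWith (fun _ _ g (_ : IsOpenImmersion g) => inferInstance) hjX
  have hXV : AlgSp.IsAlgSpace (pullback f.hom j.hom) :=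
    isAlgSpace_of_representable X.property jX hjX.rep
  have hsq : IsPullback (𝟙 V.obj) sV s.hom jX := by
    refine IsPullback.of_isLimit' ⟨by simp [sV, jX, pullback.lift_fst]⟩ (PullbackCone.IsLimit.mk _ (fun t => t.fst)
      (fun t => Category.comp_id _) (fun t => ?_) (fun t m h₁ _ => ?_))
    · rw [← cancel_mono jX, Category.assoc, show sV ≫ jX = s.hom from pullback.lift_fst _ _ _]
      exact t.condition
    · simpa using h₁
  have hsep : AlgSp.RepWith @IsClosedImmersion sV :=
    repWith_section (pullback.snd f.hom j.hom) sV (pullback.lift_snd _ _ _)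
      (repWith_of_isPullback (isPullback_diagonal_baseChange sqV) hf)
  have hflat : AlgSp.LocP @Flat jX := locP_of_repWith
    (repWith_mono (fun _ _ k (_ : IsOpenImmersion k) => (inferInstance : Flat k)) hjX)
  have hsq' : f.hom ≫ 𝟙 Y.obj = f.hom := Category.comp_id _
  have hqs : AlgSp.IsQuasiCompactMor s.hom := isQuasiCompactMor_of_cancel V.property X.property
    Y.property (f := s.hom) (g := f.hom) (by rw [hs']; exact hjq)
    (repWith_mono (fun _ _ k (_ : IsClosedImmersion k) => (inferInstance : QuasiCompact k)) hf)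
  have hcX := IsPullback.of_hasPullback c.hom jX
  have hZV : AlgSp.IsSchImage sV (pullback.snd c.hom jX) :=
    Groth.AlgSp3.isSchImage_of_flat_baseChange X.property hXV V.property Y'.property hqs hc hflat
      hsq hcX
  obtain ⟨k, hk⟩ := hZV.2.1
  obtain ⟨l, hl⟩ := hZV.2.2 sV V.property hsep ⟨𝟙 _, Category.id_comp _⟩
  have : Mono sV := mono_of_repWith (fun _ _ g (_ : IsClosedImmersion g) => inferInstance) hsep
  have : Mono (pullback.snd c.hom jX) :=
    mono_of_repWith (fun _ _ g (_ : IsClosedImmersion g) => inferInstance) hZV.1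
  have e₁ : l ≫ k = 𝟙 _ := by
    rw [← cancel_mono (pullback.snd c.hom jX), Category.assoc, hk, hl, Category.id_comp]
  have e₂ : k ≫ l = 𝟙 _ := by rw [← cancel_mono sV, Category.assoc, hl, hk, Category.id_comp]
  have sq' : IsPullback (pullback.fst c.hom jX) (pullback.snd c.hom jX ≫ pullback.snd f.hom j.hom)
      (c.hom ≫ f.hom) j.hom := hcX.paste_vert sqV
  have hl' : pullback.snd c.hom jX ≫ pullback.snd f.hom j.hom = l := by
    rw [← hl, Category.assoc, pullback.lift_snd, Category.comp_id]
  have : IsIso l := ⟨k, e₁, e₂⟩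
  have e₃ : (sq.isoIsPullback _ _ sq').hom ≫ l = snd := by
    rw [← hl', IsPullback.isoIsPullback_hom_snd]
  rw [← e₃]
  infer_instance

end Groth.Agent.S9967
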