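import Groth.Statements.S9968
import Groth.Agent.AlgSp3.Density

set_option autoImplicit false
set_option backward.isDefEq.respectTransparency.types false
universe u
open CategoryTheory CategoryTheory.Limits AlgebraicGeometry
open AlgSp

namespace Groth.Agent.S9968

open CategoryTheory CategoryTheory.Limits AlgebraicGeometry Groth.AlgSpBasic

/-- (2) ⇒ (1): if an open subspace is scheme theoretically dense on one surjective etale scheme chart
then its inverse image on every etale scheme chart is scheme theoretically dense. (Density is read
as schematic density of the inverse image open, on both sides; the test objects are scheme charts.) -/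
theorem result {S : Scheme.{u}} {U X : AlgSp.Space S} (j : U ⟶ X)
    (hj : AlgSp.IsSchDense j.hom) (V : Over S) (φ : (AlgSp.yon S).obj V ⟶ X.obj) (hφ : AlgSp.RepWith @Etale φ)
    (W : V.left.Opens) (fst : (AlgSp.yon S).obj (Over.mk (W.ι ≫ V.hom)) ⟶ U.obj)
    (sq : IsPullback fst ((AlgSp.yon S).map (Over.homMk W.ι rfl : Over.mk (W.ι ≫ V.hom) ⟶ V)) j.hom φ) :
    CInt.IsSchematicallyDense W := by
  rw [Groth.AlgSp3.eq_preimageOpens_of_isPullback hj.1 sq]
  exact Groth.AlgSp3.isSchematicallyDense_preimageOpens X.property hj hφ

end Groth.Agent.S9968
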