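import Groth.Statements.S9970
import Groth.Agent.AlgSp3.Density

set_option autoImplicit false
set_option backward.isDefEq.respectTransparency.types false
universe u
open CategoryTheory CategoryTheory.Limits AlgebraicGeometry
open AlgSp

namespace Groth.Agent.S9970

open CategoryTheory CategoryTheory.Limits AlgebraicGeometry Groth.AlgSpBasic

/-- The intersection of two scheme theoretically dense open subspaces is scheme theoretically dense. -/
theorem result {S : Scheme.{u}} {U V X P : AlgSp.Space S} (jU : U ⟶ X) (jV : V ⟶ X)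
    (hU : AlgSp.IsSchDense jU.hom) (hV : AlgSp.IsSchDense jV.hom) (fst : P ⟶ U) (snd : P ⟶ V)
    (sq : IsPullback fst.hom snd.hom jU.hom jV.hom) : AlgSp.IsSchDense (fst ≫ jU).hom := by
  have hf : AlgSp.RepWith @IsOpenImmersion fst.hom := repWith_of_isPullback sq.flip hV.1
  have hj : AlgSp.RepWith @IsOpenImmersion (fst ≫ jU).hom := repWith_comp hf hU.1
  obtain ⟨W, φ, hφ, hφs⟩ := X.property.atlas
  refine Groth.AlgSp3.isSchDense_of_chart hj hφ hφs fun O a b hab => ?_
  have h₁ := Groth.AlgSp3.isSchematicallyDense_preimageOpens X.property hU hφ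
  have h₂ := Groth.AlgSp3.isSchematicallyDense_preimageOpens X.property hV hφ
  have hle : (O ⊓ Groth.AlgSp3.preimageOpens hU.1 φ) ⊓ Groth.AlgSp3.preimageOpens hV.1 φ ≤
      O ⊓ Groth.AlgSp3.preimageOpens hj φ := by
    rintro v ⟨⟨hv, y, hy⟩, z, hz⟩
    obtain ⟨q, hq, -⟩ := exists_point_of_isPullback sq y z (hy.trans hz.symm)
    refine ⟨hv, q, ?_⟩
    show AlgSp.Points.map (fst.hom ≫ jU.hom) q = _
    rw [AlgSp.Points.map_comp, hq, hy]
  apply h₁ O
  apply h₂
  have := congrArg (W.left.presheaf.map (homOfLE hle).op) hab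
  simp only [← CommRingCat.comp_apply, ← Functor.map_comp] at this ⊢
  exact this

end Groth.Agent.S9970
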