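import Groth.Statements.S9974
import Groth.Agent.AlgSp3.SchImage

set_option autoImplicit false
set_option backward.isDefEq.respectTransparency.types false
universe u
open CategoryTheory CategoryTheory.Limits AlgebraicGeometry
open AlgSp

namespace Groth.Agent.S9974

open CategoryTheory CategoryTheory.Limits AlgebraicGeometry Groth.AlgSpBasic

/-- For a flat morphism of algebraic spaces, the scheme theoretic image of a quasi-compact morphism
pulls back to the scheme theoretic image of the pulled-back morphism. -/
theorem result {S : Scheme.{u}} {X Y V Z VX ZX : AlgSp.Space S} (f : X ⟶ Y)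
    (hf : AlgSp.LocP @Flat f.hom) (g : V ⟶ Y) (hg : AlgSp.IsQuasiCompactMor g.hom) (i : Z ⟶ Y)
    (hZ : AlgSp.IsSchImage g.hom i.hom) (g₁ : VX ⟶ V) (gX : VX ⟶ X) (sqV : IsPullback g₁.hom gX.hom g.hom f.hom)
    (i₁ : ZX ⟶ Z) (iX : ZX ⟶ X) (sqZ : IsPullback i₁.hom iX.hom i.hom f.hom) :
    AlgSp.IsSchImage gX.hom iX.hom := by
  exact Groth.AlgSp3.isSchImage_of_flat_baseChange Y.property X.property V.property Z.property hg hZ
    hf sqV sqZ

end Groth.Agent.S9974
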