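import Groth.Statements.S9976
import Groth.Agent.AlgSp3.FTPoints

set_option autoImplicit false
set_option backward.isDefEq.respectTransparency.types false
universe u
open CategoryTheory CategoryTheory.Limits AlgebraicGeometry
open AlgSp

namespace Groth.Agent.S9976

open Groth.AlgSpBasic Groth.AlgSp3

/-- Under a surjective morphism locally of finite type, every finite type point of the target is the
image of a finite type point of the source. (The published lemma states that the two sets of finite
type points correspond exactly; the inclusion of the image in the finite type points of the target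
holds for every morphism locally of finite type and is omitted here.) -/
theorem result {S : Scheme.{u}} {X Y : AlgSp.Space S} (f : X ⟶ Y)
    (hf : AlgSp.LocP @LocallyOfFiniteType f.hom) (hs : AlgSp.IsSurjectiveMor f.hom) (y : AlgSp.Points Y.obj)
    (hy : ∃ (k : Type u) (_ : Field k) (str : Spec (CommRingCat.of k) ⟶ S) (ξ : (AlgSp.yon S).obj (Over.mk str) ⟶ Y.obj),
        AlgSp.LocP @LocallyOfFiniteType ξ ∧ AlgSp.Points.ofPt ξ (IsLocalRing.closedPoint k) = y) :
    ∃ x : AlgSp.Points X.obj, AlgSp.Points.map f.hom x = y ∧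
      ∃ (k : Type u) (_ : Field k) (str : Spec (CommRingCat.of k) ⟶ S) (ξ : (AlgSp.yon S).obj (Over.mk str) ⟶ X.obj),
        AlgSp.LocP @LocallyOfFiniteType ξ ∧ AlgSp.Points.ofPt ξ (IsLocalRing.closedPoint k) = x := by
  obtain ⟨k, _, str, ξ, hξ, rfl⟩ := hy
  obtain ⟨P, fst, snd, sq⟩ : ∃ (P : AlgSp.Sp S) (fst : P ⟶ X.obj) (snd : _), IsPullback fst snd f.hom ξ :=
    ⟨_, _, _, IsPullback.of_hasPullback f.hom ξ⟩
  have hP : IsAlgSpace P :=
    isAlgSpace_of_isPullback sq Y.property.diag X.property (IsAlgSpace.yon_obj _)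
  obtain ⟨Q, q, hq, hqs⟩ := hP.atlas
  obtain ⟨g, hg⟩ := (AlgSp.yon S).map_surjective (q ≫ snd)
  have hsnd : AlgSp.LocP @LocallyOfFiniteType snd :=
    locP_of_isPullback X.property Y.property (IsAlgSpace.yon_obj _) sq hf
  have : LocallyOfFiniteType g.left := hsnd q (𝟙 _) g hq (repWith_id _ _) (by rw [Category.comp_id, hg])
  obtain ⟨x₀, hx₀⟩ := hs (AlgSp.Points.ofPt ξ (IsLocalRing.closedPoint k))
  obtain ⟨z, -, -⟩ := AlgSpBasic.exists_point_of_isPullback sq x₀
    (AlgSp.Points.ofScheme _ (IsLocalRing.closedPoint k)) (by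
      rw [hx₀, AlgSp.Points.map_ofPt, Category.id_comp])
  obtain ⟨q₀, -⟩ := surjective_ofPt_of_repWith hqs z
  have : IsLocallyNoetherian (Over.mk str).left :=
    inferInstanceAs (IsLocallyNoetherian (Spec (CommRingCat.of k)))
  have : IsLocallyNoetherian Q.left := LocallyOfFiniteType.isLocallyNoetherian g.left
  obtain ⟨c, -, hc⟩ := Groth.RefRank.exists_isClosed_singleton (X := Q.left) isClosed_univ
    ⟨q₀, trivial⟩
  refine ⟨AlgSp.Points.ofPt (q ≫ fst) c, ?_, Q.left.residueField c, inferInstance,
    Q.left.fromSpecResidueField c ≫ Q.hom,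
    (AlgSp.yon S).map (Over.homMk (Q.left.fromSpecResidueField c) rfl :
      Over.mk (Q.left.fromSpecResidueField c ≫ Q.hom) ⟶ Q) ≫ q ≫ fst, ?_, ?_⟩
  · rw [AlgSp.Points.map_ofPt, Category.assoc, sq.w, ← Category.assoc, ← hg, ofPt_comp_yon]
    congr 1
    exact Subsingleton.elim (α := PrimeSpectrum k) _ _
  · have := isClosed_singleton_iff_isClosedImmersion.mp hc
    refine locP_comp (IsAlgSpace.yon_obj _) (IsAlgSpace.yon_obj _) X.property
      (locP_of_repWith ((repWith_yon_map_iff _ _).2 ?_))
      (locP_comp (IsAlgSpace.yon_obj _) hP X.property (locP_of_repWith (repWith_mono (P := @Etale)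
        (Q := @LocallyOfFiniteType) (fun _ _ m (_ : Etale m) => inferInstance) hq))
        (locP_of_isPullback (IsAlgSpace.yon_obj _) Y.property X.property sq.flip hξ))
    exact (inferInstance : LocallyOfFiniteType (Q.left.fromSpecResidueField c))
  · rw [ofPt_comp_yon]
    exact congrArg (AlgSp.Points.ofPt (q ≫ fst)) (Scheme.fromSpecResidueField_apply _ _)

end Groth.Agent.S9976
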