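import Groth.Statements.S9978
import Groth.Agent.AlgSpBasic.LocP
import Groth.Agent.S9833
import Groth.Agent.S0566

set_option autoImplicit false
set_option backward.isDefEq.respectTransparency.types false
universe u
open CategoryTheory CategoryTheory.Limits AlgebraicGeometry
open AlgSp

namespace Groth.Agent.S9978

open Groth.AlgSpBasic

/-- An algebraic space locally of finite type over a Nagata algebraic space is Nagata. -/
theorem result {S : Scheme.{u}} {X Y : AlgSp.Space S} (f : X ⟶ Y)
    (hf : AlgSp.LocP @LocallyOfFiniteType f.hom)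
    (hY : AlgSp.EtaleLocally (fun U => ∀ V : U.Opens, IsAffineOpen V → CAlg.IsNagata ↑Γ(U, V)) Y.obj) :
    AlgSp.EtaleLocally (fun U => ∀ V : U.Opens, IsAffineOpen V → CAlg.IsNagata ↑Γ(U, V)) X.obj := by
  obtain ⟨V, b, hb, hbs, hV⟩ := hY
  obtain ⟨U, a, h, ha, has, comm⟩ := exists_chart_over X.property Y.property.diag f.hom b hb hbs
  have : LocallyOfFiniteType h.left := hf a b h ha hb comm
  refine ⟨U, a, ha, has, fun K hK => ?_⟩
  have hcov : ∀ u : ↥U.left, ∃ (A : U.left.Opens) (B : V.left.Opens), u ∈ A ∧ IsAffineOpen A ∧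
      IsAffineOpen B ∧ A ≤ h.left ⁻¹ᵁ B := fun u => by
    obtain ⟨B, hB, huB, -⟩ :=
      exists_isAffineOpen_mem_and_subset (X := V.left) (x := h.left u) (U := ⊤) trivial
    obtain ⟨A, hA, huA, hAB⟩ :=
      exists_isAffineOpen_mem_and_subset (X := U.left) (x := u) (U := h.left ⁻¹ᵁ B) huB
    exact ⟨A, B, huA, hA, hB, hAB⟩
  choose A B hu hA hB hAB using hcov
  refine Groth.Agent.S9833.result U.left A
    (eq_top_iff.2 fun u _ => TopologicalSpace.Opens.mem_iSup.2 ⟨u, hu u⟩) hA (fun u => ?_) K hK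
  let := (h.left.appLE (B u) (A u) (hAB u)).hom.toAlgebra
  have : Algebra.FiniteType Γ(V.left, B u) Γ(U.left, A u) :=
    h.left.finiteType_appLE (hB u) (hA u) (hAB u)
  exact Groth.Agent.S0566.result _ (hV (B u) (hB u)) _

end Groth.Agent.S9978
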