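import Groth.Statements.S9979
import Groth.Agent.AlgSp3.SchImage
import Groth.Agent.DescentBase.ClosureRange
import Mathlib.AlgebraicGeometry.ValuativeCriterion
import Groth.Agent.NeronArea.GenericDense

set_option autoImplicit false
set_option backward.isDefEq.respectTransparency.types false
universe u
open CategoryTheory CategoryTheory.Limits AlgebraicGeometry
open AlgSp

namespace Groth.Agent.S9979

open CategoryTheory CategoryTheory.Limits AlgebraicGeometry Groth.AlgSpBasic

/-- Every point of the scheme theoretic image of a quasi-compact morphism is reached by a valuation ring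
whose generic point lifts to the source. -/
theorem result {S : Scheme.{u}} {X Y Z : AlgSp.Space S} (f : X ⟶ Y) (i : Z ⟶ Y)
    (hq : AlgSp.IsQuasiCompactMor f.hom) (hZ : AlgSp.IsSchImage f.hom i.hom) (z : AlgSp.Points Z.obj) :
    ∃ (A : Type u) (_ : CommRing A) (_ : IsDomain A) (_ : ValuationRing A) (str : Spec (CommRingCat.of A) ⟶ S)
      (a : (AlgSp.yon S).obj (Over.mk str) ⟶ Z.obj)
      (x : (AlgSp.yon S).obj (Over.mk (Spec.map (CommRingCat.ofHom (algebraMap A (FractionRing A))) ≫ str)) ⟶ X.obj),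
      AlgSp.Points.ofPt a (IsLocalRing.closedPoint A) = z ∧
      x ≫ f.hom = (AlgSp.yon S).map (Over.homMk (Spec.map (CommRingCat.ofHom (algebraMap A (FractionRing A)))) rfl) ≫
        a ≫ i.hom := by
  obtain ⟨U₀, p₀, hp₀, hps₀⟩ := Y.property.atlas
  obtain ⟨U, c₀, ι, K, hp, hps, hK, hcov, hdisj⟩ :=
    Groth.AlgSp3.exists_atlas_affine_disjoint hp₀ hps₀
  obtain ⟨C, hC⟩ := Groth.AlgSp3.exists_pullbackChart_quasiCompact Y.property X.property hq
    ((AlgSp.yon S).map c₀ ≫ p₀) hK hcov hdisj
  obtain ⟨V, m, fst, sq⟩ := hZ.1.rep ((AlgSp.yon S).map c₀ ≫ p₀)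
  have hker := Groth.AlgSp3.ker_eq_of_isSchImage Y.property X.property hp hps C Z.property hZ sq
  have : IsClosedImmersion m.left := hZ.1.property _ fst m sq
  obtain ⟨v, rfl⟩ := surjective_ofPt_of_repWith (repWith_of_isPullback sq.flip hps) z
  have hv : m.left v ∈ closure (Set.range C.α.left) := by
    rw [← Scheme.Hom.support_ker, ← hker]
    exact m.left.range_subset_ker_support ⟨v, rfl⟩
  obtain ⟨w, hw⟩ := Groth.DescentBase.exists_specializes_of_mem_closure_range C.α.left hv
  let σ : U.left.presheaf.stalk (m.left v) ⟶ C.W.left.residueField w :=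
    U.left.presheaf.stalkSpecializes hw ≫ C.α.left.stalkMap w ≫ C.W.left.residue w
  obtain ⟨A, hA, hAloc⟩ := IsLocalRing.exists_factor_valuationRing σ.hom
  let τ : U.left.presheaf.stalk (m.left v) ⟶ CommRingCat.of A :=
    CommRingCat.ofHom (σ.hom.codRestrict _ hA)
  let b : Spec (CommRingCat.of A) ⟶ U.left := Spec.map τ ≫ U.left.fromSpecStalk (m.left v)
  let η := Spec.map (CommRingCat.ofHom (algebraMap A (C.W.left.residueField w)))
  have hηb : C.W.left.fromSpecResidueField w ≫ C.α.left = η ≫ b := by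
    rw [Scheme.fromSpecResidueField, Category.assoc, ← Scheme.SpecMap_stalkMap_fromSpecStalk,
      ← Scheme.SpecMap_stalkSpecializes_fromSpecStalk hw]
    simp only [η, b, ← Spec.map_comp_assoc]
    rfl
  let K' := FractionRing A
  let e : K' ≃ₐ[A] C.W.left.residueField w := IsLocalization.algEquiv (nonZeroDivisors A) _ _
  let η' := Spec.map (CommRingCat.ofHom (algebraMap A K'))
  let ε := Spec.map (CommRingCat.ofHom e.symm.toRingHom)
  have hε : ε ≫ η = η' := by
    rw [← Spec.map_comp]
    congr 1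
    ext x
    exact e.symm.commutes x
  have : IsSchemeTheoreticallyDominant η :=
    Groth.NeronArea.isSchemeTheoreticallyDominant_specMap (algebraMap A (C.W.left.residueField w))
      Subtype.coe_injective
  have hle : m.left.ker ≤ b.ker := by
    have h := Scheme.Hom.le_ker_comp (C.W.left.fromSpecResidueField w) C.α.left
    rw [hηb, Scheme.Hom.ker_comp, η.ker_eq_bot, Scheme.IdealSheafData.map_bot, ← hker] at h
    exact h
  let b' := IsClosedImmersion.lift m.left b hle
  have hb' : b' ≫ m.left = b := IsClosedImmersion.lift_fac _ _ _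
  let aO : Over.mk (b' ≫ V.hom) ⟶ V := Over.homMk b'
  let ηO : Over.mk (η' ≫ b' ≫ V.hom) ⟶ Over.mk (b' ≫ V.hom) := Over.homMk η'
  have hw' : (ε ≫ C.W.left.fromSpecResidueField w) ≫ C.α.left = η' ≫ b' ≫ m.left := by
    rw [Category.assoc, hηb, hb', ← Category.assoc, hε]
  let xO : Over.mk (η' ≫ b' ≫ V.hom) ⟶ C.W := Over.homMk (ε ≫ C.W.left.fromSpecResidueField w) (by
    show (ε ≫ C.W.left.fromSpecResidueField w) ≫ C.W.hom = η' ≫ b' ≫ V.hom
    rw [← Over.w C.α, ← Over.w m, ← Category.assoc, hw', Category.assoc, Category.assoc])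
  refine ⟨A, inferInstance, inferInstance, inferInstance, b' ≫ V.hom, (AlgSp.yon S).map aO ≫ fst,
    (AlgSp.yon S).map xO ≫ C.w ≫ C.fst, ?_, ?_⟩
  · have hcl : b (IsLocalRing.closedPoint A) = m.left v := by
      have hτ : Spec.map τ (IsLocalRing.closedPoint A) =
          IsLocalRing.closedPoint (U.left.presheaf.stalk (m.left v)) :=
        IsLocalRing.comap_closedPoint (S := A) (σ.hom.codRestrict A.toSubring hA)
      show U.left.fromSpecStalk (m.left v) (Spec.map τ (IsLocalRing.closedPoint A)) = _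
      rw [hτ, U.left.fromSpecStalk_closedPoint]
    rw [← hb', Scheme.Hom.comp_apply] at hcl
    rw [ofPt_comp_yon]
    exact congrArg (AlgSp.Points.ofPt fst) (m.left.isEmbedding.injective hcl)
  · have e₁ : xO ≫ C.α = ηO ≫ aO ≫ m := Over.OverMorphism.ext hw'
    show _ = (AlgSp.yon S).map ηO ≫ ((AlgSp.yon S).map aO ≫ fst) ≫ i.hom
    have e₂ := congrArg (fun φ => (AlgSp.yon S).map φ ≫ (AlgSp.yon S).map c₀ ≫ p₀) e₁
    simp only [Functor.map_comp, Category.assoc] at e₂
    refine (Category.assoc _ _ _).trans ?_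
    rw [C.fac_chart]
    refine e₂.trans ?_
    simp only [Category.assoc, sq.w]

end Groth.Agent.S9979
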