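import Groth.Statements.S9980
import Groth.Agent.AlgSp3.FTPointSpace

set_option autoImplicit false
set_option backward.isDefEq.respectTransparency.types false
universe u
open CategoryTheory CategoryTheory.Limits AlgebraicGeometry
open AlgSp

namespace Groth.Agent.S9980


/-- Characterizations of finite type points via one-point algebraic spaces locally of finite type over X
and via monomorphisms from quotients of spectra of fields. -/
theorem result {S : Scheme.{u}} (X : AlgSp.Space S) (x : AlgSp.Points X.obj) :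
    ((∃ (k : Type u) (_ : Field k) (str : Spec (CommRingCat.of k) ⟶ S) (ξ : (AlgSp.yon S).obj (Over.mk str) ⟶ X.obj),
        AlgSp.LocP @LocallyOfFiniteType ξ ∧ AlgSp.Points.ofPt ξ (IsLocalRing.closedPoint k) = x) ↔
      ∃ (Z : AlgSp.Space S) (f : Z ⟶ X), Nonempty (Unique (AlgSp.Points Z.obj)) ∧
        AlgSp.LocP @LocallyOfFiniteType f.hom ∧ Set.range (AlgSp.Points.map f.hom) = {x}) ∧
    ((∃ (k : Type u) (_ : Field k) (str : Spec (CommRingCat.of k) ⟶ S) (ξ : (AlgSp.yon S).obj (Over.mk str) ⟶ X.obj),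
        AlgSp.LocP @LocallyOfFiniteType ξ ∧ AlgSp.Points.ofPt ξ (IsLocalRing.closedPoint k) = x) ↔
      ∃ (Z : AlgSp.Space S) (f : Z ⟶ X) (k : Type u) (_ : Field k) (str : Spec (CommRingCat.of k) ⟶ S)
        (z : (AlgSp.yon S).obj (Over.mk str) ⟶ Z.obj), AlgSp.RepWith @Etale z ∧ AlgSp.RepWith @Surjective z ∧
        AlgSp.LocP @LocallyOfFiniteType f.hom ∧ Mono f.hom ∧
        AlgSp.Points.ofPt (z ≫ f.hom) (IsLocalRing.closedPoint k) = x) := by
  refine ⟨⟨fun hx => ?_, fun ⟨Z, f, ⟨hu⟩, hf, hr⟩ => ?_⟩, ⟨fun hx => ?_, fun h => ?_⟩⟩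
  · obtain ⟨Z, f, k, _, str, z, hZ, he, hs, hf, -, hz⟩ :=
      Groth.AlgSp3.exists_ftSubspace X.property hx
    obtain ⟨⟨y⟩, hsub⟩ := Groth.AlgSpBasic.points_of_hasFlatPoint
      (Groth.AlgSp3.hasFlatPoint_of_etale he hs)
    exact ⟨⟨Z, hZ⟩, ObjectProperty.homMk f, ⟨{ default := y, uniq := fun w => Subsingleton.elim w y }⟩,
      hf, Groth.AlgSp3.range_map_eq f he hs hz⟩
  · exact Groth.AlgSp3.isFTPt_of_onePoint Z.property X.property ⟨hu.default⟩ hf hr
  · obtain ⟨Z, f, k, hk, str, z, hZ, he, hs, hf, hm, hz⟩ :=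
      Groth.AlgSp3.exists_ftSubspace X.property hx
    exact ⟨⟨Z, hZ⟩, ObjectProperty.homMk f, k, hk, str, z, he, hs, hf, hm, hz⟩
  · obtain ⟨Z, f, k, _, str, z, he, hs, hf, -, hz⟩ := h
    exact Groth.AlgSp3.isFTPt_of_onePoint Z.property X.property
      (Groth.AlgSpBasic.points_of_hasFlatPoint (Groth.AlgSp3.hasFlatPoint_of_etale he hs)).1 hf
      (Groth.AlgSp3.range_map_eq f.hom he hs hz)

end Groth.Agent.S9980
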