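import Groth.Statements.S9982
import Groth.Agent.AlgSpBasic.EtaleLocalSets
import Groth.Agent.AlgSpBasic.QComp
import Groth.Agent.AlgSpBasic.Compact
import Groth.Agent.AlgSpBasic.UnivTest

set_option autoImplicit false
set_option backward.isDefEq.respectTransparency.types false
universe u
open CategoryTheory CategoryTheory.Limits AlgebraicGeometry
open AlgSp

namespace Groth.Agent.S9982

open Groth.AlgSpBasic Topology Set.Notation

/-- A quasi-compact morphism locally of finite presentation between algebraic spaces maps etale locally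
constructible sets to etale locally constructible sets. -/
theorem result {S : Scheme.{u}} {X Y : AlgSp.Space S} (f : X ⟶ Y)
    (hq : AlgSp.IsQuasiCompactMor f.hom) (hfp : AlgSp.LocP @LocallyOfFinitePresentation f.hom)
    (E : Set (AlgSp.Points X.obj))
    (hE : (∀ (U : Over S) (φ : (AlgSp.yon S).obj U ⟶ X.obj), AlgSp.RepWith @Etale φ →
        Topology.IsLocallyConstructible (AlgSp.Points.ofPt φ ⁻¹' E))) :
    (∀ (U : Over S) (φ : (AlgSp.yon S).obj U ⟶ Y.obj), AlgSp.RepWith @Etale φ →
        Topology.IsLocallyConstructible (AlgSp.Points.ofPt φ ⁻¹' (AlgSp.Points.map f.hom '' E))) := by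
  obtain ⟨V, b, hb, hbs⟩ := Y.property.atlas
  intro U φ hφ
  refine isLocallyConstructible_chart Y.property _ b hb hbs ?_ φ hφ
  -- constructibility is local on the chart
  have key : ∀ v : ↥V.left, ∃ K : V.left.Opens, v ∈ K ∧ Topology.IsLocallyConstructible
      ((K : Set ↥V.left) ↓∩ (AlgSp.Points.ofPt b ⁻¹' (AlgSp.Points.map f.hom '' E))) := by
    intro v
    obtain ⟨K, hK, hvK, -⟩ :=
      exists_isAffineOpen_mem_and_subset (X := V.left) (x := v) (U := ⊤) trivial
    refine ⟨K, hvK, ?_⟩
    let i : Over.mk (K.ι ≫ V.hom) ⟶ V := Over.homMk K.ι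
    have hbi : RepWith @Etale ((AlgSp.yon S).map i ≫ b) :=
      repWith_comp ((repWith_yon_map_iff _ i).2 (show Etale K.ι from inferInstance)) hb
    have : IsAffine (Over.mk (K.ι ≫ V.hom)).left := hK
    obtain ⟨P, fst, snd, sq⟩ : ∃ (P : AlgSp.Sp S) (fst : P ⟶ X.obj) (snd : _),
        IsPullback fst snd f.hom ((AlgSp.yon S).map i ≫ b) :=
      ⟨_, _, _, IsPullback.of_hasPullback f.hom _⟩
    have hP : IsAlgSpace P :=
      isAlgSpace_of_isPullback sq Y.property.diag X.property (IsAlgSpace.yon_obj _)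
    obtain ⟨W, q, hW, hqe, hqs⟩ := exists_affine_chart hP (hq (IsAlgSpace.yon_obj _)
      ((isQuasiCompactSp_yon_iff _).2 inferInstance) _ fst snd sq)
    obtain ⟨h, hh⟩ := (AlgSp.yon S).map_surjective (q ≫ snd)
    have ha : RepWith @Etale (q ≫ fst) := repWith_comp hqe (repWith_of_isPullback sq.flip hbi)
    have comm : (q ≫ fst) ≫ f.hom = (AlgSp.yon S).map h ≫ (AlgSp.yon S).map i ≫ b := by
      rw [Category.assoc, sq.w, ← Category.assoc, hh]
    have : LocallyOfFinitePresentation h.left := hfp _ _ h ha hbi comm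
    have : QuasiCompact h.left :=
      (HasAffineProperty.iff_of_isAffine (P := @QuasiCompact)).2 inferInstance
    have him := h.left.isLocallyConstructible_image (hE W _ ha)
    suffices e : h.left '' (AlgSp.Points.ofPt (q ≫ fst) ⁻¹' E) =
        i.left ⁻¹' (AlgSp.Points.ofPt b ⁻¹' (AlgSp.Points.map f.hom '' E)) by
      rw [e] at him
      exact him
    ext c
    simp only [Set.mem_preimage]
    symm
    constructor
    · rintro ⟨x, hxE, hx⟩
      obtain ⟨z, hz₁, hz₂⟩ := AlgSpBasic.exists_point_of_isPullback sq x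
        (AlgSp.Points.ofScheme _ c) (by
          rw [hx, AlgSp.Points.map_ofPt, Category.id_comp, ofPt_comp_yon])
      obtain ⟨w, rfl⟩ := surjective_ofPt_of_repWith hqs z
      rw [AlgSp.Points.map_ofPt] at hz₁ hz₂
      refine ⟨w, by rw [Set.mem_preimage, hz₁]; exact hxE, ?_⟩
      rw [← hh] at hz₂
      have := congrArg (AlgSp.Points.toScheme _) hz₂
      rwa [AlgSp.Points.toScheme_ofPt, AlgSp.Points.toScheme_ofScheme] at this
    · rintro ⟨w, hw, hwc⟩
      refine ⟨_, hw, ?_⟩
      rw [AlgSp.Points.map_ofPt, comm, ofPt_comp_yon, ofPt_comp_yon]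
      exact congrArg (fun z => AlgSp.Points.ofPt b (i.left z)) hwc
  choose K hK hK' using key
  exact Topology.IsLocallyConstructible.of_isOpenCover (TopologicalSpace.IsOpenCover.mk
    (top_le_iff.mp fun v _ => TopologicalSpace.Opens.mem_iSup.mpr ⟨v, hK v⟩)) hK' 

end Groth.Agent.S9982
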