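import Groth.Statements.S9985
import Groth.Agent.AlgSpBasic.LocPInst

set_option autoImplicit false
universe u
open CategoryTheory CategoryTheory.Limits AlgebraicGeometry
open AlgSp Groth.AlgSpBasic

namespace Groth.Agent.S9985

/-- Locally parts: for the listed classes P, having P etale locally on the source-and-target is stable
under composition of morphisms of algebraic spaces. -/
theorem result {S : Scheme.{u}} (P : MorphismProperty Scheme.{u})
    (hP : P = @LocallyOfFiniteType ∨ P = @LocallyOfFinitePresentation ∨ P = @Flat ∨ P = @Smooth ∨ P = @Etale ∨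
      (∀ ⦃A B : Scheme.{u}⦄ (g : A ⟶ B), P g ↔ (LocallyQuasiFinite g ∧ LocallyOfFiniteType g)) ∨
      (∀ ⦃A B : Scheme.{u}⦄ (g : A ⟶ B), P g ↔ (LocallyOfFiniteType g ∧ FormallyUnramified g)))
    {X Y Z : AlgSp.Space S} (f : X ⟶ Y) (g : Y ⟶ Z) (hf : AlgSp.LocP P f.hom) (hg : AlgSp.LocP P g.hom) :
    AlgSp.LocP P (f ≫ g).hom := by
  have := etaleLocal_of_std P hP
  exact locP_comp X.property Y.property Z.property hf hg

end Groth.Agent.S9985
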