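import Groth.Statements.S9986
import Groth.Agent.AlgSp3.Density
import Mathlib.CategoryTheory.Sites.LocallyInjective
import Groth.Agent.AlgSp3.DenseSections

set_option autoImplicit false
set_option backward.isDefEq.respectTransparency.types false
universe u
open CategoryTheory CategoryTheory.Limits AlgebraicGeometry
open AlgSp

namespace Groth.Agent.S9986

open CategoryTheory CategoryTheory.Limits AlgebraicGeometry Opposite Groth.AlgSpBasic

/-- For an open immersion j : U -> X of algebraic spaces, U is scheme theoretically dense in X exactly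
when the comparison map from O_X to j_* O_U on the small etale site of X is a monomorphism of
sheaves of rings. -/
theorem result {S : Scheme.{u}} {U X : AlgSp.Space S} (j : U ⟶ X)
    (hj : AlgSp.RepWith @IsOpenImmersion j.hom) :
    AlgSp.IsSchDense j.hom ↔ Mono (AlgSp.bcRingHom hj.1) := by
  constructor
  · intro h
    refine Sheaf.mono_of_injective _ fun E => ?_
    have hd := Groth.AlgSp3.isSchematicallyDense_preimageOpens X.property h E.unop.property
    have hP := AlgSp.EtOver.isPullback_bcObj hj.1 E.unop
    obtain ⟨fst, sq⟩ := Groth.AlgSp3.exists_isPullback_preimageOpens hj E.unop.obj.hom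
    obtain ⟨e, he⟩ := (AlgSp.yon S).map_surjective (sq.isoIsPullback _ _ hP).hom
    have he' : e ≫ AlgSp.EtOver.bcπ hj.1 E.unop =
        Over.homMk (Groth.AlgSp3.preimageOpens hj E.unop.obj.hom).ι := (AlgSp.yon S).map_injective (by
      rw [Functor.map_comp, he, IsPullback.isoIsPullback_hom_snd])
    rintro ⟨a⟩ ⟨b⟩ hab
    have hab' := congrArg (fun z => e.left.appTop z.down) hab
    change e.left.appTop ((AlgSp.EtOver.bcπ hj.1 E.unop).left.appTop a) =
      e.left.appTop ((AlgSp.EtOver.bcπ hj.1 E.unop).left.appTop b) at hab'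
    simp only [← CommRingCat.comp_apply, ← Scheme.Hom.comp_appTop, ← Over.comp_left, he'] at hab'
    exact congrArg ULift.up (hd ⊤ (Groth.AlgSp3.res_eq_of_ι_appTop_eq _ hab'))
  · intro h
    obtain ⟨U₀, p, hp, hps⟩ := X.property.atlas
    refine Groth.AlgSp3.isSchDense_of_chart hj hp hps fun V a b hab => ?_
    let k : Over.mk (V.ι ≫ U₀.hom) ⟶ U₀ := Over.homMk V.ι
    let E : AlgSp.EtOver X.obj := AlgSp.EtOver.mk ((AlgSp.yon S).map k ≫ p) (MorphismProperty.comp_mem _ _ _
      ((AlgSp.repWith_yon_map_iff _ _).2 (show Etale V.ι from inferInstance)) hp)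
    have hinj : Function.Injective ((AlgSp.bcRingHom hj.1).hom.app (op E)) := by
      have hm : Mono (AlgSp.bcRingHom hj.1).hom :=
        inferInstanceAs (Mono ((sheafToPresheaf _ _).map (AlgSp.bcRingHom hj.1)))
      exact (ConcreteCategory.mono_iff_injective_of_preservesPullback _).1
        ((NatTrans.mono_iff_mono_app _).1 hm (op E))
    let W := Groth.AlgSp3.preimageOpens hj p
    have hpre : Groth.AlgSp3.preimageOpens hj E.obj.hom = V.ι ⁻¹ᵁ W :=
      Groth.AlgSp3.preimageOpens_comp hj p k
    have hP := AlgSp.EtOver.isPullback_bcObj hj.1 E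
    have hr : ∀ y, (AlgSp.EtOver.bcπ hj.1 E).left y ∈ V.ι ⁻¹ᵁ W := fun y => by
      rw [← hpre]
      exact (range_left_eq_preimage hP).le ⟨y, rfl⟩
    apply V.topIso.symm.commRingCatIsoToRingEquiv.injective
    apply ULift.up_injective
    apply hinj
    exact congrArg ULift.up (Groth.AlgSp3.appTop_topIso_inv_eq (W := W) _ hr hab)

end Groth.Agent.S9986
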