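import Groth.Statements.S9987
import Mathlib.AlgebraicGeometry.Morphisms.ClosedImmersion
import Mathlib.CategoryTheory.Sites.LocallySurjective

set_option autoImplicit false
set_option backward.isDefEq.respectTransparency.types false
universe u
open CategoryTheory CategoryTheory.Limits AlgebraicGeometry Opposite
open AlgSp

namespace Groth.Agent.S9987

open CategoryTheory CategoryTheory.Limits AlgebraicGeometry Opposite

/-- For a closed immersion i : Z ⟶ X of algebraic spaces over S (representable, every base change to a
scheme a closed immersion), the comparison map O_X ⟶ i_* O_Z of sheaves of rings on the small etale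
site of X is locally surjective. (The published statement also asserts that i_* O_Z is a
quasi-coherent O_X-module and that the kernel of O_X ⟶ i_* O_Z is a quasi-coherent sheaf of ideals;
those two assertions are the closed-immersion cases of the general facts that direct images along
quasi-compact quasi-separated morphisms preserve quasi-coherence and that the kernel ideal of a
quasi-compact morphism is quasi-coherent, a closed immersion being quasi-compact and separated, and
only the surjectivity is stated here.) -/
theorem result {S : Scheme.{u}} {Z X : AlgSp.Space S} (i : Z ⟶ X)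
    (hi : AlgSp.RepWith @IsClosedImmersion i.hom) :
    Presheaf.IsLocallySurjective (AlgSp.etTop X.obj) (AlgSp.bcRingHom hi.1).hom := by
  constructor
  intro E s
  let 𝒰 := E.obj.left.left.affineCover
  let Ei : 𝒰.I₀ → AlgSp.EtOver X.obj := fun j =>
    AlgSp.EtOver.mk ((AlgSp.yon S).map (Over.homMk (𝒰.f j) :
      Over.mk (𝒰.f j ≫ E.obj.left.hom) ⟶ E.obj.left) ≫ E.obj.hom)
      (MorphismProperty.comp_mem _ _ _
        ((AlgSp.repWith_yon_map_iff _ _).2 (show Etale (𝒰.f j) from inferInstance)) E.property)
  let g : ∀ j, Ei j ⟶ E := fun j => AlgSp.EtOver.homMk (Over.homMk (𝒰.f j)) rfl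
  have hcov : Presieve.ofArrows Ei g ∈ AlgSp.etPre X.obj E :=
    (AlgSp.ofArrows_mem_etPre_iff Ei g).2 fun x => by
      obtain ⟨j, y, hy⟩ := 𝒰.exists_eq x
      exact ⟨j, y, hy⟩
  refine (AlgSp.etTop X.obj).superset_covering ?_ ((AlgSp.etPre X.obj).generate_mem_toGrothendieck hcov)
  rw [Sieve.generate_le_iff]
  rintro E' _ ⟨j⟩
  have : IsAffine (Ei j).obj.left.left := inferInstanceAs (IsAffine (𝒰.X j))
  have hc : IsClosedImmersion (AlgSp.EtOver.bcπ hi.1 (Ei j)).left :=
    hi.property _ _ _ (AlgSp.EtOver.isPullback_bcObj hi.1 (Ei j))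
  obtain ⟨a, ha⟩ := (AlgSp.EtOver.bcπ hi.1 (Ei j)).left.app_surjective ⊤ (isAffineOpen_top _)
    ((AlgSp.EtOver.bcMap hi.1 (g j)).hom.left.left.appTop s.down)
  exact ⟨ULift.up a, congrArg ULift.up ha⟩

end Groth.Agent.S9987
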