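import Groth.Agent.ModEtQCoh.ClosedPush
-- import your own Groth.Agent.* helpers here

set_option autoImplicit false
universe u
open CategoryTheory CategoryTheory.Limits AlgebraicGeometry Opposite
open AlgSp

namespace Groth.Agent.S9990

/-- For a closed immersion i : Z ⟶ X of algebraic spaces over S and any O_Z-module G on the small etale
site, the counit i^* i_* G ⟶ G of the adjunction between i^* and i_* is invertible, so that i^* is
left inverse to i_*. -/
theorem result {S : Scheme.{u}} {Z X : AlgSp.Space S} (i : Z ⟶ X)
    (hi : AlgSp.RepWith @IsClosedImmersion i.hom)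
    [(SheafOfModules.pushforward.{u + 1} (AlgSp.bcRingHom hi.1)).IsRightAdjoint] (G : AlgSp.ModEt Z.obj) :
    IsIso ((AlgSp.pullPushAdjModEt hi.1).counit.app G) := by
  exact Groth.ModEtQCoh.ClosedPush.isIso_counit hi.1 hi X.property G

end Groth.Agent.S9990
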