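import Groth.Statements.S9995
import Groth.Agent.AlgSp3.NbhdInv
import Groth.Agent.AlgSpBasic.QComp
import Groth.Agent.AlgSpBasic.Compact
import Groth.Agent.AlgSpBasic.UnivTest

set_option autoImplicit false
set_option backward.isDefEq.respectTransparency.types false
universe u
open CategoryTheory CategoryTheory.Limits AlgebraicGeometry
open AlgSp

namespace Groth.Agent.S9995

open Groth.AlgSpBasic Groth.AlgSp3

/-- For a morphism f : X ⟶ Y of algebraic spaces of finite type and a point y of |Y|, the set of points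
of |X| over y where f is quasi-finite is finite (in the neighbourhood sense, through some chart
diagram). -/
theorem result {S : Scheme.{u}} {X Y : AlgSp.Space S} (f : X ⟶ Y)
    (hf : AlgSp.IsFiniteTypeMor f.hom) (y : AlgSp.Points Y.obj) :
    {x : AlgSp.Points X.obj | AlgSp.Points.map f.hom x = y ∧
      AlgSp.HasAtMor (fun U _ h u => ∃ W : U.Opens, u ∈ W ∧ LocallyQuasiFinite (W.ι ≫ h) ∧
        LocallyOfFiniteType (W.ι ≫ h)) f.hom x}.Finite := by
  obtain ⟨V₀, b₀, hb₀, hb₀s⟩ := Y.property.atlas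
  obtain ⟨v₀, hv₀⟩ := surjective_ofPt_of_repWith hb₀s y
  obtain ⟨K, hK, hvK, -⟩ :=
    exists_isAffineOpen_mem_and_subset (X := V₀.left) (x := v₀) (U := ⊤) trivial
  let i : Over.mk (K.ι ≫ V₀.hom) ⟶ V₀ := Over.homMk K.ι
  have hb : RepWith @Etale ((AlgSp.yon S).map i ≫ b₀) :=
    repWith_comp ((repWith_yon_map_iff _ i).2 (show Etale K.ι from inferInstance)) hb₀
  have : IsAffine (Over.mk (K.ι ≫ V₀.hom)).left := hK
  set b := (AlgSp.yon S).map i ≫ b₀
  let v : ↥(Over.mk (K.ι ≫ V₀.hom)).left := ⟨v₀, hvK⟩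
  have hv : AlgSp.Points.ofPt b v = y := by rw [ofPt_comp_yon]; exact hv₀
  obtain ⟨P, fst, snd, sq⟩ : ∃ (P : AlgSp.Sp S) (fst : P ⟶ X.obj) (snd : _), IsPullback fst snd f.hom b :=
    ⟨_, _, _, IsPullback.of_hasPullback f.hom b⟩
  have hP : IsAlgSpace P :=
    isAlgSpace_of_isPullback sq Y.property.diag X.property (IsAlgSpace.yon_obj _)
  have hPqc : IsQuasiCompactSp P := hf.2 (IsAlgSpace.yon_obj _)
    ((isQuasiCompactSp_yon_iff _).2 inferInstance) b fst snd sq
  obtain ⟨W, q, hW, hqe, hqs⟩ := exists_affine_chart hP hPqc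
  obtain ⟨h, hh⟩ := (AlgSp.yon S).map_surjective (q ≫ snd)
  have ha : RepWith @Etale (q ≫ fst) := repWith_comp hqe (repWith_of_isPullback sq.flip hb)
  have comm : (q ≫ fst) ≫ f.hom = (AlgSp.yon S).map h ≫ b := by
    rw [Category.assoc, sq.w, ← Category.assoc, hh]
  have : LocallyOfFiniteType h.left := hf.1 _ b h ha hb comm
  have : QuasiCompact h.left :=
    (HasAffineProperty.iff_of_isAffine (P := @QuasiCompact)).2 inferInstance
  refine Set.Finite.subset ((finite_quasiFinite_fibre h.left v).image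
    (AlgSp.Points.ofPt (q ≫ fst))) ?_
  rintro x ⟨hxy, hx⟩
  rw [hasAtMor_lqf_iff X.property Y.property hf.1] at hx
  obtain ⟨z, hz₁, hz₂⟩ := AlgSpBasic.exists_point_of_isPullback sq x (AlgSp.Points.ofScheme _ v) (by
    rw [hxy, AlgSp.Points.map_ofPt, Category.id_comp, hv])
  obtain ⟨w, rfl⟩ := surjective_ofPt_of_repWith hqs z
  rw [AlgSp.Points.map_ofPt] at hz₁ hz₂
  refine ⟨w, ⟨?_, ?_⟩, hz₁⟩
  · rw [← hh] at hz₂
    have := congrArg (AlgSp.Points.toScheme _) hz₂
    rwa [AlgSp.Points.toScheme_ofPt, AlgSp.Points.toScheme_ofScheme] at this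
  · rw [← hz₁] at hx
    exact (hasAtMor_iff_of_chart etMor_fibreDimAt (fun d => d = (0 : WithBot ℕ∞)) X.property.diag
      Y.property.diag ha hb comm w).mp hx

end Groth.Agent.S9995
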