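import Groth.Statements.S9996
import Groth.Agent.AlgSp3.UnionSub

set_option autoImplicit false
universe u
open CategoryTheory CategoryTheory.Limits AlgebraicGeometry Opposite
open AlgSp

namespace Groth.Agent.S9996

/-- For closed subspaces Y, Z of an algebraic space X with scheme theoretic union W (cut out by the
intersection of the two ideal sheaves) and scheme theoretic intersection V (cut out by their sum),
the inclusions Y ⟶ W and Z ⟶ W are closed immersions and the square V ⟶ Y, V ⟶ Z, Y ⟶ W, Z ⟶ W is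
cocartesian among algebraic spaces over S (W = Y ⨿_V Z). (The published statement also gives the
short exact sequence 0 → O_W → O_Y × O_Z → O_V → 0; that clause is not stated here.) -/
theorem result {S : Scheme.{u}} {X Y Z W V : AlgSp.Space S} (iY : Y ⟶ X) (iZ : Z ⟶ X)
    (w : W ⟶ X) (v : V ⟶ X) (I J K : AlgSp.IdealEt X.obj) (hI : I.IsQCoh) (hJ : J.IsQCoh)
    (hK : ∀ (E : AlgSp.EtOver X.obj) (hE : IsAffine E.obj.left.left), K.ideal E hE = I.ideal E hE ⊓ J.ideal E hE)
    (hY : AlgSp.IsCutOutBy I iY.hom) (hZ : AlgSp.IsCutOutBy J iZ.hom) (hW : AlgSp.IsCutOutBy K w.hom)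
    (hV : AlgSp.IsCutOutBy (I ⊔ J) v.hom) (a : Y ⟶ W) (b : Z ⟶ W) (c : V ⟶ Y) (d : V ⟶ Z)
    (ha : a ≫ w = iY) (hb : b ≫ w = iZ) (hc : c ≫ iY = v) (hd : d ≫ iZ = v) :
    AlgSp.RepWith @IsClosedImmersion a.hom ∧ AlgSp.RepWith @IsClosedImmersion b.hom ∧ IsPushout c d a b := by
  have hmw : Mono w.hom := Groth.AlgSpBasic.mono_of_repWith (fun _ _ g (_ : IsClosedImmersion g) => inferInstance) hW.1
  have ha' : a.hom ≫ w.hom = iY.hom := congrArg InducedCategory.Hom.hom ha
  have hb' : b.hom ≫ w.hom = iZ.hom := congrArg InducedCategory.Hom.hom hb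
  have hc' : c.hom ≫ iY.hom = v.hom := congrArg InducedCategory.Hom.hom hc
  have hd' : d.hom ≫ iZ.hom = v.hom := congrArg InducedCategory.Hom.hom hd
  refine ⟨Groth.AlgSp3.repWith_closed_inclusion ha' hY hW,
    Groth.AlgSp3.repWith_closed_inclusion hb' hZ hW, ?_⟩
  have key := fun (T : AlgSp.Space S) (f : Y ⟶ T) (g : Z ⟶ T) (h : c ≫ f = d ≫ g) =>
    Groth.AlgSp3.existsUnique_desc_union hY hZ hW hV hK ha' hb' hc' hd' X.property T f.hom g.hom
      (congrArg InducedCategory.Hom.hom h)
  refine IsPushout.of_isColimit' ⟨?_⟩ (PushoutCocone.IsColimit.mk _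
    (fun s => ObjectProperty.homMk (key s.pt s.inl s.inr s.condition).choose) (fun s => ?_)
    (fun s => ?_) (fun s m h₁ h₂ => ?_))
  · ext1
    rw [← cancel_mono w.hom]
    simp [ha', hb', hc', hd']
  · ext1; exact (key s.pt s.inl s.inr s.condition).choose_spec.1.1
  · ext1; exact (key s.pt s.inl s.inr s.condition).choose_spec.1.2
  · ext1
    exact (key s.pt s.inl s.inr s.condition).choose_spec.2 m.hom
      ⟨congrArg InducedCategory.Hom.hom h₁, congrArg InducedCategory.Hom.hom h₂⟩

end Groth.Agent.S9996
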