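import Groth.Statements.S9997
import Groth.Agent.AlgSpBasic.LocPInst

set_option autoImplicit false
universe u
open CategoryTheory CategoryTheory.Limits AlgebraicGeometry Opposite
open AlgSp Groth.AlgSpBasic

namespace Groth.Agent.S9997

/-- A closed immersion i : Z ⟶ X of algebraic spaces is (locally) of finite presentation if and only if
its sheaf of ideals is of finite type; finite type is rendered chart by chart, as finite generation
of the kernel ideal Ker(Γ(U, O_U) → Γ(Z ×_X U, O)) for every affine etale chart U of X (for a
quasi-coherent sheaf of ideals the two readings agree by descent of finite generation along etale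
coverings). -/
theorem result {S : Scheme.{u}} {Z X : AlgSp.Space S} (i : Z ⟶ X)
    (hi : AlgSp.RepWith @IsClosedImmersion i.hom) :
    AlgSp.LocP @LocallyOfFinitePresentation i.hom ↔
      ∀ (E : AlgSp.EtOver X.obj) (hE : IsAffine E.obj.left.left), ((AlgSp.idealOfRep hi.1).ideal E hE).FG := by
  have hclosed : ∀ {T V : Over S} (g : (yon S).obj T ⟶ X.obj) (fst : (yon S).obj V ⟶ Z.obj) (snd : V ⟶ T),
      IsPullback fst ((yon S).map snd) i.hom g → IsClosedImmersion snd.left :=
    fun g fst snd sq => hi.property g fst snd sq
  constructor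
  · intro h E hE
    have hh := repWith_of_locP X.property hi.rep h
    have hP := EtOver.isPullback_bcObj hi.1 E
    have h₁ : IsClosedImmersion (EtOver.bcπ hi.1 E).left := hclosed _ _ _ hP
    have h₂ : LocallyOfFinitePresentation (EtOver.bcπ hi.1 E).left := hh.property _ _ _ hP
    obtain ⟨hA, hs⟩ := IsClosedImmersion.isAffine_surjective_of_isAffine (f := (EtOver.bcπ hi.1 E).left)
    have hf := (HasRingHomProperty.iff_of_isAffine (P := @LocallyOfFinitePresentation)).1 h₂
    let := (EtOver.bcπ hi.1 E).left.appTop.hom.toAlgebra
    have : Algebra.FinitePresentation Γ(E.obj.left.left, ⊤) Γ((EtOver.bcObj hi.1 E).obj.left.left, ⊤) := hf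
    exact Algebra.FinitePresentation.ker_fG_of_surjective (Algebra.ofId Γ(E.obj.left.left, ⊤)
      Γ((EtOver.bcObj hi.1 E).obj.left.left, ⊤)) hs
  · intro h
    obtain ⟨U, p, hp, hps⟩ := X.property.atlas
    obtain ⟨V, snd, fst, sq⟩ := hi.rep p
    have : IsClosedImmersion snd.left := hclosed _ _ _ sq
    refine locP_of_chart (P := @LocallyOfFinitePresentation) Z.property.diag X.property.diag
      (repWith_of_isPullback sq.flip hp) (repWith_of_isPullback sq.flip hps) hp sq.w ?_
    rw [IsZariskiLocalAtTarget.iff_of_openCover (P := @LocallyOfFinitePresentation) U.left.affineCover]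
    intro j
    let K : Over S := Over.mk (U.left.affineCover.f j ≫ U.hom)
    let k : K ⟶ U := Over.homMk (U.left.affineCover.f j)
    have hk : RepWith @Etale ((yon S).map k) := (repWith_yon_map_iff _ k).2
      (inferInstance : Etale (U.left.affineCover.f j))
    let E : EtOver X.obj := EtOver.mk ((yon S).map k ≫ p) (repWith_comp hk hp)
    have hE : IsAffine E.obj.left.left := inferInstanceAs (IsAffine (U.left.affineCover.X j))
    have hP := EtOver.isPullback_bcObj hi.1 E
    have h₁ : IsClosedImmersion (EtOver.bcπ hi.1 E).left := hclosed _ _ _ hP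
    have h₂ : LocallyOfFinitePresentation (EtOver.bcπ hi.1 E).left := by
      obtain ⟨hA, hs⟩ := IsClosedImmersion.isAffine_surjective_of_isAffine (f := (EtOver.bcπ hi.1 E).left)
      rw [HasRingHomProperty.iff_of_isAffine (P := @LocallyOfFinitePresentation)]
      exact RingHom.FinitePresentation.of_surjective _ hs (h E hE)
    obtain ⟨l, hl⟩ := (yon S).map_surjective (sq.lift (EtOver.bcObj hi.1 E).obj.hom
      ((yon S).map (EtOver.bcπ hi.1 E) ≫ (yon S).map k) (hP.w.trans (Category.assoc _ _ _).symm))
    have hq : IsPullback ((yon S).map l) ((yon S).map (EtOver.bcπ hi.1 E)) ((yon S).map snd)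
        ((yon S).map k) :=
      IsPullback.of_right (by rw [hl, sq.lift_fst]; exact hP) (by rw [hl, sq.lift_snd]) sq
    have hq' := isPullback_left (isPullback_of_yon hq)
    change LocallyOfFinitePresentation (pullback.snd snd.left k.left)
    rwa [← hq'.isoPullback_hom_snd,
      MorphismProperty.cancel_left_of_respectsIso @LocallyOfFinitePresentation] at h₂

end Groth.Agent.S9997
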