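import Groth.Statements.S9998
import Groth.Agent.AlgSpEt.ClosedBC

set_option autoImplicit false
universe u
open CategoryTheory CategoryTheory.Limits AlgebraicGeometry Opposite
open AlgSp

set_option backward.isDefEq.respectTransparency false

namespace Groth.Agent.S9998

/-- For a closed immersion i : Z ⟶ X of algebraic spaces over S, a geometric point z of Z and a sheaf of
sets F on the small etale site of Z, the stalk of i_* F at the image point of z is the stalk of F at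
z: the map sending the germ at an etale neighbourhood (U, u) of the image point of a section s ∈
(i_* F)(U) = F(U ×_X Z) to the germ of s at the neighbourhood (U ×_X Z, lift of u) of z is a well
defined bijection. (The published statement writes the two stalks with their subscripts
interchanged; the stalk of i_* F is taken at the point of X and that of F at the point of Z, the
only meaningful reading.) -/
theorem result {S : Scheme.{u}} {Z X : AlgSp.Space S} (i : Z ⟶ X)
    (hi : AlgSp.RepWith @IsClosedImmersion i.hom) (z : AlgSp.FieldPt Z.obj) (hz : z.IsGeometric)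
    (F : AlgSp.EtSh Z.obj (Type (u + 1))) :
    ∃ φ : AlgSp.stalkEt (z.map i.hom) ((AlgSp.pushEt hi.1 (Type (u + 1))).obj F) ≃ AlgSp.stalkEt z F,
      ∀ (N : AlgSp.EtNbhd (z.map i.hom)) (s : F.obj.obj (op ((AlgSp.EtOver.bc hi.1).obj N.1))),
        φ (AlgSp.stalkEtι (z.map i.hom) ((AlgSp.pushEt hi.1 (Type (u + 1))).obj F) N s) =
          AlgSp.stalkEtι z F ⟨(AlgSp.EtOver.bc hi.1).obj N.1,
            ⟨hi.1.lift z.toHom N.2.1 ((N.2.2.trans (AlgSp.FieldPt.toHom_map i.hom z)).symm),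
              hi.1.lift_fst _ _ _⟩⟩ s := by
  have : IsAlgClosed z.K := hz
  let F' := (AlgSp.pushEt hi.1 (Type (u + 1))).obj F
  let ℓ : ∀ N : AlgSp.EtNbhd (z.map i.hom), (AlgSp.FieldPt.liftsTo z).obj ((AlgSp.EtOver.bc hi.1).obj N.1) :=
    fun N => ⟨hi.1.lift z.toHom N.2.1 ((N.2.2.trans (AlgSp.FieldPt.toHom_map i.hom z)).symm),
      hi.1.lift_fst _ _ _⟩
  let Ψ : AlgSp.EtNbhd (z.map i.hom) ⥤ AlgSp.EtNbhd z :=
    { obj := fun N => ⟨(AlgSp.EtOver.bc hi.1).obj N.1, ℓ N⟩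
      map := fun {N N'} g => CategoryOfElements.homMk _ _ ((AlgSp.EtOver.bc hi.1).map g.1) (Subtype.ext (by
        refine hi.1.hom_ext ?_ ?_
        · exact ((AlgSp.FieldPt.liftsTo z).map ((AlgSp.EtOver.bc hi.1).map g.1) (ℓ N)).2.trans (ℓ N').2.symm
        · show ((ℓ N).1 ≫ (AlgSp.EtOver.bcMap hi.1 g.1).hom.left) ≫ hi.1.snd _ = _
          rw [Category.assoc, AlgSp.EtOver.bcMap_snd, ← Category.assoc]
          erw [hi.1.lift_snd, hi.1.lift_snd]
          exact congrArg Subtype.val g.2))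
      map_id := fun N => CategoryOfElements.ext _ _ _ ((AlgSp.EtOver.bc hi.1).map_id _)
      map_comp := fun g g' => CategoryOfElements.ext _ _ _ ((AlgSp.EtOver.bc hi.1).map_comp _ _) }
  let c : Cocone (AlgSp.stalkEtDiagram (z.map i.hom) F') :=
    (colimit.cocone (AlgSp.stalkEtDiagram z F)).whisker Ψ.op
  let d : AlgSp.stalkEt (z.map i.hom) F' ⟶ AlgSp.stalkEt z F := colimit.desc _ c
  have hd : ∀ N s, d (AlgSp.stalkEtι (z.map i.hom) F' N s) = AlgSp.stalkEtι z F (Ψ.obj N) s :=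
    fun N s => ConcreteCategory.congr_hom (colimit.ι_desc c (op N)) s
  let ΦZ := Groth.AlgSpEt.ptEt z Z.property hz
  let ΦX := Groth.AlgSpEt.ptEt (z.map i.hom) X.property hz
  -- a neighbourhood over a base change is dominated by a base change
  have key : ∀ (N : AlgSp.EtNbhd (z.map i.hom)) (M : AlgSp.EtNbhd z) (g : M ⟶ Ψ.obj N),
      ∃ (N' : AlgSp.EtNbhd (z.map i.hom)) (a : N' ⟶ N) (h : Ψ.obj N' ⟶ M), h ≫ g = Ψ.map a := by
    intro N M g
    obtain ⟨U', a, h, hha, y, hy⟩ := Groth.AlgSpEt.exists_refinement hi g.1 (M.2.1.left (Groth.AlgSpEt.ctr z))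
    have := AlgSp.EtOver.etale_left h
    obtain ⟨l, hl, -⟩ := Scheme.exists_fac_of_etale_of_isSepClosed h.hom.left.left M.2.1.left y hy
    let l' : z.pt ⟶ ((AlgSp.EtOver.bc hi.1).obj U').obj.left := Over.homMk l (by
      show l ≫ ((AlgSp.EtOver.bc hi.1).obj U').obj.left.hom = z.str
      rw [← Over.w h.hom.left, ← Category.assoc, hl]
      exact Over.w M.2.1)
    have hl' : l' ≫ h.hom.left = M.2.1 := Over.OverMorphism.ext hl
    have hlw : (AlgSp.yon S).map l' ≫ ((AlgSp.EtOver.bc hi.1).obj U').obj.hom = z.toHom := by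
      rw [← AlgSp.EtOver.w h, ← Category.assoc, ← Functor.map_comp, hl']
      exact M.2.2
    let u' : (AlgSp.FieldPt.liftsTo (z.map i.hom)).obj U' := ⟨l' ≫ hi.1.snd U'.obj.hom, by
      show (AlgSp.yon S).map (l' ≫ hi.1.snd U'.obj.hom) ≫ U'.obj.hom = _
      rw [Functor.map_comp, Category.assoc, ← hi.1.w, ← Category.assoc]
      exact (congrArg (· ≫ i.hom) hlw).trans (AlgSp.FieldPt.toHom_map i.hom z).symm⟩
    have hℓ : ℓ ⟨U', u'⟩ = ⟨l', hlw⟩ := Subtype.ext (hi.1.hom_ext ((hi.1.lift_fst _ _ _).trans hlw.symm)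
      (hi.1.lift_snd _ _ _))
    refine ⟨⟨U', u'⟩, CategoryOfElements.homMk _ _ a (Subtype.ext ?_),
      CategoryOfElements.homMk _ _ h ?_, CategoryOfElements.ext _ _ _ hha⟩
    · show (l' ≫ hi.1.snd U'.obj.hom) ≫ a.hom.left = N.2.1
      rw [Category.assoc, ← AlgSp.EtOver.bcMap_snd hi.1 a, ← Category.assoc]
      have e : l' ≫ (AlgSp.EtOver.bcMap hi.1 a).hom.left = (ℓ N).1 := by
        have e1 : (AlgSp.EtOver.bcMap hi.1 a).hom.left = h.hom.left ≫ g.1.hom.left :=
          (congrArg (fun k => k.hom.left) hha).symm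
        rw [e1, ← Category.assoc, hl']
        exact congrArg Subtype.val g.2
      rw [e]
      exact hi.1.lift_snd _ _ _
    · show (AlgSp.FieldPt.liftsTo z).map h (ℓ ⟨U', u'⟩) = M.2
      rw [hℓ]
      exact Subtype.ext hl'
  have bij : Function.Bijective d := by
    constructor
    · intro x y hxy
      obtain ⟨U₁, w₁, s₁, rfl⟩ := ΦX.toPresheafFiber_jointly_surjective (P := F'.obj) x
      obtain ⟨U₂, w₂, s₂, rfl⟩ := ΦX.toPresheafFiber_jointly_surjective (P := F'.obj) y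
      obtain ⟨N, a₁, a₂, -⟩ := IsCofilteredOrEmpty.cone_objs (C := ΦX.fiber.Elements)
        (Functor.elementsMk _ U₁ w₁) (Functor.elementsMk _ U₂ w₂)
      have t₁ : AlgSp.stalkEtι (z.map i.hom) F' N (F'.obj.map a₁.1.op s₁) =
          AlgSp.stalkEtι (z.map i.hom) F' ⟨U₁, w₁⟩ s₁ :=
        ConcreteCategory.congr_hom (colimit.w (AlgSp.stalkEtDiagram (z.map i.hom) F') a₁.op) s₁
      have t₂ : AlgSp.stalkEtι (z.map i.hom) F' N (F'.obj.map a₂.1.op s₂) =
          AlgSp.stalkEtι (z.map i.hom) F' ⟨U₂, w₂⟩ s₂ :=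
        ConcreteCategory.congr_hom (colimit.w (AlgSp.stalkEtDiagram (z.map i.hom) F') a₂.op) s₂
      change AlgSp.stalkEtι (z.map i.hom) F' ⟨U₁, w₁⟩ s₁ = AlgSp.stalkEtι (z.map i.hom) F' ⟨U₂, w₂⟩ s₂
      change d (AlgSp.stalkEtι (z.map i.hom) F' ⟨U₁, w₁⟩ s₁) =
        d (AlgSp.stalkEtι (z.map i.hom) F' ⟨U₂, w₂⟩ s₂) at hxy
      rw [← t₁, ← t₂] at hxy ⊢
      rw [hd, hd] at hxy
      obtain ⟨V, g, v, hv, heq⟩ := (ΦZ.toPresheafFiber_eq_iff' (P := F.obj) _ (ℓ N) _ _).1 hxy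
      obtain ⟨N', a, h, hh⟩ := key N ⟨V, v⟩ (CategoryOfElements.homMk _ _ g hv)
      have hh' : h.1 ≫ g = (AlgSp.EtOver.bc hi.1).map a.1 := congrArg Subtype.val hh
      have e : ∀ s, AlgSp.stalkEtι (z.map i.hom) F' N' (F'.obj.map a.1.op s) =
          AlgSp.stalkEtι (z.map i.hom) F' N s := fun s =>
        ConcreteCategory.congr_hom (colimit.w (AlgSp.stalkEtDiagram (z.map i.hom) F') a.op) s
      rw [← e, ← e]
      refine congrArg _ ?_
      show F.obj.map ((AlgSp.EtOver.bc hi.1).map a.1).op _ = F.obj.map ((AlgSp.EtOver.bc hi.1).map a.1).op _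
      rw [← hh', op_comp, Functor.map_comp, ConcreteCategory.comp_apply, ConcreteCategory.comp_apply, heq]
    · intro y
      obtain ⟨V, v, s, rfl⟩ := ΦZ.toPresheafFiber_jointly_surjective (P := F.obj) y
      obtain ⟨N₀⟩ := (Groth.AlgSpEt.isCofiltered_etNbhd (z.map i.hom) X.property hz).nonempty
      obtain ⟨M, a, b, -⟩ := IsCofilteredOrEmpty.cone_objs (C := ΦZ.fiber.Elements)
        (Functor.elementsMk _ V v) (Ψ.obj N₀)
      obtain ⟨N', a', h, -⟩ := key N₀ M b
      refine ⟨AlgSp.stalkEtι (z.map i.hom) F' N' (F.obj.map (h ≫ a).1.op s), ?_⟩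
      rw [hd]
      exact ConcreteCategory.congr_hom (colimit.w (AlgSp.stalkEtDiagram z F) (h ≫ a).op) s
  exact ⟨Equiv.ofBijective d bij, fun N s => hd N s⟩

end Groth.Agent.S9998
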